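import Mathlib

set_option autoImplicit false

/-!
Recognition of generalized quaternion groups.
-/

namespace CfsgLib.Classical

variable {G : Type*} [Group G]

theorem quaternion_conj_pow {a w : G} (h : w * a * w⁻¹ = a⁻¹) (k : ℕ) : w * a ^ k * w⁻¹ = (a ^ k)⁻¹ := by
  rw [← conj_pow, h, inv_pow]

/-- A cyclic subgroup of order `2n` and an element `w` outside inverting it with `w² = aⁿ` span a
quaternion group of order `4n`. -/
theorem exists_quaternion_hom {n : ℕ} [NeZero n] {a w : G} (ha : orderOf a = 2 * n)
    (hw : w * w = a ^ n) (hwa : w * a * w⁻¹ = a⁻¹) (hout : w ∉ Subgroup.zpowers a) :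
    ∃ f : QuaternionGroup n →* G, Function.Injective f ∧
      f.range = Subgroup.closure ({a, w} : Set G) := by
  have hmod : ∀ i j : ℕ, ((i : ZMod (2 * n)) = (j : ZMod (2 * n))) ↔ a ^ i = a ^ j := by
    intro i j
    rw [pow_eq_pow_iff_modEq, ha, ← ZMod.natCast_eq_natCast_iff]
  set A : ZMod (2 * n) → G := fun k => a ^ k.val with hA
  have hadd : ∀ i j, A (i + j) = A i * A j := by
    intro i j
    rw [hA]
    simp only
    rw [← pow_add, ← hmod]
    simp
  have hAn : A (n : ZMod (2 * n)) = w * w := by
    rw [hw, hA]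
    simp only
    rw [← hmod]
    simp
  have hneg : ∀ i, A (-i) = (A i)⁻¹ := by
    intro i
    rw [eq_inv_iff_mul_eq_one, ← hadd, neg_add_cancel, hA]
    simp
  have hcomm : ∀ i, A i * w = w * (A i)⁻¹ := by
    intro i
    have h := quaternion_conj_pow hwa i.val
    calc A i * w = ((A i)⁻¹)⁻¹ * w := by rw [inv_inv]
      _ = (w * A i * w⁻¹)⁻¹ * w := by rw [hA, h]
      _ = w * (A i)⁻¹ := by group
  let F : QuaternionGroup n → G := fun x =>
    match x with
    | .a k => A k
    | .xa k => w * A k
  have hmul : ∀ x y, F (x * y) = F x * F y := by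
    rintro (i | i) (j | j)
    · rw [QuaternionGroup.a_mul_a]
      exact hadd i j
    · rw [QuaternionGroup.a_mul_xa]
      show w * A (j - i) = A i * (w * A j)
      rw [sub_eq_add_neg, add_comm, hadd, hneg, ← mul_assoc, ← mul_assoc, hcomm]
    · rw [QuaternionGroup.xa_mul_a]
      show w * A (i + j) = w * A i * A j
      rw [hadd, mul_assoc]
    · rw [QuaternionGroup.xa_mul_xa]
      show A ((n : ZMod (2 * n)) + j - i) = w * A i * (w * A j)
      rw [add_sub_assoc, sub_eq_add_neg, add_comm j, hadd, hadd, hneg, hAn]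
      calc w * w * ((A i)⁻¹ * A j) = w * (w * (A i)⁻¹) * A j := by group
        _ = w * (A i * w) * A j := by rw [hcomm]
        _ = w * A i * (w * A j) := by group
  have hAmem : ∀ k, A k ∈ Subgroup.zpowers a := fun k => Subgroup.pow_mem _ (Subgroup.mem_zpowers a) _
  have hAinj : ∀ i j, A i = A j → i = j := by
    intro i j h
    have := (hmod i.val j.val).mpr h
    rwa [ZMod.natCast_zmod_val, ZMod.natCast_zmod_val] at this
  refine ⟨MonoidHom.mk' F hmul, ?_, ?_⟩
  · rintro (i | i) (j | j) h
    · exact congrArg _ (hAinj i j h)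
    · have h' : A i = w * A j := h
      have h2 := mul_mem (hAmem i) (inv_mem (hAmem j))
      rw [h', mul_inv_cancel_right] at h2
      exact absurd h2 hout
    · have h' : w * A i = A j := h
      have h2 := mul_mem (hAmem j) (inv_mem (hAmem i))
      rw [← h', mul_inv_cancel_right] at h2
      exact absurd h2 hout
    · exact congrArg _ (hAinj i j (mul_left_cancel h))
  · apply le_antisymm
    · rintro _ ⟨x, rfl⟩
      have hc : ∀ k, A k ∈ Subgroup.closure ({a, w} : Set G) :=
        fun k => Subgroup.pow_mem _ (Subgroup.subset_closure (by simp)) _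
      rcases x with i | i
      · exact hc i
      · exact mul_mem (Subgroup.subset_closure (by simp)) (hc i)
    · rw [Subgroup.closure_le]
      rintro x (rfl | rfl)
      · refine ⟨QuaternionGroup.a ((1 : ℕ) : ZMod (2 * n)), ?_⟩
        show A _ = _
        conv_rhs => rw [← pow_one x]
        rw [hA]
        simp only
        rw [← hmod, ZMod.natCast_zmod_val]
      · refine ⟨QuaternionGroup.xa 0, ?_⟩
        show x * A 0 = x
        simp [hA]

end CfsgLib.Classical
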