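import Mathlib

set_option autoImplicit false

/-!
Orders of `SL_n`, `PSL_n`, `PGL_n` and of their centres over finite fields, and the Sylow subgroup
order in the defining characteristic.
-/

namespace CfsgLib.Classical

open Matrix

variable {ι F : Type*} [Fintype ι] [DecidableEq ι] [Field F]

theorem range_toGL_eq_ker_det :
    (Matrix.SpecialLinearGroup.toGL : SpecialLinearGroup ι F →* GL ι F).range =
      (GeneralLinearGroup.det : GL ι F →* Fˣ).ker := by
  ext g
  constructor
  · rintro ⟨a, rfl⟩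
    exact Units.ext (by simp)
  · intro h
    have h' : (g : Matrix ι ι F).det = 1 := by
      have := congrArg Units.val (MonoidHom.mem_ker.mp h)
      simpa using this
    exact ⟨⟨g, h'⟩, Units.ext rfl⟩

theorem toGL_injective' :
    Function.Injective (Matrix.SpecialLinearGroup.toGL : SpecialLinearGroup ι F →* GL ι F) :=
  fun _ _ h => Subtype.ext (congrArg (fun g : GL ι F => (g : Matrix ι ι F)) h)

theorem card_SL_eq_card_ker_det :
    Nat.card (SpecialLinearGroup ι F) = Nat.card (GeneralLinearGroup.det : GL ι F →* Fˣ).ker := by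
  rw [← range_toGL_eq_ker_det]
  exact Nat.card_congr (MonoidHom.ofInjective toGL_injective').toEquiv

theorem card_GL_eq_mul_card_SL [Nonempty ι] :
    Nat.card (GL ι F) = Nat.card Fˣ * Nat.card (SpecialLinearGroup ι F) := by
  have hs : Function.Surjective (GeneralLinearGroup.det : GL ι F →* Fˣ) :=
    GeneralLinearGroup.det_surjective
  have h := Subgroup.card_eq_card_quotient_mul_card_subgroup
    (GeneralLinearGroup.det : GL ι F →* Fˣ).ker
  rw [h, card_SL_eq_card_ker_det,
    Nat.card_congr (QuotientGroup.quotientKerEquivOfSurjective _ hs).toEquiv]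

theorem card_GL_fin [Fintype F] (n : ℕ) :
    Nat.card (GL (Fin n) F) =
      ∏ i : Fin n, (Fintype.card F ^ n - Fintype.card F ^ (i : ℕ)) :=
  Matrix.card_GL_field n

/-- `(q - 1) |SL_n(q)| = ∏ (q^n - q^i)`. -/
theorem sub_one_mul_card_SL [Fintype F] {n : ℕ} (hn : 1 ≤ n) :
    (Fintype.card F - 1) * Nat.card (SpecialLinearGroup (Fin n) F) =
      ∏ i : Fin n, (Fintype.card F ^ n - Fintype.card F ^ (i : ℕ)) := by
  have : Nonempty (Fin n) := Fin.pos_iff_nonempty.mp hn
  rw [← card_GL_fin, card_GL_eq_mul_card_SL, Nat.card_units, Nat.card_eq_fintype_card (α := F)]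

/-- `|SL_2(q)| = q (q^2 - 1)`. -/
theorem card_SL_two [Fintype F] :
    Nat.card (SpecialLinearGroup (Fin 2) F) = Fintype.card F * (Fintype.card F ^ 2 - 1) := by
  have hq : 1 < Fintype.card F := Fintype.one_lt_card
  have h := sub_one_mul_card_SL (F := F) (n := 2) (by norm_num)
  rw [Fin.prod_univ_two] at h
  simp only [Fin.val_zero, Fin.val_one, pow_zero, pow_one] at h
  have e : Fintype.card F ^ 2 - Fintype.card F = (Fintype.card F - 1) * Fintype.card F := by
    rw [Nat.sub_mul, one_mul, sq]
  rw [e] at h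
  refine Nat.eq_of_mul_eq_mul_left (by omega : 0 < Fintype.card F - 1) ?_
  rw [h]
  ring

/-- The centre of `SL_n(F)` has order `gcd(n, q-1)`. -/
theorem card_center_SL [Finite F] [Nonempty ι] :
    Nat.card (Subgroup.center (SpecialLinearGroup ι F)) =
      Nat.gcd (Fintype.card ι) (Nat.card F - 1) := by
  rw [Nat.card_congr (Matrix.SpecialLinearGroup.center_equiv_rootsOfUnity'
    (Classical.arbitrary ι)).toEquiv]
  show Nat.card (powMonoidHom (Fintype.card ι) : Fˣ →* Fˣ).ker = _
  rw [IsCyclic.card_powMonoidHom_ker, Nat.card_units, Nat.gcd_comm]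

/-- `|SL_n(F)| = gcd(n,q-1) |PSL_n(F)|`. -/
theorem card_SL_eq_gcd_mul_card_PSL [Finite F] [Nonempty ι] :
    Nat.card (SpecialLinearGroup ι F) =
      Nat.gcd (Fintype.card ι) (Nat.card F - 1) * Nat.card (ProjectiveSpecialLinearGroup ι F) := by
  rw [← card_center_SL, mul_comm]
  exact Subgroup.card_eq_card_quotient_mul_card_subgroup _

/-- `|PSL_2(q)| * gcd(2, q-1) = q (q^2 - 1)`. -/
theorem card_PSL_two [Fintype F] :
    Nat.gcd 2 (Fintype.card F - 1) * Nat.card (ProjectiveSpecialLinearGroup (Fin 2) F) =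
      Fintype.card F * (Fintype.card F ^ 2 - 1) := by
  rw [← card_SL_two, card_SL_eq_gcd_mul_card_PSL (ι := Fin 2), Nat.card_eq_fintype_card (α := F),
    Fintype.card_fin]

theorem card_center_GL [Nonempty ι] :
    Nat.card (Subgroup.center (GL ι F)) = Nat.card Fˣ := by
  rw [GeneralLinearGroup.center_eq_range_scalar]
  refine (Nat.card_congr (MonoidHom.ofInjective ?_).toEquiv).symm
  intro a b h
  have h2 : (Matrix.scalar ι (a : F) : Matrix ι ι F) = Matrix.scalar ι (b : F) :=
    congrArg (fun g : GL ι F => (g : Matrix ι ι F)) h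
  exact Units.ext (Matrix.scalar_inj.mp h2)

/-- `|PGL_n(F)| = |SL_n(F)|`. -/
theorem card_PGL_eq_card_SL [Finite F] :
    Nat.card (ProjGenLinGroup ι F) = Nat.card (SpecialLinearGroup ι F) := by
  rcases isEmpty_or_nonempty ι with h | h
  · have : Subsingleton (GL ι F) := ⟨fun a b => Units.ext (Subsingleton.elim _ _)⟩
    have : Subsingleton (ProjGenLinGroup ι F) := ProjGenLinGroup.mk_surjective.subsingleton
    rw [Nat.card_of_subsingleton (1 : ProjGenLinGroup ι F),
      Nat.card_of_subsingleton (1 : SpecialLinearGroup ι F)]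
  · have h1 := Subgroup.card_eq_card_quotient_mul_card_subgroup (Subgroup.center (GL ι F))
    rw [card_GL_eq_mul_card_SL, card_center_GL, mul_comm] at h1
    exact (Nat.eq_of_mul_eq_mul_right Nat.card_pos h1).symm

/-- The `p`-part of `|GL_n(q)|`, `q` a power of `p`. -/
theorem card_sylow_GL [Fintype F] (p : ℕ) [hp : Fact p.Prime] [CharP F p] (n : ℕ)
    (P : Sylow p (GL (Fin n) F)) :
    Nat.card P = Fintype.card F ^ (n * (n - 1) / 2) := by
  obtain ⟨f, -, hf⟩ := FiniteField.card F p
  set q := Fintype.card F with hq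
  have hq1 : 1 < q := Fintype.one_lt_card
  have hterm : ∀ i : Fin n, (q ^ n - q ^ (i : ℕ)).factorization p = (f : ℕ) * i := by
    intro i
    have e : q ^ n - q ^ (i : ℕ) = q ^ (i : ℕ) * (q ^ (n - i) - 1) := by
      rw [Nat.mul_sub_one, ← pow_add, Nat.add_sub_cancel' i.2.le]
    have h1 : 1 < q ^ (n - (i : ℕ)) := Nat.one_lt_pow (by omega) hq1
    have h2 : ¬ p ∣ q ^ (n - (i : ℕ)) - 1 := by
      intro h
      have h3 : p ∣ q ^ (n - (i : ℕ)) := by
        rw [hf, ← pow_mul]
        exact dvd_pow_self p (Nat.mul_ne_zero f.pos.ne' (by omega))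
      have h4 := Nat.dvd_sub h3 h
      rw [Nat.sub_sub_self h1.le] at h4
      exact hp.out.not_dvd_one h4
    rw [e, Nat.factorization_mul (pow_ne_zero _ (by omega)) (by omega)]
    rw [Finsupp.add_apply, Nat.factorization_eq_zero_of_not_dvd h2, add_zero, hf, ← pow_mul,
      Nat.factorization_pow]
    simp [hp.out.factorization_self]
  rw [P.card_eq_multiplicity, card_GL_fin, hf, ← pow_mul]
  congr 1
  rw [← hq, Nat.factorization_prod (fun i _ => (Nat.sub_pos_of_lt
    (Nat.pow_lt_pow_right hq1 i.2)).ne'), Finsupp.finsetSum_apply,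
    Finset.sum_congr rfl (fun i _ => hterm i), ← Finset.mul_sum,
    Fin.sum_univ_eq_sum_range (fun i => i), Finset.sum_range_id]

end CfsgLib.Classical
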