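import Mathlib

set_option autoImplicit false

/-!
`SL_n` is generated by transvections, transvections are commutators, `SL_n` and `PSL_n` are perfect
and `PSL_n` is simple for `n ≥ 3`.
-/

namespace CfsgLib.Classical

open Matrix
open scoped MatrixGroups commutatorElement

variable {ι F : Type*} [Fintype ι] [DecidableEq ι] [Field F]

theorem transvection_smul_apply {i j : ι} (hij : i ≠ j) (b : F) (v : ι → F) (k : ι) :
    (SpecialLinearGroup.transvection hij b • v) k = v k + if k = i then b * v j else 0 := by
  simp [Matrix.SpecialLinearGroup.smul_def, SpecialLinearGroup.transvection_coe, add_mulVec,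
    single_mulVec_eq, Pi.single_apply]

theorem diag2n_smul_apply {i j : ι} (hij : i ≠ j) {a : F} (ha : a ≠ 0) (v : ι → F) (k : ι) :
    (SpecialLinearGroup.diag2n hij a ha • v) k =
      (if k = i then a else if k = j then a⁻¹ else 1) * v k := by
  simp [Matrix.SpecialLinearGroup.smul_def, SpecialLinearGroup.diag2n_coe, mulVec_diagonal]

theorem SL_ext_smul {A B : SpecialLinearGroup ι F} (h : ∀ v : ι → F, A • v = B • v) : A = B :=
  Subtype.ext (Matrix.ext_iff_smul.2 h)

/-- A diagonal `(a, a⁻¹)` is a product of six transvections. -/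
theorem diag2n_decompose {i j : ι} (hij : i ≠ j) {a : F} (ha : a ≠ 0) :
    SpecialLinearGroup.diag2n hij a ha = SpecialLinearGroup.transvection hij a *
      SpecialLinearGroup.transvection hij.symm (-a⁻¹) * SpecialLinearGroup.transvection hij a *
      SpecialLinearGroup.transvection hij (-1) * SpecialLinearGroup.transvection hij.symm 1 *
      SpecialLinearGroup.transvection hij (-1) := by
  refine SL_ext_smul fun v => funext fun k => ?_
  simp only [mul_smul, diag2n_smul_apply, transvection_smul_apply]
  by_cases hki : k = i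
  · subst hki
    simp only [if_true, if_neg hij, if_neg hij.symm]
    field_simp
    ring
  · by_cases hkj : k = j
    · subst hkj
      simp only [if_true, if_neg hij, if_neg hij.symm]
      field_simp
      ring
    · simp only [if_neg hki, if_neg hkj]
      ring

/-- `SL_n(F)` is generated by elementary transvections. -/
theorem closure_transvection_eq_top [Nontrivial ι] :
    Subgroup.closure {A : SpecialLinearGroup ι F |
      ∃ (i j : ι) (h : i ≠ j) (c : F), A = SpecialLinearGroup.transvection h c} = ⊤ := by
  set S := {A : SpecialLinearGroup ι F |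
    ∃ (i j : ι) (h : i ≠ j) (c : F), A = SpecialLinearGroup.transvection h c}
  have ht : ∀ (i j : ι) (h : i ≠ j) (c : F),
      SpecialLinearGroup.transvection h c ∈ Subgroup.closure S :=
    fun i j h c => Subgroup.subset_closure ⟨i, j, h, c, rfl⟩
  rw [eq_top_iff]
  intro M _
  refine SpecialLinearGroup.diagonal_transvection_induction' (fun A => A ∈ Subgroup.closure S) M
    (fun i j hij c hc => ?_) ht (fun _ _ => mul_mem)
  rw [diag2n_decompose hij hc]
  exact mul_mem (mul_mem (mul_mem (mul_mem (mul_mem (ht _ _ _ _) (ht _ _ _ _)) (ht _ _ _ _))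
    (ht _ _ _ _)) (ht _ _ _ _)) (ht _ _ _ _)

/-- A subgroup containing all elementary transvections is everything. -/
theorem eq_top_of_transvection_mem [Nontrivial ι] (H : Subgroup (SpecialLinearGroup ι F))
    (h : ∀ (i j : ι) (hij : i ≠ j) (c : F), SpecialLinearGroup.transvection hij c ∈ H) : H = ⊤ := by
  rw [eq_top_iff, ← closure_transvection_eq_top, Subgroup.closure_le]
  rintro _ ⟨i, j, hij, c, rfl⟩
  exact h i j hij c

/-- `[t_ik(c), t_kj(1)] = t_ij(c)`. -/
theorem commutator_transvection {i j k : ι} (hij : i ≠ j) (hik : i ≠ k) (hkj : k ≠ j) (c : F) :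
    ⁅SpecialLinearGroup.transvection hik c, SpecialLinearGroup.transvection hkj (1 : F)⁆ =
      SpecialLinearGroup.transvection hij c := by
  refine SL_ext_smul fun v => funext fun l => ?_
  rw [commutatorElement_def, SpecialLinearGroup.transvection_inv,
    SpecialLinearGroup.transvection_inv]
  simp only [mul_smul, transvection_smul_apply]
  by_cases hli : l = i
  · subst hli
    simp only [if_true, if_neg hik, if_neg hik.symm, if_neg hkj.symm, if_neg hij.symm]
    ring
  · by_cases hlk : l = k
    · subst hlk
      simp only [if_true, if_neg hik, if_neg hik.symm, if_neg hkj.symm, if_neg hij.symm]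
      ring
    · simp only [if_neg hli, if_neg hlk]
      ring

/-- `[diag(x, x⁻¹), t_ij(b)] = t_ij(b (x² - 1))`. -/
theorem commutator_diag2n_transvection {i j : ι} (hij : i ≠ j) {x : F} (hx : x ≠ 0) (b : F) :
    ⁅SpecialLinearGroup.diag2n hij x hx, SpecialLinearGroup.transvection hij b⁆ =
      SpecialLinearGroup.transvection hij (b * (x ^ 2 - 1)) := by
  refine mul_right_cancel (b := SpecialLinearGroup.transvection hij b *
    SpecialLinearGroup.diag2n hij x hx) ?_
  rw [commutatorElement_def]
  simp only [mul_assoc, inv_mul_cancel_left, inv_mul_cancel, mul_one]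
  refine SL_ext_smul fun v => funext fun l => ?_
  simp only [mul_smul, transvection_smul_apply, diag2n_smul_apply]
  by_cases hli : l = i
  · subst hli
    simp only [if_true, if_neg hij.symm]
    field_simp
    ring
  · simp only [if_neg hli]
    ring

theorem transvection_mem_commutatorSet
    (h : 3 ≤ Fintype.card ι ∨ ∃ x : F, x ≠ 0 ∧ x ^ 2 ≠ 1) {i j : ι} (hij : i ≠ j) (c : F) :
    SpecialLinearGroup.transvection hij c ∈ commutatorSet (SpecialLinearGroup ι F) := by
  rcases h with h | ⟨x, hx, hx2⟩
  · obtain ⟨k, -, hk⟩ := Finset.exists_mem_notMem_of_card_lt_card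
      (t := (Finset.univ : Finset ι)) (s := {i, j})
      (by rw [Finset.card_pair hij, Finset.card_univ]; omega)
    simp only [Finset.mem_insert, Finset.mem_singleton, not_or] at hk
    exact ⟨_, _, commutator_transvection hij (Ne.symm hk.1) hk.2 c⟩
  · exact ⟨_, _, by rw [commutator_diag2n_transvection hij hx (c / (x ^ 2 - 1)),
      div_mul_cancel₀ c (sub_ne_zero_of_ne hx2)]⟩

/-- `SL_n(F)` is perfect when `n ≥ 3` or some unit has square `≠ 1`. -/
theorem commutator_SL_eq_top [Nontrivial ι]
    (h : 3 ≤ Fintype.card ι ∨ ∃ x : F, x ≠ 0 ∧ x ^ 2 ≠ 1) :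
    commutator (SpecialLinearGroup ι F) = ⊤ := by
  refine eq_top_of_transvection_mem _ fun i j hij c => ?_
  rw [commutator_eq_closure]
  exact Subgroup.subset_closure (transvection_mem_commutatorSet h hij c)

theorem commutator_PSL_eq_top [Nontrivial ι]
    (h : 3 ≤ Fintype.card ι ∨ ∃ x : F, x ≠ 0 ∧ x ^ 2 ≠ 1) :
    commutator (ProjectiveSpecialLinearGroup ι F) = ⊤ := by
  have : Group.IsPerfect (SpecialLinearGroup ι F) := ⟨commutator_SL_eq_top h⟩
  exact (inferInstance : Group.IsPerfect (ProjectiveSpecialLinearGroup ι F)).commutator_eq_top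

open scoped LinearAlgebra.Projectivization

/-- Iwasawa structure of `PSL_n(F)` on projective space. -/
noncomputable def pslIwasawa [Nontrivial ι] :
    MulAction.IwasawaStructure (ProjectiveSpecialLinearGroup ι F) (ℙ F (ι → F)) where
  T := PSL.iwasawaT
  is_comm p := by
    have hSL : IsMulCommutative (SpecialLinearGroup.lineStab (F := F) (ι := ι) p.submodule) := by
      rw [← Projectivization.mk_rep p, Projectivization.submodule_mk]
      exact SpecialLinearGroup.lineStab_isMulCommutative_of_span p.rep p.rep_nonzero
    exact Subgroup.map_isMulCommutative _ _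
  is_conj g p := by
    obtain ⟨a, rfl⟩ := QuotientGroup.mk_surjective g
    rw [Matrix.ProjectiveSpecialLinearGroup.smul_proj_mk]
    change Subgroup.map _ _ = _
    rw [PSL.smul_submodule, Matrix.SpecialLinearGroup.lineStab_smul, PSL.iwasawaT_map_conj]
  is_generator := by
    have e : iSup (PSL.iwasawaT (F := F) (ι := ι)) =
        Subgroup.map (QuotientGroup.mk' (Subgroup.center (SpecialLinearGroup ι F)))
          (⨆ p : ℙ F (ι → F), SpecialLinearGroup.lineStab p.submodule) := by
      rw [Subgroup.map_iSup]
    rw [e, eq_top_of_transvection_mem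
      (⨆ p : ℙ F (ι → F), SpecialLinearGroup.lineStab p.submodule) ?_]
    · exact Subgroup.map_top_of_surjective _ (QuotientGroup.mk'_surjective _)
    intro i j hij c
    refine Subgroup.mem_iSup_of_mem
      (Projectivization.mk F (Pi.single i 1) (Pi.single_ne_zero_iff.2 one_ne_zero)) ?_
    rw [Projectivization.submodule_mk]
    exact SL2Gen.transvection_mem_lineStab hij c

/-- `PSL_n(F)` is simple for `n ≥ 3`, and for `n = 2` if some unit has square `≠ 1`. -/
theorem isSimpleGroup_PSL [Nontrivial ι]
    (h : 3 ≤ Fintype.card ι ∨ ∃ x : F, x ≠ 0 ∧ x ^ 2 ≠ 1) :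
    IsSimpleGroup (ProjectiveSpecialLinearGroup ι F) :=
  MulAction.IwasawaStructure.isSimpleGroup (commutator_PSL_eq_top h) pslIwasawa inferInstance

end CfsgLib.Classical
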