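import Mathlib
import Cfsg.Agent.Lib.AutPSL.Hermitian

set_option autoImplicit false

/-!
Standard bases for alternating, Hermitian and symmetric forms.
-/

namespace CfsgLib.Forms

open Module LinearMap
open scoped Matrix

universe u v

/-- An alternating form has a symplectic basis, completed by a basis of its radical. -/
theorem exists_symplectic_basis {F : Type u} [Field F] :
    ∀ (d : ℕ) {V : Type v} [AddCommGroup V] [Module F V] [FiniteDimensional F V]
      (B : LinearMap.BilinForm F V), B.IsAlt → finrank F V = d →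
      ∃ (m k : ℕ) (b : Basis ((Fin m ⊕ Fin m) ⊕ Fin k) F V),
        (∀ i j : Fin m, B (b (.inl (.inl i))) (b (.inl (.inr j))) = if i = j then 1 else 0) ∧
        (∀ i j : Fin m, B (b (.inl (.inl i))) (b (.inl (.inl j))) = 0) ∧
        (∀ i j : Fin m, B (b (.inl (.inr i))) (b (.inl (.inr j))) = 0) ∧
        (∀ (j : Fin k) (v : V), B (b (.inr j)) v = 0) := by
  intro d
  induction d using Nat.strong_induction_on with
  | _ d ih =>
    intro V _ _ _ B hA hd
    by_cases h0 : ∀ x y, B x y = 0
    · exact ⟨0, d, ((finBasisOfFinrankEq F V hd).reindex (Equiv.emptySum (Fin 0 ⊕ Fin 0) _).symm),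
        fun i => i.elim0, fun i => i.elim0, fun i => i.elim0, fun j v => h0 _ _⟩
    simp only [not_forall] at h0
    obtain ⟨e, f0, he⟩ := h0
    obtain ⟨f, hef⟩ : ∃ f, B e f = 1 := ⟨(B e f0)⁻¹ • f0, by simp [inv_mul_cancel₀ he]⟩
    have hfe : B f e = -1 := by rw [← hA.neg_eq e f, hef]
    have hee : B e e = 0 := hA e
    have hff : B f f = 0 := hA f
    let W : Submodule F V := LinearMap.ker (B e) ⊓ LinearMap.ker (B f)
    have hW : ∀ w : W, B e w = 0 ∧ B f w = 0 := fun w => w.2
    have hmem : ∀ v, v + B f v • e - B e v • f ∈ W := fun v => by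
      simp [W, hfe, hef, hee, hff]
    let Φ : V ≃ₗ[F] (F × F) × W :=
      { toFun := fun v => ((-B f v, B e v), ⟨_, hmem v⟩)
        map_add' := fun x y => by
          refine Prod.ext (Prod.ext ?_ ?_) (Subtype.ext ?_)
          · simp; ring
          · simp
          · simp [add_smul]; abel
        map_smul' := fun c x => by
          refine Prod.ext (Prod.ext ?_ ?_) (Subtype.ext ?_)
          · simp
          · simp
          · simp [smul_sub, mul_smul]
        invFun := fun p => p.1.1 • e + p.1.2 • f + (p.2 : V)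
        left_inv := fun v => by simp
        right_inv := fun p => by
          obtain ⟨⟨a, c⟩, w⟩ := p
          refine Prod.ext (Prod.ext ?_ ?_) (Subtype.ext ?_)
          · simp [hfe, hff, (hW w).2]
          · simp [hee, hef, (hW w).1]
          · simp [hee, hef, hfe, hff, (hW w).1, (hW w).2]; module }
    have hdW : finrank F W < d := by
      rw [← hd, Φ.finrank_eq, finrank_prod, finrank_prod, finrank_self]
      omega
    obtain ⟨m, k, b', hd1, hd2, hd3, hd4⟩ := ih _ hdW (B.restrict W) (fun w => hA w) rfl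
    let g : Unit ⊕ Fin m ≃ Fin (m + 1) :=
      ((Equiv.sumComm _ _).trans (Equiv.optionEquivSumPUnit (Fin m)).symm).trans
        (finSuccEquiv m).symm
    let σ : (Unit ⊕ Unit) ⊕ ((Fin m ⊕ Fin m) ⊕ Fin k) ≃
        (Fin (m + 1) ⊕ Fin (m + 1)) ⊕ Fin k :=
      (Equiv.sumAssoc _ _ _).symm.trans
        (Equiv.sumCongr ((Equiv.sumSumSumComm _ _ _ _).trans (Equiv.sumCongr g g)) (Equiv.refl _))
    let b := ((((Basis.singleton Unit F).prod (Basis.singleton Unit F)).prod b').map Φ.symm).reindex σ
    have be : b (.inl (.inl 0)) = e := by simp [b, σ, g, Φ]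
    have bf : b (.inl (.inr 0)) = f := by simp [b, σ, g, Φ]
    have bl : ∀ i : Fin m, b (.inl (.inl i.succ)) = b' (.inl (.inl i)) := fun i => by
      simp [b, σ, g, Φ]
    have br : ∀ i : Fin m, b (.inl (.inr i.succ)) = b' (.inl (.inr i)) := fun i => by
      simp [b, σ, g, Φ]
    have bk : ∀ i : Fin k, b (.inr i) = b' (.inr i) := fun i => by simp [b, σ, Φ]
    have hWe : ∀ w : W, B w e = 0 ∧ B w f = 0 := fun w =>
      ⟨by rw [← hA.neg_eq e w, (hW w).1, neg_zero], by rw [← hA.neg_eq f w, (hW w).2, neg_zero]⟩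
    refine ⟨m + 1, k, b, ?_, ?_, ?_, ?_⟩
    · intro i j
      rcases Fin.eq_zero_or_eq_succ i with rfl | ⟨i, rfl⟩ <;>
        rcases Fin.eq_zero_or_eq_succ j with rfl | ⟨j, rfl⟩
      · simp [be, bf, hef]
      · simp [be, br, (hW _).1, (Fin.succ_ne_zero j).symm]
      · simp [bl, bf, (hWe _).2]
      · simp only [bl, br, Fin.succ_inj]; exact hd1 i j
    · intro i j
      rcases Fin.eq_zero_or_eq_succ i with rfl | ⟨i, rfl⟩ <;>
        rcases Fin.eq_zero_or_eq_succ j with rfl | ⟨j, rfl⟩
      · simp [be, hee]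
      · simp [be, bl, (hW _).1]
      · simp [bl, be, (hWe _).1]
      · simp only [bl]; exact hd2 i j
    · intro i j
      rcases Fin.eq_zero_or_eq_succ i with rfl | ⟨i, rfl⟩ <;>
        rcases Fin.eq_zero_or_eq_succ j with rfl | ⟨j, rfl⟩
      · simp [bf, hff]
      · simp [bf, br, (hW _).2]
      · simp [br, bf, (hWe _).2]
      · simp only [br]; exact hd3 i j
    · intro j v
      have hv : v = (-B f v) • e + B e v • f + ((⟨_, hmem v⟩ : W) : V) := by simp
      rw [bk, hv]
      simp only [map_add, map_smul, (hWe _).1, (hWe _).2, smul_zero, zero_add]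
      exact hd4 j ⟨_, hmem v⟩

variable {F V : Type*} [Field F] [AddCommGroup V] [Module F V] [FiniteDimensional F V]

/-- A nondegenerate alternating form has a symplectic basis. -/
theorem exists_symplectic_basis_nondeg (B : LinearMap.BilinForm F V) (hA : B.IsAlt)
    (hB : ∀ v, (∀ w, B v w = 0) → v = 0) :
    ∃ (m : ℕ) (b : Basis (Fin m ⊕ Fin m) F V),
      (∀ i j : Fin m, B (b (.inl i)) (b (.inr j)) = if i = j then 1 else 0) ∧
      (∀ i j : Fin m, B (b (.inl i)) (b (.inl j)) = 0) ∧
      (∀ i j : Fin m, B (b (.inr i)) (b (.inr j)) = 0) := by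
  obtain ⟨m, k, b, h1, h2, h3, h4⟩ := exists_symplectic_basis _ B hA rfl
  rcases Nat.eq_zero_or_pos k with rfl | hk
  · exact ⟨m, b.reindex (Equiv.sumEmpty _ _), by simpa using h1, by simpa using h2,
      by simpa using h3⟩
  · exact absurd (hB _ (h4 ⟨0, hk⟩)) (b.ne_zero _)

/-- A nondegenerate Hermitian form over a finite field has an orthonormal basis. -/
theorem exists_orthonormal_basis [Finite F] (σ : F →+* F) (hσ : σ ≠ RingHom.id F)
    (hσ2 : ∀ a : F, σ (σ a) = a) (B : V →ₛₗ[σ] V →ₗ[F] F)
    (hS : ∀ x y, σ (B x y) = B y x) (hB : ∀ v, (∀ w, B v w = 0) → v = 0) :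
    ∃ b : Basis (Fin (finrank F V)) F V, ∀ i j, B (b i) (b j) = if i = j then 1 else 0 := by
  classical
  let n := finrank F V
  let c := finBasis F V
  let τ : F ≃+* F :=
    { toFun := σ, invFun := σ, left_inv := hσ2, right_inv := hσ2, map_mul' := σ.map_mul,
      map_add' := σ.map_add }
  have hτ : orderOf τ = 2 := orderOf_eq_prime (RingEquiv.ext fun x => by
      rw [sq]; exact hσ2 x) fun h => hσ (RingHom.ext fun x => DFunLike.congr_fun h x)
  -- `H i j = B (c j) (c i)` is linear in the first index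
  let H : Matrix (Fin n) (Fin n) F := Matrix.of fun i j => B (c j) (c i)
  have hexp : ∀ x y : Fin n → F, B (∑ j, y j • c j) (∑ i, x i • c i) = AutPSL.sesq τ H x y := by
    intro x y
    simp only [AutPSL.sesq, dotProduct, Matrix.mulVec, map_sum, LinearMap.map_smulₛₗ,
      LinearMap.coe_sum, Finset.sum_apply, LinearMap.smul_apply, RingHom.id_apply, smul_eq_mul,
      Finset.mul_sum]
    refine Finset.sum_congr rfl fun i _ => Finset.sum_congr rfl fun j _ => ?_
    show _ = x i * (H i j * σ (y j))
    simp only [H, Matrix.of_apply]; ring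
  have hH : (H.map τ)ᵀ = H := by ext i j; exact hS _ _
  have hdet : H.det ≠ 0 := by
    intro h
    obtain ⟨x, hx0, hx⟩ := Matrix.exists_vecMul_eq_zero_iff.2 h
    refine hx0 (funext fun i => ?_)
    have hv : ∑ i, x i • c i = 0 := by
      refine hB _ fun w => ?_
      rw [← hS, ← c.sum_repr w, hexp, AutPSL.sesq, Matrix.dotProduct_mulVec, hx, zero_dotProduct,
        map_zero]
    exact Fintype.linearIndependent_iff.1 c.linearIndependent x hv i
  obtain ⟨h, hh⟩ := AutPSL.exists_hermitian_factor hτ hdet hH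
  set g : Matrix (Fin n) (Fin n) F := ((h⁻¹ : GL (Fin n) F) : Matrix (Fin n) (Fin n) F) with hg
  have hgh : g * (h : Matrix (Fin n) (Fin n) F) = 1 := h.inv_mul
  have hhg : (h : Matrix (Fin n) (Fin n) F) * g = 1 := h.mul_inv
  have hsp : ⊤ ≤ Submodule.span F (Set.range fun i => ∑ j, g i j • c j) := by
    rw [← c.span_eq, Submodule.span_le]
    rintro _ ⟨k, rfl⟩
    have : c k = ∑ i, (h : Matrix (Fin n) (Fin n) F) k i • ∑ j, g i j • c j := by
      simp only [Finset.smul_sum, smul_smul]
      rw [Finset.sum_comm]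
      simp only [← Finset.sum_smul, ← Matrix.mul_apply, hhg]
      simp [Matrix.one_apply]
    rw [SetLike.mem_coe, this]
    exact Submodule.sum_mem _ fun i _ => Submodule.smul_mem _ _ (Submodule.subset_span ⟨i, rfl⟩)
  refine ⟨basisOfTopLeSpanOfCardEqFinrank _ hsp (by simp [n]), fun i j => ?_⟩
  simp only [coe_basisOfTopLeSpanOfCardEqFinrank]
  rw [hexp]
  have : g * H * (g.map τ)ᵀ = 1 := by
    rw [hh, ← mul_assoc, hgh, Matrix.one_mul, ← Matrix.transpose_mul, ← Matrix.map_mul, hgh]
    simp
  have := congrFun (congrFun this j) i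
  rw [Matrix.one_apply] at this
  rw [show (if i = j then (1 : F) else 0) = if j = i then 1 else 0 by simp [eq_comm], ← this]
  rw [AutPSL.sesq, Matrix.dotProduct_mulVec]
  rfl

omit [FiniteDimensional F V] in
/-- A product of two non-squares of a finite field is a square. -/
theorem isSquare_mul_of_not {F : Type*} [Field F] [Finite F] {a b : F} (ha : ¬ IsSquare a)
    (hb : ¬ IsSquare b) : IsSquare (a * b) := by
  classical
  have := Fintype.ofFinite F
  by_cases h2 : ringChar F = 2
  · exact FiniteField.isSquare_of_char_two h2 _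
  · have ha0 : a ≠ 0 := fun h => ha (h ▸ IsSquare.zero)
    have hb0 : b ≠ 0 := fun h => hb (h ▸ IsSquare.zero)
    rw [← quadraticChar_one_iff_isSquare (mul_ne_zero ha0 hb0), map_mul,
      quadraticChar_neg_one_iff_not_isSquare.2 ha, quadraticChar_neg_one_iff_not_isSquare.2 hb]
    norm_num

/-- A nondegenerate symmetric form over a finite field of odd characteristic represents `1`
in dimension at least two. -/
theorem exists_self_eq_one [Finite F] (h2 : (2 : F) ≠ 0) (B : LinearMap.BilinForm F V)
    (hS : ∀ x y, B x y = B y x) (hB : ∀ v, (∀ w, B v w = 0) → v = 0) (hn : 2 ≤ finrank F V) :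
    ∃ v, B v v = 1 := by
  classical
  have := Fintype.ofFinite F
  have : Invertible (2 : F) := invertibleOfNonzero h2
  obtain ⟨c, hc⟩ := LinearMap.BilinForm.exists_orthogonal_basis (B := B) ⟨hS⟩
  have hne : ∀ i, B (c i) (c i) ≠ 0 := by
    intro i h
    refine c.ne_zero i (hB _ fun w => ?_)
    rw [← c.sum_repr w, map_sum]
    refine Finset.sum_eq_zero fun j _ => ?_
    rw [map_smul]
    by_cases hij : i = j
    · rw [← hij, h, smul_zero]
    · rw [show B (c i) (c j) = 0 from hc hij, smul_zero]
  let i : Fin (finrank F V) := ⟨0, by omega⟩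
  let j : Fin (finrank F V) := ⟨1, by omega⟩
  have hij : i ≠ j := by simp [i, j, Fin.ext_iff]
  have hodd : Fintype.card F % 2 = 1 := FiniteField.odd_card_of_char_ne_two fun h => h2 (by
    have := CharP.cast_eq_zero F (ringChar F)
    rw [h] at this
    exact_mod_cast this)
  obtain ⟨x, y, hxy⟩ := FiniteField.exists_root_sum_quadratic (R := F)
    (f := Polynomial.C (B (c i) (c i)) * Polynomial.X ^ 2)
    (g := Polynomial.C (B (c j) (c j)) * Polynomial.X ^ 2 + Polynomial.C (-1))
    (Polynomial.degree_C_mul_X_pow 2 (hne i))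
    (by rw [Polynomial.degree_add_C (by rw [Polynomial.degree_C_mul_X_pow 2 (hne j)]; norm_num),
      Polynomial.degree_C_mul_X_pow 2 (hne j)]; rfl) hodd
  refine ⟨x • c i + y • c j, ?_⟩
  simp [show B (c i) (c j) = 0 from hc hij, show B (c j) (c i) = 0 from hc hij.symm] at hxy ⊢
  linear_combination hxy

/-- Symmetric forms over finite fields of odd characteristic. -/
theorem exists_orthogonal_basis_one {F : Type u} [Field F] [Finite F] (h2 : (2 : F) ≠ 0) (α : F)
    (hα : ¬ IsSquare α) :
    ∀ (n : ℕ) {V : Type v} [AddCommGroup V] [Module F V] [FiniteDimensional F V]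
      (B : LinearMap.BilinForm F V), (∀ x y, B x y = B y x) →
      (∀ v, (∀ w, B v w = 0) → v = 0) → finrank F V = n + 1 →
      ∃ b : Basis (Fin (n + 1)) F V, (∀ i j, i ≠ j → B (b i) (b j) = 0) ∧
        (∀ i, i ≠ Fin.last n → B (b i) (b i) = 1) ∧
        (B (b (Fin.last n)) (b (Fin.last n)) = 1 ∨ B (b (Fin.last n)) (b (Fin.last n)) = α) := by
  intro n
  induction n with
  | zero =>
    intro V _ _ _ B hS hB hd
    obtain ⟨c⟩ : Nonempty (Basis (Fin 1) F V) := ⟨finBasisOfFinrankEq F V hd⟩
    have ha : B (c 0) (c 0) ≠ 0 := by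
      intro h
      refine c.ne_zero 0 (hB _ fun w => ?_)
      rw [← c.sum_repr w]
      simp [h]
    have hα0 : α ≠ 0 := fun h => hα (h ▸ IsSquare.zero)
    obtain ⟨s, e, hs, hse, he⟩ : ∃ s e, s ≠ 0 ∧ s * s * B (c 0) (c 0) = e ∧ (e = 1 ∨ e = α) := by
      by_cases hsq : IsSquare (B (c 0) (c 0))
      · obtain ⟨r, hr⟩ := hsq
        have hr0 : r ≠ 0 := by rintro rfl; exact ha (by simpa using hr)
        exact ⟨r⁻¹, 1, inv_ne_zero hr0, by rw [hr]; field_simp, Or.inl rfl⟩
      · obtain ⟨r, hr⟩ := isSquare_mul_of_not hα hsq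
        have hr0 : r ≠ 0 := by rintro rfl; exact mul_ne_zero hα0 ha (by simpa using hr)
        exact ⟨α / r, α, div_ne_zero hα0 hr0, by field_simp; linear_combination hr, Or.inr rfl⟩
    refine ⟨c.unitsSMul fun _ => Units.mk0 s hs, fun i j h => absurd (Subsingleton.elim (α := Fin 1) i j) h,
      fun i h => absurd (Subsingleton.elim (α := Fin 1) i _) h, ?_⟩
    have : B (c.unitsSMul (fun _ => Units.mk0 s hs) (Fin.last 0))
        (c.unitsSMul (fun _ => Units.mk0 s hs) (Fin.last 0)) = e := by
      simp [Basis.unitsSMul_apply, Units.smul_def, ← hse, mul_assoc]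
    rw [this]; exact he
  | succ n ih =>
    intro V _ _ _ B hS hB hd
    obtain ⟨v, hv⟩ := exists_self_eq_one h2 B hS hB (by omega)
    let W : Submodule F V := LinearMap.ker (B v)
    have hdW : finrank F W = n + 1 := by
      have h := LinearMap.finrank_range_add_finrank_ker (B v)
      have hr : LinearMap.range (B v) = ⊤ := by
        rw [LinearMap.range_eq_top]
        exact fun a => ⟨a • v, by simp [hv]⟩
      rw [hr, finrank_top, finrank_self, hd] at h
      change finrank F (LinearMap.ker (B v)) = _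
      omega
    have hBW : ∀ w : W, (∀ z : W, B.restrict W w z = 0) → w = 0 := by
      intro w hw
      refine Subtype.ext (hB _ fun z => ?_)
      have h := hw ⟨z - B v z • v, by simp [W, hv]⟩
      simp at h
      rw [hS (w : V) v, show B v (w : V) = 0 from w.2, mul_zero, sub_zero] at h
      exact h
    obtain ⟨b', hb1, hb2, hb3⟩ := ih (B.restrict W) (fun x y => hS _ _) hBW hdW
    let b : Basis (Fin (n + 2)) F V := Basis.mkFinCons v b'
      (fun c x hx h => by
        have := congrArg (B v) h
        simpa [hv, show B v x = 0 from hx] using this)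
      (fun z => ⟨-B v z, by simp [W, hv]⟩)
    have hb : (b : Fin (n + 2) → V) = Fin.cons v (fun i => (b' i : V)) := Basis.coe_mkFinCons _ _ _ _
    refine ⟨b, ?_, ?_, ?_⟩
    · intro i j hij
      rcases Fin.eq_zero_or_eq_succ i with rfl | ⟨i, rfl⟩ <;>
        rcases Fin.eq_zero_or_eq_succ j with rfl | ⟨j, rfl⟩
      · exact absurd rfl hij
      · simpa [hb] using (b' j).2
      · simpa [hb, hS _ v] using (b' i).2
      · simpa [hb] using hb1 i j (fun h => hij (by rw [h]))
    · intro i hi
      rcases Fin.eq_zero_or_eq_succ i with rfl | ⟨i, rfl⟩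
      · simpa [hb] using hv
      · simpa [hb] using hb2 i (fun h => hi (by rw [h, Fin.succ_last]))
    · rw [← Fin.succ_last]; simpa [hb] using hb3

end CfsgLib.Forms
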