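import Mathlib
import Cfsg.Agent.Lib.Classical.Forms

/-!
Nondegenerate quadratic forms over a finite field of odd characteristic are classified by the
discriminant.
-/

namespace CfsgLib.Classical.DiscClass

open QuadraticMap

variable {F : Type*} [Field F]

theorem det_congr {n : ℕ} (B C : LinearMap.BilinForm F (Fin n → F))
    (f : (Fin n → F) →ₗ[F] (Fin n → F)) (h : ∀ u v, C (f u) (f v) = B u v) :
    (LinearMap.toMatrix₂' F B).det = (LinearMap.toMatrix' f).det ^ 2 * (LinearMap.toMatrix₂' F C).det := by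
  have e : C.compl₁₂ f f = B := LinearMap.ext₂ fun u v => by simpa using h u v
  rw [← e, LinearMap.toMatrix₂'_compl₁₂, Matrix.det_mul, Matrix.det_mul, Matrix.det_transpose]
  ring

theorem gram_eq {n : ℕ} (Q : QuadraticForm F (Fin n → F)) :
    Matrix.of (fun i j : Fin n => polar ⇑Q (Pi.single i 1) (Pi.single j 1)) =
      LinearMap.toMatrix₂' F (polarBilin Q) := by
  ext i j
  rw [LinearMap.toMatrix₂'_apply]
  rfl

theorem exists_isometry_iff [Finite F] (h2 : (2 : F) ≠ 0) {n : ℕ}
    (Q₁ Q₂ : QuadraticForm F (Fin n → F)) (h₁ : (polarBilin Q₁).Nondegenerate)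
    (h₂ : (polarBilin Q₂).Nondegenerate) :
    (∃ g : (Fin n → F) ≃ₗ[F] (Fin n → F), ∀ v, Q₂ (g v) = Q₁ v) ↔
      IsSquare ((LinearMap.toMatrix₂' F (polarBilin Q₁)).det *
        (LinearMap.toMatrix₂' F (polarBilin Q₂)).det) := by
  constructor
  · rintro ⟨g, hg⟩
    have h := det_congr (polarBilin Q₁) (polarBilin Q₂) g.toLinearMap fun u v => by
      show polar Q₂ (g u) (g v) = polar Q₁ u v
      simp only [polar, ← map_add, hg]
    refine ⟨(LinearMap.toMatrix' g.toLinearMap).det * (LinearMap.toMatrix₂' F (polarBilin Q₂)).det, ?_⟩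
    rw [h]; ring
  · intro hsq
    rcases n with _ | m
    · exact ⟨LinearEquiv.refl F _, fun v => by
        rw [Subsingleton.elim v 0, map_zero, map_zero, map_zero]⟩
    haveI := Fintype.ofFinite F
    obtain ⟨α, hα⟩ := FiniteField.exists_nonsquare (F := F) (fun h => by
      have := ringChar.Nat.cast_ringChar (R := F)
      rw [h] at this
      exact h2 (by exact_mod_cast this))
    have hd : Module.finrank F (Fin (m + 1) → F) = m + 1 := Module.finrank_fin_fun F
    obtain ⟨b₁, o₁, u₁, l₁⟩ := CfsgLib.Forms.exists_orthogonal_basis_one h2 α hα m (polarBilin Q₁)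
      (fun x y => polar_comm Q₁ x y) h₁.1 hd
    obtain ⟨b₂, o₂, u₂, l₂⟩ := CfsgLib.Forms.exists_orthogonal_basis_one h2 α hα m (polarBilin Q₂)
      (fun x y => polar_comm Q₂ x y) h₂.1 hd
    have hdiag : ∀ (B : LinearMap.BilinForm F (Fin (m + 1) → F))
        (b : Module.Basis (Fin (m + 1)) F (Fin (m + 1) → F)),
        (∀ i j, i ≠ j → B (b i) (b j) = 0) → (∀ i, i ≠ Fin.last m → B (b i) (b i) = 1) →
        ∃ d : F, d ≠ 0 ∧ B (b (Fin.last m)) (b (Fin.last m)) = d ^ 2 * (LinearMap.toMatrix₂' F B).det := by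
      intro B b ob ub
      let e := (Pi.basisFun F (Fin (m + 1))).equiv b (Equiv.refl _)
      have he : ∀ i, e (Pi.single i 1) = b i := fun i => by
        rw [← Pi.basisFun_apply]; exact Module.Basis.equiv_apply _ _ _ _
      have h := det_congr (B.compl₁₂ e.toLinearMap e.toLinearMap) B e.toLinearMap fun u v => rfl
      refine ⟨(LinearMap.toMatrix' e.toLinearMap).det, ?_, ?_⟩
      · rw [LinearMap.det_toMatrix']; exact (LinearEquiv.isUnit_det' e).ne_zero
      · rw [← h, show LinearMap.toMatrix₂' F (B.compl₁₂ e.toLinearMap e.toLinearMap) =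
            Matrix.diagonal fun i => if i = Fin.last m then B (b i) (b i) else 1 by
          ext i j
          rw [LinearMap.toMatrix₂'_apply, LinearMap.compl₁₂_apply, LinearEquiv.coe_coe, he, he,
            Matrix.diagonal_apply]
          by_cases hij : i = j
          · subst hij
            rw [if_pos rfl]
            by_cases hi : i = Fin.last m
            · rw [if_pos hi]
            · rw [if_neg hi]; exact ub i hi
          · rw [if_neg hij]; exact ob i j hij, Matrix.det_diagonal, Finset.prod_ite_eq']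
        simp
    obtain ⟨d₁, hd₁, e₁⟩ := hdiag (polarBilin Q₁) b₁ o₁ u₁
    obtain ⟨d₂, hd₂, e₂⟩ := hdiag (polarBilin Q₂) b₂ o₂ u₂
    have hl : polarBilin Q₁ (b₁ (Fin.last m)) (b₁ (Fin.last m)) =
        polarBilin Q₂ (b₂ (Fin.last m)) (b₂ (Fin.last m)) := by
      obtain ⟨r, hr⟩ := hsq
      rcases l₁ with a | a <;> rcases l₂ with b | b <;>
        first
          | exact a.trans b.symm
          | exact absurd ⟨d₁ * d₂ * r, by
              have hab := congrArg₂ (· * ·) a b
              simp only [one_mul, mul_one] at hab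
              rw [← hab, e₁, e₂]
              linear_combination (d₁ ^ 2 * d₂ ^ 2) * hr⟩ hα
    refine ⟨b₁.equiv b₂ (Equiv.refl _), fun v => mul_left_cancel₀ h2 ?_⟩
    have he : (polarBilin Q₂).compl₁₂ (b₁.equiv b₂ (Equiv.refl _)).toLinearMap
        (b₁.equiv b₂ (Equiv.refl _)).toLinearMap = polarBilin Q₁ := by
      refine LinearMap.ext_basis b₁ b₁ fun i j => ?_
      simp only [LinearMap.compl₁₂_apply, LinearEquiv.coe_coe, Module.Basis.equiv_apply,
        Equiv.refl_apply]
      rcases eq_or_ne i j with rfl | hij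
      · rcases eq_or_ne i (Fin.last m) with rfl | hi
        · exact hl.symm
        · rw [u₁ i hi, u₂ i hi]
      · rw [o₁ i j hij, o₂ i j hij]
    have := LinearMap.congr_fun₂ he v v
    simp only [LinearMap.compl₁₂_apply, LinearEquiv.coe_coe, polarBilin_apply_apply, polar_self,
      nsmul_eq_mul, Nat.cast_ofNat] at this
    linear_combination this

end CfsgLib.Classical.DiscClass
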