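import Mathlib

set_option autoImplicit false

/-!
Witt's extension theorem for alternating, Hermitian and quadratic forms (any field, any
characteristic): an induction on the subspace, with transvections, Eichler maps and scalings of a
hyperbolic pair.
-/

namespace CfsgLib.Classical.Witt

variable {F V : Type*} [Field F] [AddCommGroup V] [Module F V] [FiniteDimensional F V]

/-- The induction: it suffices to move one vector while fixing a subspace. -/
theorem extend (I : V → V → F)
    (step : ∀ (H : Submodule F V) (x y : V), x ∉ H → y ∉ H →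
      (∀ h ∈ H, ∀ h' ∈ H, ∀ c c' : F, I (h + c • y) (h' + c' • y) = I (h + c • x) (h' + c' • x)) →
      ∃ g : V ≃ₗ[F] V, (∀ u v, I (g u) (g v) = I u v) ∧ (∀ h ∈ H, g h = h) ∧ g x = y)
    (n : ℕ) :
    ∀ (X : Submodule F V) (f : X →ₗ[F] V), Module.finrank F X = n → Function.Injective f →
      (∀ a b : X, I (f a) (f b) = I (a : V) (b : V)) →
      ∃ g : V ≃ₗ[F] V, (∀ u v, I (g u) (g v) = I u v) ∧ ∀ a : X, g (a : V) = f a := by
  induction n with
  | zero =>
    intro X f hX _ _
    refine ⟨LinearEquiv.refl F V, fun _ _ => rfl, fun a => ?_⟩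
    have hs : Subsingleton X := Module.finrank_zero_iff.1 hX
    rw [Subsingleton.elim a 0, map_zero]
    rfl
  | succ n ih =>
    intro X f hX hf hI
    let b := Module.finBasisOfFinrankEq F X hX
    set x : X := b (Fin.last n) with hx
    set H₀ : Submodule F X := Submodule.span F (Set.range fun i : Fin n => b i.castSucc) with hH₀
    have hxH : x ∉ H₀ := by
      have h := b.linearIndependent.notMem_span_image (s := Set.range Fin.castSucc) (x := Fin.last n)
        (by simp [Fin.castSucc_ne_last])
      rwa [← Set.range_comp] at h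
    have hH₀n : Module.finrank F H₀ = n := by
      have h := finrank_span_eq_card (R := F)
        (b.linearIndependent.comp _ (Fin.castSucc_injective n))
      rwa [Fintype.card_fin] at h
    let H : Submodule F V := H₀.map X.subtype
    have hHX : H ≤ X := Submodule.map_subtype_le X H₀
    obtain ⟨g₁, hg₁, hg₁H⟩ := ih H (f ∘ₗ Submodule.inclusion hHX)
      (by rw [← hH₀n]; exact ((Submodule.equivMapOfInjective _ X.injective_subtype H₀).finrank_eq).symm)
      (hf.comp (Submodule.inclusion_injective hHX)) (fun a c => hI _ _)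
    set y : V := g₁.symm (f x) with hy
    have hfix : ∀ h : V, ∀ hh : h ∈ H, g₁.symm (f ⟨h, hHX hh⟩) = h := fun h hh => by
      rw [← LinearEquiv.eq_symm_apply, LinearEquiv.symm_symm]
      exact (hg₁H ⟨h, hh⟩).symm
    have hxV : (x : V) ∉ H := fun h => by
      obtain ⟨a, ha, hax⟩ := Submodule.mem_map.1 h
      have e : a = x := X.injective_subtype hax
      exact hxH (e ▸ ha)
    have hyH : y ∉ H := fun h => by
      have h1 := hfix y h
      have h2 : f ⟨y, hHX h⟩ = f x := g₁.symm.injective (by rw [h1])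
      have h3 : y = (x : V) := congrArg Subtype.val (hf h2)
      exact hxV (h3 ▸ h)
    have hpres : ∀ h ∈ H, ∀ h' ∈ H, ∀ c c' : F,
        I (h + c • y) (h' + c' • y) = I (h + c • (x : V)) (h' + c' • (x : V)) := by
      intro h hh h' hh' c c'
      have key : ∀ (k : V) (hk : k ∈ H) (e : F),
          k + e • y = g₁.symm (f (⟨k, hHX hk⟩ + e • x)) := fun k hk e => by
        rw [map_add, map_smul, map_add, map_smul, hfix k hk]
      have hs : ∀ u v, I (g₁.symm u) (g₁.symm v) = I u v := fun u v => by
        conv_rhs => rw [← g₁.apply_symm_apply u, ← g₁.apply_symm_apply v, hg₁]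
      rw [key h hh c, key h' hh' c', hs, hI]
      rfl
    obtain ⟨g₂, hg₂, hg₂H, hg₂x⟩ := step H x y hxV hyH hpres
    refine ⟨g₂.trans g₁, fun u v => ?_, fun a => ?_⟩
    · simp only [LinearEquiv.trans_apply, hg₁, hg₂]
    · have e : (g₂.trans g₁).toLinearMap ∘ₗ X.subtype = f := by
        refine b.ext fun i => ?_
        show g₁ (g₂ ((b i : X) : V)) = f (b i)
        rcases Fin.eq_castSucc_or_eq_last i with ⟨j, rfl⟩ | rfl
        · have hm : ((b j.castSucc : X) : V) ∈ H :=
            Submodule.mem_map_of_mem (f := X.subtype) (Submodule.subset_span ⟨j, rfl⟩)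
          rw [hg₂H _ hm]
          exact hg₁H ⟨_, hm⟩
        · rw [← hx, hg₂x, hy, LinearEquiv.apply_symm_apply]
      exact LinearMap.congr_fun e a

/-- A vector orthogonal to `H` and `d` but not to `x`, unless `x ∈ H + ⟨d⟩`. -/
theorem exists_sep_vec {D : Type*} (B : D → V → F) (rep : ∀ f : V →ₗ[F] F, ∃ e, ∀ v, B e v = f v)
    {W : Submodule F V} {x : V} (hx : x ∉ W) (a : F) :
    ∃ e, (∀ w ∈ W, B e w = 0) ∧ B e x = a := by
  obtain ⟨f, hfx, hfW⟩ := Submodule.exists_dual_map_eq_bot_of_notMem hx inferInstance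
  obtain ⟨e, he⟩ := rep ((a * (f x)⁻¹) • f)
  refine ⟨e, fun w hw => ?_, ?_⟩
  · rw [he, LinearMap.smul_apply]
    have : f w = 0 := (Submodule.mem_bot F).1 (hfW ▸ Submodule.mem_map_of_mem hw)
    rw [this, smul_zero]
  · rw [he, LinearMap.smul_apply, smul_eq_mul, mul_assoc, inv_mul_cancel₀ hfx, mul_one]

theorem exists_equiv_of_isometry (f : V →ₗ[F] V) (hinj : Function.Injective f) :
    ∃ g : V ≃ₗ[F] V, ∀ v, g v = f v :=
  ⟨LinearEquiv.ofInjectiveEndo f hinj, fun _ => rfl⟩

/-! ### Sesquilinear forms -/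

section Sesq

variable {σ : F →+* F}

theorem injective_of_pres (B : V →ₛₗ[σ] V →ₗ[F] F) (hB : ∀ v, (∀ w, B v w = 0) → v = 0)
    (f : V →ₗ[F] V) (h : ∀ u v, B (f u) (f v) = B u v) : Function.Injective f :=
  (injective_iff_map_eq_zero f).2 fun v hv => hB v fun w => by
    rw [← h v w, hv, map_zero, LinearMap.zero_apply]

/-- The step for a sesquilinear form with `σ (B u v) = ε B v u`. -/
theorem step_sesq (B : V →ₛₗ[σ] V →ₗ[F] F) (hσ2 : ∀ a, σ (σ a) = a) {ε : F} (hε : ε * ε = 1)
    (hσε : σ ε = ε) (hS : ∀ u v, σ (B u v) = ε * B v u) (hB : ∀ v, (∀ w, B v w = 0) → v = 0)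
    (rep : ∀ f : V →ₗ[F] F, ∃ e, ∀ v, B e v = f v)
    (H : Submodule F V) (x y : V) (hx : x ∉ H) (hy : y ∉ H) (hH : ∀ h ∈ H, B h y = B h x)
    (hxy : B y y = B x x) (self : ∀ e : V, B e e = 0 ∨ ∃ t : F, t + ε * σ t + B e e = 0) :
    ∃ g : V ≃ₗ[F] V, (∀ u v, B (g u) (g v) = B u v) ∧ (∀ h ∈ H, g h = h) ∧ g x = y := by
  have hsw : ∀ u v, B v u = ε * σ (B u v) := fun u v => by rw [hS, ← mul_assoc, hε, one_mul]
  set d : V := y - x with hd
  have hyd : y = x + d := by rw [hd]; abel
  have hdH : ∀ h ∈ H, B d h = 0 := fun h hh => by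
    rw [hsw h d, hd, map_sub, hH h hh, sub_self, map_zero, mul_zero]
  by_cases hdx : B d x = 0
  swap
  · -- a transvection
    set c := (B d x)⁻¹ with hc
    let f : V →ₗ[F] V := LinearMap.id + (c • B d).smulRight d
    have hf : ∀ v, f v = v + (c * B d v) • d := fun v => by simp [f]
    have hsum : B d x + ε * σ (B d x) + B d d = 0 := by
      have e : B y y = B x x + B x d + B d x + B d d := by
        rw [hyd]; simp only [map_add, LinearMap.add_apply]; abel
      rw [hsw d x, hxy] at e
      linear_combination -e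
    have hp : ∀ u v, B (f u) (f v) = B u v := by
      intro u v
      simp only [hf, map_add, LinearMap.add_apply, LinearMap.map_smulₛₗ, LinearMap.smul_apply,
        map_mul, smul_eq_mul, RingHom.id_apply]
      have hcx : c * B d x = 1 := inv_mul_cancel₀ hdx
      have hcσ : σ c * σ (B d x) = 1 := by rw [← map_mul, hcx, map_one]
      rw [hsw d u]
      linear_combination (c * σ c * σ (B d u) * B d v) * hsum - (σ c * σ (B d u) * B d v) * hcx -
        (c * ε * σ (B d u) * B d v) * hcσ
    obtain ⟨g, hg⟩ := exists_equiv_of_isometry f (injective_of_pres B hB f hp)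
    refine ⟨g, fun u v => by rw [hg, hg, hp], fun h hh => ?_, ?_⟩
    · rw [hg, hf, hdH h hh, mul_zero, zero_smul, add_zero]
    · rw [hg, hf, inv_mul_cancel₀ hdx, one_smul, ← hyd]
  have hxd : B x d = 0 := by rw [hsw d x, hdx, map_zero, mul_zero]
  have hdd : B d d = 0 := by
    have e : B y y = B x x + B x d + B d x + B d d := by
      rw [hyd]; simp only [map_add, LinearMap.add_apply]; abel
    rw [hxy, hxd, hdx] at e
    linear_combination -e
  by_cases hm : x ∈ H ⊔ Submodule.span F {d}
  · -- scale a hyperbolic pair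
    obtain ⟨h₀, hh₀, z, hz, hxe⟩ := Submodule.mem_sup.1 hm
    obtain ⟨c, rfl⟩ := Submodule.mem_span_singleton.1 hz
    have hdn : d ∉ H := fun h => hx (hxe ▸ H.add_mem hh₀ (H.smul_mem c h))
    have hc0 : c ≠ 0 := fun h => hx (by rw [← hxe, h, zero_smul, add_zero]; exact hh₀)
    have hc1 : c + 1 ≠ 0 := fun h => hy (by
      rw [hyd, ← hxe, add_assoc]
      nth_rewrite 2 [← one_smul F d]
      rw [← add_smul, h, zero_smul, add_zero]; exact hh₀)
    obtain ⟨e₀, he₀H, he₀d⟩ := exists_sep_vec (fun e v => B e v) rep hdn 1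
    obtain ⟨t, ht⟩ : ∃ t : F, t + ε * σ t + B e₀ e₀ = 0 := by
      rcases self e₀ with h | h
      · exact ⟨0, by rw [h, map_zero]; ring⟩
      · exact h
    set e := e₀ + t • d with he
    have heH : ∀ h ∈ H, B e h = 0 := fun h hh => by
      simp only [he, map_add, LinearMap.add_apply, LinearMap.map_smulₛₗ, LinearMap.smul_apply,
        he₀H h hh, hdH h hh, smul_zero, add_zero]
    have hed : B e d = 1 := by
      simp only [he, map_add, LinearMap.add_apply, LinearMap.map_smulₛₗ, LinearMap.smul_apply,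
        he₀d, hdd, smul_zero, add_zero]
    have hde : B d e = ε := by rw [hsw e d, hed, map_one, mul_one]
    have hee : B e e = 0 := by
      have hde₀ : B d e₀ = ε := by rw [hsw e₀ d, he₀d, map_one, mul_one]
      simp only [he, map_add, LinearMap.add_apply, LinearMap.map_smulₛₗ, LinearMap.smul_apply,
        RingHom.id_apply, smul_eq_mul, hde₀, he₀d, hdd, hσ2]
      linear_combination ht
    set l := (c + 1) / c with hl
    have hl0 : l ≠ 0 := div_ne_zero hc1 hc0
    let f : V →ₗ[F] V := LinearMap.id + ((l - 1) • B e).smulRight d +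
      ((ε * ((σ l)⁻¹ - 1)) • B d).smulRight e
    have hf : ∀ v, f v = v + ((l - 1) * B e v) • d + (ε * ((σ l)⁻¹ - 1) * B d v) • e := fun v => by
      simp [f]
    have hlσ : σ l ≠ 0 := fun h => hl0 (by rw [← hσ2 l, h, map_zero])
    have hp : ∀ u v, B (f u) (f v) = B u v := by
      intro u v
      simp only [hf, map_add, LinearMap.add_apply, LinearMap.map_smulₛₗ, LinearMap.smul_apply,
        map_mul, map_sub, map_inv₀, map_one, hσ2, hσε, smul_eq_mul, RingHom.id_apply,
        hdd, hee, hde, hed]
      rw [hsw d u, hsw e u]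
      field_simp
      linear_combination (-(σ (B e u) * B d v * (σ l - 1) * σ l * l)) * hε
    obtain ⟨g, hg⟩ := exists_equiv_of_isometry f (injective_of_pres B hB f hp)
    refine ⟨g, fun u v => by rw [hg, hg, hp], fun h hh => ?_, ?_⟩
    · rw [hg, hf, heH h hh, hdH h hh]
      simp
    · rw [hg, hf]
      have hex : B e x = c := by
        rw [← hxe, map_add, map_smul, heH h₀ hh₀, hed, zero_add, smul_eq_mul, mul_one]
      rw [hex, hdx, mul_zero, zero_smul, add_zero, hyd]
      have : (l - 1) * c = 1 := by rw [hl]; field_simp; ring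
      rw [this, one_smul]
  · -- an Eichler map
    obtain ⟨e, heW, hex⟩ := exists_sep_vec (fun e v => B e v) rep hm (-ε)
    have heH : ∀ h ∈ H, B e h = 0 := fun h hh => heW h (Submodule.mem_sup_left hh)
    have hed : B e d = 0 := heW d (Submodule.mem_sup_right (Submodule.mem_span_singleton_self d))
    have hde : B d e = 0 := by rw [hsw e d, hed, map_zero, mul_zero]
    obtain ⟨t, ht⟩ : ∃ t : F, t + ε * σ t + B e e = 0 := by
      rcases self e with h | h
      · exact ⟨0, by rw [h, map_zero]; ring⟩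
      · exact h
    let f : V →ₗ[F] V := LinearMap.id + (B d).smulRight e + ((-ε) • B e).smulRight d +
      ((ε * t) • B d).smulRight d
    have hf : ∀ v, f v = v + B d v • e + (-ε * B e v) • d + (ε * t * B d v) • d := fun v => by simp [f]
    have hp : ∀ u v, B (f u) (f v) = B u v := by
      intro u v
      simp only [hf, map_add, LinearMap.add_apply, LinearMap.map_smulₛₗ, LinearMap.smul_apply,
        map_mul, map_neg, hσε, smul_eq_mul, RingHom.id_apply, hdd, hde, hed]
      rw [hsw d u, hsw e u]
      linear_combination (σ (B d u) * B d v) * ht + (σ (B d u) * B d v * t - σ (B d u) * B e v) * hε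
    obtain ⟨g, hg⟩ := exists_equiv_of_isometry f (injective_of_pres B hB f hp)
    refine ⟨g, fun u v => by rw [hg, hg, hp], fun h hh => ?_, ?_⟩
    · rw [hg, hf, heH h hh, hdH h hh]
      simp
    · rw [hg, hf, hdx, hex, hyd]
      simp [hε]

end Sesq

/-- Witt extension for alternating forms. -/
theorem witt_alternating (B : LinearMap.BilinForm F V) (hB : B.Nondegenerate) (hA : B.IsAlt)
    (X Y : Submodule F V) (φ : X ≃ₗ[F] Y)
    (hφ : ∀ x x' : X, B (φ x : V) (φ x' : V) = B (x : V) (x' : V)) :
    ∃ g : V ≃ₗ[F] V, (∀ u v : V, B (g u) (g v) = B u v) ∧ ∀ x : X, g (x : V) = (φ x : V) := by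
  refine extend (fun u v => B u v) (fun H x y hx hy hI => ?_) _ X (Y.subtype ∘ₗ φ.toLinearMap) rfl
    (Y.injective_subtype.comp φ.injective) hφ
  refine step_sesq (σ := RingHom.id F) B (fun _ => rfl) (ε := -1) (by ring) rfl (fun u v => ?_) hB.1
    (fun f => ⟨(LinearMap.BilinForm.toDual B hB).symm f,
      fun v => LinearMap.BilinForm.apply_toDual_symm_apply f v⟩)
    H x y hx hy (fun h hh => by simpa using hI h hh 0 H.zero_mem 0 1)
    (by rw [hA.self_eq_zero, hA.self_eq_zero]) (fun e => Or.inl (hA.self_eq_zero e))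
  have := LinearMap.IsAlt.neg hA v u
  simp only [RingHom.id_apply]
  linear_combination -this

theorem exists_rep_herm {σ : F →+* F} (hσ2 : ∀ a, σ (σ a) = a) (B : V →ₛₗ[σ] V →ₗ[F] F)
    (hB : ∀ v, (∀ w, B v w = 0) → v = 0) (f : V →ₗ[F] F) : ∃ e, ∀ v, B e v = f v := by
  let b := Module.finBasis F V
  let M : (Fin (Module.finrank F V) → F) →ₗ[F] (Fin (Module.finrank F V) → F) :=
    { toFun := fun c j => B (∑ i, σ (c i) • b i) (b j)
      map_add' := fun c c' => funext fun j => by
        simp [add_smul, Finset.sum_add_distrib]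
      map_smul' := fun a c => funext fun j => by
        simp [LinearMap.map_smulₛₗ, hσ2, Finset.mul_sum, mul_assoc] }
  have hinj : Function.Injective M := (injective_iff_map_eq_zero M).2 fun c hc => by
    have h0 : (∑ i, σ (c i) • b i) = 0 := hB _ fun w => by
      have e : B (∑ i, σ (c i) • b i) = 0 := b.ext fun j => congrFun hc j
      rw [e, LinearMap.zero_apply]
    funext i
    have := Fintype.linearIndependent_iff.1 b.linearIndependent _ h0 i
    simpa [hσ2] using congrArg σ this
  obtain ⟨c, hc⟩ := LinearMap.injective_iff_surjective.1 hinj (fun j => f (b j))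
  exact ⟨∑ i, σ (c i) • b i, fun v => LinearMap.congr_fun (b.ext fun j => congrFun hc j) v⟩

/-- Witt extension for Hermitian forms. -/
theorem witt_hermitian (σ : F →+* F) (hσ : σ ≠ RingHom.id F) (hσ2 : ∀ a : F, σ (σ a) = a)
    (B : V →ₛₗ[σ] V →ₗ[F] F) (hS : ∀ u v, σ (B u v) = B v u) (hB : ∀ v, (∀ w, B v w = 0) → v = 0)
    (X Y : Submodule F V) (φ : X ≃ₗ[F] Y)
    (hφ : ∀ x x' : X, B (φ x : V) (φ x' : V) = B (x : V) (x' : V)) :
    ∃ g : V ≃ₗ[F] V, (∀ u v : V, B (g u) (g v) = B u v) ∧ ∀ x : X, g (x : V) = (φ x : V) := by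
  obtain ⟨t₀, ht₀⟩ : ∃ t : F, t + σ t ≠ 0 := by
    by_contra hcon
    push Not at hcon
    have h1 := hcon 1
    rw [map_one] at h1
    exact hσ (RingHom.ext fun a => by
      have := hcon a
      show σ a = a
      linear_combination this - a * h1)
  refine extend (fun u v => B u v) (fun H x y hx hy hI => ?_) _ X (Y.subtype ∘ₗ φ.toLinearMap) rfl
    (Y.injective_subtype.comp φ.injective) hφ
  refine step_sesq B hσ2 (ε := 1) (one_mul 1) (map_one σ) (fun u v => by rw [one_mul, hS]) hB
    (exists_rep_herm hσ2 B hB) H x y hx hy (fun h hh => by simpa using hI h hh 0 H.zero_mem 0 1)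
    (by simpa using hI 0 H.zero_mem 0 H.zero_mem 1 1) (fun e => Or.inr ⟨-(B e e) * t₀ / (t₀ + σ t₀), ?_⟩)
  have hN : σ (B e e) = B e e := hS e e
  simp only [map_div₀, map_mul, map_neg, map_add, hσ2, hN, one_mul]
  rw [add_comm (σ t₀) t₀]
  field_simp
  ring

/-! ### Quadratic forms -/

open QuadraticMap in
theorem step_quad (Q : QuadraticForm F V) (hQ : (polarBilin Q).Nondegenerate)
    (H : Submodule F V) (x y : V) (hx : x ∉ H) (hy : y ∉ H)
    (hH : ∀ h ∈ H, polar Q h y = polar Q h x) (hxy : Q y = Q x) :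
    ∃ g : V ≃ₗ[F] V, (∀ v, Q (g v) = Q v) ∧ (∀ h ∈ H, g h = h) ∧ g x = y := by
  have rep : ∀ f : V →ₗ[F] F, ∃ e, ∀ v, polar Q e v = f v := fun f =>
    ⟨(LinearMap.BilinForm.toDual (polarBilin Q) hQ).symm f,
      fun v => LinearMap.BilinForm.apply_toDual_symm_apply (B := polarBilin Q) f v⟩
  have mk : ∀ f : V →ₗ[F] V, (∀ v, Q (f v) = Q v) → (∀ h ∈ H, f h = h) → f x = y →
      ∃ g : V ≃ₗ[F] V, (∀ v, Q (g v) = Q v) ∧ (∀ h ∈ H, g h = h) ∧ g x = y := by
    intro f hf hfH hfx
    have hinj : Function.Injective f := (injective_iff_map_eq_zero f).2 fun v hv => hQ.1 v fun w => by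
      show polar Q v w = 0
      have : polar Q (f v) (f w) = polar Q v w := by simp only [polar, ← map_add, hf]
      rw [← this, hv, polar_zero_left]
    exact ⟨LinearEquiv.ofInjectiveEndo f hinj, hf, hfH, hfx⟩
  set d : V := y - x with hd
  have hyd : y = x + d := by rw [hd]; abel
  have hdH : ∀ h ∈ H, polar Q d h = 0 := fun h hh => by
    rw [polar_comm, hd, polar_sub_right, hH h hh, sub_self]
  have hdx : polar Q d x = -Q d := by
    have e := hxy
    rw [hyd, QuadraticMap.map_add (⇑Q), polar_comm] at e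
    linear_combination e
  by_cases hQd : Q d = 0
  swap
  · refine mk (LinearMap.id + ((-(Q d)⁻¹) • polarBilin Q d).smulRight d) (fun v => ?_)
      (fun h hh => by simp [hdH h hh]) (by simp [hdx, hQd, hyd])
    simp only [LinearMap.add_apply, LinearMap.id_apply, LinearMap.smulRight_apply, LinearMap.smul_apply,
      polarBilin_apply_apply, QuadraticMap.map_add (⇑Q), QuadraticMap.map_smul, polar_smul_right,
      polar_comm Q v d, smul_eq_mul]
    field_simp
    ring
  rw [hQd, neg_zero] at hdx
  by_cases hm : x ∈ H ⊔ Submodule.span F {d}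
  · obtain ⟨h₀, hh₀, z, hz, hxe⟩ := Submodule.mem_sup.1 hm
    obtain ⟨c, rfl⟩ := Submodule.mem_span_singleton.1 hz
    have hdn : d ∉ H := fun h => hx (hxe ▸ H.add_mem hh₀ (H.smul_mem c h))
    have hc0 : c ≠ 0 := fun h => hx (by rw [← hxe, h, zero_smul, add_zero]; exact hh₀)
    have hc1 : c + 1 ≠ 0 := fun h => hy (by
      rw [hyd, ← hxe, add_assoc]
      nth_rewrite 2 [← one_smul F d]
      rw [← add_smul, h, zero_smul, add_zero]; exact hh₀)
    obtain ⟨e₀, he₀H, he₀d⟩ := exists_sep_vec (fun e v => polar Q e v) rep hdn 1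
    set e := e₀ + (-Q e₀) • d with he
    have heH : ∀ h ∈ H, polar Q e h = 0 := fun h hh => by
      simp only [he, polar_add_left, polar_smul_left, he₀H h hh, hdH h hh, smul_zero, add_zero]
    have hed : polar Q e d = 1 := by
      simp [he, polar_add_left, polar_smul_left, he₀d, polar_self, hQd]
    have hde : polar Q d e = 1 := by rw [polar_comm, hed]
    have hee : Q e = 0 := by
      simp only [he, QuadraticMap.map_add (⇑Q), QuadraticMap.map_smul, polar_smul_right, he₀d, hQd,
        smul_eq_mul]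
      ring
    set l := (c + 1) / c with hl
    have hl0 : l ≠ 0 := div_ne_zero hc1 hc0
    refine mk (LinearMap.id + (((l - 1) • polarBilin Q e).smulRight d +
      ((l⁻¹ - 1) • polarBilin Q d).smulRight e)) (fun v => ?_) (fun h hh => by simp [heH h hh, hdH h hh]) ?_
    · simp only [LinearMap.add_apply, LinearMap.id_apply, LinearMap.smulRight_apply, LinearMap.smul_apply,
        polarBilin_apply_apply, QuadraticMap.map_add (⇑Q), QuadraticMap.map_smul, polar_smul_right,
        polar_smul_left, polar_add_right, polar_comm Q v d, polar_comm Q v e, smul_eq_mul, hde, hQd, hee]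
      field_simp
      ring
    · have hex : polar Q e x = c := by
        rw [← hxe, polar_add_right, polar_smul_right, heH h₀ hh₀, hed, zero_add, smul_eq_mul, mul_one]
      simp only [LinearMap.add_apply, LinearMap.id_apply, LinearMap.smulRight_apply, LinearMap.smul_apply,
        polarBilin_apply_apply, hex, hdx, smul_eq_mul, mul_zero, zero_smul, add_zero]
      have : (l - 1) * c = 1 := by rw [hl]; field_simp; ring
      rw [this, one_smul, hyd]
  · obtain ⟨e, heW, hex⟩ := exists_sep_vec (fun e v => polar Q e v) rep hm (-1)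
    have heH : ∀ h ∈ H, polar Q e h = 0 := fun h hh => heW h (Submodule.mem_sup_left hh)
    have hed : polar Q e d = 0 := heW d (Submodule.mem_sup_right (Submodule.mem_span_singleton_self d))
    have hde : polar Q d e = 0 := by rw [polar_comm, hed]
    refine mk (LinearMap.id + ((polarBilin Q d).smulRight e +
      (-(polarBilin Q e) - Q e • polarBilin Q d).smulRight d)) (fun v => ?_)
      (fun h hh => by simp [heH h hh, hdH h hh]) ?_
    · simp only [LinearMap.add_apply, LinearMap.id_apply, LinearMap.smulRight_apply, LinearMap.smul_apply,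
        LinearMap.sub_apply, LinearMap.neg_apply,
        polarBilin_apply_apply, QuadraticMap.map_add (⇑Q), QuadraticMap.map_smul, polar_smul_right,
        polar_smul_left, polar_add_right, polar_comm Q v d, polar_comm Q v e, smul_eq_mul, hed, hQd]
      ring
    · simp [hdx, hex, hyd]

open QuadraticMap in
/-- Witt extension for quadratic forms with nondegenerate polar form. -/
theorem witt_quadratic (Q : QuadraticForm F V) (hQ : (polarBilin Q).Nondegenerate)
    (X Y : Submodule F V) (φ : X ≃ₗ[F] Y) (hφ : ∀ x : X, Q (φ x : V) = Q (x : V)) :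
    ∃ g : V ≃ₗ[F] V, (∀ v : V, Q (g v) = Q v) ∧ ∀ x : X, g (x : V) = (φ x : V) := by
  obtain ⟨g, hg, hgX⟩ := extend (fun u v => Q (u + v)) (fun H x y hx hy hI => by
      have hQ1 : ∀ h ∈ H, Q (h + y) = Q (h + x) := fun h hh => by
        simpa using hI h hh 0 H.zero_mem 0 1
      have hQ0 : Q y = Q x := by simpa using hQ1 0 H.zero_mem
      obtain ⟨g, hg, hgH, hgx⟩ := step_quad Q hQ H x y hx hy
        (fun h hh => by simp only [polar, hQ1 h hh, hQ0]) hQ0
      exact ⟨g, fun u v => by rw [← map_add, hg], hgH, hgx⟩)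
    _ X (Y.subtype ∘ₗ φ.toLinearMap) rfl (Y.injective_subtype.comp φ.injective)
    (fun a b => by simpa using hφ (a + b))
  exact ⟨g, fun v => by simpa using hg v 0, hgX⟩

end CfsgLib.Classical.Witt
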