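import Cfsg.Agent.Lib.Classical.SympFitting
import Cfsg.Agent.Lib.Classical.WittExtension

/-!
Involutions of symplectic and quadratic spaces in characteristic two: the image of `t - 1` with the
form it carries, and the resulting classification up to conjugacy.
-/

set_option autoImplicit false

namespace CfsgLib.Classical.InvolutionData

open Module
open CfsgLib.SympCount (Symp)

universe u

variable {F : Type u} [Field F] {V : Type u} [AddCommGroup V] [Module F V]

theorem neg_eq_self [CharP F 2] (x : V) : -x = x := by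
  rw [← neg_one_smul F x, CharTwo.neg_eq, one_smul]

theorem add_self [CharP F 2] (x : V) : x + x = 0 := by
  rw [← two_smul F x, CharTwo.two_eq_zero, zero_smul]

theorem symm_of_alt [CharP F 2] {B : LinearMap.BilinForm F V} (h : B.IsAlt) (x y : V) :
    B x y = B y x := by
  rw [← h.neg_eq, CharTwo.neg_eq]

theorem nondegenerate {B : LinearMap.BilinForm F V} (h : Symp B) : B.Nondegenerate :=
  ⟨h.nd, fun y hy => h.nd y fun x => by rw [← h.alt.neg_eq, hy x, neg_zero]⟩

/-! ### Symmetric forms in characteristic two -/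

section forms

variable {W W' : Type u} [AddCommGroup W] [Module F W] [AddCommGroup W'] [Module F W']

/-- The symmetric non-degenerate forms. -/
structure Sym (φ : LinearMap.BilinForm F W) : Prop where
  symm : ∀ x y, φ x y = φ y x
  nd : ∀ x, (∀ y, φ x y = 0) → x = 0

theorem exists_diag_one [Finite F] [CharP F 2] {φ : LinearMap.BilinForm F W}
    (hna : ¬ ∀ x, φ x x = 0) : ∃ w, φ w w = 1 := by
  cases nonempty_fintype F
  push Not at hna
  obtain ⟨w, hw⟩ := hna
  obtain ⟨c, hc⟩ := FiniteField.isSquare_of_char_two (ringChar.eq F 2) (φ w w)⁻¹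
  refine ⟨c • w, ?_⟩
  rw [map_smul, map_smul, LinearMap.smul_apply, smul_eq_mul, smul_eq_mul, ← mul_assoc, ← hc,
    inv_mul_cancel₀ hw]

theorem perp_facts [FiniteDimensional F W] {φ : LinearMap.BilinForm F W} (hφ : Sym φ) {w : W}
    (hw : φ w w = 1) :
    Sym (φ.restrict (LinearMap.ker (φ w))) ∧
      finrank F ↥(LinearMap.ker (φ w)) + 1 = finrank F W := by
  refine ⟨⟨fun x y => hφ.symm _ _, fun p hp => Subtype.ext (hφ.nd p fun x => ?_)⟩, ?_⟩
  · have h1 : φ w (x - φ w x • w) = 0 := by rw [map_sub, map_smul, hw, smul_eq_mul, mul_one, sub_self]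
    have h2 : φ (p : W) (x - φ w x • w) = 0 := hp ⟨_, LinearMap.mem_ker.2 h1⟩
    have h3 : φ (p : W) w = 0 := by rw [hφ.symm]; exact LinearMap.mem_ker.1 p.2
    rwa [map_sub, map_smul, h3, smul_zero, sub_zero] at h2
  · have hr : LinearMap.range (φ w) = ⊤ := LinearMap.range_eq_top.2 fun c => ⟨c • w, by simp [hw]⟩
    have := LinearMap.finrank_range_add_finrank_ker (φ w)
    rw [hr, finrank_top, Module.finrank_self] at this
    omega

/-- A unit vector whose orthogonal complement is zero or not alternating. -/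
theorem exists_good [Finite F] [CharP F 2] [FiniteDimensional F W] {φ : LinearMap.BilinForm F W}
    (hφ : Sym φ) (hna : ¬ ∀ x, φ x x = 0) :
    ∃ w, φ w w = 1 ∧ (finrank F W = 1 ∨ ∃ x, φ w x = 0 ∧ φ x x ≠ 0) := by
  obtain ⟨w, hw⟩ := exists_diag_one hna
  by_cases hP : ∃ x, φ w x = 0 ∧ φ x x ≠ 0
  · exact ⟨w, hw, Or.inr hP⟩
  push Not at hP
  obtain ⟨hsym, hdim⟩ := perp_facts hφ hw
  by_cases h1 : finrank F W = 1
  · exact ⟨w, hw, Or.inl h1⟩
  have hne : LinearMap.ker (φ w) ≠ ⊥ := fun e => by rw [e, finrank_bot] at hdim; omega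
  obtain ⟨y, hy, hy0⟩ := Submodule.exists_mem_ne_zero_of_ne_bot hne
  obtain ⟨z, hz, hyz⟩ : ∃ z, φ w z = 0 ∧ φ y z = 1 := by
    by_contra hcon
    push Not at hcon
    refine hy0 (congrArg Subtype.val (hsym.nd ⟨y, hy⟩ fun z => ?_))
    by_contra hz
    refine hcon (((φ y) (z : W))⁻¹ • (z : W)) (by rw [map_smul, LinearMap.mem_ker.1 z.2, smul_zero]) ?_
    rw [map_smul, smul_eq_mul]
    exact inv_mul_cancel₀ hz
  have hwy : φ w y = 0 := hy
  have hyw : φ y w = 0 := by rw [hφ.symm]; exact hwy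
  have hzw : φ z w = 0 := by rw [hφ.symm]; exact hz
  have hzy : φ z y = 1 := by rw [hφ.symm]; exact hyz
  refine ⟨w + y, ?_, Or.inr ⟨w + z, ?_, ?_⟩⟩
  · simp [hw, hwy, hyw, hP y hwy]
  · simp [hw, hz, hyw, hyz, CharTwo.add_self_eq_zero]
  · simp [hw, hz, hzw, hP z hz]

/-- A form which is not alternating has an orthonormal basis. -/
theorem exists_orthonormal [Finite F] [CharP F 2] : ∀ (n : ℕ) (W : Type u) [AddCommGroup W]
    [Module F W] [FiniteDimensional F W] (φ : LinearMap.BilinForm F W), Sym φ → finrank F W = n →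
    (n = 0 ∨ ¬ ∀ x, φ x x = 0) → ∃ b : Fin n → W, ∀ i j, φ (b i) (b j) = if i = j then 1 else 0 := by
  intro n
  induction n with
  | zero => exact fun W _ _ _ φ _ _ _ => ⟨Fin.elim0, fun i => i.elim0⟩
  | succ n ih =>
    intro W _ _ _ φ hφ hd hna
    obtain ⟨w, hw, hgood⟩ := exists_good hφ (hna.resolve_left n.succ_ne_zero)
    obtain ⟨hsym, hdim⟩ := perp_facts hφ hw
    have hna' : n = 0 ∨ ¬ ∀ x : LinearMap.ker (φ w), φ.restrict (LinearMap.ker (φ w)) x x = 0 := by
      rcases hgood with h | ⟨x, hx, hxx⟩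
      · exact Or.inl (by omega)
      · exact Or.inr fun h => hxx (h ⟨x, LinearMap.mem_ker.2 hx⟩)
    obtain ⟨b, hb⟩ := ih ↥(LinearMap.ker (φ w)) _ hsym (by omega) hna'
    refine ⟨Fin.cons w fun i => (b i : W), fun i j => ?_⟩
    cases i using Fin.cases with
    | zero =>
      cases j using Fin.cases with
      | zero => simpa using hw
      | succ j => simpa [(Fin.succ_ne_zero j).symm] using LinearMap.mem_ker.1 (b j).2
    | succ i =>
      cases j using Fin.cases with
      | zero =>
        simp only [Fin.cons_succ, Fin.cons_zero, Fin.succ_ne_zero, if_false]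
        rw [hφ.symm]; exact LinearMap.mem_ker.1 (b i).2
      | succ j => simpa [Fin.succ_inj] using hb i j

theorem exists_basis [Finite F] [CharP F 2] [FiniteDimensional F W] {φ : LinearMap.BilinForm F W}
    (hφ : Sym φ) (hna : ¬ ∀ x, φ x x = 0) :
    ∃ b : Basis (Fin (finrank F W)) F W, ∀ i j, φ (b i) (b j) = if i = j then 1 else 0 := by
  classical
  obtain ⟨b, hb⟩ := exists_orthonormal _ W φ hφ rfl (Or.inr hna)
  have hli : LinearIndependent F b := Fintype.linearIndependent_iff.2 fun g hg i => by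
    have := congrArg (φ (b i)) hg
    simpa [map_sum, hb] using this
  have hn : 0 < finrank F W := Nat.pos_of_ne_zero fun e => hna fun x => by
    rw [finrank_zero_iff_forall_zero.1 e x, map_zero]
  have : Nonempty (Fin (finrank F W)) := ⟨⟨0, hn⟩⟩
  refine ⟨basisOfLinearIndependentOfCardEqFinrank hli (by simp), fun i j => ?_⟩
  simp [hb]

/-- Symmetric forms are classified by dimension and by being alternating. -/
theorem exists_sym_iso [Finite F] [CharP F 2] [FiniteDimensional F W] [FiniteDimensional F W']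
    {φ : LinearMap.BilinForm F W} {ψ : LinearMap.BilinForm F W'} (hφ : Sym φ) (hψ : Sym ψ)
    (hd : finrank F W = finrank F W') (ha : (∀ x, φ x x = 0) ↔ ∀ x, ψ x x = 0) :
    ∃ α : W ≃ₗ[F] W', ∀ x y, ψ (α x) (α y) = φ x y := by
  by_cases h : ∀ x, φ x x = 0
  · exact CfsgLib.SympCount.exists_isometry (⟨ha.1 h, hψ.nd⟩ : Symp ψ) (⟨h, hφ.nd⟩ : Symp φ) hd
  · obtain ⟨b, hb⟩ := exists_basis hφ h
    obtain ⟨c, hc⟩ := exists_basis hψ (fun e => h (ha.2 e))
    refine ⟨b.equiv c (finCongr hd), ?_⟩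
    have key : ψ.compl₁₂ (b.equiv c (finCongr hd)).toLinearMap (b.equiv c (finCongr hd)).toLinearMap
        = φ := LinearMap.BilinForm.ext_basis b fun i j => by simp [hb, hc, Fin.ext_iff]
    exact fun x y => LinearMap.congr_fun (LinearMap.congr_fun key x) y

theorem even_of_alt [FiniteDimensional F W] {φ : LinearMap.BilinForm F W} (hφ : Sym φ)
    (h : ∀ x, φ x x = 0) : Even (finrank F W) := by
  obtain ⟨k, hk⟩ := CfsgLib.SympCount.even_finrank (⟨h, hφ.nd⟩ : Symp φ)
  exact ⟨k, by omega⟩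

end forms

/-! ### Square-zero self-adjoint maps -/

/-- `u` is square-zero and self-adjoint: `1 + u` is an isometry of order at most two. -/
structure Nil (B : LinearMap.BilinForm F V) (u : End F V) : Prop where
  sq : ∀ x, u (u x) = 0
  adj : ∀ x y, B (u x) y = B x (u y)

/-- The form carried by the image is alternating. -/
def Alt (B : LinearMap.BilinForm F V) (u : End F V) : Prop := ∀ x, B x (u x) = 0

variable {B : LinearMap.BilinForm F V}

theorem nil_of_invol [CharP F 2] {f : End F V} (hf : ∀ x y, B (f x) (f y) = B x y)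
    (h2 : ∀ x, f (f x) = x) : Nil B (f - 1) where
  sq x := by
    simp only [LinearMap.sub_apply, End.one_apply, map_sub, h2]
    rw [sub_sub_sub_eq, ← two_smul F x, CharTwo.two_eq_zero, zero_smul, zero_sub, neg_eq_zero,
      ← two_smul F (f x), CharTwo.two_eq_zero, zero_smul]
  adj x y := by
    simp only [LinearMap.sub_apply, End.one_apply, map_sub]
    congr 1
    conv_rhs => rw [← hf, h2]

theorem Nil.isometry [CharP F 2] {u : End F V} (hu : Nil B u) (x y : V) :
    B (x + u x) (y + u y) = B x y := by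
  have h1 : B (u x) y = B x (u y) := hu.adj x y
  have h2 : B (u x) (u y) = 0 := by rw [hu.adj, hu.sq, map_zero]
  rw [map_add, map_add, LinearMap.add_apply, LinearMap.add_apply, h1, h2, add_zero, add_assoc,
    CharTwo.add_self_eq_zero, add_zero]

theorem Nil.isotropic {u : End F V} (hu : Nil B u) {z w : V} (hz : z ∈ LinearMap.range u)
    (hw : w ∈ LinearMap.range u) : B z w = 0 := by
  obtain ⟨x, rfl⟩ := hz
  obtain ⟨y, rfl⟩ := hw
  rw [hu.adj, hu.sq, map_zero]

theorem Nil.ker_eq (h : Symp B) {u : End F V} (hu : Nil B u) {x : V}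
    (hx : ∀ z ∈ LinearMap.range u, B x z = 0) : u x = 0 :=
  h.nd _ fun y => by rw [hu.adj]; exact hx _ ⟨y, rfl⟩

theorem Nil.perp_iff (h : Symp B) {u : End F V} (hu : Nil B u) {x : V} :
    (∀ z ∈ LinearMap.range u, B x z = 0) ↔ u x = 0 :=
  ⟨hu.ker_eq h, by rintro hx _ ⟨y, rfl⟩; rw [← hu.adj, hx, map_zero, LinearMap.zero_apply]⟩

theorem Nil.two_mul_rank_le [FiniteDimensional F V] {u : End F V} (hu : Nil B u) :
    2 * finrank F ↥(LinearMap.range u) ≤ finrank F V := by
  have h1 : LinearMap.range u ≤ LinearMap.ker u := by rintro _ ⟨x, rfl⟩; exact hu.sq x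
  have := Submodule.finrank_mono h1
  have := LinearMap.finrank_range_add_finrank_ker u
  omega

section phi

/-- A linear section of `u` over its image. -/
noncomputable def sec (u : End F V) : LinearMap.range u →ₗ[F] V :=
  (u.rangeRestrict.exists_rightInverse_of_surjective u.range_rangeRestrict).choose

theorem sec_spec (u : End F V) (w : LinearMap.range u) : u (sec u w) = (w : V) :=
  congrArg Subtype.val (LinearMap.congr_fun
    (u.rangeRestrict.exists_rightInverse_of_surjective u.range_rangeRestrict).choose_spec w)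

/-- The form on the image: `φ (u x) z = B x z`. -/
noncomputable def phi (B : LinearMap.BilinForm F V) (u : End F V) :
    LinearMap.BilinForm F (LinearMap.range u) :=
  B.compl₁₂ (sec u) (LinearMap.range u).subtype

theorem phi_eq {u : End F V} (hu : Nil B u) {x : V} {w : LinearMap.range u} (hw : (w : V) = u x)
    (z : LinearMap.range u) : phi B u w z = B x (z : V) := by
  show B (sec u w) (z : V) = _
  obtain ⟨y, hy⟩ := z.2
  rw [← hy, ← hu.adj, ← hu.adj, sec_spec, hw]

theorem phi_sym [CharP F 2] (h : Symp B) {u : End F V} (hu : Nil B u) : Sym (phi B u) where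
  symm w z := by
    obtain ⟨x, hx⟩ := w.2
    obtain ⟨y, hy⟩ := z.2
    rw [phi_eq hu hx.symm, phi_eq hu hy.symm, ← hx, ← hy, ← hu.adj, symm_of_alt h.alt]
  nd w hw := by
    obtain ⟨x, hx⟩ := w.2
    exact Subtype.ext (hx.symm.trans (hu.ker_eq h fun z hz => by
      rw [← phi_eq hu hx.symm ⟨z, hz⟩]; exact hw _))

theorem alt_iff {u : End F V} (hu : Nil B u) : Alt B u ↔ ∀ w, phi B u w w = 0 := by
  refine ⟨fun h w => ?_, fun h x => ?_⟩
  · obtain ⟨x, hx⟩ := w.2
    rw [phi_eq hu hx.symm, ← hx]; exact h x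
  · exact (phi_eq hu (w := ⟨u x, ⟨x, rfl⟩⟩) (x := x) rfl ⟨u x, ⟨x, rfl⟩⟩).symm.trans (h _)

theorem even_rank_of_alt [FiniteDimensional F V] [CharP F 2] (h : Symp B) {u : End F V}
    (hu : Nil B u) (ha : Alt B u) : Even (finrank F ↥(LinearMap.range u)) :=
  even_of_alt (phi_sym h hu) ((alt_iff hu).1 ha)

/-- An isometry carrying the image and its form to another intertwines the maps. -/
theorem intertwine (h : Symp B) {u u' : End F V} (hu : Nil B u) (hu' : Nil B u') (g : V ≃ₗ[F] V)
    (hg : ∀ x y, B (g x) (g y) = B x y) (α : LinearMap.range u ≃ₗ[F] LinearMap.range u')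
    (hgα : ∀ w : LinearMap.range u, g (w : V) = (α w : V))
    (hα : ∀ w z, phi B u' (α w) (α z) = phi B u w z) (x : V) : g (u x) = u' (g x) := by
  set w : LinearMap.range u := ⟨u x, ⟨x, rfl⟩⟩ with hw
  obtain ⟨x', hx'⟩ := (α w).2
  have key : u' (g x - x') = 0 := hu'.ker_eq h fun z hz => by
    obtain ⟨v, hv⟩ := α.surjective ⟨z, hz⟩
    have hz' : z = (α v : V) := (congrArg Subtype.val hv).symm
    rw [map_sub, LinearMap.sub_apply, hz']
    conv_lhs => arg 1; rw [← hgα, hg, ← phi_eq hu (w := w) rfl v, ← hα]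
    rw [phi_eq hu' hx'.symm, sub_self]
  rw [map_sub, sub_eq_zero] at key
  rw [key, hx', ← hgα]

theorem rank_eq_of_conj {u u' : End F V} (g : V ≃ₗ[F] V) (hgu : ∀ x, g (u x) = u' (g x)) :
    finrank F ↥(LinearMap.range u) = finrank F ↥(LinearMap.range u') := by
  have e : LinearMap.range u' = (LinearMap.range u).map g.toLinearMap := by
    ext y
    simp only [LinearMap.mem_range, Submodule.mem_map, LinearEquiv.coe_coe]
    constructor
    · rintro ⟨x, rfl⟩
      exact ⟨_, ⟨g.symm x, rfl⟩, by rw [hgu, g.apply_symm_apply]⟩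
    · rintro ⟨_, ⟨x, rfl⟩, rfl⟩
      exact ⟨g x, (hgu x).symm⟩
  rw [e]
  exact (g.submoduleMap _).finrank_eq

theorem alt_iff_of_conj {u u' : End F V} (g : V ≃ₗ[F] V) (hg : ∀ x y, B (g x) (g y) = B x y)
    (hgu : ∀ x, g (u x) = u' (g x)) : Alt B u ↔ Alt B u' := by
  refine ⟨fun h y => ?_, fun h x => ?_⟩
  · obtain ⟨x, rfl⟩ := g.surjective y
    rw [← hgu, hg]; exact h x
  · rw [← hg, hgu]; exact h _

variable [FiniteDimensional F V] [Finite F] [CharP F 2]

/-- Maps with the same invariants are conjugate under the isometries of `B`. -/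
theorem exists_conj (h : Symp B) {u u' : End F V} (hu : Nil B u) (hu' : Nil B u')
    (hr : finrank F ↥(LinearMap.range u) = finrank F ↥(LinearMap.range u'))
    (ha : Alt B u ↔ Alt B u') :
    ∃ g : V ≃ₗ[F] V, (∀ x y, B (g x) (g y) = B x y) ∧ ∀ x, g (u x) = u' (g x) := by
  obtain ⟨α, hα⟩ := exists_sym_iso (phi_sym h hu) (phi_sym h hu') hr
    (by rw [← alt_iff hu, ← alt_iff hu', ha])
  obtain ⟨g, hg, hgX⟩ := CfsgLib.Classical.Witt.witt_alternating B (nondegenerate h) h.alt
    _ _ α fun w z => by rw [hu'.isotropic (α w).2 (α z).2, hu.isotropic w.2 z.2]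
  exact ⟨g, hg, intertwine h hu hu' g hg α hgX hα⟩

omit [Finite F] [FiniteDimensional F V] in
theorem quad_range {Q : QuadraticForm F V} {u : End F V} (hB : ∀ x y, QuadraticMap.polar ⇑Q x y = B x y)
    (hQ : ∀ x, Q (x + u x) = Q x) (x : V) : Q (u x) = B x (u x) := by
  have h1 := hQ x
  rw [QuadraticMap.map_add (f := ⇑Q), hB, add_assoc, add_eq_left] at h1
  rwa [← CharTwo.sub_eq_add, sub_eq_zero] at h1

/-- Maps preserving `Q` with the same invariants are conjugate under the isometries of `Q`. -/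
theorem exists_conj_quad (h : Symp B) (Q : QuadraticForm F V)
    (hB : ∀ x y, QuadraticMap.polar ⇑Q x y = B x y) {u u' : End F V} (hu : Nil B u)
    (hu' : Nil B u') (hQ : ∀ x, Q (x + u x) = Q x) (hQ' : ∀ x, Q (x + u' x) = Q x)
    (hr : finrank F ↥(LinearMap.range u) = finrank F ↥(LinearMap.range u'))
    (ha : Alt B u ↔ Alt B u') :
    ∃ g : V ≃ₗ[F] V, (∀ x, Q (g x) = Q x) ∧ ∀ x, g (u x) = u' (g x) := by
  obtain ⟨α, hα⟩ := exists_sym_iso (phi_sym h hu) (phi_sym h hu') hr
    (by rw [← alt_iff hu, ← alt_iff hu', ha])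
  have hq : ∀ (v : End F V), Nil B v → (∀ x, Q (x + v x) = Q x) →
      ∀ w : LinearMap.range v, Q (w : V) = phi B v w w := fun v hv hQv w => by
    obtain ⟨x, hx⟩ := w.2
    rw [phi_eq hv hx.symm, ← hx, quad_range hB hQv]
  have hnd : (QuadraticMap.polarBilin Q).Nondegenerate := by
    have e : QuadraticMap.polarBilin Q = B := LinearMap.ext fun x => LinearMap.ext fun y => hB x y
    rw [e]; exact nondegenerate h
  obtain ⟨g, hg, hgX⟩ := CfsgLib.Classical.Witt.witt_quadratic Q hnd _ _ α fun w => by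
    rw [hq u' hu' hQ', hα, hq u hu hQ]
  refine ⟨g, hg, intertwine h hu hu' g (fun x y => ?_) α hgX hα⟩
  rw [← hB, ← hB, QuadraticMap.polar, QuadraticMap.polar, ← map_add, hg, hg, hg]

omit [Finite F] in
/-- Every non-degenerate symmetric form on an isotropic subspace is carried by such a map. -/
theorem exists_nil (h : Symp B) {U : Type u} [AddCommGroup U] [Module F U] [FiniteDimensional F U]
    (j : U →ₗ[F] V) (hj : Function.Injective j) (hiso : ∀ a b, B (j a) (j b) = 0)
    {φ : LinearMap.BilinForm F U} (hφ : Sym φ) :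
    ∃ u : End F V, Nil B u ∧ finrank F ↥(LinearMap.range u) = finrank F U ∧
      (Alt B u ↔ ∀ a, φ a a = 0) ∧
      ∀ x, ∃ a, u x = j a ∧ B x (u x) = φ a a := by
  have hn : φ.Nondegenerate := ⟨hφ.nd, fun y hy => hφ.nd y fun x => by rw [hφ.symm]; exact hy x⟩
  let ψ : V →ₗ[F] U := (φ.toDual hn).symm.toLinearMap ∘ₗ j.dualMap ∘ₗ B
  have hψ : ∀ x z, φ (ψ x) z = B x (j z) := fun x z =>
    LinearMap.BilinForm.apply_toDual_symm_apply (hB := hn) (j.dualMap (B x)) z
  have hsurj : Function.Surjective ψ := by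
    have h1 : Function.Surjective B := (B.toDual (nondegenerate h)).surjective
    have h2 : Function.Surjective j.dualMap := LinearMap.dualMap_surjective_of_injective hj
    exact (φ.toDual hn).symm.surjective.comp (h2.comp h1)
  have hrange : LinearMap.range (j ∘ₗ ψ) = LinearMap.range j := by
    rw [LinearMap.range_comp, LinearMap.range_eq_top.2 hsurj, Submodule.map_top]
  have hjz : ∀ a, ψ (j a) = 0 := fun a => hφ.nd _ fun z => by rw [hψ, hiso]
  refine ⟨j ∘ₗ ψ, ⟨fun x => by simp [hjz], fun x y => ?_⟩, ?_, ?_, fun x => ⟨ψ x, rfl, (hψ x (ψ x)).symm⟩⟩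
  · show B (j (ψ x)) y = B x (j (ψ y))
    rw [symm_of_alt h.alt, ← hψ, ← hψ, hφ.symm]
  · rw [hrange, LinearMap.finrank_range_of_inj hj]
  · refine ⟨fun ha a => ?_, fun ha x => ?_⟩
    · obtain ⟨x, rfl⟩ := hsurj a
      rw [hψ]; exact ha x
    · show B x (j (ψ x)) = 0
      rw [← hψ]; exact ha _

end phi

end CfsgLib.Classical.InvolutionData
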