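import Mathlib
import Cfsg.Prelude.Def_ClassicalGeometry

set_option autoImplicit false

/-!
Symplectic transvections over any field: transitivity, generation, primitivity on points,
perfectness and the Iwasawa argument.
-/

namespace CfsgLib.Classical.SympTrans

open Matrix Cfsg
open scoped LinearAlgebra.Projectivization commutatorElement Pointwise

variable {F : Type*} [Field F] {m : ℕ}

local notation "V" => (Fin m ⊕ Fin m → F)
local notation "G" => Matrix.symplecticGroup (Fin m) F

/-- Apply an element of the symplectic group to a vector. -/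
def app (g : G) (x : V) : V := (g : Matrix (Fin m ⊕ Fin m) (Fin m ⊕ Fin m) F) *ᵥ x

theorem app_one (x : V) : app (1 : G) x = x := one_mulVec _

theorem app_mul (g h : G) (x : V) : app (g * h) x = app g (app h x) := (mulVec_mulVec _ _ _).symm

theorem app_inv (g : G) (x : V) : app g⁻¹ (app g x) = x := by
  rw [← app_mul, inv_mul_cancel, app_one]

theorem app_inv' (g : G) (x : V) : app g (app g⁻¹ x) = x := by
  rw [← app_mul, mul_inv_cancel, app_one]

theorem app_add (g : G) (x y : V) : app g (x + y) = app g x + app g y := mulVec_add _ _ _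

theorem app_sub (g : G) (x y : V) : app g (x - y) = app g x - app g y := mulVec_sub _ _ _

theorem app_smul (g : G) (c : F) (x : V) : app g (c • x) = c • app g x := mulVec_smul _ _ _

theorem app_ne_zero (g : G) {x : V} (hx : x ≠ 0) : app g x ≠ 0 := fun h => hx <| by
  rw [← app_inv g x, h, app, mulVec_zero]

theorem ext_app {g h : G} (H : ∀ x, app g x = app h x) : g = h :=
  Subtype.ext (Matrix.ext_of_mulVec_single fun i => H _)

local notation "ω" => sympForm m F

theorem f_apply (u v : V) :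
    ω u v = ∑ i, (u (.inr i) * v (.inl i) - u (.inl i) * v (.inr i)) := by
  rw [sympForm, dotProduct, Fintype.sum_sum_type, Finset.sum_sub_distrib]
  simp only [mulVec, dotProduct, J, fromBlocks, Fintype.sum_sum_type]
  simp [Matrix.one_apply, neg_add_eq_sub]

theorem f_self (u : V) : ω u u = 0 := by
  rw [f_apply]
  exact Finset.sum_eq_zero fun i _ => by ring

theorem f_swap (u v : V) : ω v u = -ω u v := by
  rw [f_apply, f_apply, ← Finset.sum_neg_distrib]
  exact Finset.sum_congr rfl fun i _ => by ring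

theorem f_add_left (u v w : V) : ω (u + v) w = ω u w + ω v w := add_dotProduct _ _ _
theorem f_sub_left (u v w : V) : ω (u - v) w = ω u w - ω v w := sub_dotProduct _ _ _
theorem f_smul_left (a : F) (u v : V) : ω (a • u) v = a * ω u v := smul_dotProduct _ _ _
theorem f_add_right (u v w : V) : ω u (v + w) = ω u v + ω u w := by
  rw [sympForm, mulVec_add, dotProduct_add]; rfl
theorem f_sub_right (u v w : V) : ω u (v - w) = ω u v - ω u w := by
  rw [sympForm, mulVec_sub, dotProduct_sub]; rfl
theorem f_smul_right (a : F) (u v : V) : ω u (a • v) = a * ω u v := by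
  rw [sympForm, mulVec_smul, dotProduct_smul]; rfl
theorem f_zero_left (u : V) : ω 0 u = 0 := zero_dotProduct _
theorem f_zero_right (u : V) : ω u 0 = 0 := by rw [sympForm, mulVec_zero, dotProduct_zero]

theorem f_inl (u : V) (i : Fin m) : ω u (Pi.single (.inl i) 1) = u (.inr i) := by
  rw [f_apply, Finset.sum_eq_single i (fun j _ hj => by simp [hj]) (by simp)]
  simp

theorem f_inr (u : V) (i : Fin m) : ω u (Pi.single (.inr i) 1) = -u (.inl i) := by
  rw [f_apply, Finset.sum_eq_single i (fun j _ hj => by simp [hj]) (by simp)]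
  simp

theorem eq_zero_of_f (u : V) (h : ∀ v, ω u v = 0) : u = 0 := by
  funext j
  rcases j with i | i
  · simpa [f_inr] using h (Pi.single (.inr i) 1)
  · simpa [f_inl] using h (Pi.single (.inl i) 1)

theorem mem_iff_f {A : Matrix (Fin m ⊕ Fin m) (Fin m ⊕ Fin m) F} :
    A ∈ G ↔ ∀ u v, ω (A *ᵥ u) (A *ᵥ v) = ω u v := by
  rw [SymplecticGroup.mem_iff']
  have h : ∀ u v, ω (A *ᵥ u) (A *ᵥ v) = u ⬝ᵥ ((Aᵀ * J (Fin m) F * A) *ᵥ v) := fun u v => by
    rw [sympForm, ← mulVec_mulVec, ← mulVec_mulVec, Matrix.dotProduct_mulVec u Aᵀ, vecMul_transpose]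
  constructor
  · intro hA u v
    rw [h, hA, sympForm]
  · intro hA
    ext i j
    have h' := hA (Pi.single i 1) (Pi.single j 1)
    rw [h, sympForm] at h'
    simpa using h'

theorem f_app (g : G) (u v : V) : ω (app g u) (app g v) = ω u v := mem_iff_f.1 g.2 u v

theorem transvection_mulVec (v : V) (c : F) (x : V) :
    sympTransvection m v c *ᵥ x = x + (c * ω x v) • v := by
  rw [sympTransvection, add_mulVec, one_mulVec, smul_mulVec, vecMulVec_mulVec, dotProduct_comm,
    sympForm]
  congr 1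
  ext i
  simp [mul_comm, mul_left_comm]

theorem transvection_mem (v : V) (c : F) : sympTransvection m v c ∈ G := by
  refine mem_iff_f.2 fun a b => ?_
  rw [transvection_mulVec, transvection_mulVec]
  simp only [f_add_left, f_add_right, f_smul_left, f_smul_right, f_self, f_swap b v]
  ring

/-- The transvection `x ↦ x + c f(x, v) v` as an element of the group. -/
def T (v : V) (c : F) : G := ⟨sympTransvection m v c, transvection_mem v c⟩

theorem app_T (v : V) (c : F) (x : V) : app (T v c) x = x + (c * ω x v) • v :=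
  transvection_mulVec v c x

theorem T_mul (v : V) (c d : F) : T v c * T v d = T v (c + d) := by
  refine ext_app fun x => ?_
  rw [app_mul, app_T, app_T, app_T, f_add_left, f_smul_left, f_self]
  module

theorem T_zero (v : V) : T v (0 : F) = 1 := ext_app fun x => by
  rw [app_T, app_one, zero_mul, zero_smul, add_zero]

theorem T_zero' (c : F) : T (0 : V) c = 1 := ext_app fun x => by
  rw [app_T, app_one, smul_zero, add_zero]

theorem T_smul (v : V) (a c : F) : T (a • v) c = T v (a * a * c) := ext_app fun x => by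
  rw [app_T, app_T, f_smul_right, smul_smul]
  congr 2
  ring

theorem conj_T (g : G) (v : V) (c : F) : g * T v c * g⁻¹ = T (app g v) c := by
  refine ext_app fun x => ?_
  rw [app_mul, app_mul, app_T, app_T, app_add, app_smul, app_inv']
  congr 3
  conv_rhs => rw [← app_inv' g x, f_app]

/-- The subgroup generated by the transvections with centre in `W`. -/
def gen (W : Set V) : Subgroup G := Subgroup.closure {A | ∃ v ∈ W, ∃ c : F, A = T v c}

theorem T_mem_gen {W : Set V} {v : V} (hv : v ∈ W) (c : F) : T v c ∈ gen W :=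
  Subgroup.subset_closure ⟨v, hv, c, rfl⟩

theorem gen_mono {W W' : Set V} (h : W ⊆ W') : gen W ≤ gen W' :=
  Subgroup.closure_mono fun _ ⟨v, hv, hc⟩ => ⟨v, h hv, hc⟩

theorem gen_fix {W : Set V} {p : V} (hp : ∀ v ∈ W, ω p v = 0) {g : G} (hg : g ∈ gen W) :
    app g p = p := by
  induction hg using Subgroup.closure_induction with
  | mem x hx =>
    obtain ⟨v, hv, c, rfl⟩ := hx
    rw [app_T, hp v hv, mul_zero, zero_smul, add_zero]
  | one => exact app_one p
  | mul x y _ _ hx hy => rw [app_mul, hy, hx]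
  | inv x _ hx => conv_lhs => rw [← hx, app_inv]

/-- The coordinates below `k` vanish. -/
def W (k : ℕ) : Submodule F V where
  carrier := {x | ∀ i : Fin m, (i : ℕ) < k → x (.inl i) = 0 ∧ x (.inr i) = 0}
  add_mem' {a b} ha hb i hi := by simp [(ha i hi).1, (ha i hi).2, (hb i hi).1, (hb i hi).2]
  zero_mem' := fun i _ => ⟨rfl, rfl⟩
  smul_mem' c x hx i hi := by simp [(hx i hi).1, (hx i hi).2]

theorem mem_W_zero (x : V) : x ∈ W (F := F) (m := m) 0 := fun _ h => absurd h (Nat.not_lt_zero _)

/-- Forget the coordinates below `k`. -/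
def cut (k : ℕ) (x : V) : V :=
  Sum.elim (fun i => if (i : ℕ) < k then 0 else x (.inl i))
    (fun i => if (i : ℕ) < k then 0 else x (.inr i))

theorem cut_mem (k : ℕ) (x : V) : cut k x ∈ W k := fun i hi => by simp [cut, hi]

theorem f_cut {k : ℕ} {u : V} (hu : u ∈ W k) (x : V) : ω u (cut k x) = ω u x := by
  rw [f_apply, f_apply]
  refine Finset.sum_congr rfl fun i _ => ?_
  by_cases hi : (i : ℕ) < k
  · simp [(hu i hi).1, (hu i hi).2]
  · simp [cut, hi]

theorem exists_f_ne {k : ℕ} {u : V} (hu : u ∈ W k) (hu0 : u ≠ 0) : ∃ z ∈ W k, ω u z ≠ 0 := by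
  by_contra hc
  push Not at hc
  exact hu0 (eq_zero_of_f u fun v => by rw [← f_cut hu]; exact hc _ (cut_mem k v))

theorem exists_ne_pair {a b : V → F} (P : Submodule F V)
    (ha : ∀ x y, a (x + y) = a x + a y) (hb : ∀ x y, b (x + y) = b x + b y)
    (h1 : ∃ z ∈ P, a z ≠ 0) (h2 : ∃ z ∈ P, b z ≠ 0) : ∃ z ∈ P, a z ≠ 0 ∧ b z ≠ 0 := by
  obtain ⟨z₁, hz₁, h₁⟩ := h1
  obtain ⟨z₂, hz₂, h₂⟩ := h2
  by_cases h : b z₁ = 0
  · by_cases h' : a z₂ = 0
    · exact ⟨z₁ + z₂, P.add_mem hz₁ hz₂, by rw [ha, h', add_zero]; exact h₁,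
        by rw [hb, h, zero_add]; exact h₂⟩
    · exact ⟨z₂, hz₂, h', h₂⟩
  · exact ⟨z₁, hz₁, h₁, h⟩

theorem T_diff {u w : V} (h : ω u w ≠ 0) : app (T (w - u) (ω u w)⁻¹) u = w := by
  rw [app_T, f_sub_right, f_self, sub_zero, inv_mul_cancel₀ h, one_smul, add_sub_cancel]

theorem exists_move {k : ℕ} {u w : V} (hu : u ∈ W k) (hw : w ∈ W k) (hu0 : u ≠ 0) (hw0 : w ≠ 0) :
    ∃ g ∈ gen ((W k : Submodule F V) : Set V), app g u = w := by
  have step : ∀ a b : V, a ∈ W k → b ∈ W k → ω a b ≠ 0 → ∃ g ∈ gen ((W k : Submodule F V) : Set V), app g a = b :=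
    fun a b ha hb h => ⟨T (b - a) (ω a b)⁻¹,
      T_mem_gen (W := ((W k : Submodule F V) : Set V))
        (show b - a ∈ W (F := F) (m := m) k from Submodule.sub_mem _ hb ha) _, T_diff h⟩
  obtain ⟨z, hz, h1, h2⟩ := exists_ne_pair (W k) (f_add_right u) (f_add_right w)
    (exists_f_ne hu hu0) (exists_f_ne hw hw0)
  obtain ⟨g, hg, hgu⟩ := step u z hu hz h1
  obtain ⟨g', hg', hgz⟩ := step z w hz hw (by rw [f_swap]; exact neg_ne_zero.2 h2)
  exact ⟨g' * g, mul_mem hg' hg, by rw [app_mul, hgu, hgz]⟩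

theorem exists_move_partner {k : ℕ} {u v v' : V} (hu : u ∈ W k) (hv : v ∈ W k) (hv' : v' ∈ W k)
    (h : ω u v = 1) (h' : ω u v' = 1) :
    ∃ g ∈ gen ((W k : Submodule F V) : Set V), app g u = u ∧ app g v = v' := by
  have step : ∀ a b : V, a ∈ W k → b ∈ W k → ω u a = 1 → ω u b = 1 → ω a b ≠ 0 →
      ∃ g ∈ gen ((W k : Submodule F V) : Set V), app g u = u ∧ app g a = b := fun a b ha hb ea eb hab => by
    refine ⟨T (b - a) (ω a b)⁻¹,
      T_mem_gen (W := ((W k : Submodule F V) : Set V))
        (show b - a ∈ W (F := F) (m := m) k from Submodule.sub_mem _ hb ha) _, ?_, T_diff hab⟩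
    rw [app_T, f_sub_right, ea, eb, sub_self, mul_zero, zero_smul, add_zero]
  by_cases hvv : ω v v' = 0
  · have h2 : ω u (v + u) = 1 := by rw [f_add_right, h, f_self, add_zero]
    obtain ⟨g, hg, hgu, hgv⟩ := step v (v + u) hv ((W k).add_mem hv hu) h h2 (by
      rw [f_add_right, f_self, f_swap u v, h, zero_add]; exact neg_ne_zero.2 one_ne_zero)
    obtain ⟨g', hg', hgu', hgv'⟩ := step (v + u) v' ((W k).add_mem hv hu) hv' h2 h' (by
      rw [f_add_left, hvv, h', zero_add]; exact one_ne_zero)
    exact ⟨g' * g, mul_mem hg' hg, by rw [app_mul, hgu, hgu'], by rw [app_mul, hgv, hgv']⟩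
  · exact step v v' hv hv' h h' hvv

theorem exists_move_pair {k : ℕ} {u v u' v' : V} (hu : u ∈ W k) (hv : v ∈ W k) (hu' : u' ∈ W k)
    (hv' : v' ∈ W k) (h : ω u v = 1) (h' : ω u' v' = 1) :
    ∃ g ∈ gen ((W k : Submodule F V) : Set V), app g u = u' ∧ app g v = v' := by
  have ne0 : ∀ a b : V, ω a b = 1 → a ≠ 0 := fun a b e h0 => one_ne_zero (α := F) <| by
    rw [← e, h0, f_zero_left]
  obtain ⟨g, hg, hgu⟩ := exists_move hu hu' (ne0 u v h) (ne0 u' v' h')
  have hgW : ∀ {g : G}, g ∈ gen ((W k : Submodule F V) : Set V) → ∀ x ∈ W k, app g x ∈ W k := by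
    intro g hg
    induction hg using Subgroup.closure_induction_left with
    | one => intro x hx; rwa [app_one]
    | mul_left a ha b _ ih =>
      obtain ⟨w, hw, c, rfl⟩ := ha
      intro x hx
      rw [app_mul, app_T]
      exact (W k).add_mem (ih x hx) ((W k).smul_mem _ hw)
    | inv_mul_cancel a ha b _ ih =>
      obtain ⟨w, hw, c, rfl⟩ := ha
      intro x hx
      rw [app_mul, inv_eq_of_mul_eq_one_right (by rw [T_mul, add_neg_cancel, T_zero] :
        T w c * T w (-c) = 1), app_T]
      exact (W k).add_mem (ih x hx) ((W k).smul_mem _ hw)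
  obtain ⟨g', hg', hgu', hgv'⟩ := exists_move_partner (v' := v') hu' (hgW hg v hv) hv'
    (by rw [← hgu, f_app, h]) h'
  exact ⟨g' * g, mul_mem hg' hg, by rw [app_mul, hgu, hgu'], by rw [app_mul, hgv']⟩

theorem exists_fix_basis (g : G) :
    ∀ k ≤ m, ∃ h ∈ gen (Set.univ : Set V), ∀ i : Fin m, (i : ℕ) < k →
      app (h * g) (Pi.single (.inl i) 1) = Pi.single (.inl i) 1 ∧
      app (h * g) (Pi.single (.inr i) 1) = Pi.single (.inr i) 1 := by
  intro k
  induction k with
  | zero => exact fun _ => ⟨1, one_mem _, fun i hi => absurd hi (Nat.not_lt_zero _)⟩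
  | succ k ih =>
    intro hk
    obtain ⟨h, hh, hfix⟩ := ih (by omega)
    set i₀ : Fin m := ⟨k, by omega⟩
    have he : ∀ j : Fin m ⊕ Fin m, Sum.elim id id j = i₀ → (Pi.single j (1 : F) : V) ∈ W k := by
      intro j hj i hi
      have hne : i ≠ i₀ := fun e => by subst e; exact lt_irrefl k hi
      constructor <;>
      · refine Pi.single_eq_of_ne (fun e => hne ?_) _
        subst e
        exact hj
    have hWimg : ∀ x ∈ W k, app (h * g) x ∈ W k := by
      intro x hx i hi
      obtain ⟨e1, e2⟩ := hfix i hi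
      constructor
      · have h3 := f_app (h * g) x (Pi.single (.inr i) 1)
        rw [e2, f_inr, f_inr, (hx i hi).1] at h3
        simpa using h3
      · have h3 := f_app (h * g) x (Pi.single (.inl i) 1)
        rw [e1, f_inl, f_inl, (hx i hi).2] at h3
        exact h3
    obtain ⟨g', hg', h1, h2⟩ := exists_move_pair (k := k)
      (u := app (h * g) (Pi.single (.inr i₀) 1)) (v := app (h * g) (Pi.single (.inl i₀) 1))
      (u' := Pi.single (.inr i₀) 1) (v' := Pi.single (.inl i₀) 1)
      (hWimg _ (he _ rfl)) (hWimg _ (he _ rfl)) (he _ rfl) (he _ rfl)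
      (by rw [f_app, f_inl]; simp) (by rw [f_inl]; simp)
    refine ⟨g' * h, mul_mem (gen_mono (Set.subset_univ _) hg') hh, fun i hi => ?_⟩
    rw [mul_assoc, app_mul g', app_mul g']
    rcases Nat.lt_succ_iff_lt_or_eq.1 hi with hi | hi
    · obtain ⟨e1, e2⟩ := hfix i hi
      rw [e1, e2]
      refine ⟨gen_fix (fun w hw => ?_) hg', gen_fix (fun w hw => ?_) hg'⟩
      · rw [f_swap, f_inl, (hw i hi).2, neg_zero]
      · rw [f_swap, f_inr, (hw i hi).1, neg_zero, neg_zero]
    · obtain rfl : i = i₀ := Fin.ext hi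
      exact ⟨h2, h1⟩

/-- The symplectic group is generated by transvections. -/
theorem gen_univ : gen (Set.univ : Set V) = ⊤ := by
  refine (Subgroup.eq_top_iff' _).2 fun g => ?_
  obtain ⟨h, hh, hfix⟩ := exists_fix_basis g m le_rfl
  have h1 : h * g = 1 := Subtype.ext <| Matrix.ext_of_mulVec_single fun j => by
    rcases j with i | i
    · exact ((hfix i i.2).1).trans (one_mulVec _).symm
    · exact ((hfix i i.2).2).trans (one_mulVec _).symm
  rw [eq_inv_of_mul_eq_one_right h1]
  exact inv_mem hh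

theorem exists_app_eq {v w : V} (hv : v ≠ 0) (hw : w ≠ 0) : ∃ g : G, app g v = w :=
  let ⟨g, _, hg⟩ := exists_move (mem_W_zero v) (mem_W_zero w) hv hw
  ⟨g, hg⟩

/-- The vectors orthogonal to `u`. -/
def perp (u : V) : Submodule F V where
  carrier := {x | ω u x = 0}
  add_mem' := fun {a b} ha hb => by
    show ω u (a + b) = 0
    rw [f_add_right, show ω u a = 0 from ha, show ω u b = 0 from hb, add_zero]
  zero_mem' := f_zero_right u
  smul_mem' := fun c x hx => by
    show ω u (c • x) = 0
    rw [f_smul_right, show ω u x = 0 from hx, mul_zero]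

theorem exists_perp_f_ne {u a : V} (ha : ∀ c : F, a ≠ c • u) : ∃ z ∈ perp u, ω a z ≠ 0 := by
  by_contra hc
  push Not at hc
  by_cases hu : u = 0
  · refine ha 0 ?_
    rw [zero_smul]
    refine eq_zero_of_f a fun z => hc z ?_
    show ω u z = 0
    rw [hu, f_zero_left]
  obtain ⟨z₀, hz₀⟩ : ∃ z, ω u z ≠ 0 := by
    by_contra hc'
    push Not at hc'
    exact hu (eq_zero_of_f u hc')
  refine ha (ω a z₀ / ω u z₀) (sub_eq_zero.1 (eq_zero_of_f _ fun z => ?_))
  have h1 := hc (z - (ω u z / ω u z₀) • z₀) (by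
    show ω u _ = 0
    rw [f_sub_right, f_smul_right, div_mul_cancel₀ _ hz₀, sub_self])
  rw [f_sub_right, f_smul_right] at h1
  rw [f_sub_left, f_smul_left]
  linear_combination h1

/-- The stabiliser of `u` is transitive on the vectors orthogonal to and independent of `u`. -/
theorem exists_move_perp {u w w' : V} (hw : ω u w = 0) (hw' : ω u w' = 0)
    (hi : ∀ a : F, w ≠ a • u) (hi' : ∀ a : F, w' ≠ a • u) :
    ∃ g : G, app g u = u ∧ app g w = w' := by
  have step : ∀ a b : V, ω u a = 0 → ω u b = 0 → ω a b ≠ 0 →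
      ∃ g : G, app g u = u ∧ app g a = b := fun a b ea eb hab =>
    ⟨_, by rw [app_T, f_sub_right, ea, eb, sub_self, mul_zero, zero_smul, add_zero], T_diff hab⟩
  obtain ⟨z, hz, h1, h2⟩ :=
    exists_ne_pair (perp u) (f_add_right w) (f_add_right w') (exists_perp_f_ne hi) (exists_perp_f_ne hi')
  obtain ⟨g, hgu, hgw⟩ := step w z hw hz h1
  obtain ⟨g', hgu', hgw'⟩ := step z w' hz hw' (by rw [f_swap]; exact neg_ne_zero.2 h2)
  exact ⟨g' * g, by rw [app_mul, hgu, hgu'], by rw [app_mul, hgw, hgw']⟩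

/-- The symplectic group inside the general linear group. -/
def toSpGL : G →* spGL m F :=
  MonoidHom.codRestrict ((Units.map (Submonoid.subtype (symplecticGroup (Fin m) F))).comp
    toUnits.toMonoidHom) _ fun g => f_app g

theorem toSpGL_coe (g : G) :
    ((toSpGL g : GL (Fin m ⊕ Fin m) F) : Matrix (Fin m ⊕ Fin m) (Fin m ⊕ Fin m) F) = g := rfl

theorem smul_eq_app (g : G) (x : V) : toSpGL g • x = app g x := rfl

theorem smul_point (g : G) (x : V) (hx : x ≠ 0) :
    toSpGL g • Projectivization.mk F x hx = Projectivization.mk F (app g x) (app_ne_zero g hx) := rfl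

theorem toSpGL_surjective : Function.Surjective (toSpGL (F := F) (m := m)) := fun g =>
  ⟨⟨_, mem_iff_f.2 g.2⟩, Subtype.ext (Units.ext rfl)⟩

theorem toSpGL_injective : Function.Injective (toSpGL (F := F) (m := m)) := fun g h e =>
  Subtype.ext (congrArg (fun x : spGL m F =>
    ((x : GL (Fin m ⊕ Fin m) F) : Matrix (Fin m ⊕ Fin m) (Fin m ⊕ Fin m) F)) e)

theorem isPretransitive : MulAction.IsPretransitive (spGL m F) (ℙ F V) := by
  refine ⟨fun P Q => ?_⟩
  induction P using Projectivization.ind with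
  | h v hv =>
    induction Q using Projectivization.ind with
    | h w hw =>
      obtain ⟨g, hg⟩ := exists_app_eq hv hw
      refine ⟨toSpGL g, ?_⟩
      rw [smul_point, Projectivization.mk_eq_mk_iff']
      exact ⟨1, by rw [hg, one_smul]⟩

/-- The symplectic group is primitive on points. -/
theorem isPreprimitive : MulAction.IsPreprimitive (spGL m F) (ℙ F V) := by
  have := isPretransitive (F := F) (m := m)
  refine { isTrivialBlock_of_isBlock := fun {B} hB => ?_ }
  rcases B.subsingleton_or_nontrivial with h | ⟨p, hp, q, hq, hpq⟩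
  · exact Or.inl h
  refine Or.inr (Set.eq_univ_of_forall fun X => ?_)
  -- a vector fixing move keeps the block
  have hmove : ∀ (b y : V) (hb : b ≠ 0) (hy : y ≠ 0) (y' : V) (hy' : y' ≠ 0),
      Projectivization.mk F b hb ∈ B → Projectivization.mk F y hy ∈ B →
      (∃ g : G, app g b = b ∧ app g y = y') → Projectivization.mk F y' hy' ∈ B := by
    intro b y hb hy y' hy' hbB hyB ⟨g, hgb, hgy⟩
    have hfix : toSpGL g • B = B := hB.smul_eq_of_mem hbB (by
      have h1 : toSpGL g • Projectivization.mk F b hb = Projectivization.mk F b hb := by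
        rw [smul_point, Projectivization.mk_eq_mk_iff']
        exact ⟨1, by rw [hgb, one_smul]⟩
      rw [h1]
      exact hbB)
    rw [← hfix]
    refine ⟨_, hyB, ?_⟩
    show toSpGL g • Projectivization.mk F y hy = _
    rw [smul_point, Projectivization.mk_eq_mk_iff']
    exact ⟨1, by rw [hgy, one_smul]⟩
  have hscale : ∀ (b : V) (hb : b ≠ 0) (c : F) (hcb : c • b ≠ 0),
      Projectivization.mk F b hb ∈ B → Projectivization.mk F (c • b) hcb ∈ B := by
    intro b hb c hcb hB'
    rwa [(Projectivization.mk_eq_mk_iff' F (c • b) b hcb hb).2 ⟨c, rfl⟩]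
  -- from a non-orthogonal pair in the block
  have hnp : ∀ (b y : V) (hb : b ≠ 0) (hy : y ≠ 0) (y' : V) (hy' : y' ≠ 0),
      Projectivization.mk F b hb ∈ B → Projectivization.mk F y hy ∈ B → ω b y ≠ 0 → ω b y' ≠ 0 →
      Projectivization.mk F y' hy' ∈ B := by
    intro b y hb hy y' hy' hbB hyB h1 h2
    have n1 : (ω b y)⁻¹ • y ≠ 0 := smul_ne_zero (inv_ne_zero h1) hy
    have n2 : (ω b y')⁻¹ • y' ≠ 0 := smul_ne_zero (inv_ne_zero h2) hy'
    obtain ⟨g, -, hgb, hgy⟩ := exists_move_partner (mem_W_zero b) (mem_W_zero ((ω b y)⁻¹ • y))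
      (mem_W_zero ((ω b y')⁻¹ • y')) (by rw [f_smul_right, inv_mul_cancel₀ h1])
      (by rw [f_smul_right, inv_mul_cancel₀ h2])
    have h3 := hmove b _ hb n1 _ n2 hbB (hscale y hy _ n1 hyB) ⟨g, hgb, hgy⟩
    rwa [(Projectivization.mk_eq_mk_iff' F _ y' n2 hy').2 ⟨_, rfl⟩] at h3
  obtain ⟨b, y, hb, hy, hbB, hyB, hby⟩ : ∃ (b y : V) (hb : b ≠ 0) (hy : y ≠ 0),
      Projectivization.mk F b hb ∈ B ∧ Projectivization.mk F y hy ∈ B ∧ ω b y ≠ 0 := by
    induction p using Projectivization.ind with
    | h u hu =>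
      induction q using Projectivization.ind with
      | h w hw =>
        by_cases huw : ω u w = 0
        swap
        · exact ⟨u, w, hu, hw, hp, hq, huw⟩
        have hi : ∀ a : F, w ≠ a • u := fun a ha =>
          hpq ((Projectivization.mk_eq_mk_iff' F w u hw hu).2 ⟨a, ha.symm⟩).symm
        obtain ⟨z, hz, hwz⟩ := exists_perp_f_ne hi
        have hz0 : z ≠ 0 := fun h0 => hwz (by rw [h0, f_zero_right])
        refine ⟨w, z, hw, hz0, hq, ?_, hwz⟩
        refine hmove u w hu hw z hz0 hp hq (exists_move_perp huw hz hi fun a ha => hwz ?_)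
        rw [ha, f_smul_right, f_swap u w, huw, neg_zero, mul_zero]
  induction X using Projectivization.ind with
  | h x hx =>
    obtain ⟨z, -, h1, h2⟩ := exists_ne_pair (W 0) (f_add_right b) (f_add_right x)
      (exists_f_ne (mem_W_zero b) hb) (exists_f_ne (mem_W_zero x) hx)
    have hz0 : z ≠ 0 := fun h0 => h1 (by rw [h0, f_zero_right])
    exact hnp z b hz0 hb x hx (hnp b y hb hy z hz0 hbB hyB hby h1) hbB
      (by rw [f_swap]; exact neg_ne_zero.2 h1) (by rw [f_swap]; exact neg_ne_zero.2 h2)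

theorem of_T_eq_one_of_four_le (h : ∃ a : F, a ≠ 0 ∧ a * a ≠ 1) (v : V) (c : F) :
    Abelianization.of (T v c) = 1 := by
  obtain ⟨a, ha, ha1⟩ := h
  by_cases hv : v = 0
  · rw [hv, T_zero', map_one]
  set d := c / (a * a - 1)
  obtain ⟨g, hg⟩ := exists_app_eq (m := m) hv (smul_ne_zero ha hv)
  have h1 := congrArg Abelianization.of (conj_T g v d)
  rw [map_mul, map_mul, map_inv, mul_right_comm, mul_inv_cancel, one_mul, hg, T_smul] at h1
  have h2 : T v (a * a * d) = T v d * T v c := by
    rw [T_mul]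
    congr 1
    have : a * a - 1 ≠ 0 := sub_ne_zero.2 ha1
    show a * a * (c / (a * a - 1)) = c / (a * a - 1) + c
    rw [mul_div_assoc', div_add' _ _ _ this]
    ring
  rw [h2, map_mul] at h1
  exact mul_eq_left.1 h1.symm

/-- The class of a transvection in the abelianisation does not depend on the centre. -/
theorem of_T_congr {v w : V} (hv : v ≠ 0) (hw : w ≠ 0) (c : F) :
    Abelianization.of (T v c) = Abelianization.of (T w c) := by
  obtain ⟨g, hg⟩ := exists_app_eq hv hw
  rw [← hg, ← conj_T, map_mul, map_mul, map_inv, mul_right_comm, mul_inv_cancel, one_mul]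

theorem of_T_sq {v w : V} (hv : v ≠ 0) (hvw : ω v w = 0) (hi : ∀ a : F, w ≠ a • v) (c : F) :
    Abelianization.of (T v c) * Abelianization.of (T v c) = 1 := by
  have hw : w ≠ 0 := fun h => hi 0 (by rw [h, zero_smul])
  have ha : v + w ≠ 0 := fun h => hi (-1) (by rw [neg_one_smul]; exact eq_neg_of_add_eq_zero_right h)
  have hb : v - w ≠ 0 := fun h => hi 1 (by rw [one_smul]; exact (sub_eq_zero.1 h).symm)
  have hwv : ω w v = 0 := by rw [f_swap, hvw, neg_zero]
  have key : T (v + w) c * T (v - w) c = T v (c + c) * T w (c + c) := by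
    refine ext_app fun x => ?_
    simp only [app_mul, app_T, f_add_left, f_sub_left, f_smul_left, f_add_right, f_sub_right,
      f_self, hvw, hwv, mul_zero, add_zero, sub_zero]
    module
  have h2 := congrArg Abelianization.of key
  rw [← T_mul, ← T_mul, map_mul, map_mul, map_mul, map_mul, of_T_congr ha hv, of_T_congr hb hv,
    of_T_congr hw hv] at h2
  exact mul_eq_left.1 h2.symm

theorem exists_iso_pair (hm : 2 ≤ m) : ∃ v w : V, v ≠ 0 ∧ ω v w = 0 ∧ ∀ a : F, w ≠ a • v := by
  refine ⟨Pi.single (.inl ⟨0, by omega⟩) 1, Pi.single (.inl ⟨1, by omega⟩) 1, by simp, ?_,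
    fun a h => ?_⟩
  · rw [f_inl]; simp
  · simpa [Pi.single_apply, Fin.ext_iff] using congrFun h (.inl ⟨1, by omega⟩)

theorem of_T_eq_one_three (h2 : (2 : F) = 0) (hm : 3 ≤ m) (v : V) (c : F) :
    Abelianization.of (T v c) = 1 := by
  by_cases hv : v = 0
  · rw [hv, T_zero', map_one]
  set a : V := Pi.single (.inl ⟨0, by omega⟩) 1 with ha
  set b : V := Pi.single (.inl ⟨1, by omega⟩) 1 with hb
  set d : V := Pi.single (.inl ⟨2, by omega⟩) 1 with hd
  obtain ⟨hab, hba, had, hda, hbd, hdb⟩ : ω a b = 0 ∧ ω b a = 0 ∧ ω a d = 0 ∧ ω d a = 0 ∧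
      ω b d = 0 ∧ ω d b = 0 := by
    refine ⟨?_, ?_, ?_, ?_, ?_, ?_⟩ <;> rw [f_inl] <;> simp [a, b, d]
  have key : T a c * T b c * T d c * T (a + b) c * T (a + d) c * T (b + d) c * T (a + b + d) c = 1 := by
    refine ext_app fun x => ?_
    simp only [app_mul, app_T, app_one, f_add_left, f_smul_left, f_add_right, f_self, hab, hba, had,
      hda, hbd, hdb, mul_zero, add_zero]
    have hy2 : ∀ y : F, y * 2 = 0 := fun y => by rw [h2, mul_zero]
    have hy4 : ∀ y : F, y * 4 = 0 := fun y => by rw [show (4 : F) = 2 * 2 by norm_num, h2, mul_zero, mul_zero]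
    match_scalars <;> ring_nf <;> simp [hy2, hy4]
  have hne : ∀ i j : V, (∃ k, i k + j k ≠ 0) → i + j ≠ 0 := fun i j ⟨k, hk⟩ h =>
    hk (congrFun h k)
  have h3 := congrArg Abelianization.of key
  have nab : a + b ≠ 0 := hne _ _ ⟨.inl ⟨0, by omega⟩, by simp [a, b]⟩
  have nad : a + d ≠ 0 := hne _ _ ⟨.inl ⟨0, by omega⟩, by simp [a, d]⟩
  have nbd : b + d ≠ 0 := hne _ _ ⟨.inl ⟨1, by omega⟩, by simp [b, d]⟩
  have nabd : a + b + d ≠ 0 := hne _ _ ⟨.inl ⟨0, by omega⟩, by simp [a, b, d]⟩
  have na : a ≠ 0 := by simp [a]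
  have nb : b ≠ 0 := by simp [b]
  have nd : d ≠ 0 := by simp [d]
  simp only [map_mul, map_one, of_T_congr na hv, of_T_congr nb hv, of_T_congr nd hv,
    of_T_congr nab hv, of_T_congr nad hv, of_T_congr nbd hv, of_T_congr nabd hv] at h3
  have hsq : Abelianization.of (T v c) * Abelianization.of (T v c) = 1 := by
    rw [← map_mul, T_mul, show c + c = 2 * c by ring, h2, zero_mul, T_zero, map_one]
  simpa [mul_assoc, hsq] using h3

theorem commutator_eq_top_of (h : ∀ (v : V) (c : F), Abelianization.of (T v c) = 1) :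
    commutator G = ⊤ := by
  rw [eq_top_iff, ← gen_univ, gen, Subgroup.closure_le]
  rintro _ ⟨v, -, c, rfl⟩
  rw [SetLike.mem_coe, ← Abelianization.ker_of]
  exact h v c

/-- Perfectness outside the small cases. -/
theorem commutator_eq_top (h : (∃ a : F, a ≠ 0 ∧ a * a ≠ 1) ∨ (2 ≤ m ∧ (2 : F) ≠ 0) ∨
    (3 ≤ m ∧ (2 : F) = 0)) : commutator G = ⊤ := by
  refine commutator_eq_top_of fun v c => ?_
  rcases h with h | ⟨hm, h2⟩ | ⟨hm, h2⟩
  · exact of_T_eq_one_of_four_le h v c
  · by_cases h4 : ∃ a : F, a ≠ 0 ∧ a * a ≠ 1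
    · exact of_T_eq_one_of_four_le h4 v c
    push Not at h4
    have h3 : (3 : F) = 0 := by linear_combination h4 2 h2
    obtain ⟨a, b, ha, hab, hi⟩ := exists_iso_pair (F := F) hm
    by_cases hv : v = 0
    · rw [hv, T_zero', map_one]
    have e := of_T_sq ha hab hi (-c)
    rw [← map_mul, T_mul, show -c + -c = c by linear_combination (-c) * h3] at e
    rw [of_T_congr hv ha]
    exact e
  · exact of_T_eq_one_three h2 hm v c

theorem commutator_of_card [Finite F] (h : 3 ≤ m ∨ (m = 2 ∧ 3 ≤ Nat.card F) ∨ 4 ≤ Nat.card F) :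
    commutator G = ⊤ := by
  classical
  cases nonempty_fintype F
  have h4 : 4 ≤ Nat.card F → ∃ a : F, a ≠ 0 ∧ a * a ≠ 1 := by
    intro h4
    by_contra hc
    push Not at hc
    have hsub : (Finset.univ : Finset F) ⊆ {0, 1, -1} := fun a _ => by
      by_cases ha : a = 0
      · simp [ha]
      · rcases mul_self_eq_one_iff.1 (hc a ha) with e | e <;> simp [e]
    have := (Finset.card_le_card hsub).trans Finset.card_le_three
    rw [Finset.card_univ, ← Nat.card_eq_fintype_card] at this
    omega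
  by_cases h4' : 4 ≤ Nat.card F
  · exact commutator_eq_top (Or.inl (h4 h4'))
  by_cases h2 : (2 : F) = 0
  · refine commutator_eq_top (Or.inr (Or.inr ⟨?_, h2⟩))
    by_contra hm
    have hq : Nat.card F = 3 := by omega
    have hdvd : ringChar F ∣ 2 := (ringChar.spec F 2).1 (by simpa using h2)
    have := Fact.mk (CharP.char_is_prime F (ringChar F))
    have hp : ringChar F = 2 := (Nat.prime_dvd_prime_iff_eq Fact.out Nat.prime_two).1 hdvd
    obtain ⟨n, -, hn⟩ := FiniteField.card F (ringChar F)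
    rw [← Nat.card_eq_fintype_card, hq, hp] at hn
    have h5 : 2 ∣ 3 := hn ▸ dvd_pow_self 2 n.ne_zero
    omega
  · exact commutator_eq_top (Or.inr (Or.inl ⟨by omega, h2⟩))

variable (F m) in
/-- Root subgroup of a point. -/
def rootGroup (P : ℙ F V) : Subgroup (spGL m F) :=
  Subgroup.closure {A | ∃ c : F, A = toSpGL (T P.rep c)}

theorem T_mem_rootGroup (v : V) (hv : v ≠ 0) (c : F) :
    toSpGL (T v c) ∈ rootGroup F m (Projectivization.mk F v hv) := by
  obtain ⟨a, ha⟩ := Projectivization.exists_smul_eq_mk_rep F v hv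
  refine Subgroup.subset_closure ⟨c * ((a : F) * a)⁻¹, ?_⟩
  rw [← ha, Units.smul_def, T_smul]
  congr 2
  field_simp

/-- The Iwasawa structure. -/
def iwasawa : MulAction.IwasawaStructure (spGL m F) (ℙ F V) where
  T := rootGroup F m
  is_comm P := Subgroup.isMulCommutative_closure fun a ⟨c, hc⟩ b ⟨d, hd⟩ => by
    rw [hc, hd, ← map_mul, ← map_mul, T_mul, T_mul, add_comm]
  is_conj g P := by
    obtain ⟨g, rfl⟩ := toSpGL_surjective g
    have hrep : app g P.rep ≠ 0 := app_ne_zero g P.rep_nonzero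
    have hP : toSpGL g • P = Projectivization.mk F (app g P.rep) hrep := by
      conv_lhs => rw [← P.mk_rep]
      rfl
    apply le_antisymm
    · refine (Subgroup.closure_le _).2 ?_
      rintro _ ⟨c, rfl⟩
      obtain ⟨a, ha⟩ := Projectivization.exists_smul_eq_mk_rep F (app g P.rep) hrep
      rw [hP, ← ha, Units.smul_def, T_smul]
      refine ⟨toSpGL (T P.rep ((a : F) * a * c)), Subgroup.subset_closure ⟨_, rfl⟩, ?_⟩
      show toSpGL g * _ * (toSpGL g)⁻¹ = _
      rw [← map_inv, ← map_mul, ← map_mul, conj_T]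
    · rintro _ ⟨x, hx, rfl⟩
      show toSpGL g * x * (toSpGL g)⁻¹ ∈ _
      induction hx using Subgroup.closure_induction with
      | mem y hy =>
        obtain ⟨c, rfl⟩ := hy
        rw [← map_inv, ← map_mul, ← map_mul, conj_T, hP]
        exact T_mem_rootGroup _ _ _
      | one => rw [mul_one, mul_inv_cancel]; exact one_mem _
      | mul y z _ _ hy hz => rw [conj_mul.symm]; exact mul_mem hy hz
      | inv y _ hy => rw [← conj_inv]; exact inv_mem hy
  is_generator := by
    rw [eq_top_iff]
    intro g hg₀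
    clear hg₀
    obtain ⟨g, rfl⟩ := toSpGL_surjective g
    have hg : g ∈ gen (Set.univ : Set V) := by rw [gen_univ]; exact Subgroup.mem_top g
    induction hg using Subgroup.closure_induction with
    | mem x hx =>
      obtain ⟨v, -, c, rfl⟩ := hx
      by_cases hv : v = 0
      · rw [hv, T_zero', map_one]; exact one_mem _
      · exact Subgroup.mem_iSup_of_mem _ (T_mem_rootGroup v hv c)
    | one => rw [map_one]; exact one_mem _
    | mul x y _ _ hx hy => rw [map_mul]; exact mul_mem hx hy
    | inv x _ hx => rw [map_inv]; exact inv_mem hx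

/-- A normal subgroup is central or contains the commutator subgroup. -/
theorem commutator_le_or_le_center (N : Subgroup G) [N.Normal] :
    N ≤ Subgroup.center G ∨ commutator G ≤ N := by
  classical
  let e : G ≃* spGL m F := MulEquiv.ofBijective toSpGL ⟨toSpGL_injective, toSpGL_surjective⟩
  have := isPreprimitive (F := F) (m := m)
  set N' := N.map e.toMonoidHom
  have : N'.Normal := Subgroup.Normal.map inferInstance _ e.surjective
  by_cases hN : MulAction.fixedPoints N' (ℙ F V) = .univ
  · refine Or.inl fun n hn => Subgroup.mem_center_iff.2 fun g => ?_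
    -- a member fixes every point, so commutes with every transvection
    have hpt : ∀ v : V, ∃ a : F, app n v = a • v := by
      intro v
      by_cases hv : v = 0
      · exact ⟨0, by rw [hv, app, mulVec_zero, smul_zero]⟩
      have h := Set.eq_univ_iff_forall.1 hN (Projectivization.mk F v hv)
        ⟨e n, n, hn, rfl⟩
      change toSpGL n • Projectivization.mk F v hv = Projectivization.mk F v hv at h
      rw [smul_point, Projectivization.mk_eq_mk_iff'] at h
      obtain ⟨a, ha⟩ := h
      exact ⟨a, ha.symm⟩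
    have hg : g ∈ gen (Set.univ : Set V) := by rw [gen_univ]; exact Subgroup.mem_top g
    have hT : ∀ (v : V) (c : F), n * T v c = T v c * n := by
      intro v c
      obtain ⟨a, ha⟩ := hpt v
      refine mul_inv_eq_iff_eq_mul.1 ?_
      rw [conj_T, ha, T_smul]
      rcases eq_or_ne v 0 with rfl | hv
      · rw [T_zero', T_zero']
      congr 1
      -- the scalar at `v` squares to one
      obtain ⟨z, -, hz⟩ := exists_f_ne (mem_W_zero v) hv
      obtain ⟨b, hb⟩ := hpt z
      have h1 := f_app n v z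
      rw [ha, hb, f_smul_left, f_smul_right] at h1
      have hab : a * b = 1 := mul_right_cancel₀ hz (by rw [one_mul, mul_assoc]; exact h1)
      obtain ⟨d, hd⟩ := hpt (v + z)
      rw [app_add, ha, hb] at hd
      have h2 := congrArg (fun x => ω x z) hd
      have h3 := congrArg (fun x => ω v x) hd
      simp only [f_add_left, f_add_right, f_smul_left, f_smul_right, f_self, mul_zero, add_zero,
        zero_add, smul_add] at h2 h3
      have e1 : a = d := mul_right_cancel₀ hz h2
      have e2 : b = d := mul_right_cancel₀ hz h3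
      rw [e1]
      rw [e1, e2] at hab
      rw [hab, one_mul]
    induction hg using Subgroup.closure_induction with
    | mem x hx =>
      obtain ⟨v, -, c, rfl⟩ := hx
      exact (hT v c).symm
    | one => rw [one_mul, mul_one]
    | mul x y _ _ hx hy => rw [mul_assoc, hy, ← mul_assoc, hx, mul_assoc]
    | inv x _ hx => rw [inv_mul_eq_iff_eq_mul, ← mul_assoc, hx, mul_inv_cancel_right]
  · refine Or.inr ?_
    have h := iwasawa.commutator_le N' hN
    intro x hx
    have : e x ∈ commutator (spGL m F) := by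
      have h2 : Subgroup.map e.toMonoidHom (commutator G) ≤ commutator (spGL m F) := by
        rw [commutator_def, Subgroup.map_commutator]
        exact Subgroup.commutator_mono le_top le_top
      exact h2 ⟨x, hx, rfl⟩
    obtain ⟨y, hy, hyx⟩ := h this
    rwa [← e.injective hyx]

theorem T_notMem_center (hm : 1 ≤ m) :
    ∃ v : V, T v (1 : F) ∉ Subgroup.center G := by
  refine ⟨Pi.single (.inl ⟨0, hm⟩) 1, fun hc => ?_⟩
  have h := Subgroup.mem_center_iff.1 hc (T (Pi.single (.inr ⟨0, hm⟩) 1) 1)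
  have h1 := congrArg (fun g => app g (Pi.single (.inr ⟨0, hm⟩) (1 : F)) (.inr ⟨0, hm⟩)) h
  simp only [app_mul, app_T, f_add_left, f_smul_left, f_inl, f_inr, f_self] at h1
  simp at h1

/-- `PSp` is simple when `Sp` is perfect. -/
theorem isSimpleGroup (hm : 1 ≤ m) (hperf : commutator G = ⊤) : IsSimpleGroup (PSp m F) := by
  obtain ⟨v, hv⟩ := T_notMem_center (F := F) hm
  have hne : (QuotientGroup.mk (T v 1) : PSp m F) ≠ 1 := fun h =>
    hv ((QuotientGroup.eq_one_iff _).1 h)
  have : Nontrivial (PSp m F) := ⟨⟨_, _, hne⟩⟩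
  refine ⟨fun N hN => ?_⟩
  have hsurj := QuotientGroup.mk'_surjective (Subgroup.center G)
  rcases commutator_le_or_le_center (N.comap (QuotientGroup.mk' (Subgroup.center G))) with h | h
  · refine Or.inl ((Subgroup.eq_bot_iff_forall _).2 fun x hx => ?_)
    obtain ⟨y, rfl⟩ := hsurj x
    exact (QuotientGroup.eq_one_iff y).2 (h hx)
  · refine Or.inr ((Subgroup.eq_top_iff' N).2 fun x => ?_)
    obtain ⟨y, rfl⟩ := hsurj x
    exact h (hperf.symm ▸ Subgroup.mem_top y)

end CfsgLib.Classical.SympTrans
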