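import Cfsg.Agent.Lib.Classical.OrthForms
import Cfsg.Agent.Lib.Classical.SympTrans

set_option autoImplicit false

/-!
In characteristic two the isometry group of the odd dimensional form is the symplectic group.
-/

namespace CfsgLib.Classical.OddEven

open Matrix

variable {F : Type*} [Field F] [Fintype F] [CharP F 2] {m : ℕ}

/-- `Σ v_l v_r`. -/
def s (v : Fin m ⊕ Fin m → F) : F := ∑ i : Fin m, v (.inl i) * v (.inr i)

theorem sympForm_eq (v w : Fin m ⊕ Fin m → F) : Cfsg.sympForm m F v w =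
    ∑ i : Fin m, (v (.inl i) * w (.inr i) + w (.inl i) * v (.inr i)) := by
  simp [Cfsg.sympForm, Matrix.J, dotProduct, Fintype.sum_sum_type, Matrix.fromBlocks_mulVec,
    Matrix.neg_mulVec, CharTwo.neg_eq, Finset.sum_add_distrib, mul_comm]

theorem s_add (v w : Fin m ⊕ Fin m → F) : s (v + w) = s v + s w + Cfsg.sympForm m F v w := by
  simp only [s, sympForm_eq, Pi.add_apply, ← Finset.sum_add_distrib]
  exact Finset.sum_congr rfl fun i _ => by ring

theorem q_eq (x : Unit ⊕ (Fin m ⊕ Fin m) → F) :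
    Cfsg.quadFormOdd m F x = x (.inl ()) ^ 2 + s (x ∘ Sum.inr) := rfl

theorem col_zero (g : Cfsg.isometryGroup F (Cfsg.quadFormOdd m F)) :
    (g.1 : Matrix (Unit ⊕ (Fin m ⊕ Fin m)) (Unit ⊕ (Fin m ⊕ Fin m)) F).toBlocks₂₁ = 0 := by
  set M := (g.1 : Matrix (Unit ⊕ (Fin m ⊕ Fin m)) (Unit ⊕ (Fin m ⊕ Fin m)) F)
  set e : Unit ⊕ (Fin m ⊕ Fin m) → F := Pi.single (.inl ()) 1
  have hp : ∀ u v, QuadraticMap.polar (Cfsg.quadFormOdd m F) (M *ᵥ u) (M *ᵥ v) =
      QuadraticMap.polar (Cfsg.quadFormOdd m F) u v := by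
    intro u v
    have h1 : ∀ w, Cfsg.quadFormOdd m F (M *ᵥ w) = Cfsg.quadFormOdd m F w := fun w => g.2 w w
    simp only [QuadraticMap.polar, ← Matrix.mulVec_add, h1]
  have h0 : ∀ v, QuadraticMap.polar (Cfsg.quadFormOdd m F) (M *ᵥ e) v = 0 := by
    intro v
    have hv : v = M *ᵥ ((g⁻¹).1 : Matrix _ _ F) *ᵥ v := by
      rw [Matrix.mulVec_mulVec]
      have : M * ((g⁻¹).1 : Matrix (Unit ⊕ (Fin m ⊕ Fin m)) (Unit ⊕ (Fin m ⊕ Fin m)) F) = 1 :=
        g.1.mul_inv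
      rw [this, Matrix.one_mulVec]
    rw [hv, hp, CfsgLib.Orth.polar_odd]
    simp [e, CharTwo.two_eq_zero]
  ext i j
  have hsymp : ∀ w, Cfsg.sympForm m F ((M *ᵥ e) ∘ Sum.inr) w = 0 := by
    intro w
    have := h0 (Sum.elim 0 w)
    rw [CfsgLib.Orth.polar_odd] at this
    simpa [sympForm_eq, CharTwo.two_eq_zero] using this
  have := congrFun (SympTrans.eq_zero_of_f _ hsymp) i
  simpa [Matrix.toBlocks₂₁, e, Matrix.mulVec_single] using this

theorem corner (g : Cfsg.isometryGroup F (Cfsg.quadFormOdd m F)) :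
    (g.1 : Matrix (Unit ⊕ (Fin m ⊕ Fin m)) (Unit ⊕ (Fin m ⊕ Fin m)) F).toBlocks₁₁ = 1 := by
  set M := (g.1 : Matrix (Unit ⊕ (Fin m ⊕ Fin m)) (Unit ⊕ (Fin m ⊕ Fin m)) F)
  have h : Cfsg.quadFormOdd m F (M *ᵥ Pi.single (.inl ()) 1) =
      Cfsg.quadFormOdd m F (Pi.single (.inl ()) 1) := g.2 (Pi.single (.inl ()) 1) (Pi.single (.inl ()) 1)
  have h0 : ∀ k, M (.inr k) (.inl ()) = 0 := fun k => congrFun (congrFun (col_zero g) k) ()
  simp [q_eq, s, Matrix.mulVec_single, h0] at h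
  ext i j
  have : M (.inl ()) (.inl ()) = 1 := by
    rcases h with h | h
    · exact h
    · rw [h, CharTwo.neg_eq]
  simpa [Matrix.toBlocks₁₁] using this

theorem blocks (g : Cfsg.isometryGroup F (Cfsg.quadFormOdd m F)) :
    (g.1 : Matrix (Unit ⊕ (Fin m ⊕ Fin m)) (Unit ⊕ (Fin m ⊕ Fin m)) F) =
      Matrix.fromBlocks 1 (g.1 : Matrix (Unit ⊕ (Fin m ⊕ Fin m)) (Unit ⊕ (Fin m ⊕ Fin m)) F).toBlocks₁₂ 0
        (g.1 : Matrix (Unit ⊕ (Fin m ⊕ Fin m)) (Unit ⊕ (Fin m ⊕ Fin m)) F).toBlocks₂₂ := by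
  conv_lhs => rw [← Matrix.fromBlocks_toBlocks
    (g.1 : Matrix (Unit ⊕ (Fin m ⊕ Fin m)) (Unit ⊕ (Fin m ⊕ Fin m)) F), col_zero g, corner g]

theorem row_sq (A : Matrix (Fin m ⊕ Fin m) (Fin m ⊕ Fin m) F)
    (hA : A ∈ Matrix.symplecticGroup (Fin m) F) (r : Fin m ⊕ Fin m → F)
    (hr : ∀ j, r j ^ 2 = s (A *ᵥ Pi.single j 1)) (v : Fin m ⊕ Fin m → F) :
    (r ⬝ᵥ v) ^ 2 = s v + s (A *ᵥ v) := by
  let f : (Fin m ⊕ Fin m → F) →+ F :=
    AddMonoidHom.mk' (fun v => s v + s (A *ᵥ v)) fun v w => by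
      rw [Matrix.mulVec_add, s_add, s_add, SympTrans.mem_iff_f.1 hA v w]
      linear_combination (Cfsg.sympForm m F v w) * CharTwo.two_eq_zero (R := F)
  have hf : ∀ j (c : F), f (Pi.single j c) = c ^ 2 * r j ^ 2 := by
    intro j c
    have h1 : s (Pi.single j c) = 0 := by
      rcases j with j | j <;> simp [s, Pi.single_apply]
    show s (Pi.single j c) + s (A *ᵥ Pi.single j c) = _
    rw [h1, zero_add, hr]
    simp only [s, Matrix.mulVec_single, Pi.smul_apply, MulOpposite.smul_eq_mul_unop, MulOpposite.unop_op,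
      Finset.mul_sum]
    exact Finset.sum_congr rfl fun i _ => by simp; ring
  calc (r ⬝ᵥ v) ^ 2 = ∑ j, (v j) ^ 2 * r j ^ 2 := by
        rw [dotProduct, CharTwo.sum_sq]
        exact Finset.sum_congr rfl fun j _ => by ring
    _ = f (∑ j, Pi.single j (v j)) := by rw [map_sum]; exact Finset.sum_congr rfl fun j _ => (hf j _).symm
    _ = _ := by rw [Finset.univ_sum_single]; rfl

theorem equiv_symplectic (m : ℕ) :
    Nonempty (Cfsg.isometryGroup F (Cfsg.quadFormOdd m F) ≃* Matrix.symplecticGroup (Fin m) F) := by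
  let T := Unit ⊕ (Fin m ⊕ Fin m)
  let A : Cfsg.isometryGroup F (Cfsg.quadFormOdd m F) → Matrix (Fin m ⊕ Fin m) (Fin m ⊕ Fin m) F :=
    fun g => (g.1 : Matrix T T F).toBlocks₂₂
  have hA : ∀ g v, A g *ᵥ v = ((g.1 : Matrix T T F) *ᵥ Sum.elim 0 v) ∘ Sum.inr := by
    intro g v
    rw [blocks g, Matrix.fromBlocks_mulVec]
    simp [A]
  have hmem : ∀ g, A g ∈ Matrix.symplecticGroup (Fin m) F := by
    intro g
    rw [SympTrans.mem_iff_f]
    intro u v
    have h1 : ∀ w, Cfsg.quadFormOdd m F ((g.1 : Matrix T T F) *ᵥ w) = Cfsg.quadFormOdd m F w :=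
      fun w => g.2 w w
    have hp : QuadraticMap.polar (Cfsg.quadFormOdd m F) ((g.1 : Matrix T T F) *ᵥ Sum.elim 0 u)
        ((g.1 : Matrix T T F) *ᵥ Sum.elim 0 v) =
        QuadraticMap.polar (Cfsg.quadFormOdd m F) (Sum.elim 0 u) (Sum.elim 0 v) := by
      simp only [QuadraticMap.polar, ← Matrix.mulVec_add, h1]
    rw [CfsgLib.Orth.polar_odd, CfsgLib.Orth.polar_odd] at hp
    rw [hA, hA, sympForm_eq, sympForm_eq]
    simpa [CharTwo.two_eq_zero] using hp
  let φ : Cfsg.isometryGroup F (Cfsg.quadFormOdd m F) →* Matrix.symplecticGroup (Fin m) F :=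
    MonoidHom.mk' (fun g => ⟨A g, hmem g⟩) fun g h => Subtype.ext (by
      show ((g.1 : Matrix T T F) * (h.1 : Matrix T T F)).toBlocks₂₂ = A g * A h
      rw [blocks g, blocks h, Matrix.fromBlocks_multiply, Matrix.toBlocks_fromBlocks₂₂]
      simp [A])
  refine ⟨MulEquiv.ofBijective φ ⟨(injective_iff_map_eq_one φ).2 fun g hg => ?_, fun a => ?_⟩⟩
  · have h2 : A g = 1 := congrArg Subtype.val hg
    have h3 : (g.1 : Matrix T T F).toBlocks₁₂ = 0 := by
      ext i j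
      have h : Cfsg.quadFormOdd m F ((g.1 : Matrix T T F) *ᵥ Pi.single (.inr j) 1) =
          Cfsg.quadFormOdd m F (Pi.single (.inr j) 1) := g.2 (Pi.single (.inr j) 1) (Pi.single (.inr j) 1)
      have hcol : ((g.1 : Matrix T T F) *ᵥ Pi.single (.inr j) 1) ∘ Sum.inr =
          (Pi.single (.inr j) (1 : F) : T → F) ∘ Sum.inr := by
        funext k
        have := congrFun (congrFun h2 k) j
        simp [A, Matrix.toBlocks₂₂, Matrix.one_apply] at this
        by_cases hk : k = j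
        · subst hk
          simpa [Matrix.mulVec_single, Pi.single_apply] using this
        · have hk' : (Sum.inr k : T) ≠ Sum.inr j := fun e => hk (Sum.inr.inj e)
          simp [Matrix.mulVec_single, this, Pi.single_apply, hk]
          exact hk'
      rw [q_eq, q_eq, hcol] at h
      simpa [Matrix.toBlocks₁₂, Matrix.mulVec_single] using h
    refine Subtype.ext (Units.ext ?_)
    show (g.1 : Matrix T T F) = 1
    rw [blocks g, h3, show (g.1 : Matrix T T F).toBlocks₂₂ = 1 from h2, Matrix.fromBlocks_one]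
  · have hsq : ∀ j, ∃ r : F, r ^ 2 = s (a.1 *ᵥ Pi.single j 1) := fun j => by
      obtain ⟨r, hr⟩ := (isSquare_iff_exists_sq _).1
        (FiniteField.isSquare_of_char_two (ringChar.eq F 2) (s (a.1 *ᵥ Pi.single j 1)))
      exact ⟨r, hr.symm⟩
    choose r hr using hsq
    let M : Matrix T T F := Matrix.fromBlocks 1 (Matrix.of fun _ j => r j) 0 a.1
    have hd : M.det ≠ 0 := by
      rw [Matrix.det_fromBlocks_zero₂₁, Matrix.det_one, one_mul]
      exact (SymplecticGroup.symplectic_det a.2).ne_zero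
    have hq : ∀ x, Cfsg.quadFormOdd m F (M *ᵥ x) = Cfsg.quadFormOdd m F x := by
      intro x
      rw [q_eq, q_eq, Matrix.fromBlocks_mulVec]
      have h0 : (0 : Matrix (Fin m ⊕ Fin m) Unit F) *ᵥ (x ∘ Sum.inl) + a.1 *ᵥ (x ∘ Sum.inr) =
          a.1 *ᵥ (x ∘ Sum.inr) := by simp
      simp only [Sum.elim_inl, Sum.elim_comp_inr, h0, Pi.add_apply, Matrix.one_mulVec, Function.comp_apply]
      rw [show ((Matrix.of fun (_ : Unit) j => r j) *ᵥ (x ∘ Sum.inr)) () = r ⬝ᵥ (x ∘ Sum.inr) from rfl,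
        CharTwo.add_sq, row_sq a.1 a.2 r hr]
      linear_combination (s (a.1 *ᵥ (x ∘ Sum.inr))) * CharTwo.two_eq_zero (R := F)
    exact ⟨⟨Matrix.GeneralLinearGroup.mkOfDetNeZero M hd, fun x _ => hq x⟩,
      Subtype.ext (Matrix.toBlocks_fromBlocks₂₂ _ _ _ _)⟩

end CfsgLib.Classical.OddEven
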