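/-
Orthogonal groups on `F^ι`: forms, orthogonal subspaces, singular vectors, Siegel transformations.
-/
import Mathlib
import Cfsg.Prelude.Def_Classical
import Cfsg.Prelude.Def_GeometricClasses

set_option autoImplicit false

namespace CfsgLib.Orth

open Matrix

variable {F : Type*} [Field F] {ι : Type} [Fintype ι] [DecidableEq ι]

/-- The isometry group of a quadratic form. -/
abbrev Grp (Q : QuadraticForm F (ι → F)) : Type _ := ↥(Cfsg.isometryGroup F ⇑Q)

/-- The polar form is non-degenerate. -/
def Nondeg (Q : QuadraticForm F (ι → F)) : Prop :=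
  ∀ x : ι → F, (∀ y, QuadraticMap.polar ⇑Q x y = 0) → x = 0

variable {Q : QuadraticForm F (ι → F)}

local notation "B" => QuadraticMap.polar (DFunLike.coe Q)

section form

omit [Fintype ι] [DecidableEq ι]

theorem b_comm (x y : ι → F) : B x y = B y x := QuadraticMap.polar_comm _ x y
theorem b_add_left (x y z : ι → F) : B (x + y) z = B x z + B y z := QuadraticMap.polar_add_left Q x y z
theorem b_add_right (x y z : ι → F) : B x (y + z) = B x y + B x z := QuadraticMap.polar_add_right Q x y z
theorem b_sub_left (x y z : ι → F) : B (x - y) z = B x z - B y z := QuadraticMap.polar_sub_left Q x y z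
theorem b_sub_right (x y z : ι → F) : B x (y - z) = B x y - B x z := QuadraticMap.polar_sub_right Q x y z
theorem b_smul_left (a : F) (x y : ι → F) : B (a • x) y = a * B x y :=
  (QuadraticMap.polar_smul_left Q a x y).trans rfl
theorem b_smul_right (a : F) (x y : ι → F) : B x (a • y) = a * B x y :=
  (QuadraticMap.polar_smul_right Q a x y).trans rfl
theorem b_zero_left (x : ι → F) : B 0 x = 0 := QuadraticMap.polar_zero_left Q x
theorem b_zero_right (x : ι → F) : B x 0 = 0 := QuadraticMap.polar_zero_right Q x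
theorem b_self (x : ι → F) : B x x = 2 * Q x := by
  rw [QuadraticMap.polar_self, nsmul_eq_mul, Nat.cast_ofNat]
theorem b_self_zero {x : ι → F} (h : Q x = 0) : B x x = 0 := by rw [b_self, h, mul_zero]
theorem q_add (x y : ι → F) : Q (x + y) = Q x + Q y + B x y := QuadraticMap.map_add Q x y
theorem q_sub (x y : ι → F) : Q (x - y) = Q x + Q y - B x y := by
  rw [sub_eq_add_neg, q_add, QuadraticMap.map_neg, ← neg_one_smul F y, b_smul_right]
  ring
theorem q_smul (a : F) (x : ι → F) : Q (a • x) = a * a * Q x :=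
  (QuadraticMap.map_smul Q a x).trans rfl
theorem ne_zero_of_b {x y : ι → F} (h : B x y ≠ 0) : x ≠ 0 := fun e => h (by rw [e, b_zero_left])

end form

/-- The action of an isometry. -/
def ap (g : Grp Q) (x : ι → F) : ι → F :=
  (((g : GL ι F)) : Matrix ι ι F) *ᵥ x

@[simp] theorem ap_one (x : ι → F) : ap (1 : Grp Q) x = x := by
  simp [ap]

theorem ap_mul (g h : Grp Q) (x : ι → F) : ap (g * h) x = ap g (ap h x) := by
  simp [ap, Matrix.mulVec_mulVec]

theorem ap_inv_ap (g : Grp Q) (x : ι → F) : ap g⁻¹ (ap g x) = x := by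
  rw [← ap_mul, inv_mul_cancel, ap_one]

theorem ap_ap_inv (g : Grp Q) (x : ι → F) : ap g (ap g⁻¹ x) = x := by
  rw [← ap_mul, mul_inv_cancel, ap_one]

theorem ap_inj (g : Grp Q) {x y : ι → F} (h : ap g x = ap g y) : x = y := by
  rw [← ap_inv_ap g x, h, ap_inv_ap]

theorem ap_add (g : Grp Q) (x y : ι → F) : ap g (x + y) = ap g x + ap g y :=
  Matrix.mulVec_add _ _ _
theorem ap_sub (g : Grp Q) (x y : ι → F) : ap g (x - y) = ap g x - ap g y :=
  Matrix.mulVec_sub _ _ _
theorem ap_smul (g : Grp Q) (a : F) (x : ι → F) : ap g (a • x) = a • ap g x :=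
  Matrix.mulVec_smul _ _ _
@[simp] theorem ap_zero (g : Grp Q) : ap g (0 : ι → F) = 0 := Matrix.mulVec_zero _

theorem ap_q (g : Grp Q) (x : ι → F) : Q (ap g x) = Q x := g.2 x x

theorem ap_b (g : Grp Q) (x y : ι → F) : B (ap g x) (ap g y) = B x y := by
  unfold QuadraticMap.polar
  rw [← ap_add, ap_q, ap_q, ap_q]

theorem ap_b_left (g : Grp Q) (x y : ι → F) : B (ap g x) y = B x (ap g⁻¹ y) := by
  rw [← ap_b g x (ap g⁻¹ y), ap_ap_inv]

theorem ext_ap {g h : Grp Q} (e : ∀ x, ap g x = ap h x) : g = h :=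
  Subtype.ext (Units.ext (Matrix.ext_iff_mulVec.mpr e))

/-- Linear maps preserving `Q` give isometries. -/
theorem exists_iso (hB : Nondeg Q) (f : (ι → F) →ₗ[F] (ι → F)) (hf : ∀ x, Q (f x) = Q x) :
    ∃ g : Grp Q, ∀ x, ap g x = f x := by
  have hb : ∀ x y, B (f x) (f y) = B x y := fun x y => by
    unfold QuadraticMap.polar
    rw [← map_add, hf, hf, hf]
  have hinj : Function.Injective f :=
    (injective_iff_map_eq_zero f).2 fun x hx => hB x fun y => by rw [← hb, hx, b_zero_left]
  have hu : IsUnit (LinearMap.toMatrix' f) := by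
    refine Matrix.mulVec_injective_iff_isUnit.1 fun x y e => hinj ?_
    simpa only [LinearMap.toMatrix'_mulVec] using e
  refine ⟨⟨hu.unit, fun u _ => ?_⟩, fun x => ?_⟩
  · show Q (LinearMap.toMatrix' f *ᵥ u) = Q u
    rw [LinearMap.toMatrix'_mulVec, hf]
  · show LinearMap.toMatrix' f *ᵥ x = f x
    rw [LinearMap.toMatrix'_mulVec]

/-- The orthogonal of a subspace. -/
def orth (Q : QuadraticForm F (ι → F)) (W : Submodule F (ι → F)) : Submodule F (ι → F) :=
  LinearMap.BilinForm.orthogonal (QuadraticMap.polarBilin Q) W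

omit [Fintype ι] [DecidableEq ι] in
theorem mem_orth {W : Submodule F (ι → F)} {x : ι → F} : x ∈ orth Q W ↔ ∀ w ∈ W, B w x = 0 :=
  Iff.rfl

omit [Fintype ι] [DecidableEq ι] in
theorem polar_refl : LinearMap.IsRefl (QuadraticMap.polarBilin Q) := fun x y h => by
  rw [QuadraticMap.polarBilin_apply_apply] at h ⊢
  rwa [b_comm]

omit [Fintype ι] [DecidableEq ι] in
theorem bilin_nondeg (hB : Nondeg Q) : (QuadraticMap.polarBilin Q).Nondegenerate := by
  refine (LinearMap.IsRefl.nondegenerate_iff_separatingLeft polar_refl).2 fun x hx => hB x hx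

omit [Fintype ι] [DecidableEq ι] in
theorem finrank_orth [Finite ι] (hB : Nondeg Q) (W : Submodule F (ι → F)) :
    Module.finrank F W + Module.finrank F (orth Q W) = Module.finrank F (ι → F) := by
  have h := LinearMap.BilinForm.finrank_orthogonal (bilin_nondeg hB) W
  have h' := Submodule.finrank_le W
  unfold orth
  omega

omit [Fintype ι] [DecidableEq ι] in
theorem orth_orth [Finite ι] (hB : Nondeg Q) (W : Submodule F (ι → F)) : orth Q (orth Q W) = W :=
  LinearMap.BilinForm.orthogonal_orthogonal (bilin_nondeg hB) polar_refl W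

omit [Fintype ι] [DecidableEq ι] in
theorem orth_le {W W' : Submodule F (ι → F)} (h : W ≤ W') : orth Q W' ≤ orth Q W :=
  fun _ hx w hw => hx w (h hw)

omit [Fintype ι] [DecidableEq ι] in
theorem mem_orth_span {S : Set (ι → F)} {x : ι → F} :
    x ∈ orth Q (Submodule.span F S) ↔ ∀ s ∈ S, B s x = 0 := by
  refine ⟨fun h s hs => h s (Submodule.subset_span hs), fun h w hw => ?_⟩
  induction hw using Submodule.span_induction with
  | mem s hs => exact h s hs
  | zero => exact b_zero_left x
  | add a b _ _ ha hb =>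
      show B (a + b) x = 0
      rw [b_add_left]; exact (congrArg₂ (· + ·) ha hb).trans (add_zero 0)
  | smul c a _ ha =>
      show B (c • a) x = 0
      rw [b_smul_left]; exact mul_eq_zero_of_right c ha

omit [Fintype ι] [DecidableEq ι] in
theorem finrank_orth_span [Finite ι] (hB : Nondeg Q) (s : Finset (ι → F)) :
    Module.finrank F (ι → F) ≤
      s.card + Module.finrank F (orth Q (Submodule.span F (s : Set (ι → F)))) := by
  have h := finrank_orth hB (Submodule.span F (s : Set (ι → F)))
  have h' := finrank_span_finset_le_card (R := F) s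
  rw [Set.finrank] at h'
  omega

omit [Fintype ι] [DecidableEq ι] in
theorem exists_orth_one [Finite ι] (hB : Nondeg Q) {W : Submodule F (ι → F)} {x : ι → F}
    (hx : x ∉ W) : ∃ v ∈ orth Q W, B x v = 1 := by
  rw [← orth_orth hB W] at hx
  obtain ⟨v, hv, hne⟩ : ∃ v ∈ orth Q W, B v x ≠ 0 := by
    by_contra hc
    push Not at hc
    exact hx hc
  exact ⟨(B v x)⁻¹ • v, Submodule.smul_mem _ _ hv,
    by rw [b_smul_right, b_comm x v, inv_mul_cancel₀ hne]⟩

omit [Fintype ι] [DecidableEq ι] in
/-- A totally singular subspace lies in its orthogonal. -/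
theorem le_orth_of_singular {W : Submodule F (ι → F)} (h : ∀ w ∈ W, Q w = 0) :
    W ≤ orth Q W := fun x hx w hw => by
  have := h _ (W.add_mem hw hx)
  rw [q_add, h w hw, h x hx, add_zero, zero_add] at this
  exact this

omit [Fintype ι] [DecidableEq ι] in
/-- A subspace on which the polar form vanishes has at most half the dimension. -/
theorem two_mul_finrank_le [Finite ι] (hB : Nondeg Q) {W : Submodule F (ι → F)}
    (h : W ≤ orth Q W) : 2 * Module.finrank F W ≤ Module.finrank F (ι → F) := by
  have := finrank_orth hB W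
  have := Submodule.finrank_mono h
  omega

omit [Fintype ι] [DecidableEq ι] in
/-- A singular vector has a singular partner with value one. -/
theorem exists_partner (hB : Nondeg Q) {u : ι → F} (hu : Q u = 0) (hu0 : u ≠ 0) :
    ∃ f, Q f = 0 ∧ B u f = 1 := by
  obtain ⟨y, hy⟩ : ∃ y, B u y ≠ 0 := by
    by_contra hc
    push Not at hc
    exact hu0 (hB u hc)
  obtain ⟨z, hz⟩ : ∃ z, z = (B u y)⁻¹ • y := ⟨_, rfl⟩
  have hzu : B u z = 1 := by rw [hz, b_smul_right, inv_mul_cancel₀ hy]
  refine ⟨z - Q z • u, ?_, ?_⟩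
  · rw [q_sub, q_smul, hu, mul_zero, add_zero, b_smul_right, b_comm z u, hzu, mul_one, sub_self]
  · rw [b_sub_right, b_smul_right, hzu, b_self_zero hu, mul_zero, sub_zero]

omit [Fintype ι] [DecidableEq ι] in
/-- Subspaces of dimension at least three contain singular vectors. -/
theorem exists_singular [Finite F] [Finite ι] {U : Submodule F (ι → F)}
    (hU : 3 ≤ Module.finrank F U) : ∃ v ∈ U, v ≠ 0 ∧ Q v = 0 := by
  by_contra hc
  push Not at hc
  have hpos : ∀ v ∈ U, v ≠ 0 → Q v ≠ 0 := hc
  obtain ⟨a, ha, ha0⟩ : ∃ a ∈ U, a ≠ 0 := U.exists_mem_ne_zero_of_ne_bot fun e => by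
    rw [e, finrank_bot] at hU; omega
  have hker : ∀ (W : Submodule F (ι → F)) (x : ι → F), Module.finrank F W ≤
      Module.finrank F ↥(W ⊓ LinearMap.ker (QuadraticMap.polarBilin Q x)) + 1 := by
    intro W x
    have h1 := LinearMap.finrank_range_add_finrank_ker
      ((QuadraticMap.polarBilin Q x).comp W.subtype)
    have h2 := Submodule.finrank_le (LinearMap.range ((QuadraticMap.polarBilin Q x).comp W.subtype))
    rw [Module.finrank_self] at h2
    rw [LinearMap.ker_comp, ← Submodule.finrank_map_subtype_eq, Submodule.map_comap_subtype] at h1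
    omega
  set U₁ := U ⊓ LinearMap.ker (QuadraticMap.polarBilin Q a) with hU₁
  have h1 : 2 ≤ Module.finrank F U₁ := by have := hker U a; rw [← hU₁] at this; omega
  obtain ⟨c, hc1, hca⟩ : ∃ c ∈ U₁, c ∉ Submodule.span F {a} := by
    refine SetLike.not_le_iff_exists.1 fun hle => ?_
    have := Submodule.finrank_mono hle
    rw [finrank_span_singleton ha0] at this
    omega
  have hac : B a c = 0 := hc1.2
  have hc0 : c ≠ 0 := fun e => hca (e ▸ Submodule.zero_mem _)
  have hQa := hpos a ha ha0
  have hQc := hpos c hc1.1 hc0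
  have hsq : ∀ x y : F, Q (x • a + y • c) = x * x * Q a + y * y * Q c := fun x y => by
    rw [q_add, q_smul, q_smul, b_smul_left, b_smul_right, hac, mul_zero, mul_zero, add_zero]
  cases nonempty_fintype F
  by_cases h2 : ringChar F = 2
  · obtain ⟨y, hy⟩ := FiniteField.isSquare_of_char_two h2 (Q a / Q c)
    have := CharP.cast_eq_zero F (ringChar F)
    rw [h2, Nat.cast_ofNat] at this
    refine hpos ((1 : F) • a + y • c) ?_ (fun e => hca ?_) ?_
    · exact U.add_mem (U.smul_mem _ ha) (U.smul_mem _ hc1.1)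
    · have hy0 : y ≠ 0 := fun e0 => by
        rw [e0, mul_zero] at hy
        exact div_ne_zero hQa hQc hy
      refine (Submodule.smul_mem_iff _ hy0).1 ?_
      rw [eq_neg_of_add_eq_zero_right e, one_smul]
      exact neg_mem (Submodule.mem_span_singleton_self a)
    · have := hsq 1 y
      rw [one_smul] at this ⊢
      rw [this, ← hy, div_mul_cancel₀ _ hQc, one_mul, one_mul, ← two_mul, ‹(2 : F) = 0›, zero_mul]
  · have h2' : (2 : F) ≠ 0 := Ring.two_ne_zero h2
    set U₂ := U₁ ⊓ LinearMap.ker (QuadraticMap.polarBilin Q c) with hU₂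
    obtain ⟨d, hd, hd0⟩ : ∃ d ∈ U₂, d ≠ 0 := U₂.exists_mem_ne_zero_of_ne_bot fun e => by
      have := hker U₁ c
      rw [← hU₂, e, finrank_bot] at this
      omega
    have had : B a d = 0 := hd.1.2
    have hcd : B c d = 0 := hd.2
    have hQd := hpos d hd.1.1 hd0
    obtain ⟨x, y, hxy⟩ := FiniteField.exists_root_sum_quadratic
      (f := Polynomial.C (Q a) * Polynomial.X ^ 2 + Polynomial.C (Q d))
      (g := Polynomial.C (Q c) * Polynomial.X ^ 2)
      (by compute_degree!) (by compute_degree!)
      (by have := FiniteField.odd_card_of_char_ne_two h2; omega)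
    simp only [Polynomial.eval_add, Polynomial.eval_mul, Polynomial.eval_C, Polynomial.eval_pow,
      Polynomial.eval_X] at hxy
    refine hpos (x • a + y • c + d)
      (U.add_mem (U.add_mem (U.smul_mem _ ha) (U.smul_mem _ hc1.1)) hd.1.1) (fun e => hd0 ?_) ?_
    · have e' : B (x • a + y • c + d) d = B 0 d := by rw [e]
      rw [b_add_left, b_add_left, b_smul_left, b_smul_left, had, hcd, mul_zero, mul_zero, zero_add,
        zero_add, b_zero_left, b_self] at e'
      exact absurd e' (mul_ne_zero h2' hQd)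
    · rw [q_add, hsq, b_add_left, b_smul_left, b_smul_left, had, hcd, mul_zero, mul_zero]
      linear_combination hxy

/-- The Siegel map attached to a singular vector `u` and `v ⊥ u`, as a linear map. -/
def siegelMap (Q : QuadraticForm F (ι → F)) (u v : ι → F) : (ι → F) →ₗ[F] (ι → F) :=
  LinearMap.id + (QuadraticMap.polarBilin Q u).smulRight v
    - ((QuadraticMap.polarBilin Q v) + Q v • QuadraticMap.polarBilin Q u).smulRight u

omit [Fintype ι] [DecidableEq ι] in
theorem siegelMap_apply (u v x : ι → F) :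
    siegelMap Q u v x = x + B x u • v - B x v • u - (Q v * B x u) • u := by
  simp only [siegelMap, LinearMap.sub_apply, LinearMap.add_apply, LinearMap.id_apply,
    LinearMap.smulRight_apply, LinearMap.smul_apply, QuadraticMap.polarBilin_apply_apply,
    smul_eq_mul, add_smul, b_comm u x, b_comm v x]
  abel

omit [Fintype ι] [DecidableEq ι] in
theorem siegelMap_isometry {u v : ι → F} (hu : Q u = 0) (huv : B u v = 0) (x : ι → F) :
    Q (siegelMap Q u v x) = Q x := by
  have e : siegelMap Q u v x = (x + B x u • v) - (B x v + Q v * B x u) • u := by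
    rw [siegelMap_apply, add_smul]; abel
  rw [e, q_sub, q_add, q_smul, q_smul, hu, b_smul_right, b_smul_right, b_add_left, b_smul_left,
    b_comm v u, huv]
  ring

/-- The Siegel transformations. -/
def IsSiegel (u v : ι → F) (g : Grp Q) : Prop :=
  Q u = 0 ∧ B u v = 0 ∧ ∀ x, ap g x = x + B x u • v - B x v • u - (Q v * B x u) • u

theorem exists_siegel (hB : Nondeg Q) {u v : ι → F} (hu : Q u = 0) (huv : B u v = 0) :
    ∃ g : Grp Q, IsSiegel u v g := by
  obtain ⟨g, hg⟩ := exists_iso hB (siegelMap Q u v) (siegelMap_isometry hu huv)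
  exact ⟨g, hu, huv, fun x => by rw [hg, siegelMap_apply]⟩

theorem siegel_unique {u v : ι → F} {g h : Grp Q} (hg : IsSiegel u v g) (hh : IsSiegel u v h) :
    g = h :=
  ext_ap fun x => by rw [hg.2.2, hh.2.2]

theorem siegel_fix {u v : ι → F} {g : Grp Q} (hg : IsSiegel u v g) {x : ι → F} (h₁ : B x u = 0)
    (h₂ : B x v = 0) : ap g x = x := by
  rw [hg.2.2, h₁, h₂, mul_zero, zero_smul, zero_smul, add_zero, sub_zero, sub_zero]

theorem siegel_one {u : ι → F} (hu : Q u = 0) : IsSiegel u 0 (1 : Grp Q) := by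
  refine ⟨hu, b_zero_right u, fun x => ?_⟩
  rw [ap_one, smul_zero, b_zero_right, QuadraticMap.map_zero, zero_mul, zero_smul, add_zero,
    sub_zero, sub_zero]

theorem siegel_mul {u v w : ι → F} {g h : Grp Q} (hg : IsSiegel u v g) (hh : IsSiegel u w h) :
    IsSiegel u (v + w) (g * h) := by
  refine ⟨hg.1, by rw [b_add_right, hg.2.1, hh.2.1, add_zero], fun x => ?_⟩
  rw [ap_mul, hg.2.2, hh.2.2]
  simp only [b_sub_left, b_add_left, b_smul_left, b_add_right, b_self_zero hg.1,
    b_comm w u, hh.2.1, b_comm w v, hg.2.1, q_add]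
  module

theorem siegel_smul {u v : ι → F} {g : Grp Q} (hg : IsSiegel u v g) (c : F)
    {h : Grp Q} (hh : IsSiegel (c • u) v h) : IsSiegel u (c • v) h := by
  refine ⟨hg.1, by rw [b_smul_right, hg.2.1, mul_zero], fun x => ?_⟩
  rw [hh.2.2]
  simp only [b_smul_right, q_smul]
  module

theorem siegel_conj {u v : ι → F} {g : Grp Q} (hg : IsSiegel u v g) (s : Grp Q) :
    IsSiegel (ap s u) (ap s v) (s * g * s⁻¹) := by
  refine ⟨by rw [ap_q]; exact hg.1, by rw [ap_b]; exact hg.2.1, fun x => ?_⟩
  obtain ⟨y, rfl⟩ : ∃ y, x = ap s y := ⟨ap s⁻¹ x, (ap_ap_inv s x).symm⟩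
  rw [ap_mul, ap_mul, ap_inv_ap, hg.2.2]
  simp only [ap_sub, ap_add, ap_smul, ap_b, ap_q]

theorem siegel_add_self {u v : ι → F} {g : Grp Q} (hg : IsSiegel u v g) (t : F) :
    IsSiegel u (v + t • u) g := by
  refine ⟨hg.1, by rw [b_add_right, hg.2.1, b_smul_right, b_self_zero hg.1, mul_zero, add_zero],
    fun x => ?_⟩
  rw [hg.2.2, q_add, q_smul, hg.1, b_smul_right, b_comm v u, hg.2.1, b_add_right, b_smul_right]
  module

end CfsgLib.Orth
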