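/-
The standard quadratic forms of the three orthogonal families are non-degenerate.
-/
import Cfsg.Agent.Lib.Classical.OrthBasic

set_option autoImplicit false

namespace CfsgLib.Orth

open Matrix

variable {F : Type*} [Field F]

theorem polar_plus (m : ℕ) (v w : Fin m ⊕ Fin m → F) :
    QuadraticMap.polar (Cfsg.quadFormPlus m F) v w =
      ∑ i : Fin m, (v (.inl i) * w (.inr i) + w (.inl i) * v (.inr i)) := by
  simp only [QuadraticMap.polar, Cfsg.quadFormPlus, Pi.add_apply, ← Finset.sum_sub_distrib]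
  exact Finset.sum_congr rfl fun i _ => by ring

theorem polar_odd (m : ℕ) (v w : Unit ⊕ (Fin m ⊕ Fin m) → F) :
    QuadraticMap.polar (Cfsg.quadFormOdd m F) v w = 2 * v (.inl ()) * w (.inl ()) +
      ∑ i : Fin m, (v (.inr (.inl i)) * w (.inr (.inr i)) + w (.inr (.inl i)) * v (.inr (.inr i))) := by
  have h : ∑ i : Fin m, (v (.inr (.inl i)) * w (.inr (.inr i)) + w (.inr (.inl i)) * v (.inr (.inr i)))
      = ∑ i : Fin m, (v + w) (.inr (.inl i)) * (v + w) (.inr (.inr i))
        - ∑ i : Fin m, v (.inr (.inl i)) * v (.inr (.inr i))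
        - ∑ i : Fin m, w (.inr (.inl i)) * w (.inr (.inr i)) := by
    simp only [Pi.add_apply, ← Finset.sum_sub_distrib]
    exact Finset.sum_congr rfl fun i _ => by ring
  rw [h]
  simp only [QuadraticMap.polar, Cfsg.quadFormOdd, Pi.add_apply]
  ring

theorem polar_minus (m : ℕ) (a b : F) (v w : (Fin m ⊕ Fin m) ⊕ Fin 2 → F) :
    QuadraticMap.polar (Cfsg.quadFormMinus m F a b) v w =
      ∑ i : Fin m, (v (.inl (.inl i)) * w (.inl (.inr i)) + w (.inl (.inl i)) * v (.inl (.inr i))) +
      (2 * v (.inr 0) * w (.inr 0) + a * (v (.inr 0) * w (.inr 1) + w (.inr 0) * v (.inr 1)) +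
        2 * b * v (.inr 1) * w (.inr 1)) := by
  have h : ∑ i : Fin m, (v (.inl (.inl i)) * w (.inl (.inr i)) + w (.inl (.inl i)) * v (.inl (.inr i)))
      = ∑ i : Fin m, (v + w) (.inl (.inl i)) * (v + w) (.inl (.inr i))
        - ∑ i : Fin m, v (.inl (.inl i)) * v (.inl (.inr i))
        - ∑ i : Fin m, w (.inl (.inl i)) * w (.inl (.inr i)) := by
    simp only [Pi.add_apply, ← Finset.sum_sub_distrib]
    exact Finset.sum_congr rfl fun i _ => by ring
  rw [h]
  simp only [QuadraticMap.polar, Cfsg.quadFormMinus, Pi.add_apply]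
  ring

theorem exists_quadForm_plus (m : ℕ) :
    ∃ Q : QuadraticForm F (Fin m ⊕ Fin m → F), ⇑Q = Cfsg.quadFormPlus m F ∧ Nondeg Q := by
  classical
  refine ⟨QuadraticMap.ofPolar (Cfsg.quadFormPlus m F) (fun a x => ?_) (fun x y z => ?_)
    (fun a x y => ?_), rfl, fun x hx => ?_⟩
  · simp only [Cfsg.quadFormPlus, Pi.smul_apply, smul_eq_mul, Finset.mul_sum]
    exact Finset.sum_congr rfl fun i _ => by ring
  · simp only [polar_plus, ← Finset.sum_add_distrib, Pi.add_apply]
    exact Finset.sum_congr rfl fun i _ => by ring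
  · simp only [polar_plus, Pi.smul_apply, smul_eq_mul, Finset.mul_sum]
    exact Finset.sum_congr rfl fun i _ => by ring
  · have hp : ∀ y, QuadraticMap.polar (Cfsg.quadFormPlus m F) x y = 0 := hx
    funext j
    rcases j with j | j
    · simpa [polar_plus, Pi.single_apply] using hp (Pi.single (.inr j) 1)
    · simpa [polar_plus, Pi.single_apply] using hp (Pi.single (.inl j) 1)

theorem exists_quadForm_odd (h2 : (2 : F) ≠ 0) (m : ℕ) :
    ∃ Q : QuadraticForm F (Unit ⊕ (Fin m ⊕ Fin m) → F),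
      ⇑Q = Cfsg.quadFormOdd m F ∧ Nondeg Q := by
  classical
  refine ⟨QuadraticMap.ofPolar (Cfsg.quadFormOdd m F) (fun a x => ?_) (fun x y z => ?_)
    (fun a x y => ?_), rfl, fun x hx => ?_⟩
  · simp only [Cfsg.quadFormOdd, Pi.smul_apply, smul_eq_mul, mul_add, Finset.mul_sum]
    exact congrArg₂ (· + ·) (by ring) (Finset.sum_congr rfl fun i _ => by ring)
  · simp only [polar_odd, Pi.add_apply]
    rw [add_add_add_comm, ← Finset.sum_add_distrib]
    exact congrArg₂ (· + ·) (by ring) (Finset.sum_congr rfl fun i _ => by ring)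
  · simp only [polar_odd, Pi.smul_apply, smul_eq_mul, mul_add, Finset.mul_sum]
    exact congrArg₂ (· + ·) (by ring) (Finset.sum_congr rfl fun i _ => by ring)
  · have hp : ∀ y, QuadraticMap.polar (Cfsg.quadFormOdd m F) x y = 0 := hx
    funext j
    rcases j with j | j | j
    · simpa [polar_odd, Pi.single_apply, h2] using hp (Pi.single (.inl ()) 1)
    · simpa [polar_odd, Pi.single_apply] using hp (Pi.single (.inr (.inr j)) 1)
    · simpa [polar_odd, Pi.single_apply] using hp (Pi.single (.inr (.inl j)) 1)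

theorem aniso_disc [Finite F] {a b : F}
    (hab : ∀ z₁ z₂ : F, z₁ ^ 2 + a * z₁ * z₂ + b * z₂ ^ 2 = 0 → z₁ = 0 ∧ z₂ = 0) :
    4 * b - a ^ 2 ≠ 0 := by
  intro h
  by_cases h2 : (2 : F) = 0
  · have : CharP F 2 := CharTwo.of_one_ne_zero_of_two_eq_zero one_ne_zero h2
    have ha : a = 0 := by
      have : a ^ 2 = 0 := by linear_combination -h + 2 * b * h2
      exact pow_eq_zero_iff (by norm_num) |>.1 this
    obtain ⟨s, hs⟩ := FiniteField.isSquare_of_char_two (ringChar.eq F 2) b
    exact one_ne_zero (hab s 1 (by rw [ha, hs]; linear_combination (s * s) * h2)).2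
  · exact h2 (hab (-a) 2 (by linear_combination h)).2

theorem exists_quadForm_minus [Finite F] (m : ℕ) {a b : F}
    (hab : ∀ z₁ z₂ : F, z₁ ^ 2 + a * z₁ * z₂ + b * z₂ ^ 2 = 0 → z₁ = 0 ∧ z₂ = 0) :
    ∃ Q : QuadraticForm F ((Fin m ⊕ Fin m) ⊕ Fin 2 → F),
      ⇑Q = Cfsg.quadFormMinus m F a b ∧ Nondeg Q := by
  classical
  refine ⟨QuadraticMap.ofPolar (Cfsg.quadFormMinus m F a b) (fun c x => ?_) (fun x y z => ?_)
    (fun c x y => ?_), rfl, fun x hx => ?_⟩
  · simp only [Cfsg.quadFormMinus, Pi.smul_apply, smul_eq_mul, mul_add, Finset.mul_sum]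
    exact congrArg₂ (· + ·) (Finset.sum_congr rfl fun i _ => by ring) (by ring)
  · simp only [polar_minus, Pi.add_apply]
    rw [add_add_add_comm, ← Finset.sum_add_distrib]
    exact congrArg₂ (· + ·) (Finset.sum_congr rfl fun i _ => by ring) (by ring)
  · simp only [polar_minus, Pi.smul_apply, smul_eq_mul, mul_add, Finset.mul_sum]
    exact congrArg₂ (· + ·) (Finset.sum_congr rfl fun i _ => by ring) (by ring)
  · have hp : ∀ y, QuadraticMap.polar (Cfsg.quadFormMinus m F a b) x y = 0 := hx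
    have e0 : 2 * x (.inr 0) + a * x (.inr 1) = 0 := by
      simpa [polar_minus, Pi.single_apply] using hp (Pi.single (.inr 0) 1)
    have e1 : a * x (.inr 0) + 2 * b * x (.inr 1) = 0 := by
      simpa [polar_minus, Pi.single_apply] using hp (Pi.single (.inr 1) 1)
    have hd := aniso_disc hab
    have x0 : x (.inr 0) = 0 := (mul_eq_zero.1
      (show (4 * b - a ^ 2) * x (.inr 0) = 0 by linear_combination 2 * b * e0 - a * e1)).resolve_left hd
    have x1 : x (.inr 1) = 0 := (mul_eq_zero.1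
      (show (4 * b - a ^ 2) * x (.inr 1) = 0 by linear_combination 2 * e1 - a * e0)).resolve_left hd
    funext j
    rcases j with (j | j) | j
    · simpa [polar_minus, Pi.single_apply] using hp (Pi.single (.inl (.inr j)) 1)
    · simpa [polar_minus, Pi.single_apply] using hp (Pi.single (.inl (.inl j)) 1)
    · fin_cases j
      · exact x0
      · exact x1

end CfsgLib.Orth
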