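/-
Siegel transformations generate the commutator subgroup of a finite orthogonal group in dimension
at least five.
-/
import Cfsg.Agent.Lib.Classical.OrthBasic
import Cfsg.Prelude.Def_ClassicalGeometry

set_option autoImplicit false

namespace CfsgLib.Orth

open Matrix

variable {F : Type*} [Field F] {ι : Type} [Fintype ι] [DecidableEq ι]
variable {Q : QuadraticForm F (ι → F)}

local notation "B" => QuadraticMap.polar (DFunLike.coe Q)

/-- The subgroup generated by the Siegel transformations. -/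
def El (Q : QuadraticForm F (ι → F)) : Subgroup (Grp Q) :=
  Subgroup.closure {g | ∃ u v, IsSiegel u v g}

theorem siegel_mem_El {u v : ι → F} {g : Grp Q} (h : IsSiegel u v g) : g ∈ El Q :=
  Subgroup.subset_closure ⟨u, v, h⟩

instance El_normal : (El Q).Normal := by
  refine ⟨fun n hn s => ?_⟩
  induction hn using Subgroup.closure_induction with
  | mem g hg =>
      obtain ⟨u, v, h⟩ := hg
      exact siegel_mem_El (siegel_conj h s)
  | one => rw [mul_one, mul_inv_cancel]; exact one_mem _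
  | mul a b _ _ ha hb =>
      have e : s * (a * b) * s⁻¹ = s * a * s⁻¹ * (s * b * s⁻¹) := by group
      rw [e]; exact mul_mem ha hb
  | inv a _ ha =>
      have e : s * a⁻¹ * s⁻¹ = (s * a * s⁻¹)⁻¹ := by group
      rw [e]; exact inv_mem ha

section

omit [Fintype ι] [DecidableEq ι]

theorem exists_common_one [Finite ι] (hB : Nondeg Q) {u w : ι → F} (hu : Q u = 0)
    (huw : B u w = 0) (hi : u ∉ Submodule.span F {w - u}) :
    ∃ z, Q z = 0 ∧ B u z = 1 ∧ B w z = 1 := by
  obtain ⟨z, hz, hz1⟩ := exists_orth_one hB hi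
  have hz2 : B w z = 1 := by
    have h := mem_orth_span.1 hz (w - u) rfl
    rw [b_sub_left, hz1, sub_eq_zero] at h
    exact h
  refine ⟨z - Q z • u, ?_, ?_, ?_⟩
  · rw [q_sub, q_smul, hu, mul_zero, add_zero, b_smul_right, b_comm z u, hz1, mul_one, sub_self]
  · rw [b_sub_right, b_smul_right, hz1, b_self_zero hu, mul_zero, sub_zero]
  · rw [b_sub_right, b_smul_right, hz2, b_comm w u, huw, mul_zero, sub_zero]

/-- Every vector is a combination of singular vectors once one exists. -/
theorem mem_span_singular (hB : Nondeg Q) {u : ι → F} (hu : Q u = 0) (hu0 : u ≠ 0) (x : ι → F) :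
    x ∈ Submodule.span F {y | Q y = 0} := by
  obtain ⟨f, hf, huf⟩ := exists_partner hB hu hu0
  obtain ⟨x₀, hx₀⟩ : ∃ x₀, x₀ = x - B x f • u - B x u • f := ⟨_, rfl⟩
  have h₁ : B x₀ u = 0 := by
    rw [hx₀, b_sub_left, b_sub_left, b_smul_left, b_smul_left, b_self_zero hu, b_comm f u, huf]
    ring
  have h₂ : B x₀ f = 0 := by
    rw [hx₀, b_sub_left, b_sub_left, b_smul_left, b_smul_left, b_self_zero hf, huf]
    ring
  have hs : ∀ y, Q y = 0 → y ∈ Submodule.span F {y | Q y = 0} := fun y hy =>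
    Submodule.subset_span hy
  have e : x = (x₀ + (-Q x₀) • u + f) + (B x f + Q x₀) • u + (B x u - 1) • f := by
    rw [hx₀]; module
  rw [e]
  refine add_mem (add_mem (hs _ ?_) (Submodule.smul_mem _ _ (hs u hu)))
    (Submodule.smul_mem _ _ (hs f hf))
  rw [q_add, q_add, q_smul, hu, hf, b_smul_right, h₁, b_add_left, h₂, b_smul_left, huf]
  ring

theorem exists_nonorth_singular (hB : Nondeg Q) {u : ι → F} (hu : Q u = 0) (hu0 : u ≠ 0)
    {v : ι → F} (hv : v ≠ 0) : ∃ y, Q y = 0 ∧ B y v ≠ 0 := by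
  by_contra hc
  push Not at hc
  refine hv (hB v fun x => ?_)
  rw [b_comm]
  induction mem_span_singular hB hu hu0 x using Submodule.span_induction with
  | mem y hy => exact hc y hy
  | zero => exact b_zero_left v
  | add a b _ _ ha hb => rw [b_add_left, ha, hb, add_zero]
  | smul c a _ ha => rw [b_smul_left, ha, mul_zero]

theorem finrank_orth_pair [Finite ι] (hB : Nondeg Q) (u w : ι → F) :
    Module.finrank F (ι → F) ≤
      2 + Module.finrank F (orth Q (Submodule.span F ({u, w} : Set (ι → F)))) := by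
  classical
  have h := finrank_orth_span hB ({u, w} : Finset (ι → F))
  rw [Finset.coe_pair] at h
  have : ({u, w} : Finset (ι → F)).card ≤ 2 := Finset.card_le_two
  omega

theorem exists_singular_perp [Finite F] [Finite ι] (hB : Nondeg Q)
    (hn : 5 ≤ Module.finrank F (ι → F)) (u w : ι → F) :
    ∃ y, Q y = 0 ∧ y ≠ 0 ∧ B u y = 0 ∧ B w y = 0 := by
  have h := finrank_orth_pair hB u w
  obtain ⟨y, hy, hy0, hyq⟩ := exists_singular (Q := Q)
    (U := orth Q (Submodule.span F ({u, w} : Set (ι → F)))) (by omega)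
  exact ⟨y, hyq, hy0, mem_orth_span.1 hy u (Set.mem_insert _ _),
    mem_orth_span.1 hy w (Set.mem_insert_of_mem _ rfl)⟩

theorem exists_nonzero_singular [Finite F] [Finite ι] (hn : 5 ≤ Module.finrank F (ι → F)) :
    ∃ y : ι → F, Q y = 0 ∧ y ≠ 0 := by
  obtain ⟨y, -, hy0, hy⟩ := exists_singular (Q := Q) (U := (⊤ : Submodule F (ι → F)))
    (by rw [finrank_top]; omega)
  exact ⟨y, hy, hy0⟩

end

/-- Orthogonal independent singular vectors are conjugate under a Siegel transformation. -/
theorem exists_move_orth (hB : Nondeg Q) {u w : ι → F} (hu : Q u = 0) (hw : Q w = 0)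
    (huw : B u w = 0) (hi : u ∉ Submodule.span F {w - u}) : ∃ e ∈ El Q, ap e u = w := by
  obtain ⟨z, hz, huz, hwz⟩ := exists_common_one hB hu huw hi
  obtain ⟨e, he⟩ := exists_siegel hB hz (v := w - u)
    (by rw [b_sub_right, b_comm z w, b_comm z u, huz, hwz, sub_self])
  refine ⟨e, siegel_mem_El he, ?_⟩
  rw [he.2.2, huz, q_sub, hw, hu, b_sub_right, huw, b_self_zero hu, b_comm w u, huw]
  module

/-- Singular vectors form one orbit. -/
theorem exists_move_singular [Finite F] (hB : Nondeg Q) (hn : 5 ≤ Module.finrank F (ι → F))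
    {u w : ι → F} (hu : Q u = 0) (hw : Q w = 0) (hu0 : u ≠ 0) (hw0 : w ≠ 0) :
    ∃ e ∈ El Q, ap e u = w := by
  -- first move to a vector orthogonal to both and independent of each
  obtain ⟨y, hy, hy0, huy, hwy, hiu, hiy⟩ : ∃ y, Q y = 0 ∧ y ≠ 0 ∧ B u y = 0 ∧ B w y = 0 ∧
      u ∉ Submodule.span F {y - u} ∧ y ∉ Submodule.span F {w - y} := by
    obtain ⟨f, hf, huf⟩ := exists_partner hB hu hu0
    have key : ∀ a, Q a = 0 → a ≠ 0 → ∀ b y, B b y = 0 → y ≠ 0 → B b a ≠ 0 →
        a ∉ Submodule.span F {y - a} ∧ y ∉ Submodule.span F {a - y} := by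
      intro a ha ha0 b y hby hy0 hba
      constructor
      · intro h
        obtain ⟨c, hc⟩ := Submodule.mem_span_singleton.1 h
        have h' := congrArg (B b) hc
        rw [b_smul_right, b_sub_right, hby, zero_sub] at h'
        have hc1 : -c = 1 := mul_right_cancel₀ hba (by linear_combination h')
        rw [neg_eq_iff_eq_neg] at hc1
        rw [hc1] at hc
        refine hy0 ?_
        linear_combination (norm := module) -hc
      · intro h
        obtain ⟨c, hc⟩ := Submodule.mem_span_singleton.1 h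
        have h' := congrArg (B b) hc
        rw [b_smul_right, b_sub_right, hby, sub_zero] at h'
        rcases mul_eq_zero.1 h' with h0 | h0
        · rw [h0, zero_smul] at hc; exact hy0 hc.symm
        · exact hba h0
    by_cases huw : B u w = 0
    · by_cases hwf : B w f = 0
      · obtain ⟨y, hy, hy0, huy, hwy⟩ := exists_singular_perp hB hn u w
        by_cases hi : w ∈ Submodule.span F {u}
        · obtain ⟨c, rfl⟩ := Submodule.mem_span_singleton.1 hi
          rw [b_smul_left, huf, mul_one] at hwf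
          exact absurd (by rw [hwf, zero_smul]) hw0
        · have hwi : u ∉ Submodule.span F {w} := fun h => by
            obtain ⟨c, hc⟩ := Submodule.mem_span_singleton.1 h
            rw [← hc, b_smul_left, hwf, mul_zero] at huf
            exact zero_ne_one huf
          -- `u` itself serves
          refine ⟨u, hu, hu0, b_self_zero hu, by rw [b_comm]; exact huw, ?_, ?_⟩
          · rw [sub_self, Submodule.span_zero_singleton, Submodule.mem_bot]; exact hu0
          · intro h
            obtain ⟨c, hc⟩ := Submodule.mem_span_singleton.1 h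
            refine hwi (Submodule.mem_span_singleton.2 ?_)
            by_cases hc1 : 1 + c = 0
            · exfalso
              refine hw0 ?_
              have : c = -1 := by linear_combination hc1
              rw [this] at hc
              linear_combination (norm := module) -hc
            · exact ⟨(1 + c)⁻¹ * c, by
                rw [mul_smul, show c • w = (1 + c) • u by linear_combination (norm := module) hc,
                  smul_smul, inv_mul_cancel₀ hc1, one_smul]⟩
      · obtain ⟨y, hy, hy0, huy, hfy⟩ := exists_singular_perp hB hn u f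
        by_cases hwy : B w y = 0
        · refine ⟨y, hy, hy0, huy, hwy, (key u hu hu0 f y hfy hy0
            (by rw [b_comm, huf]; exact one_ne_zero)).1, ?_⟩
          exact (key w hw hw0 f y hfy hy0 (by rwa [b_comm])).2
        · -- `y` separates `u` from `w`
          refine ⟨u, hu, hu0, b_self_zero hu, by rw [b_comm]; exact huw, ?_, ?_⟩
          · rw [sub_self, Submodule.span_zero_singleton, Submodule.mem_bot]; exact hu0
          · refine (key w hw hw0 y u ?_ hu0 ?_).2
            · rw [b_comm]; exact huy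
            · rwa [b_comm]
    · obtain ⟨y, hy, hy0, huy, hwy⟩ := exists_singular_perp hB hn u w
      exact ⟨y, hy, hy0, huy, hwy, (key u hu hu0 w y hwy hy0 (by rwa [b_comm])).1,
        (key w hw hw0 u y huy hy0 huw).2⟩
  obtain ⟨e₁, he₁, h₁⟩ := exists_move_orth hB hu hy huy hiu
  obtain ⟨e₂, he₂, h₂⟩ := exists_move_orth hB hy hw (by rw [b_comm]; exact hwy) hiy
  exact ⟨e₂ * e₁, mul_mem he₂ he₁, by rw [ap_mul, h₁, h₂]⟩

/-- The Siegel group at `u` is transitive on the partners of `u`. -/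
theorem exists_move_partner (hB : Nondeg Q) {u f f' : ι → F} (hu : Q u = 0) (hf : Q f = 0)
    (hf' : Q f' = 0) (h : B u f = B u f') (h1 : B u f = 1) :
    ∃ e : Grp Q, IsSiegel u (f' - f) e ∧ ap e f = f' := by
  obtain ⟨e, he⟩ := exists_siegel hB hu (v := f' - f) (by rw [b_sub_right, h, sub_self])
  refine ⟨e, he, ?_⟩
  rw [he.2.2, q_sub, hf, hf', b_sub_right, b_self_zero hf, b_comm f u, h1, b_comm f' f]
  module

/-- Witt transitivity on hyperbolic pairs. -/
theorem exists_move_pair [Finite F] (hB : Nondeg Q) (hn : 5 ≤ Module.finrank F (ι → F))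
    {u f u' f' : ι → F} (hu : Q u = 0) (hf : Q f = 0) (h : B u f = 1) (hu' : Q u' = 0)
    (hf' : Q f' = 0) (h' : B u' f' = 1) : ∃ e ∈ El Q, ap e u = u' ∧ ap e f = f' := by
  obtain ⟨e₁, he₁, h₁⟩ := exists_move_singular hB hn hu hu'
    (ne_zero_of_b (by rw [h]; exact one_ne_zero)) (ne_zero_of_b (by rw [h']; exact one_ne_zero))
  have hb : B u' (ap e₁ f) = 1 := by rw [← h₁, ap_b, h]
  obtain ⟨e₂, he₂, h₂⟩ := exists_move_partner hB hu' (f := ap e₁ f) (by rw [ap_q, hf]) hf'
    (by rw [hb, h']) hb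
  refine ⟨e₂ * e₁, mul_mem (siegel_mem_El he₂) he₁, ?_, by rw [ap_mul, h₂]⟩
  rw [ap_mul, h₁, siegel_fix he₂ (b_self_zero hu') he₂.2.1]

/-- Vectors of the same norm form one orbit. -/
theorem exists_move_vec [Finite F] (hB : Nondeg Q) (hn : 5 ≤ Module.finrank F (ι → F))
    {v w : ι → F} (hv : v ≠ 0) (hw : w ≠ 0) (h : Q v = Q w) : ∃ e ∈ El Q, ap e v = w := by
  obtain ⟨s, hs, hs0⟩ := exists_nonzero_singular (Q := Q) hn
  have pick : ∀ x : ι → F, x ≠ 0 → ∃ u, Q u = 0 ∧ B u x = 1 := by
    intro x hx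
    obtain ⟨u, hu, hux⟩ := exists_nonorth_singular hB hs hs0 hx
    exact ⟨(B u x)⁻¹ • u, by rw [q_smul, hu, mul_zero],
      by rw [b_smul_left, inv_mul_cancel₀ hux]⟩
  obtain ⟨u, hu, hux⟩ := pick v hv
  obtain ⟨u', hu', hux'⟩ := pick w hw
  have hp : ∀ u x : ι → F, Q u = 0 → B u x = 1 →
      Q (x - Q x • u) = 0 ∧ B u (x - Q x • u) = 1 := fun u x hu hux =>
    ⟨by rw [q_sub, q_smul, hu, mul_zero, add_zero, b_smul_right, b_comm x u, hux, mul_one,
      sub_self], by rw [b_sub_right, b_smul_right, hux, b_self_zero hu, mul_zero, sub_zero]⟩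
  obtain ⟨e, he, h₁, h₂⟩ := exists_move_pair hB hn hu (hp u v hu hux).1 (hp u v hu hux).2 hu'
    (hp u' w hu' hux').1 (hp u' w hu' hux').2
  refine ⟨e, he, ?_⟩
  rw [ap_sub, ap_smul, h₁] at h₂
  rw [h] at h₂
  exact sub_left_inj.1 h₂

/-- Reflections. -/
def IsRefl (v : ι → F) (g : Grp Q) : Prop :=
  Q v ≠ 0 ∧ ∀ x, ap g x = x - ((Q v)⁻¹ * B v x) • v

theorem exists_refl (hB : Nondeg Q) {v : ι → F} (hv : Q v ≠ 0) : ∃ g : Grp Q, IsRefl v g := by
  obtain ⟨g, hg⟩ := exists_iso hB
    (LinearMap.id - ((Q v)⁻¹ • QuadraticMap.polarBilin Q v).smulRight v) (fun x => by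
      simp only [LinearMap.sub_apply, LinearMap.id_apply, LinearMap.smulRight_apply,
        LinearMap.smul_apply, QuadraticMap.polarBilin_apply_apply, smul_eq_mul]
      rw [q_sub, q_smul, b_smul_right, b_comm x v]
      field_simp
      ring)
  exact ⟨g, hv, fun x => by
    rw [hg]
    simp only [LinearMap.sub_apply, LinearMap.id_apply, LinearMap.smulRight_apply,
      LinearMap.smul_apply, QuadraticMap.polarBilin_apply_apply, smul_eq_mul]⟩

theorem refl_unique {v : ι → F} {g h : Grp Q} (hg : IsRefl v g) (hh : IsRefl v h) : g = h :=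
  ext_ap fun x => by rw [hg.2, hh.2]

theorem refl_conj {v : ι → F} {g : Grp Q} (hg : IsRefl v g) (s : Grp Q) :
    IsRefl (ap s v) (s * g * s⁻¹) := by
  refine ⟨by rw [ap_q]; exact hg.1, fun x => ?_⟩
  obtain ⟨y, rfl⟩ : ∃ y, x = ap s y := ⟨ap s⁻¹ x, (ap_ap_inv s x).symm⟩
  rw [ap_mul, ap_mul, ap_inv_ap, hg.2]
  simp only [ap_sub, ap_smul, ap_b, ap_q]

/-- The fixed space of an isometry. -/
def fixSpace (g : Grp Q) : Submodule F (ι → F) where
  carrier := {x | ap g x = x}
  add_mem' := fun {a b} (ha : ap g a = a) (hb : ap g b = b) => by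
    show ap g (a + b) = a + b; rw [ap_add, ha, hb]
  zero_mem' := ap_zero g
  smul_mem' := fun c x (hx : ap g x = x) => by show ap g (c • x) = c • x; rw [ap_smul, hx]

theorem mem_fixSpace {g : Grp Q} {x : ι → F} : x ∈ fixSpace g ↔ ap g x = x := Iff.rfl

/-- Every isometry is a product of Siegel transformations and reflections. -/
theorem closure_siegel_refl (hB : Nondeg Q) :
    Subgroup.closure ({g : Grp Q | ∃ u v, IsSiegel u v g} ∪ {g | ∃ v, IsRefl v g}) = ⊤ := by
  set H := Subgroup.closure ({g : Grp Q | ∃ u v, IsSiegel u v g} ∪ {g | ∃ v, IsRefl v g})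
  have hH₁ : ∀ g, (∃ u v, IsSiegel u v g) → g ∈ H := fun g h =>
    Subgroup.subset_closure (Or.inl h)
  have hH₂ : ∀ g, (∃ v, IsRefl v g) → g ∈ H := fun g h => Subgroup.subset_closure (Or.inr h)
  refine eq_top_iff.2 fun g _ => ?_
  induction hk : Module.finrank F (ι → F) - Module.finrank F (fixSpace g) using
    Nat.strong_induction_on generalizing g with
  | _ k ih =>
  subst hk
  by_cases h1 : g = 1
  · rw [h1]; exact one_mem H
  have step : ∀ s x : _, s ∈ H → (∀ z ∈ fixSpace g, ap s z = z) → x ∉ fixSpace g →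
      ap (s * g) x = x → g ∈ H := by
    intro s x hs hfix hx hsx
    have hlt : fixSpace g < fixSpace (s * g) :=
      lt_of_le_of_ne (fun z hz => by
        show ap (s * g) z = z
        rw [ap_mul, mem_fixSpace.1 hz, hfix z hz])
        fun e => hx (e.symm ▸ (hsx : x ∈ fixSpace (s * g)))
    have h1 := Submodule.finrank_lt_finrank_of_lt hlt
    have h2 := Submodule.finrank_le (fixSpace (s * g))
    have hm := ih _ (by omega) (s * g) (Subgroup.mem_top _) rfl
    have : s⁻¹ * (s * g) ∈ H := mul_mem (inv_mem hs) hm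
    rwa [inv_mul_cancel_left] at this
  have hperp : ∀ x, ∀ z ∈ fixSpace g, B z (ap g x - x) = 0 := fun x z hz => by
    rw [b_sub_right]
    conv_lhs => enter [1]; rw [← mem_fixSpace.1 hz]
    rw [ap_b, sub_self]
  by_cases hex : ∃ x, Q (ap g x - x) ≠ 0
  · obtain ⟨x, hx⟩ := hex
    obtain ⟨r, hr⟩ := exists_refl hB hx
    refine step r x (hH₂ r ⟨_, hr⟩) (fun z hz => ?_)
      (fun h => hx (by rw [mem_fixSpace.1 h, sub_self, QuadraticMap.map_zero])) ?_
    · rw [hr.2, b_comm, hperp x z hz, mul_zero, zero_smul, sub_zero]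
    · have e : B (ap g x - x) (ap g x) = Q (ap g x - x) := by
        rw [b_sub_left, q_sub, ap_q, b_self, ap_q, b_comm x]; ring
      rw [ap_mul, hr.2, e, inv_mul_cancel₀ hx, one_smul, sub_sub_cancel]
  · push Not at hex
    obtain ⟨x, hx⟩ : ∃ x, ap g x ≠ x := by
      by_contra hc
      push Not at hc
      exact h1 (ext_ap fun x => by rw [hc x, ap_one])
    obtain ⟨y, hy⟩ : ∃ y, y = ap g x - x := ⟨_, rfl⟩
    have hgx : ap g x = x + y := by rw [hy]; abel
    have hxy : B x y = 0 := by
      have h := ap_q g x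
      rw [hgx, q_add, hy, hex x, ← hy, add_zero, add_eq_left] at h
      exact h
    obtain ⟨x', hx'⟩ : ∃ x', B x (ap g x' - x') ≠ 0 := by
      by_contra hc
      push Not at hc
      refine hx (sub_eq_zero.1 (hB _ fun w => ?_))
      obtain ⟨x', rfl⟩ : ∃ x', w = ap g x' := ⟨ap g⁻¹ w, (ap_ap_inv g w).symm⟩
      have h := hc x'
      rw [b_sub_right] at h
      rw [b_sub_left, ap_b]
      linear_combination -h
    obtain ⟨u, hu⟩ : ∃ u, u = (B x (ap g x' - x'))⁻¹ • (ap g x' - x') := ⟨_, rfl⟩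
    have hxu : B x u = 1 := by rw [hu, b_smul_right, inv_mul_cancel₀ hx']
    have hQu : Q u = 0 := by rw [hu, q_smul, hex, mul_zero]
    have huy : B u y = 0 := by
      have h : Q ((ap g x' - x') + (ap g x - x)) = 0 := by
        rw [show (ap g x' - x') + (ap g x - x) = ap g (x' + x) - (x' + x) by rw [ap_add]; abel]
        exact hex _
      rw [q_add, hex, hex, zero_add, zero_add, ← hy] at h
      rw [hu, b_smul_left, h, mul_zero]
    obtain ⟨e, he⟩ := exists_siegel hB hQu huy
    refine step e⁻¹ x (inv_mem (hH₁ e ⟨_, _, he⟩)) (fun z hz => ?_) hx ?_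
    · have hez : ap e z = z := siegel_fix he
        (by rw [hu, b_smul_right, hperp x' z hz, mul_zero]) (by rw [hy]; exact hperp x z hz)
      calc ap e⁻¹ z = ap e⁻¹ (ap e z) := by rw [hez]
        _ = z := ap_inv_ap e z
    · have hez : ap e x = ap g x := by
        rw [he.2.2, hxu, hxy, hy, hex x, ← hy, hgx]; module
      rw [ap_mul, ← hez, ap_inv_ap]

/-- The quotient by `El` is abelian. -/
theorem omega_le_El [Finite F] (hB : Nondeg Q) (hn : 5 ≤ Module.finrank F (ι → F)) :
    Cfsg.Omega F ⇑Q ≤ El Q := by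
  rw [Cfsg.Omega, _root_.commutator_def, Subgroup.commutator_le]
  have hr : ∀ a b : Grp Q, (∃ v, IsRefl v a) → (∃ v, IsRefl v b) → Commute
      (a : Grp Q ⧸ El Q) (b : Grp Q ⧸ El Q) := by
    rintro a b ⟨v, ha⟩ ⟨w, hb⟩
    have hab := refl_conj hb a
    obtain ⟨e, he, hew⟩ := exists_move_vec hB hn (v := w) (w := ap a w)
      (fun h => hb.1 (by rw [h, QuadraticMap.map_zero]))
      (fun h => hb.1 (by rw [← ap_q a w, h, QuadraticMap.map_zero])) (ap_q a w).symm
    have h' := refl_conj hb e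
    rw [hew] at h'
    have heq := refl_unique hab h'
    have he1 : (e : Grp Q ⧸ El Q) = 1 := (QuotientGroup.eq_one_iff e).2 he
    have := congrArg (fun g : Grp Q => (g : Grp Q ⧸ El Q)) heq
    simp only [QuotientGroup.mk_mul, QuotientGroup.mk_inv, he1, one_mul, inv_one, mul_one] at this
    exact mul_inv_eq_iff_eq_mul.1 this
  have hcomm : ∀ a b : Grp Q, Commute (a : Grp Q ⧸ El Q) (b : Grp Q ⧸ El Q) := by
    have h1 : ∀ a : Grp Q, (∃ u v, IsSiegel u v a) → (a : Grp Q ⧸ El Q) = 1 :=
      fun a ⟨_, _, h⟩ => (QuotientGroup.eq_one_iff a).2 (siegel_mem_El h)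
    have key : ∀ a : Grp Q, ((∃ u v, IsSiegel u v a) ∨ ∃ v, IsRefl v a) → ∀ b : Grp Q,
        Commute (a : Grp Q ⧸ El Q) (b : Grp Q ⧸ El Q) := by
      intro a ha b
      have hb : b ∈ Subgroup.closure
          ({g : Grp Q | ∃ u v, IsSiegel u v g} ∪ {g | ∃ v, IsRefl v g}) := by
        rw [closure_siegel_refl hB]; trivial
      induction hb using Subgroup.closure_induction with
      | mem b hb =>
          rcases ha with ha | ha
          · rw [h1 a ha]; exact Commute.one_left _
          rcases hb with hb | hb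
          · rw [h1 b hb]; exact Commute.one_right _
          exact hr a b ha hb
      | one => rw [QuotientGroup.mk_one]; exact Commute.one_right _
      | mul x y _ _ hx hy => rw [QuotientGroup.mk_mul]; exact hx.mul_right hy
      | inv x _ hx => rw [QuotientGroup.mk_inv]; exact hx.inv_right
    intro a b
    have ha : a ∈ Subgroup.closure
        ({g : Grp Q | ∃ u v, IsSiegel u v g} ∪ {g | ∃ v, IsRefl v g}) := by
      rw [closure_siegel_refl hB]; trivial
    induction ha using Subgroup.closure_induction with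
    | mem a ha => exact key a ha b
    | one => rw [QuotientGroup.mk_one]; exact Commute.one_left _
    | mul x y _ _ hx hy => rw [QuotientGroup.mk_mul]; exact hx.mul_left hy
    | inv x _ hx => rw [QuotientGroup.mk_inv]; exact hx.inv_left
  intro a _ b _
  rw [← QuotientGroup.eq_one_iff, commutatorElement_def]
  simp only [QuotientGroup.mk_mul, QuotientGroup.mk_inv]
  rw [(hcomm a b).eq]; group

theorem exists_v_b [Finite F] (hB : Nondeg Q) (hn : 5 ≤ Module.finrank F (ι → F))
    (u z : ι → F) : ∃ v b, B u v = 0 ∧ B z v = 0 ∧ B u b = 0 ∧ B z b = 0 ∧ B v b = -1 := by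
  have h := finrank_orth_pair hB u z
  set S := orth Q (Submodule.span F ({u, z} : Set (ι → F))) with hS
  obtain ⟨v, hv, b, hb, hvb⟩ : ∃ v ∈ S, ∃ b ∈ S, B v b ≠ 0 := by
    by_contra hc
    push Not at hc
    have := two_mul_finrank_le hB (W := S) (fun x hx w hw => hc w hw x hx)
    omega
  refine ⟨v, (-(B v b)⁻¹) • b, mem_orth_span.1 hv u (Set.mem_insert _ _),
    mem_orth_span.1 hv z (Set.mem_insert_of_mem _ rfl), ?_, ?_, ?_⟩
  · rw [b_smul_right, mem_orth_span.1 hb u (Set.mem_insert _ _), mul_zero]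
  · rw [b_smul_right, mem_orth_span.1 hb z (Set.mem_insert_of_mem _ rfl), mul_zero]
  · rw [b_smul_right, neg_mul, inv_mul_cancel₀ hvb]

/-- A Siegel transformation with singular parameters is a commutator of two such elements. -/
theorem siegel_mem_commutator [Finite F] (hB : Nondeg Q) (hn : 5 ≤ Module.finrank F (ι → F))
    {u z : ι → F} {g : Grp Q} (hg : IsSiegel u z g) (hz : Q z = 0) :
    ∃ a ∈ El Q, ∃ c ∈ El Q, a * c * a⁻¹ * c⁻¹ = g := by
  obtain ⟨v, b, huv, hzv, hub, hzb, hvb⟩ := exists_v_b hB hn u z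
  obtain ⟨a, ha⟩ := exists_siegel hB hz hzb
  obtain ⟨c, hc⟩ := exists_siegel hB hg.1 huv
  refine ⟨a, siegel_mem_El ha, c, siegel_mem_El hc, ?_⟩
  have hau : ap a u = u := siegel_fix ha hg.2.1 hub
  have hav : ap a v = v + z := by
    rw [ha.2.2, b_comm v z, hzv, hvb, mul_zero]; module
  have h1 := siegel_conj hc a
  rw [hau, hav] at h1
  obtain ⟨d, hd⟩ := exists_siegel hB hg.1 (v := -v) (by
    rw [← neg_one_smul F v, b_smul_right, huv, mul_zero])
  have hci : c⁻¹ = d := by
    refine inv_eq_of_mul_eq_one_right ?_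
    have := siegel_mul hc hd
    rw [add_neg_cancel] at this
    exact siegel_unique this (siegel_one hg.1)
  have h2 := siegel_mul h1 hd
  rw [show v + z + -v = z by abel, ← hci] at h2
  exact siegel_unique h2 hg

/-- Siegel transformations with singular parameters generate the whole root group. -/
theorem siegel_mem_closure_singular [Finite F] (hB : Nondeg Q)
    (hn : 5 ≤ Module.finrank F (ι → F)) {u v : ι → F} {g : Grp Q} (hg : IsSiegel u v g) :
    g ∈ Subgroup.closure {g | ∃ z, Q z = 0 ∧ IsSiegel u z g} := by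
  set T := Subgroup.closure {g : Grp Q | ∃ z, Q z = 0 ∧ IsSiegel u z g}
  have hu := hg.1
  by_cases hu0 : u = 0
  · subst hu0
    have : g = 1 := ext_ap fun x => by
      rw [hg.2.2, ap_one, b_zero_right, zero_smul, mul_zero, zero_smul, smul_zero, add_zero,
        sub_zero, sub_zero]
    rw [this]; exact one_mem T
  obtain ⟨f, hf, huf⟩ := exists_partner hB hu hu0
  obtain ⟨s, hs, hs0, hus, hfs⟩ := exists_singular_perp hB hn u f
  -- the projection of a singular vector to `u⊥` along `f` is a sum of singular ones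
  obtain ⟨S, hS⟩ : ∃ S, S = orth Q (Submodule.span F ({u, f} : Set (ι → F))) := ⟨_, rfl⟩
  have memS : ∀ x, x ∈ S ↔ B u x = 0 ∧ B f x = 0 := fun x => by
    rw [hS, mem_orth_span]
    simp
  have hcl : ∀ z : ι → F, B u z = 0 → Q z = 0 → ∀ g, IsSiegel u z g → g ∈ T := fun z _ hz g h =>
    Subgroup.subset_closure ⟨z, hz, h⟩
  obtain ⟨t, ht, hst⟩ : ∃ t ∈ S, B s t = 1 := by
    have hsS : s ∉ Submodule.span F ({u, f} : Set (ι → F)) := fun h => by
      obtain ⟨a, b, hab⟩ := Submodule.mem_span_pair.1 h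
      have h1 := congrArg (B u) hab
      have h2 := congrArg (B f) hab
      rw [b_add_right, b_smul_right, b_smul_right, b_self_zero hu, huf, hus] at h1
      rw [b_add_right, b_smul_right, b_smul_right, b_comm f u, huf, b_self_zero hf, hfs] at h2
      have hb0 : b = 0 := by linear_combination h1
      have ha0 : a = 0 := by linear_combination h2
      rw [hb0, ha0, zero_smul, zero_smul, add_zero] at hab
      exact hs0 hab.symm
    obtain ⟨t, ht, hst⟩ := exists_orth_one hB hsS
    exact ⟨t, by rw [hS]; exact ht, hst⟩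
  obtain ⟨s', hs'⟩ : ∃ s', s' = t - Q t • s := ⟨_, rfl⟩
  have hs'q : Q s' = 0 := by
    rw [hs', q_sub, q_smul, hs, mul_zero, add_zero, b_smul_right, b_comm t s, hst, mul_one,
      sub_self]
  have hs's : B s s' = 1 := by
    rw [hs', b_sub_right, b_smul_right, hst, b_self_zero hs, mul_zero, sub_zero]
  have hus' : B u s' = 0 := by
    rw [hs', b_sub_right, b_smul_right, ((memS t).1 ht).1, hus, mul_zero, sub_zero]
  -- decompose `v`
  have huv := hg.2.1
  obtain ⟨v₀, hv₀⟩ : ∃ v₀, v₀ = v - B v s' • s - B v s • s' := ⟨_, rfl⟩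
  have hv₀s : B v₀ s = 0 := by
    rw [hv₀, b_sub_left, b_sub_left, b_smul_left, b_smul_left, b_self_zero hs, b_comm s' s, hs's]
    ring
  have hv₀s' : B v₀ s' = 0 := by
    rw [hv₀, b_sub_left, b_sub_left, b_smul_left, b_smul_left, b_self_zero hs'q, hs's]
    ring
  have huv₀ : B u v₀ = 0 := by
    rw [hv₀, b_sub_right, b_sub_right, b_smul_right, b_smul_right, huv, hus, hus']
    ring
  obtain ⟨z₁, hz₁⟩ : ∃ z, z = v₀ + (-Q v₀) • s + s' := ⟨_, rfl⟩
  obtain ⟨z₂, hz₂⟩ : ∃ z, z = (B v s' + Q v₀) • s := ⟨_, rfl⟩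
  obtain ⟨z₃, hz₃⟩ : ∃ z, z = (B v s - 1) • s' := ⟨_, rfl⟩
  have hz₁q : Q z₁ = 0 := by
    rw [hz₁, q_add, q_add, q_smul, hs, hs'q, b_smul_right, hv₀s, b_add_left, hv₀s', b_smul_left,
      hs's]
    ring
  have hz₁u : B u z₁ = 0 := by
    rw [hz₁, b_add_right, b_add_right, b_smul_right, huv₀, hus, hus']; ring
  have hz₂u : B u z₂ = 0 := by rw [hz₂, b_smul_right, hus, mul_zero]
  have hz₃u : B u z₃ = 0 := by rw [hz₃, b_smul_right, hus', mul_zero]
  obtain ⟨g₁, hg₁⟩ := exists_siegel hB hu hz₁u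
  obtain ⟨g₂, hg₂⟩ := exists_siegel hB hu hz₂u
  obtain ⟨g₃, hg₃⟩ := exists_siegel hB hu hz₃u
  have hm := siegel_mul (siegel_mul hg₁ hg₂) hg₃
  have e : z₁ + z₂ + z₃ = v := by rw [hz₁, hz₂, hz₃, hv₀]; module
  rw [e] at hm
  rw [siegel_unique hg hm]
  refine mul_mem (mul_mem (hcl z₁ hz₁u hz₁q g₁ hg₁) (hcl z₂ hz₂u ?_ g₂ hg₂))
    (hcl z₃ hz₃u ?_ g₃ hg₃)
  · rw [hz₂, q_smul, hs, mul_zero]
  · rw [hz₃, q_smul, hs'q, mul_zero]

theorem El_le_omega [Finite F] (hB : Nondeg Q) (hn : 5 ≤ Module.finrank F (ι → F)) :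
    El Q ≤ ⁅El Q, El Q⁆ := by
  refine (Subgroup.closure_le _).2 ?_
  rintro g ⟨u, v, hg⟩
  refine (Subgroup.closure_le _).2 ?_ (siegel_mem_closure_singular hB hn hg)
  rintro h ⟨z, hz, hh⟩
  obtain ⟨a, ha, c, hc, rfl⟩ := siegel_mem_commutator hB hn hh hz
  rw [← commutatorElement_def]
  exact Subgroup.commutator_mem_commutator ha hc

theorem omega_eq_El [Finite F] (hB : Nondeg Q) (hn : 5 ≤ Module.finrank F (ι → F)) :
    Cfsg.Omega F ⇑Q = El Q :=
  le_antisymm (omega_le_El hB hn) ((El_le_omega hB hn).trans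
    (Subgroup.commutator_mono le_top le_top))

theorem omega_perfect [Finite F] (hB : Nondeg Q) (hn : 5 ≤ Module.finrank F (ι → F)) :
    ⁅Cfsg.Omega F ⇑Q, Cfsg.Omega F ⇑Q⁆ = Cfsg.Omega F ⇑Q := by
  rw [omega_eq_El hB hn]
  exact le_antisymm (Subgroup.commutator_le_left _ _) (El_le_omega hB hn)

end CfsgLib.Orth
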