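/-
Stabilisers of totally singular subspaces in orthogonal groups.
-/
import Cfsg.Agent.Lib.Classical.OrthOmega

set_option autoImplicit false

namespace CfsgLib.Orth

open Matrix

variable {F : Type*} [Field F] {ι : Type} [Fintype ι] [DecidableEq ι]
variable {Q : QuadraticForm F (ι → F)}

local notation "B" => QuadraticMap.polar (DFunLike.coe Q)

omit [Fintype ι] [DecidableEq ι] in
/-- A non-degenerate quadratic form given as a function is a quadratic form. -/
theorem exists_quadForm {Q' : (ι → F) → F} (hQ : Cfsg.Geo.IsNondegenerateQuadraticForm Q') :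
    ∃ Q : QuadraticForm F (ι → F), ⇑Q = Q' ∧ Nondeg Q := by
  refine ⟨QuadraticMap.ofPolar Q' (fun a x => by rw [hQ.smul, smul_eq_mul, sq])
    hQ.polar_bilinear.add_left
    (fun a x y => by rw [hQ.polar_bilinear.smul_left, smul_eq_mul]), rfl, fun x hx => ?_⟩
  by_contra h
  obtain ⟨-, y, hy⟩ := hQ.nondegenerate x h
  exact hy (hx y)

/-- The stabiliser of a subspace. -/
def stab (Q : QuadraticForm F (ι → F)) (W : Submodule F (ι → F)) : Subgroup (Grp Q) :=
  (Cfsg.Geo.subspaceStabilizer W).comap (Cfsg.isometryGroup F ⇑Q).subtype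

theorem mem_stab {W : Submodule F (ι → F)} {g : Grp Q} :
    g ∈ stab Q W ↔ ∀ v, v ∈ W ↔ ap g v ∈ W := Iff.rfl

theorem mem_stab_of_le {W : Submodule F (ι → F)} {g : Grp Q} (h : ∀ v ∈ W, ap g v ∈ W) :
    g ∈ stab Q W := by
  refine mem_stab.2 fun v => ⟨h v, fun hv => ?_⟩
  let f : W →ₗ[F] W :=
    { toFun := fun w => ⟨ap g w, h w w.2⟩
      map_add' := fun a b => Subtype.ext (ap_add g a b)
      map_smul' := fun c a => Subtype.ext (ap_smul g c a) }
  have hinj : Function.Injective f := fun a b e => Subtype.ext (ap_inj g (congrArg Subtype.val e))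
  obtain ⟨w, hw⟩ := LinearMap.injective_iff_surjective.1 hinj ⟨_, hv⟩
  rw [← ap_inj g (congrArg Subtype.val hw)]
  exact w.2

theorem siegel_mem_stab {W : Submodule F (ι → F)} {u v : ι → F} {g : Grp Q} (h : IsSiegel u v g)
    (hu : u ∈ W) (hW : ∀ w ∈ W, B w u = 0) : g ∈ stab Q W :=
  mem_stab_of_le fun x hx => by
    rw [h.2.2, hW x hx, mul_zero, zero_smul, zero_smul, add_zero, sub_zero]
    exact W.sub_mem hx (W.smul_mem _ hu)

theorem siegel_zero_eq_one {v : ι → F} {g : Grp Q} (hg : IsSiegel 0 v g) : g = 1 :=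
  ext_ap fun x => by
    rw [hg.2.2, ap_one, b_zero_right, zero_smul, mul_zero, zero_smul, smul_zero, add_zero,
      sub_zero, sub_zero]

/-- A subgroup containing the root groups of two non-orthogonal singular points contains all. -/
theorem El_le_of_two {M : Subgroup (Grp Q)} (hB : Nondeg Q) {u f : ι → F}
    (hu : Q u = 0) (hf : Q f = 0) (huf : B u f ≠ 0)
    (hMu : ∀ v g, IsSiegel u v g → g ∈ M) (hMf : ∀ v g, IsSiegel f v g → g ∈ M) : El Q ≤ M := by
  let C : Set (ι → F) := {a | Q a = 0 ∧ ∀ v g, IsSiegel a v g → g ∈ M}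
  have hstable : ∀ a ∈ C, ∀ g ∈ M, ap g a ∈ C := by
    intro a ha g hg
    refine ⟨by rw [ap_q]; exact ha.1, fun v h hh => ?_⟩
    have h1 := siegel_conj hh g⁻¹
    rw [ap_inv_ap] at h1
    have h2 := mul_mem (mul_mem hg (ha.2 _ _ h1)) (inv_mem hg)
    simpa only [mul_assoc, inv_inv, mul_inv_cancel, mul_one, mul_inv_cancel_left] using h2
  have hsmul : ∀ a ∈ C, ∀ c : F, c • a ∈ C := by
    intro a ha c
    refine ⟨by rw [q_smul, ha.1, mul_zero], fun v h hh => ?_⟩
    by_cases hc : c = 0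
    · subst hc
      rw [zero_smul] at hh
      rw [siegel_zero_eq_one hh]; exact one_mem M
    have hav : B a v = 0 := by
      have := hh.2.1
      rw [b_smul_left] at this
      exact (mul_eq_zero.1 this).resolve_left hc
    obtain ⟨g, hg⟩ := exists_siegel hB ha.1 hav
    exact ha.2 _ _ (siegel_smul hg c hh)
  have hclaim : ∀ a ∈ C, ∀ b ∈ C, B a b ≠ 0 → ∀ y, Q y = 0 → B a y ≠ 0 → y ∈ C := by
    intro a ha b hb hab y hy hay
    obtain ⟨e, he, hey⟩ := exists_move_partner hB ha.1 (f := (B a b)⁻¹ • b) (f' := (B a y)⁻¹ • y)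
      (by rw [q_smul, hb.1, mul_zero]) (by rw [q_smul, hy, mul_zero])
      (by rw [b_smul_right, b_smul_right, inv_mul_cancel₀ hab, inv_mul_cancel₀ hay])
      (by rw [b_smul_right, inv_mul_cancel₀ hab])
    have h1 := hstable _ (hsmul b hb (B a b)⁻¹) e (ha.2 _ _ he)
    rw [hey] at h1
    have h2 := hsmul _ h1 (B a y)
    rwa [smul_smul, mul_inv_cancel₀ hay, one_smul] at h2
  have hall : ∀ y, Q y = 0 → y ∈ C := by
    intro y hy
    by_cases h : B u y = 0
    · by_cases hi : u ∈ Submodule.span F {y - u}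
      · obtain ⟨c, hc⟩ := Submodule.mem_span_singleton.1 hi
        by_cases hc0 : c = 0
        · rw [hc0, zero_smul] at hc
          exact absurd (by rw [← hc, b_zero_left]) huf
        have e : y = ((1 + c) / c) • u := by
          rw [div_eq_mul_inv, mul_comm, mul_smul,
            show (1 + c) • u = c • y by linear_combination (norm := module) -hc,
            smul_smul, inv_mul_cancel₀ hc0, one_smul]
        rw [e]; exact hsmul u ⟨hu, hMu⟩ _
      · obtain ⟨z, hz, huz, hyz⟩ := exists_common_one hB hu h hi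
        have hzC : z ∈ C := hclaim u ⟨hu, hMu⟩ f ⟨hf, hMf⟩ huf z hz
          (by rw [huz]; exact one_ne_zero)
        exact hclaim z hzC u ⟨hu, hMu⟩ (by rw [b_comm, huz]; exact one_ne_zero) y hy
          (by rw [b_comm, hyz]; exact one_ne_zero)
    · exact hclaim u ⟨hu, hMu⟩ f ⟨hf, hMf⟩ huf y hy h
  refine (Subgroup.closure_le _).2 ?_
  rintro g ⟨a, v, hg⟩
  exact (hall a hg.1).2 v g hg

/-- The stabiliser of a totally singular subspace is maximal in `Ω`. -/
theorem stab_singular_maximal [Finite F] (hB : Nondeg Q) (hn : 5 ≤ Module.finrank F (ι → F))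
    {W : Submodule F (ι → F)} (hW0 : W ≠ ⊥) (hW : ∀ w ∈ W, Q w = 0)
    (hex : ∀ U : Submodule F (ι → F), (∀ x ∈ U, Q x = 0) →
      Module.finrank F U = Module.finrank F W + 1 →
      2 * Module.finrank F U ≠ Module.finrank F (ι → F)) :
    stab Q W ⊓ El Q < El Q ∧
      ∀ M, stab Q W ⊓ El Q ≤ M → M ≤ El Q → M = stab Q W ⊓ El Q ∨ M = El Q := by
  have hperp : ∀ a ∈ W, ∀ b ∈ W, B a b = 0 := fun a ha b hb => le_orth_of_singular hW hb a ha
  constructor
  · obtain ⟨w, hw, hw0⟩ := Submodule.exists_mem_ne_zero_of_ne_bot hW0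
    obtain ⟨f, hf, hwf⟩ := exists_partner hB (hW w hw) hw0
    obtain ⟨e, he, hew⟩ := exists_move_singular hB hn (hW w hw) hf hw0
      (ne_zero_of_b (y := w) (by rw [b_comm, hwf]; exact one_ne_zero))
    refine lt_of_le_of_ne inf_le_right fun h => ?_
    have hmem := (mem_stab.1 (h.symm ▸ he : e ∈ stab Q W ⊓ El Q).1 w).1 hw
    rw [hew] at hmem
    exact one_ne_zero (hwf.symm.trans (hperp w hw f hmem))
  intro M hle hM
  by_cases hMs : M ≤ stab Q W
  · exact Or.inl (le_antisymm (le_inf hMs hM) hle)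
  refine Or.inr (le_antisymm hM ?_)
  obtain ⟨g, hg, hgs⟩ := SetLike.not_le_iff_exists.1 hMs
  obtain ⟨w, hw, hgw⟩ : ∃ w ∈ W, ap g w ∉ W := by
    by_contra hc
    push Not at hc
    exact hgs (mem_stab_of_le hc)
  have hCW : ∀ x ∈ W, ∀ v h, IsSiegel x v h → h ∈ M := fun x hx v h hh =>
    hle ⟨siegel_mem_stab hh hx fun a ha => hperp a ha x hx, siegel_mem_El hh⟩
  have hconj : ∀ a : ι → F, ∀ s ∈ M, (∀ v h, IsSiegel a v h → h ∈ M) →
      ∀ v h, IsSiegel (ap s a) v h → h ∈ M := by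
    intro a s hs ha v h hh
    have h1 := siegel_conj hh s⁻¹
    rw [ap_inv_ap] at h1
    have h2 := mul_mem (mul_mem hs (ha _ _ h1)) (inv_mem hs)
    simpa only [mul_assoc, inv_inv, mul_inv_cancel, mul_one, mul_inv_cancel_left] using h2
  obtain ⟨u, hu⟩ : ∃ u, u = ap g w := ⟨_, rfl⟩
  rw [← hu] at hgw
  have hQu : Q u = 0 := by rw [hu, ap_q, hW w hw]
  have hMu : ∀ v h, IsSiegel u v h → h ∈ M := by rw [hu]; exact hconj w g hg (hCW w hw)
  by_cases huW : ∃ x ∈ W, B x u ≠ 0
  · obtain ⟨x, hx, hxu⟩ := huW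
    exact El_le_of_two hB (hW x hx) hQu hxu (hCW x hx) hMu
  push Not at huW
  obtain ⟨z₀, hz₀, huz₀⟩ := exists_orth_one hB hgw
  obtain ⟨z, hz⟩ : ∃ z, z = z₀ - Q z₀ • u := ⟨_, rfl⟩
  have hQz : Q z = 0 := by
    rw [hz, q_sub, q_smul, hQu, mul_zero, add_zero, b_smul_right, b_comm z₀ u, huz₀, mul_one,
      sub_self]
  have huz : B u z = 1 := by
    rw [hz, b_sub_right, b_smul_right, huz₀, b_self_zero hQu, mul_zero, sub_zero]
  have hzW : ∀ x ∈ W, B x z = 0 := fun x hx => by
    rw [hz, b_sub_right, b_smul_right, mem_orth.1 hz₀ x hx, huW x hx, mul_zero, sub_zero]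
  obtain ⟨S, hS⟩ : ∃ S, S = orth Q (W ⊔ Submodule.span F ({u, z} : Set (ι → F))) := ⟨_, rfl⟩
  obtain ⟨v, hv, hQv⟩ : ∃ v ∈ S, Q v ≠ 0 := by
    by_contra hc
    push Not at hc
    have hSle : S ≤ W := by
      intro a ha
      have h1 : a ∈ orth Q S := le_orth_of_singular hc ha
      rw [hS, orth_orth hB] at h1
      obtain ⟨x, hx, y, hy, rfl⟩ := Submodule.mem_sup.1 h1
      obtain ⟨α, β, rfl⟩ := Submodule.mem_span_pair.1 hy
      rw [hS] at ha
      have hu' : B u (x + (α • u + β • z)) = 0 :=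
        ha u (Submodule.mem_sup_right (Submodule.subset_span (Set.mem_insert _ _)))
      have hz' : B z (x + (α • u + β • z)) = 0 :=
        ha z (Submodule.mem_sup_right (Submodule.subset_span (Set.mem_insert_of_mem _ rfl)))
      rw [b_add_right, b_add_right, b_smul_right, b_smul_right, b_comm u x, huW x hx,
        b_self_zero hQu, huz] at hu'
      rw [b_add_right, b_add_right, b_smul_right, b_smul_right, b_comm z x, hzW x hx,
        b_self_zero hQz, b_comm z u, huz] at hz'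
      have hβ : β = 0 := by linear_combination hu'
      have hα : α = 0 := by linear_combination hz'
      rw [hα, hβ, zero_smul, zero_smul, add_zero, add_zero]
      exact hx
    have h1 := finrank_orth hB (W ⊔ Submodule.span F ({u, z} : Set (ι → F)))
    have h2 := Submodule.finrank_add_le_finrank_add_finrank W
      (Submodule.span F ({u, z} : Set (ι → F)))
    have h3 : Module.finrank F (Submodule.span F ({u, z} : Set (ι → F))) ≤ 2 := by
      classical
      have := finrank_span_finset_le_card (R := F) ({u, z} : Finset (ι → F))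
      rw [Set.finrank, Finset.coe_pair] at this
      exact this.trans Finset.card_le_two
    have h4 := Submodule.finrank_mono hSle
    rw [hS] at h4
    have hU : ∀ x ∈ W ⊔ Submodule.span F {u}, Q x = 0 := by
      intro x hx
      obtain ⟨a, ha, y, hy, rfl⟩ := Submodule.mem_sup.1 hx
      obtain ⟨c, rfl⟩ := Submodule.mem_span_singleton.1 hy
      rw [q_add, q_smul, hW a ha, hQu, b_smul_right, huW a ha]
      ring
    have h5 : W < W ⊔ Submodule.span F {u} := lt_of_le_of_ne le_sup_left fun e => hgw (by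
      rw [e]; exact Submodule.mem_sup_right (Submodule.mem_span_singleton_self u))
    have h6 := Submodule.finrank_lt_finrank_of_lt h5
    have h7 := Submodule.finrank_add_le_finrank_add_finrank W (Submodule.span F {u})
    have h8 : Module.finrank F (Submodule.span F {u}) = 1 :=
      finrank_span_singleton fun e => hgw (e ▸ W.zero_mem)
    have h9 := two_mul_finrank_le hB (le_orth_of_singular hU)
    exact hex _ hU (by omega) (by omega)
  rw [hS] at hv
  have hvu : B u v = 0 :=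
    hv u (Submodule.mem_sup_right (Submodule.subset_span (Set.mem_insert _ _)))
  have hvz : B z v = 0 :=
    hv z (Submodule.mem_sup_right (Submodule.subset_span (Set.mem_insert_of_mem _ rfl)))
  obtain ⟨e, he⟩ := exists_siegel hB hQz hvz
  have heM : e ∈ M := hle ⟨mem_stab_of_le fun x hx => by
    rw [siegel_fix he (hzW x hx) (hv x (Submodule.mem_sup_left hx))]; exact hx, siegel_mem_El he⟩
  refine El_le_of_two hB hQu (f := ap e u) (by rw [ap_q]; exact hQu) ?_ hMu (hconj u e heM hMu)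
  rw [he.2.2, huz, hvu, one_smul, zero_smul, sub_zero, mul_one, b_sub_right, b_add_right,
    b_smul_right, b_self_zero hQu, hvu, huz, mul_one, zero_add, zero_sub, neg_ne_zero]
  exact hQv

/-- Maximality transfers to the matrix group. -/
theorem isMaximalIn_omegaGL {H' : Subgroup (GL ι F)} {H : Subgroup (Grp Q)}
    (hH : ∀ g : Grp Q, g ∈ H ↔ (g : GL ι F) ∈ H')
    (h : H ⊓ Cfsg.Omega F ⇑Q < Cfsg.Omega F ⇑Q ∧ ∀ M, H ⊓ Cfsg.Omega F ⇑Q ≤ M →
      M ≤ Cfsg.Omega F ⇑Q → M = H ⊓ Cfsg.Omega F ⇑Q ∨ M = Cfsg.Omega F ⇑Q) :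
    Cfsg.Geo.IsMaximalIn (Cfsg.Geo.omegaGL ⇑Q) (H' ⊓ Cfsg.Geo.omegaGL ⇑Q) := by
  have hle : Cfsg.Geo.omegaGL ⇑Q ≤ Cfsg.isometryGroup F ⇑Q := Subgroup.map_subtype_le _
  have e : H' ⊓ Cfsg.Geo.omegaGL ⇑Q =
      (H ⊓ Cfsg.Omega F ⇑Q).map (Cfsg.isometryGroup F ⇑Q).subtype := by
    ext x
    refine ⟨fun hx => ?_, ?_⟩
    · obtain ⟨hx1, g, hg, rfl⟩ := hx
      exact ⟨g, ⟨(hH g).2 hx1, hg⟩, rfl⟩
    · rintro ⟨g, hg, rfl⟩
      exact ⟨(hH g).1 hg.1, g, hg.2, rfl⟩
  have hinj := (Cfsg.isometryGroup F ⇑Q).subtype_injective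
  rw [e]
  refine ⟨(Subgroup.map_lt_map_iff_of_injective hinj).2 h.1, fun M hM1 hM2 => ?_⟩
  have hM : M = (M.comap (Cfsg.isometryGroup F ⇑Q).subtype).map
      (Cfsg.isometryGroup F ⇑Q).subtype := by
    rw [Subgroup.map_comap_eq, Subgroup.range_subtype, inf_eq_right.2 (hM2.trans hle)]
  rw [hM] at hM1 hM2 ⊢
  rw [Subgroup.map_le_map_iff_of_injective hinj] at hM1
  rw [Cfsg.Geo.omegaGL, Subgroup.map_le_map_iff_of_injective hinj] at hM2
  rcases h.2 _ hM1 hM2 with h' | h' <;> rw [h']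
  · exact Or.inl rfl
  · exact Or.inr rfl

theorem isMaximalIn_stab_singular [Finite F] (hB : Nondeg Q)
    (hn : 5 ≤ Module.finrank F (ι → F))
    {W : Submodule F (ι → F)} (hW0 : W ≠ ⊥) (hW : ∀ w ∈ W, Q w = 0)
    (hex : ∀ U : Submodule F (ι → F), (∀ x ∈ U, Q x = 0) →
      Module.finrank F U = Module.finrank F W + 1 →
      2 * Module.finrank F U ≠ Module.finrank F (ι → F)) :
    Cfsg.Geo.IsMaximalIn (Cfsg.Geo.omegaGL ⇑Q)
      (Cfsg.Geo.subspaceStabilizer W ⊓ Cfsg.Geo.omegaGL ⇑Q) := by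
  refine isMaximalIn_omegaGL (H := stab Q W) (fun _ => Iff.rfl) ?_
  rw [omega_eq_El hB hn]
  exact stab_singular_maximal hB hn hW0 hW hex

end CfsgLib.Orth
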