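/-
The two families of maximal totally singular subspaces of a plus-type quadratic space.
-/
import Cfsg.Agent.Lib.Classical.OrthStab

set_option autoImplicit false

namespace CfsgLib.Orth

open Matrix

variable {F : Type*} [Field F] {ι : Type} [Fintype ι] [DecidableEq ι]
variable {Q : QuadraticForm F (ι → F)}

local notation "B" => QuadraticMap.polar (DFunLike.coe Q)

/-- Totally singular subspaces of half the dimension. -/
def IsHalf (Q : QuadraticForm F (ι → F)) (U : Submodule F (ι → F)) : Prop :=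
  (∀ x ∈ U, Q x = 0) ∧ 2 * Module.finrank F U = Module.finrank F (ι → F)

section

omit [Fintype ι] [DecidableEq ι]

theorem orth_half [Finite ι] (hB : Nondeg Q) {U : Submodule F (ι → F)} (hU : IsHalf Q U) :
    orth Q U = U := by
  refine (Submodule.eq_of_le_of_finrank_eq (le_orth_of_singular hU.1) ?_).symm
  have := finrank_orth hB U
  have := hU.2
  omega

/-- The half subspace through `x` adjacent to `W`. -/
theorem exists_adjacent [Finite ι] (hB : Nondeg Q) {W : Submodule F (ι → F)} (hW : IsHalf Q W)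
    {x : ι → F} (hx : Q x = 0) (hxW : x ∉ W) :
    ∃ W', IsHalf Q W' ∧ x ∈ W' ∧ Module.finrank F ↥(W ⊓ W') + 1 = Module.finrank F W ∧
      ∀ y ∈ W, B x y = 0 → y ∈ W' := by
  obtain ⟨K, hK⟩ : ∃ K, K = W ⊓ LinearMap.ker (QuadraticMap.polarBilin Q x) := ⟨_, rfl⟩
  obtain ⟨W', hW'⟩ : ∃ W', W' = K ⊔ Submodule.span F {x} := ⟨_, rfl⟩
  obtain ⟨y₀, hy₀, hy₀x⟩ : ∃ y ∈ W, B x y ≠ 0 := by
    by_contra hc
    push Not at hc
    refine hxW ?_
    rw [← orth_half hB hW]
    exact fun w hw => by
      show B w x = 0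
      rw [b_comm]; exact hc w hw
  have hKlt : K < W := lt_of_le_of_ne (hK ▸ inf_le_left) fun e => hy₀x (by
    have : y₀ ∈ K := e ▸ hy₀
    rw [hK] at this
    exact this.2)
  have hx0 : x ≠ 0 := fun e => hxW (e ▸ W.zero_mem)
  have h1 : Module.finrank F W ≤ Module.finrank F K + 1 := by
    have h1 := LinearMap.finrank_range_add_finrank_ker
      ((QuadraticMap.polarBilin Q x).comp W.subtype)
    have h2 := Submodule.finrank_le (LinearMap.range ((QuadraticMap.polarBilin Q x).comp W.subtype))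
    rw [Module.finrank_self] at h2
    rw [LinearMap.ker_comp, ← Submodule.finrank_map_subtype_eq, Submodule.map_comap_subtype,
      ← hK] at h1
    omega
  have h2 := Submodule.finrank_lt_finrank_of_lt hKlt
  have hxK : x ∉ K := fun h => hxW (hKlt.le h)
  have h3 : Module.finrank F W' = Module.finrank F K + 1 := by
    have := Submodule.finrank_sup_add_finrank_inf_eq K (Submodule.span F {x})
    have he : K ⊓ Submodule.span F {x} = ⊥ := by
      refine (Submodule.eq_bot_iff _).2 fun z hz => ?_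
      obtain ⟨c, rfl⟩ := Submodule.mem_span_singleton.1 hz.2
      by_contra h
      exact hxK ((Submodule.smul_mem_iff _ fun c0 => h (by rw [c0, zero_smul])).1 hz.1)
    rw [he, finrank_bot, finrank_span_singleton hx0, ← hW', add_zero] at this
    omega
  refine ⟨W', ⟨?_, by have := hW.2; omega⟩, ?_, ?_, ?_⟩
  · rw [hW', hK]
    intro z hz
    obtain ⟨a, ha, b, hb, rfl⟩ := Submodule.mem_sup.1 hz
    obtain ⟨c, rfl⟩ := Submodule.mem_span_singleton.1 hb
    have h0 : B x a = 0 := ha.2
    rw [q_add, q_smul, hW.1 a ha.1, hx, b_smul_right, b_comm a x, h0]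
    ring
  · rw [hW']; exact Submodule.mem_sup_right (Submodule.mem_span_singleton_self x)
  · have hle : K ≤ W ⊓ W' := le_inf hKlt.le (hW' ▸ le_sup_left)
    have hlt : W ⊓ W' < W := lt_of_le_of_ne inf_le_left fun e => by
      have hle' : W ≤ W' := inf_eq_left.1 e
      have heq := Submodule.eq_of_le_of_finrank_eq hle' (by omega)
      exact hxW (heq ▸ (hW' ▸ Submodule.mem_sup_right (Submodule.mem_span_singleton_self x)))
    have := Submodule.finrank_mono hle
    have := Submodule.finrank_lt_finrank_of_lt hlt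
    omega
  · intro y hy hyx
    rw [hW', hK]
    exact Submodule.mem_sup_left ⟨hy, hyx⟩

/-- Adjacent half subspaces meet a third in dimensions of opposite parity. -/
theorem odd_inf_adjacent [Finite ι] (hB : Nondeg Q) {U W X : Submodule F (ι → F)}
    (hU : IsHalf Q U) (hW : IsHalf Q W) (hX : IsHalf Q X)
    (h : Module.finrank F ↥(W ⊓ X) + 1 = Module.finrank F W) :
    Odd (Module.finrank F ↥(U ⊓ W) + Module.finrank F ↥(U ⊓ X)) := by
  obtain ⟨H, hH⟩ : ∃ H, H = W ⊓ X := ⟨_, rfl⟩
  rw [← hH] at h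
  have hWo : W ≤ orth Q H := (le_orth_of_singular hW.1).trans (orth_le (hH ▸ inf_le_left))
  have hXo : X ≤ orth Q H := (le_orth_of_singular hX.1).trans (orth_le (hH ▸ inf_le_right))
  have e1 : U ⊓ orth Q H = orth Q (U ⊔ H) := by
    refine le_antisymm (fun z hz w hw => ?_) fun z hz => ⟨?_, orth_le le_sup_right hz⟩
    · obtain ⟨a, ha, b, hb, rfl⟩ := Submodule.mem_sup.1 hw
      show B (a + b) z = 0
      rw [b_add_left, mem_orth.1 (le_orth_of_singular hU.1 hz.1) a ha,
        mem_orth.1 hz.2 b hb, add_zero]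
    · rw [← orth_half hB hU]; exact orth_le le_sup_left hz
  have d1 := finrank_orth hB (U ⊔ H)
  rw [← e1] at d1
  have d2 := Submodule.finrank_sup_add_finrank_inf_eq U H
  have hUn := hU.2
  have hWn := hW.2
  have hXn := hX.2
  have hW1 : U ⊓ W ≤ U ⊓ orth Q H := inf_le_inf_left U hWo
  have hX1 : U ⊓ X ≤ U ⊓ orth Q H := inf_le_inf_left U hXo
  have hW2 : U ⊓ H ≤ U ⊓ W := inf_le_inf_left U (hH ▸ inf_le_left)
  have hX2 : U ⊓ H ≤ U ⊓ X := inf_le_inf_left U (hH ▸ inf_le_right)
  have := Submodule.finrank_mono hW1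
  have := Submodule.finrank_mono hX1
  have := Submodule.finrank_mono hW2
  have := Submodule.finrank_mono hX2
  have not_both : ¬ (Module.finrank F ↥(U ⊓ W) = Module.finrank F ↥(U ⊓ H) + 1 ∧
      Module.finrank F ↥(U ⊓ X) = Module.finrank F ↥(U ⊓ H) + 1) := by
    rintro ⟨a, b⟩
    have ea := Submodule.eq_of_le_of_finrank_eq hW1 (by omega)
    have eb := Submodule.eq_of_le_of_finrank_eq hX1 (by omega)
    have hle : U ⊓ W ≤ U ⊓ H :=
      le_inf inf_le_left (hH ▸ le_inf inf_le_right ((ea.trans eb.symm).le.trans inf_le_right))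
    have := Submodule.finrank_mono hle
    omega
  have some_one : Module.finrank F ↥(U ⊓ W) ≠ Module.finrank F ↥(U ⊓ H) ∨
      Module.finrank F ↥(U ⊓ X) ≠ Module.finrank F ↥(U ⊓ H) := by
    by_contra hc
    push Not at hc
    have ea := Submodule.eq_of_le_of_finrank_eq hW2 hc.1.symm
    have eb := Submodule.eq_of_le_of_finrank_eq hX2 hc.2.symm
    obtain ⟨u, hu, huH⟩ := SetLike.not_le_iff_exists.1 (show ¬ U ⊓ orth Q H ≤ U ⊓ H from fun hle => by
      have := Submodule.finrank_mono hle
      omega)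
    have hsup : W ⊔ X = orth Q H := by
      refine Submodule.eq_of_le_of_finrank_eq (sup_le hWo hXo) ?_
      have := Submodule.finrank_sup_add_finrank_inf_eq W X
      have := finrank_orth hB H
      rw [← hH] at *
      omega
    obtain ⟨w, hw, x, hx, hwx⟩ := Submodule.mem_sup.1 (hsup.symm ▸ hu.2 : u ∈ W ⊔ X)
    have hBwx : B w x = 0 := by
      have := hU.1 u hu.1
      rw [← hwx, q_add, hW.1 w hw, hX.1 x hx, zero_add, zero_add] at this
      exact this
    by_cases hxW : x ∈ W
    · exact huH (ea.ge ⟨hu.1, hwx ▸ W.add_mem hw hxW⟩)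
    · have hlt : H < H ⊔ Submodule.span F {x} := lt_of_le_of_ne le_sup_left fun e => hxW (by
        have : x ∈ H := e ▸ Submodule.mem_sup_right (Submodule.mem_span_singleton_self x)
        exact (hH ▸ this : x ∈ W ⊓ X).1)
      have hle : H ⊔ Submodule.span F {x} ≤ X :=
        sup_le (hH ▸ inf_le_right) ((Submodule.span_singleton_le_iff_mem _ _).2 hx)
      have := Submodule.finrank_lt_finrank_of_lt hlt
      have := Submodule.finrank_mono hle
      have eX := Submodule.eq_of_le_of_finrank_eq hle (by omega)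
      have hwX : w ∈ X := by
        rw [← orth_half hB hX, mem_orth, ← eX]
        intro y hy
        obtain ⟨a, ha, b, hb, rfl⟩ := Submodule.mem_sup.1 hy
        obtain ⟨c, rfl⟩ := Submodule.mem_span_singleton.1 hb
        have haW : a ∈ W := (hH ▸ ha : a ∈ W ⊓ X).1
        rw [b_add_left, b_smul_left, mem_orth.1 (le_orth_of_singular hW.1 hw) a haW, b_comm x w,
          hBwx, mul_zero, add_zero]
      exact huH (eb.ge ⟨hu.1, hwx ▸ X.add_mem hwX hx⟩)
  refine ⟨Module.finrank F ↥(U ⊓ H), ?_⟩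
  omega

/-- The family relation is transitive. -/
theorem even_half_triangle [Finite ι] (hB : Nondeg Q) {U W X : Submodule F (ι → F)}
    (hU : IsHalf Q U) (hW : IsHalf Q W) (hX : IsHalf Q X) :
    Even (Module.finrank F U + Module.finrank F ↥(U ⊓ W) + Module.finrank F ↥(W ⊓ X) +
      Module.finrank F ↥(U ⊓ X)) := by
  induction hd : Module.finrank F W - Module.finrank F ↥(W ⊓ X) using Nat.strong_induction_on
    generalizing W with
  | _ d ih =>
  subst hd
  have hUn := hU.2
  have hWn := hW.2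
  have hXn := hX.2
  by_cases hXW : X ≤ W
  · have e := Submodule.eq_of_le_of_finrank_eq hXW (by omega)
    subst e
    rw [inf_idem]
    exact ⟨Module.finrank F U + Module.finrank F ↥(U ⊓ X), by omega⟩
  obtain ⟨x, hx, hxW⟩ := SetLike.not_le_iff_exists.1 hXW
  obtain ⟨W', hW', hxW', hadj, hmem⟩ := exists_adjacent hB hW (hX.1 x hx) hxW
  have hlt : W ⊓ X < W' ⊓ X := lt_of_le_of_ne
    (le_inf (fun y hy => hmem y hy.1 (mem_orth.1 (le_orth_of_singular hX.1 hy.2) x hx))
      inf_le_right)
    fun e => hxW (e.ge ⟨hxW', hx⟩).1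
  have := Submodule.finrank_lt_finrank_of_lt hlt
  have := Submodule.finrank_mono (inf_le_left : W' ⊓ X ≤ W')
  have hW'n := hW'.2
  obtain ⟨a, ha⟩ := ih _ (by omega) hW' rfl
  obtain ⟨b, hb⟩ := odd_inf_adjacent hB hU hW hW' hadj
  obtain ⟨c, hc⟩ := odd_inf_adjacent hB hX hW hW' hadj
  rw [inf_comm X W, inf_comm X W'] at hc
  refine Nat.even_iff.2 ?_
  omega

/-- Every totally singular subspace lies in a half subspace. -/
theorem exists_half_ge [Finite ι] (hB : Nondeg Q) {U₀ : Submodule F (ι → F)}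
    (hU₀ : IsHalf Q U₀) {W : Submodule F (ι → F)} (hW : ∀ x ∈ W, Q x = 0) :
    ∃ U, IsHalf Q U ∧ W ≤ U := by
  induction hd : Module.finrank F W - Module.finrank F ↥(W ⊓ U₀) using Nat.strong_induction_on
    generalizing U₀ with
  | _ d ih =>
  subst hd
  by_cases hle : W ≤ U₀
  · exact ⟨U₀, hU₀, hle⟩
  obtain ⟨x, hx, hxU⟩ := SetLike.not_le_iff_exists.1 hle
  obtain ⟨U', hU', hxU', -, hmem⟩ := exists_adjacent hB hU₀ (hW x hx) hxU
  have hlt : W ⊓ U₀ < W ⊓ U' := lt_of_le_of_ne
    (le_inf inf_le_left fun y hy =>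
      hmem y hy.2 (mem_orth.1 (le_orth_of_singular hW hy.1) x hx))
    fun e => hxU (e.ge ⟨hx, hxU'⟩).2
  have := Submodule.finrank_lt_finrank_of_lt hlt
  have := Submodule.finrank_mono (inf_le_left : W ⊓ U' ≤ W)
  exact ih _ (by omega) hU' rfl

end

/-- The image of a subspace. -/
def img (g : Grp Q) (U : Submodule F (ι → F)) : Submodule F (ι → F) :=
  U.map (Matrix.toLin' ((g : GL ι F) : Matrix ι ι F))

theorem mem_img {g : Grp Q} {U : Submodule F (ι → F)} {x : ι → F} :
    x ∈ img g U ↔ ap g⁻¹ x ∈ U := by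
  refine ⟨?_, fun h => ⟨_, h, ?_⟩⟩
  · rintro ⟨y, hy, rfl⟩
    rw [show Matrix.toLin' ((g : GL ι F) : Matrix ι ι F) y = ap g y from Matrix.toLin'_apply _ _,
      ap_inv_ap]
    exact hy
  · exact (Matrix.toLin'_apply _ _).trans (ap_ap_inv g x)

theorem ap_mem_img (g : Grp Q) {U : Submodule F (ι → F)} {x : ι → F} (h : x ∈ U) :
    ap g x ∈ img g U := mem_img.2 (by rwa [ap_inv_ap])

theorem img_mul (a b : Grp Q) (U : Submodule F (ι → F)) : img (a * b) U = img a (img b U) := by
  ext x
  rw [mem_img, mem_img, mem_img, _root_.mul_inv_rev, ap_mul]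

theorem img_one (U : Submodule F (ι → F)) : img (1 : Grp Q) U = U := by
  ext x; rw [mem_img, inv_one, ap_one]

theorem finrank_img (g : Grp Q) (U : Submodule F (ι → F)) :
    Module.finrank F (img g U) = Module.finrank F U :=
  (Submodule.equivMapOfInjective _ (fun x y e => ap_inj g
    ((Matrix.toLin'_apply _ x).symm.trans (e.trans (Matrix.toLin'_apply _ y)))) U).finrank_eq.symm

theorem img_inf (g : Grp Q) (U W : Submodule F (ι → F)) : img g (U ⊓ W) = img g U ⊓ img g W := by
  ext x
  simp only [Submodule.mem_inf, mem_img]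

theorem isHalf_img (g : Grp Q) {U : Submodule F (ι → F)} (hU : IsHalf Q U) :
    IsHalf Q (img g U) :=
  ⟨fun x hx => by rw [← ap_q g⁻¹]; exact hU.1 _ (mem_img.1 hx), by rw [finrank_img]; exact hU.2⟩

theorem img_eq_of_mem_stab {g : Grp Q} {W : Submodule F (ι → F)} (h : g ∈ stab Q W) :
    img g W = W := by
  ext x
  rw [mem_img, mem_stab.1 h (ap g⁻¹ x), ap_ap_inv]

/-- Elements of `El` preserve the families. -/
theorem even_inf_img (hB : Nondeg Q) {U : Submodule F (ι → F)} (hU : IsHalf Q U) {g : Grp Q}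
    (hg : g ∈ El Q) : Even (Module.finrank F U + Module.finrank F ↥(U ⊓ img g U)) := by
  have hUn := hU.2
  induction hg using Subgroup.closure_induction with
  | mem g hg =>
      obtain ⟨u, v, hg⟩ := hg
      obtain ⟨U', hU', huU'⟩ := exists_half_ge hB hU (W := Submodule.span F {u}) fun x hx => by
        obtain ⟨c, rfl⟩ := Submodule.mem_span_singleton.1 hx
        rw [q_smul, hg.1, mul_zero]
      have hu : u ∈ U' := huU' (Submodule.mem_span_singleton_self u)
      have hs := img_eq_of_mem_stab (siegel_mem_stab hg hu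
        fun w hw => mem_orth.1 (le_orth_of_singular hU'.1 hu) w hw)
      have key : Module.finrank F ↥(img g U ⊓ U') = Module.finrank F ↥(U ⊓ U') := by
        conv_lhs => rw [← hs, ← img_inf, finrank_img]
      have h := even_half_triangle hB hU (isHalf_img g hU) hU'
      rw [Nat.even_iff] at h ⊢
      omega
  | one => rw [img_one, inf_idem]; exact ⟨_, rfl⟩
  | mul a b _ _ ha hb =>
      have key : Module.finrank F ↥(img a U ⊓ img (a * b) U) = Module.finrank F ↥(U ⊓ img b U) := by
        rw [img_mul, ← img_inf, finrank_img]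
      have h := even_half_triangle hB hU (isHalf_img a hU) (isHalf_img (a * b) hU)
      rw [Nat.even_iff] at ha hb h ⊢
      omega
  | inv a _ ha =>
      have key : Module.finrank F ↥(U ⊓ img a⁻¹ U) = Module.finrank F ↥(U ⊓ img a U) := by
        have h1 : img a (U ⊓ img a⁻¹ U) = img a U ⊓ U := by
          rw [img_inf, ← img_mul, mul_inv_cancel, img_one]
        rw [← finrank_img a (U ⊓ img a⁻¹ U), h1, inf_comm]
      rw [key]; exact ha

/-- An element of `El` permuting two complementary halves of odd dimension fixes each. -/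
theorem img_ne_of_odd (hB : Nondeg Q) {U W : Submodule F (ι → F)} (hU : IsHalf Q U)
    (hodd : Odd (Module.finrank F U)) (hd : U ⊓ W = ⊥) {g : Grp Q} (hg : g ∈ El Q) :
    img g U ≠ W := by
  intro e
  have h := even_inf_img hB hU hg
  rw [e, hd, finrank_bot, add_zero] at h
  exact (Nat.not_even_iff_odd.2 hodd) h

/-- In plus type the stabiliser of a subspace of codimension one in a half is not maximal. -/
theorem stab_submax_not_maximal [Finite F] (hB : Nondeg Q) (hn : 5 ≤ Module.finrank F (ι → F))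
    {U₀ : Submodule F (ι → F)} (hU₀ : IsHalf Q U₀) {W : Submodule F (ι → F)}
    (hW : ∀ x ∈ W, Q x = 0) (hd : 2 * (Module.finrank F W + 1) = Module.finrank F (ι → F)) :
    ∃ U, IsHalf Q U ∧ stab Q W ⊓ El Q < stab Q U ⊓ El Q ∧ stab Q U ⊓ El Q < El Q := by
  obtain ⟨U, hU, hWU⟩ := exists_half_ge hB hU₀ hW
  have hUn := hU.2
  refine ⟨U, hU, ?_, ?_⟩
  · obtain ⟨w, hw, hw0⟩ := Submodule.exists_mem_ne_zero_of_ne_bot (p := W) fun e => by
      rw [e, finrank_bot] at hd; omega
    obtain ⟨u, hu, huW⟩ := SetLike.not_le_iff_exists.1 (show ¬ U ≤ W from fun h => by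
      have := Submodule.finrank_mono h; omega)
    obtain ⟨v, hv, hwv⟩ := exists_orth_one hB (W := Submodule.span F {u}) (x := w) fun h => by
      obtain ⟨c, hc⟩ := Submodule.mem_span_singleton.1 h
      rcases eq_or_ne c 0 with h0 | h0
      · exact hw0 (by rw [← hc, h0, zero_smul])
      · exact huW ((Submodule.smul_mem_iff _ h0).1 (hc ▸ hw))
    obtain ⟨e, he⟩ := exists_siegel hB (hU.1 u hu) (mem_orth_span.1 hv u rfl)
    have hwu : B w u = 0 := mem_orth.1 (le_orth_of_singular hU.1 hu) w (hWU hw)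
    have hes : e ∈ stab Q U :=
      siegel_mem_stab he hu fun x hx => mem_orth.1 (le_orth_of_singular hU.1 hu) x hx
    refine lt_of_le_of_ne (fun g hg => ⟨?_, hg.2⟩) fun h => ?_
    · have hle : W ≤ U ⊓ img g U := fun x hx => ⟨hWU hx, mem_img.2 (hWU
        ((mem_stab.1 hg.1 _).2 (by rwa [ap_ap_inv])))⟩
      have h1 := Submodule.finrank_mono hle
      have h2 := Submodule.finrank_mono (inf_le_left : U ⊓ img g U ≤ U)
      obtain ⟨k, hk⟩ := even_inf_img hB hU hg.2
      have heq := Submodule.eq_of_le_of_finrank_eq (inf_le_left : U ⊓ img g U ≤ U) (by omega)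
      refine mem_stab_of_le fun x hx => ?_
      have h3 : img g U = U :=
        (Submodule.eq_of_le_of_finrank_eq (inf_eq_left.1 heq) (finrank_img g U).symm).symm
      rw [← h3]
      exact ap_mem_img g hx
    · have h3 := (mem_stab.1 (h.symm ▸ ⟨hes, siegel_mem_El he⟩ : e ∈ stab Q W ⊓ El Q).1 w).1 hw
      rw [he.2.2, hwv, hwu, mul_zero, zero_smul, zero_smul, add_zero, sub_zero, one_smul] at h3
      exact huW ((Submodule.sub_mem_iff_right _ hw).1 h3)
  · refine lt_of_le_of_ne inf_le_right fun h => ?_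
    obtain ⟨w, hw, hw0⟩ := Submodule.exists_mem_ne_zero_of_ne_bot (p := U) fun e => by
      rw [e, finrank_bot] at hUn; omega
    obtain ⟨f, hf, hwf⟩ := exists_partner hB (hU.1 w hw) hw0
    obtain ⟨e, he, hew⟩ := exists_move_singular hB hn (hU.1 w hw) hf hw0
      (ne_zero_of_b (y := w) (by rw [b_comm, hwf]; exact one_ne_zero))
    have h3 := (mem_stab.1 (h.symm ▸ he : e ∈ stab Q U ⊓ El Q).1 w).1 hw
    rw [hew] at h3
    exact one_ne_zero (hwf.symm.trans (mem_orth.1 (le_orth_of_singular hU.1 h3) w hw))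

/-- Strict chains transfer to the matrix group. -/
theorem exists_between_omegaGL {W : Submodule F (ι → F)} {K : Subgroup (Grp Q)}
    (h1 : stab Q W ⊓ Cfsg.Omega F ⇑Q < K) (h2 : K < Cfsg.Omega F ⇑Q) :
    ∃ K' : Subgroup (GL ι F), Cfsg.Geo.subspaceStabilizer W ⊓ Cfsg.Geo.omegaGL ⇑Q < K' ∧
      K' < Cfsg.Geo.omegaGL ⇑Q := by
  have hinj := (Cfsg.isometryGroup F ⇑Q).subtype_injective
  refine ⟨K.map (Cfsg.isometryGroup F ⇑Q).subtype, ?_,
    (Subgroup.map_lt_map_iff_of_injective hinj).2 h2⟩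
  refine lt_of_eq_of_lt ?_ ((Subgroup.map_lt_map_iff_of_injective hinj).2 h1)
  ext x
  refine ⟨fun hx => ?_, ?_⟩
  · obtain ⟨hx1, g, hg, rfl⟩ := hx
    exact ⟨g, ⟨hx1, hg⟩, rfl⟩
  · rintro ⟨g, hg, rfl⟩
    exact ⟨hg.1, g, hg.2, rfl⟩

end CfsgLib.Orth
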