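/-
Reflections and Siegel transformations of a quadratic form on `F^n`.
-/
import Mathlib
import Cfsg.Prelude.Def_ClassicalGeometry

set_option autoImplicit false

namespace CfsgLib.Reflect

open Matrix

variable {F : Type*} [Field F] {ι : Type} [Fintype ι] [DecidableEq ι] (Q : QuadraticForm F (ι → F))

theorem polarVec_dot (v x : ι → F) : Cfsg.polarVec ⇑Q v ⬝ᵥ x = QuadraticMap.polar ⇑Q v x := by
  have e : x = ∑ j, x j • Pi.single j (1 : F) := by
    funext l; simp [Finset.sum_apply, Pi.single_apply]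
  conv_rhs => rw [e, ← QuadraticMap.polarBilin_apply_apply, map_sum]
  refine Finset.sum_congr rfl fun j _ => ?_
  rw [map_smul, QuadraticMap.polarBilin_apply_apply, smul_eq_mul, mul_comm]
  rfl

theorem vecMul_polar (v w x : ι → F) :
    Matrix.vecMulVec v (Cfsg.polarVec ⇑Q w) *ᵥ x = QuadraticMap.polar ⇑Q w x • v := by
  rw [Matrix.vecMulVec_mulVec, polarVec_dot, op_smul_eq_smul]

theorem reflection_mulVec (v x : ι → F) :
    Cfsg.reflectionMatrix ⇑Q v *ᵥ x = x - ((Q v)⁻¹ * QuadraticMap.polar ⇑Q v x) • v := by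
  rw [Cfsg.reflectionMatrix, Matrix.sub_mulVec, Matrix.one_mulVec, Matrix.smul_mulVec,
    vecMul_polar, smul_smul]

theorem reflection_isometry (v : ι → F) (hv : Q v ≠ 0) (x : ι → F) :
    Q (Cfsg.reflectionMatrix ⇑Q v *ᵥ x) = Q x := by
  rw [reflection_mulVec, sub_eq_add_neg, ← neg_smul, QuadraticMap.map_add Q,
    QuadraticMap.map_smul, QuadraticMap.polar_smul_right, smul_eq_mul, smul_eq_mul,
    QuadraticMap.polar_comm ⇑Q x v]
  field_simp
  ring

theorem reflection_self (v : ι → F) (hv : Q v ≠ 0) :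
    Cfsg.reflectionMatrix ⇑Q v *ᵥ v = -v := by
  rw [reflection_mulVec, QuadraticMap.polar_self, nsmul_eq_mul, Nat.cast_ofNat,
    mul_comm (2 : F), ← mul_assoc, inv_mul_cancel₀ hv, one_mul, two_smul]
  abel

theorem reflection_det (v : ι → F) (hv : Q v ≠ 0) : (Cfsg.reflectionMatrix ⇑Q v).det = -1 := by
  have e : Cfsg.reflectionMatrix ⇑Q v =
      1 + Matrix.replicateCol Unit (-(Q v)⁻¹ • v) * Matrix.replicateRow Unit (Cfsg.polarVec ⇑Q v) := by
    rw [← Matrix.vecMulVec_eq, Cfsg.reflectionMatrix, Matrix.smul_vecMulVec, neg_smul, sub_eq_add_neg]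
  rw [e, Matrix.det_one_add_replicateCol_mul_replicateRow, dotProduct_smul, polarVec_dot,
    QuadraticMap.polar_self, nsmul_eq_mul, smul_eq_mul, Nat.cast_ofNat, mul_comm (2 : F),
    ← mul_assoc, neg_mul, inv_mul_cancel₀ hv]
  ring

theorem siegel_mulVec (u v : ι → F) (c : F) (x : ι → F) :
    Cfsg.siegelMatrix ⇑Q u v c *ᵥ x =
      x + (c * QuadraticMap.polar ⇑Q u x) • v - (c * QuadraticMap.polar ⇑Q v x) • u := by
  rw [Cfsg.siegelMatrix, Matrix.add_mulVec, Matrix.one_mulVec, Matrix.smul_mulVec,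
    Matrix.sub_mulVec, vecMul_polar, vecMul_polar, smul_sub, smul_smul, smul_smul, add_sub_assoc]

theorem siegel_isometry (u v : ι → F) (hu : Q u = 0) (hv : Q v = 0)
    (huv : QuadraticMap.polar ⇑Q u v = 0) (c : F) (x : ι → F) :
    Q (Cfsg.siegelMatrix ⇑Q u v c *ᵥ x) = Q x := by
  rw [siegel_mulVec, sub_eq_add_neg, ← neg_smul, QuadraticMap.map_add Q, QuadraticMap.map_add Q,
    QuadraticMap.map_smul, QuadraticMap.map_smul, QuadraticMap.polar_smul_right,
    QuadraticMap.polar_smul_right, QuadraticMap.polar_add_left, QuadraticMap.polar_smul_left,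
    hu, hv, QuadraticMap.polar_comm ⇑Q x v, QuadraticMap.polar_comm ⇑Q x u,
    QuadraticMap.polar_comm ⇑Q v u, huv]
  simp only [smul_eq_mul]
  ring

theorem siegel_mul (u v : ι → F) (hu : Q u = 0) (hv : Q v = 0)
    (huv : QuadraticMap.polar ⇑Q u v = 0) (c d : F) :
    Cfsg.siegelMatrix ⇑Q u v c * Cfsg.siegelMatrix ⇑Q u v d = Cfsg.siegelMatrix ⇑Q u v (c + d) := by
  refine Matrix.ext_iff_mulVec.mpr fun x => ?_
  have h0 : QuadraticMap.polar ⇑Q u u = 0 := by rw [QuadraticMap.polar_self, hu, smul_zero]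
  have h1 : QuadraticMap.polar ⇑Q v v = 0 := by rw [QuadraticMap.polar_self, hv, smul_zero]
  rw [← Matrix.mulVec_mulVec]
  simp only [siegel_mulVec, QuadraticMap.polar_add_right, QuadraticMap.polar_sub_right,
    QuadraticMap.polar_smul_right, huv, QuadraticMap.polar_comm ⇑Q v u, h0, h1, smul_eq_mul,
    mul_zero, add_zero, sub_zero]
  module

end CfsgLib.Reflect
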