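/-
Generation of finite orthogonal groups by reflections.
-/
import Cfsg.Agent.Lib.Classical.OrthOmega
import Cfsg.Agent.Lib.Classical.Reflect

set_option autoImplicit false

namespace CfsgLib.Orth

open Matrix

variable {F : Type*} [Field F] {ι : Type} [Fintype ι] [DecidableEq ι]
variable {Q : QuadraticForm F (ι → F)}

local notation "B" => QuadraticMap.polar (DFunLike.coe Q)

theorem refl_iff {v : ι → F} {g : Grp Q} (hv : Q v ≠ 0) :
    IsRefl v g ↔ ((g : GL ι F) : Matrix ι ι F) = Cfsg.reflectionMatrix ⇑Q v := by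
  constructor
  · intro h
    exact Matrix.ext_iff_mulVec.mpr fun x =>
      (h.2 x).trans (CfsgLib.Reflect.reflection_mulVec Q v x).symm
  · intro h
    refine ⟨hv, fun x => ?_⟩
    rw [← CfsgLib.Reflect.reflection_mulVec Q v x, ← h]
    rfl

theorem refl_self {v : ι → F} {g : Grp Q} (h : IsRefl v g) : ap g v = -v := by
  rw [h.2, b_self, mul_comm (2 : F), ← mul_assoc, inv_mul_cancel₀ h.1, one_mul, two_smul]
  abel

theorem refl_mul_self {v : ι → F} {g : Grp Q} (h : IsRefl v g) : g * g = 1 :=
  ext_ap fun x => by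
    rw [ap_mul, h.2 x, ap_sub, ap_smul, refl_self h, h.2 x, ap_one, smul_neg, sub_neg_eq_add,
      sub_add_cancel]

theorem refl_inv {v : ι → F} {g : Grp Q} (h : IsRefl v g) : g⁻¹ = g :=
  inv_eq_of_mul_eq_one_right (refl_mul_self h)

theorem refl_fix {v : ι → F} {g : Grp Q} (h : IsRefl v g) {x : ι → F} (hx : B v x = 0) :
    ap g x = x := by
  rw [h.2, hx, mul_zero, zero_smul, sub_zero]

theorem refl_smul {v : ι → F} {g : Grp Q} (h : IsRefl v g) {c : F} (hc : c ≠ 0) :
    IsRefl (c • v) g := by
  refine ⟨by rw [q_smul]; exact mul_ne_zero (mul_ne_zero hc hc) h.1, fun x => ?_⟩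
  rw [h.2, q_smul, b_smul_left, smul_smul]
  congr 2
  have := h.1
  field_simp

/-- The subgroup generated by the reflections. -/
def Refl (Q : QuadraticForm F (ι → F)) : Subgroup (Grp Q) :=
  Subgroup.closure {g | ∃ v, IsRefl v g}

theorem refl_mem {v : ι → F} {g : Grp Q} (h : IsRefl v g) : g ∈ Refl Q :=
  Subgroup.subset_closure ⟨v, h⟩

theorem siegel_eq_refl_mul {u v : ι → F} {g r s : Grp Q} (hg : IsSiegel u v g)
    (hr : IsRefl v r) (hs : IsRefl (v + Q v • u) s) : g = r * s := by
  have hu := hg.1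
  have hvu : B v u = 0 := by rw [b_comm]; exact hg.2.1
  have hQs : Q (v + Q v • u) = Q v := by
    rw [q_add, q_smul, hu, b_smul_right, hvu]; ring
  have hru : ap r u = u := refl_fix hr hvu
  refine ext_ap fun x => ?_
  rw [ap_mul, hs.2 x, hQs, ap_sub, ap_smul, ap_add, ap_smul, refl_self hr, hru, hr.2 x,
    b_add_left, b_smul_left, b_comm v x, b_comm u x, hg.2.2 x]
  have := hr.1
  match_scalars <;> field_simp <;> ring

theorem siegel_mem_refl_of_aniso (hB : Nondeg Q) {u v : ι → F} {g : Grp Q}
    (hg : IsSiegel u v g) (hv : Q v ≠ 0) : g ∈ Refl Q := by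
  have hvu : B v u = 0 := by rw [b_comm]; exact hg.2.1
  obtain ⟨r, hr⟩ := exists_refl hB hv
  obtain ⟨s, hs⟩ := exists_refl hB (v := v + Q v • u) (by
    rw [q_add, q_smul, hg.1, b_smul_right, hvu, mul_zero, mul_zero, add_zero, add_zero]
    exact hv)
  rw [siegel_eq_refl_mul hg hr hs]
  exact mul_mem (refl_mem hr) (refl_mem hs)

/-- Outside `O⁺₄(2)` the reflections generate. -/
theorem refl_eq_top [Finite F] (hB : Nondeg Q)
    (hex : Module.finrank F (ι → F) = 4 → Nat.card F ≠ 2) : Refl Q = ⊤ := by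
  refine eq_top_iff.2 ((closure_siegel_refl hB).ge.trans ((Subgroup.closure_le _).2 ?_))
  rintro g (⟨u, v, hg⟩ | ⟨v, hv⟩)
  swap
  · exact refl_mem hv
  by_cases hv : Q v = 0
  swap
  · exact siegel_mem_refl_of_aniso hB hg hv
  by_cases hu0 : u = 0
  · subst hu0
    have e : g = 1 := ext_ap fun x => by
      rw [hg.2.2, ap_one, b_zero_right, zero_smul, mul_zero, zero_smul, smul_zero, add_zero,
        sub_zero, sub_zero]
    rw [e]; exact one_mem _
  by_cases hi : v ∈ Submodule.span F {u}
  · obtain ⟨c, rfl⟩ := Submodule.mem_span_singleton.1 hi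
    have h1 := siegel_add_self (siegel_one (Q := Q) hg.1) c
    rw [zero_add] at h1
    rw [siegel_unique hg h1]; exact one_mem _
  have hu := hg.1
  have huv := hg.2.1
  obtain ⟨L, hL⟩ : ∃ L, L = Submodule.span F ({u, v} : Set (ι → F)) := ⟨_, rfl⟩
  have hLo : ∀ w, w ∈ orth Q L ↔ B u w = 0 ∧ B v w = 0 := fun w => by
    rw [hL, mem_orth_span]; simp
  -- it suffices to split `v`
  suffices h : ∃ w, B u w = 0 ∧ Q w ≠ 0 ∧ Q (v - w) ≠ 0 by
    obtain ⟨w, huw, hw, hvw⟩ := h
    obtain ⟨g₁, hg₁⟩ := exists_siegel hB hu huw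
    obtain ⟨g₂, hg₂⟩ := exists_siegel hB hu (v := v - w) (by rw [b_sub_right, huv, huw, sub_zero])
    have hm := siegel_mul hg₁ hg₂
    rw [add_sub_cancel] at hm
    rw [siegel_unique hg hm]
    exact mul_mem (siegel_mem_refl_of_aniso hB hg₁ hw) (siegel_mem_refl_of_aniso hB hg₂ hvw)
  by_cases hsing : ∃ w ∈ orth Q L, Q w ≠ 0
  · obtain ⟨w, hw, hQw⟩ := hsing
    obtain ⟨h1, h2⟩ := (hLo w).1 hw
    exact ⟨w, h1, hQw, by rwa [q_sub, hv, h2, zero_add, sub_zero]⟩
  push Not at hsing
  -- the orthogonal of the line is totally singular, so the dimension is four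
  have hLle : L ≤ orth Q L := by
    rw [hL, Submodule.span_le]
    rintro x (rfl | hx)
    · rw [SetLike.mem_coe, mem_orth_span]
      intro s hs
      rcases hs with rfl | hs
      · exact b_self_zero hu
      · rw [Set.mem_singleton_iff.1 hs, b_comm]; exact huv
    · rw [Set.mem_singleton_iff.1 hx, SetLike.mem_coe, mem_orth_span]
      intro s hs
      rcases hs with rfl | hs
      · exact huv
      · rw [Set.mem_singleton_iff.1 hs]; exact b_self_zero hv
  have hL2 : Module.finrank F L = 2 := by
    classical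
    refine le_antisymm ?_ ?_
    · have h := finrank_span_finset_le_card (R := F) ({u, v} : Finset (ι → F))
      rw [Set.finrank, Finset.coe_pair, ← hL] at h
      exact h.trans Finset.card_le_two
    · have hlt : Submodule.span F {u} < L := by
        refine lt_of_le_of_ne ?_ fun e => hi (e.ge (hL ▸ Submodule.subset_span
          (Set.mem_insert_of_mem u rfl)))
        rw [hL]; exact Submodule.span_mono (by simp)
      have h := Submodule.finrank_lt_finrank_of_lt hlt
      rw [finrank_span_singleton hu0] at h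
      omega
  have hn4 : Module.finrank F (ι → F) = 4 := by
    have h1 := two_mul_finrank_le hB hLle
    have h2 := two_mul_finrank_le hB (W := orth Q L) (le_orth_of_singular hsing)
    have h3 := finrank_orth hB L
    omega
  have hq : 2 < Nat.card F := by
    have := Finite.one_lt_card (α := F)
    have := hex hn4
    omega
  obtain ⟨f, hf, hf1⟩ := exists_orth_one hB (W := Submodule.span F {u}) (x := v) hi
  cases nonempty_fintype F
  classical
  obtain ⟨b, -, hb⟩ := Finset.exists_mem_notMem_of_card_lt_card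
    (s := ({-Q f, 1 - Q f} : Finset F)) (t := Finset.univ) (by
      rw [Finset.card_univ, ← Nat.card_eq_fintype_card]
      exact (Finset.card_le_two).trans_lt hq)
  simp only [Finset.mem_insert, Finset.mem_singleton, not_or] at hb
  have hQw : Q (f + b • v) = Q f + b := by
    rw [q_add, q_smul, hv, b_smul_right, b_comm f v, hf1]; ring
  refine ⟨f + b • v, ?_, ?_, ?_⟩
  · rw [b_add_right, mem_orth_span.1 hf u rfl, b_smul_right, huv, mul_zero, add_zero]
  · rw [hQw]; exact fun e => hb.1 (by linear_combination e)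
  · rw [q_sub, hQw, hv, b_add_right, hf1, b_smul_right, b_self_zero hv, mul_zero, add_zero]
    exact fun e => hb.2 (by linear_combination e)

end CfsgLib.Orth
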