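/-
The Dickson invariant: parity of the codimension of the fixed space is multiplicative.
-/
import Cfsg.Agent.Lib.Classical.OrthFamily
import Cfsg.Agent.Lib.Classical.OrthReflect

set_option autoImplicit false

namespace CfsgLib.Orth

open Matrix

variable {F : Type*} [Field F] {ι : Type} [Fintype ι] [DecidableEq ι]
variable {Q : QuadraticForm F (ι → F)}

local notation "B" => QuadraticMap.polar (DFunLike.coe Q)

/-- The form `Q ⊥ -Q` on `F^(ι ⊕ ι)`. -/
noncomputable def double (Q : QuadraticForm F (ι → F)) : QuadraticForm F (ι ⊕ ι → F) :=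
  Q.comp (LinearMap.funLeft F F Sum.inl) - Q.comp (LinearMap.funLeft F F Sum.inr)

omit [Fintype ι] [DecidableEq ι] in
theorem double_apply (x : ι ⊕ ι → F) : double Q x = Q (x ∘ Sum.inl) - Q (x ∘ Sum.inr) := rfl

omit [Fintype ι] [DecidableEq ι] in
theorem double_nondeg (hB : Nondeg Q) : Nondeg (double Q) := by
  intro x hx
  have hp : ∀ y : ι ⊕ ι → F, QuadraticMap.polar ⇑(double Q) x y =
      B (x ∘ Sum.inl) (y ∘ Sum.inl) - B (x ∘ Sum.inr) (y ∘ Sum.inr) := fun y => by
    simp only [QuadraticMap.polar, double_apply]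
    have e1 : (x + y) ∘ (Sum.inl : ι → ι ⊕ ι) = x ∘ Sum.inl + y ∘ Sum.inl := rfl
    have e2 : (x + y) ∘ (Sum.inr : ι → ι ⊕ ι) = x ∘ Sum.inr + y ∘ Sum.inr := rfl
    rw [e1, e2]
    ring
  have h1 : x ∘ Sum.inl = 0 := hB _ fun y => by
    have h := hx (Sum.elim y 0)
    rw [hp, Sum.elim_comp_inl, Sum.elim_comp_inr, b_zero_right, sub_zero] at h
    exact h
  have h2 : x ∘ Sum.inr = 0 := hB _ fun y => by
    have h := hx (Sum.elim 0 y)
    rw [hp, Sum.elim_comp_inl, Sum.elim_comp_inr, b_zero_right, zero_sub, neg_eq_zero] at h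
    exact h
  funext i
  rcases i with i | i
  · exact congrFun h1 i
  · exact congrFun h2 i

/-- The graph of an isometry. -/
def graph (g : Grp Q) : Submodule F (ι ⊕ ι → F) where
  carrier := {x | x ∘ Sum.inr = ap g (x ∘ Sum.inl)}
  add_mem' := fun {a b} (ha : a ∘ Sum.inr = _) (hb : b ∘ Sum.inr = _) => by
    show (a ∘ Sum.inr + b ∘ Sum.inr : ι → F) = ap g (a ∘ Sum.inl + b ∘ Sum.inl)
    rw [ap_add, ha, hb]
  zero_mem' := (ap_zero g).symm
  smul_mem' := fun c a (ha : a ∘ Sum.inr = _) => by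
    show (c • (a ∘ Sum.inr) : ι → F) = ap g (c • (a ∘ Sum.inl))
    rw [ap_smul, ha]

/-- The graph is parametrised by the first coordinate. -/
def graphInfEquiv (a b : Grp Q) : fixSpace (a⁻¹ * b) ≃ₗ[F] ↥(graph a ⊓ graph b) where
  toFun := fun v => ⟨Sum.elim (v : ι → F) (ap a v), by
    refine ⟨?_, ?_⟩
    · show Sum.elim _ _ ∘ Sum.inr = ap a (Sum.elim _ _ ∘ Sum.inl)
      rw [Sum.elim_comp_inl, Sum.elim_comp_inr]
    · show Sum.elim _ _ ∘ Sum.inr = ap b (Sum.elim _ _ ∘ Sum.inl)
      rw [Sum.elim_comp_inl, Sum.elim_comp_inr]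
      conv_lhs => rw [← mem_fixSpace.1 v.2, ← ap_mul, mul_inv_cancel_left]⟩
  invFun := fun x => ⟨(x : ι ⊕ ι → F) ∘ Sum.inl, by
    have h1 : (x : ι ⊕ ι → F) ∘ Sum.inr = _ := x.2.1
    have h2 : (x : ι ⊕ ι → F) ∘ Sum.inr = _ := x.2.2
    rw [mem_fixSpace, ap_mul, ← h2, h1, ap_inv_ap]⟩
  left_inv := fun v => Subtype.ext (Sum.elim_comp_inl (v : ι → F) (ap a (v : ι → F)))
  right_inv := fun x => Subtype.ext (by
    have h1 : (x : ι ⊕ ι → F) ∘ Sum.inr = _ := x.2.1
    show Sum.elim _ (ap a _) = _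
    rw [← h1]; exact Sum.elim_comp_inl_inr _)
  map_add' := fun v w => Subtype.ext (by
    show Sum.elim ((v : ι → F) + (w : ι → F)) (ap a ((v : ι → F) + (w : ι → F))) = Sum.elim _ _ + Sum.elim _ _
    rw [ap_add]; funext i; rcases i with i | i <;> rfl)
  map_smul' := fun c v => Subtype.ext (by
    show Sum.elim (c • (v : ι → F)) (ap a (c • (v : ι → F))) = c • Sum.elim _ _
    rw [ap_smul]; funext i; rcases i with i | i <;> rfl)

theorem fixSpace_one : fixSpace (1 : Grp Q) = ⊤ :=
  eq_top_iff.2 fun x _ => mem_fixSpace.2 (ap_one x)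

theorem graph_half (g : Grp Q) : IsHalf (double Q) (graph g) := by
  refine ⟨fun x (hx : x ∘ Sum.inr = _) => ?_, ?_⟩
  · rw [double_apply, hx, ap_q, sub_self]
  · have h := (graphInfEquiv g g).finrank_eq
    rw [inv_mul_cancel, fixSpace_one, finrank_top, inf_idem] at h
    rw [← h, Module.finrank_pi, Module.finrank_pi, Fintype.card_sum]
    omega

/-- The parity of the fixed space codimension is a homomorphism. -/
theorem fix_parity (hB : Nondeg Q) (g h : Grp Q) :
    Even (Module.finrank F (ι → F) + Module.finrank F (fixSpace g) +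
      Module.finrank F (fixSpace h) + Module.finrank F (fixSpace (g * h))) := by
  have ht := even_half_triangle (double_nondeg hB) (graph_half (1 : Grp Q)) (graph_half g)
    (graph_half (g * h))
  have e0 := (graphInfEquiv (1 : Grp Q) 1).finrank_eq
  have e1 := (graphInfEquiv (1 : Grp Q) g).finrank_eq
  have e2 := (graphInfEquiv g (g * h)).finrank_eq
  have e3 := (graphInfEquiv (1 : Grp Q) (g * h)).finrank_eq
  rw [inv_one, one_mul, inf_idem, fixSpace_one, finrank_top] at e0
  rw [inv_one, one_mul] at e1 e3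
  rw [inv_mul_cancel_left] at e2
  rwa [← e0, ← e1, ← e2, ← e3] at ht

theorem finrank_fix_refl (hB : Nondeg Q) {v : ι → F} {g : Grp Q} (h : IsRefl v g) :
    Module.finrank F (fixSpace g) + 1 = Module.finrank F (ι → F) := by
  have hv0 : v ≠ 0 := fun e => h.1 (by rw [e, QuadraticMap.map_zero])
  have e : fixSpace g = orth Q (Submodule.span F {v}) := by
    ext x
    rw [mem_fixSpace, mem_orth_span]
    refine ⟨fun hx s hs => ?_, fun hx => refl_fix h (hx v rfl)⟩
    rw [Set.mem_singleton_iff.1 hs]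
    rw [h.2, sub_eq_self, smul_eq_zero] at hx
    exact (mul_eq_zero.1 (hx.resolve_right hv0)).resolve_left (inv_ne_zero h.1)
  have := finrank_orth hB (Submodule.span F {v})
  rw [finrank_span_singleton hv0, ← e] at this
  omega

/-- The Dickson homomorphism. -/
noncomputable def dickson (hB : Nondeg Q) : Grp Q →* ℤˣ where
  toFun g := (-1) ^ (Module.finrank F (ι → F) + Module.finrank F (fixSpace g))
  map_one' := by
    rw [fixSpace_one, finrank_top, ← two_mul, pow_mul]; simp
  map_mul' g h := by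
    rw [← pow_add]
    obtain ⟨k, hk⟩ := fix_parity hB g h
    refine neg_one_pow_congr ?_
    simp only [Nat.even_iff]
    omega

theorem dickson_refl (hB : Nondeg Q) {v : ι → F} {g : Grp Q} (h : IsRefl v g) :
    dickson hB g = -1 := by
  show (-1 : ℤˣ) ^ (_ + _) = -1
  exact Odd.neg_one_pow ⟨Module.finrank F (fixSpace g), by have := finrank_fix_refl hB h; omega⟩

end CfsgLib.Orth
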