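/-
The index of the commutator subgroup in a finite orthogonal group; the spinor norm as a
permutation sign.
-/
import Cfsg.Agent.Lib.Classical.OrthDickson

set_option autoImplicit false

namespace CfsgLib.Orth

open Matrix

variable {F : Type*} [Field F] {ι : Type} [Fintype ι] [DecidableEq ι]
variable {Q : QuadraticForm F (ι → F)}

local notation "B" => QuadraticMap.polar (DFunLike.coe Q)

omit [Fintype ι] [DecidableEq ι] in
theorem isSquare_mul_iff [Finite F] {a b : F} (ha : a ≠ 0) :
    IsSquare (a * b) ↔ b = 0 ∨ (IsSquare a ↔ IsSquare b) := by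
  cases nonempty_fintype F
  classical
  by_cases hb : b = 0
  · simp [hb]
  rw [← quadraticChar_one_iff_isSquare (mul_ne_zero ha hb), map_mul,
    ← quadraticChar_one_iff_isSquare ha, ← quadraticChar_one_iff_isSquare hb]
  rcases quadraticChar_dichotomy ha with h | h <;> rcases quadraticChar_dichotomy hb with h' | h' <;>
    simp [h, h', hb]

theorem omega_mk_eq_one {g : Grp Q} (h : g ∈ Cfsg.Omega F ⇑Q) :
    (g : Grp Q ⧸ Cfsg.Omega F ⇑Q) = 1 := (QuotientGroup.eq_one_iff g).2 h

theorem mk_mul_comm (a b : Grp Q) :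
    (a : Grp Q ⧸ Cfsg.Omega F ⇑Q) * b = (b : Grp Q ⧸ Cfsg.Omega F ⇑Q) * a := by
  rw [← QuotientGroup.mk_mul, ← QuotientGroup.mk_mul, QuotientGroup.eq, Cfsg.Omega,
    _root_.commutator_def]
  have e : (a * b)⁻¹ * (b * a) = b⁻¹ * a⁻¹ * (b⁻¹)⁻¹ * (a⁻¹)⁻¹ := by group
  rw [e]
  exact (commutatorElement_def b⁻¹ a⁻¹).symm ▸
    Subgroup.commutator_mem_commutator (Subgroup.mem_top _) (Subgroup.mem_top _)

theorem mk_refl_eq {v w : ι → F} {r s g : Grp Q} (hr : IsRefl v r) (hs : IsRefl w s)
    (h : ap g v = w ∨ ap g v = -w) :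
    (r : Grp Q ⧸ Cfsg.Omega F ⇑Q) = (s : Grp Q ⧸ Cfsg.Omega F ⇑Q) := by
  have h1 := refl_conj hr g
  have e : g * r * g⁻¹ = s := by
    rcases h with h | h <;> rw [h] at h1
    · exact refl_unique h1 hs
    · have h2 := refl_smul h1 (c := -1) (neg_ne_zero.2 one_ne_zero)
      rw [neg_one_smul, neg_neg] at h2
      exact refl_unique h2 hs
  rw [← e, QuotientGroup.mk_mul, QuotientGroup.mk_mul, mk_mul_comm g r, mul_assoc,
    QuotientGroup.mk_inv, mul_inv_cancel, mul_one]

omit [Fintype ι] [DecidableEq ι] in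
theorem exists_aniso (hB : Nondeg Q) (hn : 1 ≤ Module.finrank F (ι → F)) :
    ∃ v, Q v ≠ 0 := by
  by_contra hc
  push Not at hc
  have : Nontrivial (ι → F) := Module.nontrivial_of_finrank_pos (R := F) (by omega)
  obtain ⟨v, hv⟩ := exists_ne (0 : ι → F)
  exact hv (hB v fun y => by
    unfold QuadraticMap.polar
    rw [hc, hc, hc, sub_zero, sub_zero])

/-! ### Characteristic two -/

theorem exists_conj_char_two [Finite F] (hB : Nondeg Q) (h2 : (2 : F) = 0)
    (hex : Module.finrank F (ι → F) = 4 → Nat.card F ≠ 2)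
    {v w : ι → F} (hv : Q v ≠ 0) (hvw : Q v = Q w) : ∃ g : Grp Q, ap g v = w := by
  have h11 : (1 : F) + 1 = 0 := by rw [← h2]; norm_num
  have : CharP F 2 := CharTwo.of_one_ne_zero_of_two_eq_zero one_ne_zero h2
  have hneg : ∀ x : F, -x = x := fun x => CharTwo.neg_eq x
  have hw : Q w ≠ 0 := hvw ▸ hv
  by_cases heq : v = w
  · exact ⟨1, by rw [heq, ap_one]⟩
  -- the case of non-orthogonal vectors
  have key : ∀ a b : ι → F, Q a = Q b → B a b ≠ 0 → ∃ g : Grp Q, ap g a = b := by
    intro a b hab hb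
    have hd : Q (a - b) ≠ 0 := by
      rw [q_sub, hab, ← two_mul, h2, zero_mul, zero_sub, neg_ne_zero]; exact hb
    obtain ⟨r, hr⟩ := exists_refl hB hd
    refine ⟨r, ?_⟩
    rw [hr.2, show B (a - b) a = Q (a - b) by
      rw [b_sub_left, b_self, q_sub, b_comm b a, hab, h2, zero_mul, ← two_mul, h2, zero_mul],
      inv_mul_cancel₀ hd, one_smul, sub_sub_cancel]
  by_cases hb : B v w = 0
  swap
  · exact key v w hvw hb
  by_cases h5 : 5 ≤ Module.finrank F (ι → F)
  · obtain ⟨e, -, he⟩ := exists_move_vec hB h5 (fun h => hv (by rw [h, QuadraticMap.map_zero]))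
      (fun h => hw (by rw [h, QuadraticMap.map_zero])) hvw
    exact ⟨e, he⟩
  have hw0 : w ≠ 0 := fun h => hw (by rw [h, QuadraticMap.map_zero])
  have hv0 : v ≠ 0 := fun h => hv (by rw [h, QuadraticMap.map_zero])
  have hvS : v ∉ Submodule.span F {w - v} := by
    intro h
    obtain ⟨c, hc⟩ := Submodule.mem_span_singleton.1 h
    by_cases hc0 : c = 0
    · rw [hc0, zero_smul] at hc; exact hv0 hc.symm
    have e : c • w = (1 + c) • v := by linear_combination (norm := module) hc
    have h1 := congrArg Q e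
    rw [q_smul, q_smul, ← hvw] at h1
    have h3 : (1 : F) * 1 * Q v = 0 := by linear_combination h1.symm - c * Q v * h2
    exact hv (by linear_combination h3)
  obtain ⟨z, hz, hz1⟩ := exists_orth_one hB hvS
  have hzw : B w z = 1 := by
    have h := mem_orth_span.1 hz (w - v) rfl
    rw [b_sub_left, hz1, sub_eq_zero] at h
    exact h
  -- find the intermediate vector
  obtain ⟨t, s, ht, hts⟩ : ∃ t s : F, t ≠ 0 ∧ t * t * Q z + s * s * Q v + t * s = Q v := by
    cases nonempty_fintype F
    by_cases ha : Q z = 0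
    · obtain ⟨s, hs0, hs1⟩ : ∃ s : F, s ≠ 0 ∧ s ≠ 1 := by
        have hq : 2 < Nat.card F := by
          have h2' : Nat.card F ≠ 2 := by
            refine hex ?_
            -- the dimension is four
            have hlt : Submodule.span F {v} < Submodule.span F ({v, w} : Set (ι → F)) := by
              refine lt_of_le_of_ne (Submodule.span_mono (by simp)) fun e => ?_
              have : w ∈ Submodule.span F {v} :=
                e ▸ Submodule.subset_span (Set.mem_insert_of_mem v rfl)
              obtain ⟨c, hc⟩ := Submodule.mem_span_singleton.1 this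
              have h1 : Q w = c * c * Q v := by rw [← hc, q_smul]
              have h3 : (c - 1) * (c - 1) = 0 := by
                refine (mul_eq_zero.1 (?_ : (c - 1) * (c - 1) * Q v = 0)).resolve_right hv
                linear_combination -h1 - hvw - (c - 1) * Q v * h2
              have hc1 : c = 1 := sub_eq_zero.1 (mul_self_eq_zero.1 h3)
              exact heq (by rw [← hc, hc1, one_smul])
            have h1 := Submodule.finrank_lt_finrank_of_lt hlt
            rw [finrank_span_singleton hv0] at h1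
            have h3 := two_mul_finrank_le hB
              (W := Submodule.span F ({v, w} : Set (ι → F))) ?_
            · omega
            rw [Submodule.span_le]
            intro x hx
            rw [SetLike.mem_coe, mem_orth_span]
            intro y hy
            rcases hx with rfl | hx <;> rcases hy with rfl | hy
            · rw [b_self, h2, zero_mul]
            · rw [Set.mem_singleton_iff.1 hy, b_comm]; exact hb
            · rw [Set.mem_singleton_iff.1 hx]; exact hb
            · rw [Set.mem_singleton_iff.1 hx, Set.mem_singleton_iff.1 hy, b_self, h2, zero_mul]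
          have := Finite.one_lt_card (α := F)
          omega
        classical
        obtain ⟨s, -, hs⟩ := Finset.exists_mem_notMem_of_card_lt_card
          (s := ({0, 1} : Finset F)) (t := Finset.univ) (by
            rw [Finset.card_univ, ← Nat.card_eq_fintype_card]
            exact (Finset.card_le_two).trans_lt hq)
        simp only [Finset.mem_insert, Finset.mem_singleton, not_or] at hs
        exact ⟨s, hs.1, hs.2⟩
      refine ⟨Q v * (1 - s * s) / s, s, ?_, ?_⟩
      · refine div_ne_zero (mul_ne_zero hv fun e => hs1 ?_) hs0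
        have h1 : (s - 1) * (s - 1) = 0 := by linear_combination -e - (s - 1) * h2
        exact sub_eq_zero.1 (mul_self_eq_zero.1 h1)
      · rw [ha, mul_zero, zero_add, div_mul_cancel₀ _ hs0]; ring
    · obtain ⟨t, ht⟩ := FiniteField.isSquare_of_char_two (ringChar.eq F 2) (Q v / Q z)
      refine ⟨t, 0, fun e => div_ne_zero hv ha (by rw [ht, e, mul_zero]), ?_⟩
      rw [← ht, div_mul_cancel₀ _ ha]; ring
  obtain ⟨y, hy⟩ : ∃ y, y = t • z + s • v := ⟨_, rfl⟩
  have hQy : Q y = Q v := by
    rw [hy, q_add, q_smul, q_smul, b_smul_left, b_smul_right, b_comm z v, hz1]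
    linear_combination hts
  obtain ⟨g₁, hg₁⟩ := key v y hQy.symm (by
    rw [hy, b_add_right, b_smul_right, b_smul_right, hz1, b_self, h2, zero_mul, mul_zero, add_zero,
      mul_one]
    exact ht)
  obtain ⟨g₂, hg₂⟩ := key y w (hQy.trans hvw) (by
    rw [hy, b_add_left, b_smul_left, b_smul_left, b_comm z w, hzw, hb, mul_zero, add_zero, mul_one]
    exact ht)
  exact ⟨g₂ * g₁, by rw [ap_mul, hg₁, hg₂]⟩

/-- In characteristic two `Ω` is the kernel of the Dickson invariant. -/
theorem omega_eq_ker_dickson [Finite F] (hB : Nondeg Q) (h2 : (2 : F) = 0)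
    (hn : 1 ≤ Module.finrank F (ι → F))
    (hex : Module.finrank F (ι → F) = 4 → Nat.card F ≠ 2) :
    Cfsg.Omega F ⇑Q = (dickson hB).ker := by
  refine le_antisymm (Abelianization.commutator_subset_ker _) fun g hg => ?_
  obtain ⟨v, hv⟩ := exists_aniso hB hn
  obtain ⟨r, hr⟩ := exists_refl hB hv
  have : CharP F 2 := CharTwo.of_one_ne_zero_of_two_eq_zero one_ne_zero h2
  cases nonempty_fintype F
  have hall : ∀ (w : ι → F) (s : Grp Q), IsRefl w s →
      (s : Grp Q ⧸ Cfsg.Omega F ⇑Q) = (r : Grp Q ⧸ Cfsg.Omega F ⇑Q) := by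
    intro w s hs
    obtain ⟨c, hc⟩ := FiniteField.isSquare_of_char_two (ringChar.eq F 2) (Q v / Q w)
    have hc0 : c ≠ 0 := fun e => div_ne_zero hv hs.1 (by rw [hc, e, mul_zero])
    have hq : Q (c • w) = Q v := by rw [q_smul, ← hc, div_mul_cancel₀ _ hs.1]
    obtain ⟨a, ha⟩ := exists_conj_char_two hB h2 hex (v := c • w) (hq ▸ hv) hq
    exact mk_refl_eq (refl_smul hs hc0) hr (Or.inl ha)
  have hg' : g ∈ Refl Q := by rw [refl_eq_top hB hex]; trivial
  have key : ∃ i : ℕ, (g : Grp Q ⧸ Cfsg.Omega F ⇑Q) = (r : Grp Q ⧸ Cfsg.Omega F ⇑Q) ^ i ∧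
      dickson hB g = (-1) ^ i := by
    clear hg
    induction hg' using Subgroup.closure_induction with
    | mem s hs =>
        obtain ⟨w, hs⟩ := hs
        exact ⟨1, by rw [pow_one, hall w s hs], by rw [pow_one, dickson_refl hB hs]⟩
    | one => exact ⟨0, by rw [pow_zero, QuotientGroup.mk_one], by rw [pow_zero, map_one]⟩
    | mul a b _ _ ha hb =>
        obtain ⟨i, hi, hi'⟩ := ha
        obtain ⟨j, hj, hj'⟩ := hb
        exact ⟨i + j, by rw [QuotientGroup.mk_mul, hi, hj, pow_add],
          by rw [map_mul, hi', hj', pow_add]⟩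
    | inv a _ ha =>
        obtain ⟨i, hi, hi'⟩ := ha
        refine ⟨i, ?_, ?_⟩
        · rw [QuotientGroup.mk_inv, hi, ← inv_pow, ← QuotientGroup.mk_inv, refl_inv hr]
        · rw [map_inv, hi', ← inv_pow, Int.units_inv_eq_self]
  obtain ⟨i, hi, hi'⟩ := key
  rw [MonoidHom.mem_ker.1 hg] at hi'
  obtain ⟨k, rfl⟩ : Even i := by
    by_contra h
    rw [(Nat.not_even_iff_odd.1 h).neg_one_pow] at hi'
    exact absurd hi' (by decide)
  rw [← QuotientGroup.eq_one_iff, hi, ← two_mul, pow_mul, sq, ← QuotientGroup.mk_mul,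
    refl_mul_self hr, QuotientGroup.mk_one, one_pow]

/-! ### Odd characteristic -/

/-- The permutation of the vectors of norm `a`. -/
def normPerm (a : F) : Grp Q →* Equiv.Perm {x : ι → F // Q x = a} where
  toFun g :=
    { toFun := fun x => ⟨ap g x, by rw [ap_q, x.2]⟩
      invFun := fun x => ⟨ap g⁻¹ x, by rw [ap_q, x.2]⟩
      left_inv := fun x => Subtype.ext (ap_inv_ap g x)
      right_inv := fun x => Subtype.ext (ap_ap_inv g x) }
  map_one' := Equiv.ext fun x => Subtype.ext (ap_one _)
  map_mul' g h := Equiv.ext fun x => Subtype.ext (ap_mul g h x)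

/-- The spinor character. -/
noncomputable def spinor [Finite F] (Q : QuadraticForm F (ι → F)) (a : F) : Grp Q →* ℤˣ :=
  haveI := Fintype.ofFinite {x : ι → F // Q x = a}
  haveI := Classical.decEq {x : ι → F // Q x = a}
  Equiv.Perm.sign.comp (normPerm a)

omit [Fintype ι] [DecidableEq ι] in
theorem card_perp [Finite F] [Finite ι] {v v' : ι → F}
    (hvv' : B v v' = 0) (hv' : B v' v' ≠ 0) (a : F) (R : Submodule F (ι → F)) [Fintype R]
    (hR : R = orth Q (Submodule.span F ({v, v'} : Set (ι → F)))) :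
    Nat.card {x : ι → F // Q x = a ∧ B v x = 0} =
      ∑ y : R, Nat.card {t : F // t * t * Q v' = a - Q (y : ι → F)} := by
  rw [← Nat.card_sigma]
  have hS : ∀ y : ι → F, y ∈ R ↔ B v y = 0 ∧ B v' y = 0 := fun y => by
    rw [hR, mem_orth_span]; simp
  refine Nat.card_congr
    { toFun := fun x => ⟨⟨(x : ι → F) - ((B v' v')⁻¹ * B v' x) • v', (hS _).2 ⟨?_, ?_⟩⟩,
        ⟨(B v' v')⁻¹ * B v' x, ?_⟩⟩
      invFun := fun p => ⟨(p.1 : ι → F) + (p.2 : F) • v', ?_, ?_⟩
      left_inv := fun x => Subtype.ext (sub_add_cancel _ _)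
      right_inv := fun p => ?_ }
  · rw [b_sub_right, x.2.2, b_smul_right, hvv', mul_zero, sub_zero]
  · rw [b_sub_right, b_smul_right, mul_comm _ (B v' (x : ι → F)), mul_assoc, inv_mul_cancel₀ hv',
      mul_one, sub_self]
  · rw [q_sub, q_smul, x.2.1, b_smul_right, b_comm (x : ι → F) v']
    have h1 : B v' v' = 2 * Q v' := b_self v'
    have h2 : (B v' v')⁻¹ * B v' v' = 1 := inv_mul_cancel₀ hv'
    linear_combination ((B v' v')⁻¹ * B v' (x : ι → F) * B v' (x : ι → F)) * h2 -
      ((B v' v')⁻¹ * B v' (x : ι → F)) ^ 2 * h1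
  · obtain ⟨⟨y, hy⟩, t, ht⟩ := p
    show Q (y + t • v') = a
    rw [q_add, q_smul, b_smul_right, b_comm y v', ((hS y).1 hy).2, mul_zero, add_zero]
    linear_combination ht
  · obtain ⟨⟨y, hy⟩, t, ht⟩ := p
    show B v (y + t • v') = 0
    rw [b_add_right, b_smul_right, ((hS y).1 hy).1, hvv', mul_zero, add_zero]
  · obtain ⟨⟨y, hy⟩, t, ht⟩ := p
    have e : (B v' v')⁻¹ * B v' (y + t • v') = t := by
      rw [b_add_right, b_smul_right, ((hS y).1 hy).2, zero_add, mul_comm t, ← mul_assoc,
        inv_mul_cancel₀ hv', one_mul]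
    refine Sigma.subtype_ext (Subtype.ext ?_) e
    show y + t • v' - ((B v' v')⁻¹ * B v' (y + t • v')) • v' = y
    rw [e, add_sub_cancel_right]

omit [Fintype ι] [DecidableEq ι] in
theorem card_roots_add [Finite F] (h2 : (2 : F) ≠ 0) {α β : F} (hα : α ≠ 0) (hβ : β ≠ 0)
    (hns : ¬ IsSquare (α * β)) (c : F) :
    Nat.card {t : F // t * t * α = c} + Nat.card {t : F // t * t * β = c} = 2 := by
  cases nonempty_fintype F
  classical
  have hcard : ∀ γ : F, γ ≠ 0 →
      (Nat.card {t : F // t * t * γ = c} : ℤ) = quadraticChar F (c * γ) + 1 := by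
    intro γ hγ
    have hch : ringChar F ≠ 2 := fun e => h2 (by
      have := CharP.cast_eq_zero F (ringChar F)
      rwa [e, Nat.cast_ofNat] at this)
    have e : quadraticChar F (c * γ) = quadraticChar F (c / γ) := by
      rw [show c * γ = c / γ * γ ^ 2 by field_simp, map_mul, quadraticChar_sq_one' hγ, mul_one]
    rw [e, ← quadraticChar_card_sqrts hch (c / γ)]
    norm_cast
    rw [Nat.card_eq_fintype_card, Fintype.card_subtype]
    congr 1
    ext t
    simp only [Finset.mem_filter, Finset.mem_univ, true_and, Set.mem_toFinset, Set.mem_setOf_eq]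
    rw [eq_div_iff hγ, sq]
  have hsum : quadraticChar F (c * α) + quadraticChar F (c * β) = 0 := by
    have h := quadraticChar_neg_one_iff_not_isSquare.2 hns
    rw [map_mul] at h
    rw [map_mul, map_mul]
    rcases quadraticChar_dichotomy hα with h1 | h1 <;> rw [h1] at h ⊢
    · rw [one_mul] at h; rw [h]; ring
    · rw [neg_one_mul, neg_inj] at h; rw [h]; ring
  have := hcard α hα
  have := hcard β hβ
  omega

/-- The spinor character separates the two classes of reflections. -/
theorem spinor_ne [Finite F] (hB : Nondeg Q) (h2 : (2 : F) ≠ 0) {a : F} (ha : a ≠ 0)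
    {v w : ι → F} {r s : Grp Q} (hr : IsRefl v r) (hs : IsRefl w s)
    {v' w' : ι → F} (hvv' : B v v' = 0) (hww' : B w w' = 0) (hv' : Q v' ≠ 0) (hw' : Q w' ≠ 0)
    (hns : ¬ IsSquare (Q v' * Q w'))
    (hspan : Submodule.span F ({v, v'} : Set (ι → F)) = Submodule.span F {w, w'}) :
    spinor Q a r ≠ spinor Q a s := by
  classical
  cases nonempty_fintype F
  have hR : Odd (Nat.card (orth Q (Submodule.span F ({v, v'} : Set (ι → F))))) := by
    rw [Module.natCard_eq_pow_finrank (K := F)]
    refine Odd.pow ?_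
    rw [Nat.card_eq_fintype_card, Nat.odd_iff]
    refine FiniteField.odd_card_of_char_ne_two fun e => h2 ?_
    have := CharP.cast_eq_zero F (ringChar F)
    rwa [e, Nat.cast_ofNat] at this
  have hbb : ∀ x : ι → F, Q x ≠ 0 → B x x ≠ 0 := fun x hx => by
    rw [b_self]; exact mul_ne_zero h2 hx
  -- the total number of fixed points of the two reflections
  have hsum : Nat.card {x : ι → F // Q x = a ∧ B v x = 0} +
      Nat.card {x : ι → F // Q x = a ∧ B w x = 0} =
      2 * Nat.card (orth Q (Submodule.span F ({v, v'} : Set (ι → F)))) := by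
    obtain ⟨R, hRe⟩ : ∃ R, R = orth Q (Submodule.span F ({v, v'} : Set (ι → F))) := ⟨_, rfl⟩
    let ftR := Fintype.ofFinite R
    rw [card_perp hvv' (hbb v' hv') a R hRe, card_perp hww' (hbb w' hw') a R (by rw [hRe, hspan]),
      ← Finset.sum_add_distrib,
      Finset.sum_congr rfl fun y _ => card_roots_add h2 hv' hw' hns _, Finset.sum_const,
      Finset.card_univ, smul_eq_mul, ← hRe, Nat.card_eq_fintype_card, mul_comm]
  -- fixed points come in pairs
  have heven : ∀ x₀ : ι → F, Even (Nat.card {x : ι → F // Q x = a ∧ B x₀ x = 0}) := by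
    intro x₀
    let p : Equiv.Perm {x : ι → F // Q x = a ∧ B x₀ x = 0} :=
      { toFun := fun x => ⟨-(x : ι → F), by rw [QuadraticMap.map_neg]; exact x.2.1, by
          rw [← neg_one_smul F (x : ι → F), b_smul_right, x.2.2, mul_zero]⟩
        invFun := fun x => ⟨-(x : ι → F), by rw [QuadraticMap.map_neg]; exact x.2.1, by
          rw [← neg_one_smul F (x : ι → F), b_smul_right, x.2.2, mul_zero]⟩
        left_inv := fun x => Subtype.ext (neg_neg _)
        right_inv := fun x => Subtype.ext (neg_neg _) }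
    rw [Nat.card_eq_fintype_card, ← Finset.card_univ]
    have hsupp : p.support = Finset.univ := Finset.eq_univ_iff_forall.2 fun x => by
      rw [Equiv.Perm.mem_support]
      intro h
      have h' : -(x : ι → F) = x := congrArg Subtype.val h
      refine ha ?_
      rw [← x.2.1, show (x : ι → F) = 0 from funext fun i => by
        have h3 := congrFun h' i
        simp only [Pi.neg_apply] at h3
        have : 2 * (x : ι → F) i = 0 := by linear_combination -h3
        exact (mul_eq_zero.1 this).resolve_left h2, QuadraticMap.map_zero]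
    have hp : p ^ 2 = 1 := Equiv.ext fun x => Subtype.ext (neg_neg _)
    rw [← hsupp, ← Equiv.Perm.sum_cycleType]
    refine Nat.even_iff.2 (Nat.mod_eq_zero_of_dvd ?_) |> id
    exact Multiset.dvd_sum fun k hk => by
      rw [Equiv.Perm.cycleType_of_pow_prime_eq_one (p := 2) hp] at hk
      rw [Multiset.eq_of_mem_replicate hk]
  have hfix : ∀ (u : ι → F) (t : Grp Q), IsRefl u t →
      Nat.card (Function.fixedPoints (normPerm a t)) =
        Nat.card {x : ι → F // Q x = a ∧ B u x = 0} := by
    intro u t ht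
    have hu0 : u ≠ 0 := fun e => ht.1 (by rw [e, QuadraticMap.map_zero])
    have hiff : ∀ x : {x : ι → F // Q x = a},
        x ∈ Function.fixedPoints (normPerm a t) ↔ B u (x : ι → F) = 0 := fun x => by
      refine ⟨fun hx => ?_, fun hx => Subtype.ext (refl_fix ht hx)⟩
      have h : ap t (x : ι → F) = x := congrArg Subtype.val hx
      rw [ht.2, sub_eq_self, smul_eq_zero] at h
      exact (mul_eq_zero.1 (h.resolve_right hu0)).resolve_left (inv_ne_zero ht.1)
    exact Nat.card_congr
      { toFun := fun x => ⟨x.1.1, x.1.2, (hiff x.1).1 x.2⟩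
        invFun := fun x => ⟨⟨x.1, x.2.1⟩, (hiff ⟨x.1, x.2.1⟩).2 x.2.2⟩ }
  have hinvol : ∀ (u : ι → F) (t : Grp Q), IsRefl u t → (normPerm a t) ^ 2 = 1 := fun u t ht => by
    rw [sq, ← map_mul, refl_mul_self ht, map_one]
  intro h
  letI := Fintype.ofFinite {x : ι → F // Q x = a}
  letI := Classical.decEq {x : ι → F // Q x = a}
  unfold spinor at h
  simp only [MonoidHom.comp_apply] at h
  rw [Equiv.Perm.sign_of_pow_two_eq_one (hinvol v r hr),
    Equiv.Perm.sign_of_pow_two_eq_one (hinvol w s hs)] at h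
  simp only [← Nat.card_eq_fintype_card, hfix v r hr, hfix w s hs] at h
  obtain ⟨k, hk⟩ := hR
  rw [hk] at hsum
  obtain ⟨i, hi⟩ := heven v
  obtain ⟨j, hj⟩ := heven w
  have hle : ∀ u : ι → F, Nat.card {x : ι → F // Q x = a ∧ B u x = 0} ≤
      Nat.card {x : ι → F // Q x = a} := fun u =>
    Nat.card_le_card_of_injective (fun x => (⟨x.1, x.2.1⟩ : {x : ι → F // Q x = a}))
      fun x y e => Subtype.ext (congrArg Subtype.val e :)
  have := hle v
  have := hle w
  have hpar : ∀ a b : ℕ, (-1 : ℤˣ) ^ a = (-1) ^ b → a % 2 = b % 2 := fun a b e => by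
    rcases Nat.even_or_odd a with h | h <;> rcases Nat.even_or_odd b with h' | h' <;>
      rw [h.neg_one_pow, h'.neg_one_pow] at e <;>
      first
        | (rw [Nat.even_iff] at h h'; omega)
        | (rw [Nat.odd_iff] at h h'; omega)
        | exact absurd e (by decide)
  have := hpar _ _ h
  omega

/-- A pair of reflection vectors of different classes. -/
theorem exists_pair [Finite F] (hB : Nondeg Q) (h2 : (2 : F) ≠ 0)
    (hn : 2 ≤ Module.finrank F (ι → F)) :
    ∃ v w v' w' : ι → F, Q v ≠ 0 ∧ Q w ≠ 0 ∧ Q v' ≠ 0 ∧ Q w' ≠ 0 ∧ B v v' = 0 ∧ B w w' = 0 ∧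
      ¬ IsSquare (Q v * Q w) ∧ ¬ IsSquare (Q v' * Q w') ∧
      Submodule.span F ({v, v'} : Set (ι → F)) = Submodule.span F {w, w'} := by
  cases nonempty_fintype F
  obtain ⟨v, hv⟩ := exists_aniso hB (by omega)
  have hv0 : v ≠ 0 := fun e => hv (by rw [e, QuadraticMap.map_zero])
  have hbv : B v v ≠ 0 := by rw [b_self]; exact mul_ne_zero h2 hv
  obtain ⟨v', hv'o, hv'⟩ : ∃ v' ∈ orth Q (Submodule.span F {v}), Q v' ≠ 0 := by
    by_contra hc
    push Not at hc
    have h1 := finrank_orth hB (Submodule.span F {v})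
    rw [finrank_span_singleton hv0] at h1
    obtain ⟨x, hx, hx0⟩ := Submodule.exists_mem_ne_zero_of_ne_bot
      (p := orth Q (Submodule.span F {v})) fun e => by rw [e, finrank_bot] at h1; omega
    refine hx0 (hB x fun y => ?_)
    obtain ⟨c, hc'⟩ : ∃ c, c = (B v v)⁻¹ * B v y := ⟨_, rfl⟩
    have hy' : y - c • v ∈ orth Q (Submodule.span F {v}) := mem_orth_span.2 fun s hs => by
      rw [Set.mem_singleton_iff.1 hs, b_sub_right, b_smul_right, hc', mul_comm _ (B v y), mul_assoc,
        inv_mul_cancel₀ hbv, mul_one, sub_self]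
    have h3 := mem_orth.1 (le_orth_of_singular hc hy') x hx
    rw [b_sub_right, b_smul_right, b_comm x v, mem_orth_span.1 hx v rfl, mul_zero, sub_zero] at h3
    exact h3
  have hvv' : B v v' = 0 := mem_orth_span.1 hv'o v rfl
  have hch : ringChar F ≠ 2 := fun e => h2 (by
    have := CharP.cast_eq_zero F (ringChar F)
    rwa [e, Nat.cast_ofNat] at this)
  obtain ⟨δ, hδ⟩ := FiniteField.exists_nonsquare hch
  have hδ0 : δ ≠ 0 := fun e => hδ (e ▸ IsSquare.zero)
  obtain ⟨x, y, hxy⟩ := FiniteField.exists_root_sum_quadratic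
    (f := Polynomial.C (Q v) * Polynomial.X ^ 2 + Polynomial.C (-(δ * Q v)))
    (g := Polynomial.C (Q v') * Polynomial.X ^ 2)
    (by compute_degree!) (by compute_degree!)
    (FiniteField.odd_card_of_char_ne_two hch)
  simp only [Polynomial.eval_add, Polynomial.eval_mul, Polynomial.eval_C, Polynomial.eval_pow,
    Polynomial.eval_X] at hxy
  obtain ⟨w, hw⟩ : ∃ w, w = x • v + y • v' := ⟨_, rfl⟩
  obtain ⟨w', hw'⟩ : ∃ w, w = (Q v' * y) • v - (Q v * x) • v' := ⟨_, rfl⟩
  have hQw : Q w = δ * Q v := by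
    rw [hw, q_add, q_smul, q_smul, b_smul_left, b_smul_right, hvv']
    linear_combination hxy
  have hQw' : Q w' = Q v * Q v' * (δ * Q v) := by
    rw [hw', q_sub, q_smul, q_smul, b_smul_left, b_smul_right, hvv', ← hQw, hw, q_add, q_smul,
      q_smul, b_smul_left, b_smul_right, hvv']
    ring
  have hnsq : ∀ c : F, c ≠ 0 → ¬ IsSquare (δ * (c * c)) := fun c hc h => by
    obtain ⟨d, hd⟩ := h
    exact hδ ⟨d / c, by field_simp; linear_combination hd⟩
  refine ⟨v, w, v', w', hv, by rw [hQw]; exact mul_ne_zero hδ0 hv, hv',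
    by rw [hQw']; exact mul_ne_zero (mul_ne_zero hv hv') (mul_ne_zero hδ0 hv), hvv', ?_, ?_, ?_, ?_⟩
  · rw [hw, hw', b_sub_right, b_add_left, b_add_left, b_smul_left, b_smul_left, b_smul_left,
      b_smul_left, b_smul_right, b_smul_right, b_smul_right, b_smul_right, b_self, b_self, hvv',
      b_comm v' v, hvv']
    ring
  · rw [hQw, show Q v * (δ * Q v) = δ * (Q v * Q v) by ring]; exact hnsq _ hv
  · rw [hQw', show Q v' * (Q v * Q v' * (δ * Q v)) = δ * ((Q v * Q v') * (Q v * Q v')) by ring]
    exact hnsq _ (mul_ne_zero hv hv')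
  · have hD : x * (Q v * x) + y * (Q v' * y) ≠ 0 := by
      rw [show x * (Q v * x) + y * (Q v' * y) = δ * Q v by linear_combination hxy]
      exact mul_ne_zero hδ0 hv
    obtain ⟨D, hDe⟩ : ∃ D, D = x * (Q v * x) + y * (Q v' * y) := ⟨_, rfl⟩
    rw [← hDe] at hD
    refine le_antisymm (Submodule.span_le.2 ?_) (Submodule.span_le.2 ?_)
    · rintro z (rfl | hz)
      · rw [SetLike.mem_coe, ← Submodule.smul_mem_iff _ hD,
          show D • z = (Q z * x) • w + y • w' by rw [hw, hw', hDe]; module]
        exact add_mem (Submodule.smul_mem _ _ (Submodule.subset_span (Set.mem_insert _ _)))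
          (Submodule.smul_mem _ _ (Submodule.subset_span (Set.mem_insert_of_mem _ rfl)))
      · rw [Set.mem_singleton_iff.1 hz, SetLike.mem_coe, ← Submodule.smul_mem_iff _ hD,
          show D • v' = (Q v' * y) • w + (-x) • w' by rw [hw, hw', hDe]; module]
        exact add_mem (Submodule.smul_mem _ _ (Submodule.subset_span (Set.mem_insert _ _)))
          (Submodule.smul_mem _ _ (Submodule.subset_span (Set.mem_insert_of_mem _ rfl)))
    · rintro z (rfl | hz)
      · rw [SetLike.mem_coe, hw]
        exact add_mem (Submodule.smul_mem _ _ (Submodule.subset_span (Set.mem_insert _ _)))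
          (Submodule.smul_mem _ _ (Submodule.subset_span (Set.mem_insert_of_mem _ rfl)))
      · rw [Set.mem_singleton_iff.1 hz, SetLike.mem_coe, hw']
        exact sub_mem (Submodule.smul_mem _ _ (Submodule.subset_span (Set.mem_insert _ _)))
          (Submodule.smul_mem _ _ (Submodule.subset_span (Set.mem_insert_of_mem _ rfl)))

/-- The class of a reflection modulo `Ω` depends on the square class of the norm. -/
theorem mk_refl_of_square [Finite F] (hB : Nondeg Q) (h2 : (2 : F) ≠ 0) {v w : ι → F} {r s : Grp Q}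
    (hr : IsRefl v r) (hs : IsRefl w s) (h : IsSquare (Q v * Q w)) :
    (r : Grp Q ⧸ Cfsg.Omega F ⇑Q) = (s : Grp Q ⧸ Cfsg.Omega F ⇑Q) := by
  obtain ⟨d, hd⟩ := h
  have hd0 : d ≠ 0 := fun e => mul_ne_zero hr.1 hs.1 (by rw [hd, e, mul_zero])
  have hc0 : d / Q v ≠ 0 := div_ne_zero hd0 hr.1
  have hq : Q ((d / Q v) • v) = Q w := by
    have := hr.1
    rw [q_smul]
    field_simp
    linear_combination -hd
  have hv' := refl_smul hr hc0
  obtain ⟨u, hu⟩ : ∃ u, u = (d / Q v) • v := ⟨_, rfl⟩
  rw [← hu] at hq hv'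
  by_cases hsub : Q (u - w) = 0
  · have hadd : Q (u + w) ≠ 0 := by
      rw [q_sub] at hsub
      rw [q_add, show Q u + Q w + B u w = 2 * (2 * Q w) by linear_combination -hsub + 2 * hq]
      exact mul_ne_zero h2 (mul_ne_zero h2 hs.1)
    obtain ⟨g, hg⟩ := exists_refl hB hadd
    refine mk_refl_eq hv' hs (g := g) (Or.inr ?_)
    rw [hg.2, show B (u + w) u = Q (u + w) by
      rw [b_add_left, b_self, q_add, b_comm w u]; linear_combination hq,
      inv_mul_cancel₀ hadd, one_smul]
    abel
  · obtain ⟨g, hg⟩ := exists_refl hB hsub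
    refine mk_refl_eq hv' hs (g := g) (Or.inl ?_)
    rw [hg.2, show B (u - w) u = Q (u - w) by
      rw [b_sub_left, b_self, q_sub, b_comm w u]; linear_combination hq,
      inv_mul_cancel₀ hsub, one_smul, sub_sub_cancel]

theorem spinor_refl_eq [Finite F] (hB : Nondeg Q) (h2 : (2 : F) ≠ 0) (a : F) {v w : ι → F}
    {r s : Grp Q} (hr : IsRefl v r) (hs : IsRefl w s) (h : IsSquare (Q v * Q w)) :
    spinor Q a r = spinor Q a s := by
  have h1 : r⁻¹ * s ∈ Cfsg.Omega F ⇑Q := QuotientGroup.eq.1 (mk_refl_of_square hB h2 hr hs h)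
  have h3 : spinor Q a (r⁻¹ * s) = 1 := Abelianization.commutator_subset_ker _ h1
  rw [map_mul, map_inv, Int.units_inv_eq_self, mul_eq_one_iff_eq_inv, Int.units_inv_eq_self] at h3
  exact h3

/-- The joint invariant. -/
noncomputable def psi [Finite F] (hB : Nondeg Q) (a : F) : Grp Q →* ℤˣ × ℤˣ :=
  (dickson hB).prod (spinor Q a)

/-- `Ω` in odd characteristic. -/
theorem omega_eq_ker_psi [Finite F] (hB : Nondeg Q) (h2 : (2 : F) ≠ 0)
    (hn : 2 ≤ Module.finrank F (ι → F)) {a : F} (ha : a ≠ 0) :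
    Cfsg.Omega F ⇑Q = (psi hB a).ker ∧ (psi hB a).range = ⊤ ∧
      ∀ (v w : ι → F) (r s : Grp Q), IsRefl v r → IsRefl w s →
        (spinor Q a r = spinor Q a s ↔ IsSquare (Q v * Q w)) := by
  have hch : Nat.card F ≠ 2 := fun e => h2 (by
    cases nonempty_fintype F
    rw [Nat.card_eq_fintype_card] at e
    have := FiniteField.cast_card_eq_zero F
    rwa [e, Nat.cast_ofNat] at this)
  obtain ⟨v, w, v', w', hv, hw, hv', hw', hvv', hww', hns, hns', hspan⟩ := exists_pair hB h2 hn
  obtain ⟨x, hx⟩ := exists_refl hB hv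
  obtain ⟨y, hy⟩ := exists_refl hB hw
  have hne := spinor_ne hB h2 ha hx hy hvv' hww' hv' hw' hns' hspan
  have hcls : ∀ u : ι → F, Q u ≠ 0 → IsSquare (Q v * Q u) ∨ IsSquare (Q w * Q u) := by
    intro u hu
    rw [isSquare_mul_iff hv] at hns ⊢
    rw [isSquare_mul_iff hw]
    simp only [hw, hu, false_or] at hns ⊢
    tauto
  refine ⟨le_antisymm (Abelianization.commutator_subset_ker _) fun g hg => ?_, ?_, ?_⟩
  · have hg' : g ∈ Refl Q := by rw [refl_eq_top hB fun _ => hch]; trivial
    have key : ∃ i j : ℕ, (g : Grp Q ⧸ Cfsg.Omega F ⇑Q) =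
        (x : Grp Q ⧸ Cfsg.Omega F ⇑Q) ^ i * (y : Grp Q ⧸ Cfsg.Omega F ⇑Q) ^ j ∧
        psi hB a g = psi hB a x ^ i * psi hB a y ^ j := by
      clear hg
      induction hg' using Subgroup.closure_induction with
      | mem s hs =>
          obtain ⟨u, hs⟩ := hs
          rcases hcls u hs.1 with h | h
          · refine ⟨1, 0, ?_, ?_⟩
            · rw [pow_one, pow_zero, mul_one, mk_refl_of_square hB h2 hx hs h]
            · rw [pow_one, pow_zero, mul_one]
              exact Prod.ext ((dickson_refl hB hs).trans (dickson_refl hB hx).symm)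
                (spinor_refl_eq hB h2 a hx hs h).symm
          · refine ⟨0, 1, ?_, ?_⟩
            · rw [pow_one, pow_zero, one_mul, mk_refl_of_square hB h2 hy hs h]
            · rw [pow_one, pow_zero, one_mul]
              exact Prod.ext ((dickson_refl hB hs).trans (dickson_refl hB hy).symm)
                (spinor_refl_eq hB h2 a hy hs h).symm
      | one => exact ⟨0, 0, by simp, by simp⟩
      | mul p q _ _ hp hq =>
          obtain ⟨i, j, hi, hi'⟩ := hp
          obtain ⟨k, l, hk, hk'⟩ := hq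
          refine ⟨i + k, j + l, ?_, ?_⟩
          · have hc : Commute (x : Grp Q ⧸ Cfsg.Omega F ⇑Q) (y : Grp Q ⧸ Cfsg.Omega F ⇑Q) :=
              mk_mul_comm x y
            rw [QuotientGroup.mk_mul, hi, hk, pow_add, pow_add, mul_assoc, mul_assoc]
            congr 1
            rw [← mul_assoc, ← mul_assoc, (hc.pow_pow k j).eq]
          · rw [map_mul, hi', hk', pow_add, pow_add]
            exact mul_mul_mul_comm _ _ _ _
      | inv p _ hp =>
          obtain ⟨i, j, hi, hi'⟩ := hp
          refine ⟨i, j, ?_, ?_⟩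
          · have hc : Commute (x : Grp Q ⧸ Cfsg.Omega F ⇑Q) (y : Grp Q ⧸ Cfsg.Omega F ⇑Q) :=
              mk_mul_comm x y
            rw [QuotientGroup.mk_inv, hi, _root_.mul_inv_rev, ← inv_pow, ← inv_pow,
              ← QuotientGroup.mk_inv, ← QuotientGroup.mk_inv, refl_inv hx, refl_inv hy,
              (hc.pow_pow i j).eq]
          · rw [map_inv, hi']
            exact Prod.ext (Int.units_inv_eq_self _) (Int.units_inv_eq_self _)
    obtain ⟨i, j, hi, hi'⟩ := key
    rw [MonoidHom.mem_ker.1 hg] at hi'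
    have h1 := congrArg Prod.fst hi'
    have h3 := congrArg Prod.snd hi'
    simp only [psi, MonoidHom.prod_apply, Prod.fst_one, Prod.snd_one, Prod.fst_mul, Prod.snd_mul,
      Prod.pow_fst, Prod.pow_snd, dickson_refl hB hx, dickson_refl hB hy] at h1 h3
    have hsy : spinor Q a y = -spinor Q a x := by
      rcases Int.units_eq_one_or (spinor Q a x) with h | h <;>
        rcases Int.units_eq_one_or (spinor Q a y) with h' | h' <;> simp [h, h'] at hne ⊢
    rw [← pow_add] at h1
    have hij : Even (i + j) := by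
      by_contra h
      rw [(Nat.not_even_iff_odd.1 h).neg_one_pow] at h1
      exact absurd h1 (by decide)
    rw [hsy, neg_pow, mul_left_comm, ← pow_add] at h3
    have hsq : spinor Q a x ^ (i + j) = 1 := by
      obtain ⟨k, hk⟩ := hij
      rw [hk, ← two_mul, pow_mul, Int.units_sq, one_pow]
    rw [hsq, mul_one] at h3
    obtain ⟨l, hl⟩ : Even j := by
      by_contra h
      rw [(Nat.not_even_iff_odd.1 h).neg_one_pow] at h3
      exact absurd h3 (by decide)
    obtain ⟨k, hk⟩ : Even i := by
      rcases hij with ⟨k, hk⟩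
      exact ⟨k - l, by omega⟩
    rw [← QuotientGroup.eq_one_iff, hi, hk, hl, ← two_mul, ← two_mul, pow_mul, pow_mul, sq, sq,
      ← QuotientGroup.mk_mul, ← QuotientGroup.mk_mul, refl_mul_self hx, refl_mul_self hy,
      QuotientGroup.mk_one, one_pow, one_pow, mul_one]
  · refine eq_top_iff.2 fun z _ => ?_
    have e1 : psi hB a x = (-1, spinor Q a x) := Prod.ext (dickson_refl hB hx) rfl
    have e2 : psi hB a y = (-1, spinor Q a y) := Prod.ext (dickson_refl hB hy) rfl
    have hz : z = 1 ∨ z = psi hB a x ∨ z = psi hB a y ∨ z = psi hB a (x * y) := by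
      rw [map_mul, e1, e2]
      obtain ⟨z1, z2⟩ := z
      rcases Int.units_eq_one_or (spinor Q a x) with h | h <;>
        rcases Int.units_eq_one_or (spinor Q a y) with h' | h' <;>
        rcases Int.units_eq_one_or z1 with rfl | rfl <;>
        rcases Int.units_eq_one_or z2 with rfl | rfl <;> simp [h, h'] at hne ⊢
    rcases hz with rfl | rfl | rfl | rfl
    · exact one_mem _
    all_goals exact ⟨_, rfl⟩
  · intro p q r s hr hs
    refine ⟨fun h => ?_, spinor_refl_eq hB h2 a hr hs⟩
    by_contra hpq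
    rcases hcls p hr.1 with h1 | h1 <;> rcases hcls q hs.1 with h3 | h3
    · obtain ⟨d, hd⟩ := h1
      obtain ⟨e, he⟩ := h3
      exact hpq ⟨d * e / Q v, by field_simp; linear_combination Q q * Q v * hd + d * d * he⟩
    · exact hne ((spinor_refl_eq hB h2 a hx hr h1).trans
        (h.trans (spinor_refl_eq hB h2 a hy hs h3).symm))
    · exact hne ((spinor_refl_eq hB h2 a hx hs h3).trans
        (h.symm.trans (spinor_refl_eq hB h2 a hy hr h1).symm))
    · obtain ⟨d, hd⟩ := h1
      obtain ⟨e, he⟩ := h3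
      exact hpq ⟨d * e / Q w, by field_simp; linear_combination Q q * Q w * hd + d * d * he⟩

end CfsgLib.Orth
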