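/-
Isometry groups of orthogonal sums.
-/
import Cfsg.Agent.Lib.Classical.OrthSpinor

set_option autoImplicit false

namespace CfsgLib.Orth

open Matrix

variable {F : Type*} [Field F] {ι : Type} [Fintype ι] [DecidableEq ι]
variable {κ : Type} [Fintype κ] [DecidableEq κ]

/-- The orthogonal sum of two forms. -/
noncomputable def osum (Q₁ : QuadraticForm F (ι → F)) (Q₂ : QuadraticForm F (κ → F)) :
    QuadraticForm F (ι ⊕ κ → F) :=
  Q₁.comp (LinearMap.funLeft F F Sum.inl) + Q₂.comp (LinearMap.funLeft F F Sum.inr)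

omit [Fintype ι] [DecidableEq ι] [Fintype κ] [DecidableEq κ] in
theorem osum_apply (Q₁ : QuadraticForm F (ι → F)) (Q₂ : QuadraticForm F (κ → F)) (x : ι ⊕ κ → F) :
    osum Q₁ Q₂ x = Q₁ (x ∘ Sum.inl) + Q₂ (x ∘ Sum.inr) := rfl

omit [Fintype ι] [DecidableEq ι] [Fintype κ] [DecidableEq κ] in
theorem polar_osum (Q₁ : QuadraticForm F (ι → F)) (Q₂ : QuadraticForm F (κ → F))
    (x y : ι ⊕ κ → F) :
    QuadraticMap.polar ⇑(osum Q₁ Q₂) x y = QuadraticMap.polar ⇑Q₁ (x ∘ Sum.inl) (y ∘ Sum.inl) +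
      QuadraticMap.polar ⇑Q₂ (x ∘ Sum.inr) (y ∘ Sum.inr) := by
  simp only [QuadraticMap.polar, osum_apply]
  have e1 : (x + y) ∘ (Sum.inl : ι → ι ⊕ κ) = x ∘ Sum.inl + y ∘ Sum.inl := rfl
  have e2 : (x + y) ∘ (Sum.inr : κ → ι ⊕ κ) = x ∘ Sum.inr + y ∘ Sum.inr := rfl
  rw [e1, e2]
  ring

omit [Fintype ι] [DecidableEq ι] [Fintype κ] [DecidableEq κ] in
theorem osum_nondeg {Q₁ : QuadraticForm F (ι → F)} {Q₂ : QuadraticForm F (κ → F)}
    (h₁ : Nondeg Q₁) (h₂ : Nondeg Q₂) : Nondeg (osum Q₁ Q₂) := by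
  intro x hx
  have a : x ∘ Sum.inl = 0 := h₁ _ fun y => by
    have h := hx (Sum.elim y 0)
    rw [polar_osum, Sum.elim_comp_inl, Sum.elim_comp_inr, b_zero_right, add_zero] at h
    exact h
  have b : x ∘ Sum.inr = 0 := h₂ _ fun y => by
    have h := hx (Sum.elim 0 y)
    rw [polar_osum, Sum.elim_comp_inl, Sum.elim_comp_inr, b_zero_right, zero_add] at h
    exact h
  funext i
  rcases i with i | i
  · exact congrFun a i
  · exact congrFun b i

/-- Block-diagonal invertible matrices. -/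
def blockUnit (g : GL ι F) (h : GL κ F) : GL (ι ⊕ κ) F :=
  ⟨fromBlocks (g : Matrix ι ι F) 0 0 (h : Matrix κ κ F),
    fromBlocks ((g⁻¹ : GL ι F) : Matrix ι ι F) 0 0 ((h⁻¹ : GL κ F) : Matrix κ κ F),
    by simp [fromBlocks_multiply, fromBlocks_one], by simp [fromBlocks_multiply, fromBlocks_one]⟩

variable (Q₁ : QuadraticForm F (ι → F)) (Q₂ : QuadraticForm F (κ → F))

/-- The block embedding. -/
def blockHom : Grp Q₁ × Grp Q₂ →* Grp (osum Q₁ Q₂) where
  toFun p := ⟨blockUnit (p.1 : GL ι F) (p.2 : GL κ F), fun u _ => by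
    show osum Q₁ Q₂ (fromBlocks _ 0 0 _ *ᵥ u) = osum Q₁ Q₂ u
    rw [fromBlocks_mulVec, zero_mulVec, zero_mulVec, add_zero, zero_add, osum_apply, osum_apply,
      Sum.elim_comp_inl, Sum.elim_comp_inr]
    exact congrArg₂ (· + ·) (p.1.2 _ 0) (p.2.2 _ 0)⟩
  map_one' := Subtype.ext (Units.ext (by
    show fromBlocks (1 : Matrix ι ι F) 0 0 (1 : Matrix κ κ F) = 1
    exact fromBlocks_one))
  map_mul' p q := Subtype.ext (Units.ext (by
    show fromBlocks _ 0 0 _ = fromBlocks _ 0 0 _ * fromBlocks _ 0 0 _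
    rw [fromBlocks_multiply]
    simp))

theorem blockHom_val (g : Grp Q₁) (h : Grp Q₂) :
    ((blockHom Q₁ Q₂ (g, h) : GL (ι ⊕ κ) F) : Matrix (ι ⊕ κ) (ι ⊕ κ) F) =
      fromBlocks ((g : GL ι F) : Matrix ι ι F) 0 0 ((h : GL κ F) : Matrix κ κ F) := rfl

theorem ap_blockHom (g : Grp Q₁) (x : ι ⊕ κ → F) :
    ap (blockHom Q₁ Q₂ (g, 1)) x = Sum.elim (ap g (x ∘ Sum.inl)) (x ∘ Sum.inr) := by
  show fromBlocks _ 0 0 (1 : Matrix κ κ F) *ᵥ x = _
  rw [fromBlocks_mulVec, zero_mulVec, zero_mulVec, add_zero, zero_add, one_mulVec]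
  rfl

theorem blockHom_mem_omega {g : Grp Q₁} {h : Grp Q₂} (hg : g ∈ Cfsg.Omega F ⇑Q₁)
    (hh : h ∈ Cfsg.Omega F ⇑Q₂) : blockHom Q₁ Q₂ (g, h) ∈ Cfsg.Omega F ⇑(osum Q₁ Q₂) := by
  have key : ∀ {G H : Type _} [Group G] [Group H] (f : G →* H) (x : G),
      x ∈ commutator G → f x ∈ commutator H := by
    intro G H _ _ f x hx
    rw [commutator_def] at hx ⊢
    have := Subgroup.mem_map_of_mem f hx
    rw [Subgroup.map_commutator] at this
    exact Subgroup.commutator_mono le_top le_top this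
  have h1 := key ((blockHom Q₁ Q₂).comp (MonoidHom.inl (Grp Q₁) (Grp Q₂))) g hg
  have h2 := key ((blockHom Q₁ Q₂).comp (MonoidHom.inr (Grp Q₁) (Grp Q₂))) h hh
  have e : (g, h) = (g, (1 : Grp Q₂)) * ((1 : Grp Q₁), h) := by simp
  rw [e, map_mul]
  exact mul_mem h1 h2

variable {Q₁} {Q₂}

theorem isRefl_block {v : ι → F} {r : Grp Q₁} (hr : IsRefl v r) :
    IsRefl (Sum.elim v (0 : κ → F)) (blockHom Q₁ Q₂ (r, 1)) := by
  have e : osum Q₁ Q₂ (Sum.elim v (0 : κ → F)) = Q₁ v := by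
    rw [osum_apply, Sum.elim_comp_inl, Sum.elim_comp_inr, QuadraticMap.map_zero, add_zero]
  refine ⟨by rw [e]; exact hr.1, fun x => ?_⟩
  rw [ap_blockHom, hr.2, e, polar_osum, Sum.elim_comp_inl, Sum.elim_comp_inr, b_zero_left,
    add_zero]
  funext i
  rcases i with i | i <;> simp

/-- `Ω` is the trace of `Ω` of the sum on a summand. -/
theorem mem_omega_of_block [Finite F] (h₁ : Nondeg Q₁) (h₂ : Nondeg Q₂)
    (hex : Module.finrank F (ι → F) = 4 → Nat.card F ≠ 2) {g : Grp Q₁}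
    (hg : blockHom Q₁ Q₂ (g, 1) ∈ Cfsg.Omega F ⇑(osum Q₁ Q₂)) : g ∈ Cfsg.Omega F ⇑Q₁ := by
  have hB := osum_nondeg h₁ h₂
  let j : Grp Q₁ →* Grp (osum Q₁ Q₂) := (blockHom Q₁ Q₂).comp (MonoidHom.inl _ _)
  have hj : ∀ {v : ι → F} {r : Grp Q₁}, IsRefl v r → IsRefl (Sum.elim v (0 : κ → F)) (j r) :=
    fun hr => isRefl_block hr
  have hdick : ∀ x, dickson hB (j x) = 1 → dickson h₁ x = 1 := by
    have htop : ∀ x, x ∈ Refl Q₁ := fun x => by rw [refl_eq_top h₁ hex]; trivial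
    intro x hx
    have h : dickson hB (j x) = dickson h₁ x := by
      have hx' := htop x
      clear hx
      induction hx' using Subgroup.closure_induction with
      | mem r hr =>
          obtain ⟨v, hr⟩ := hr
          rw [dickson_refl hB (hj hr), dickson_refl h₁ hr]
      | one => simp only [map_one]
      | mul a b _ _ ha hb => rw [map_mul, map_mul, map_mul, ha, hb]
      | inv a _ ha => rw [map_inv, map_inv, map_inv, ha]
    rw [← h, hx]
  have hd : dickson h₁ g = 1 :=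
    hdick g (MonoidHom.mem_ker.1 (Abelianization.commutator_subset_ker (dickson hB) hg))
  by_cases h2 : (2 : F) = 0
  · by_cases hn : 1 ≤ Module.finrank F (ι → F)
    · rw [omega_eq_ker_dickson h₁ h2 hn hex]; exact hd
    · have : g = 1 := ext_ap fun x => by
        have : Subsingleton (ι → F) :=
          Module.finrank_zero_iff.1 (show Module.finrank F (ι → F) = 0 by omega)
        exact Subsingleton.elim _ _
      rw [this]; exact one_mem _
  rcases le_or_gt 2 (Module.finrank F (ι → F)) with hn | hn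
  swap
  · -- at most one reflection exists
    have key : ∀ x : Grp Q₁, x = 1 ∨ dickson h₁ x = -1 := by
      intro x
      rcases le_or_gt (Module.finrank F (fixSpace x)) 0 with hf | hf
      · rcases Nat.eq_zero_or_pos (Module.finrank F (ι → F)) with h0 | h0
        · left
          have : Subsingleton (ι → F) := Module.finrank_zero_iff.1 h0
          exact ext_ap fun y => Subsingleton.elim _ _
        · right
          show (-1 : ℤˣ) ^ _ = -1
          rw [show Module.finrank F (ι → F) = 1 by omega, Nat.le_zero.1 hf]; rfl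
      · left
        have htop : fixSpace x = ⊤ := Submodule.eq_top_of_finrank_eq (by
          have := Submodule.finrank_le (fixSpace x); omega)
        exact ext_ap fun y => by
          rw [ap_one]; exact mem_fixSpace.1 (htop ▸ Submodule.mem_top)
    rcases key g with h | h
    · rw [h]; exact one_mem _
    · rw [hd] at h; exact absurd h (by decide)
  have hn' : 2 ≤ Module.finrank F (ι ⊕ κ → F) := by
    rw [Module.finrank_pi] at hn ⊢
    rw [Fintype.card_sum]
    omega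
  obtain ⟨e1, r1, -⟩ := omega_eq_ker_psi h₁ h2 hn (one_ne_zero (α := F))
  obtain ⟨e2, -, c2⟩ := omega_eq_ker_psi hB h2 hn' (one_ne_zero (α := F))
  let φ := (psi hB (1 : F)).comp j
  have hle : Cfsg.Omega F ⇑Q₁ ≤ φ.ker := Abelianization.commutator_subset_ker φ
  have hrange : φ.range = ⊤ := by
    obtain ⟨v, w, -, -, hv, hw, -, -, -, -, hns, -, -⟩ := exists_pair h₁ h2 hn
    obtain ⟨r, hr⟩ := exists_refl h₁ hv
    obtain ⟨s, hs⟩ := exists_refl h₁ hw
    have hne : spinor (osum Q₁ Q₂) 1 (j r) ≠ spinor (osum Q₁ Q₂) 1 (j s) := fun e => hns (by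
      have h := (c2 _ _ _ _ (hj hr) (hj hs)).1 e
      simpa only [osum_apply, Sum.elim_comp_inl, Sum.elim_comp_inr, QuadraticMap.map_zero,
        add_zero] using h)
    refine eq_top_iff.2 fun z _ => ?_
    have e1' : φ r = (-1, spinor (osum Q₁ Q₂) 1 (j r)) := Prod.ext (dickson_refl hB (hj hr)) rfl
    have e2' : φ s = (-1, spinor (osum Q₁ Q₂) 1 (j s)) := Prod.ext (dickson_refl hB (hj hs)) rfl
    have hz : z = 1 ∨ z = φ r ∨ z = φ s ∨ z = φ (r * s) := by
      rw [map_mul, e1', e2']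
      obtain ⟨z1, z2⟩ := z
      rcases Int.units_eq_one_or (spinor (osum Q₁ Q₂) 1 (j r)) with h | h <;>
        rcases Int.units_eq_one_or (spinor (osum Q₁ Q₂) 1 (j s)) with h' | h' <;>
        rcases Int.units_eq_one_or z1 with rfl | rfl <;>
        rcases Int.units_eq_one_or z2 with rfl | rfl <;> simp [h, h'] at hne ⊢
    rcases hz with rfl | rfl | rfl | rfl
    · exact one_mem _
    all_goals exact ⟨_, rfl⟩
  have hidx : φ.ker.index = (Cfsg.Omega F ⇑Q₁).index := by
    rw [Subgroup.index_ker, hrange, e1, Subgroup.index_ker, r1]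
  have : g ∈ φ.ker := MonoidHom.mem_ker.2 (MonoidHom.mem_ker.1 (e2 ▸ hg :))
  have heq := Subgroup.relIndex_mul_index hle
  rw [hidx] at heq
  have h0 : (Cfsg.Omega F ⇑Q₁).index ≠ 0 := by
    rw [e1, Subgroup.index_ker, r1, Subgroup.card_top, Nat.card_eq_fintype_card]
    exact Fintype.card_ne_zero
  have h1' : (Cfsg.Omega F ⇑Q₁).relIndex φ.ker = 1 :=
    Nat.eq_of_mul_eq_mul_right (Nat.pos_of_ne_zero h0) (heq.trans (one_mul _).symm)
  exact Subgroup.relIndex_eq_one.1 h1' this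

end CfsgLib.Orth
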