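/-
Zero counts of a quadratic function plus hyperbolic planes.
-/
import Cfsg.Agent.Lib.OddOrtho.Count

set_option autoImplicit false

namespace CfsgLib.ZeroCount

variable {F : Type*} [Field F] [Fintype F]

/-- Splitting off the first hyperbolic pair. -/
def peelPlus (m : ℕ) (F : Type*) :
    (Fin (m + 1) ⊕ Fin (m + 1) → F) ≃ (Fin m ⊕ Fin m → F) × (F × F) where
  toFun v := (Sum.elim (fun i => v (.inl i.succ)) fun i => v (.inr i.succ), (v (.inl 0), v (.inr 0)))
  invFun w := Sum.elim (Fin.cons w.2.1 fun i => w.1 (.inl i)) (Fin.cons w.2.2 fun i => w.1 (.inr i))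
  left_inv v := by
    funext i
    rcases i with i | i <;> refine Fin.cases ?_ (fun j => ?_) i <;> simp
  right_inv w := by
    refine Prod.ext (funext fun i => ?_) (Prod.ext rfl rfl)
    rcases i with i | i <;> simp

theorem card_zero {β : Type*} [Fintype β] (P : β → F) (m : ℕ) :
    (Fintype.card F : ℤ) *
        Nat.card {w : (Fin m ⊕ Fin m → F) × β // Cfsg.quadFormPlus m F w.1 + P w.2 = 0} =
      Fintype.card β * ((Fintype.card F : ℤ) ^ (2 * m) - (Fintype.card F : ℤ) ^ m) +
        (Fintype.card F : ℤ) ^ (m + 1) * Nat.card {b : β // P b = 0} := by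
  induction m with
  | zero =>
    rw [Nat.card_congr (Equiv.subtypeEquiv
      (p := fun w : (Fin 0 ⊕ Fin 0 → F) × β => Cfsg.quadFormPlus 0 F w.1 + P w.2 = 0)
      (Equiv.uniqueProd β (Fin 0 ⊕ Fin 0 → F)) (q := fun b => P b = 0) fun w => by
        simp [Cfsg.quadFormPlus])]
    simp
  | succ m ih =>
    have e : {w : (Fin (m + 1) ⊕ Fin (m + 1) → F) × β // Cfsg.quadFormPlus (m + 1) F w.1 + P w.2 = 0} ≃
        {w : ((Fin m ⊕ Fin m → F) × β) × (F × F) //
          (Cfsg.quadFormPlus m F w.1.1 + P w.1.2) + w.2.1 * w.2.2 = 0} :=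
      Equiv.subtypeEquiv
        { toFun := fun w => (((peelPlus m F w.1).1, w.2), (peelPlus m F w.1).2)
          invFun := fun w => ((peelPlus m F).symm (w.1.1, w.2), w.1.2)
          left_inv := fun w => by simp
          right_inv := fun w => by simp } fun w => by
        simp [Cfsg.quadFormPlus, peelPlus, Fin.sum_univ_succ]
        constructor <;> intro h <;> linear_combination h
    rw [Nat.card_congr e, CfsgLib.OddOrtho.card_add_mul
      (fun w : (Fin m ⊕ Fin m → F) × β => Cfsg.quadFormPlus m F w.1 + P w.2) 0, mul_add, ih,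
      Fintype.card_prod, Fintype.card_fun, Fintype.card_sum, Fintype.card_fin]
    push_cast
    ring

theorem card_sq_zero : Nat.card {t : F // t ^ 2 = 0} = 1 :=
  Nat.card_eq_one_iff_unique.mpr
    ⟨⟨fun s t => Subtype.ext (by rw [sq_eq_zero_iff.mp s.2, sq_eq_zero_iff.mp t.2])⟩,
      ⟨⟨0, by simp⟩⟩⟩

end CfsgLib.ZeroCount
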