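/-
Orders of finite orthogonal groups.
-/
import Cfsg.Agent.Lib.Classical.OrthOmega
import Cfsg.Agent.Lib.Classical.OrthForms
import Cfsg.Agent.Lib.Classical.OrthSum
import Cfsg.Agent.Lib.Classical.ZeroCount

set_option autoImplicit false

namespace CfsgLib.Orth

open Matrix

variable {F : Type*} [Field F] {ι : Type} [Fintype ι] [DecidableEq ι]
variable {Q : QuadraticForm F (ι → F)}

local notation "B" => QuadraticMap.polar (DFunLike.coe Q)

/-- Singular vectors form one orbit of the full isometry group. -/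
theorem exists_iso_singular (hB : Nondeg Q) {u w : ι → F} (hu : Q u = 0) (hw : Q w = 0)
    (hu0 : u ≠ 0) (hw0 : w ≠ 0) : ∃ g : Grp Q, ap g u = w := by
  have key : ∀ a b : ι → F, Q a = 0 → Q b = 0 → B a b ≠ 0 → ∃ g : Grp Q, ap g a = b := by
    intro a b ha hb hab
    have hq : Q (a - b) ≠ 0 := by rw [q_sub, ha, hb, zero_add, zero_sub, neg_ne_zero]; exact hab
    obtain ⟨r, hr⟩ := exists_refl hB hq
    refine ⟨r, ?_⟩
    rw [hr.2, show B (a - b) a = Q (a - b) by
      rw [b_sub_left, b_self_zero ha, q_sub, ha, hb, b_comm b a]; ring,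
      inv_mul_cancel₀ hq, one_smul, sub_sub_cancel]
  by_cases huw : B u w = 0
  swap
  · exact key u w hu hw huw
  by_cases hi : u ∈ Submodule.span F {w - u}
  · obtain ⟨f, hf, huf⟩ := exists_partner hB hu hu0
    obtain ⟨c, hc⟩ := Submodule.mem_span_singleton.1 hi
    obtain ⟨g₁, h₁⟩ := key u f hu hf (by rw [huf]; exact one_ne_zero)
    obtain ⟨g₂, h₂⟩ := key f w hf hw (by
      intro h
      have h' : B (c • (w - u)) f = 1 := by rw [hc, huf]
      rw [b_smul_left, b_sub_left, huf, b_comm w f, h] at h'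
      have hc1 : c = -1 := by linear_combination -h'
      rw [hc1, neg_one_smul, neg_sub, sub_eq_self] at hc
      exact hw0 hc)
    exact ⟨g₂ * g₁, by rw [ap_mul, h₁, h₂]⟩
  · obtain ⟨e, -, he⟩ := exists_move_orth hB hu hw huw hi
    exact ⟨e, he⟩

theorem exists_iso_pair (hB : Nondeg Q) {u f u' f' : ι → F} (hu : Q u = 0) (hf : Q f = 0)
    (h : B u f = 1) (hu' : Q u' = 0) (hf' : Q f' = 0) (h' : B u' f' = 1) :
    ∃ g : Grp Q, ap g u = u' ∧ ap g f = f' := by
  obtain ⟨g, hg⟩ := exists_iso_singular hB hu hu'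
    (ne_zero_of_b (by rw [h]; exact one_ne_zero)) (ne_zero_of_b (by rw [h']; exact one_ne_zero))
  have hb : B u' (ap g f) = 1 := by rw [← hg, ap_b, h]
  obtain ⟨e, he, h2⟩ := exists_move_partner hB hu' (f := ap g f) (by rw [ap_q, hf]) hf'
    (by rw [hb, h']) hb
  exact ⟨e * g, by rw [ap_mul, hg, siegel_fix he (b_self_zero hu') he.2.1], by rw [ap_mul, h2]⟩

/-- Hyperbolic pairs. -/
abbrev Pairs (Q : QuadraticForm F (ι → F)) : Type _ :=
  {p : (ι → F) × (ι → F) // Q p.1 = 0 ∧ Q p.2 = 0 ∧ QuadraticMap.polar ⇑Q p.1 p.2 = 1}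

/-- The action on hyperbolic pairs. -/
@[reducible] def pairAction : MulAction (Grp Q) (Pairs Q) where
  smul g p := ⟨(ap g p.1.1, ap g p.1.2), by rw [ap_q]; exact p.2.1, by rw [ap_q]; exact p.2.2.1,
    by rw [ap_b]; exact p.2.2.2⟩
  one_smul p := Subtype.ext (Prod.ext (ap_one _) (ap_one _))
  mul_smul g h p := Subtype.ext (Prod.ext (ap_mul _ _ _) (ap_mul _ _ _))

/-- The pointwise stabiliser of two vectors. -/
def fix2 (Q : QuadraticForm F (ι → F)) (u f : ι → F) : Subgroup (Grp Q) where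
  carrier := {g | ap g u = u ∧ ap g f = f}
  mul_mem' := fun {a b} ⟨a₁, a₂⟩ ⟨b₁, b₂⟩ => ⟨by rw [ap_mul, b₁, a₁], by rw [ap_mul, b₂, a₂]⟩
  one_mem' := ⟨ap_one u, ap_one f⟩
  inv_mem' := fun {a} ⟨a₁, a₂⟩ =>
    ⟨by conv_lhs => rw [← a₁, ap_inv_ap],
      by conv_lhs => rw [← a₂, ap_inv_ap]⟩

theorem card_grp_eq_pairs_mul [Finite F] (hB : Nondeg Q) {u f : ι → F} (hu : Q u = 0)
    (hf : Q f = 0) (h : B u f = 1) :
    Nat.card (Grp Q) = Nat.card (Pairs Q) * Nat.card (fix2 Q u f) := by
  letI := pairAction (Q := Q)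
  let p : Pairs Q := ⟨(u, f), hu, hf, h⟩
  have horb : MulAction.orbit (Grp Q) p = Set.univ := Set.eq_univ_of_forall fun p' => by
    obtain ⟨g, h1, h2⟩ := exists_iso_pair hB hu hf h p'.2.1 p'.2.2.1 p'.2.2.2
    exact ⟨g, Subtype.ext (Prod.ext h1 h2)⟩
  have hstab : MulAction.stabilizer (Grp Q) p = fix2 Q u f := by
    ext g
    rw [MulAction.mem_stabilizer_iff]
    exact ⟨fun e => ⟨congrArg (fun p : Pairs Q => p.1.1) e, congrArg (fun p : Pairs Q => p.1.2) e⟩,
      fun e => Subtype.ext (Prod.ext e.1 e.2)⟩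
  rw [Subgroup.card_eq_card_quotient_mul_card_subgroup (MulAction.stabilizer (Grp Q) p), hstab,
    ← hstab, ← Nat.card_congr (MulAction.orbitEquivQuotientStabilizer (Grp Q) p), horb,
    Nat.card_congr (Equiv.Set.univ (Pairs Q))]

theorem card_pairs_orth [Finite F] (hB : Nondeg Q) :
    Nat.card (Pairs Q) * Nat.card F ^ 2 =
      Nat.card {u : ι → F // Q u = 0 ∧ u ≠ 0} * Nat.card F ^ Module.finrank F (ι → F) := by
  have hpart : ∀ u : {u : ι → F // Q u = 0 ∧ u ≠ 0},
      Nat.card {f : ι → F // Q f = 0 ∧ B (u : ι → F) f = 1} * Nat.card F ^ 2 =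
        Nat.card F ^ Module.finrank F (ι → F) := by
    intro u
    obtain ⟨u, hu, hu0⟩ := u
    obtain ⟨f, hf, huf⟩ := exists_partner hB hu hu0
    have hS : ∀ x, x ∈ orth Q (Submodule.span F ({u, f} : Set (ι → F))) ↔
        B u x = 0 ∧ B f x = 0 := fun x => by rw [mem_orth_span]; simp
    have e : {f' : ι → F // Q f' = 0 ∧ B u f' = 1} ≃
        orth Q (Submodule.span F ({u, f} : Set (ι → F))) :=
      { toFun := fun f' => ⟨(f' : ι → F) - f - B f (f' : ι → F) • u, (hS _).2 ⟨by
            rw [b_sub_right, b_sub_right, b_smul_right, f'.2.2, huf, b_self_zero hu]; ring, by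
            rw [b_sub_right, b_sub_right, b_smul_right, b_self_zero hf, b_comm f u, huf]; ring⟩⟩
        invFun := fun v => ⟨f + (v : ι → F) + (-Q (v : ι → F)) • u, by
            obtain ⟨h1, h2⟩ := (hS _).1 v.2
            rw [q_add, q_add, q_smul, hu, hf, b_smul_right, b_add_left, h2, b_comm f u, huf,
              b_comm (v : ι → F) u, h1]
            ring, by
            rw [b_add_right, b_add_right, b_smul_right, huf, ((hS _).1 v.2).1, b_self_zero hu]
            ring⟩
        left_inv := fun f' => Subtype.ext (by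
          have hq : Q ((f' : ι → F) - f - B f (f' : ι → F) • u) = -B f (f' : ι → F) := by
            rw [q_sub, q_sub, q_smul, f'.2.1, hu, hf, b_smul_right, b_sub_left, b_comm (f' : ι → F) f,
              b_comm (f' : ι → F) u, f'.2.2, b_comm f u, huf]
            ring
          show f + ((f' : ι → F) - f - B f (f' : ι → F) • u) + (-Q _) • u = f'
          rw [hq]; module)
        right_inv := fun v => Subtype.ext (by
          obtain ⟨h1, h2⟩ := (hS _).1 v.2
          show f + (v : ι → F) + (-Q (v : ι → F)) • u - f -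
            B f (f + (v : ι → F) + (-Q (v : ι → F)) • u) • u = v
          rw [b_add_right, b_add_right, b_smul_right, b_self_zero hf, h2, b_comm f u, huf]
          module) }
    have hlt : Submodule.span F {u} < Submodule.span F ({u, f} : Set (ι → F)) := by
      refine lt_of_le_of_ne (Submodule.span_mono (by simp)) fun e => ?_
      obtain ⟨c, hc⟩ := Submodule.mem_span_singleton.1
        (e ▸ Submodule.subset_span (Set.mem_insert_of_mem u rfl) : f ∈ Submodule.span F {u})
      rw [← hc, b_smul_right, b_self_zero hu, mul_zero] at huf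
      exact zero_ne_one huf
    have h1 := Submodule.finrank_lt_finrank_of_lt hlt
    rw [finrank_span_singleton hu0] at h1
    have h2 := finrank_orth_pair hB u f
    have h3 := finrank_orth hB (Submodule.span F ({u, f} : Set (ι → F)))
    rw [Nat.card_congr e, Module.natCard_eq_pow_finrank (K := F), ← pow_add]
    congr 1
    omega
  cases nonempty_fintype F
  have : Fintype {u : ι → F // Q u = 0 ∧ u ≠ 0} := Fintype.ofFinite _
  have e : Pairs Q ≃ Σ u : {u : ι → F // Q u = 0 ∧ u ≠ 0},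
      {f : ι → F // Q f = 0 ∧ B (u : ι → F) f = 1} :=
    { toFun := fun p => ⟨⟨p.1.1, p.2.1, ne_zero_of_b (Q := Q) (y := p.1.2)
        (by rw [p.2.2.2]; exact one_ne_zero)⟩, ⟨p.1.2, p.2.2.1, p.2.2.2⟩⟩
      invFun := fun s => ⟨(s.1.1, s.2.1), s.1.2.1, s.2.2.1, s.2.2.2⟩
      left_inv := fun p => rfl
      right_inv := fun s => rfl }
  rw [Nat.card_congr e, Nat.card_sigma, Finset.sum_mul, Finset.sum_congr rfl fun u _ => hpart u,
    Finset.sum_const, Finset.card_univ, smul_eq_mul, Nat.card_eq_fintype_card (α := {u : ι → F // _})]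

/-- Isometric forms have isometry groups of the same order. -/
theorem card_grp_congr {κ : Type} [Fintype κ] [DecidableEq κ] {Q' : QuadraticForm F (κ → F)}
    (hB : Nondeg Q) (hB' : Nondeg Q') (φ : (ι → F) ≃ₗ[F] (κ → F)) (hφ : ∀ x, Q' (φ x) = Q x) :
    Nat.card (Grp Q) = Nat.card (Grp Q') := by
  have hφ' : ∀ y, Q (φ.symm y) = Q' y := fun y => by rw [← hφ, LinearEquiv.apply_symm_apply]
  have h1 : ∀ g : Grp Q, ∃ g' : Grp Q', ∀ y, ap g' y = φ (ap g (φ.symm y)) := fun g =>
    exists_iso hB' (φ.toLinearMap.comp ((Matrix.toLin' ((g : GL ι F) : Matrix ι ι F)).comp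
      φ.symm.toLinearMap)) (fun y => by
        show Q' (φ (Matrix.toLin' _ (φ.symm y))) = _
        rw [hφ, Matrix.toLin'_apply]
        exact (ap_q g _).trans (hφ' y))
  have h2 : ∀ g : Grp Q', ∃ g' : Grp Q, ∀ x, ap g' x = φ.symm (ap g (φ x)) := fun g =>
    exists_iso hB (φ.symm.toLinearMap.comp ((Matrix.toLin' ((g : GL κ F) : Matrix κ κ F)).comp
      φ.toLinearMap)) (fun x => by
        show Q (φ.symm (Matrix.toLin' _ (φ x))) = _
        rw [hφ', Matrix.toLin'_apply]
        exact (ap_q g _).trans (hφ x))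
  choose a ha using h1
  choose b hb using h2
  exact Nat.card_congr
    { toFun := a, invFun := b
      left_inv := fun g => ext_ap fun x => by
        rw [hb, ha, LinearEquiv.symm_apply_apply, LinearEquiv.symm_apply_apply]
      right_inv := fun g => ext_ap fun y => by
        rw [ha, hb, LinearEquiv.apply_symm_apply, LinearEquiv.apply_symm_apply] }

/-- The pointwise stabiliser of a hyperbolic pair is the isometry group of its orthogonal. -/
theorem card_fix2 {κ : Type} [Fintype κ] [DecidableEq κ] {Q' : QuadraticForm F (κ → F)}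
    (hB : Nondeg Q) (hB' : Nondeg Q') (φ : (ι → F) ≃ₗ[F] (κ → F) × F × F)
    (hφ : ∀ x, Q x = Q' (φ x).1 + (φ x).2.1 * (φ x).2.2) :
    Nat.card (fix2 Q (φ.symm (0, 1, 0)) (φ.symm (0, 0, 1))) = Nat.card (Grp Q') := by
  obtain ⟨u, hu⟩ : ∃ u, u = φ.symm (0, 1, 0) := ⟨_, rfl⟩
  obtain ⟨f, hf⟩ : ∃ f, f = φ.symm (0, 0, 1) := ⟨_, rfl⟩
  rw [← hu, ← hf]
  have hφu : φ u = (0, 1, 0) := by rw [hu, LinearEquiv.apply_symm_apply]
  have hφf : φ f = (0, 0, 1) := by rw [hf, LinearEquiv.apply_symm_apply]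
  have hbu : ∀ x, B u x = (φ x).2.2 := fun x => by
    simp only [QuadraticMap.polar, hφ, map_add, hφu]
    simp [QuadraticMap.map_zero]; ring
  have hbf : ∀ x, B f x = (φ x).2.1 := fun x => by
    simp only [QuadraticMap.polar, hφ, map_add, hφf]
    simp [QuadraticMap.map_zero]; ring
  have hmem : ∀ g : fix2 Q u f, ∀ z : κ → F,
      (φ (ap (g : Grp Q) (φ.symm (z, 0, 0)))).2 = (0, 0) := by
    intro g z
    refine Prod.ext ?_ ?_
    · rw [← hbf]
      conv_lhs => arg 2; rw [← g.2.2]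
      rw [ap_b, hbf, LinearEquiv.apply_symm_apply]
    · rw [← hbu]
      conv_lhs => arg 2; rw [← g.2.1]
      rw [ap_b, hbu, LinearEquiv.apply_symm_apply]
  have h1 : ∀ g : fix2 Q u f, ∃ g' : Grp Q', ∀ z, ap g' z = (φ (ap (g : Grp Q) (φ.symm (z, 0, 0)))).1 :=
    fun g => exists_iso hB' ((LinearMap.fst F (κ → F) (F × F)).comp (φ.toLinearMap.comp
      ((Matrix.toLin' (((g : Grp Q) : GL ι F) : Matrix ι ι F)).comp
        (φ.symm.toLinearMap.comp (LinearMap.inl F (κ → F) (F × F)))))) (fun z => by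
        show Q' (φ (Matrix.toLin' _ (φ.symm (z, 0, 0)))).1 = Q' z
        rw [Matrix.toLin'_apply]
        have h := ap_q (g : Grp Q) (φ.symm (z, 0, 0))
        rw [hφ (φ.symm _), hφ (ap _ _), hmem g z, LinearEquiv.apply_symm_apply, mul_zero,
          add_zero, add_zero] at h
        exact h)
  have h2 : ∀ g : Grp Q', ∃ g' : fix2 Q u f, ∀ x,
      ap (g' : Grp Q) x = φ.symm (ap g (φ x).1, (φ x).2) := fun g => by
    obtain ⟨g', hg'⟩ := exists_iso hB (φ.symm.toLinearMap.comp
      (((Matrix.toLin' ((g : GL κ F) : Matrix κ κ F)).prodMap LinearMap.id).comp φ.toLinearMap))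
      (fun x => by
        show Q (φ.symm (Matrix.toLin' _ (φ x).1, (φ x).2)) = Q x
        rw [hφ, hφ x, LinearEquiv.apply_symm_apply, Matrix.toLin'_apply]
        exact congrArg (· + _) (ap_q g _))
    have hg'' : ∀ x, ap g' x = φ.symm (ap g (φ x).1, (φ x).2) := fun x => by
      rw [hg']
      show φ.symm (Matrix.toLin' _ (φ x).1, (φ x).2) = _
      rw [Matrix.toLin'_apply]; rfl
    refine ⟨⟨g', ?_, ?_⟩, hg''⟩
    · rw [hg'', hφu, ap_zero, hu]
    · rw [hg'', hφf, ap_zero, hf]
  choose a ha using h1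
  choose b hb using h2
  refine Nat.card_congr
    { toFun := a, invFun := b
      left_inv := fun g => Subtype.ext (ext_ap fun x => ?_)
      right_inv := fun g => ext_ap fun z => ?_ }
  · rw [hb, ha]
    obtain ⟨⟨z, s, t⟩, rfl⟩ := φ.symm.surjective x
    rw [LinearEquiv.apply_symm_apply]
    have e : φ.symm (z, s, t) = φ.symm (z, 0, 0) + s • u + t • f := by
      apply φ.injective
      simp [map_add, map_smul, hφu, hφf]
    rw [e, ap_add, ap_add, ap_smul, ap_smul, g.2.1, g.2.2]
    apply φ.injective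
    rw [LinearEquiv.apply_symm_apply, map_add, map_add, map_smul, map_smul, hφu, hφf]
    refine Prod.ext ?_ ?_
    · simp
    · simp [hmem g z]
  · rw [ha, hb, LinearEquiv.apply_symm_apply, LinearEquiv.apply_symm_apply]

end CfsgLib.Orth
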