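/-
The orders of the three families of finite orthogonal groups.
-/
import Cfsg.Agent.Lib.Classical.OrthCard

set_option autoImplicit false

namespace CfsgLib.Orth

open Matrix

variable {F : Type*} [Field F] {β : Type} [Fintype β] [DecidableEq β]

/-- The hyperbolic form as a quadratic form. -/
noncomputable def plusQ (m : ℕ) : QuadraticForm F (Fin m ⊕ Fin m → F) :=
  (exists_quadForm_plus m).choose

theorem plusQ_coe (m : ℕ) :
    ⇑(plusQ m : QuadraticForm F (Fin m ⊕ Fin m → F)) = Cfsg.quadFormPlus m F :=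
  (exists_quadForm_plus m).choose_spec.1

theorem plusQ_nondeg (m : ℕ) : Nondeg (plusQ m : QuadraticForm F (Fin m ⊕ Fin m → F)) :=
  (exists_quadForm_plus m).choose_spec.2

/-- Splitting off a hyperbolic plane. -/
def peel (m : ℕ) : ((Fin (m + 1) ⊕ Fin (m + 1)) ⊕ β → F) ≃ₗ[F]
    ((Fin m ⊕ Fin m) ⊕ β → F) × F × F where
  toFun v := (Sum.elim (Sum.elim (fun i => v (.inl (.inl i.succ))) fun i => v (.inl (.inr i.succ)))
    (fun b => v (.inr b)), v (.inl (.inl 0)), v (.inl (.inr 0)))
  invFun w := Sum.elim (Sum.elim (Fin.cons w.2.1 fun i => w.1 (.inl (.inl i)))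
    (Fin.cons w.2.2 fun i => w.1 (.inl (.inr i)))) (fun b => w.1 (.inr b))
  left_inv v := by
    funext i
    rcases i with (i | i) | i
    · refine Fin.cases ?_ (fun j => ?_) i <;> simp
    · refine Fin.cases ?_ (fun j => ?_) i <;> simp
    · simp
  right_inv w := by
    refine Prod.ext (funext fun i => ?_) (Prod.ext rfl rfl)
    rcases i with (i | i) | i <;> simp
  map_add' v w := by
    refine Prod.ext (funext fun i => ?_) (Prod.ext rfl rfl)
    rcases i with (i | i) | i <;> rfl
  map_smul' c v := by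
    refine Prod.ext (funext fun i => ?_) (Prod.ext rfl rfl)
    rcases i with (i | i) | i <;> rfl

omit [Fintype β] [DecidableEq β] in
theorem peel_form (P : QuadraticForm F (β → F)) (m : ℕ) (x : (Fin (m + 1) ⊕ Fin (m + 1)) ⊕ β → F) :
    osum (plusQ (m + 1)) P x = osum (plusQ m) P (peel m x).1 + (peel m x).2.1 * (peel m x).2.2 := by
  rw [osum_apply, osum_apply, plusQ_coe, plusQ_coe, Cfsg.quadFormPlus, Cfsg.quadFormPlus,
    Fin.sum_univ_succ]
  show _ = ∑ i : Fin m, x (.inl (.inl i.succ)) * x (.inl (.inr i.succ)) + P (fun b => x (.inr b)) +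
    x (.inl (.inl 0)) * x (.inl (.inr 0))
  rw [show (fun b => x (.inr b)) = x ∘ Sum.inr from rfl]
  simp only [Function.comp_apply]
  ring

variable [Finite F]

/-- The step of the recursion. -/
theorem card_grp_succ (P : QuadraticForm F (β → F)) (hP : Nondeg P)
    (haniso : ∀ b, P b = 0 → b = 0) (m : ℕ) :
    (Nat.card (Grp (osum (plusQ (m + 1)) P)) : ℤ) =
      ((Nat.card F : ℤ) ^ (m + 1) - 1) * ((Nat.card F : ℤ) ^ (m + Fintype.card β) + 1) *
        (Nat.card F : ℤ) ^ (2 * m + Fintype.card β) * Nat.card (Grp (osum (plusQ m) P)) := by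
  classical
  cases nonempty_fintype F
  have hB := osum_nondeg (plusQ_nondeg (F := F) (m + 1)) hP
  have hB' := osum_nondeg (plusQ_nondeg (F := F) m) hP
  have hfix := card_fix2 hB hB' (peel m) (peel_form P m)
  obtain ⟨u, hu⟩ : ∃ u, u = (peel (F := F) (β := β) m).symm (0, 1, 0) := ⟨_, rfl⟩
  obtain ⟨f, hf⟩ : ∃ f, f = (peel (F := F) (β := β) m).symm (0, 0, 1) := ⟨_, rfl⟩
  rw [← hu, ← hf] at hfix
  have hqu : osum (plusQ (m + 1)) P u = 0 := by
    rw [peel_form, hu, LinearEquiv.apply_symm_apply]; simp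
  have hqf : osum (plusQ (m + 1)) P f = 0 := by
    rw [peel_form, hf, LinearEquiv.apply_symm_apply]; simp
  have hbuf : QuadraticMap.polar ⇑(osum (plusQ (m + 1)) P) u f = 1 := by
    rw [QuadraticMap.polar, hqu, hqf, peel_form, map_add, hu, hf, LinearEquiv.apply_symm_apply,
      LinearEquiv.apply_symm_apply]
    simp
  rw [card_grp_eq_pairs_mul hB hqu hqf hbuf, hfix, Nat.cast_mul]
  congr 1
  have hpairs := card_pairs_orth hB
  rw [Module.finrank_pi, Fintype.card_sum, Fintype.card_sum, Fintype.card_fin] at hpairs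
  -- the singular vectors
  have hz := CfsgLib.ZeroCount.card_zero (F := F) (fun b : β → F => P b) (m + 1)
  have hone : Nat.card {b : β → F // P b = 0} = 1 := Nat.card_eq_one_iff_unique.2
    ⟨⟨fun a b => Subtype.ext ((haniso a a.2).trans (haniso b b.2).symm)⟩,
      ⟨⟨0, QuadraticMap.map_zero _⟩⟩⟩
  obtain ⟨N, hN⟩ : ∃ N, N = Nat.card {w : (Fin (m + 1) ⊕ Fin (m + 1) → F) × (β → F) //
      Cfsg.quadFormPlus (m + 1) F w.1 + P w.2 = 0} := ⟨_, rfl⟩
  rw [hone, ← hN, Fintype.card_fun, ← Nat.card_eq_fintype_card (α := F)] at hz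
  push_cast at hz
  have hM : Nat.card {x // osum (plusQ (m + 1)) P x = 0 ∧ x ≠ 0} + 1 = N := by
    rw [hN, ← Nat.card_congr (Equiv.subtypeEquiv (Equiv.sumArrowEquivProdArrow _ _ F)
      (p := fun x => osum (plusQ (m + 1)) P x = 0) (fun x => by
        show _ ↔ Cfsg.quadFormPlus (m + 1) F (x ∘ Sum.inl) + P (x ∘ Sum.inr) = 0
        rw [← plusQ_coe]; rfl))]
    rw [Nat.card_eq_fintype_card, Fintype.card_subtype, Nat.card_eq_fintype_card,
      Fintype.card_subtype]
    rw [← Finset.card_erase_add_one (show (0 : (Fin (m + 1) ⊕ Fin (m + 1)) ⊕ β → F) ∈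
      Finset.univ.filter (fun x => osum (plusQ (m + 1)) P x = 0) by simp)]
    congr 2
    ext x
    simp [Finset.mem_erase, and_comm]
  rw [← hM] at hz
  push_cast at hz
  have hp : (Nat.card (Pairs (osum (plusQ (m + 1)) P)) : ℤ) * (Nat.card F : ℤ) ^ 2 =
      (Nat.card {x // osum (plusQ (m + 1)) P x = 0 ∧ x ≠ 0} : ℤ) *
        (Nat.card F : ℤ) ^ (m + 1 + (m + 1) + Fintype.card β) := by
    exact_mod_cast hpairs
  have hq : (Nat.card F : ℤ) ≠ 0 := by exact_mod_cast Nat.card_pos.ne'
  generalize hq' : (Nat.card F : ℤ) = q at hz hp hq ⊢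
  generalize hd' : Fintype.card β = d at hz hp ⊢
  generalize (Nat.card {x // osum (plusQ (m + 1)) P x = 0 ∧ x ≠ 0} : ℤ) = M at hz hp
  generalize (Nat.card (Pairs (osum (plusQ (m + 1)) P)) : ℤ) = T at hp ⊢
  have hM' : M = (q ^ (m + 1) - 1) * (q ^ (m + d) + 1) := by
    refine mul_left_cancel₀ hq ?_
    linear_combination hz
  refine mul_right_cancel₀ (pow_ne_zero 2 hq) ?_
  rw [hp, hM']
  ring

/-- The order of the isometry group of hyperbolic planes plus an anisotropic form. -/
theorem card_grp_hyp (P : QuadraticForm F (β → F)) (hP : Nondeg P)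
    (haniso : ∀ b, P b = 0 → b = 0) (m : ℕ) :
    (Nat.card (Grp (osum (plusQ m) P)) : ℤ) = Nat.card (Grp P) *
      ((Nat.card F : ℤ) ^ (m * (m - 1) + m * Fintype.card β) *
        ∏ i ∈ Finset.range m, ((Nat.card F : ℤ) ^ (i + 1) - 1) *
          ((Nat.card F : ℤ) ^ (i + Fintype.card β) + 1)) := by
  induction m with
  | zero =>
      rw [Finset.range_zero, Finset.prod_empty]
      simp only [zero_mul, add_zero, pow_zero, mul_one]
      refine congrArg Nat.cast (card_grp_congr (osum_nondeg (plusQ_nondeg 0) hP) hP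
        { toFun := fun x => x ∘ Sum.inr
          invFun := fun y => Sum.elim (fun i => Sum.elim (fun j => j.elim0) (fun j => j.elim0) i) y
          left_inv := fun x => funext fun i => by
            rcases i with (i | i) | i
            · exact i.elim0
            · exact i.elim0
            · rfl
          right_inv := fun y => rfl
          map_add' := fun _ _ => rfl
          map_smul' := fun _ _ => rfl } fun x => ?_)
      show P (x ∘ Sum.inr) = osum (plusQ 0) P x
      rw [osum_apply, plusQ_coe]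
      simp [Cfsg.quadFormPlus]
  | succ m ih =>
      rw [card_grp_succ P hP haniso m, ih, Finset.prod_range_succ]
      rcases m with _ | j
      · simp; ring
      · simp only [Nat.add_sub_cancel]
        ring

end CfsgLib.Orth
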