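/-
Isometry groups of anisotropic forms in dimension at most two.
-/
import Cfsg.Agent.Lib.Classical.OrthReflect
import Cfsg.Agent.Lib.Classical.OrthForms

set_option autoImplicit false

namespace CfsgLib.Orth

open Matrix

variable {F : Type*} [Field F]

/-- The form `x²` on a line. -/
noncomputable def lineQ : QuadraticForm F (Unit → F) :=
  (QuadraticMap.sq (R := F)).comp (LinearMap.proj ())

theorem lineQ_apply (x : Unit → F) : lineQ x = x () * x () := rfl

theorem lineQ_nondeg (h2 : (2 : F) ≠ 0) : Nondeg (lineQ : QuadraticForm F (Unit → F)) := by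
  intro x hx
  funext u
  have h := hx (fun _ => 1)
  simp only [QuadraticMap.polar, lineQ_apply, Pi.add_apply] at h
  exact (mul_eq_zero.1 (show (2 : F) * x () = 0 by linear_combination h)).resolve_left h2

theorem lineQ_aniso (x : Unit → F) (h : lineQ x = 0) : x = 0 :=
  funext fun _ => mul_self_eq_zero.1 h

theorem card_grp_line (h2 : (2 : F) ≠ 0) :
    Nat.card (Grp (lineQ : QuadraticForm F (Unit → F))) = 2 := by
  classical
  have hB := lineQ_nondeg (F := F) h2
  have hne : lineQ (fun _ : Unit => (1 : F)) ≠ 0 := by simp [lineQ_apply]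
  obtain ⟨r, hr⟩ := exists_refl hB hne
  have hr1 : ap r (fun _ => (1 : F)) = fun _ => -1 := by
    rw [hr.2, b_self, mul_comm (2 : F), ← mul_assoc, inv_mul_cancel₀ hne, one_mul]
    funext u; simp; ring
  have key : ∀ g : Grp (lineQ : QuadraticForm F (Unit → F)), g = 1 ∨ g = r := by
    intro g
    have hx : ∀ x : Unit → F, x = x () • (fun _ : Unit => (1 : F)) := fun x =>
      funext fun u => by simp
    have h : (ap g (fun _ => (1 : F))) () * (ap g (fun _ => (1 : F))) () = 1 :=
      (ap_q g (fun _ => (1 : F))).trans (mul_one 1)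
    rcases mul_self_eq_one_iff.1 h with h | h
    · left
      exact ext_ap fun x => by
        rw [hx x, ap_smul, ap_one, show ap g (fun _ => (1 : F)) = fun _ => 1 from funext fun _ => h]
    · right
      exact ext_ap fun x => by
        rw [hx x, ap_smul, ap_smul, hr1,
          show ap g (fun _ => (1 : F)) = fun _ => -1 from funext fun _ => h]
  have hr0 : r ≠ 1 := fun e => by
    rw [e, ap_one] at hr1
    exact h2 (by linear_combination congrFun hr1 ())
  rw [Nat.card_eq_two_iff]
  exact ⟨1, r, hr0.symm, Set.eq_univ_of_forall fun g => (key g).imp id id⟩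

variable [Finite F]

/-- The multiplication attached to a binary form. -/
def binMul (a b : F) (x y : Fin 2 → F) : Fin 2 → F :=
  ![x 0 * y 0 - b * (x 1 * y 1), x 0 * y 1 + x 1 * y 0 + a * (x 1 * y 1)]

/-- A monic anisotropic binary form. -/
theorem card_grp_binary {a b : F} {P : QuadraticForm F (Fin 2 → F)} (hB : Nondeg P)
    (hP : ∀ x : Fin 2 → F, P x = x 0 ^ 2 + a * x 0 * x 1 + b * x 1 ^ 2)
    (haniso : ∀ x, P x = 0 → x = 0) : Nat.card (Grp P) = 2 * (Nat.card F + 1) := by
  classical
  cases nonempty_fintype F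
  have hmul : ∀ x y, P (binMul a b x y) = P x * P y := fun x y => by
    rw [hP, hP x, hP y]; simp [binMul]; ring
  let lm : (Fin 2 → F) → ((Fin 2 → F) →ₗ[F] (Fin 2 → F)) := fun x =>
    { toFun := binMul a b x
      map_add' := fun y z => funext fun i => by fin_cases i <;> simp [binMul] <;> ring
      map_smul' := fun c y => funext fun i => by fin_cases i <;> simp [binMul] <;> ring }
  have hlm : ∀ x y, lm x y = binMul a b x y := fun x y => rfl
  have hinj : ∀ x, P x ≠ 0 → Function.Bijective (lm x) := fun x hx =>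
    have hi : Function.Injective (lm x) := (injective_iff_map_eq_zero (lm x)).2 fun y hy =>
      haniso y (by
        have h := hmul x y
        rw [← hlm, hy, QuadraticMap.map_zero] at h
        exact (mul_eq_zero.1 h.symm).resolve_left hx)
    ⟨hi, LinearMap.injective_iff_surjective.1 hi⟩
  -- every value is attained
  have hrep : ∀ c : F, ∃ x, P x = c := by
    intro c
    by_cases h2 : ringChar F = 2
    · obtain ⟨s, hs⟩ := FiniteField.isSquare_of_char_two h2 c
      exact ⟨![s, 0], by rw [hP]; simp [hs]; ring⟩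
    · have h2' : (2 : F) ≠ 0 := Ring.two_ne_zero h2
      have hd : b - a * a / 4 ≠ 0 := by
        have h4 : (4 : F) ≠ 0 := by
          rw [show (4 : F) = 2 * 2 by norm_num]; exact mul_ne_zero h2' h2'
        intro e
        field_simp at e
        have := haniso ![-a, 2] (by rw [hP]; simp; linear_combination e)
        exact h2' (congrFun this 1)
      obtain ⟨y, w, hyw⟩ := FiniteField.exists_root_sum_quadratic
        (f := Polynomial.X ^ 2 + Polynomial.C (-c))
        (g := Polynomial.C (b - a * a / 4) * Polynomial.X ^ 2)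
        (by compute_degree!) (by compute_degree!)
        (FiniteField.odd_card_of_char_ne_two h2)
      simp only [Polynomial.eval_add, Polynomial.eval_mul, Polynomial.eval_C, Polynomial.eval_pow,
        Polynomial.eval_X] at hyw
      refine ⟨![y - a / 2 * w, w], ?_⟩
      rw [hP]
      simp
      have h4 : (4 : F) = 2 * 2 := by norm_num
      rw [h4] at hyw
      field_simp at hyw ⊢
      linear_combination hyw
  -- the vectors of norm one
  have hX : Nat.card {x : Fin 2 → F // P x = 1} = Nat.card F + 1 := by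
    have hfib : ∀ c : {c : F // c ≠ 0}, Nat.card {x : Fin 2 → F // P x = c} =
        Nat.card {x : Fin 2 → F // P x = 1} := by
      intro c
      obtain ⟨u, hu⟩ := hrep c
      refine (Nat.card_congr (Equiv.subtypeEquiv (Equiv.ofBijective _ (hinj u (hu ▸ c.2)))
        fun x => ?_)).symm
      show _ ↔ P (binMul a b u x) = c
      rw [hmul, hu]
      exact ⟨fun h => by rw [h, mul_one],
        fun h => mul_left_cancel₀ c.2 (h.trans (mul_one _).symm)⟩
    have e : {x : Fin 2 → F // x ≠ 0} ≃ Σ c : {c : F // c ≠ 0}, {x : Fin 2 → F // P x = c} :=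
      { toFun := fun x => ⟨⟨P x, fun h => x.2 (haniso x h)⟩, x, rfl⟩
        invFun := fun s => ⟨s.2, fun h => s.1.2 (by rw [← s.2.2, h, QuadraticMap.map_zero])⟩
        left_inv := fun x => rfl
        right_inv := fun s => Sigma.subtype_ext (Subtype.ext s.2.2) rfl }
    have h1 := Nat.card_congr e
    rw [Nat.card_sigma, Finset.sum_congr rfl fun c _ => hfib c, Finset.sum_const, Finset.card_univ,
      smul_eq_mul] at h1
    rw [Nat.card_eq_fintype_card (α := {x : Fin 2 → F // x ≠ 0}), Fintype.card_subtype_compl,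
      Fintype.card_subtype_compl, Fintype.card_subtype_eq, Fintype.card_subtype_eq,
      Fintype.card_fun, Fintype.card_fin] at h1
    rw [Nat.card_eq_fintype_card (α := F)]
    have hq : 2 ≤ Fintype.card F := Fintype.one_lt_card
    obtain ⟨k, hk⟩ : ∃ k, Fintype.card F = k + 2 := ⟨_, (Nat.sub_add_cancel hq).symm⟩
    rw [hk] at h1 ⊢
    have h3 : (k + 2) ^ 2 - 1 = (k + 1) * (k + 3) := by
      rw [show (k + 2) ^ 2 = (k + 1) * (k + 3) + 1 by ring, Nat.add_sub_cancel]
    rw [h3, show k + 2 - 1 = k + 1 by omega] at h1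
    exact (Nat.eq_of_mul_eq_mul_left (Nat.succ_pos k) h1).symm
  -- orbit and stabiliser
  let v₀ : Fin 2 → F := ![1, 0]
  have hv₀ : P v₀ = 1 := by rw [hP]; simp [v₀]
  letI act : MulAction (Grp P) {x : Fin 2 → F // P x = 1} :=
    { smul := fun g x => ⟨ap g x, by rw [ap_q, x.2]⟩
      one_smul := fun x => Subtype.ext (ap_one _)
      mul_smul := fun g h x => Subtype.ext (ap_mul g h _) }
  have horb : MulAction.orbit (Grp P) (⟨v₀, hv₀⟩ : {x : Fin 2 → F // P x = 1}) = Set.univ :=
    Set.eq_univ_of_forall fun x => by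
      obtain ⟨g, hg⟩ := exists_iso hB (lm x) fun y => by rw [hlm, hmul, x.2, one_mul]
      refine ⟨g, Subtype.ext ?_⟩
      show ap g v₀ = x
      rw [hg, hlm]
      funext i
      fin_cases i <;> simp [binMul, v₀]
  obtain ⟨w, hw⟩ : ∃ w : Fin 2 → F, w = ![0, 1] := ⟨_, rfl⟩
  have hQw : P w = b := by rw [hP, hw]; simp
  have hbw : QuadraticMap.polar ⇑P v₀ w = a := by
    unfold QuadraticMap.polar
    rw [hP, hP, hP, hw]
    simp [v₀]
    ring
  have hd := aniso_disc (a := a) (b := b) fun z₁ z₂ h => by
    have h' := haniso ![z₁, z₂] (by rw [hP]; simpa using h)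
    exact ⟨congrFun h' 0, congrFun h' 1⟩
  have hexp : ∀ x : Fin 2 → F, x = x 0 • v₀ + x 1 • w := fun x => by
    rw [hw]; funext i; fin_cases i <;> simp [v₀]
  obtain ⟨z, hz⟩ : ∃ z, z = a • v₀ - (2 : F) • w := ⟨_, rfl⟩
  have hQz : P z ≠ 0 := by
    rw [hz, q_sub, q_smul, q_smul, b_smul_left, b_smul_right, hv₀, hQw, hbw]
    exact fun e => hd (by linear_combination e)
  obtain ⟨r, hr⟩ := exists_refl hB hQz
  have hzv : QuadraticMap.polar ⇑P z v₀ = 0 := by
    rw [hz, b_sub_left, b_smul_left, b_smul_left, b_self, b_comm w v₀, hbw, hv₀]; ring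
  have hrw : ap r w = a • v₀ - w := by
    have e : P z = 4 * b - a * a := by
      rw [hz, q_sub, q_smul, q_smul, b_smul_left, b_smul_right, hv₀, hQw, hbw]; ring
    have e2 : QuadraticMap.polar ⇑P z w = -P z := by
      rw [e, hz, b_sub_left, b_smul_left, b_smul_left, b_self, hQw, hbw]; ring
    rw [hr.2, e2, mul_neg, inv_mul_cancel₀ hQz, hz]
    module
  have hstab : Nat.card (MulAction.stabilizer (Grp P) (⟨v₀, hv₀⟩ : {x : Fin 2 → F // P x = 1})) = 2 := by
    have hrmem : r ∈ MulAction.stabilizer (Grp P) (⟨v₀, hv₀⟩ : {x : Fin 2 → F // P x = 1}) :=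
      MulAction.mem_stabilizer_iff.2 (Subtype.ext (refl_fix hr hzv))
    rw [Nat.card_eq_two_iff]
    refine ⟨1, ⟨r, hrmem⟩, fun e => ?_, Set.eq_univ_of_forall fun g => ?_⟩
    · have e' : r = 1 := (congrArg Subtype.val e).symm
      rw [e', ap_one] at hrw
      have h1 : a • v₀ - (2 : F) • w = 0 := by linear_combination (norm := module) -hrw
      exact hQz (by rw [hz, h1, QuadraticMap.map_zero])
    · obtain ⟨g, hg⟩ := g
      have hgv : ap g v₀ = v₀ := congrArg Subtype.val (MulAction.mem_stabilizer_iff.1 hg)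
      obtain ⟨α, γ, hgw⟩ : ∃ α γ, ap g w = α • v₀ + γ • w := ⟨_, _, hexp _⟩
      have h1 : 2 * α + γ * a = a := by
        have h := ap_b g v₀ w
        rw [hgv, hgw, b_add_right, b_smul_right, b_smul_right, b_self, hv₀, hbw] at h
        linear_combination h
      have h3 : α * α + γ * γ * b + α * γ * a = b := by
        have h := ap_q g w
        rw [hgw, q_add, q_smul, q_smul, b_smul_left, b_smul_right, hv₀, hQw, hbw] at h
        linear_combination h
      have h4 : (γ - 1) * (γ + 1) = 0 := (mul_eq_zero.1
        (show (4 * b - a ^ 2) * ((γ - 1) * (γ + 1)) = 0 by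
          linear_combination 4 * h3 - (2 * α + γ * a + a) * h1)).resolve_left hd
      have hα : (α = 0 ∧ γ = 1) ∨ (α = a ∧ γ = -1) := by
        by_cases h2 : (2 : F) = 0
        · have : CharP F 2 := CharTwo.of_one_ne_zero_of_two_eq_zero one_ne_zero h2
          have hg1 : γ = 1 := by
            rcases mul_eq_zero.1 h4 with h | h
            · exact sub_eq_zero.1 h
            · linear_combination h - h2
          subst hg1
          rcases mul_eq_zero.1 (show α * (α + a) = 0 by linear_combination h3) with h | h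
          · exact Or.inl ⟨h, rfl⟩
          · exact Or.inr ⟨by linear_combination h - a * h2, by linear_combination h2⟩
        · rcases mul_eq_zero.1 h4 with h | h
          · refine Or.inl ⟨(mul_eq_zero.1 (show 2 * α = 0 by linear_combination h1 - a * h)).resolve_left h2,
              sub_eq_zero.1 h⟩
          · refine Or.inr ⟨mul_left_cancel₀ h2 (by linear_combination h1 - a * h),
              by linear_combination h⟩
      rcases hα with ⟨rfl, rfl⟩ | ⟨rfl, rfl⟩
      · left
        refine Subtype.ext (ext_ap fun x => ?_)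
        show ap g x = ap (1 : Grp P) x
        rw [ap_one, hexp x, ap_add, ap_smul, ap_smul, hgv, hgw]
        module
      · right
        refine Set.mem_singleton_iff.2 (Subtype.ext (ext_ap fun x => ?_))
        show ap g x = ap r x
        rw [hexp x, ap_add, ap_smul, ap_smul, ap_add, ap_smul, ap_smul, hgv, hgw,
          refl_fix hr hzv, hrw]
        module
  rw [Subgroup.card_eq_card_quotient_mul_card_subgroup
      (MulAction.stabilizer (Grp P) (⟨v₀, hv₀⟩ : {x : Fin 2 → F // P x = 1})),
    ← Nat.card_congr (MulAction.orbitEquivQuotientStabilizer (Grp P)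
      (⟨v₀, hv₀⟩ : {x : Fin 2 → F // P x = 1})), horb,
    Nat.card_congr (Equiv.Set.univ {x : Fin 2 → F // P x = 1}), hX, hstab, mul_comm]

end CfsgLib.Orth
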