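/-
The orders of the standard orthogonal groups.
-/
import Cfsg.Agent.Lib.Classical.OrthOrder
import Cfsg.Agent.Lib.Classical.OrthSmall

set_option autoImplicit false

namespace CfsgLib.Orth

open Matrix

variable {F : Type*} [Field F] [Finite F]

omit [Finite F] in
theorem prod_shift (q : ℤ) (k : ℕ) :
    ∏ i ∈ Finset.range (k + 1), (q ^ (i + 1) - 1) * (q ^ i + 1) =
      2 * (q ^ (k + 1) - 1) * ∏ i ∈ Finset.range k, (q ^ (2 * (i + 1)) - 1) := by
  induction k with
  | zero => simp; ring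
  | succ k ih =>
      rw [Finset.prod_range_succ, ih, Finset.prod_range_succ _ k]
      ring

omit [Finite F] in
theorem prod_shift_two (q : ℤ) (k : ℕ) :
    (q + 1) * ∏ i ∈ Finset.range k, (q ^ (i + 1) - 1) * (q ^ (i + 2) + 1) =
      (q ^ (k + 1) + 1) * ∏ i ∈ Finset.range k, (q ^ (2 * (i + 1)) - 1) := by
  induction k with
  | zero => simp
  | succ k ih =>
      rw [Finset.prod_range_succ, ← mul_assoc, ih, Finset.prod_range_succ]
      ring

omit [Finite F] in
theorem cast_prod_pow_sub_one {q : ℕ} (hq : 1 ≤ q) (k : ℕ) :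
    ((∏ i ∈ Finset.range k, (q ^ (2 * (i + 1)) - 1) : ℕ) : ℤ) =
      ∏ i ∈ Finset.range k, ((q : ℤ) ^ (2 * (i + 1)) - 1) := by
  rw [Nat.cast_prod]
  exact Finset.prod_congr rfl fun i _ => by
    rw [Nat.cast_sub (Nat.one_le_pow _ _ hq)]; simp

theorem card_orth_plus (m : ℕ) (hm : 1 ≤ m) {Q : QuadraticForm F (Fin m ⊕ Fin m → F)}
    (hQ : ⇑Q = Cfsg.quadFormPlus m F) (hB : Nondeg Q) :
    Nat.card (Grp Q) = 2 * Nat.card F ^ (m * (m - 1)) * (Nat.card F ^ m - 1) *
      ∏ i ∈ Finset.range (m - 1), (Nat.card F ^ (2 * (i + 1)) - 1) := by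
  obtain ⟨k, rfl⟩ : ∃ k, m = k + 1 := ⟨m - 1, by omega⟩
  let P : QuadraticForm F (Fin 0 → F) := 0
  have hP : Nondeg P := fun x _ => funext fun i => i.elim0
  have hone : Nat.card (Grp P) = 1 := Nat.card_eq_one_iff_unique.2
    ⟨⟨fun a b => ext_ap fun x => funext fun i => i.elim0⟩, ⟨1⟩⟩
  have h := card_grp_hyp P hP (fun b _ => funext fun i => i.elim0) (k + 1)
  have e : Nat.card (Grp Q) = Nat.card (Grp (osum (plusQ (k + 1)) P)) :=
    card_grp_congr hB (osum_nondeg (plusQ_nondeg _) hP)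
      { toFun := fun x => Sum.elim x (fun i => i.elim0)
        invFun := fun y => y ∘ Sum.inl
        left_inv := fun x => rfl
        right_inv := fun y => funext fun i => by
          rcases i with i | i
          · rfl
          · exact i.elim0
        map_add' := fun x y => funext fun i => by
          rcases i with i | i
          · rfl
          · exact i.elim0
        map_smul' := fun c x => funext fun i => by
          rcases i with i | i
          · rfl
          · exact i.elim0 }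
      fun x => by
        show osum (plusQ (k + 1)) P (Sum.elim x _) = Q x
        rw [osum_apply, plusQ_coe, hQ, Sum.elim_comp_inl]
        simp [P]
  have hq : 1 ≤ Nat.card F := Finite.one_lt_card.le
  rw [e]
  apply Int.ofNat_inj.1
  show ((Nat.card (Grp (osum (plusQ (k + 1)) P)) : ℕ) : ℤ) = _
  rw [h, hone, Fintype.card_fin, Nat.add_sub_cancel]
  simp only [Nat.cast_mul, Nat.cast_pow, Nat.cast_ofNat, Nat.cast_sub (Nat.one_le_pow _ _ hq),
    Nat.cast_one, one_mul, mul_zero, add_zero]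
  rw [prod_shift, cast_prod_pow_sub_one hq]
  ring

theorem card_orth_odd (h2 : (2 : F) ≠ 0) (m : ℕ)
    {Q : QuadraticForm F (Unit ⊕ (Fin m ⊕ Fin m) → F)}
    (hQ : ⇑Q = Cfsg.quadFormOdd m F) (hB : Nondeg Q) :
    Nat.card (Grp Q) = 2 * Nat.card F ^ (m ^ 2) *
      ∏ i ∈ Finset.range m, (Nat.card F ^ (2 * (i + 1)) - 1) := by
  have h := card_grp_hyp (F := F) lineQ (lineQ_nondeg h2) lineQ_aniso m
  have e : Nat.card (Grp Q) = Nat.card (Grp (osum (plusQ m) (lineQ : QuadraticForm F (Unit → F)))) :=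
    card_grp_congr hB (osum_nondeg (plusQ_nondeg _) (lineQ_nondeg h2))
      (LinearEquiv.funCongrLeft F F (Equiv.sumComm (Fin m ⊕ Fin m) Unit))
      fun x => by
        rw [osum_apply, plusQ_coe, hQ, lineQ_apply, Cfsg.quadFormOdd, Cfsg.quadFormPlus, sq]
        simp only [LinearEquiv.funCongrLeft_apply, LinearMap.funLeft_apply, Function.comp_apply,
          Equiv.sumComm_apply, Sum.swap_inl, Sum.swap_inr]
        ring
  have hq : 1 ≤ Nat.card F := Finite.one_lt_card.le
  rw [e]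
  apply Int.ofNat_inj.1
  show ((Nat.card (Grp (osum (plusQ m) (lineQ : QuadraticForm F (Unit → F)))) : ℕ) : ℤ) = _
  rw [h, card_grp_line h2, Fintype.card_unit]
  simp only [Nat.cast_mul, Nat.cast_pow, Nat.cast_ofNat, mul_one]
  rw [cast_prod_pow_sub_one hq, show m * (m - 1) + m = m ^ 2 by
    rcases m with _ | j
    · rfl
    · rw [Nat.add_sub_cancel]; ring, mul_assoc]
  congr 2
  exact Finset.prod_congr rfl fun i _ => by ring

theorem card_orth_minus (m : ℕ) (hm : 1 ≤ m) {a b : F}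
    (hab : ∀ z₁ z₂ : F, z₁ ^ 2 + a * z₁ * z₂ + b * z₂ ^ 2 = 0 → z₁ = 0 ∧ z₂ = 0)
    {Q : QuadraticForm F ((Fin (m - 1) ⊕ Fin (m - 1)) ⊕ Fin 2 → F)}
    (hQ : ⇑Q = Cfsg.quadFormMinus (m - 1) F a b) (hB : Nondeg Q) :
    Nat.card (Grp Q) = 2 * Nat.card F ^ (m * (m - 1)) * (Nat.card F ^ m + 1) *
      ∏ i ∈ Finset.range (m - 1), (Nat.card F ^ (2 * (i + 1)) - 1) := by
  obtain ⟨k, rfl⟩ : ∃ k, m = k + 1 := ⟨m - 1, by omega⟩
  simp only [Nat.add_sub_cancel] at Q hQ hB ⊢
  let P : QuadraticForm F (Fin 2 → F) :=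
    Q.comp ((LinearEquiv.sumArrowLequivProdArrow (Fin k ⊕ Fin k) (Fin 2) F F).symm.toLinearMap.comp
      (LinearMap.inr F _ _))
  have hPx : ∀ x : Fin 2 → F, P x = x 0 ^ 2 + a * x 0 * x 1 + b * x 1 ^ 2 := fun x => by
    show Q (Sum.elim 0 x) = _
    rw [hQ]; simp [Cfsg.quadFormMinus]
  have haniso : ∀ x, P x = 0 → x = 0 := fun x hx => by
    obtain ⟨h0, h1⟩ := hab _ _ ((hPx x).symm.trans hx)
    funext i; fin_cases i <;> assumption
  have hsum : ∀ x, Q x = osum (plusQ k) P x := fun x => by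
    rw [osum_apply, plusQ_coe, hPx, hQ]; rfl
  have hP : Nondeg P := fun x hx => by
    have h := hB (Sum.elim 0 x) fun y => by
      rw [show ⇑Q = ⇑(osum (plusQ k) P) from funext hsum, polar_osum, Sum.elim_comp_inl,
        Sum.elim_comp_inr, b_zero_left, zero_add]
      exact hx _
    funext i
    exact congrFun h (.inr i)
  have h := card_grp_hyp P hP haniso k
  have e : Nat.card (Grp Q) = Nat.card (Grp (osum (plusQ k) P)) :=
    card_grp_congr hB (osum_nondeg (plusQ_nondeg _) hP) (LinearEquiv.refl F _)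
      fun x => (hsum x).symm
  have hq : 1 ≤ Nat.card F := Finite.one_lt_card.le
  rw [e]
  apply Int.ofNat_inj.1
  show ((Nat.card (Grp (osum (plusQ k) P)) : ℕ) : ℤ) = _
  rw [h, card_grp_binary hP hPx haniso, Fintype.card_fin]
  simp only [Nat.cast_mul, Nat.cast_pow, Nat.cast_ofNat, Nat.cast_add, Nat.cast_one]
  rw [cast_prod_pow_sub_one hq, show k * (k - 1) + k * 2 = (k + 1) * k by
    rcases k with _ | j
    · rfl
    · rw [Nat.add_sub_cancel]; ring]
  linear_combination (2 * (Nat.card F : ℤ) ^ ((k + 1) * k)) * prod_shift_two (Nat.card F : ℤ) k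

end CfsgLib.Orth
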