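import Cfsg.Agent.Lib.Classical.SympTrans

set_option autoImplicit false

/-!
The order of the finite symplectic group, counting hyperbolic pairs along the standard basis.
-/

namespace CfsgLib.Classical.SympTrans

open Matrix Cfsg

variable {F : Type*} [Field F] {m : ℕ}

/-- The elements fixing the first `k` standard hyperbolic pairs. -/
def fixer (k : ℕ) : Subgroup (Matrix.symplecticGroup (Fin m) F) where
  carrier := {g | ∀ i : Fin m, (i : ℕ) < k → app g (Pi.single (.inl i) 1) = Pi.single (.inl i) 1 ∧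
    app g (Pi.single (.inr i) 1) = Pi.single (.inr i) 1}
  mul_mem' {a b} ha hb i hi := by
    rw [app_mul, app_mul, (hb i hi).1, (hb i hi).2]
    exact ha i hi
  one_mem' i _ := ⟨app_one _, app_one _⟩
  inv_mem' {a} ha i hi := by
    constructor
    · conv_lhs => rw [← (ha i hi).1, app_inv]
    · conv_lhs => rw [← (ha i hi).2, app_inv]

theorem fixer_zero : fixer (F := F) (m := m) 0 = ⊤ :=
  (Subgroup.eq_top_iff' _).2 fun _ _ h => absurd h (Nat.not_lt_zero _)

theorem fixer_top : fixer (F := F) (m := m) m = ⊥ := by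
  refine (Subgroup.eq_bot_iff_forall _).2 fun g hg => Subtype.ext (Matrix.ext_of_mulVec_single fun j => ?_)
  rcases j with i | i
  · exact ((hg i i.2).1).trans (one_mulVec _).symm
  · exact ((hg i i.2).2).trans (one_mulVec _).symm

theorem gen_le_fixer (k : ℕ) :
    gen ((W k : Submodule F (Fin m ⊕ Fin m → F)) : Set (Fin m ⊕ Fin m → F)) ≤ fixer k := by
  intro g hg i hi
  refine ⟨gen_fix (fun w hw => ?_) hg, gen_fix (fun w hw => ?_) hg⟩
  · rw [f_swap, f_inl, (hw i hi).2, neg_zero]
  · rw [f_swap, f_inr, (hw i hi).1, neg_zero, neg_zero]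

theorem fixer_W {k : ℕ} {g : Matrix.symplecticGroup (Fin m) F} (hg : g ∈ fixer k)
    {x : Fin m ⊕ Fin m → F} (hx : x ∈ W k) : app g x ∈ W k := fun i hi => by
  obtain ⟨e1, e2⟩ := hg i hi
  constructor
  · have h3 := f_app g x (Pi.single (.inr i) 1)
    rw [e2, f_inr, f_inr, (hx i hi).1] at h3
    simpa using h3
  · have h3 := f_app g x (Pi.single (.inl i) 1)
    rw [e1, f_inl, f_inl, (hx i hi).2] at h3
    exact h3

variable (F m) in
/-- The hyperbolic pairs in the space of the coordinates from `k` on. -/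
abbrev Pairs (k : ℕ) : Type _ :=
  Σ u : {u : (W k : Submodule F (Fin m ⊕ Fin m → F)) // u ≠ 0},
    {v : (W k : Submodule F (Fin m ⊕ Fin m → F)) //
      sympForm m F ((u : (W k : Submodule F (Fin m ⊕ Fin m → F))) : Fin m ⊕ Fin m → F) v = 1}

theorem W_single {k : ℕ} {i : Fin m} (hi : k ≤ i) :
    Pi.single (.inl i) (1 : F) ∈ W (m := m) k ∧ Pi.single (.inr i) (1 : F) ∈ W (m := m) k := by
  constructor <;> intro j hj <;>
  · have hne : j ≠ i := fun e => absurd (e ▸ hj) (not_lt.2 hi)
    constructor <;> simp [hne]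

theorem card_fixer_succ [Finite F] {k : ℕ} (hk : k < m) :
    Nat.card (fixer (F := F) (m := m) k) = Nat.card (Pairs F m k) * Nat.card (fixer (F := F) (m := m) (k + 1)) := by
  classical
  set i₀ : Fin m := ⟨k, hk⟩
  obtain ⟨hl, hr⟩ := W_single (F := F) (i := i₀) (k := k) le_rfl
  let φ : fixer (F := F) (m := m) k → Pairs F m k := fun g =>
    ⟨⟨⟨app (g : symplecticGroup (Fin m) F) (Pi.single (.inr i₀) 1), fixer_W g.2 hr⟩, fun h0 =>
        app_ne_zero _ (by simp : (Pi.single (.inr i₀) 1 : Fin m ⊕ Fin m → F) ≠ 0)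
          (congrArg Subtype.val h0)⟩,
      ⟨⟨app (g : symplecticGroup (Fin m) F) (Pi.single (.inl i₀) 1), fixer_W g.2 hl⟩, by
        show sympForm m F (app _ _) (app _ _) = 1
        rw [f_app, f_inl]; simp⟩⟩
  have hφ : ∀ a b : fixer (F := F) (m := m) k, φ a = φ b →
      app (a : symplecticGroup (Fin m) F) (Pi.single (.inr i₀) 1) = app (b : symplecticGroup (Fin m) F) (Pi.single (.inr i₀) 1) ∧
      app (a : symplecticGroup (Fin m) F) (Pi.single (.inl i₀) 1) = app (b : symplecticGroup (Fin m) F) (Pi.single (.inl i₀) 1) :=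
    fun a b h => ⟨congrArg (fun p : Pairs F m k => ((p.1.1 : Fin m ⊕ Fin m → F))) h,
      congrArg (fun p : Pairs F m k => ((p.2.1 : Fin m ⊕ Fin m → F))) h⟩
  have hex : ∀ p : Pairs F m k, ∃ g : fixer (F := F) (m := m) k, φ g = p := by
    rintro ⟨⟨⟨u, hu⟩, hu0⟩, ⟨⟨v, hv⟩, huv⟩⟩
    obtain ⟨g, hg, h1, h2⟩ := exists_move_pair hr hl hu hv (by rw [f_inl]; simp) huv
    refine ⟨⟨g, gen_le_fixer k hg⟩, ?_⟩
    subst h1 h2
    rfl
  choose s hs using hex
  have hmem : ∀ g, ((s (φ g))⁻¹ * g : fixer (F := F) (m := m) k).1 ∈ fixer (F := F) (m := m) (k + 1) := by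
    intro g i hi
    rcases Nat.lt_succ_iff_lt_or_eq.1 hi with hi | hi
    · exact ((s (φ g))⁻¹ * g).2 i hi
    · obtain rfl : i = i₀ := Fin.ext hi
      obtain ⟨e1, e2⟩ := hφ g (s (φ g)) (hs (φ g)).symm
      exact ⟨by rw [Subgroup.coe_mul, app_mul, e2, Subgroup.coe_inv, app_inv],
        by rw [Subgroup.coe_mul, app_mul, e1, Subgroup.coe_inv, app_inv]⟩
  have hle : fixer (F := F) (m := m) (k + 1) ≤ fixer k := fun g hg i hi => hg i (Nat.lt_succ_of_lt hi)
  have hback : ∀ p (h : fixer (F := F) (m := m) (k + 1)), φ (s p * ⟨h, hle h.2⟩) = p := by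
    intro p h
    conv_rhs => rw [← hs p]
    obtain ⟨e1, e2⟩ := h.2 i₀ (Nat.lt_succ_self k)
    refine Sigma.subtype_ext (Subtype.ext (Subtype.ext ?_)) (Subtype.ext ?_)
    · show app ((s p * ⟨h, hle h.2⟩ : fixer k) : symplecticGroup (Fin m) F) _ = app _ _
      rw [Subgroup.coe_mul, app_mul]
      exact congrArg _ e2
    · show app ((s p * ⟨h, hle h.2⟩ : fixer k) : symplecticGroup (Fin m) F) _ = app _ _
      rw [Subgroup.coe_mul, app_mul]
      exact congrArg _ e1
  rw [← Nat.card_prod]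
  exact Nat.card_congr
    { toFun := fun g => (φ g, ⟨_, hmem g⟩)
      invFun := fun p => s p.1 * ⟨p.2, hle p.2.2⟩
      left_inv := fun g => Subtype.ext (by simp)
      right_inv := fun p => by
        refine Prod.ext (hback _ _) (Subtype.ext ?_)
        show ((s (φ (s p.1 * ⟨p.2, hle p.2.2⟩)))⁻¹ * (s p.1 * ⟨p.2, hle p.2.2⟩) : fixer k).1 = _
        rw [hback, inv_mul_cancel_left] }

theorem card_W [Finite F] {k : ℕ} (hk : k ≤ m) :
    Nat.card (W k : Submodule F (Fin m ⊕ Fin m → F)) = Nat.card F ^ (2 * (m - k)) := by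
  let e : (W k : Submodule F (Fin m ⊕ Fin m → F)) ≃ ({i : Fin m // k ≤ (i : ℕ)} ⊕ {i : Fin m // k ≤ (i : ℕ)} → F) :=
    { toFun := fun x => Sum.elim (fun i => (x : Fin m ⊕ Fin m → F) (.inl i)) fun i => (x : Fin m ⊕ Fin m → F) (.inr i)
      invFun := fun y => ⟨Sum.elim (fun i => if h : k ≤ (i : ℕ) then y (.inl ⟨i, h⟩) else 0)
        (fun i => if h : k ≤ (i : ℕ) then y (.inr ⟨i, h⟩) else 0), fun i hi => by
          simp [not_le.2 hi]⟩
      left_inv := fun x => by
        ext (i | i) <;> by_cases h : k ≤ (i : ℕ) <;>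
          simp [h, (x.2 i _).1, (x.2 i _).2, not_le.1]
      right_inv := fun y => by ext (i | i) <;> simp [i.2] }
  rw [Nat.card_congr e, Nat.card_fun, Nat.card_sum]
  have hc : Nat.card {i : Fin m // k ≤ (i : ℕ)} = m - k := by
    rw [Nat.card_eq_fintype_card, Fintype.card_subtype]
    rcases eq_or_lt_of_le hk with rfl | hk'
    · simp
    · rw [show (Finset.univ.filter fun i : Fin m => k ≤ (i : ℕ)) = Finset.Ici ⟨k, hk'⟩ by ext; simp [Fin.le_def],
        Fin.card_Ici]
  rw [hc, two_mul]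

theorem card_pairs [Finite F] {k : ℕ} (hk : k < m) :
    Nat.card (Pairs F m k) = (Nat.card F ^ (2 * (m - k)) - 1) * Nat.card F ^ (2 * (m - k) - 1) := by
  classical
  set q := Nat.card F
  have hfib : ∀ u : {u : (W k : Submodule F (Fin m ⊕ Fin m → F)) // u ≠ 0},
      Nat.card {v : (W k : Submodule F (Fin m ⊕ Fin m → F)) //
        sympForm m F ((u : (W k : Submodule F (Fin m ⊕ Fin m → F))) : Fin m ⊕ Fin m → F) v = 1} =
        q ^ (2 * (m - k) - 1) := by
    rintro ⟨⟨u, hu⟩, hu0⟩
    obtain ⟨z, hz, huz⟩ := exists_f_ne hu fun h0 => hu0 (Subtype.ext h0)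
    let L : (W k : Submodule F (Fin m ⊕ Fin m → F)) →+ F :=
      AddMonoidHom.mk' (fun v => sympForm m F u v) fun a b => f_add_right u _ _
    let v₀ : (W k : Submodule F (Fin m ⊕ Fin m → F)) :=
      (sympForm m F u z)⁻¹ • ⟨z, hz⟩
    have hv₀ : L v₀ = 1 := by
      show sympForm m F u (_ • z) = 1
      rw [f_smul_right, inv_mul_cancel₀ huz]
    have hL : Function.Surjective L := fun c => ⟨c • v₀, by
      show sympForm m F u (c • (v₀ : Fin m ⊕ Fin m → F)) = c
      rw [f_smul_right]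
      exact (congrArg (c * ·) hv₀).trans (mul_one c)⟩
    have h1 := AddSubgroup.card_eq_card_quotient_mul_card_addSubgroup L.ker
    rw [Nat.card_congr (QuotientAddGroup.quotientKerEquivOfSurjective L hL).toEquiv, card_W hk.le] at h1
    have he : {v : (W k : Submodule F (Fin m ⊕ Fin m → F)) // sympForm m F u v = 1} ≃ L.ker :=
      { toFun := fun v => ⟨v.1 - v₀, by
          rw [AddMonoidHom.mem_ker, map_sub, hv₀, show L v.1 = 1 from v.2, sub_self]⟩
        invFun := fun v => ⟨v.1 + v₀, by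
          show L (v.1 + v₀) = 1
          rw [map_add, show L v.1 = 0 from v.2, hv₀, zero_add]⟩
        left_inv := fun v => by simp
        right_inv := fun v => by simp }
    rw [Nat.card_congr he]
    have hq : 0 < q := Nat.card_pos
    refine Nat.eq_of_mul_eq_mul_left hq (h1.symm.trans ?_)
    rw [← pow_succ', Nat.sub_add_cancel (by omega)]
  have : Fintype {u : (W k : Submodule F (Fin m ⊕ Fin m → F)) // u ≠ 0} := Fintype.ofFinite _
  rw [Nat.card_sigma, Finset.sum_congr rfl (fun u _ => hfib u), Finset.sum_const, smul_eq_mul,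
    Finset.card_univ, ← Nat.card_eq_fintype_card]
  congr 1
  have := Fintype.ofFinite (W k : Submodule F (Fin m ⊕ Fin m → F))
  rw [Nat.card_eq_fintype_card, Fintype.card_subtype_compl, Fintype.card_subtype_eq,
    ← Nat.card_eq_fintype_card, card_W hk.le]

theorem card_fixer [Finite F] : ∀ j ≤ m, Nat.card (fixer (F := F) (m := m) (m - j)) =
    Nat.card F ^ (j ^ 2) * ∏ i ∈ Finset.range j, (Nat.card F ^ (2 * (i + 1)) - 1) := by
  intro j
  induction j with
  | zero => intro _; rw [Nat.sub_zero, fixer_top]; simp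
  | succ j ih =>
    intro hj
    rw [card_fixer_succ (by omega), card_pairs (by omega), show m - (j + 1) + 1 = m - j by omega,
      ih (by omega), show m - (m - (j + 1)) = j + 1 by omega, Finset.prod_range_succ,
      show (j + 1) ^ 2 = (2 * (j + 1) - 1) + j ^ 2 by
        have : (j + 1) ^ 2 = j ^ 2 + (2 * j + 1) := by ring
        omega, pow_add]
    ring

/-- The order of `Sp_{2m}(q)`. -/
theorem card_symplectic [Finite F] : Nat.card (symplecticGroup (Fin m) F) =
    Nat.card F ^ (m ^ 2) * ∏ i ∈ Finset.range m, (Nat.card F ^ (2 * (i + 1)) - 1) := by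
  have h := card_fixer (F := F) m le_rfl
  rw [Nat.sub_self, fixer_zero, Subgroup.card_top] at h
  exact h

end CfsgLib.Classical.SympTrans
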