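import Mathlib
import Cfsg.Agent.Lib.Classical.Card

set_option autoImplicit false

/-!
Small exceptional isomorphisms of `PSL_2` obtained from the action on the projective line.
-/

namespace CfsgLib.Classical

open Matrix
open scoped LinearAlgebra.Projectivization

variable {F : Type*} [Field F] [Fintype F]

/-- `PSL_2(q)` embeds in `S_{q+1}`. -/
theorem exists_PSL_two_to_perm :
    ∃ f : ProjectiveSpecialLinearGroup (Fin 2) F →* Equiv.Perm (Fin (Fintype.card F + 1)),
      Function.Injective f := by
  have hc : Nat.card (ℙ F (Fin 2 → F)) = Fintype.card F + 1 := by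
    rw [Projectivization.card_of_finrank_two F (Fin 2 → F) (by simp), Nat.card_eq_fintype_card]
  have : Finite (ℙ F (Fin 2 → F)) := Nat.finite_of_card_ne_zero (by omega)
  let e := (Finite.equivFin (ℙ F (Fin 2 → F))).trans (finCongr hc)
  refine ⟨e.permCongrHom.toMonoidHom.comp Projectivization.PSLAction.toPermHom,
    e.permCongrHom.injective.comp Matrix.ProjectiveSpecialLinearGroup.toPermHom_injective⟩

theorem PSL_two_equiv_alternating {n : ℕ} (hn : Fintype.card F + 1 = n)
    (hcard : 2 * Nat.card (ProjectiveSpecialLinearGroup (Fin 2) F) = n.factorial) :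
    Nonempty (ProjectiveSpecialLinearGroup (Fin 2) F ≃* alternatingGroup (Fin n)) := by
  subst hn
  obtain ⟨f, hf⟩ := exists_PSL_two_to_perm (F := F)
  have h1 : Nat.card f.range = Nat.card (ProjectiveSpecialLinearGroup (Fin 2) F) :=
    (Nat.card_congr (MonoidHom.ofInjective hf).toEquiv).symm
  have h2 := f.range.card_mul_index
  rw [h1, Nat.card_perm, Nat.card_fin, ← hcard, mul_comm 2 _] at h2
  have h3 : f.range.index = 2 := Nat.eq_of_mul_eq_mul_left Nat.card_pos h2
  rw [← Equiv.Perm.eq_alternatingGroup_of_index_eq_two h3]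
  exact ⟨MonoidHom.ofInjective hf⟩

/-- `SL_2(2) ≅ S_3`. -/
theorem SL_two_equiv_perm_of_card_two (hF : Fintype.card F = 2) :
    Nonempty (SpecialLinearGroup (Fin 2) F ≃* Equiv.Perm (Fin 3)) := by
  obtain ⟨f, hf⟩ := exists_PSL_two_to_perm (F := F)
  have hZ : Subgroup.center (SpecialLinearGroup (Fin 2) F) = ⊥ := by
    rw [← Subgroup.card_eq_one, card_center_SL, Nat.card_eq_fintype_card, hF]
    simp
  let e : Equiv.Perm (Fin (Fintype.card F + 1)) ≃* Equiv.Perm (Fin 3) :=
    (finCongr (by rw [hF])).permCongrHom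
  let g := e.toMonoidHom.comp (f.comp (QuotientGroup.mk' (Subgroup.center (SpecialLinearGroup (Fin 2) F))))
  have hg : Function.Injective g := by
    refine e.injective.comp (hf.comp ?_)
    rw [← MonoidHom.ker_eq_bot_iff, QuotientGroup.ker_mk', hZ]
  refine ⟨MulEquiv.ofBijective g ((Nat.bijective_iff_injective_and_card g).mpr ⟨hg, ?_⟩)⟩
  rw [card_SL_two, hF, Nat.card_perm, Nat.card_fin]
  rfl

end CfsgLib.Classical
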