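import Mathlib

set_option autoImplicit false

/-!
Central quotients of perfect groups have the same central quotient.
-/

namespace CfsgLib.Classical

/-- Grün: central extensions do not change the central quotient if `G` has no map to its centre. -/
theorem center_quotient_equiv_of_hom {G H : Type*} [Group G] [Group H]
    (hhom : ∀ φ : G →* Subgroup.center G, φ = 1) (f : G →* H)
    (hf : Function.Surjective f) (hker : f.ker ≤ Subgroup.center G) :
    Nonempty (G ⧸ Subgroup.center G ≃* H ⧸ Subgroup.center H) := by
  have hpre : (Subgroup.center H).comap f = Subgroup.center G := by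
    refine le_antisymm (fun x hx => ?_) fun x hx => ?_
    · have hc : ∀ g : G, g * x * g⁻¹ * x⁻¹ ∈ Subgroup.center G := fun g => hker <| by
        rw [MonoidHom.mem_ker, map_mul, map_mul, map_mul, map_inv, map_inv,
          Subgroup.mem_center_iff.1 hx (f g)]
        group
      let φ : G →* Subgroup.center G := MonoidHom.mk' (fun g => ⟨_, hc g⟩) fun a b => Subtype.ext (by
        show a * b * x * (a * b)⁻¹ * x⁻¹ = (a * x * a⁻¹ * x⁻¹) * (b * x * b⁻¹ * x⁻¹)
        have hb := Subgroup.mem_center_iff.1 (hc b) a
        calc a * b * x * (a * b)⁻¹ * x⁻¹ = a * (b * x * b⁻¹ * x⁻¹) * (x * a⁻¹ * x⁻¹) := by group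
          _ = (b * x * b⁻¹ * x⁻¹) * (a * x * a⁻¹ * x⁻¹) := by rw [hb]; group
          _ = _ := (Subgroup.mem_center_iff.1 (hc b) _).symm)
      have hk : φ.ker = ⊤ := by rw [hhom φ, MonoidHom.ker_one]
      refine Subgroup.mem_center_iff.2 fun g => ?_
      have h1 : g * x * g⁻¹ * x⁻¹ = 1 :=
        congrArg Subtype.val (MonoidHom.mem_ker.1 (show g ∈ φ.ker by rw [hk]; trivial) : φ g = 1)
      exact mul_inv_eq_iff_eq_mul.1 (mul_inv_eq_one.1 h1)
    · refine Subgroup.mem_center_iff.2 fun h => ?_
      obtain ⟨g, rfl⟩ := hf h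
      rw [← map_mul, ← map_mul, Subgroup.mem_center_iff.1 hx g]
  let F := (QuotientGroup.mk' (Subgroup.center H)).comp f
  have hF : F.ker = Subgroup.center G := by
    refine Eq.trans ?_ hpre
    rw [← MonoidHom.comap_ker, QuotientGroup.ker_mk']
  exact ⟨(QuotientGroup.quotientMulEquivOfEq hF.symm).trans
    (QuotientGroup.quotientKerEquivOfSurjective F ((QuotientGroup.mk'_surjective _).comp hf))⟩

/-- Grün: for a perfect group a central extension does not change the central quotient. -/
theorem center_quotient_equiv {G H : Type*} [Group G] [Group H] (hperf : commutator G = ⊤) (f : G →* H)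
    (hf : Function.Surjective f) (hker : f.ker ≤ Subgroup.center G) :
    Nonempty (G ⧸ Subgroup.center G ≃* H ⧸ Subgroup.center H) := by
  refine center_quotient_equiv_of_hom (fun φ => ?_) f hf hker
  rw [← MonoidHom.ker_eq_top_iff, eq_top_iff, ← hperf]
  rw [commutator_def, Subgroup.commutator_le]
  intro a _ b _
  rw [MonoidHom.mem_ker, map_commutatorElement, commutatorElement_eq_one_iff_commute]
  exact Subtype.ext (Subgroup.mem_center_iff.1 (φ b).2 _)

end CfsgLib.Classical
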