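import Cfsg.Agent.Lib.Classical.OmegaTests
import Cfsg.Agent.Lib.Classical.OrthOrderStd
import Cfsg.Agent.Lib.Classical.Card
import Cfsg.Agent.Lib.Classical.Transvection
import Cfsg.Agent.Lib.Classical.CenterQuot

set_option autoImplicit false

/-!
The Klein correspondence: `SL_4(F)` maps onto `Ω^+_6(F)` with kernel `±1`.
-/

namespace CfsgLib.Classical.Klein

open Matrix

variable {F : Type*} [Field F]

/-- The pair of indices of a Plücker coordinate. -/
def pr : Fin 3 ⊕ Fin 3 → Fin 4 × Fin 4 :=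
  Sum.elim ![(0, 1), (0, 2), (0, 3)] ![(2, 3), (3, 1), (1, 2)]

/-- Plücker coordinates. -/
def wedge (u v : Fin 4 → F) (s : Fin 3 ⊕ Fin 3) : F :=
  u (pr s).1 * v (pr s).2 - u (pr s).2 * v (pr s).1

/-- The second compound matrix. -/
def comp (M : Matrix (Fin 4) (Fin 4) F) : Matrix (Fin 3 ⊕ Fin 3) (Fin 3 ⊕ Fin 3) F :=
  fun s t => wedge (fun i => M i (pr t).1) (fun i => M i (pr t).2) s

theorem comp_wedge (M : Matrix (Fin 4) (Fin 4) F) (u v : Fin 4 → F) :
    comp M *ᵥ wedge u v = wedge (M *ᵥ u) (M *ᵥ v) := by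
  funext s
  rcases s with s | s <;> fin_cases s <;>
    (simp [comp, Matrix.mulVec, dotProduct, wedge, pr, Fintype.sum_sum_type, Fin.sum_univ_four,
      Fin.sum_univ_three]; ring)

theorem wedge_single (t : Fin 3 ⊕ Fin 3) :
    wedge (Pi.single (pr t).1 (1 : F)) (Pi.single (pr t).2 1) = Pi.single t 1 := by
  funext s
  rcases t with t | t <;> fin_cases t <;> rcases s with s | s <;> fin_cases s <;> simp [wedge, pr]

theorem comp_mul (M N : Matrix (Fin 4) (Fin 4) F) : comp (M * N) = comp M * comp N := by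
  refine Matrix.ext_of_mulVec_single fun t => ?_
  rw [← Matrix.mulVec_mulVec, ← wedge_single, comp_wedge, comp_wedge, comp_wedge,
    Matrix.mulVec_mulVec, Matrix.mulVec_mulVec]

theorem comp_one : comp (1 : Matrix (Fin 4) (Fin 4) F) = 1 := by
  refine Matrix.ext_of_mulVec_single fun t => ?_
  rw [← wedge_single, comp_wedge, Matrix.one_mulVec, Matrix.one_mulVec, Matrix.one_mulVec]

theorem comp_isometry (M : Matrix (Fin 4) (Fin 4) F) (x : Fin 3 ⊕ Fin 3 → F) :
    Cfsg.quadFormPlus 3 F (comp M *ᵥ x) = M.det * Cfsg.quadFormPlus 3 F x := by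
  simp [Cfsg.quadFormPlus, comp, Matrix.mulVec, dotProduct, wedge, pr, Fintype.sum_sum_type,
    Fin.sum_univ_three, Matrix.det_succ_row_zero, Fin.sum_univ_four, Fin.succAbove]
  ring

/-- The homomorphism to the orthogonal group. -/
theorem exists_hom : ∃ φ : SpecialLinearGroup (Fin 4) F →*
    Cfsg.isometryGroup F (Cfsg.quadFormPlus 3 F),
    ∀ g : SpecialLinearGroup (Fin 4) F,
      ((φ g : GL (Fin 3 ⊕ Fin 3) F) : Matrix (Fin 3 ⊕ Fin 3) (Fin 3 ⊕ Fin 3) F) = comp g.1 := by
  let M : SpecialLinearGroup (Fin 4) F →* Matrix (Fin 3 ⊕ Fin 3) (Fin 3 ⊕ Fin 3) F :=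
    { toFun := fun g => comp g.1
      map_one' := comp_one
      map_mul' := fun a b => comp_mul a.1 b.1 }
  refine ⟨M.toHomUnits.codRestrict _ fun g x _ => ?_, fun g => rfl⟩
  show Cfsg.quadFormPlus 3 F (comp g.1 *ᵥ x) = _
  rw [comp_isometry, g.2, one_mul]

theorem ker_scalar (g : Matrix (Fin 4) (Fin 4) F) (hg : comp g = 1) :
    ∃ c : F, c * c = 1 ∧ g = c • (1 : Matrix (Fin 4) (Fin 4) F) := by
  have key : ∀ i j : Fin 4, wedge (fun r => g r i) (fun r => g r j) =
      wedge (Pi.single i (1 : F)) (Pi.single j 1) := fun i j => by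
    have h := comp_wedge g (Pi.single i 1) (Pi.single j 1)
    rw [hg, Matrix.one_mulVec, Matrix.mulVec_single_one, Matrix.mulVec_single_one] at h
    exact h.symm
  have hW : ∀ i j a b : Fin 4, g a i * g b j - g b i * g a j =
      (Pi.single i 1 : Fin 4 → F) a * (Pi.single j 1 : Fin 4 → F) b -
        (Pi.single i 1 : Fin 4 → F) b * (Pi.single j 1 : Fin 4 → F) a := fun i j a b => by
    have h0 := congrFun (key i j) (.inl 0)
    have h1 := congrFun (key i j) (.inl 1)
    have h2 := congrFun (key i j) (.inl 2)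
    have h3 := congrFun (key i j) (.inr 0)
    have h4 := congrFun (key i j) (.inr 1)
    have h5 := congrFun (key i j) (.inr 2)
    simp only [wedge, pr, Sum.elim_inl, Sum.elim_inr, Matrix.cons_val_zero, Matrix.cons_val_one,
      Matrix.cons_val_two, Matrix.head_cons, Matrix.tail_cons] at h0 h1 h2 h3 h4 h5
    fin_cases a <;> fin_cases b <;> (try simp only [Fin.reduceFinMk, Fin.zero_eta, Fin.mk_one]) <;> first
      | (simp; done)
      | linear_combination h0
      | linear_combination h1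
      | linear_combination h2
      | linear_combination h3
      | linear_combination h4
      | linear_combination h5
      | linear_combination -h0
      | linear_combination -h1
      | linear_combination -h2
      | linear_combination -h3
      | linear_combination -h4
      | linear_combination -h5
      | ring
  have hoff : ∀ i k : Fin 4, k ≠ i → g k i = 0 := by
    intro i k hki
    obtain ⟨j, hji, hjk⟩ : ∃ j : Fin 4, j ≠ i ∧ j ≠ k :=
      (by decide : ∀ a b : Fin 4, ∃ j : Fin 4, j ≠ a ∧ j ≠ b) i k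
    have e1 := hW i j i j
    have e2 := hW i j k j
    have e3 := hW i j k i
    simp [hki, hjk, hjk.symm, hji, hji.symm, Pi.single_apply] at e1 e2 e3
    linear_combination -(g k i) * e1 + (g i i) * e2 - (g j i) * e3
  have hdiag : ∀ i j : Fin 4, i ≠ j → g i i * g j j = 1 := fun i j hij => by
    have e := hW i j i j
    simp [hij, hij.symm, Pi.single_apply, hoff i j hij.symm] at e
    linear_combination e
  have h01 := hdiag 0 1 (by decide)
  have h02 := hdiag 0 2 (by decide)
  have h03 := hdiag 0 3 (by decide)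
  have h12 := hdiag 1 2 (by decide)
  have e12 : g 2 2 = g 1 1 := by linear_combination (g 1 1) * h02 - (g 2 2) * h01
  have e13 : g 3 3 = g 1 1 := by linear_combination (g 1 1) * h03 - (g 3 3) * h01
  have hsq : g 1 1 * g 1 1 = 1 := by rw [e12] at h12; exact h12
  have e10 : g 0 0 = g 1 1 := by linear_combination (g 1 1) * h01 - (g 0 0) * hsq
  refine ⟨g 1 1, hsq, ?_⟩
  ext a b
  rcases eq_or_ne a b with rfl | hab
  · rw [Matrix.smul_apply, Matrix.one_apply_eq, smul_eq_mul, mul_one]
    fin_cases a <;> simp [e12, e13, e10]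
  · rw [Matrix.smul_apply, Matrix.one_apply_ne hab, smul_zero, hoff b a hab]

open CfsgLib.Orth in
theorem exists_onto [Fintype F] : ∃ f : SpecialLinearGroup (Fin 4) F →*
    Cfsg.Omega F (Cfsg.quadFormPlus 3 F), Function.Surjective f ∧
      f.ker ≤ Subgroup.center (SpecialLinearGroup (Fin 4) F) := by
  classical
  obtain ⟨φ, hφ⟩ := exists_hom (F := F)
  have hperf := commutator_SL_eq_top (F := F) (ι := Fin 4) (Or.inl (by simp))
  have hrange : φ.range ≤ Cfsg.Omega F (Cfsg.quadFormPlus 3 F) := by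
    rw [MonoidHom.range_eq_map, ← hperf]
    show _ ≤ commutator _
    rw [commutator_def, commutator_def, Subgroup.map_commutator]
    exact Subgroup.commutator_mono le_top le_top
  let f := φ.codRestrict (Cfsg.Omega F (Cfsg.quadFormPlus 3 F)) fun g => hrange ⟨g, rfl⟩
  have hker' : ∀ g ∈ f.ker, ∃ c : F, c * c = 1 ∧ g.1 = c • (1 : Matrix (Fin 4) (Fin 4) F) := fun g hg => by
    refine ker_scalar g.1 ?_
    rw [← hφ]
    have := congrArg Subtype.val (MonoidHom.mem_ker.1 hg)
    exact congrArg (fun x : Cfsg.isometryGroup F (Cfsg.quadFormPlus 3 F) =>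
      ((x : GL (Fin 3 ⊕ Fin 3) F) : Matrix (Fin 3 ⊕ Fin 3) (Fin 3 ⊕ Fin 3) F)) this
  refine ⟨f, ?_, fun g hg => ?_⟩
  swap
  · obtain ⟨c, -, hc⟩ := hker' g hg
    refine Subgroup.mem_center_iff.2 fun s => Subtype.ext ?_
    show s.1 * g.1 = g.1 * s.1
    rw [hc, Matrix.mul_smul, Matrix.smul_mul, Matrix.mul_one, Matrix.one_mul]
  -- counting
  obtain ⟨Q, hQ, hB⟩ := exists_quadForm_plus (F := F) 3
  have hO := card_orth_plus 3 (by norm_num) hQ hB
  have hn : 2 ≤ Module.finrank F (Fin 3 ⊕ Fin 3 → F) := by simp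
  have hex : Module.finrank F (Fin 3 ⊕ Fin 3 → F) = 4 → Nat.card F ≠ 2 := by simp
  obtain ⟨k, hk, hidx⟩ : ∃ k : ℕ, Nat.card f.ker ≤ k ∧ (Cfsg.Omega F ⇑Q).index = 2 * k := by
    by_cases h2 : (2 : F) = 0
    · refine ⟨1, ?_, ?_⟩
      · refine (Finite.card_le_one_iff_subsingleton).2 ⟨fun a b => ?_⟩
        have : ∀ x : f.ker, x = 1 := fun x => by
          obtain ⟨c, hc, hx⟩ := hker' x.1 x.2
          have : c = 1 := sub_eq_zero.1 (mul_self_eq_zero.1 (by linear_combination hc + (1 - c) * h2))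
          exact Subtype.ext (Subtype.ext (by rw [hx, this, one_smul]; rfl))
        rw [this a, this b]
      · rw [omega_eq_ker_dickson hB h2 (by simp) hex, Subgroup.index_ker]
        obtain ⟨v, hv⟩ := exists_aniso hB (by simp)
        obtain ⟨r, hr⟩ := exists_refl hB hv
        have htop : (dickson hB).range = ⊤ := by
          refine eq_top_iff.2 fun u _ => ?_
          rcases Int.units_eq_one_or u with e | e <;> subst e
          · exact one_mem _
          · exact ⟨r, dickson_refl hB hr⟩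
        rw [htop]
        simp
    · refine ⟨2, ?_, ?_⟩
      · obtain ⟨hsub, -⟩ : Function.Injective (fun x : f.ker => decide ((x.1.1 : Matrix (Fin 4) (Fin 4) F) = 1)) ∧ True := by
          refine ⟨fun a b hab => ?_, trivial⟩
          obtain ⟨c, hc, ha⟩ := hker' a.1 a.2
          obtain ⟨d, hd, hb⟩ := hker' b.1 b.2
          refine Subtype.ext (Subtype.ext ?_)
          simp only [decide_eq_decide] at hab
          have h11 : (-1 : F) ≠ 1 := fun e => h2 (by linear_combination -e)
          have hne : ((-1 : F) • (1 : Matrix (Fin 4) (Fin 4) F)) ≠ 1 := fun e => h11 (by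
            simpa using congrFun (congrFun e 0) 0)
          rcases mul_self_eq_one_iff.1 hc with rfl | rfl <;> rcases mul_self_eq_one_iff.1 hd with rfl | rfl
          · rw [ha, hb]
          · exfalso; exact hne (hb ▸ hab.1 (by rw [ha, one_smul]))
          · exfalso; exact hne (ha ▸ hab.2 (by rw [hb, one_smul]))
          · rw [ha, hb]
        exact (Nat.card_le_card_of_injective _ hsub).trans (by simp)
      · obtain ⟨h1, htop, -⟩ := omega_eq_ker_psi hB h2 hn (one_ne_zero (α := F))
        rw [h1, Subgroup.index_ker, htop]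
        simp
  have hcardSL := sub_one_mul_card_SL (F := F) (n := 4) (by norm_num)
  have hΩ := Subgroup.index_mul_card (Cfsg.Omega F ⇑Q)
  rw [show Nat.card ↥(Cfsg.isometryGroup F ⇑Q) = Nat.card (Grp Q) from rfl, hO, hidx] at hΩ
  rw [← MonoidHom.range_eq_top]
  refine Subgroup.eq_top_of_le_card _ ?_
  have hker := Subgroup.card_eq_card_quotient_mul_card_subgroup f.ker
  rw [Nat.card_congr (QuotientGroup.quotientKerEquivRange f).toEquiv] at hker
  rw [hQ] at hΩ
  set q := Nat.card F with hqdef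
  have hq : 2 ≤ q := Finite.one_lt_card
  have hSL : Nat.card (SpecialLinearGroup (Fin 4) F) = q ^ 6 * ((q ^ 3 - 1) * ((q ^ 2 - 1) * (q ^ 4 - 1))) := by
    rw [← Nat.card_eq_fintype_card, ← hqdef, Fin.prod_univ_four] at hcardSL
    simp only [Fin.val_zero, Fin.val_one, Fin.val_two, show ((3 : Fin 4) : ℕ) = 3 from rfl] at hcardSL
    refine Nat.eq_of_mul_eq_mul_left (by omega : 0 < q - 1) (hcardSL.trans ?_)
    have e2 : q ^ 4 - q ^ 1 = q * (q ^ 3 - 1) := by rw [Nat.mul_sub]; ring_nf
    have e3 : q ^ 4 - q ^ 2 = q ^ 2 * (q ^ 2 - 1) := by rw [Nat.mul_sub]; ring_nf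
    have e4 : q ^ 4 - q ^ 3 = q ^ 3 * (q - 1) := by rw [Nat.mul_sub]; ring_nf
    rw [e2, e3, e4, pow_zero]
    ring
  simp only [show (3 : ℕ) - 1 = 2 from rfl, Finset.prod_range_succ, Finset.prod_range_zero, one_mul] at hΩ
  have e : k * Nat.card ↥(Cfsg.Omega F (Cfsg.quadFormPlus 3 F)) = Nat.card f.range * Nat.card f.ker := by
    rw [← hker, hSL]
    refine Nat.eq_of_mul_eq_mul_left (by norm_num : 0 < 2) ?_
    rw [← mul_assoc, hΩ]
    norm_num
    ring
  have hpos : 0 < k := lt_of_lt_of_le Nat.card_pos hk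
  refine Nat.le_of_mul_le_mul_left ?_ hpos
  rw [e, mul_comm k]
  exact Nat.mul_le_mul_left _ hk

/-- `PΩ^+_6(F) ≅ PSL_4(F)`. -/
theorem pomega_six_equiv [Fintype F] : Nonempty
    (Cfsg.POmega F (Cfsg.quadFormPlus 3 F) ≃* ProjectiveSpecialLinearGroup (Fin 4) F) := by
  obtain ⟨f, hf, hker⟩ := exists_onto (F := F)
  obtain ⟨e⟩ := center_quotient_equiv (commutator_SL_eq_top (F := F) (ι := Fin 4) (Or.inl (by simp))) f hf hker
  exact ⟨e.symm⟩

end CfsgLib.Classical.Klein
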