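import Cfsg.Agent.Lib.Classical.SymmSymp
import Cfsg.Agent.Lib.Classical.OrthOrderStd

set_option autoImplicit false

/-!
`S_8 = O^+_6(2)` and `S_5 = O^-_4(2)`.
-/

namespace CfsgLib.Classical.SymmOrth

open Matrix CfsgLib.Classical.SymmSymp

theorem iso_transfer {F K : Type*} [Field F] [Field K] {ι : Type} [Fintype ι] [DecidableEq ι]
    (φ : F ≃+* K) (QF : (ι → F) → F) (QK : (ι → K) → K) (h : ∀ v, φ (QF v) = QK (φ ∘ v)) :
    Nonempty (Cfsg.isometryGroup F QF ≃* Cfsg.isometryGroup K QK) := by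
  let Φ : GL ι F ≃* GL ι K := Units.mapEquiv φ.mapMatrix.toMulEquiv
  have hΦ : ∀ (g : GL ι F) (u : ι → F),
      φ ∘ ((g : Matrix ι ι F) *ᵥ u) = (Φ g : Matrix ι ι K) *ᵥ (φ ∘ u) := fun g u => by
    funext i
    simp [Φ, Matrix.mulVec, dotProduct, map_sum]
  have e : (Cfsg.isometryGroup F QF).map Φ.toMonoidHom = Cfsg.isometryGroup K QK := by
    ext g
    rw [Subgroup.mem_map_equiv]
    have hg : Φ (Φ.symm g) = g := Φ.apply_symm_apply g
    constructor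
    · intro hm u v
      show QK ((g : Matrix ι ι K) *ᵥ u) = QK u
      have e1 : φ ∘ (φ.symm ∘ u) = u := funext fun i => φ.apply_symm_apply _
      conv_lhs => rw [← hg, ← e1, ← hΦ, ← h]
      conv_rhs => rw [← e1, ← h]
      exact congrArg φ (hm (φ.symm ∘ u) (φ.symm ∘ v))
    · intro hm u v
      show QF (((Φ.symm g : GL ι F) : Matrix ι ι F) *ᵥ u) = QF u
      apply φ.injective
      rw [h, h, hΦ, hg]
      exact hm (φ ∘ u) (φ ∘ v)
  exact ⟨(Subgroup.equivMapOfInjective _ Φ.toMonoidHom Φ.injective).trans (MulEquiv.subgroupCongr e)⟩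

/-- `wt / 2`. -/
def qw {N : ℕ} (y : Fin N → ZMod 2) : ZMod 2 :=
  (((Finset.univ.filter fun i => y i = 1).card / 2 : ℕ) : ZMod 2)

theorem qw_perm {N : ℕ} (σ : Equiv.Perm (Fin N)) (y : Fin N → ZMod 2) : qw (y ∘ σ) = qw y := by
  unfold qw
  congr 2
  exact Finset.card_bij' (fun i _ => σ i) (fun i _ => σ.symm i) (by simp) (by simp) (by simp) (by simp)

section General

variable {N : ℕ} {ι : Type} [Fintype ι] [DecidableEq ι] (b : ι → Fin N → ZMod 2) (τ : ι → ι)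

/-- Coordinates to vectors. -/
def emb : (ι → ZMod 2) →ₗ[ZMod 2] (Fin N → ZMod 2) where
  toFun x k := ∑ i, x i * b i k
  map_add' x y := funext fun k => by simp [add_mul, Finset.sum_add_distrib]
  map_smul' c x := funext fun k => by simp [Finset.mul_sum, mul_assoc]

/-- Vectors to coordinates, by the dual basis `b ∘ τ`. -/
def ret : (Fin N → ZMod 2) →ₗ[ZMod 2] (ι → ZMod 2) where
  toFun y i := ∑ k, y k * b (τ i) k
  map_add' x y := funext fun i => by simp [add_mul, Finset.sum_add_distrib]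
  map_smul' c x := funext fun i => by simp [Finset.mul_sum, mul_assoc]

theorem nonempty_equiv (P : Equiv.Perm (Fin N) → (Fin N → ZMod 2) →ₗ[ZMod 2] (Fin N → ZMod 2))
    (K : Set (Fin N → ZMod 2)) (Qb : (ι → ZMod 2) → ZMod 2)
    (hmul : ∀ s t y, P (s * t) y = P s (P t y)) (hone : ∀ y ∈ K, P 1 y = y)
    (hP : ∀ s, ∀ y ∈ K, P s y ∈ K) (he : ∀ x, emb b x ∈ K) (hRe : ∀ x, ret b τ (emb b x) = x)
    (heR : ∀ y ∈ K, emb b (ret b τ y) = y) (hQ : ∀ x, qw (emb b x) = Qb x)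
    (hq : ∀ s, ∀ y ∈ K, qw (P s y) = qw y) (hfaith : ∀ s, (∀ y ∈ K, P s y = y) → s = 1)
    (hcard : Nat.card (Cfsg.isometryGroup (ZMod 2) Qb) = Nat.factorial N) :
    Nonempty (Cfsg.isometryGroup (ZMod 2) Qb ≃* Equiv.Perm (Fin N)) := by
  let M : Equiv.Perm (Fin N) → Matrix ι ι (ZMod 2) := fun s =>
    LinearMap.toMatrix' (ret b τ ∘ₗ P s ∘ₗ emb b)
  have hM : ∀ s x, M s *ᵥ x = ret b τ (P s (emb b x)) := fun s x => by
    rw [← Matrix.toLin'_apply, Matrix.toLin'_toMatrix']; rfl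
  let hom : Equiv.Perm (Fin N) →* Matrix ι ι (ZMod 2) :=
    { toFun := M
      map_one' := Matrix.ext_of_mulVec_single fun i => by
        rw [hM, hone _ (he _), hRe, Matrix.one_mulVec]
      map_mul' := fun s t => Matrix.ext_of_mulVec_single fun i => by
        rw [← Matrix.mulVec_mulVec, hM, hM, hM, hmul, heR _ (hP t _ (he _))] }
  have hiso : ∀ s, hom.toHomUnits s ∈ Cfsg.isometryGroup (ZMod 2) Qb := fun s x _ => by
    show Qb (M s *ᵥ x) = Qb x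
    rw [hM, ← hQ, ← hQ, heR _ (hP s _ (he _)), hq s _ (he _)]
  let ρ := hom.toHomUnits.codRestrict (Cfsg.isometryGroup (ZMod 2) Qb) hiso
  have hinj : Function.Injective ρ := (injective_iff_map_eq_one ρ).2 fun s hs => hfaith s fun y hy => by
    have h1 : M s = 1 := congrArg (fun g : Cfsg.isometryGroup (ZMod 2) Qb =>
      ((g.1 : GL ι (ZMod 2)) : Matrix ι ι (ZMod 2))) hs
    have h2 := hM s (ret b τ y)
    rw [h1, Matrix.one_mulVec, heR y hy] at h2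
    rw [← heR _ (hP s y hy), ← h2, heR y hy]
  exact ⟨(MulEquiv.ofBijective ρ ((Nat.bijective_iff_injective_and_card ρ).2 ⟨hinj, by
    rw [hcard, Nat.card_perm, Nat.card_fin]⟩)).symm⟩

end General

/-- Hyperbolic basis in `{even, x_0 = 0}`. -/
def b8 : Fin 3 ⊕ Fin 3 → Fin 8 → ZMod 2 :=
  Sum.elim ![![0,0,0,0,1,1,1,1], ![0,0,1,1,0,0,1,1], ![0,1,0,1,0,1,0,1]]
    ![![0,0,0,1,1,1,1,0], ![0,0,1,1,1,0,0,1], ![0,1,1,0,1,0,1,0]]

theorem cut_iff (y : Fin 8 → ZMod 2) :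
    y ∈ LinearMap.ker (SymmSymp.cut (n := 4) (0 : Fin 8)) ↔ ∑ i, y i = 0 ∧ y 0 = 0 := by
  simp [SymmSymp.cut]

theorem facts_eight :
    (∀ x, (∑ i, emb b8 x i = 0 ∧ emb b8 x 0 = 0) ∧ ret b8 Sum.swap (emb b8 x) = x ∧
      qw (emb b8 x) = Cfsg.quadFormPlus 3 (ZMod 2) x) ∧
    ∀ y : Fin 8 → ZMod 2, ∑ i, y i = 0 →
      (y 0 = 0 → emb b8 (ret b8 Sum.swap y) = y) ∧ qw (fun i => y i + y 0) = qw y := by
  unfold Cfsg.quadFormPlus
  refine ⟨?_, ?_⟩ <;> decide +kernel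

/-- The action on `Fin 8` vectors. -/
def p8 (s : Equiv.Perm (Fin 8)) : (Fin 8 → ZMod 2) →ₗ[ZMod 2] (Fin 8 → ZMod 2) :=
  SymmSymp.act (n := 4) (0 : Fin 8) s

theorem p8_apply (s : Equiv.Perm (Fin 8)) (y : Fin 8 → ZMod 2) (i : Fin 8) :
    p8 s y i = y (s.symm i) + y (s.symm 0) := rfl

/-- The even vectors vanishing at `0`. -/
def k8 : Set (Fin 8 → ZMod 2) := {y | ∑ i, y i = 0 ∧ y 0 = 0}

theorem p8_mul (s t : Equiv.Perm (Fin 8)) (y : Fin 8 → ZMod 2) : p8 (s * t) y = p8 s (p8 t y) :=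
  SymmSymp.act_mul (n := 4) (0 : Fin 8) s t y

theorem p8_mem (s : Equiv.Perm (Fin 8)) (y : Fin 8 → ZMod 2) (hy : y ∈ k8) : p8 s y ∈ k8 :=
  (cut_iff (p8 s y)).1 (SymmSymp.act_mem (n := 4) (0 : Fin 8) s y ((cut_iff y).2 hy))

theorem p8_one (y : Fin 8 → ZMod 2) (hy : y ∈ k8) : p8 1 y = y :=
  SymmSymp.act_one (n := 4) (0 : Fin 8) y ((cut_iff y).2 hy)

theorem p8_faithful (s : Equiv.Perm (Fin 8)) (h : ∀ y ∈ k8, p8 s y = y) : s = 1 :=
  SymmSymp.eq_one_of_act (n := 4) (0 : Fin 8) (Nat.le_succ 3) s fun y hy => h y ((cut_iff y).1 hy)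

theorem plus_six : Nonempty (Cfsg.isometryGroup (ZMod 2) (Cfsg.quadFormPlus 3 (ZMod 2)) ≃*
    Equiv.Perm (Fin 8)) := by
  obtain ⟨f1, f2⟩ := facts_eight
  refine nonempty_equiv b8 Sum.swap p8 k8 (Cfsg.quadFormPlus 3 (ZMod 2))
    p8_mul p8_one p8_mem (fun x => (f1 x).1) (fun x => (f1 x).2.1)
    (fun y hy => (f2 y hy.1).1 hy.2) (fun x => (f1 x).2.2) ?_ p8_faithful ?_
  · intro s y hy
    have hz : ∑ i, (y ∘ s.symm) i = 0 := (Equiv.sum_comp s.symm y).trans hy.1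
    have e : p8 s y = fun i => (y ∘ s.symm) i + (y ∘ s.symm) 0 := funext fun i => p8_apply s y i
    rw [e, (f2 _ hz).2, qw_perm]
  · obtain ⟨Q, hQ, hB⟩ := CfsgLib.Orth.exists_quadForm_plus (F := ZMod 2) 3
    have h := CfsgLib.Orth.card_orth_plus 3 (by norm_num) hQ hB
    unfold CfsgLib.Orth.Grp at h
    rw [hQ, Nat.card_zmod] at h
    rw [h]
    simp [Finset.prod_range_succ, Nat.factorial]

/-- A basis of the even vectors of length five. -/
def b5 : (Fin 1 ⊕ Fin 1) ⊕ Fin 2 → Fin 5 → ZMod 2 :=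
  Sum.elim (Sum.elim ![![0,1,1,1,1]] ![![1,0,1,1,1]]) ![![0,0,0,1,1], ![0,0,1,0,1]]

/-- The dual index. -/
def t5 : (Fin 1 ⊕ Fin 1) ⊕ Fin 2 → (Fin 1 ⊕ Fin 1) ⊕ Fin 2 :=
  Sum.map Sum.swap ![1, 0]

theorem facts_five :
    (∀ x, ∑ i, emb b5 x i = 0 ∧ ret b5 t5 (emb b5 x) = x ∧
      qw (emb b5 x) = Cfsg.quadFormMinus 1 (ZMod 2) 1 1 x) ∧
    ∀ y : Fin 5 → ZMod 2, ∑ i, y i = 0 → emb b5 (ret b5 t5 y) = y := by
  unfold Cfsg.quadFormMinus
  refine ⟨?_, ?_⟩ <;> decide +kernel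

theorem minus_four : Nonempty (Cfsg.isometryGroup (ZMod 2) (Cfsg.quadFormMinus 1 (ZMod 2) 1 1) ≃*
    Equiv.Perm (Fin 5)) := by
  obtain ⟨f1, f2⟩ := facts_five
  refine nonempty_equiv b5 t5 (fun s => LinearMap.funLeft (ZMod 2) (ZMod 2) s.symm) {y | ∑ i, y i = 0} _
    (fun s t y => rfl) (fun y _ => rfl) (fun s y hy => (Equiv.sum_comp s.symm y).trans hy)
    (fun x => (f1 x).1) (fun x => (f1 x).2.1) (fun y hy => f2 y hy) (fun x => (f1 x).2.2)
    (fun s y _ => qw_perm s.symm y) (fun s h => ?_) ?_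
  · refine Equiv.ext fun a => ?_
    by_contra hne0
    have hne : s a ≠ a := hne0
    obtain ⟨c, hc1, hc2⟩ : ∃ c : Fin 5, c ≠ a ∧ c ≠ s a := by
      obtain ⟨c, -, hc⟩ := Finset.exists_mem_notMem_of_card_lt_card
        (t := (Finset.univ : Finset (Fin 5))) (s := {a, s a})
        (lt_of_le_of_lt Finset.card_le_two (by simp))
      simp only [Finset.mem_insert, Finset.mem_singleton, not_or] at hc
      exact ⟨c, hc⟩
    have hm : ∑ i, (Pi.single a 1 + Pi.single c 1 : Fin 5 → ZMod 2) i = 0 := by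
      simp [Finset.sum_add_distrib]; rfl
    have h1 := congrFun (h _ hm) (s a)
    simp only [LinearMap.funLeft_apply, s.symm_apply_apply, Pi.add_apply, Pi.single_eq_same,
      Pi.single_eq_of_ne hc1.symm, Pi.single_eq_of_ne hne, Pi.single_eq_of_ne hc2.symm, add_zero] at h1
    exact one_ne_zero h1
  · obtain ⟨Q, hQ, hB⟩ := CfsgLib.Orth.exists_quadForm_minus (F := ZMod 2) 1 (a := 1) (b := 1) (by decide)
    have h := CfsgLib.Orth.card_orth_minus 2 (by norm_num) (a := 1) (b := 1) (by decide) hQ hB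
    unfold CfsgLib.Orth.Grp at h
    rw [hQ, Nat.card_zmod] at h
    rw [h]
    simp [Finset.prod_range_succ, Nat.factorial]

theorem plus_six_of_card {F : Type*} [Field F] [Fintype F] (hF : Fintype.card F = 2) :
    Nonempty (Cfsg.isometryGroup F (Cfsg.quadFormPlus 3 F) ≃* Equiv.Perm (Fin 8)) := by
  let φ : F ≃+* ZMod 2 := (ZMod.ringEquivOfPrime F Nat.prime_two hF).symm
  obtain ⟨e⟩ := iso_transfer φ (Cfsg.quadFormPlus 3 F) (Cfsg.quadFormPlus 3 (ZMod 2)) fun v => by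
    simp [Cfsg.quadFormPlus, map_sum]
  obtain ⟨f⟩ := plus_six
  exact ⟨e.trans f⟩

theorem minus_four_of_card {F : Type*} [Field F] [Fintype F] (hF : Fintype.card F = 2) :
    Nonempty (Cfsg.isometryGroup F (Cfsg.quadFormMinus 1 F 1 1) ≃* Equiv.Perm (Fin 5)) := by
  let φ : F ≃+* ZMod 2 := (ZMod.ringEquivOfPrime F Nat.prime_two hF).symm
  obtain ⟨e⟩ := iso_transfer φ (Cfsg.quadFormMinus 1 F 1 1) (Cfsg.quadFormMinus 1 (ZMod 2) 1 1)
    fun v => by simp [Cfsg.quadFormMinus]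
  obtain ⟨f⟩ := minus_four
  exact ⟨e.trans f⟩

end CfsgLib.Classical.SymmOrth
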