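import Cfsg.Agent.Lib.Classical.Klein
import Cfsg.Agent.Lib.Classical.SymmOrth

set_option autoImplicit false

/-!
`L_4(2) ≅ A_8`.
-/

namespace CfsgLib.Classical.GLFourTwo

open Matrix

variable {F : Type*} [Field F] [Fintype F]

theorem psl_equiv_alt (hF : Fintype.card F = 2) :
    Nonempty (ProjectiveSpecialLinearGroup (Fin 4) F ≃* alternatingGroup (Fin 8)) := by
  obtain ⟨e⟩ := SymmOrth.plus_six_of_card (F := F) hF
  have hA : commutator (Equiv.Perm (Fin 8)) = alternatingGroup (Fin 8) := by
    refine le_antisymm alternatingGroup.commutator_perm_le ?_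
    have h := _root_.commutator_alternatingGroup_eq_top (α := Fin 8) (by simp)
    calc alternatingGroup (Fin 8)
        = (commutator ↥(alternatingGroup (Fin 8))).map (alternatingGroup (Fin 8)).subtype := by
          rw [h, ← MonoidHom.range_eq_map, Subgroup.range_subtype]
      _ ≤ commutator (Equiv.Perm (Fin 8)) := by
          rw [commutator_def, commutator_def, Subgroup.map_commutator]
          exact Subgroup.commutator_mono le_top le_top
  have hmap : (Cfsg.Omega F (Cfsg.quadFormPlus 3 F)).map e.toMonoidHom = alternatingGroup (Fin 8) := by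
    rw [← hA]
    show (commutator _).map e.toMonoidHom = _
    rw [commutator_def, Subgroup.map_commutator, Subgroup.map_top_of_surjective e.toMonoidHom e.surjective,
      ← commutator_def]
  let a : Cfsg.Omega F (Cfsg.quadFormPlus 3 F) ≃* alternatingGroup (Fin 8) :=
    (e.subgroupMap _).trans (MulEquiv.subgroupCongr hmap)
  obtain ⟨k⟩ := Klein.pomega_six_equiv (F := F)
  have : IsSimpleGroup (alternatingGroup (Fin 8)) := alternatingGroup.isSimpleGroup (by simp)
  have hz : Subgroup.center (Cfsg.Omega F (Cfsg.quadFormPlus 3 F)) = ⊥ := by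
    rcases (inferInstance : (Subgroup.center (alternatingGroup (Fin 8))).Normal).eq_bot_or_eq_top with h | h
    · refine (Subgroup.eq_bot_iff_forall _).2 fun x hx => a.injective ?_
      rw [map_one, ← Subgroup.mem_bot, ← h, Subgroup.mem_center_iff]
      intro y
      obtain ⟨z, rfl⟩ := a.surjective y
      rw [← map_mul, ← map_mul, Subgroup.mem_center_iff.1 hx z]
    · exfalso
      have := _root_.commutator_alternatingGroup_eq_top (α := Fin 8) (by simp)
      rw [commutator_def, Subgroup.commutator_eq_bot_iff_le_centralizer.2 (by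
        rw [Subgroup.coe_top, Subgroup.centralizer_univ, h])] at this
      exact bot_ne_top this
  exact ⟨k.symm.trans ((QuotientGroup.quotientMulEquivOfEq hz).trans (QuotientGroup.quotientBot.trans a))⟩

theorem gl_equiv_alt (hF : Fintype.card F = 2) :
    Nonempty (GL (Fin 4) F ≃* alternatingGroup (Fin 8)) := by
  obtain ⟨e⟩ := psl_equiv_alt (F := F) hF
  have hu : Nat.card Fˣ = 1 := by rw [Nat.card_units, Nat.card_eq_fintype_card, hF]
  have hz : Subgroup.center (SpecialLinearGroup (Fin 4) F) = ⊥ := by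
    refine Subgroup.eq_bot_of_card_eq _ ?_
    rw [card_center_SL, Nat.card_eq_fintype_card, hF]
    simp
  have hdet : ∀ g : GL (Fin 4) F, (g : Matrix (Fin 4) (Fin 4) F).det = 1 := fun g => by
    have := (Nat.card_eq_one_iff_unique.1 hu).1
    exact congrArg Units.val (Subsingleton.elim (GeneralLinearGroup.det g) 1)
  let b : SpecialLinearGroup (Fin 4) F ≃* GL (Fin 4) F :=
    MulEquiv.ofBijective SpecialLinearGroup.toGL
      ⟨toGL_injective', fun g => ⟨⟨g.1, hdet g⟩, Units.ext rfl⟩⟩
  exact ⟨b.symm.trans ((QuotientGroup.quotientBot).symm.trans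
    ((QuotientGroup.quotientMulEquivOfEq hz.symm).trans e))⟩

omit [Fintype F] in
/-- `GL` moves any independent pair to any other. -/
theorem exists_move_pair {n : ℕ} {v w v' w' : Fin n → F} (h : LinearIndependent F ![v, w])
    (h' : LinearIndependent F ![v', w']) :
    ∃ g : GL (Fin n) F, (g : Matrix (Fin n) (Fin n) F) *ᵥ v = v' ∧ (g : Matrix (Fin n) (Fin n) F) *ᵥ w = w' := by
  classical
  let b := Module.Basis.span h
  let b' := Module.Basis.span h'
  obtain ⟨W, hW⟩ := Submodule.exists_isCompl (Submodule.span F (Set.range ![v, w]))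
  obtain ⟨W', hW'⟩ := Submodule.exists_isCompl (Submodule.span F (Set.range ![v', w']))
  have hd : Module.finrank F W = Module.finrank F W' := by
    have h1 := Submodule.finrank_add_eq_of_isCompl hW
    have h2 := Submodule.finrank_add_eq_of_isCompl hW'
    rw [Module.finrank_eq_card_basis b] at h1
    rw [Module.finrank_eq_card_basis b'] at h2
    omega
  let T : (Fin n → F) ≃ₗ[F] (Fin n → F) := (Submodule.prodEquivOfIsCompl _ _ hW).symm.trans
    (((b.equiv b' (Equiv.refl _)).prodCongr (LinearEquiv.ofFinrankEq _ _ hd)).trans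
      (Submodule.prodEquivOfIsCompl _ _ hW'))
  have hT : ∀ i, T (![v, w] i) = ![v', w'] i := fun i => by
    have e : (![v, w] i) = Submodule.prodEquivOfIsCompl _ _ hW (b i, 0) := by
      rw [Submodule.coe_prodEquivOfIsCompl']
      simp only [Submodule.coe_zero, add_zero]
      exact (congrArg Subtype.val (Module.Basis.span_apply h i)).symm
    conv_lhs => rw [e]
    rw [LinearEquiv.trans_apply, LinearEquiv.symm_apply_apply]
    simp only [LinearEquiv.trans_apply, LinearEquiv.prodCongr_apply,
      map_zero, Module.Basis.equiv_apply, Equiv.refl_apply, Submodule.coe_prodEquivOfIsCompl',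
      Submodule.coe_zero, add_zero]
    exact congrArg Subtype.val (Module.Basis.span_apply h' i)
  have hu : IsUnit (LinearMap.toMatrix' T.toLinearMap) := by
    refine Matrix.mulVec_injective_iff_isUnit.1 fun x y e => T.injective ?_
    simpa only [LinearMap.toMatrix'_mulVec, LinearEquiv.coe_coe] using e
  refine ⟨hu.unit, ?_, ?_⟩
  · exact (LinearMap.toMatrix'_mulVec _ _).trans (hT 0)
  · exact (LinearMap.toMatrix'_mulVec _ _).trans (hT 1)

omit [Fintype F] in
theorem indep_of_two (h2 : ∀ a : F, a = 0 ∨ a = 1) {n : ℕ} {v w : Fin n → F} (hv : v ≠ 0) (hw : w ≠ 0)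
    (hvw : v ≠ w) : LinearIndependent F ![v, w] := by
  refine (LinearIndependent.pair_iff' hv).2 fun a => ?_
  rcases h2 a with rfl | rfl
  · rw [zero_smul]; exact hw.symm
  · rw [one_smul]; exact hvw

/-- Subgroups of order `2520` of `GL_4(2)` are two-transitive on nonzero vectors. -/
theorem two_transitive (hF : Fintype.card F = 2) (H : Subgroup (GL (Fin 4) F)) (hH : Nat.card H = 2520)
    (v w v' w' : Fin 4 → F) (hv : v ≠ 0) (hw : w ≠ 0) (hvw : v ≠ w) (hv' : v' ≠ 0) (hw' : w' ≠ 0)
    (hvw' : v' ≠ w') : ∃ g ∈ H, (g : Matrix (Fin 4) (Fin 4) F) *ᵥ v = v' ∧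
      (g : Matrix (Fin 4) (Fin 4) F) *ᵥ w = w' := by
  classical
  have h2 : ∀ a : F, a = 0 ∨ a = 1 := fun a => by
    by_contra hc
    push Not at hc
    have : ({0, 1, a} : Finset F).card ≤ 2 := hF ▸ Finset.card_le_univ _
    rw [Finset.card_eq_three.2 ⟨0, 1, a, zero_ne_one, hc.1.symm, hc.2.symm, rfl⟩] at this
    omega
  have hchar : ∀ x : Fin 4 → F, x + x = 0 := fun x => funext fun i => by
    have := FiniteField.cast_card_eq_zero F
    rw [hF, Nat.cast_ofNat] at this
    show x i + x i = 0
    linear_combination (x i) * this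
  let P := {x : (Fin 4 → F) × (Fin 4 → F) // x.1 ≠ 0 ∧ x.2 ≠ 0 ∧ x.1 ≠ x.2}
  have hne : ∀ (g : GL (Fin 4) F) (a c : Fin 4 → F),
      (g : Matrix (Fin 4) (Fin 4) F) *ᵥ a = (g : Matrix (Fin 4) (Fin 4) F) *ᵥ c → a = c :=
    fun g a c e => Matrix.mulVec_injective_iff_isUnit.2 g.isUnit e
  let act : GL (Fin 4) F → P → P := fun g x =>
    ⟨((g : Matrix (Fin 4) (Fin 4) F) *ᵥ x.1.1, (g : Matrix (Fin 4) (Fin 4) F) *ᵥ x.1.2),
      fun e => x.2.1 (hne g _ _ (e.trans (Matrix.mulVec_zero _).symm)),
      fun e => x.2.2.1 (hne g _ _ (e.trans (Matrix.mulVec_zero _).symm)),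
      fun e => x.2.2.2 (hne g _ _ e)⟩
  letI inst : MulAction (GL (Fin 4) F) P :=
    { smul := act
      one_smul := fun x => Subtype.ext (Prod.ext (Matrix.one_mulVec _) (Matrix.one_mulVec _))
      mul_smul := fun g k x => Subtype.ext (Prod.ext
        (show (((g * k : GL (Fin 4) F)) : Matrix (Fin 4) (Fin 4) F) *ᵥ x.1.1 =
            (g : Matrix (Fin 4) (Fin 4) F) *ᵥ ((k : Matrix (Fin 4) (Fin 4) F) *ᵥ x.1.1) by
          rw [Units.val_mul, Matrix.mulVec_mulVec])
        (show (((g * k : GL (Fin 4) F)) : Matrix (Fin 4) (Fin 4) F) *ᵥ x.1.2 =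
            (g : Matrix (Fin 4) (Fin 4) F) *ᵥ ((k : Matrix (Fin 4) (Fin 4) F) *ᵥ x.1.2) by
          rw [Units.val_mul, Matrix.mulVec_mulVec])) }
  have hP : Nat.card P = 210 := by
    have h16 : Fintype.card (Fin 4 → F) = 16 := by rw [Fintype.card_fun, hF]; rfl
    let e : P ≃ Σ x : {x : Fin 4 → F // x ≠ 0}, {y : {y : Fin 4 → F // y ≠ 0} // y ≠ x} :=
      { toFun := fun p => ⟨⟨p.1.1, p.2.1⟩, ⟨⟨p.1.2, p.2.2.1⟩, fun e => p.2.2.2 (congrArg Subtype.val e).symm⟩⟩
        invFun := fun q => ⟨(q.1.1, q.2.1.1), q.1.2, q.2.1.2, fun e => q.2.2 (Subtype.ext e.symm)⟩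
        left_inv := fun p => rfl
        right_inv := fun q => rfl }
    rw [Nat.card_congr e, Nat.card_sigma]
    have h15 : Fintype.card {x : Fin 4 → F // x ≠ 0} = 15 := by
      rw [Fintype.card_subtype_compl, Fintype.card_subtype_eq, h16]
    simp [Fintype.card_subtype_compl, Fintype.card_subtype_eq, h15, h16]
  have htrans : MulAction.IsPretransitive (GL (Fin 4) F) P := ⟨fun x y => by
    obtain ⟨g, g1, g2⟩ := exists_move_pair (indep_of_two h2 x.2.1 x.2.2.1 x.2.2.2)
      (indep_of_two h2 y.2.1 y.2.2.1 y.2.2.2)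
    exact ⟨g, Subtype.ext (Prod.ext g1 g2)⟩⟩
  have hG : Nat.card (GL (Fin 4) F) = 20160 := by
    rw [Matrix.card_GL_field, hF, Fin.prod_univ_four]; rfl
  have hstab : ∀ x : P, Nat.card (MulAction.stabilizer (GL (Fin 4) F) x) = 96 := fun x => by
    have h := (MulAction.stabilizer (GL (Fin 4) F) x).index_mul_card
    rw [MulAction.index_stabilizer_of_transitive, hP, hG] at h
    omega
  have horb : ∀ x : P, 105 ∣ Nat.card (MulAction.orbit H x) := fun x => by
    have h := (MulAction.stabilizer H x).index_mul_card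
    rw [MulAction.index_stabilizer, hH, ← Nat.card_coe_set_eq] at h
    have hd : Nat.card (MulAction.stabilizer H x) ∣ 96 := by
      rw [← hstab x, ← Subgroup.card_subtype H (MulAction.stabilizer H x)]
      refine Subgroup.card_dvd_of_le ?_
      rintro _ ⟨k, hk, rfl⟩
      exact hk
    have hd2 : Nat.card (MulAction.stabilizer H x) ∣ 24 := by
      have := Nat.dvd_gcd hd (h ▸ dvd_mul_left _ _ : Nat.card (MulAction.stabilizer H x) ∣ 2520)
      exact this
    obtain ⟨c, hc⟩ := hd2
    refine ⟨c, mul_right_cancel₀ (b := Nat.card (MulAction.stabilizer H x)) (Nat.card_pos.ne') ?_⟩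
    rw [h, show 105 * c * Nat.card (MulAction.stabilizer H x) =
      105 * (Nat.card (MulAction.stabilizer H x) * c) by ring, ← hc]
  suffices hall : ∀ x y : P, y ∈ MulAction.orbit H x by
    obtain ⟨⟨g, hg⟩, hgx⟩ := hall ⟨(v, w), hv, hw, hvw⟩ ⟨(v', w'), hv', hw', hvw'⟩
    exact ⟨g, hg, congrArg (fun p : P => p.1.1) hgx, congrArg (fun p : P => p.1.2) hgx⟩
  intro p q
  by_contra hq
  have hdisj : Disjoint (MulAction.orbit H p) (MulAction.orbit H q) := by
    rw [Set.disjoint_left]
    intro z h1 h3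
    exact hq (MulAction.orbit_eq_iff.1 ((MulAction.orbit_eq_iff.2 h3).symm.trans (MulAction.orbit_eq_iff.2 h1)))
  have hpos : ∀ x : P, 105 ≤ (MulAction.orbit H x).ncard := fun x => by
    have h := horb x
    rw [Nat.card_coe_set_eq] at h
    exact Nat.le_of_dvd ((Set.ncard_pos).2 (MulAction.nonempty_orbit x)) h
  have hcov : ∀ z, z ∈ MulAction.orbit H p ∨ z ∈ MulAction.orbit H q := by
    have hu : MulAction.orbit H p ∪ MulAction.orbit H q = Set.univ := by
      refine Set.eq_of_subset_of_ncard_le (Set.subset_univ _) ?_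
      rw [Set.ncard_univ, hP, Set.ncard_union_eq hdisj]
      have := hpos p
      have := hpos q
      omega
    exact fun z => (hu.symm ▸ Set.mem_univ z : z ∈ MulAction.orbit H p ∪ MulAction.orbit H q)
  have hsize : (MulAction.orbit H p).ncard = 105 := by
    have h1 := horb p
    rw [Nat.card_coe_set_eq] at h1
    have h3 : (MulAction.orbit H p).ncard + (MulAction.orbit H q).ncard ≤ 210 := by
      rw [← Set.ncard_union_eq hdisj, ← hP, ← Set.ncard_univ]
      exact Set.ncard_le_ncard (Set.subset_univ _)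
    have := hpos p
    have := hpos q
    obtain ⟨c, hc⟩ := h1
    omega
  -- swap and shear commute with the action
  let sw : P → P := fun x => ⟨(x.1.2, x.1.1), x.2.2.1, x.2.1, x.2.2.2.symm⟩
  let sh : P → P := fun x => ⟨(x.1.1, x.1.1 + x.1.2), x.2.1,
    fun e => x.2.2.2 (by
      have := congrArg (fun z => x.1.1 + z) e
      simpa [← add_assoc, hchar] using this.symm),
    fun e => x.2.2.1 (by simpa using e.symm)⟩
  have hswH : ∀ (h : H) x, sw (h • x) = h • sw x := fun h x => rfl
  have hshH : ∀ (h : H) x, sh (h • x) = h • sh x := fun h x =>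
    Subtype.ext (Prod.ext rfl
      (show ((h : GL (Fin 4) F) : Matrix (Fin 4) (Fin 4) F) *ᵥ x.1.1 + ((h : GL (Fin 4) F) : Matrix (Fin 4) (Fin 4) F) *ᵥ x.1.2 =
          ((h : GL (Fin 4) F) : Matrix (Fin 4) (Fin 4) F) *ᵥ (x.1.1 + x.1.2) from (Matrix.mulVec_add _ _ _).symm))
  have hshinv : ∀ x, sh (sh x) = x := fun x => Subtype.ext (Prod.ext rfl (by
    show x.1.1 + (x.1.1 + x.1.2) = x.1.2
    rw [← add_assoc, hchar, zero_add]))
  have hmemsmul : ∀ (h : H) (x : P), h • x ∈ MulAction.orbit H p ↔ x ∈ MulAction.orbit H p := fun h x => by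
    rw [← MulAction.orbit_eq_iff, ← MulAction.orbit_eq_iff, MulAction.orbit_smul]
  have horbmap : ∀ (f : P → P), (∀ (h : H) x, f (h • x) = h • f x) → ∀ {x z}, z ∈ MulAction.orbit H x →
      (f z ∈ MulAction.orbit H p ↔ f x ∈ MulAction.orbit H p) := by
    rintro f hf x z ⟨h, rfl⟩
    show f (h • x) ∈ _ ↔ _
    rw [hf, hmemsmul]
  -- the shear exchanges the two orbits
  have hshear : ∀ x, sh x ∈ MulAction.orbit H p ↔ x ∉ MulAction.orbit H p := by
    have hp : sh p ∉ MulAction.orbit H p := by
      intro hsp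
      let O := (MulAction.orbit H p).toFinset
      have hO : ∀ x ∈ O, sh x ∈ O := fun x hx => by
        rw [Set.mem_toFinset] at hx ⊢
        exact (horbmap sh hshH hx).2 hsp
      have heven : (2 : ℕ) ∣ O.card := by
        rw [← ZMod.natCast_eq_zero_iff_even.trans even_iff_two_dvd, Finset.card_eq_sum_ones, Nat.cast_sum,
          Nat.cast_one]
        exact Finset.sum_involution (fun x _ => sh x) (fun _ _ => by decide)
          (fun x _ _ e => x.2.2.2 (by
            have h1 : x.1.1 + x.1.2 = x.1.2 := congrArg (fun z : P => z.1.2) e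
            exact absurd (add_eq_right.1 h1) x.2.1))
          hO (fun x _ => hshinv x)
      rw [← Set.ncard_eq_toFinset_card', hsize] at heven
      omega
    intro x
    constructor
    · intro hs hx
      exact hp ((horbmap sh hshH hx).1 hs)
    · intro hx
      have hxq := (hcov x).resolve_left hx
      rw [horbmap sh hshH hxq]
      have := (hcov (sh p)).resolve_left hp
      have h1 := horbmap sh hshH this
      rw [hshinv] at h1
      exact h1.1 (MulAction.mem_orbit_self p)
  -- an involution makes the orbits symmetric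
  have hswap : ∀ x, sw x ∈ MulAction.orbit H p ↔ x ∈ MulAction.orbit H p := by
    obtain ⟨t, ht⟩ := exists_prime_orderOf_dvd_card' (G := H) 2 (by rw [hH]; norm_num)
    have ht2 : t * t = 1 := by rw [← pow_two, ← ht, pow_orderOf_eq_one]
    obtain ⟨a, ha⟩ : ∃ a : Fin 4 → F, ((t : GL (Fin 4) F) : Matrix (Fin 4) (Fin 4) F) *ᵥ a ≠ a := by
      by_contra hc
      push Not at hc
      have : t = 1 := Subtype.ext (Units.ext (Matrix.ext_iff_mulVec.2 fun x => by rw [hc x]; simp))
      rw [this, orderOf_one] at ht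
      omega
    have ha0 : a ≠ 0 := fun e => ha (by rw [e, Matrix.mulVec_zero])
    let r : P := ⟨(a, ((t : GL (Fin 4) F) : Matrix (Fin 4) (Fin 4) F) *ᵥ a), ha0,
      fun e => ha0 (hne t _ _ (e.trans (Matrix.mulVec_zero _).symm)), Ne.symm ha⟩
    have htr : t • r = sw r := Subtype.ext (Prod.ext rfl (by
      show ((t : GL (Fin 4) F) : Matrix (Fin 4) (Fin 4) F) *ᵥ (((t : GL (Fin 4) F) : Matrix (Fin 4) (Fin 4) F) *ᵥ a) = a
      rw [Matrix.mulVec_mulVec, ← Units.val_mul, ← Subgroup.coe_mul, ht2]
      exact Matrix.one_mulVec a))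
    have hr : sw r ∈ MulAction.orbit H p ↔ r ∈ MulAction.orbit H p := by
      rw [← htr, hmemsmul]
    intro x
    rcases hcov r with hrp | hrq
    · have key : ∀ y, y ∈ MulAction.orbit H p → sw y ∈ MulAction.orbit H p := fun y hy =>
        (horbmap sw hswH hy).2 ((horbmap sw hswH hrp).1 (hr.2 hrp))
      exact ⟨fun h => key (sw x) h, key x⟩
    · have hnr : r ∉ MulAction.orbit H p := fun h => Set.disjoint_left.1 hdisj h hrq
      have key : ∀ y, y ∉ MulAction.orbit H p → sw y ∉ MulAction.orbit H p := fun y hy h => hnr <| by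
        have hyq := (hcov y).resolve_left hy
        exact hr.1 ((horbmap sw hswH hrq).2 ((horbmap sw hswH hyq).1 h))
      exact ⟨fun h => by_contra fun hc => key x hc h, fun h => by_contra fun hc => key (sw x) hc h⟩
  -- a triangle is two-coloured properly: impossible
  have e1 := hshear p
  have e2 := hswap (sh p)
  have e3 := hshear (sw (sh p))
  have e4 := hswap (sh (sw (sh p)))
  have e5 := hshear (sw (sh (sw (sh p))))
  have e6 := hswap (sh (sw (sh (sw (sh p)))))
  have hcycle : sw (sh (sw (sh (sw (sh p))))) = p := by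
    refine Subtype.ext (Prod.ext ?_ ?_)
    · show ((p.1.1 + p.1.2) + p.1.1) + (p.1.1 + p.1.2) = p.1.1
      rw [add_comm (p.1.1 + p.1.2) p.1.1, add_assoc, hchar, add_zero]
    · show (p.1.1 + p.1.2) + p.1.1 = p.1.2
      rw [add_comm p.1.1 p.1.2, add_assoc, hchar, add_zero]
  rw [hcycle] at e6
  have := MulAction.mem_orbit_self (M := H) p
  tauto

end CfsgLib.Classical.GLFourTwo
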