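import Cfsg.Agent.S0493
import Cfsg.Agent.S0494
import Cfsg.Agent.S2119
import Cfsg.Agent.S0144
import Cfsg.Agent.Lib.SmallOrder.Exclude
import Cfsg.Agent.Lib.Perm.JordanPrime
import Cfsg.Agent.Lib.Perm.DegreeSeven
import Cfsg.Agent.Lib.Classical.GLFourTwo
import Cfsg.Agent.Lib.Classical.Transvection
import Cfsg.Agent.Lib.SmallOrder.OneSixEightUnique
import Cfsg.Prelude.Def_Solvable

/-!
Subgroups of `A₈` without non-trivial soluble normal subgroups.
-/

set_option autoImplicit false
set_option linter.style.haveILetI false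

namespace CfsgLib.AEightSub

open Equiv MulAction
open scoped Pointwise

/-- No non-trivial soluble normal subgroup. -/
def Radless (G : Type*) [Group G] : Prop :=
  ∀ N : Subgroup G, N.Normal → Group.IsSolvable N → N = ⊥

theorem Radless.congr {G H : Type*} [Group G] [Group H] (e : G ≃* H) (h : Radless G) :
    Radless H := by
  intro N hN hs
  have hs' : Group.IsSolvable ↥(N.comap e.toMonoidHom) :=
    Group.isSolvable_of_isSolvable_injective (f := e.toMonoidHom.subgroupComap N)
      (fun a b hab => Subtype.ext (e.injective (congrArg Subtype.val hab)))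
  have h0 := h _ (hN.comap _) hs'
  rw [Subgroup.eq_bot_iff_forall] at h0 ⊢
  intro x hx
  have := h0 (e.symm x) (by simpa using hx)
  simpa using this

theorem radless_of_cores {G : Type*} [Group G] [Finite G] (hO : Cfsg.pPrimeCore 2 G = ⊥)
    (hO2 : Cfsg.pCore 2 G = ⊥) : Radless G := by
  intro N hN hs
  by_contra hne
  obtain ⟨M, ⟨hMn, hM0, hMN⟩, hmin⟩ := Set.Finite.exists_minimal (s := {M : Subgroup G | M.Normal ∧ M ≠ ⊥ ∧ M ≤ N})
    (Set.toFinite _) ⟨N, hN, hne, le_rfl⟩
  haveI := hMn
  have hMs : Group.IsSolvable M :=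
    Group.isSolvable_of_isSolvable_injective (f := Subgroup.inclusion hMN)
      (Subgroup.inclusion_injective hMN)
  -- `M` is abelian
  have hcomm : (commutator M).map M.subtype = ⊥ := by
    by_contra h0
    have hle : (commutator M).map M.subtype ≤ M := Subgroup.map_subtype_le _
    have heq : (commutator M).map M.subtype = M :=
      le_antisymm hle (hmin ⟨inferInstance, h0, hle.trans hMN⟩ hle)
    have htop : commutator M = ⊤ := by
      apply Subgroup.map_injective M.subtype_injective
      rw [heq, ← MonoidHom.range_eq_map, Subgroup.range_subtype]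
    haveI : Nontrivial M := (Subgroup.nontrivial_iff_ne_bot M).2 hM0
    exact (Group.IsSolvable.commutator_lt_top_of_nontrivial (G := M)).ne htop
  rw [Subgroup.map_eq_bot_iff_of_injective _ M.subtype_injective, commutator_def,
    Subgroup.commutator_eq_bot_iff_le_centralizer] at hcomm
  obtain ⟨p, hp, hpd⟩ := Nat.exists_prime_and_dvd (n := Nat.card M)
    (fun h => hM0 (Subgroup.card_eq_one.mp h))
  haveI := Fact.mk hp
  obtain ⟨P⟩ : Nonempty (Sylow p M) := inferInstance
  haveI hPn : (P : Subgroup M).Normal := ⟨fun x hx g => by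
    have := Subgroup.mem_centralizer_iff.1 (hcomm (Subgroup.mem_top x)) g (Subgroup.mem_top g)
    rwa [this, mul_inv_cancel_right]⟩
  haveI : (P : Subgroup M).Characteristic := Sylow.characteristic_of_normal P hPn
  have hP0 : (P : Subgroup M).map M.subtype ≠ ⊥ := by
    rw [Ne, Subgroup.map_eq_bot_iff_of_injective _ M.subtype_injective]
    exact P.ne_bot_of_dvd_card hpd
  have hPp : IsPGroup p ((P : Subgroup M).map M.subtype) := P.isPGroup'.map _
  refine hP0 (le_bot_iff.1 ?_)
  by_cases h2 : p = 2
  · subst h2
    rw [← hO2]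
    exact le_sSup ⟨inferInstance, hPp⟩
  · rw [← hO]
    refine le_sSup ⟨inferInstance, ?_⟩
    obtain ⟨n, hn⟩ := hPp.exists_card_eq
    rw [hn]
    exact ((Nat.coprime_primes hp Nat.prime_two).2 h2).pow_left n

/-! ### Small orders -/

universe u

theorem sixty_le_aux (n : ℕ) : ∀ (G : Type u) [Group G] [Finite G], Nat.card G = n →
    ¬ Group.IsSolvable G → 60 ≤ n := by
  induction n using Nat.strong_induction_on with
  | _ n ih =>
    intro G _ _ hn hs
    by_contra hlt
    haveI : Nontrivial G := by
      by_contra hnt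
      rw [not_nontrivial_iff_subsingleton] at hnt
      exact hs inferInstance
    by_cases hsimp : IsSimpleGroup G
    · have hc : ¬ IsCyclic G := fun hc => hs (by
        let _ : CommGroup G := IsCyclic.commGroup
        infer_instance)
      have := Cfsg.Agent.S0493.result hc (by omega)
      omega
    · obtain ⟨N, hN, hN0, hN1⟩ : ∃ N : Subgroup G, N.Normal ∧ N ≠ ⊥ ∧ N ≠ ⊤ := by
        by_contra hcon
        push Not at hcon
        exact hsimp ⟨fun N hN => (em (N = ⊥)).imp id (hcon N hN)⟩
      haveI := hN
      have h1 : Nat.card N < n := hn ▸ lt_of_le_of_ne (Subgroup.card_le_card_group N)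
        (fun h => hN1 (Subgroup.eq_top_of_card_eq N h))
      have h2 : Nat.card (G ⧸ N) < n := by
        have h := Subgroup.card_eq_card_quotient_mul_card_subgroup N
        have : 2 ≤ Nat.card N := by
          haveI : Nontrivial N := (Subgroup.nontrivial_iff_ne_bot N).2 hN0
          exact Finite.one_lt_card
        have : 0 < Nat.card (G ⧸ N) := Nat.card_pos
        nlinarith
      haveI : Group.IsSolvable N := by
        by_contra h
        have := ih _ h1 N rfl h
        omega
      haveI : Group.IsSolvable (G ⧸ N) := by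
        by_contra h
        have := ih _ h2 (G ⧸ N) rfl h
        omega
      exact hs (Group.isSolvable_of_ker_le_range N.subtype (QuotientGroup.mk' N) (by simp))

set_option linter.unusedSectionVars false

variable {G : Type u} [Group G] [Finite G]

theorem sixty_le (h : ¬ Group.IsSolvable G) : 60 ≤ Nat.card G := sixty_le_aux _ G rfl h

theorem isSolvable_of_card_lt (h : Nat.card G < 60) : Group.IsSolvable G := by
  by_contra h'
  have := sixty_le h'
  omega

theorem simple_of_sixty (hs : ¬ Group.IsSolvable G) (h : Nat.card G = 60) : IsSimpleGroup G := by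
  haveI : Nontrivial G := Finite.one_lt_card_iff_nontrivial.mp (by omega)
  refine ⟨fun N hN => ?_⟩
  by_contra hcon
  push Not at hcon
  haveI := hN
  have h1 : Nat.card N < 60 := h ▸ lt_of_le_of_ne (Subgroup.card_le_card_group N)
    (fun h => hcon.2 (Subgroup.eq_top_of_card_eq N h))
  have h2 : Nat.card (G ⧸ N) < 60 := by
    have h3 := Subgroup.card_eq_card_quotient_mul_card_subgroup N
    have : 2 ≤ Nat.card N := by
      haveI : Nontrivial N := (Subgroup.nontrivial_iff_ne_bot N).2 hcon.1
      exact Finite.one_lt_card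
    nlinarith [Nat.card_pos (α := G ⧸ N)]
  haveI := isSolvable_of_card_lt h1
  haveI := isSolvable_of_card_lt h2
  exact hs (Group.isSolvable_of_ker_le_range N.subtype (QuotientGroup.mk' N) (by simp))

/-! ### Permutation reduction -/

theorem isSolvable_of_invariant {α β : Type*} [Finite α] (φ : G →* Perm α) (f : α → β)
    (hinv : ∀ g x, f (φ g x) = f x) (hsize : ∀ b, Nat.card {x // f x = b} ≤ 4)
    (hker : Function.Injective φ) : Group.IsSolvable G := by
  classical
  haveI : Fintype α := Fintype.ofFinite α
  let ψ : (x : α) → G →* Perm {y // f y = f x} := fun x =>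
    { toFun := fun g => (φ g).subtypePerm fun y => by rw [hinv]
      map_one' := by ext y; simp
      map_mul' := fun a b => by ext y; simp [map_mul]; rfl }
  have hd : ∀ x : α, ∃ n, derivedSeries (Perm {y // f y = f x}) n = ⊥ := fun x => by
    haveI : Group.IsSolvable (Perm {y // f y = f x}) := isSolvable_of_card_lt (by
      rw [Nat.card_perm]
      have h4 := hsize (f x)
      interval_cases (Nat.card {y // f y = f x}) <;> decide)
    exact Group.IsSolvable.solvable
  choose n hn using hd
  refine ⟨⟨∑ x, n x, ?_⟩⟩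
  rw [Subgroup.eq_bot_iff_forall]
  intro g hg
  apply hker
  rw [map_one]
  ext x
  have h1 : g ∈ derivedSeries G (n x) :=
    derivedSeries_antitone G (Finset.single_le_sum (fun y _ => Nat.zero_le (n y)) (Finset.mem_univ x)) hg
  have h2 := map_derivedSeries_le_derivedSeries (ψ x) (n x) (Subgroup.mem_map_of_mem _ h1)
  rw [hn x, Subgroup.mem_bot] at h2
  simpa [ψ] using congrArg (fun e : Perm {y // f y = f x} => (e ⟨x, rfl⟩ : α)) h2

/-- Two-step version: invariant partition with at most four parts of size at most four. -/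
theorem isSolvable_of_system {α β : Type*} [Finite α] (φ : G →* Perm α) (f : α → β)
    (hinj : Function.Injective φ) (hf : Function.Surjective f)
    (hpres : ∀ g x y, f x = f y → f (φ g x) = f (φ g y)) (hsize : ∀ b, Nat.card {x // f x = b} ≤ 4)
    (hnum : Nat.card β ≤ 4) : Group.IsSolvable G := by
  classical
  haveI : Finite β := Finite.of_surjective f hf
  choose s hs using hf
  let act : G → β → β := fun g b => f (φ g (s b))
  have hact : ∀ g x, act g (f x) = f (φ g x) := fun g x => hpres g _ _ (hs _)
  have h1 : ∀ b, act 1 b = b := fun b => by simp [act, hs]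
  have hm : ∀ g h b, act (g * h) b = act g (act h b) := fun g h b => by
    show f (φ (g * h) (s b)) = _
    rw [hact, map_mul]; rfl
  let π : G →* Perm β :=
    { toFun := fun g =>
        { toFun := act g, invFun := act g⁻¹
          left_inv := fun b => by rw [← hm, inv_mul_cancel, h1]
          right_inv := fun b => by rw [← hm, mul_inv_cancel, h1] }
      map_one' := by ext b; exact h1 b
      map_mul' := fun a b => by ext c; exact hm a b c }
  haveI : Group.IsSolvable π.ker := by
    refine isSolvable_of_invariant (φ.comp π.ker.subtype) f (fun g x => ?_) hsize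
      (hinj.comp π.ker.subtype_injective)
    have := congrArg (fun e : Perm β => e (f x)) (MonoidHom.mem_ker.1 g.2)
    exact (hact g x).symm.trans this
  haveI : Group.IsSolvable (Perm β) := isSolvable_of_card_lt (by
    rw [Nat.card_perm]
    interval_cases (Nat.card β) <;> decide)
  exact Group.isSolvable_of_ker_le_range π.ker.subtype π (by simp)

/-! ### The possible conclusions -/

/-- The list of the statement. -/
def Listed (G : Type*) [Group G] : Prop :=
  (∃ n : ℕ, 5 ≤ n ∧ n ≤ 8 ∧ Nonempty (G ≃* alternatingGroup (Fin n))) ∨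
    Nonempty (G ≃* Perm (Fin 5)) ∨ Nonempty (G ≃* Perm (Fin 6)) ∨
      (Nat.card G = 168 ∧ IsSimpleGroup G)

/-- An embedding in `Perm (Fin n)` with image at least `A_n`. -/
theorem equiv_alt_or_perm {n : ℕ} (φ : G →* Perm (Fin n)) (hφ : Function.Injective φ)
    (h : alternatingGroup (Fin n) ≤ φ.range) :
    Nonempty (G ≃* alternatingGroup (Fin n)) ∨ Nonempty (G ≃* Perm (Fin n)) := by
  rcases em (φ.range ≤ alternatingGroup (Fin n)) with he | he
  · exact Or.inl ⟨(MonoidHom.ofInjective hφ).trans (MulEquiv.subgroupCongr (le_antisymm he h))⟩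
  · refine Or.inr ⟨(MonoidHom.ofInjective hφ).trans ((MulEquiv.subgroupCongr ?_).trans Subgroup.topEquiv)⟩
    obtain ⟨x, hx, hxa⟩ := SetLike.not_le_iff_exists.1 he
    rw [eq_top_iff]
    intro y _
    rw [Equiv.Perm.mem_alternatingGroup] at hxa
    rcases Int.units_eq_one_or (Perm.sign y) with hy | hy
    · exact h (Equiv.Perm.mem_alternatingGroup.2 hy)
    · have hm : y * x⁻¹ ∈ φ.range := h (Equiv.Perm.mem_alternatingGroup.2 (by
        rw [map_mul, Perm.sign_inv, hy, (Int.units_eq_one_or (Perm.sign x)).resolve_left hxa]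
        rfl))
      simpa using φ.range.mul_mem hm hx

/-- The even part of a permutation representation. -/
theorem even_part {α : Type*} [Fintype α] [DecidableEq α] (φ : G →* Perm α) (hs : ¬ Group.IsSolvable G) :
    ¬ Group.IsSolvable ((Perm.sign.comp φ).ker) ∧ Subgroup.index ((Perm.sign.comp φ).ker) ∣ 2 := by
  refine ⟨fun h => hs ?_, ?_⟩
  · exact Group.isSolvable_of_ker_le_range (Perm.sign.comp φ).ker.subtype (Perm.sign.comp φ) (by simp)
  · rw [Subgroup.index_ker]
    exact (Perm.sign.comp φ).range.card_subgroup_dvd_card.trans (by simp)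

theorem small_degree {n : ℕ} (hn : n = 5 ∨ n = 6) (φ : G →* Perm (Fin n)) (hφ : Function.Injective φ)
    (hs : ¬ Group.IsSolvable G) (hR : Radless G) : Listed G := by
  classical
  obtain ⟨hK, hidx⟩ := even_part φ hs
  set K := (Perm.sign.comp φ).ker with hKdef
  have h60 := sixty_le hK
  let ψ : K →* alternatingGroup (Fin n) :=
    (φ.comp K.subtype).codRestrict _ fun k => Equiv.Perm.mem_alternatingGroup.2 k.2
  have hψ : Function.Injective ψ := fun a b hab =>
    Subtype.ext (hφ (congrArg Subtype.val hab))
  have hA : Nat.card (alternatingGroup (Fin n)) = 60 ∧ n = 5 ∨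
      Nat.card (alternatingGroup (Fin n)) = 360 ∧ n = 6 := by
    rcases hn with rfl | rfl <;> [left; right] <;>
      exact ⟨by rw [nat_card_alternatingGroup]; simp [Nat.factorial], rfl⟩
  have hdvd := Subgroup.card_dvd_of_injective ψ hψ
  by_cases hfull : Nat.card K = Nat.card (alternatingGroup (Fin n))
  · have hle : alternatingGroup (Fin n) ≤ φ.range := by
      intro y hy
      obtain ⟨k, hk⟩ := ((Function.Injective.bijective_of_nat_card_le hψ hfull.ge).surjective ⟨y, hy⟩)
      exact ⟨k, congrArg Subtype.val hk⟩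
    rcases equiv_alt_or_perm φ hφ hle with h | h
    · exact Or.inl ⟨n, by omega, by omega, h⟩
    · rcases hn with rfl | rfl
      · exact Or.inr (Or.inl h)
      · exact Or.inr (Or.inr (Or.inl h))
  · -- `n = 6` and `K` is of order 60
    have hn6 : Nat.card (alternatingGroup (Fin n)) = 360 ∧ n = 6 := hA.resolve_left fun h => hfull (by
      have := Nat.le_of_dvd (by omega) hdvd
      omega)
    obtain ⟨hA360, rfl⟩ := hn6
    rw [hA360] at hdvd hfull
    have hK60 : Nat.card K = 60 := by
      haveI : IsSimpleGroup (alternatingGroup (Fin 6)) := alternatingGroup.isSimpleGroup (by simp)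
      have hne : ψ.range ≠ ⊤ := fun h => hfull (by
        rw [Nat.card_congr (MonoidHom.ofInjective hψ).toEquiv, h, Subgroup.card_top, hA360])
      have hmul := ψ.range.card_mul_index
      rw [← Nat.card_congr (MonoidHom.ofInjective hψ).toEquiv, hA360] at hmul
      have hncomm : ¬ IsMulCommutative (alternatingGroup (Fin 6)) :=
        CfsgLib.SmallOrder.not_comm_of_not_prime (by rw [hA360]; norm_num)
      have h2 := CfsgLib.SmallOrder.two_mul_card_dvd_factorial hncomm hne
      rw [hA360] at h2
      have : 6 ≤ ψ.range.index := by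
        by_contra hlt
        have := CfsgLib.SmallOrder.two_le_index hne
        interval_cases h : ψ.range.index <;> simp [Nat.factorial] at h2
      nlinarith
    haveI := simple_of_sixty hK hK60
    obtain ⟨e⟩ := Cfsg.Agent.S0494.result hK60
    rcases (Nat.dvd_prime Nat.prime_two).mp hidx with h1 | h1
    · have : K = ⊤ := Subgroup.index_eq_one.1 h1
      exact Or.inl ⟨5, le_rfl, by norm_num,
        ⟨(Subgroup.topEquiv.symm.trans (MulEquiv.subgroupCongr this.symm)).trans e⟩⟩
    · -- the action on `K`
      let c : G →* MulAut K := MulAut.conjNormal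
      have hc : Function.Injective c := by
        rw [← MonoidHom.ker_eq_bot_iff]
        refine hR _ inferInstance ?_
        have hinf : c.ker ⊓ K = ⊥ := by
          rw [Subgroup.eq_bot_iff_forall]
          intro x hx
          have hz : (⟨x, hx.2⟩ : K) ∈ Subgroup.center K := by
            rw [Subgroup.mem_center_iff]
            intro y
            have h := congrArg (fun a : MulAut K => (a y : G)) (MonoidHom.mem_ker.1 hx.1)
            simp only [c, MulAut.conjNormal_apply, MulAut.one_apply] at h
            exact Subtype.ext (by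
              show (y : G) * x = x * y
              rw [mul_inv_eq_iff_eq_mul] at h
              exact h.symm)
          have hne : Subgroup.center K ≠ ⊤ := fun h => hK (by
            let _ : CommGroup K := Group.commGroupOfCenterEqTop h
            infer_instance)
          rw [((inferInstance : (Subgroup.center K).Normal).eq_bot_or_eq_top.resolve_right hne),
            Subgroup.mem_bot] at hz
          exact congrArg Subtype.val hz
        have hsm : Nat.card c.ker ∣ 2 := by
          have h := Subgroup.relIndex_mul_index (inf_le_right : c.ker ⊓ K ≤ K)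
          have hh : (c.ker ⊓ K).index = Nat.card G := by rw [hinf, Subgroup.index_bot]
          have := Subgroup.card_mul_index c.ker
          have hrel : (K.subgroupOf c.ker).index ∣ 2 := h1 ▸ Subgroup.relIndex_dvd_index_of_normal K c.ker
          have hk : Nat.card (K.subgroupOf c.ker) = 1 := by
            rw [Subgroup.card_eq_one, Subgroup.subgroupOf_eq_bot, disjoint_iff, inf_comm]
            exact hinf
          rw [← Subgroup.card_mul_index (K.subgroupOf c.ker), hk, one_mul]
          exact hrel
        exact isSolvable_of_card_lt (by have := Nat.le_of_dvd (by norm_num) hsm; omega)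
      let a : MulAut (alternatingGroup (Fin 5)) ≃* Perm (Fin 5) :=
        (MulEquiv.ofBijective MulAut.conjNormal (Cfsg.Agent.S2119.result 5 (by norm_num) (by norm_num))).symm
      let cc : G →* Perm (Fin 5) := (a.toMonoidHom.comp (MulAut.congr e).toMonoidHom).comp c
      have hcc : Function.Injective cc :=
        (a.injective.comp (MulAut.congr e).injective).comp hc
      have hG : Nat.card G = 120 := by
        rw [← K.card_mul_index, hK60, h1]
      exact Or.inr (Or.inl ⟨MulEquiv.ofBijective cc (hcc.bijective_of_nat_card_le (by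
        rw [hG, Nat.card_perm, Nat.card_fin]; rfl))⟩)

theorem simple_card_alt8 : IsSimpleGroup (alternatingGroup (Fin 8)) ∧
    Nat.card (alternatingGroup (Fin 8)) = 20160 ∧ ¬ IsMulCommutative (alternatingGroup (Fin 8)) := by
  haveI : IsSimpleGroup (alternatingGroup (Fin 8)) := alternatingGroup.isSimpleGroup (by simp)
  have h : Nat.card (alternatingGroup (Fin 8)) = 20160 := by
    rw [nat_card_alternatingGroup]; simp [Nat.factorial]
  exact ⟨inferInstance, h, CfsgLib.SmallOrder.not_comm_of_not_prime (by rw [h]; norm_num)⟩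

theorem degree_seven (φ : G →* Perm (Fin 7)) (hφ : Function.Injective φ) (ι : G →* alternatingGroup (Fin 8))
    (hι : Function.Injective ι) (hs : ¬ Group.IsSolvable G) [IsPretransitive φ.range (Fin 7)] :
    Listed G := by
  have hR : ¬ Group.IsSolvable φ.range := fun h => hs
    (Group.isSolvable_of_isSolvable_injective (f := (MonoidHom.ofInjective hφ).toMonoidHom)
      (MonoidHom.ofInjective hφ).injective)
  by_cases hA : alternatingGroup (Fin 7) ≤ φ.range
  · rcases equiv_alt_or_perm φ hφ hA with h | ⟨⟨e⟩⟩
    · exact Or.inl ⟨7, by norm_num, by norm_num, h⟩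
    · exfalso
      obtain ⟨hsimp, hc, hnc⟩ := simple_card_alt8
      have hG : Nat.card G = 5040 := by
        rw [Nat.card_congr e.toEquiv, Nat.card_perm, Nat.card_fin]; rfl
      have hr : Nat.card ι.range = 5040 := hG ▸ (Nat.card_congr (MonoidHom.ofInjective hι).toEquiv).symm
      have hne : ι.range ≠ ⊤ := fun h => by rw [h, Subgroup.card_top, hc] at hr; omega
      have hi := ι.range.card_mul_index
      have hd := CfsgLib.SmallOrder.two_mul_card_dvd_factorial hnc hne
      rw [hr, hc] at hi
      rw [hc, show ι.range.index = 4 by omega] at hd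
      norm_num [Nat.factorial] at hd
  · obtain ⟨hc, hsimp⟩ := CfsgLib.DegreeSeven.card_simple (by simp) φ.range hR hA
    exact Or.inr (Or.inr (Or.inr ⟨(Nat.card_congr (MonoidHom.ofInjective hφ).toEquiv).trans hc,
      (MonoidHom.ofInjective hφ).isSimpleGroup⟩))

theorem isSolvable_two_primes (a b : ℕ) {p q : ℕ} (hp : p.Prime) (hq : q.Prime)
    (h : Nat.card G = p ^ a * q ^ b) : Group.IsSolvable G :=
  Cfsg.Agent.S0144.result p q a b hp hq h

theorem not_normal_seven (hR : Radless G) (P : Sylow 7 G) (h7 : 7 ∣ Nat.card G) :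
    Nat.card (Sylow 7 G) ≠ 1 := by
  haveI : Fact (Nat.Prime 7) := ⟨by norm_num⟩
  intro h
  haveI := (Nat.card_eq_one_iff_unique.1 h).1
  haveI := P.normal_of_subsingleton
  refine P.ne_bot_of_dvd_card h7 (hR _ inferInstance ?_)
  obtain ⟨n, hn⟩ := P.isPGroup'.exists_card_eq
  exact isSolvable_two_primes n 0 (p := 7) (q := 2) (by norm_num) Nat.prime_two (by rw [hn]; simp)

/-- No group of order 1344 without soluble radical embeds in `A₈ ≅ GL₄(2)`. -/
theorem false_1344 (hR : Radless G) (hG : Nat.card G = 1344)
    (h64 : Nat.card (Sylow 7 G) = 64) (f : G →* GL (Fin 4) (ZMod 2)) (hf : Function.Injective f) :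
    False := by
  classical
  haveI : Fact (Nat.Prime 7) := ⟨by norm_num⟩
  haveI : Fact (Nat.Prime 2) := ⟨Nat.prime_two⟩
  haveI : Nontrivial G := Finite.one_lt_card_iff_nontrivial.mp (by omega)
  haveI hsimp : IsSimpleGroup G := by
    refine ⟨fun N hN => ?_⟩
    by_contra hcon
    push Not at hcon
    haveI := hN
    have hNs : ¬ Group.IsSolvable N := fun h => hcon.1 (hR N hN h)
    have hd : Nat.card N ∣ 1344 := hG ▸ N.card_subgroup_dvd_card
    have h7 : 7 ∣ Nat.card N := by
      by_contra h7
      have hd' : Nat.card N ∣ 192 := by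
        have h := ((Nat.coprime_comm.1 ((by norm_num : Nat.Prime 7).coprime_iff_not_dvd.2 h7)).dvd_mul_right
          (k := Nat.card N) (n := 7) (m := 192))
        exact h.1 (by simpa using hd)
      obtain ⟨a, b, ha, hb, he⟩ := exists_dvd_and_dvd_of_dvd_mul (show Nat.card N ∣ 2 ^ 6 * 3 ^ 1 by simpa using hd')
      obtain ⟨i, -, rfl⟩ := (Nat.dvd_prime_pow Nat.prime_two).1 ha
      obtain ⟨j, -, rfl⟩ := (Nat.dvd_prime_pow Nat.prime_three).1 hb
      exact hNs (isSolvable_two_primes i j Nat.prime_two Nat.prime_three he)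
    obtain ⟨P⟩ : Nonempty (Sylow 7 G) := inferInstance
    -- all Sylow 7-subgroups lie in `N`
    have hidx : ¬ 7 ∣ N.index := by
      intro h
      have := Nat.mul_dvd_mul h7 h
      rw [N.card_mul_index, hG] at this
      norm_num at this
    have hall : ∀ Q : Sylow 7 G, (Q : Subgroup G) ≤ N := by
      obtain ⟨Q₀⟩ : Nonempty (Sylow 7 N) := inferInstance
      have hQ' : ¬ 7 ∣ ((Q₀ : Subgroup N).map N.subtype).index := by
        rw [Subgroup.index_map_subtype]
        exact (by norm_num : Nat.Prime 7).not_dvd_mul Q₀.not_dvd_index hidx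
      let Q₁ : Sylow 7 G := (Q₀.isPGroup'.map N.subtype).toSylow hQ'
      intro Q x hx
      obtain ⟨g, hg⟩ := exists_smul_eq G Q₁ Q
      rw [← hg, Sylow.coe_subgroup_smul] at hx
      obtain ⟨y, hy, rfl⟩ := hx
      exact hN.conj_mem y (Subgroup.map_subtype_le _ hy) g
    let P' : Sylow 7 N := P.subtype (hall P)
    have hn7 : Nat.card (Sylow 7 N) = 64 := by
      refine le_antisymm ?_ ?_ <;> rw [← h64]
      · let back : Sylow 7 N → Sylow 7 G := fun Q => (Q.isPGroup'.map N.subtype).toSylow (by
          rw [Subgroup.index_map_subtype]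
          exact (by norm_num : Nat.Prime 7).not_dvd_mul Q.not_dvd_index hidx)
        exact Nat.card_le_card_of_injective back fun Q R h => Sylow.ext
          (Subgroup.map_injective N.subtype_injective (congrArg (fun S : Sylow 7 G => (S : Subgroup G)) h))
      · exact Nat.card_le_card_of_injective (fun Q => Q.subtype (hall Q))
          fun Q R h => Sylow.subtype_injective h
    have h448 : 64 * 7 ∣ Nat.card N := by
      refine (by norm_num : Nat.Coprime 64 7).mul_dvd_of_dvd_of_dvd ?_ h7
      exact hn7 ▸ (Sylow.card_dvd_index P').trans (Subgroup.index_dvd_card _)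
    obtain ⟨k, hk⟩ := h448
    rw [hk] at hd
    have hk3 : k ∣ 3 := Nat.dvd_of_mul_dvd_mul_left (by norm_num) (show 64 * 7 * k ∣ 64 * 7 * 3 by simpa using hd)
    rcases (Nat.dvd_prime Nat.prime_three).1 hk3 with rfl | rfl
    · exact hNs (isSolvable_two_primes 6 1 (p := 2) (q := 7) Nat.prime_two (by norm_num) hk)
    · exact hcon.2 (Subgroup.eq_top_of_card_eq N (by rw [hk, hG]))
  have hnc : ¬ IsMulCommutative G := CfsgLib.SmallOrder.not_comm_of_not_prime (by rw [hG]; norm_num)
  -- a non-zero vector fixed by a Sylow 2-subgroup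
  letI : MulAction G (Fin 4 → ZMod 2) :=
    { smul := fun g w => ((f g : GL (Fin 4) (ZMod 2)) : Matrix (Fin 4) (Fin 4) (ZMod 2)).mulVec w
      one_smul := fun w => by show Matrix.mulVec _ w = w; simp
      mul_smul := fun g h w => by
        show Matrix.mulVec _ w = Matrix.mulVec _ (Matrix.mulVec _ w); simp [Matrix.mulVec_mulVec] }
  have hsmul : ∀ (g : G) w, g • w = ((f g : GL (Fin 4) (ZMod 2)) : Matrix (Fin 4) (Fin 4) (ZMod 2)).mulVec w :=
    fun _ _ => rfl
  have hzero : ∀ g : G, g • (0 : Fin 4 → ZMod 2) = 0 := fun g => by rw [hsmul, Matrix.mulVec_zero]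
  obtain ⟨S⟩ : Nonempty (Sylow 2 G) := inferInstance
  obtain ⟨v, hv, hv0⟩ : ∃ v ∈ fixedPoints (S : Subgroup G) (Fin 4 → ZMod 2), v ≠ 0 := by
    obtain ⟨w, hw, hne⟩ := S.isPGroup'.exists_fixed_point_of_prime_dvd_card_of_fixed_point (Fin 4 → ZMod 2)
      (by rw [Nat.card_fun, Nat.card_zmod, Nat.card_fin]; norm_num)
      (a := 0) (fun g => hzero g)
    exact ⟨w, hw, hne.symm⟩
  have hS : Nat.card (S : Subgroup G) = 64 := by
    rw [S.card_eq_multiplicity, hG, show 1344 = 2 ^ 6 * 21 by norm_num,
      Nat.factorization_mul (by norm_num) (by norm_num), Nat.prime_two.factorization_pow]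
    simp [Nat.factorization_eq_zero_of_not_dvd]
  have hst : stabilizer G v = ⊤ := by
    by_contra hne
    have hle : (S : Subgroup G) ≤ stabilizer G v := fun g hg => hv ⟨g, hg⟩
    have hd : (stabilizer G v).index ∣ (S : Subgroup G).index := Subgroup.index_dvd_of_le hle
    have hSi := (S : Subgroup G).card_mul_index
    rw [hS, hG] at hSi
    rw [show (S : Subgroup G).index = 21 by omega] at hd
    have hlt : (stabilizer G v).index < 16 := by
      rw [index_stabilizer, Set.ncard_eq_toFinset_card']
      refine lt_of_lt_of_eq (Finset.card_lt_univ_of_notMem (x := 0) ?_) (by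
        rw [Fintype.card_fun, ZMod.card, Fintype.card_fin]; norm_num)
      simp only [Set.mem_toFinset]
      rintro ⟨g, hg⟩
      have := congrArg (g⁻¹ • ·) hg
      simp [hzero] at this
      exact hv0 this
    have := CfsgLib.SmallOrder.badIndex_eq_false hnc hne
    have h2 := CfsgLib.SmallOrder.two_le_index hne
    rw [hG] at this
    revert this hd
    generalize (stabilizer G v).index = e at *
    intro hd this
    interval_cases e <;> first | omega | exact absurd this (by decide)
  have hfix : ∀ g : G, g • v = v := fun g => by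
    have : g ∈ stabilizer G v := hst ▸ Subgroup.mem_top g
    exact this
  -- the action on the seven non-zero classes modulo `v`
  let cls : (Fin 4 → ZMod 2) → Finset (Fin 4 → ZMod 2) := fun w => {w, w + v}
  let T := {s : Finset (Fin 4 → ZMod 2) // ∃ w, w ≠ 0 ∧ w ≠ v ∧ s = cls w}
  have hlin : ∀ (g : G) w, g • (w + v) = g • w + v := fun g w => by
    conv_rhs => rw [← hfix g]
    rw [hsmul, hsmul, hsmul, Matrix.mulVec_add]
  have hcls : ∀ (g : G) w, (cls w).image (g • ·) = cls (g • w) := fun g w => by
    simp [cls, hlin]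
  letI : MulAction G T :=
    { smul := fun g s => ⟨s.1.image (g • ·), by
        obtain ⟨w, h0, h1, e⟩ := s.2
        refine ⟨g • w, fun h => h0 ?_, fun h => h1 ?_, by rw [e, hcls]⟩
        · have := congrArg (g⁻¹ • ·) h; simpa [hzero] using this
        · have := congrArg (g⁻¹ • ·) h; simpa [hfix] using this⟩
      one_smul := fun s => Subtype.ext (by
        show s.1.image ((1 : G) • ·) = s.1
        simp)
      mul_smul := fun g h s => Subtype.ext (by
        show s.1.image ((g * h) • ·) = (s.1.image (h • ·)).image (g • ·)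
        simp [Finset.image_image, Function.comp_def, mul_smul]) }
  have hT : Nat.card T ≤ 7 := by
    have h := Fintype.card_subtype (fun w : Fin 4 → ZMod 2 => w ≠ 0 ∧ w ≠ v)
    have h14 : (Finset.univ.filter fun w : Fin 4 → ZMod 2 => w ≠ 0 ∧ w ≠ v).card = 14 := by
      have : (Finset.univ.filter fun w : Fin 4 → ZMod 2 => w ≠ 0 ∧ w ≠ v) = Finset.univ \ {0, v} := by
        ext w; simp
      rw [this, Finset.card_sdiff, Finset.inter_univ, Finset.card_univ, Finset.card_pair (Ne.symm hv0)]
      simp
    let π : {w : Fin 4 → ZMod 2 // w ≠ 0 ∧ w ≠ v} → T := fun w => ⟨cls w, w, w.2.1, w.2.2, rfl⟩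
    rw [Nat.card_eq_fintype_card]
    have h2 : 2 * Fintype.card T ≤ Fintype.card {w : Fin 4 → ZMod 2 // w ≠ 0 ∧ w ≠ v} := by
      rw [← Finset.card_univ (α := {w : Fin 4 → ZMod 2 // w ≠ 0 ∧ w ≠ v}),
        Finset.card_eq_sum_card_fiberwise (f := π) (t := Finset.univ) (fun x _ => Finset.mem_univ _)]
      refine le_trans ?_ (Finset.sum_le_sum (f := fun _ => 2) fun s _ => ?_)
      · simp [mul_comm]
      obtain ⟨w, h0, h1, e⟩ := s.2
      have h0' : w + v ≠ 0 := fun h => h1 (by
        funext i
        have := congrFun h i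
        simp only [Pi.add_apply, Pi.zero_apply] at this
        exact CharTwo.add_eq_zero.1 this)
      have h1' : w + v ≠ v := fun h => h0 (by simpa using h)
      refine Finset.one_lt_card.2 ⟨⟨w, h0, h1⟩, ?_, ⟨w + v, h0', h1'⟩, ?_, ?_⟩
      · rw [Finset.mem_filter]
        exact ⟨Finset.mem_univ _, Subtype.ext e.symm⟩
      · rw [Finset.mem_filter]
        refine ⟨Finset.mem_univ _, Subtype.ext ?_⟩
        rw [e]
        show ({w + v, w + v + v} : Finset (Fin 4 → ZMod 2)) = {w, w + v}
        rw [show w + v + v = w by funext i; simp [add_assoc, CharTwo.add_self_eq_zero]]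
        exact Finset.pair_comm _ _
      · simp [hv0]
    omega
  rcases (inferInstance : (toPermHom G T).ker.Normal).eq_bot_or_eq_top with h | h
  · have hi := Subgroup.card_dvd_of_injective _ ((MonoidHom.ker_eq_bot_iff _).1 h)
    rw [hG, Nat.card_perm] at hi
    interval_cases (Nat.card T) <;> simp [Nat.factorial] at hi
  · -- every element is an involution
    have hsq : ∀ g : G, g * g = 1 := by
      intro g
      apply hf
      rw [map_one]
      refine Units.ext ?_
      have hw : ∀ w : Fin 4 → ZMod 2, g • g • w = w := by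
        intro w
        by_cases h0 : w = 0
        · simp [h0, hzero]
        by_cases h1 : w = v
        · simp [h1, hfix]
        have hk := congrArg Subtype.val (Equiv.Perm.ext_iff.1 (MonoidHom.mem_ker.1 (h ▸ Subgroup.mem_top g :
          g ∈ (toPermHom G T).ker)) ⟨cls w, w, h0, h1, rfl⟩)
        change (cls w).image (g • ·) = cls w at hk
        rw [hcls] at hk
        have hm : g • w ∈ cls w := by rw [← hk]; simp [cls]
        simp only [cls, Finset.mem_insert, Finset.mem_singleton] at hm
        rcases hm with hm | hm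
        · rw [hm, hm]
        · rw [hm, hlin, hm]
          funext i; simp [add_assoc, CharTwo.add_self_eq_zero]
      refine Matrix.ext fun i j => ?_
      have := congrFun (hw (Pi.single j 1)) i
      rw [← mul_smul, hsmul, Matrix.mulVec_single_one] at this
      simpa [Matrix.one_apply, Pi.single_apply, eq_comm] using this
    refine hnc ⟨⟨fun a b => ?_⟩⟩
    have hi : ∀ x : G, x⁻¹ = x := fun x => inv_eq_of_mul_eq_one_right (hsq x)
    calc a * b = (a * b)⁻¹ := (hi _).symm
      _ = b * a := by rw [mul_inv_rev, hi, hi]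

theorem degree_eight (φ : G →* Perm (Fin 8)) (hφ : Function.Injective φ)
    (hev : φ.range ≤ alternatingGroup (Fin 8))
    (f : G →* GL (Fin 4) (ZMod 2)) (hf : Function.Injective f)
    (hs : ¬ Group.IsSolvable G) (hR : Radless G) [IsPreprimitive φ.range (Fin 8)] : Listed G := by
  haveI : Fact (Nat.Prime 5) := ⟨by norm_num⟩
  haveI : Fact (Nat.Prime 7) := ⟨by norm_num⟩
  by_cases h5 : 5 ∣ Nat.card G
  · obtain ⟨x, hx⟩ := exists_prime_orderOf_dvd_card' 5 h5
    have ho : orderOf (φ x) = 5 := by rw [orderOf_injective φ hφ, hx]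
    have hcyc : (φ x).IsCycle := Perm.isCycle_of_prime_order' (by rw [ho]; norm_num) (by rw [ho]; simp)
    have hle := CfsgLib.Perm.alternatingGroup_le_of_isCycle_prime (G := φ.range) inferInstance
      (p := 5) (by norm_num) (by simp) hcyc (by rw [← hcyc.orderOf, ho]) ⟨x, rfl⟩
    exact Or.inl ⟨8, by norm_num, le_rfl,
      ⟨(MonoidHom.ofInjective hφ).trans (MulEquiv.subgroupCongr (le_antisymm hev hle))⟩⟩
  obtain ⟨-, hA, -⟩ := simple_card_alt8
  have hd : Nat.card G ∣ 20160 := by
    rw [← hA, Nat.card_congr (MonoidHom.ofInjective hφ).toEquiv]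
    exact Subgroup.card_dvd_of_le hev
  have hd5 : Nat.card G ∣ 4032 :=
    ((Nat.coprime_comm.1 ((by norm_num : Nat.Prime 5).coprime_iff_not_dvd.2 h5)).dvd_mul_right
      (k := Nat.card G) (n := 5) (m := 4032)).1 (by simpa using hd)
  have h7 : 7 ∣ Nat.card G := by
    by_contra h7
    have hd' : Nat.card G ∣ 2 ^ 6 * 3 ^ 2 :=
      ((Nat.coprime_comm.1 ((by norm_num : Nat.Prime 7).coprime_iff_not_dvd.2 h7)).dvd_mul_right
        (k := Nat.card G) (n := 7) (m := 576)).1 (by simpa using hd5)
    obtain ⟨a, b, ha, hb, he⟩ := exists_dvd_and_dvd_of_dvd_mul hd'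
    obtain ⟨i, -, rfl⟩ := (Nat.dvd_prime_pow Nat.prime_two).1 ha
    obtain ⟨j, -, rfl⟩ := (Nat.dvd_prime_pow Nat.prime_three).1 hb
    exact hs (isSolvable_two_primes i j Nat.prime_two Nat.prime_three he)
  obtain ⟨P⟩ : Nonempty (Sylow 7 G) := inferInstance
  have hfac : ¬ 7 ^ 2 ∣ Nat.card G := fun h => by
    have := h.trans hd
    norm_num at this
  have hP : Nat.card (P : Subgroup G) = 7 := by
    rw [P.card_eq_multiplicity, Nat.factorization_def _ (by norm_num : Nat.Prime 7)]
    have h1 : 1 ≤ padicValNat 7 (Nat.card G) := one_le_padicValNat_of_dvd Nat.card_pos.ne' h7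
    have h2 : ¬ 2 ≤ padicValNat 7 (Nat.card G) := fun h =>
      hfac ((padicValNat_dvd_iff_le Nat.card_pos.ne').2 h)
    rw [show padicValNat 7 (Nat.card G) = 1 by omega, pow_one]
  set N := Subgroup.normalizer ((P : Subgroup G) : Set G) with hNdef
  have hN : Nat.card N ∣ 21 := by
    let ψ : G →* alternatingGroup (Fin 8) := φ.codRestrict _ fun g => hev ⟨g, rfl⟩
    have h := CfsgLib.SmallOrder.two_mul_card_normalizer_dvd (q := 7) (c := 8) (by norm_num) (by norm_num)
      (by norm_num) ψ (fun a b hab => hφ (congrArg Subtype.val hab)) (P : Subgroup G) hP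
    exact Nat.dvd_of_mul_dvd_mul_left two_pos (show 2 * Nat.card N ∣ 2 * 21 by rw [hNdef]; simpa using h)
  have h7N : 7 ∣ Nat.card N := hP ▸ Subgroup.card_dvd_of_le Subgroup.le_normalizer
  have hmul : Nat.card N * Nat.card (Sylow 7 G) = Nat.card G := by
    rw [Sylow.card_eq_index_normalizer P]; exact N.card_mul_index
  have hone := not_normal_seven hR P h7
  have hmod : Nat.card (Sylow 7 G) % 7 = 1 := card_sylow_modEq_one 7 G
  -- the normalizer has order 21
  have h21 : Nat.card N = 21 := by
    obtain ⟨e, he⟩ := h7N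
    rcases (Nat.dvd_prime Nat.prime_three).1 (Nat.dvd_of_mul_dvd_mul_left (by norm_num : 0 < 7)
      (show 7 * e ∣ 7 * 3 by rw [← he]; simpa using hN)) with rfl | rfl
    · exfalso
      have hNP : (P : Subgroup G) = N := Subgroup.eq_of_le_of_card_ge Subgroup.le_normalizer (by
        rw [he, hP])
      haveI : IsCyclic (P : Subgroup G) := isCyclic_of_prime_card hP
      haveI : IsMulCommutative (P : Subgroup G) := inferInstance
      have hcz : N ≤ Subgroup.centralizer ((P : Subgroup G) : Set G) := by
        rw [← hNP]; exact Subgroup.le_centralizer _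
      have hcompl := MonoidHom.ker_transferSylow_isComplement' P hcz
      have hk := hcompl.card_mul_card
      rw [hP, ← hmul, he, mul_comm, mul_one] at hk
      have hkd : Nat.card (MonoidHom.transferSylow P hcz).ker ∣ 2 ^ 6 * 3 ^ 2 := by
        refine Nat.dvd_of_mul_dvd_mul_left (by norm_num : 0 < 7) ?_
        rw [hk, show 7 * Nat.card (Sylow 7 G) = Nat.card G by rw [← hmul, he]]
        simpa using hd5
      obtain ⟨a, b, ha, hb, hab⟩ := exists_dvd_and_dvd_of_dvd_mul hkd
      obtain ⟨i, -, rfl⟩ := (Nat.dvd_prime_pow Nat.prime_two).1 ha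
      obtain ⟨j, -, rfl⟩ := (Nat.dvd_prime_pow Nat.prime_three).1 hb
      have hb0 := hR _ inferInstance (isSolvable_two_primes i j Nat.prime_two Nat.prime_three hab)
      rw [hb0, Subgroup.card_bot] at hk
      omega
    · exact he
  rw [h21] at hmul
  have hn : Nat.card (Sylow 7 G) ∣ 192 := Nat.dvd_of_mul_dvd_mul_left (by norm_num : 0 < 21)
    (show 21 * Nat.card (Sylow 7 G) ∣ 21 * 192 by rw [hmul]; simpa using hd5)
  have hcases : Nat.card (Sylow 7 G) = 8 ∨ Nat.card (Sylow 7 G) = 64 := by
    have : Nat.card (Sylow 7 G) ≤ 192 := Nat.le_of_dvd (by norm_num) hn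
    generalize Nat.card (Sylow 7 G) = m at *
    interval_cases m <;> omega
  rcases hcases with h8 | h64
  · rw [h8] at hmul
    refine Or.inr (Or.inr (Or.inr ⟨hmul.symm, ?_⟩))
    haveI : Nontrivial G := Finite.one_lt_card_iff_nontrivial.mp (by omega)
    refine ⟨fun M hM => ?_⟩
    by_contra hcon
    push Not at hcon
    haveI := hM
    have hMs : ¬ Group.IsSolvable M := fun h => hcon.1 (hR M hM h)
    have hMd : Nat.card M ∣ 168 := by rw [show 168 = Nat.card G by omega]; exact M.card_subgroup_dvd_card
    have hM60 := sixty_le hMs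
    have hM84 : Nat.card M = 84 := by
      have : Nat.card M ≠ 168 := fun h => hcon.2 (Subgroup.eq_top_of_card_eq M (by omega))
      have := Nat.le_of_dvd (by norm_num) hMd
      generalize Nat.card M = m at *
      interval_cases m <;> omega
    obtain ⟨Q⟩ : Nonempty (Sylow 7 M) := inferInstance
    have hQm : Nat.card (Sylow 7 M) % 7 = 1 := card_sylow_modEq_one 7 M
    have hQd : Nat.card (Sylow 7 M) ∣ 12 := by
      have h := Sylow.card_dvd_index Q
      have hm := (Q : Subgroup M).card_mul_index
      rw [Q.card_eq_multiplicity, hM84, show (84 : ℕ) = 7 ^ 1 * 12 by norm_num,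
        Nat.factorization_mul (by norm_num) (by norm_num), (by norm_num : Nat.Prime 7).factorization_pow,
        Finsupp.add_apply, Finsupp.single_eq_same,
        Nat.factorization_eq_zero_of_not_dvd (n := 12) (by norm_num), add_zero] at hm
      rwa [Nat.eq_of_mul_eq_mul_left (by norm_num) hm] at h
    have hQ1 : Nat.card (Sylow 7 M) = 1 := by
      have := Nat.le_of_dvd (by norm_num) hQd
      generalize Nat.card (Sylow 7 M) = m at *
      interval_cases m <;> omega
    haveI := (Nat.card_eq_one_iff_unique.1 hQ1).1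
    haveI := Q.normal_of_subsingleton
    haveI : (Q : Subgroup M).Characteristic := Sylow.characteristic_of_normal Q inferInstance
    have h0 : (Q : Subgroup M).map M.subtype = ⊥ := hR _ inferInstance (by
      obtain ⟨k, hk⟩ := (Q.isPGroup'.map M.subtype).exists_card_eq
      exact isSolvable_two_primes k 0 (p := 7) (q := 2) (by norm_num) Nat.prime_two (by rw [hk]; simp))
    rw [Subgroup.map_eq_bot_iff_of_injective _ M.subtype_injective] at h0
    exact Q.ne_bot_of_dvd_card (by rw [hM84]; norm_num) h0
  · exact (false_1344 hR (by omega) h64 f hf).elim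

theorem listed_of_transitive {m : ℕ} (hm : 5 ≤ m) (hm8 : m ≤ 7) (ρ : G →* Perm (Fin m)) (hρ : Function.Injective ρ)
    (ι : G →* alternatingGroup (Fin 8)) (hι : Function.Injective ι) (hs : ¬ Group.IsSolvable G)
    (hR : Radless G) (ht : IsPretransitive ρ.range (Fin m)) : Listed G := by
  haveI := ht
  interval_cases m
  · exact small_degree (Or.inl rfl) ρ hρ hs hR
  · exact small_degree (Or.inr rfl) ρ hρ hs hR
  · exact degree_seven ρ hρ ι hι hs

/-- A subgroup of `GL₄(2)` without soluble radical. -/
theorem listed_of_embedding [Nontrivial G] (f : G →* GL (Fin 4) (ZMod 2)) (hf : Function.Injective f)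
    (hR : Radless G) : Listed G := by
  classical
  have hs : ¬ Group.IsSolvable G := fun h => by
    haveI := h
    haveI : Group.IsSolvable (⊤ : Subgroup G) :=
      Group.isSolvable_of_isSolvable_injective (f := (Subgroup.topEquiv (G := G)).toMonoidHom)
        Subgroup.topEquiv.injective
    exact top_ne_bot (hR ⊤ inferInstance inferInstance)
  obtain ⟨e⟩ := CfsgLib.Classical.GLFourTwo.gl_equiv_alt (F := ZMod 2) (ZMod.card 2)
  let ι : G →* alternatingGroup (Fin 8) := e.toMonoidHom.comp f
  have hι : Function.Injective ι := e.injective.comp hf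
  let φ : G →* Perm (Fin 8) := (alternatingGroup (Fin 8)).subtype.comp ι
  have hφ : Function.Injective φ := Subtype.coe_injective.comp hι
  letI : MulAction G (Fin 8) := MulAction.compHom (Fin 8) φ
  have hsm : ∀ (g : G) x, g • x = φ g x := fun _ _ => rfl
  -- a large orbit
  obtain ⟨a, ha⟩ : ∃ a : Fin 8, 5 ≤ Nat.card (orbit G a) := by
    by_contra hcon
    push Not at hcon
    refine hs (isSolvable_of_invariant φ (fun x => orbit G x) (fun g x => ?_) (fun b => ?_) hφ)
    · show orbit G (g • x) = orbit G x
      exact orbit_smul g x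
    · rcases isEmpty_or_nonempty {x : Fin 8 // orbit G x = b} with h | ⟨⟨x, hx⟩⟩
      · simp
      · refine le_trans (Nat.card_le_card_of_injective
          (fun y : {x : Fin 8 // orbit G x = b} => (⟨y.1, (y.2.trans hx.symm) ▸ mem_orbit_self y.1⟩ : orbit G x)) ?_) ?_
        · exact fun u w h => Subtype.ext (congrArg (fun z : orbit G x => (z : Fin 8)) h)
        · exact Nat.lt_succ_iff.1 (hcon x)
  have hle8 : Nat.card (orbit G a) ≤ 8 := (Nat.card_le_card_of_injective _ Subtype.val_injective).trans (by simp)
  by_cases h8 : Nat.card (orbit G a) = 8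
  · -- transitive
    haveI hpt : IsPretransitive G (Fin 8) := by
      refine ⟨fun x y => ?_⟩
      have huniv : orbit G a = Set.univ := Set.eq_of_subset_of_ncard_le (Set.subset_univ _) (by
        rw [Set.ncard_univ, ← Nat.card_coe_set_eq (orbit G a), h8]; simp) (Set.toFinite _)
      obtain ⟨g, hg⟩ : x ∈ orbit G a := huniv ▸ Set.mem_univ x
      obtain ⟨g', hg'⟩ : y ∈ orbit G a := huniv ▸ Set.mem_univ y
      exact ⟨g' * g⁻¹, by rw [← hg, ← hg']; simp [mul_smul]⟩
    by_cases hprim : IsPreprimitive G (Fin 8)
    · haveI : IsPreprimitive φ.range (Fin 8) := by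
        haveI : IsPretransitive φ.range (Fin 8) := ⟨fun x y => by
          obtain ⟨g, hg⟩ := exists_smul_eq G x y
          exact ⟨⟨φ g, g, rfl⟩, hg⟩⟩
        refine ⟨fun {B} hB => hprim.isTrivialBlock_of_isBlock ?_⟩
        intro g₁ g₂ hne
        exact hB (g₁ := ⟨φ g₁, g₁, rfl⟩) (g₂ := ⟨φ g₂, g₂, rfl⟩) hne
      exact degree_eight φ hφ (fun y hy => by obtain ⟨g, rfl⟩ := hy; exact (ι g).2) f hf hs hR
    · exfalso
      obtain ⟨B, hB, hBnt⟩ : ∃ B : Set (Fin 8), IsBlock G B ∧ ¬ IsTrivialBlock B := by
        by_contra hcon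
        push Not at hcon
        exact hprim ⟨fun {B} hB => hcon B hB⟩
      simp only [IsTrivialBlock, not_or] at hBnt
      have hBne : B.Nonempty := (Set.not_subsingleton_iff.1 hBnt.1).nonempty
      have hmul := hB.ncard_block_mul_ncard_orbit_eq hBne
      rw [Nat.card_fin] at hmul
      have hB2 : 2 ≤ B.ncard := by
        by_contra h
        exact hBnt.1 ((Set.ncard_le_one_iff_subsingleton).1 (by omega))
      have hB7 : B.ncard < 8 := by
        refine lt_of_le_of_ne ((Set.ncard_le_card B).trans (by simp)) fun h => hBnt.2 ?_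
        exact Set.eq_of_subset_of_ncard_le (Set.subset_univ _) (by rw [Set.ncard_univ, h]; simp) (Set.toFinite _)
      obtain ⟨b, hb⟩ := hBne
      choose g hg using fun x : Fin 8 => exists_smul_eq G b x
      let fb : Fin 8 → Set (Fin 8) := fun x => g x • B
      have hmem : ∀ x, x ∈ fb x := fun x => by
        have := Set.smul_mem_smul_set (a := g x) hb
        rwa [hg] at this
      have hfb : ∀ (h : G) x, x ∈ h • B → h • B = fb x := by
        intro h x hx
        rcases hB.smul_eq_smul_or_disjoint h (g x) with he | he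
        · exact he
        · exact absurd (hmem x) (Set.disjoint_left.1 he hx)
      refine hs (isSolvable_of_system φ (fun x => (⟨fb x, g x, rfl⟩ : orbit G B)) hφ ?_ ?_ ?_ ?_)
      · rintro ⟨_, h, rfl⟩
        exact ⟨h • b, Subtype.ext (hfb h _ (Set.smul_mem_smul_set hb)).symm⟩
      · intro h x y hxy
        have hxy' : fb x = fb y := congrArg Subtype.val hxy
        refine Subtype.ext ?_
        show fb (h • x) = fb (h • y)
        have h1 := hfb (h * g x) (h • x) (by rw [mul_smul]; exact Set.smul_mem_smul_set (hmem x))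
        have h2 := hfb (h * g y) (h • y) (by rw [mul_smul]; exact Set.smul_mem_smul_set (hmem y))
        rw [← h1, ← h2, mul_smul, mul_smul]
        exact congrArg (h • ·) hxy'
      · rintro ⟨_, h, rfl⟩
        refine le_trans (Nat.card_le_card_of_injective (fun x => (⟨x.1, ?_⟩ : (h • B : Set (Fin 8)))) ?_) ?_
        · have : fb x.1 = h • B := congrArg Subtype.val x.2
          rw [← this]
          exact hmem x.1
        · exact fun u w huw => Subtype.ext (congrArg (fun z : (h • B : Set (Fin 8)) => (z : Fin 8)) huw)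
        · rw [Nat.card_coe_set_eq, Set.ncard_smul_set]
          have : B.ncard ∣ 8 := ⟨_, hmul.symm⟩
          interval_cases B.ncard <;> omega
      · rw [Nat.card_coe_set_eq]
        have hpos : 0 < (orbit G B).ncard := Nat.pos_of_ne_zero fun h => by simp [h] at hmul
        nlinarith
  · -- an orbit of length 5, 6 or 7
    let π : G →* Perm (orbit G a) := MulAction.toPermHom G (orbit G a)
    have hπ : Function.Injective π := by
      rw [← MonoidHom.ker_eq_bot_iff]
      refine hR _ inferInstance (isSolvable_of_invariant (φ.comp π.ker.subtype)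
        (fun x => if x ∈ orbit G a then some x else none) (fun g x => ?_) (fun b => ?_)
        (hφ.comp π.ker.subtype_injective))
      · show ite ((g : G) • x ∈ orbit G a) (some ((g : G) • x)) none = _
        by_cases hx : x ∈ orbit G a
        · have hh := congrArg Subtype.val (Equiv.Perm.ext_iff.1 (MonoidHom.mem_ker.1 g.2) ⟨x, hx⟩)
          have hh' : (g : G) • x = x := hh
          rw [hh']
        · rw [if_neg hx, if_neg fun h => hx ?_]
          obtain ⟨k, hk⟩ := h
          exact ⟨(g : G)⁻¹ * k, by simp only at hk ⊢; rw [mul_smul, hk, inv_smul_smul]⟩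
      · rcases b with _ | b
        · refine le_trans (Nat.card_le_card_of_injective (fun x => (⟨x.1, ?_⟩ : ((orbit G a)ᶜ : Set (Fin 8)))) ?_) ?_
          · intro hx
            have := x.2
            rw [if_pos hx] at this
            exact Option.some_ne_none _ this
          · exact fun u w huw => Subtype.ext (congrArg (fun z : ((orbit G a)ᶜ : Set (Fin 8)) => (z : Fin 8)) huw)
          · have := Set.ncard_add_ncard_compl (orbit G a)
            rw [Nat.card_fin, ← Nat.card_coe_set_eq, ← Nat.card_coe_set_eq] at this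
            refine le_trans (le_of_eq rfl) (?_ : Nat.card ((orbit G a)ᶜ : Set (Fin 8)) ≤ 4)
            omega
        · haveI : Subsingleton {x : Fin 8 // (if x ∈ orbit G a then some x else none) = some b} :=
            ⟨fun u w => Subtype.ext (by
              have hu := u.2; have hw := w.2
              split_ifs at hu hw
              exact (Option.some.inj hu).trans (Option.some.inj hw).symm)⟩
          exact (Finite.card_le_one_iff_subsingleton.2 this).trans (by norm_num)
    let c := Finite.equivFin (orbit G a)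
    let ρ : G →* Perm (Fin (Nat.card (orbit G a))) := c.permCongrHom.toMonoidHom.comp π
    refine listed_of_transitive ha (by omega) ρ (c.permCongrHom.injective.comp hπ) ι hι hs hR ⟨fun x y => ?_⟩
    obtain ⟨g, hg⟩ := exists_smul_eq G (c.symm x) (c.symm y)
    refine ⟨⟨ρ g, g, rfl⟩, ?_⟩
    show c (π g (c.symm x)) = y
    rw [show π g (c.symm x) = g • c.symm x from rfl, hg, Equiv.apply_symm_apply]

/-! ### `GL₃(2)` -/

theorem gl_three_two : IsSimpleGroup (GL (Fin 3) (ZMod 2)) ∧ Nat.card (GL (Fin 3) (ZMod 2)) = 168 := by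
  haveI : Fact (Nat.Prime 2) := ⟨Nat.prime_two⟩
  have hc : Nat.card (GL (Fin 3) (ZMod 2)) = 168 := by
    rw [Matrix.card_GL_field]; simp [Fin.prod_univ_succ]
  refine ⟨?_, hc⟩
  haveI := CfsgLib.Classical.isSimpleGroup_PSL (ι := Fin 3) (F := ZMod 2) (by simp)
  have hu : Nat.card (ZMod 2)ˣ = 1 := by rw [Nat.card_units, Nat.card_zmod]
  have hdet : ∀ g : GL (Fin 3) (ZMod 2), (g : Matrix (Fin 3) (Fin 3) (ZMod 2)).det = 1 := fun g =>
    congrArg Units.val ((Nat.card_eq_one_iff_unique.1 hu).1.elim (Matrix.GeneralLinearGroup.det g) 1)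
  let toG : Matrix.SpecialLinearGroup (Fin 3) (ZMod 2) →* GL (Fin 3) (ZMod 2) := Matrix.SpecialLinearGroup.toGL
  have hbij : Function.Bijective toG := ⟨fun a b h => Subtype.ext (congrArg Units.val h),
    fun g => ⟨⟨g, hdet g⟩, Units.ext rfl⟩⟩
  let eS := MulEquiv.ofBijective toG hbij
  have hz : Subgroup.center (Matrix.SpecialLinearGroup (Fin 3) (ZMod 2)) = ⊥ := by
    refine Subgroup.eq_bot_of_card_eq _ ?_
    rw [CfsgLib.Classical.card_center_SL, Nat.card_zmod]
    simp
  exact ((eS.symm.trans QuotientGroup.quotientBot.symm).trans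
    (QuotientGroup.quotientMulEquivOfEq hz.symm)).isSimpleGroup

theorem equiv_gl_three_two (h : Nat.card G = 168) [IsSimpleGroup G] :
    Nonempty (G ≃* GL (Fin 3) (ZMod 2)) := by
  obtain ⟨hs, hc⟩ := gl_three_two
  haveI := hs
  obtain ⟨e₁⟩ := CfsgLib.OneSixEight.nonempty_equiv_model (G := G) h
  obtain ⟨e₂⟩ := CfsgLib.OneSixEight.nonempty_equiv_model (G := GL (Fin 3) (ZMod 2)) hc
  exact ⟨e₁.trans e₂.symm⟩

end CfsgLib.AEightSub
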