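import Cfsg.Agent.Lib.Classical.OmegaFourMinus
import Cfsg.Agent.Lib.Classical.Card
import Cfsg.Agent.Lib.Classical.Transvection

set_option autoImplicit false
set_option maxRecDepth 20000
set_option maxHeartbeats 2000000

/-!
`L_2(9) ≅ A_6` through the permutation module modulo three and `L_2(7) ≅ L_3(2)` through the
quadratic residue code.
-/

namespace CfsgLib.Classical.SmallExceptional

open Matrix CfsgLib.Orth

section Six

/-- Coordinates of the minus form. -/
def i4 : (Fin 1 ⊕ Fin 1) ⊕ Fin 2 → Fin 4 := Sum.elim (Sum.elim ![0] ![1]) ![2, 3]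

/-- From the coordinates into the sum zero module. -/
def j4 : Matrix (Fin 6) ((Fin 1 ⊕ Fin 1) ⊕ Fin 2) (ZMod 3) :=
  (!![0, 0, 0, 0; 0, 0, 1, 1; 0, 1, 2, 2; 1, 0, 2, 2; 1, 1, 0, 1; 1, 1, 1, 0] :
    Matrix (Fin 6) (Fin 4) (ZMod 3)).submatrix id i4

/-- Back to the coordinates. -/
def a4 : Matrix ((Fin 1 ⊕ Fin 1) ⊕ Fin 2) (Fin 6) (ZMod 3) :=
  (!![0, 0, 2, 0, 2, 2; 0, 0, 0, 2, 2, 2; 0, 1, 2, 2, 0, 1; 0, 1, 2, 2, 1, 0] :
    Matrix (Fin 4) (Fin 6) (ZMod 3)).submatrix i4 id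

/-- The target form. -/
abbrev q4 : ((Fin 1 ⊕ Fin 1) ⊕ Fin 2 → ZMod 3) → ZMod 3 := Cfsg.quadFormMinus 1 (ZMod 3) 0 1

theorem j4_a4 : ∀ y : Fin 6 → ZMod 3, ∑ i, y i = 0 →
    ∃ c : ZMod 3, ∀ i, y i = (j4 *ᵥ (a4 *ᵥ y)) i + c := by decide +kernel

theorem j4_facts : ∀ x, ∑ i, (j4 *ᵥ x) i = 0 ∧ q4 x = ∑ i, (j4 *ᵥ x) i * (j4 *ᵥ x) i := by
  decide +kernel

theorem a4_one : ∀ c : ZMod 3, a4 *ᵥ (fun _ => c) = 0 := by decide +kernel

theorem a4_j4 : a4 * j4 = 1 := by decide +kernel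

/-- The permutation action. -/
def m4 (σ : Equiv.Perm (Fin 6)) :
    Matrix ((Fin 1 ⊕ Fin 1) ⊕ Fin 2) ((Fin 1 ⊕ Fin 1) ⊕ Fin 2) (ZMod 3) :=
  a4 * j4.submatrix σ.symm id

theorem m4_mulVec (σ : Equiv.Perm (Fin 6)) (x : (Fin 1 ⊕ Fin 1) ⊕ Fin 2 → ZMod 3) :
    m4 σ *ᵥ x = a4 *ᵥ ((j4 *ᵥ x) ∘ σ.symm) := by
  rw [m4, ← Matrix.mulVec_mulVec]
  rfl

theorem sum_perm (σ : Equiv.Perm (Fin 6)) (y : Fin 6 → ZMod 3) : ∑ i, y (σ.symm i) = ∑ i, y i :=
  Equiv.sum_comp σ.symm y

theorem m4_mul (σ τ : Equiv.Perm (Fin 6)) : m4 (σ * τ) = m4 σ * m4 τ := by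
  refine Matrix.ext_of_mulVec_single fun t => ?_
  set x : (Fin 1 ⊕ Fin 1) ⊕ Fin 2 → ZMod 3 := Pi.single t 1
  rw [← Matrix.mulVec_mulVec, m4_mulVec, m4_mulVec, m4_mulVec]
  set y := (j4 *ᵥ x) ∘ τ.symm with hy
  obtain ⟨c, hc⟩ := j4_a4 y (by rw [hy]; exact (sum_perm τ _).trans (j4_facts x).1)
  have e : (j4 *ᵥ x) ∘ ((σ * τ).symm : Fin 6 → Fin 6) =
      (j4 *ᵥ (a4 *ᵥ y)) ∘ σ.symm + fun _ => c := funext fun i => hc (σ.symm i)
  rw [e, Matrix.mulVec_add, a4_one, add_zero]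

theorem m4_isometry (σ : Equiv.Perm (Fin 6)) (x : (Fin 1 ⊕ Fin 1) ⊕ Fin 2 → ZMod 3) :
    q4 (m4 σ *ᵥ x) = q4 x := by
  rw [m4_mulVec]
  set z := (j4 *ᵥ x) ∘ σ.symm with hz
  have hz0 : ∑ i, z i = 0 := by rw [hz]; exact (sum_perm σ _).trans (j4_facts x).1
  obtain ⟨c, hc⟩ := j4_a4 z hz0
  rw [(j4_facts (a4 *ᵥ z)).2, (j4_facts x).2]
  have h2 : ∑ i, z i * z i = ∑ i, (j4 *ᵥ x) i * (j4 *ᵥ x) i :=
    sum_perm σ fun i => (j4 *ᵥ x) i * (j4 *ᵥ x) i
  have h0 := (j4_facts (a4 *ᵥ z)).1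
  have h6 : (6 : ZMod 3) = 0 := by decide
  rw [← h2]
  simp only [hc, Fin.sum_univ_six] at h0 ⊢
  linear_combination -2 * c * h0 - c * c * h6

theorem m4_one : m4 1 = 1 := a4_j4

/-- The homomorphism to the orthogonal group. -/
def h4 : Equiv.Perm (Fin 6) →* Cfsg.isometryGroup (ZMod 3) q4 :=
  (MonoidHom.toHomUnits
    { toFun := m4
      map_one' := m4_one
      map_mul' := m4_mul }).codRestrict _ fun σ x _ => m4_isometry σ x

theorem m4_cycle : m4 (Equiv.swap 0 1 * Equiv.swap 1 2) ≠ 1 := by decide +kernel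

theorem aniso_three : ∀ z₁ z₂ : ZMod 3, z₁ ^ 2 + 0 * z₁ * z₂ + 1 * z₂ ^ 2 = 0 → z₁ = 0 ∧ z₂ = 0 := by
  decide

theorem two_ne_three : (2 : ZMod 3) ≠ 0 := by decide

theorem card_omega_four :
    Nat.card (Cfsg.Omega (ZMod 3) q4) = 360 := by
  haveI : Fact (Nat.Prime 3) := ⟨by norm_num⟩
  obtain ⟨Q, hQ, hB⟩ := exists_quadForm_minus (F := ZMod 3) 1 aniso_three
  have h := card_orth_minus 2 (by norm_num) aniso_three hQ hB
  have hi := index_omega_odd hB two_ne_three (by simp)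
  have hc := Subgroup.index_mul_card (Cfsg.Omega (ZMod 3) ⇑Q)
  rw [hi, show Nat.card ↥(Cfsg.isometryGroup (ZMod 3) ⇑Q) = Nat.card (Grp Q) from rfl, h,
    hQ] at hc
  simp [-Nat.card_eq_fintype_card, Nat.card_zmod] at hc
  show Nat.card (Cfsg.Omega (ZMod 3) (Cfsg.quadFormMinus 1 (ZMod 3) 0 1)) = 360
  omega

theorem psl_two_nine {F : Type*} [Field F] [Fintype F] (hF : Fintype.card F = 9) :
    Nonempty (ProjectiveSpecialLinearGroup (Fin 2) F ≃* alternatingGroup (Fin 6)) := by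
  classical
  haveI : Fact (Nat.Prime 3) := ⟨by norm_num⟩
  obtain ⟨e⟩ := OmegaFourMinus.pomega_four_minus (F := ZMod 3) (K := F) (q := 3) (ZMod.card 3)
    (by rw [hF]; norm_num) 0 1 aniso_three
  have : IsSimpleGroup (alternatingGroup (Fin 6)) := alternatingGroup.isSimpleGroup (by simp)
  have hA : commutator (Equiv.Perm (Fin 6)) = alternatingGroup (Fin 6) := by
    refine le_antisymm alternatingGroup.commutator_perm_le ?_
    have h := _root_.commutator_alternatingGroup_eq_top (α := Fin 6) (by simp)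
    calc alternatingGroup (Fin 6)
        = (commutator ↥(alternatingGroup (Fin 6))).map (alternatingGroup (Fin 6)).subtype := by
          rw [h, ← MonoidHom.range_eq_map, Subgroup.range_subtype]
      _ ≤ commutator (Equiv.Perm (Fin 6)) := by
          rw [commutator_def, commutator_def, Subgroup.map_commutator]
          exact Subgroup.commutator_mono le_top le_top
  have hmap : (alternatingGroup (Fin 6)).map h4 ≤ Cfsg.Omega (ZMod 3) q4 := by
    rw [← hA]
    show _ ≤ commutator _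
    rw [commutator_def, commutator_def, Subgroup.map_commutator]
    exact Subgroup.commutator_mono le_top le_top
  let χ : alternatingGroup (Fin 6) →* Cfsg.Omega (ZMod 3) q4 :=
    (h4.comp (alternatingGroup (Fin 6)).subtype).codRestrict _ fun g => hmap ⟨g.1, g.2, rfl⟩
  have hinj : Function.Injective χ := by
    rw [← MonoidHom.ker_eq_bot_iff]
    refine ((inferInstance : χ.ker.Normal).eq_bot_or_eq_top).resolve_right fun htop => m4_cycle ?_
    have hmem : Equiv.swap (0 : Fin 6) 1 * Equiv.swap 1 2 ∈ alternatingGroup (Fin 6) := by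
      rw [Equiv.Perm.mem_alternatingGroup, map_mul, Equiv.Perm.sign_swap (by decide),
        Equiv.Perm.sign_swap (by decide)]
      rfl
    have hk : χ ⟨_, hmem⟩ = 1 := MonoidHom.mem_ker.1 (htop ▸ Subgroup.mem_top _)
    exact congrArg (fun g : Cfsg.Omega (ZMod 3) q4 =>
      (((g : Cfsg.isometryGroup (ZMod 3) q4) : GL ((Fin 1 ⊕ Fin 1) ⊕ Fin 2) (ZMod 3)) :
        Matrix ((Fin 1 ⊕ Fin 1) ⊕ Fin 2) ((Fin 1 ⊕ Fin 1) ⊕ Fin 2) (ZMod 3))) hk
  have hA6 : Nat.card (alternatingGroup (Fin 6)) = 360 := by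
    rw [nat_card_alternatingGroup, Nat.card_fin]; rfl
  let eχ := MulEquiv.ofBijective χ ((Nat.bijective_iff_injective_and_card χ).2
    ⟨hinj, by rw [hA6, card_omega_four]⟩)
  let π := (QuotientGroup.mk' (Subgroup.center (Cfsg.Omega (ZMod 3) q4))).comp eχ.toMonoidHom
  have hπ : Function.Surjective π := (QuotientGroup.mk'_surjective _).comp eχ.surjective
  have hP : Nat.card (Cfsg.POmega (ZMod 3) q4) = 360 := by
    rw [Nat.card_congr e.toEquiv]
    have h := card_PSL_two (F := F)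
    rw [hF, show Nat.gcd 2 (9 - 1) = 2 by decide] at h
    omega
  let eπ := MulEquiv.ofBijective π ((Nat.bijective_iff_surjective_and_card π).2
    ⟨hπ, by rw [hA6, hP]⟩)
  exact ⟨e.symm.trans eπ.symm⟩

end Six

section Seven

/-- A point of the projective line from homogeneous coordinates. -/
def pt (u v : ZMod 7) : Fin 8 :=
  if v = 0 then 7 else ⟨(u * v ^ 5).val, by have := ZMod.val_lt (u * v ^ 5); omega⟩

/-- The inverse of `(a b; c d)` on the projective line. -/
def actInv (a b c d : ZMod 7) (x : Fin 8) : Fin 8 :=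
  if x = 7 then pt d (-c) else pt (d * ((x : ℕ) : ZMod 7) - b) (-c * ((x : ℕ) : ZMod 7) + a)

/-- Basis of the code modulo the constants. -/
def j7 : Matrix (Fin 8) (Fin 3) (ZMod 2) :=
  !![0, 0, 0; 0, 0, 1; 0, 1, 0; 1, 0, 0; 0, 1, 1; 1, 1, 1; 1, 0, 1; 1, 1, 0]

/-- Back to coordinates. -/
def a7 : Matrix (Fin 3) (Fin 8) (ZMod 2) :=
  !![0, 0, 0, 0, 1, 1, 0, 0; 0, 0, 0, 0, 0, 1, 1, 0; 0, 0, 0, 0, 0, 1, 0, 1]

/-- The representation. -/
def m7 (a b c d : ZMod 7) : Matrix (Fin 3) (Fin 3) (ZMod 2) :=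
  a7 * j7.submatrix (actInv a b c d) id

theorem m7_step : ∀ a b c d : ZMod 7, a * d - b * c = 1 →
    m7 (a + c) (b + d) c d = m7 1 1 0 1 * m7 a b c d ∧
    m7 a b (c + a) (d + b) = m7 1 0 1 1 * m7 a b c d := by decide +kernel

theorem m7_iter : ∀ (n : ℕ) (a b c d : ZMod 7), a * d - b * c = 1 →
    m7 (a + n * c) (b + n * d) c d = m7 1 1 0 1 ^ n * m7 a b c d ∧
    m7 a b (c + n * a) (d + n * b) = m7 1 0 1 1 ^ n * m7 a b c d
  | 0, a, b, c, d, _ => by simp
  | n + 1, a, b, c, d, h => by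
      obtain ⟨h1, h2⟩ := m7_iter n a b c d h
      have e1 := (m7_step (a + n * c) (b + n * d) c d (by linear_combination h)).1
      have e2 := (m7_step a b (c + n * a) (d + n * b) (by linear_combination h)).2
      rw [h1, ← mul_assoc, ← pow_succ'] at e1
      rw [h2, ← mul_assoc, ← pow_succ'] at e2
      push_cast
      exact ⟨(congrArg₂ (fun x y => m7 x y c d) (by ring) (by ring)).trans e1,
        (congrArg₂ (fun x y => m7 a b x y) (by ring) (by ring)).trans e2⟩

theorem m7_one : m7 1 0 0 1 = 1 := by decide +kernel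

theorem m7_gen (a b c d : ZMod 7) (h : a * d - b * c = 1) (t : ZMod 7) :
    m7 (a + t * c) (b + t * d) c d = m7 1 t 0 1 * m7 a b c d ∧
    m7 a b (c + t * a) (d + t * b) = m7 1 0 t 1 * m7 a b c d := by
  obtain ⟨n, rfl⟩ : ∃ n : ℕ, t = n := ⟨t.val, (ZMod.natCast_zmod_val t).symm⟩
  obtain ⟨h1, h2⟩ := m7_iter n a b c d h
  obtain ⟨e1, e2⟩ := m7_iter n 1 0 0 1 (by ring)
  simp only [mul_zero, add_zero, mul_one, zero_add, m7_one] at e1 e2
  exact ⟨by rw [h1, e1], by rw [h2, e2]⟩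

theorem m7_facts : m7 1 0 0 1 = 1 ∧ m7 6 0 0 6 = 1 ∧ m7 1 1 0 1 ≠ 1 := by decide +kernel

/-- The representation on the group. -/
def mg (g : SpecialLinearGroup (Fin 2) (ZMod 7)) : Matrix (Fin 3) (Fin 3) (ZMod 2) :=
  m7 (g.1 0 0) (g.1 0 1) (g.1 1 0) (g.1 1 1)

theorem psl_map {n : ℕ} {F K : Type*} [Field F] [Field K] (φ : F ≃+* K) :
    Nonempty (ProjectiveSpecialLinearGroup (Fin n) F ≃* ProjectiveSpecialLinearGroup (Fin n) K) := by
  let e : SpecialLinearGroup (Fin n) F ≃* SpecialLinearGroup (Fin n) K :=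
    { toFun := SpecialLinearGroup.map φ.toRingHom
      invFun := SpecialLinearGroup.map φ.symm.toRingHom
      left_inv := fun g => by ext i j; simp
      right_inv := fun g => by ext i j; simp
      map_mul' := map_mul _ }
  exact ⟨QuotientGroup.congr _ _ e (by
    ext x
    rw [Subgroup.mem_map]
    constructor
    · rintro ⟨y, hy, rfl⟩
      refine Subgroup.mem_center_iff.2 fun z => ?_
      obtain ⟨z, rfl⟩ := e.surjective z
      show e z * e y = e y * e z
      rw [← map_mul, ← map_mul, Subgroup.mem_center_iff.1 hy z]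
    · intro hx
      refine ⟨e.symm x, Subgroup.mem_center_iff.2 fun z => ?_, e.apply_symm_apply x⟩
      apply e.injective
      rw [map_mul, map_mul, MulEquiv.apply_symm_apply, Subgroup.mem_center_iff.1 hx (e z)])⟩

theorem mg_mul (g h : SpecialLinearGroup (Fin 2) (ZMod 7)) [Fact (Nat.Prime 7)] :
    mg (g * h) = mg g * mg h := by
  have hone : mg 1 = 1 := m7_facts.1
  have hg : g ∈ Subgroup.closure {A : SpecialLinearGroup (Fin 2) (ZMod 7) |
      ∃ (i j : Fin 2) (hij : i ≠ j) (t : ZMod 7), A = SpecialLinearGroup.transvection hij t} := by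
    rw [closure_transvection_eq_top]; trivial
  revert h
  induction hg using Subgroup.closure_induction with
  | mem x hx =>
      obtain ⟨i, j, hij, t, rfl⟩ := hx
      intro h
      have hd : h.1 0 0 * h.1 1 1 - h.1 0 1 * h.1 1 0 = 1 := by
        rw [← Matrix.det_fin_two]; exact h.2
      have key := m7_gen _ _ _ _ hd t
      fin_cases i <;> fin_cases j
      · exact absurd rfl hij
      · simpa [mg, Matrix.mul_apply, Fin.sum_univ_two, SpecialLinearGroup.transvection_coe,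
          Matrix.single_apply] using key.1
      · simpa [mg, Matrix.mul_apply, Fin.sum_univ_two, SpecialLinearGroup.transvection_coe,
          Matrix.single_apply, add_comm] using key.2
      · exact absurd rfl hij
  | one => intro h; rw [hone, one_mul, one_mul]
  | mul x y _ _ hx hy => intro h; rw [mul_assoc, hx, hy, hx, mul_assoc]
  | inv x _ hx =>
      intro h
      have h1 := hx x⁻¹
      rw [mul_inv_cancel, hone] at h1
      have h2 := hx (x⁻¹ * h)
      rw [mul_inv_cancel_left] at h2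
      rw [h2, ← mul_assoc, mul_eq_one_comm.1 h1.symm, one_mul]

theorem zmod_two_cases : ∀ t : ZMod 2, t = 0 ∨ t = 1 := by decide

theorem psl_two_seven {F K : Type*} [Field F] [Fintype F] [Field K] [Fintype K]
    (hF : Fintype.card F = 7) (hK : Fintype.card K = 2) :
    Nonempty (ProjectiveSpecialLinearGroup (Fin 2) F ≃* ProjectiveSpecialLinearGroup (Fin 3) K) := by
  classical
  haveI : Fact (Nat.Prime 7) := ⟨by norm_num⟩
  haveI : Fact (Nat.Prime 2) := ⟨Nat.prime_two⟩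
  obtain ⟨eF⟩ := psl_map (n := 2) (ZMod.ringEquivOfPrime F (by norm_num) hF)
  obtain ⟨eK⟩ := psl_map (n := 3) (ZMod.ringEquivOfPrime K Nat.prime_two hK)
  have hone : mg 1 = 1 := m7_facts.1
  have hdet : ∀ g, (mg g).det = 1 := fun g => by
    have h : (mg g).det * (mg g⁻¹).det = 1 := by
      rw [← Matrix.det_mul, ← mg_mul, mul_inv_cancel, hone, Matrix.det_one]
    exact (zmod_two_cases _).resolve_left
      (left_ne_zero_of_mul_eq_one h)
  let f : SpecialLinearGroup (Fin 2) (ZMod 7) →* SpecialLinearGroup (Fin 3) (ZMod 2) :=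
    MonoidHom.mk' (fun g => ⟨mg g, hdet g⟩) fun a b => Subtype.ext (mg_mul a b)
  have hker : Subgroup.center (SpecialLinearGroup (Fin 2) (ZMod 7)) ≤ f.ker := fun z hz => by
    obtain ⟨c, hc, hz'⟩ := Matrix.SpecialLinearGroup.mem_center_iff.1 hz
    refine MonoidHom.mem_ker.2 (Subtype.ext ?_)
    show m7 (z.1 0 0) (z.1 0 1) (z.1 1 0) (z.1 1 1) = 1
    rw [Fintype.card_fin, sq, mul_self_eq_one_iff] at hc
    rw [← hz']
    rcases hc with rfl | rfl
    · simpa using m7_facts.1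
    · simpa [show (-1 : ZMod 7) = 6 from rfl] using m7_facts.2.1
  let h : ProjectiveSpecialLinearGroup (Fin 2) (ZMod 7) →* SpecialLinearGroup (Fin 3) (ZMod 2) :=
    QuotientGroup.lift _ f hker
  have : IsSimpleGroup (ProjectiveSpecialLinearGroup (Fin 2) (ZMod 7)) :=
    Matrix.ProjectiveSpecialLinearGroup.rank_two_simple (by rw [Nat.card_zmod]; norm_num)
  have hinj : Function.Injective h := by
    rw [← MonoidHom.ker_eq_bot_iff]
    refine ((inferInstance : h.ker.Normal).eq_bot_or_eq_top).resolve_right fun htop => m7_facts.2.2 ?_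
    have hk : h (QuotientGroup.mk (SpecialLinearGroup.transvection (show (0 : Fin 2) ≠ 1 from zero_ne_one) 1)) = 1 :=
      MonoidHom.mem_ker.1 (htop ▸ Subgroup.mem_top _)
    have hk' := congrArg Subtype.val hk
    change mg _ = 1 at hk'
    simpa [mg, SpecialLinearGroup.transvection_coe, Matrix.single_apply] using hk'
  have hsrc : Nat.card (ProjectiveSpecialLinearGroup (Fin 2) (ZMod 7)) = 168 := by
    have h := card_PSL_two (F := ZMod 7)
    rw [ZMod.card, show Nat.gcd 2 (7 - 1) = 2 by rfl] at h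
    omega
  have htgt : Nat.card (SpecialLinearGroup (Fin 3) (ZMod 2)) = 168 := by
    have h := sub_one_mul_card_SL (F := ZMod 2) (n := 3) (by norm_num)
    simp [-Nat.card_eq_fintype_card, Fin.prod_univ_three] at h
    omega
  have hz : Subgroup.center (SpecialLinearGroup (Fin 3) (ZMod 2)) = ⊥ := by
    refine Subgroup.eq_bot_of_card_eq _ ?_
    rw [card_center_SL, Nat.card_zmod]
    rfl
  let eh := MulEquiv.ofBijective h ((Nat.bijective_iff_injective_and_card h).2
    ⟨hinj, by rw [hsrc, htgt]⟩)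
  exact ⟨eF.symm.trans ((eh.trans ((QuotientGroup.quotientBot).symm.trans
    (QuotientGroup.quotientMulEquivOfEq hz.symm))).trans eK)⟩

end Seven

end CfsgLib.Classical.SmallExceptional
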