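import Cfsg.Agent.Lib.Classical.UnitaryOrder

set_option autoImplicit false

/-!
Unitary transvections generate `SU_n(q)` for `n ≥ 3`, `(n, q) ≠ (3, 2)`.
-/

namespace CfsgLib.Classical.Herm

open Matrix Cfsg
open CfsgLib.ClassicalAut (Unitary.Conj Unitary.space Unitary.herm_apply Unitary.mem_normOne)

variable {F : Type*} [Field F] [Finite F] {q : ℕ} (K : Unitary.Conj F q) {n : ℕ}

local notation "H" => hermForm n F q

/-- Apply an element of the special unitary group. -/
def app (g : SU n F q) (x : Fin n → F) : Fin n → F := (g.1 : Matrix (Fin n) (Fin n) F) *ᵥ x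

omit [Finite F] in
theorem app_one (x : Fin n → F) : app (1 : SU n F q) x = x := one_mulVec _

omit [Finite F] in
theorem app_mul (g h : SU n F q) (x : Fin n → F) : app (g * h) x = app g (app h x) :=
  (mulVec_mulVec _ _ _).symm

omit [Finite F] in
theorem app_inv (g : SU n F q) (x : Fin n → F) : app g⁻¹ (app g x) = x := by
  rw [← app_mul, inv_mul_cancel, app_one]

omit [Finite F] in
theorem app_inv' (g : SU n F q) (x : Fin n → F) : app g (app g⁻¹ x) = x := by
  rw [← app_mul, mul_inv_cancel, app_one]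

omit [Finite F] in
theorem app_add (g : SU n F q) (x y : Fin n → F) : app g (x + y) = app g x + app g y := mulVec_add _ _ _

omit [Finite F] in
theorem app_smul (g : SU n F q) (c : F) (x : Fin n → F) : app g (c • x) = c • app g x :=
  mulVec_smul _ _ _

omit [Finite F] in
theorem ext_app {g h : SU n F q} (e : ∀ x, app g x = app h x) : g = h :=
  Subtype.ext (Subtype.ext (Matrix.ext_of_mulVec_single fun _ => e _))

omit [Finite F] in
theorem h_app (g : SU n F q) (x y : Fin n → F) : H (app g x) (app g y) = H x y := g.2 x y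

/-- A unitary transvection. -/
def IsT (g : SU n F q) (v : Fin n → F) (c : F) : Prop :=
  H v v = 0 ∧ c + K.bar c = 0 ∧ ∀ x, app g x = x + (c * H x v) • v

theorem det_quasi (w : Fin n → F) (lam : F) : (quasi K w lam).det = 1 + lam * H w w := by
  have e : lam • vecMulVec w (fun j => K.bar (w j)) =
      replicateCol Unit (lam • w) * replicateRow Unit (fun j => K.bar (w j)) := by
    ext i j
    simp [vecMulVec, Matrix.mul_apply, mul_assoc]
  rw [quasi, e, det_one_add_replicateCol_mul_replicateRow, Unitary.herm_apply K, dotProduct,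
    Finset.mul_sum]
  congr 1
  exact Finset.sum_congr rfl fun i _ => by simp only [Pi.smul_apply, smul_eq_mul]; ring

theorem quasi_isometry {w : Fin n → F} {lam : F}
    (hl : lam + K.bar lam + lam * K.bar lam * H w w = 0) (x y : Fin n → F) :
    H (quasi K w lam *ᵥ x) (quasi K w lam *ᵥ y) = H x y := by
  obtain ⟨g, hg⟩ := exists_isometry K hl
  rw [quasi_apply, quasi_apply, ← hg, ← hg]
  exact g.2 x y

theorem exists_T {v : Fin n → F} {c : F} (hv : H v v = 0) (hc : c + K.bar c = 0) :
    ∃ g : SU n F q, IsT K g v c :=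
  ⟨⟨⟨quasi K v c, by rw [det_quasi, hv, mul_zero, add_zero]⟩,
    quasi_isometry K (by rw [hv, mul_zero, add_zero, hc])⟩, hv, hc, quasi_apply K v c⟩

/-- The subgroup generated by transvections with centre in `W`. -/
def gen (W : Submodule F (Fin n → F)) : Subgroup (SU n F q) :=
  Subgroup.closure {g | ∃ v ∈ W, ∃ c, IsT K g v c}

theorem gen_mono {W W' : Submodule F (Fin n → F)} (h : W ≤ W') : gen K (q := q) W ≤ gen K W' :=
  Subgroup.closure_mono fun _ ⟨v, hv, hc⟩ => ⟨v, h hv, hc⟩

theorem gen_fix {W : Submodule F (Fin n → F)} {p : Fin n → F} (hp : ∀ v ∈ W, H p v = 0)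
    {g : SU n F q} (hg : g ∈ gen K W) : app g p = p := by
  induction hg using Subgroup.closure_induction with
  | mem x hx =>
    obtain ⟨v, hv, c, -, -, hT⟩ := hx
    rw [hT, hp v hv, mul_zero, zero_smul, add_zero]
  | one => exact app_one p
  | mul x y _ _ hx hy => rw [app_mul, hy, hx]
  | inv x _ hx => conv_lhs => rw [← hx, app_inv]

/-! ### The plane -/

/-- The matrices of transvections of the plane. -/
def planeT : Set (Matrix (Fin 2) (Fin 2) F) :=
  {M | ∃ (v : Fin 2 → F) (c : F), hermForm 2 F q v v = 0 ∧ c + K.bar c = 0 ∧ M = quasi K v c}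

theorem plane_mem_closure {A : Matrix (Fin 2) (Fin 2) F} (hdet : A.det = 1)
    (hA : ∀ x y, hermForm 2 F q (A *ᵥ x) (A *ᵥ y) = hermForm 2 F q x y) :
    A ∈ Submonoid.closure (planeT K) := by
  set S := Unitary.space (n := 2) K
  have hS : S.h = hermForm 2 F q := rfl
  obtain ⟨η, η', hη, hη', hne⟩ : ∃ η η' : F, η * K.bar η = -1 ∧ η' * K.bar η' = -1 ∧ η' ≠ η := by
    obtain ⟨η, hη⟩ := K.exists_norm (-1) (by rw [map_neg, map_one])
    have : Nontrivial {a : F // a * K.bar a = 1} :=
      (Finite.one_lt_card_iff_nontrivial).1 (by rw [card_norm_one K]; have := K.two_le; omega)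
    obtain ⟨⟨ζ, hζ⟩, hζ1⟩ := exists_ne (⟨1, by simp⟩ : {a : F // a * K.bar a = 1})
    refine ⟨η, ζ * η, hη, by rw [map_mul, mul_mul_mul_comm, hζ, hη, one_mul], fun h => hζ1 (Subtype.ext ?_)⟩
    have hη0 : η ≠ 0 := fun h0 => by simp [h0] at hη
    exact mul_right_cancel₀ hη0 (h.trans (one_mul η).symm)
  set x : Fin 2 → F := ![1, η] with hx
  set y : Fin 2 → F := ![1, η'] with hy
  have hform : ∀ u v : Fin 2 → F, hermForm 2 F q u v = u 0 * K.bar (v 0) + u 1 * K.bar (v 1) :=
    fun u v => by rw [Unitary.herm_apply K, Fin.sum_univ_two]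
  have hxx : hermForm 2 F q x x = 0 := by rw [hform]; simp [x, hη]
  have hyy : hermForm 2 F q y y = 0 := by rw [hform]; simp [y, hη']
  set d₀ := hermForm 2 F q x y with hd₀
  have hyx : hermForm 2 F q y x = K.bar d₀ := h_swap K x y
  have hd0 : d₀ ≠ 0 := by
    rw [hd₀, hform]
    simp [x, y]
    intro h
    have hη0 : K.bar η' ≠ 0 := fun h0 => by simp [h0] at hη'
    exact hne (mul_right_cancel₀ hη0 (by linear_combination hη' - h))
  have hdb : K.bar d₀ ≠ 0 := (map_ne_zero K.bar).2 hd0
  have hne' : η' - η ≠ 0 := sub_ne_zero.2 hne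
  have hbasis : ∀ u : Fin 2 → F, ∃ a b : F, u = a • x + b • y := by
    intro u
    refine ⟨u 0 - (u 1 - η * u 0) / (η' - η), (u 1 - η * u 0) / (η' - η), ?_⟩
    ext i
    fin_cases i
    · simp [x, y]
    · simp [x, y]
      field_simp
      ring
  have hH : ∀ a b a' b' : F, hermForm 2 F q (a • x + b • y) (a' • x + b' • y) =
      a * K.bar b' * d₀ + b * K.bar a' * K.bar d₀ := by
    intro a b a' b'
    rw [← hS]
    simp only [S.add_left, S.add_right, S.smul_left, S.smul_right]
    show a * (K.bar a' * hermForm 2 F q x x) + a * (K.bar b' * hermForm 2 F q x y) +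
      (b * (K.bar a' * hermForm 2 F q y x) + b * (K.bar b' * hermForm 2 F q y y)) = _
    rw [hxx, hyy, hyx]
    ring
  have hTx : ∀ (c a b : F), quasi K x c *ᵥ (a • x + b • y) = (a + c * (b * K.bar d₀)) • x + b • y := by
    intro c a b
    rw [quasi_apply, show hermForm 2 F q (a • x + b • y) x = b * K.bar d₀ by
      have h := hH a b 1 0
      rw [one_smul, zero_smul, add_zero] at h
      rw [h]; simp]
    module
  have hTy : ∀ (c a b : F), quasi K y c *ᵥ (a • x + b • y) = a • x + (b + c * (a * d₀)) • y := by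
    intro c a b
    rw [quasi_apply, show hermForm 2 F q (a • x + b • y) y = a * d₀ by
      have h := hH a b 0 1
      rw [one_smul, zero_smul, zero_add] at h
      rw [h]; simp]
    module
  have hdetP : ∀ (M : Matrix (Fin 2) (Fin 2) F) (a b e d : F), M *ᵥ x = a • x + b • y →
      M *ᵥ y = e • x + d • y → M.det = a * d - b * e := by
    intro M a b e d h1 h2
    have k1 := congrFun h1 0
    have k2 := congrFun h1 1
    have k3 := congrFun h2 0
    have k4 := congrFun h2 1
    simp [x, y, mulVec, dotProduct, Fin.sum_univ_two] at k1 k2 k3 k4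
    refine mul_right_cancel₀ hne' ?_
    rw [det_fin_two]
    linear_combination (M 1 0 + M 1 1 * η') * k1 + (a + b) * k4 - (M 1 0 + M 1 1 * η) * k3 -
      (e + d) * k2
  -- cancelling a transvection on the left
  have hpeel : ∀ (M : Matrix (Fin 2) (Fin 2) F) (v : Fin 2 → F) (c : F), hermForm 2 F q v v = 0 →
      c + K.bar c = 0 → quasi K v c * M ∈ Submonoid.closure (planeT K) →
      M ∈ Submonoid.closure (planeT K) := by
    intro M v c hv hc hM
    have hmul : quasi K v (-c) * quasi K v c = 1 := by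
      refine Matrix.ext_of_mulVec_single fun i => ?_
      rw [← mulVec_mulVec, quasi_apply, quasi_apply, one_mulVec, ← hS, S.add_left, S.smul_left,
        show S.h v v = 0 from hv]
      module
    rw [← Matrix.one_mul M, ← hmul, Matrix.mul_assoc]
    exact mul_mem (Submonoid.subset_closure ⟨v, -c, hv, by rw [map_neg]; linear_combination -hc, rfl⟩) hM
  have hprop : ∀ (M : Matrix (Fin 2) (Fin 2) F) (v : Fin 2 → F) (c : F), hermForm 2 F q v v = 0 →
      c + K.bar c = 0 → M.det = 1 →
      (∀ x y, hermForm 2 F q (M *ᵥ x) (M *ᵥ y) = hermForm 2 F q x y) →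
      (quasi K v c * M).det = 1 ∧ ∀ x y, hermForm 2 F q ((quasi K v c * M) *ᵥ x)
        ((quasi K v c * M) *ᵥ y) = hermForm 2 F q x y := by
    intro M v c hv hc h1 h2
    refine ⟨by rw [det_mul, det_quasi, hv, h1, mul_zero, add_zero, one_mul], fun a b => ?_⟩
    rw [← mulVec_mulVec, ← mulVec_mulVec, quasi_isometry K (by rw [hv, mul_zero, add_zero, hc]), h2]
  have main : ∀ (M : Matrix (Fin 2) (Fin 2) F) (a b : F), M.det = 1 →
      (∀ x y, hermForm 2 F q (M *ᵥ x) (M *ᵥ y) = hermForm 2 F q x y) →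
      M *ᵥ x = a • x + b • y → b ≠ 0 → M ∈ Submonoid.closure (planeT K) := by
    intro M a b hM1 hM2 hMx hb
    obtain ⟨e, d, hMy⟩ := hbasis (M *ᵥ y)
    have e1 : a * K.bar b * d₀ + b * K.bar a * K.bar d₀ = 0 := by
      rw [← hH, ← hMx, hM2, hxx]
    have e2 : a * K.bar d * d₀ + b * K.bar e * K.bar d₀ = d₀ := by
      rw [← hH, ← hMx, ← hMy, hM2]
    have e3 : a * d - b * e = 1 := (hdetP M a b e d hMx hMy).symm.trans hM1
    have e3' : K.bar a * K.bar d - K.bar b * K.bar e = 1 := by
      rw [← map_mul, ← map_mul, ← map_sub, e3, map_one]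
    have hskew : d₀ * K.bar b + b * K.bar d₀ = 0 := by
      linear_combination (K.bar d) * e1 - (K.bar b) * e2 - (b * K.bar d₀) * e3'
    have hbb : K.bar b ≠ 0 := (map_ne_zero K.bar).2 hb
    set c := (1 - a) / (K.bar d₀ * b) with hcdef
    have hc : c + K.bar c = 0 := by
      rw [hcdef, map_div₀, map_mul, map_sub, map_one, K.bar_bar]
      field_simp
      linear_combination hskew - e1
    set c' := -b / d₀ with hc'def
    have hc' : c' + K.bar c' = 0 := by
      rw [hc'def, map_div₀, map_neg]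
      field_simp
      linear_combination -hskew
    obtain ⟨p1, p2⟩ := hprop M x c hxx hc hM1 hM2
    obtain ⟨r1, r2⟩ := hprop _ y c' hyy hc' p1 p2
    refine hpeel M x c hxx hc (hpeel _ y c' hyy hc' ?_)
    set N := quasi K y c' * (quasi K x c * M)
    have hNx : N *ᵥ x = (1 : F) • x + (0 : F) • y := by
      show (quasi K y c' * (quasi K x c * M)) *ᵥ x = _
      rw [← mulVec_mulVec, ← mulVec_mulVec, hMx, hTx, hTy]
      congr 2
      · rw [hcdef]; field_simp; ring
      · rw [hcdef, hc'def]; field_simp; ring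
    obtain ⟨e', d', hNy⟩ := hbasis (N *ᵥ y)
    have hd' : d' = 1 := by
      have := (hdetP N 1 0 e' d' hNx hNy).symm.trans r1
      linear_combination this
    subst hd'
    have hskew' : (e' / K.bar d₀) + K.bar (e' / K.bar d₀) = 0 := by
      have h := r2 y y
      rw [hNy, hH, hyy, map_one] at h
      rw [map_div₀, K.bar_bar]
      field_simp
      linear_combination h
    refine Submonoid.subset_closure ⟨x, e' / K.bar d₀, hxx, hskew', ?_⟩
    refine Matrix.ext_of_mulVec_single fun i => ?_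
    obtain ⟨s, t, hst⟩ := hbasis (Pi.single i 1)
    rw [hst, mulVec_add, mulVec_smul, mulVec_smul, hNx, hNy, hTx]
    rw [div_mul_eq_mul_div, show e' * (t * K.bar d₀) / K.bar d₀ = e' * t by field_simp]
    module
  obtain ⟨a, b, hAx⟩ := hbasis (A *ᵥ x)
  by_cases hb : b = 0
  swap
  · exact main A a b hdet hA hAx hb
  subst hb
  -- push off the axis first
  set c₀ := d₀ - K.bar d₀
  obtain ⟨t, ht0, ht⟩ := (Unitary.space (n := 2) K).skew_ne
  have ht' : t + K.bar t = 0 := by
    have : (1 : F) * t + K.bar t = 0 := ht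
    linear_combination this
  obtain ⟨p1, p2⟩ := hprop A y t hyy ht' hdet hA
  refine hpeel A y t hyy ht' (main _ a (0 + t * (a * d₀)) p1 p2 ?_ ?_)
  · rw [← mulVec_mulVec, hAx, hTy]
  · rw [zero_add]
    refine mul_ne_zero ht0 (mul_ne_zero (fun ha => ?_) hd0)
    obtain ⟨e, d, hAy⟩ := hbasis (A *ᵥ y)
    have := (hdetP A a 0 e d hAx hAy).symm.trans hdet
    rw [ha] at this
    simp at this

/-- Elements supported on an orthonormal pair. -/
theorem exists_plane_map {W : Submodule F (Fin n → F)} {u w : Fin n → F} (hu : u ∈ W) (hw : w ∈ W)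
    (h1 : H u u = 1) (h2 : H w w = 1) (huw : H u w = 0) {A : Matrix (Fin 2) (Fin 2) F}
    (hdet : A.det = 1) (hA : ∀ x y, hermForm 2 F q (A *ᵥ x) (A *ᵥ y) = hermForm 2 F q x y) :
    ∃ g ∈ gen K W, ∀ x, app g x = x + ((A *ᵥ ![H x u, H x w]) 0 - H x u) • u +
      ((A *ᵥ ![H x u, H x w]) 1 - H x w) • w := by
  set S := Unitary.space (n := n) K
  have hS : S.h = hermForm n F q := rfl
  have hwu : H w u = 0 := S.eq_zero_symm huw
  have hproj : ∀ (a b : F) (x : Fin n → F), H (x + (a - H x u) • u + (b - H x w) • w) u = a ∧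
      H (x + (a - H x u) • u + (b - H x w) • w) w = b := by
    intro a b x
    constructor <;>
    · rw [← hS]
      simp only [S.add_left, S.smul_left, hS, h1, h2, huw, hwu]
      ring
  have hmem := plane_mem_closure K hdet hA
  clear hdet hA
  induction hmem using Submonoid.closure_induction with
  | one =>
    exact ⟨1, one_mem _, fun x => by simp [app_one]⟩
  | mem A hA =>
    obtain ⟨v, c, hv, hc, rfl⟩ := hA
    set ιv : Fin n → F := v 0 • u + v 1 • w
    have hv' : H ιv ιv = 0 := by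
      rw [← hS]
      simp only [ιv, S.add_left, S.add_right, S.smul_left, S.smul_right, hS, h1, h2, huw, hwu,
        show S.bar = K.bar from rfl]
      rw [Unitary.herm_apply K, Fin.sum_univ_two] at hv
      linear_combination hv
    obtain ⟨g, hg⟩ := exists_T K hv' hc
    refine ⟨g, Subgroup.subset_closure ⟨ιv, W.add_mem (W.smul_mem _ hu) (W.smul_mem _ hw), c, hg⟩, fun x => ?_⟩
    have hπ : hermForm 2 F q ![H x u, H x w] v = H x ιv := by
      show _ = S.h x ιv
      rw [Unitary.herm_apply K, Fin.sum_univ_two]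
      simp only [ιv, S.add_right, S.smul_right]
      simp [hS, mul_comm]
      rfl
    rw [hg.2.2 x, quasi_apply, hπ]
    simp [ιv]
    module
  | mul A B _ _ hA hB =>
    obtain ⟨g, hg, hga⟩ := hA
    obtain ⟨h, hh, hha⟩ := hB
    refine ⟨g * h, mul_mem hg hh, fun x => ?_⟩
    rw [app_mul, hga]
    obtain ⟨e1, e2⟩ := hproj ((B *ᵥ ![H x u, H x w]) 0) ((B *ᵥ ![H x u, H x w]) 1) x
    rw [← hha x] at e1 e2
    rw [e1, e2, show ![(B *ᵥ ![H x u, H x w]) 0, (B *ᵥ ![H x u, H x w]) 1] = B *ᵥ ![H x u, H x w] from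
      funext fun i => by fin_cases i <;> rfl, mulVec_mulVec, hha x]
    module

/-- A norm one vector of the plane of an orthonormal pair is an image of the first. -/
theorem exists_plane_move {W : Submodule F (Fin n → F)} {u w : Fin n → F} (hu : u ∈ W) (hw : w ∈ W)
    (h1 : H u u = 1) (h2 : H w w = 1) (huw : H u w = 0) {α β : F}
    (hab : α * K.bar α + β * K.bar β = 1) :
    ∃ g ∈ gen K W, app g u = α • u + β • w ∧ app g w = (-K.bar β) • u + K.bar α • w ∧
      ∀ x, H x u = 0 → H x w = 0 → app g x = x := by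
  obtain ⟨g, hg, hga⟩ := exists_plane_map K hu hw h1 h2 huw (A := !![α, -K.bar β; β, K.bar α])
    (by rw [det_fin_two_of]; linear_combination hab) fun x y => by
      simp only [Unitary.herm_apply K, Fin.sum_univ_two]
      simp [mulVec, dotProduct, Fin.sum_univ_two, K.bar_bar]
      linear_combination (x 0 * K.bar (y 0) + x 1 * K.bar (y 1)) * hab
  have hwu : H w u = 0 := (Unitary.space (n := n) K).eq_zero_symm huw
  refine ⟨g, hg, ?_, ?_, fun x e1 e2 => ?_⟩
  · rw [hga, h1, huw]; simp [mulVec, dotProduct, Fin.sum_univ_two]; module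
  · rw [hga, h2, hwu]; simp [mulVec, dotProduct, Fin.sum_univ_two]; module
  · rw [hga, e1, e2]; simp [mulVec, dotProduct, Fin.sum_univ_two]

/-- The vectors supported from `k` on. -/
def W (k : ℕ) : Submodule F (Fin n → F) where
  carrier := {x | ∀ i : Fin n, (i : ℕ) < k → x i = 0}
  add_mem' {a b} ha hb i hi := by simp [ha i hi, hb i hi]
  zero_mem' _ _ := rfl
  smul_mem' c x hx i hi := by simp [hx i hi]

omit [Finite F] in
theorem single_mem_W {k : ℕ} {i : Fin n} (hi : k ≤ i) : (Pi.single i 1 : Fin n → F) ∈ W k :=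
  fun j hj => Pi.single_eq_of_ne (fun e => by rw [e] at hj; omega) _

omit [Finite F] in
theorem W_mono {k l : ℕ} (h : k ≤ l) : W (F := F) (n := n) l ≤ W k :=
  fun _ hx i hi => hx i (lt_of_lt_of_le hi h)

include K in
theorem h_single_left (v : Fin n → F) (i : Fin n) : H (Pi.single i 1) v = K.bar (v i) := by
  rw [h_swap K v, h_single K]

include K in
theorem h_single_single (i j : Fin n) :
    H (Pi.single i 1) (Pi.single j 1) = if i = j then 1 else 0 := by
  rw [h_single K, Pi.single_apply]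
  simp [eq_comm]

theorem gen_fix_W {k : ℕ} {g : SU n F q} (hg : g ∈ gen K (W k)) {i : Fin n} (hi : (i : ℕ) < k) :
    app g (Pi.single i 1) = Pi.single i 1 :=
  gen_fix K (fun v hv => by rw [h_single_left K, hv i hi, map_zero]) hg

/-- A norm one vector off the isotropic cone of `u` is in its orbit. -/
theorem exists_move_nondeg {W : Submodule F (Fin n → F)} {u v : Fin n → F} (hu : u ∈ W) (hv : v ∈ W)
    (h1 : H u u = 1) (h2 : H v v = 1) (hN : H v u * K.bar (H v u) ≠ 1) :
    ∃ g ∈ gen K W, app g u = v := by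
  set S := Unitary.space (n := n) K
  set α := H v u
  obtain ⟨γ, hγ⟩ := K.exists_norm (1 - α * K.bar α) (by rw [map_sub, map_one, bar_norm])
  have hγ0 : γ ≠ 0 := fun h => hN (by rw [h, zero_mul] at hγ; exact (sub_eq_zero.1 hγ.symm).symm)
  set w := γ⁻¹ • (v - α • u)
  have hwu : H w u = 0 := by
    show S.h w u = 0
    rw [S.smul_left, S.sub_left, S.smul_left, show S.h u u = 1 from h1]
    show γ⁻¹ * (α - α * 1) = 0
    ring
  have hww : H w w = 1 := by
    show S.h w w = 1
    rw [S.smul_left, S.smul_right, S.sub_left, S.sub_right, S.sub_right, S.smul_left, S.smul_right,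
      S.smul_left, S.smul_right, show S.h u u = 1 from h1, show S.h v v = 1 from h2,
      show S.h u v = K.bar α from h_swap K v u, show S.h v u = α from rfl, map_inv₀]
    show γ⁻¹ * ((K.bar γ)⁻¹ * _) = 1
    have : K.bar γ ≠ 0 := (map_ne_zero K.bar).2 hγ0
    field_simp
    change _ = γ * K.bar γ
    rw [hγ]
    rw [show S.bar = K.bar from rfl]
    ring
  obtain ⟨g, hg, hgu, -⟩ := exists_plane_move K hu (W.smul_mem _ (W.sub_mem hv (W.smul_mem _ hu)))
    h1 hww (S.eq_zero_symm hwu) (α := α) (β := γ) (by rw [hγ]; ring)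
  refine ⟨g, hg, ?_⟩
  rw [hgu, smul_smul, mul_inv_cancel₀ hγ0, one_smul, add_sub_cancel]

theorem exists_norm_ne_one (hq : 3 ≤ q) :
    ∃ a b : F, a * K.bar a + b * K.bar b = 1 ∧ (a + b) * K.bar (a + b) ≠ 1 := by
  obtain ⟨⟨s, hsf, hs0⟩, hs1⟩ : ∃ s : {c : F // K.bar c = c ∧ c ≠ 0}, s ≠ ⟨1, map_one _, one_ne_zero⟩ := by
    have : Nontrivial {c : F // K.bar c = c ∧ c ≠ 0} :=
      (Finite.one_lt_card_iff_nontrivial).1 (by rw [card_fixed K]; omega)
    exact exists_ne _
  have hs1' : 1 - s ≠ 0 := fun h => hs1 (Subtype.ext (sub_eq_zero.1 h).symm)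
  obtain ⟨a, ha⟩ := K.exists_norm s hsf
  obtain ⟨b, hb⟩ := K.exists_norm (1 - s) (by rw [map_sub, map_one, hsf])
  have hb0 : b ≠ 0 := fun h => hs1' (by rw [← hb, h, zero_mul])
  have ha0 : a ≠ 0 := fun h => hs0 (by rw [← ha, h, zero_mul])
  by_contra hc
  push Not at hc
  set y := a * K.bar b with hy
  have hy0 : y ≠ 0 := mul_ne_zero ha0 ((map_ne_zero K.bar).2 hb0)
  -- every norm one scalar solves a fixed quadratic
  have hroot : ∀ z : F, z * K.bar z = 1 → z * z = -y / K.bar y := by
    intro z hz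
    have h := hc a (b * z) (by rw [map_mul, mul_mul_mul_comm, hz, ha, hb]; ring)
    rw [map_add, map_mul] at h
    have hy' : K.bar y ≠ 0 := (map_ne_zero K.bar).2 hy0
    field_simp
    rw [hy, map_mul, K.bar_bar]
    linear_combination z * h - (z * a) * (1 : F) * 0 - z * ha - (z * b * K.bar b + a * K.bar b) * hz
      - z * hb
  have hle : Nat.card {z : F // z * K.bar z = 1} ≤ 2 := by
    obtain ⟨⟨z₀, hz₀⟩⟩ : Nonempty {z : F // z * K.bar z = 1} := ⟨⟨1, by simp⟩⟩
    have hsub : Nat.card {z : F // z * K.bar z = 1} ≤ Nat.card ({z₀, -z₀} : Set F) := by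
      refine Nat.card_le_card_of_injective (fun z => (⟨z.1, ?_⟩ : ({z₀, -z₀} : Set F)))
        fun z z' e => Subtype.ext (congrArg (fun x : ({z₀, -z₀} : Set F) => (x : F)) e)
      exact mul_self_eq_mul_self_iff.1 ((hroot z.1 z.2).trans (hroot z₀ hz₀).symm)
    refine hsub.trans ?_
    rw [Nat.card_coe_set_eq]
    exact (Set.ncard_insert_le _ _).trans (by rw [Set.ncard_singleton])
  rw [card_norm_one K] at hle
  omega

include K in
theorem two_eq_zero (hq : q = 2) : (2 : F) = 0 := by
  cases nonempty_fintype F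
  have h4 : ((4 : ℕ) : F) = 0 := by
    rw [show 4 = Fintype.card F by rw [← Nat.card_eq_fintype_card, K.card, hq]; norm_num]
    exact Nat.cast_card_eq_zero F
  refine mul_self_eq_zero.1 ?_
  rw [← h4]; norm_num

include K in
theorem exists_omega (hq : q = 2) : ∃ ω : F, ω * ω + ω + 1 = 0 ∧ ω ^ 3 = 1 := by
  cases nonempty_fintype F
  obtain ⟨⟨ω, hω⟩, hω1⟩ : ∃ z : {a : F // a * K.bar a = 1}, z ≠ ⟨1, by simp⟩ := by
    have : Nontrivial {a : F // a * K.bar a = 1} :=
      (Finite.one_lt_card_iff_nontrivial).1 (by rw [card_norm_one K]; omega)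
    exact exists_ne _
  have h3 : ω ^ 3 = 1 := by rw [← hω, K.bar_apply, hq]; ring
  refine ⟨ω, ?_, h3⟩
  refine (mul_eq_zero.1 (show (ω - 1) * (ω * ω + ω + 1) = 0 by linear_combination h3)).resolve_left ?_
  exact sub_ne_zero.2 fun h => hω1 (Subtype.ext h)

/-- The orbit of `e k` on norm one vectors. -/
theorem exists_move_sphere {k : ℕ} (hk : k + 2 ≤ n) (h32 : q = 2 → n ≠ k + 3)
    {v : Fin n → F} (hv : v ∈ W k) (hv1 : H v v = 1) :
    ∃ g ∈ gen K (W k), app g (Pi.single (⟨k, by omega⟩ : Fin n) 1) = v := by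
  classical
  set S := Unitary.space (n := n) K
  set i₀ : Fin n := ⟨k, by omega⟩
  set u : Fin n → F := Pi.single i₀ 1
  have hu : u ∈ W (F := F) (n := n) k := single_mem_W le_rfl
  have hu1 : H u u = 1 := by rw [h_single_single K, if_pos rfl]
  by_cases hN : H v u * K.bar (H v u) = 1
  swap
  · exact exists_move_nondeg K hu hv hu1 hv1 hN
  set α := H v u
  set r := v - α • u
  have hr : ∀ i : Fin n, i ≠ i₀ → r i = v i := fun i hi => by simp [r, u, hi]
  have hr0 : r i₀ = 0 := by
    simp [r, u, α, h_single K]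
  by_cases hrz : r = 0
  · -- a scalar multiple
    obtain ⟨g, hg, hgu, -⟩ := exists_plane_move K hu
      (single_mem_W (i := (⟨k + 1, by omega⟩ : Fin n)) (Nat.le_succ k)) hu1
      (by rw [h_single_single K, if_pos rfl]) (by rw [h_single_single K, if_neg (by simp [i₀])])
      (α := α) (β := 0) (by simpa using hN)
    refine ⟨g, hg, ?_⟩
    rw [hgu, zero_smul, add_zero, ← sub_add_cancel v (α • u), show v - α • u = r from rfl, hrz, zero_add]
  -- a third vector
  suffices h : ∃ z ∈ W (F := F) (n := n) k, H z z = 1 ∧ H z u * K.bar (H z u) ≠ 1 ∧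
      H v z * K.bar (H v z) ≠ 1 by
    obtain ⟨z, hz, hz1, hzu, hzv⟩ := h
    obtain ⟨g, hg, hgu⟩ := exists_move_nondeg K hu hz hu1 hz1 hzu
    obtain ⟨g', hg', hgz⟩ := exists_move_nondeg K hz hv hz1 hv1 hzv
    exact ⟨g' * g, mul_mem hg' hg, by rw [app_mul, hgu, hgz]⟩
  by_cases hex : ∃ i : Fin n, k < (i : ℕ) ∧ v i * K.bar (v i) ≠ 1
  · obtain ⟨i, hi, hvi⟩ := hex
    refine ⟨Pi.single i 1, single_mem_W hi.le, by rw [h_single_single K, if_pos rfl], ?_, ?_⟩
    · rw [h_single_single K, if_neg (fun e => by rw [e] at hi; exact lt_irrefl k hi)]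
      simp
    · rw [h_single K]; exact hvi
  push Not at hex
  have hrr : ∑ i : Fin n, r i * K.bar (r i) = 0 := by
    rw [← Unitary.herm_apply K]
    show S.h r r = 0
    simp only [r, S.sub_left, S.sub_right, S.smul_left, S.smul_right]
    rw [show S.h u u = 1 from hu1, show S.h v v = 1 from hv1, show S.h v u = α from rfl,
      show S.h u v = K.bar α from h_swap K v u]
    show 1 - K.bar α * α - (α * K.bar α - α * (K.bar α * 1)) = 0
    linear_combination -hN
  have hsum : ((n - k - 1 : ℕ) : F) = 0 := by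
    rw [← hrr, ← Finset.sum_filter_add_sum_filter_not Finset.univ (fun i : Fin n => k < (i : ℕ))]
    rw [Finset.sum_congr rfl (g := fun _ => (1 : F)) fun i hi => by
        have hi' := (Finset.mem_filter.1 hi).2
        rw [hr i (fun e => by rw [e] at hi'; exact lt_irrefl k hi')]
        exact hex i hi']
    rw [Finset.sum_eq_zero (s := Finset.univ.filter fun i : Fin n => ¬ k < (i : ℕ)) fun i hi => by
        have hi' := (Finset.mem_filter.1 hi).2
        rcases eq_or_ne i i₀ with rfl | hne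
        · rw [hr0, zero_mul]
        · rw [hr i hne, hv i (lt_of_le_of_ne (not_lt.1 hi') fun e => hne (Fin.ext e)), zero_mul]]
    rw [Finset.sum_const, add_zero, nsmul_one]
    congr 1
    rw [show (Finset.univ.filter fun i : Fin n => k < (i : ℕ)) = Finset.Ioi i₀ by ext i; simp [i₀, Fin.lt_def],
      Fin.card_Ioi]
    show n - k - 1 = n - 1 - k
    omega
  have hn3 : k + 3 ≤ n := by
    by_contra hlt
    rw [show n - k - 1 = 1 by omega, Nat.cast_one] at hsum
    exact one_ne_zero hsum
  set j₁ : Fin n := ⟨k + 1, by omega⟩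
  set j₂ : Fin n := ⟨k + 2, by omega⟩
  have hne12 : j₁ ≠ j₂ := by simp [j₁, j₂]
  have hv1' : v j₁ * K.bar (v j₁) = 1 := hex j₁ (Nat.lt_succ_self k)
  have hv2' : v j₂ * K.bar (v j₂) = 1 := hex j₂ (show k < k + 2 by omega)
  by_cases hq : 3 ≤ q
  · obtain ⟨a, b, hab, hab'⟩ := exists_norm_ne_one K hq
    refine ⟨(a * v j₁) • Pi.single j₁ 1 + (b * v j₂) • Pi.single j₂ 1,
      (W k).add_mem ((W k).smul_mem _ (single_mem_W (Nat.le_succ k)))
        ((W k).smul_mem _ (single_mem_W (show k ≤ k + 2 by omega))), ?_, ?_, ?_⟩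
    · show S.h _ _ = 1
      simp only [S.add_left, S.add_right, S.smul_left, S.smul_right]
      show (a * v j₁) * (K.bar (a * v j₁) * H (Pi.single j₁ 1) (Pi.single j₁ 1)) +
        (a * v j₁) * (K.bar (b * v j₂) * H (Pi.single j₁ 1) (Pi.single j₂ 1)) +
        ((b * v j₂) * (K.bar (a * v j₁) * H (Pi.single j₂ 1) (Pi.single j₁ 1)) +
          (b * v j₂) * (K.bar (b * v j₂) * H (Pi.single j₂ 1) (Pi.single j₂ 1))) = 1
      simp only [h_single_single K, if_pos, if_neg hne12, if_neg hne12.symm, map_mul]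
      linear_combination (a * K.bar a) * hv1' + (b * K.bar b) * hv2' + hab
    · rw [h_single K]
      simp [i₀, j₁, j₂]
    · have e : H v ((a * v j₁) • Pi.single j₁ 1 + (b * v j₂) • Pi.single j₂ 1) = K.bar (a + b) := by
        show S.h _ _ = _
        simp only [S.add_right, S.smul_right]
        show K.bar (a * v j₁) * H v (Pi.single j₁ 1) + K.bar (b * v j₂) * H v (Pi.single j₂ 1) = _
        rw [h_single K, h_single K, map_mul, map_mul, map_add]
        linear_combination (K.bar a) * hv1' + (K.bar b) * hv2'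
      rw [e, K.bar_bar, mul_comm]
      exact hab'
  -- two element ground field
  have hq2 : q = 2 := by have := K.two_le; omega
  have hn4 : k + 4 ≤ n := by
    have := h32 hq2
    omega
  obtain ⟨ω, hω, hω3⟩ := exists_omega K hq2
  set j₃ : Fin n := ⟨k + 3, by omega⟩
  have hne13 : j₁ ≠ j₃ := by simp [j₁, j₃]
  have hne23 : j₂ ≠ j₃ := by simp [j₂, j₃]
  have hv3' : v j₃ * K.bar (v j₃) = 1 := hex j₃ (show k < k + 3 by omega)
  have hNω : ω * K.bar ω = 1 := by rw [K.bar_apply, hq2, ← pow_succ', hω3]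
  set z : Fin n → F := v j₁ • Pi.single j₁ 1 + (ω * v j₂) • Pi.single j₂ 1 + (ω * ω * v j₃) • Pi.single j₃ 1
  refine ⟨z, (W k).add_mem ((W k).add_mem ((W k).smul_mem _ (single_mem_W (Nat.le_succ k)))
    ((W k).smul_mem _ (single_mem_W (show k ≤ k + 2 by omega))))
    ((W k).smul_mem _ (single_mem_W (show k ≤ k + 3 by omega))), ?_, ?_, ?_⟩
  · show S.h z z = 1
    simp only [z, S.add_left, S.add_right, S.smul_left, S.smul_right]
    simp only [show S.h = hermForm n F q from rfl, show S.bar = K.bar from rfl, h_single_single K,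
      if_pos, if_neg hne12, if_neg hne12.symm, if_neg hne13, if_neg hne13.symm, if_neg hne23,
      if_neg hne23.symm, map_mul]
    linear_combination hv1' + (ω * K.bar ω) * hv2' + hNω + (ω * K.bar ω) ^ 2 * hv3' +
      (ω * K.bar ω + 1) * hNω + two_eq_zero K hq2
  · rw [h_single K]
    simp [z, i₀, j₁, j₂, j₃]
  · have e : H v z = 0 := by
      show S.h v z = 0
      simp only [z, S.add_right, S.smul_right]
      simp only [show S.h = hermForm n F q from rfl, show S.bar = K.bar from rfl, h_single K, map_mul]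
      have hb := congrArg K.bar hω
      rw [map_add, map_add, map_mul, map_one, map_zero] at hb
      linear_combination hv1' + K.bar ω * hv2' + K.bar ω * K.bar ω * hv3' + hb
    rw [e]
    simp

/-- The last three coordinates over the field with four elements. -/
theorem exists_move_sphere_special (hq : q = 2) {k : ℕ} (hk : 1 ≤ k) (hn : n = k + 3)
    {v : Fin n → F} (hv : v ∈ W k) (hv1 : H v v = 1) :
    ∃ g : SU n F q, g ∈ gen K (W (k - 1)) ∧
      (∀ i : Fin n, (i : ℕ) < k → app g (Pi.single i 1) = Pi.single i 1) ∧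
      app g (Pi.single (⟨k, by omega⟩ : Fin n) 1) = v := by
  classical
  subst hn
  set S := Unitary.space (n := k + 3) K
  set i₁ : Fin (k + 3) := ⟨k, by omega⟩
  set i₂ : Fin (k + 3) := ⟨k + 1, by omega⟩
  set i₃ : Fin (k + 3) := ⟨k + 2, by omega⟩
  set i₄ : Fin (k + 3) := ⟨k - 1, by omega⟩
  set E : Fin (k + 3) → (Fin (k + 3) → F) := fun i => Pi.single i 1
  have hE : ∀ i, E i = Pi.single i 1 := fun _ => rfl
  have hu1 : hermForm (k + 3) F q (E i₁) (E i₁) = 1 := by rw [h_single_single K, if_pos rfl]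
  have hu : E i₁ ∈ W (F := F) (n := k + 3) k := single_mem_W le_rfl
  have hfix_low : ∀ {g}, g ∈ gen K (W (k - 1)) → app g (E i₄) = E i₄ →
      ∀ i : Fin (k + 3), (i : ℕ) < k → app g (Pi.single i 1) = Pi.single i 1 := by
    intro g hg h4 i hi
    rcases lt_or_eq_of_le (show (i : ℕ) ≤ k - 1 by omega) with h | h
    · exact gen_fix_W K hg h
    · obtain rfl : i = i₄ := Fin.ext h
      exact h4
  by_cases hN : hermForm (k + 3) F q v (E i₁) * K.bar (hermForm (k + 3) F q v (E i₁)) = 1
  swap
  · obtain ⟨g, hg, hgu⟩ := exists_move_nondeg K hu hv hu1 hv1 hN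
    exact ⟨g, gen_mono K (W_mono (Nat.sub_le k 1)) hg, fun i hi => gen_fix_W K hg hi, hgu⟩
  rw [h_single K] at hN
  by_cases hr : v i₂ = 0
  · have hv3 : v i₃ = 0 := by
      rw [Unitary.herm_apply K, Finset.sum_eq_add_of_mem i₁ i₃ (Finset.mem_univ _) (Finset.mem_univ _)
        (by simp [i₁, i₃])] at hv1
      · have h0 : v i₃ * K.bar (v i₃) = 0 := by linear_combination hv1 - hN
        rcases mul_eq_zero.1 h0 with h | h
        · exact h
        · exact (map_eq_zero K.bar).1 h
      · intro i _ hi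
        rcases lt_or_ge (i : ℕ) k with h | h
        · rw [hv i h, zero_mul]
        · have : i = i₂ := by
            ext
            have := i.2
            have h1 : (i : ℕ) ≠ k := fun e => hi.1 (Fin.ext e)
            have h2 : (i : ℕ) ≠ k + 2 := fun e => hi.2 (Fin.ext e)
            show (i : ℕ) = k + 1
            omega
          rw [this, hr, zero_mul]
    obtain ⟨g, hg, hgu, -⟩ := exists_plane_move K hu (single_mem_W (i := i₂) (Nat.le_succ k)) hu1
      (by rw [h_single_single K, if_pos rfl]) (by rw [h_single_single K, if_neg (by simp [i₁, i₂])])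
      (α := v i₁) (β := 0) (by simpa using hN)
    refine ⟨g, gen_mono K (W_mono (Nat.sub_le k 1)) hg, fun i hi => gen_fix_W K hg hi, ?_⟩
    rw [hE] at hgu
    rw [hgu, zero_smul, add_zero]
    ext i
    rcases lt_or_ge (i : ℕ) k with h | h
    · rw [hv i h]
      simp [show i ≠ i₁ from fun e => by rw [e] at h; exact lt_irrefl k h]
    · have : i = i₁ ∨ i = i₂ ∨ i = i₃ := by
        have := i.2
        simp only [Fin.ext_iff, i₁, i₂, i₃]
        omega
      rcases this with rfl | rfl | rfl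
      · simp
      · simp [hr, i₁, i₂]
      · simp [hv3, i₁, i₃]
  obtain ⟨ω, hω, hω3⟩ := exists_omega K hq
  have h2 := two_eq_zero K hq
  have hnorm : ∀ a : F, a ≠ 0 → a * K.bar a = 1 := by
    intro a ha
    cases nonempty_fintype F
    rw [K.bar_apply, hq, ← pow_succ']
    have h1 := FiniteField.pow_card_sub_one_eq_one a ha
    rwa [← Nat.card_eq_fintype_card, K.card, hq] at h1
  have hbar : ∀ a : F, K.bar a = a * a := fun a => by rw [K.bar_apply, hq, sq]
  -- the basic element
  have hg : ∀ a b c e : F, a * b * c * e = 1 →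
      ∃ g ∈ gen K (W (F := F) (n := k + 3) (k - 1)), app g (E i₄) = E i₄ ∧
        ∀ x₁ x₂ x₃ : F, app g (x₁ • E i₁ + x₂ • E i₂ + x₃ • E i₃) =
          (a * (x₁ + (1 + e) * (x₁ + x₂ + x₃))) • E i₁ + (b * (x₂ + (1 + e) * (x₁ + x₂ + x₃))) • E i₂ +
            (c * (x₃ + (1 + e) * (x₁ + x₂ + x₃))) • E i₃ := by
    intro a b c e habce
    have ha0 : a ≠ 0 := fun h => by simp [h] at habce
    have hb0 : b ≠ 0 := fun h => by simp [h] at habce
    have hc0 : c ≠ 0 := fun h => by simp [h] at habce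
    have hm : ∀ i : Fin (k + 3), k - 1 ≤ (i : ℕ) → E i ∈ W (F := F) (n := k + 3) (k - 1) := fun i hi => single_mem_W hi
    have hH : ∀ i j, hermForm (k + 3) F q (E i) (E j) = if i = j then 1 else 0 := h_single_single K
    have n14 : i₁ ≠ i₄ := by simp [i₁, i₄]; omega
    have n24 : i₂ ≠ i₄ := by simp [i₂, i₄]; omega
    have n34 : i₃ ≠ i₄ := by simp [i₃, i₄]; omega
    have n12 : i₁ ≠ i₂ := by simp [i₁, i₂]
    have n13 : i₁ ≠ i₃ := by simp [i₁, i₃]
    have n23 : i₂ ≠ i₃ := by simp [i₂, i₃]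
    -- diagonal elements
    have hd : ∀ (i : Fin (k + 3)) (t : F), k - 1 ≤ (i : ℕ) → i ≠ i₄ → t ≠ 0 →
        ∃ g ∈ gen K (W (F := F) (n := k + 3) (k - 1)), app g (E i) = t • E i ∧
          app g (E i₄) = K.bar t • E i₄ ∧ ∀ j, j ≠ i → j ≠ i₄ → app g (E j) = E j := by
      intro i t hi hne ht
      obtain ⟨g, hg, e1, e2, e3⟩ := exists_plane_move K (hm i hi) (hm i₄ le_rfl)
        (by rw [hH, if_pos rfl]) (by rw [hH, if_pos rfl]) (by rw [hH, if_neg hne]) (α := t) (β := 0)
        (by simpa using hnorm t ht)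
      exact ⟨g, hg, by simpa using e1, by simpa using e2, fun j h1 h2 =>
        e3 _ (by rw [hH, if_neg h1]) (by rw [hH, if_neg h2])⟩
    obtain ⟨da, hda, a1, a4, ao⟩ := hd i₁ a (show k - 1 ≤ k by omega) n14 ha0
    obtain ⟨db, hdb, b2, b4, bo⟩ := hd i₂ b (show k - 1 ≤ k + 1 by omega) n24 hb0
    obtain ⟨dc, hdc, c3, c4, co⟩ := hd i₃ c (show k - 1 ≤ k + 2 by omega) n34 hc0
    have hT : ∀ s₁ s₂ s₃ : F, s₁ ≠ 0 → s₂ ≠ 0 → s₃ ≠ 0 →
        ∃ g ∈ gen K (W (F := F) (n := k + 3) (k - 1)), ∀ x₁ x₂ x₃ x₄ : F,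
          app g (x₁ • E i₁ + x₂ • E i₂ + x₃ • E i₃ + x₄ • E i₄) =
            (x₁ + (x₁ * K.bar s₁ + x₂ * K.bar s₂ + x₃ * K.bar s₃ + x₄) * s₁) • E i₁ +
            (x₂ + (x₁ * K.bar s₁ + x₂ * K.bar s₂ + x₃ * K.bar s₃ + x₄) * s₂) • E i₂ +
            (x₃ + (x₁ * K.bar s₁ + x₂ * K.bar s₂ + x₃ * K.bar s₃ + x₄) * s₃) • E i₃ +
            (x₄ + (x₁ * K.bar s₁ + x₂ * K.bar s₂ + x₃ * K.bar s₃ + x₄)) • E i₄ := by
      intro s₁ s₂ s₃ hs1 hs2 hs3
      set w := s₁ • E i₁ + s₂ • E i₂ + s₃ • E i₃ + E i₄ with hwdef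
      have hform : ∀ x₁ x₂ x₃ x₄ : F, S.h (x₁ • E i₁ + x₂ • E i₂ + x₃ • E i₃ + x₄ • E i₄) w =
          x₁ * K.bar s₁ + x₂ * K.bar s₂ + x₃ * K.bar s₃ + x₄ := by
        intro x₁ x₂ x₃ x₄
        rw [hwdef]
        simp only [S.add_left, S.add_right, S.smul_left, S.smul_right,
          show S.h = hermForm (k + 3) F q from rfl, show S.bar = K.bar from rfl, hH, if_pos, if_neg n14,
          if_neg n24, if_neg n34, if_neg n12, if_neg n13, if_neg n23, if_neg n14.symm, if_neg n24.symm,
          if_neg n34.symm, if_neg n12.symm, if_neg n13.symm, if_neg n23.symm]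
        ring
      have hiso : S.h w w = 0 := by
        nth_rw 1 [hwdef]
        rw [← one_smul F (E i₄), hform, hnorm _ hs1, hnorm _ hs2, hnorm _ hs3]
        linear_combination (2 : F) * h2
      obtain ⟨g, hgT⟩ := exists_T K (v := w) (c := 1) hiso (by rw [map_one]; linear_combination h2)
      refine ⟨g, Subgroup.subset_closure ⟨w, ?_, 1, hgT⟩, fun x₁ x₂ x₃ x₄ => ?_⟩
      · rw [hwdef]
        exact Submodule.add_mem _ (Submodule.add_mem _ (Submodule.add_mem _
          (Submodule.smul_mem _ _ (hm i₁ (show k - 1 ≤ k by omega)))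
          (Submodule.smul_mem _ _ (hm i₂ (show k - 1 ≤ k + 1 by omega))))
          (Submodule.smul_mem _ _ (hm i₃ (show k - 1 ≤ k + 2 by omega)))) (hm i₄ le_rfl)
      · rw [hgT.2.2, one_mul, show hermForm (k + 3) F q _ w = _ from hform x₁ x₂ x₃ x₄, hwdef]
        module
    obtain ⟨t₁, ht₁, ht₁a⟩ := hT 1 1 1 one_ne_zero one_ne_zero one_ne_zero
    obtain ⟨t₂, ht₂, ht₂a⟩ := hT a b c ha0 hb0 hc0
    have hD : ∀ x₁ x₂ x₃ x₄ : F, app (dc * db * da) (x₁ • E i₁ + x₂ • E i₂ + x₃ • E i₃ + x₄ • E i₄) =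
        (a * x₁) • E i₁ + (b * x₂) • E i₂ + (c * x₃) • E i₃ + (e * x₄) • E i₄ := by
      intro x₁ x₂ x₃ x₄
      have he : K.bar a * K.bar b * K.bar c = e := by
        have hn' : (a * b * c) * K.bar (a * b * c) = 1 :=
          hnorm _ (mul_ne_zero (mul_ne_zero ha0 hb0) hc0)
        rw [map_mul, map_mul] at hn'
        linear_combination e * hn' - K.bar a * K.bar b * K.bar c * habce
      rw [← he]
      simp only [app_mul, app_add, app_smul, a1, a4, ao _ n12.symm n24, ao _ n13.symm n34, bo _ n12 n14,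
        b2, b4, bo _ n23.symm n34, co _ n13 n14, co _ n23 n24, c3, c4]
      module
    refine ⟨t₂ * (dc * db * da) * t₁, mul_mem (mul_mem ht₂ (mul_mem (mul_mem hdc hdb) hda)) ht₁, ?_,
      fun x₁ x₂ x₃ => ?_⟩
    · have e0 : E i₄ = (0 : F) • E i₁ + (0 : F) • E i₂ + (0 : F) • E i₃ + (1 : F) • E i₄ := by module
      conv_lhs => rw [e0]
      rw [app_mul, app_mul, ht₁a, hD, ht₂a]
      simp only [map_one]
      match_scalars <;> first
        | linear_combination a * hnorm a ha0 + a * hnorm b hb0 + a * hnorm c hc0 + (2 * a + a * e) * h2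
        | linear_combination b * hnorm a ha0 + b * hnorm b hb0 + b * hnorm c hc0 + (2 * b + b * e) * h2
        | linear_combination c * hnorm a ha0 + c * hnorm b hb0 + c * hnorm c hc0 + (2 * c + c * e) * h2
        | linear_combination hnorm a ha0 + hnorm b hb0 + hnorm c hc0 + (1 + 2 * e) * h2
    · have e0 : x₁ • E i₁ + x₂ • E i₂ + x₃ • E i₃ =
          x₁ • E i₁ + x₂ • E i₂ + x₃ • E i₃ + (0 : F) • E i₄ := by module
      conv_lhs => rw [e0]
      rw [app_mul, app_mul, ht₁a, hD, ht₂a]
      simp only [map_one]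
      set s := x₁ + x₂ + x₃
      match_scalars <;> first
        | linear_combination a * (x₁ + s) * hnorm a ha0 + a * (x₂ + s) * hnorm b hb0 +
            a * (x₃ + s) * hnorm c hc0 + (2 * a * s) * h2
        | linear_combination b * (x₁ + s) * hnorm a ha0 + b * (x₂ + s) * hnorm b hb0 +
            b * (x₃ + s) * hnorm c hc0 + (2 * b * s) * h2
        | linear_combination c * (x₁ + s) * hnorm a ha0 + c * (x₂ + s) * hnorm b hb0 +
            c * (x₃ + s) * hnorm c hc0 + (2 * c * s) * h2
        | linear_combination (x₁ + s) * hnorm a ha0 + (x₂ + s) * hnorm b hb0 +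
            (x₃ + s) * hnorm c hc0 + ((2 + e) * s) * h2
  -- the vector has three non-zero coordinates
  have hv3 : v i₃ ≠ 0 := by
    intro h0
    rw [Unitary.herm_apply K, Finset.sum_eq_add_of_mem i₁ i₂ (Finset.mem_univ _) (Finset.mem_univ _)
      (by simp [i₁, i₂])] at hv1
    · exact mul_ne_zero hr ((map_ne_zero K.bar).2 hr) (by linear_combination hv1 - hN)
    · intro i _ hi
      rcases lt_or_ge (i : ℕ) k with h | h
      · rw [hv i h, zero_mul]
      · have : i = i₃ := by
          ext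
          have := i.2
          have h1 : (i : ℕ) ≠ k := fun e => hi.1 (Fin.ext e)
          have h2 : (i : ℕ) ≠ k + 1 := fun e => hi.2 (Fin.ext e)
          show (i : ℕ) = k + 2
          omega
        rw [this, h0, zero_mul]
  have hvsum : v = v i₁ • E i₁ + v i₂ • E i₂ + v i₃ • E i₃ := by
    ext i
    rcases lt_or_ge (i : ℕ) k with h | h
    · rw [hv i h]
      have : i ≠ i₁ ∧ i ≠ i₂ ∧ i ≠ i₃ := by simp only [Fin.ext_iff, ne_eq, i₁, i₂, i₃]; omega
      simp [E, this.1, this.2.1, this.2.2]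
    · have : i = i₁ ∨ i = i₂ ∨ i = i₃ := by
        have := i.2
        simp only [Fin.ext_iff, i₁, i₂, i₃]
        omega
      rcases this with rfl | rfl | rfl <;> simp [E, i₁, i₂, i₃]
  have hv10 : v i₁ ≠ 0 := fun h => by rw [h, zero_mul] at hN; exact zero_ne_one hN
  have hω0 : ω ≠ 0 := fun h => by simp [h] at hω
  have h1ω : 1 + ω ≠ 0 := fun h => pow_ne_zero 2 hω0 (by linear_combination hω - h)
  set P := v i₁ * v i₂ * v i₃ with hP
  have hP0 : P ≠ 0 := mul_ne_zero (mul_ne_zero hv10 hr) hv3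
  -- products different from one
  have hdirect : ∀ (t : Fin (k + 3) → F) (e : F), e * e + e + 1 = 0 → t i₁ * t i₂ * t i₃ = e →
      ∃ g ∈ gen K (W (F := F) (n := k + 3) (k - 1)), app g (E i₄) = E i₄ ∧
        app g (E i₁) = t i₁ • E i₁ + t i₂ • E i₂ + t i₃ • E i₃ := by
    intro t e he hte
    have he0 : e ≠ 0 := fun h => by simp [h] at he
    have h1e : 1 + e ≠ 0 := fun h => pow_ne_zero 2 he0 (by linear_combination he - h)
    obtain ⟨g, hg, g4, hga⟩ := hg (t i₁ / e) (t i₂ / (1 + e)) (t i₃ / (1 + e)) e (by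
      field_simp
      linear_combination hte - he)
    refine ⟨g, hg, g4, ?_⟩
    have h5 := hga 1 0 0
    simp only [one_smul, zero_smul, add_zero, zero_add, mul_one] at h5
    rw [h5]
    congr 1
    · congr 1
      · congr 1
        field_simp
        linear_combination t i₁ * h2
      · congr 1
        field_simp
    · congr 1
      field_simp
  have hcases : P = ω ∨ P = ω * ω ∨ P = 1 := by
    cases nonempty_fintype F
    have h1 := FiniteField.pow_card_sub_one_eq_one P hP0
    rw [← Nat.card_eq_fintype_card, K.card, hq] at h1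
    have h1' : P ^ 3 = 1 := h1
    rcases mul_eq_zero.1 (show (P - 1) * ((P - ω) * (P - ω * ω)) = 0 by
      linear_combination h1' - hω3 - (P ^ 2 - P) * hω + P * hω3) with h | h
    · exact Or.inr (Or.inr (sub_eq_zero.1 h))
    rcases mul_eq_zero.1 h with h | h
    · exact Or.inl (sub_eq_zero.1 h)
    · exact Or.inr (Or.inl (sub_eq_zero.1 h))
  rcases hcases with hc | hc | hc
  · obtain ⟨g, hg', g4, g1⟩ := hdirect v ω hω (hP ▸ hc)
    exact ⟨g, hg', hfix_low hg' g4, by rw [hvsum]; exact g1⟩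
  · obtain ⟨g, hg', g4, g1⟩ := hdirect v (ω * ω)
      (by linear_combination (ω * ω - ω + 1) * hω) (hP ▸ hc)
    exact ⟨g, hg', hfix_low hg' g4, by rw [hvsum]; exact g1⟩
  · obtain ⟨g, hg', g4, g1⟩ := hdirect (Function.update (fun _ => (1 : F)) i₃ ω) ω hω (by
      simp [i₁, i₂, i₃])
    obtain ⟨g', hg'', g4', hga⟩ := hg (v i₁ / ω) (v i₂ / ω) (v i₃) (ω * ω) (by
      field_simp
      linear_combination hc)
    refine ⟨g' * g, mul_mem hg'' hg', hfix_low (mul_mem hg'' hg') (by rw [app_mul, g4, g4']), ?_⟩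
    show app (g' * g) (E i₁) = v
    rw [app_mul, g1, hga]
    conv_rhs => rw [hvsum]
    simp [i₁, i₂, i₃]
    congr 1
    · congr 1
      · congr 1
        field_simp
        linear_combination (v ⟨k, by omega⟩) * (hω3 + (2 + ω ^ 2) * h2)
      · congr 1
        field_simp
        linear_combination (v ⟨k + 1, by omega⟩) * (hω3 + (2 + ω ^ 2) * h2)
    · congr 1
      linear_combination (v i₃) * (hω3 + ω * h2 + h2 + ω ^ 2 * h2)

/-- `SU_n(q)` is generated by transvections. -/
theorem gen_top (hn : 3 ≤ n) (h32 : ¬ (n = 3 ∧ q = 2)) : gen K (n := n) ⊤ = ⊤ := by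
  classical
  refine (Subgroup.eq_top_iff' _).2 fun g => ?_
  have key : ∀ k, k + 1 ≤ n → ∃ h ∈ gen K (n := n) ⊤, ∀ i : Fin n, (i : ℕ) < k →
      app (h * g) (Pi.single i 1) = Pi.single i 1 := by
    intro k
    induction k with
    | zero => exact fun _ => ⟨1, one_mem _, fun i hi => absurd hi (Nat.not_lt_zero _)⟩
    | succ k ih =>
      intro hk
      obtain ⟨h, hh, hfix⟩ := ih (by omega)
      set i₀ : Fin n := ⟨k, by omega⟩
      set v := app (h * g) (Pi.single i₀ 1)
      have hvW : v ∈ W (F := F) (n := n) k := by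
        intro i hi
        rw [← h_single K v i, ← hfix i hi, h_app, h_single K]
        exact Pi.single_eq_of_ne (fun e => by rw [e] at hi; exact lt_irrefl k hi) _
      have hv1 : H v v = 1 := by rw [h_app, h_single_single K, if_pos rfl]
      obtain ⟨t, ht, htfix, htv⟩ : ∃ t ∈ gen K (n := n) ⊤,
          (∀ i : Fin n, (i : ℕ) < k → app t (Pi.single i 1) = Pi.single i 1) ∧
          app t (Pi.single i₀ 1) = v := by
        by_cases hsp : q = 2 ∧ n = k + 3
        · obtain ⟨t, ht, htf, htv⟩ := exists_move_sphere_special K hsp.1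
            (show 1 ≤ k by by_contra h0; exact h32 ⟨by omega, hsp.1⟩) hsp.2 hvW hv1
          exact ⟨t, gen_mono K le_top ht, htf, htv⟩
        · obtain ⟨t, ht, htv⟩ := exists_move_sphere K (show k + 2 ≤ n by omega)
            (fun h2 h3 => hsp ⟨h2, h3⟩) hvW hv1
          exact ⟨t, gen_mono K le_top ht, fun i hi => gen_fix_W K ht hi, htv⟩
      refine ⟨t⁻¹ * h, mul_mem (inv_mem ht) hh, fun i hi => ?_⟩
      rw [mul_assoc, app_mul]
      rcases Nat.lt_succ_iff_lt_or_eq.1 hi with hi | hi
      · rw [hfix i hi]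
        conv_lhs => rw [← htfix i hi, app_inv]
      · obtain rfl : i = i₀ := Fin.ext hi
        show app t⁻¹ v = _
        rw [← htv, app_inv]
  obtain ⟨h, hh, hfix⟩ := key (n - 1) (by omega)
  set N := h * g
  -- everything but the last vector is fixed, and the determinant is one
  set l : Fin n := ⟨n - 1, by omega⟩
  have hlast : ∀ i : Fin n, i ≠ l → app N (Pi.single i 1) = Pi.single i 1 := fun i hi =>
    hfix i (by
      have := i.2
      have h1 : (i : ℕ) ≠ n - 1 := fun e => hi (Fin.ext e)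
      omega)
  have hv : ∀ i, i ≠ l → app N (Pi.single l 1) i = 0 := by
    intro i hi
    rw [← h_single K (app N (Pi.single l 1)) i, ← hlast i hi, h_app, h_single K]
    exact Pi.single_eq_of_ne hi _
  have hdiag : (N.1 : Matrix (Fin n) (Fin n) F) =
      Matrix.diagonal (Function.update (fun _ => (1 : F)) l ((N.1 : Matrix (Fin n) (Fin n) F) l l)) := by
    ext i j
    rcases eq_or_ne j l with rfl | hj
    · rcases eq_or_ne i l with rfl | hi
      · simp
      · rw [diagonal_apply_ne _ hi]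
        simpa [app] using hv i hi
    · have := congrFun (hlast j hj) i
      rcases eq_or_ne i j with rfl | hij
      · simpa [app, hj] using this
      · simpa [app, hij, Pi.single_eq_of_ne hij] using this
  have hN1 : N = 1 := by
    refine Subtype.ext (Subtype.ext ?_)
    have hd := N.1.2
    rw [hdiag, det_diagonal, Finset.prod_eq_single l (fun b _ hb => by simp [hb]) (by simp),
      Function.update_self] at hd
    rw [hdiag, hd, show ((1 : SU n F q).1 : Matrix (Fin n) (Fin n) F) = 1 from rfl, ← diagonal_one]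
    congr 1
    funext i
    by_cases hi : i = l <;> simp [hi]
  rw [eq_inv_of_mul_eq_one_right hN1]
  exact inv_mem hh

end CfsgLib.Classical.Herm
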