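import Cfsg.Agent.Lib.Classical.UnitarySimple
import Cfsg.Prelude.Def_GeometricClasses
import Cfsg.Prelude.Def_LieClassical

set_option autoImplicit false

/-!
Maximality of subspace stabilisers in special unitary groups.
-/

namespace CfsgLib.Classical.Herm

open Matrix Cfsg
open CfsgLib.ClassicalAut (Unitary.Conj Unitary.space Unitary.rep)

variable {F : Type*} [Field F] [Finite F] {q : ℕ} (K : Unitary.Conj F q) {n : ℕ}

local notation "H" => hermForm n F q
local notation "V" => (Fin n → F)

section form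

include K

theorem h_add_left (x y z : V) : H (x + y) z = H x z + H y z := (Unitary.space K).add_left x y z
theorem h_add_right (x y z : V) : H x (y + z) = H x y + H x z := (Unitary.space K).add_right x y z
theorem h_sub_left (x y z : V) : H (x - y) z = H x z - H y z := (Unitary.space K).sub_left x y z
theorem h_sub_right (x y z : V) : H x (y - z) = H x y - H x z := (Unitary.space K).sub_right x y z
theorem h_smul_left (a : F) (x y : V) : H (a • x) y = a * H x y := (Unitary.space K).smul_left a x y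
theorem h_smul_right (a : F) (x y : V) : H x (a • y) = K.bar a * H x y :=
  (Unitary.space K).smul_right a x y
theorem h_zero_left (x : V) : H 0 x = 0 := (Unitary.space K).zero_left x
theorem h_zero_right (x : V) : H x 0 = 0 := (Unitary.space K).zero_right x
theorem h_eq_zero_symm {x y : V} (h : H x y = 0) : H y x = 0 := (Unitary.space K).eq_zero_symm h
theorem h_ne_zero_symm {x y : V} (h : H x y ≠ 0) : H y x ≠ 0 := fun e => h (h_eq_zero_symm K e)
theorem bar_self (x : V) : K.bar (H x x) = H x x := (h_swap K x x).symm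
theorem h_nondeg {x : V} (h : ∀ y, H x y = 0) : x = 0 := (Unitary.space K).nondeg' h
theorem ne_zero_of_h {x y : V} (h : H x y ≠ 0) : x ≠ 0 := fun e => h (by rw [e, h_zero_left K])

end form

/-- The orthogonal of `W`. -/
def orth (W : Submodule F V) : Submodule F V where
  carrier := {u | ∀ w ∈ W, H w u = 0}
  add_mem' := fun {a b} ha hb w hw => by rw [h_add_right K, ha w hw, hb w hw, add_zero]
  zero_mem' := fun w _ => h_zero_right K w
  smul_mem' := fun c u hu w hw => by rw [h_smul_right K, hu w hw, mul_zero]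

/-- Non-degenerate subspaces. -/
def Nondeg (U : Submodule F V) : Prop := ∀ x ∈ U, x ≠ 0 → ∃ y ∈ U, hermForm n F q x y ≠ 0

include K

theorem exists_repr (φ : V →ₗ[F] F) : ∃ v : V, ∀ y, H y v = φ y := by
  classical
  refine ⟨fun i => K.bar (φ (Pi.single i 1)), fun y => ?_⟩
  rw [CfsgLib.ClassicalAut.Unitary.herm_apply K]
  simp only [K.bar_bar]
  rw [LinearMap.pi_apply_eq_sum_univ φ y]
  refine Finset.sum_congr rfl fun i _ => ?_
  rw [smul_eq_mul]
  congr 2
  funext j
  simp [Pi.single_apply, eq_comm]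

theorem exists_orth_one {W : Submodule F V} {x : V} (hx : x ∉ W) :
    ∃ v ∈ orth K W, H x v = 1 := by
  obtain ⟨f, hfx, hfW⟩ := Submodule.exists_dual_map_eq_bot_of_notMem hx inferInstance
  obtain ⟨v, hv⟩ := exists_repr K ((f x)⁻¹ • f)
  refine ⟨v, fun w hw => ?_, ?_⟩
  · have : f w = 0 := (Submodule.eq_bot_iff _).1 hfW _ (Submodule.mem_map_of_mem hw)
    rw [hv, LinearMap.smul_apply, this, smul_zero]
  · rw [hv, LinearMap.smul_apply, smul_eq_mul, inv_mul_cancel₀ hfx]

theorem mem_of_orth_orth {W : Submodule F V} {x : V}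
    (h : ∀ v ∈ orth K W, H x v = 0) : x ∈ W := by
  by_contra hx
  obtain ⟨v, hv, hv1⟩ := exists_orth_one K hx
  exact one_ne_zero (hv1.symm.trans (h v hv))

theorem exists_split {U : Submodule F V} (hU : Nondeg (q := q) U) (v : V) :
    ∃ a ∈ U, v - a ∈ orth K U := by
  let φ : U → (U →ₗ[F] F) := fun a =>
    { toFun := fun x => H (x : V) (a : V)
      map_add' := fun x y => h_add_left K _ _ _
      map_smul' := fun c x => h_smul_left K c _ _ }
  have hφ : Function.Injective φ := fun a b e => by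
    by_contra hne
    obtain ⟨y, hy, hay⟩ := hU ((a : V) - b) (U.sub_mem a.2 b.2)
      fun h0 => hne (Subtype.ext (sub_eq_zero.1 h0))
    refine h_ne_zero_symm K hay ?_
    rw [h_sub_right K, show H y (a : V) = H y (b : V) from LinearMap.congr_fun e ⟨y, hy⟩, sub_self]
  have hcard : Nat.card U = Nat.card (U →ₗ[F] F) := by
    rw [@Module.natCard_eq_pow_finrank F U _ _ _ _,
      @Module.natCard_eq_pow_finrank F (U →ₗ[F] F) _ _ _ _]
    congr 1
    exact Subspace.dual_finrank_eq.symm
  have : Finite (U →ₗ[F] F) := Module.finite_of_finite F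
  cases nonempty_fintype U
  cases nonempty_fintype (U →ₗ[F] F)
  rw [Nat.card_eq_fintype_card, Nat.card_eq_fintype_card] at hcard
  obtain ⟨a, ha⟩ := ((Fintype.bijective_iff_injective_and_card φ).2 ⟨hφ, hcard⟩).2
    { toFun := fun x => H (x : V) v
      map_add' := fun x y => h_add_left K _ _ _
      map_smul' := fun c x => h_smul_left K c _ _ }
  exact ⟨a, a.2, fun w hw => by
    rw [h_sub_right K, sub_eq_zero]; exact (LinearMap.congr_fun ha ⟨w, hw⟩).symm⟩

theorem isCompl_orth {U : Submodule F V} (hU : Nondeg (q := q) U) : IsCompl U (orth K U) := by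
  refine IsCompl.of_eq ((Submodule.eq_bot_iff _).2 fun a ha => ?_) (eq_top_iff.2 fun v _ => ?_)
  · by_contra h0
    obtain ⟨y, hy, hay⟩ := hU a ha.1 h0
    exact h_ne_zero_symm K hay (ha.2 y hy)
  · obtain ⟨a, ha, hva⟩ := exists_split K hU v
    exact Submodule.mem_sup.2 ⟨a, ha, v - a, hva, add_sub_cancel a v⟩

theorem nondeg_orth {U : Submodule F V} (hU : Nondeg (q := q) U) : Nondeg (q := q) (orth K U) := by
  intro b hb h0
  by_contra hc
  push Not at hc
  refine h0 (h_nondeg K fun v => ?_)
  obtain ⟨a, ha, hva⟩ := exists_split K hU v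
  rw [← add_sub_cancel a v, h_add_right K, hc _ hva, add_zero, h_eq_zero_symm K (hb a ha)]

theorem finrank_orth {U : Submodule F V} (hU : Nondeg (q := q) U) :
    Module.finrank F U + Module.finrank F (orth K U) = n := by
  rw [Submodule.finrank_add_eq_of_isCompl (isCompl_orth K hU), Module.finrank_fin_fun]

/-! ### Vectors with prescribed products -/

/-- The vectors of `U` orthogonal to `Q`. -/
theorem finrank_inf_orth_le (U : Submodule F V) (k : ℕ) (f : Fin k → V) :
    Module.finrank F U ≤ Module.finrank F (U ⊓ orth K (Submodule.span F (Set.range f)) : Submodule F V) + k := by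
  let L : U →ₗ[F] (Fin k → F) :=
    { toFun := fun x i => H (x : V) (f i)
      map_add' := fun x y => funext fun i => h_add_left K _ _ _
      map_smul' := fun c x => funext fun i => h_smul_left K c _ _ }
  have h1 := L.finrank_range_add_finrank_ker
  have h2 : Module.finrank F (LinearMap.range L) ≤ k :=
    (Submodule.finrank_le _).trans_eq (Module.finrank_fin_fun F)
  let incl : LinearMap.ker L →ₗ[F] (U ⊓ orth K (Submodule.span F (Set.range f)) : Submodule F V) :=
    LinearMap.codRestrict _ (U.subtype.comp (LinearMap.ker L).subtype) fun x =>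
      ⟨x.1.2, fun w hw => by
        induction hw using Submodule.span_induction with
        | mem w hw =>
          obtain ⟨i, rfl⟩ := hw
          exact h_eq_zero_symm K (congrFun (LinearMap.mem_ker.1 x.2) i)
        | zero => exact h_zero_left K _
        | add a b _ _ ha hb => rw [h_add_left K]; exact (congrArg₂ (· + ·) ha hb).trans (add_zero 0)
        | smul c a _ ha => rw [h_smul_left K, ha, mul_zero]⟩
  have h3 := LinearMap.finrank_le_finrank_of_injective (f := incl) fun a b e =>
    Subtype.ext (Subtype.ext (congrArg Subtype.val e : _))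
  omega

theorem exists_isotropic_ne {P : Submodule F V} (hP : 2 ≤ Module.finrank F P) :
    ∃ x ∈ P, x ≠ 0 ∧ H x x = 0 := by
  obtain ⟨p, hp, hp0⟩ := Submodule.exists_mem_ne_zero_of_ne_bot (p := P) fun h => by
    rw [h, finrank_bot] at hP; omega
  by_cases hpp : H p p = 0
  · exact ⟨p, hp, hp0, hpp⟩
  obtain ⟨r, hr, hr0⟩ := Submodule.exists_mem_ne_zero_of_ne_bot
    (p := P ⊓ orth K (Submodule.span F (Set.range ![p]))) fun h => by
      have := finrank_inf_orth_le K P 1 ![p]
      rw [h, finrank_bot] at this; omega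
  have hpr : H p r = 0 := hr.2 p (Submodule.subset_span ⟨0, rfl⟩)
  have hrp := h_eq_zero_symm K hpr
  by_cases hrr : H r r = 0
  · exact ⟨r, hr.1, hr0, hrr⟩
  obtain ⟨t, ht⟩ := K.exists_norm (-(H r r) / H p p) (by rw [map_div₀, map_neg, bar_self K, bar_self K])
  refine ⟨r + t • p, P.add_mem hr.1 (P.smul_mem _ hp), fun h => hrr ?_, ?_⟩
  · rw [show r = -(t • p) from eq_neg_of_add_eq_zero_left h, ← neg_one_smul F (t • p), smul_smul]
      at hrp ⊢
    rw [h_smul_left K] at hrp
    have ht0 := (mul_eq_zero.1 hrp).resolve_right hpp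
    rw [ht0, zero_smul, h_zero_left K]
  · simp only [h_add_left K, h_add_right K, h_smul_left K, h_smul_right K, hpr, hrp, mul_zero,
      add_zero, zero_add]
    rw [← mul_assoc, ht]
    field_simp
    ring

theorem exists_prescribed {U : Submodule F V} (hU : Nondeg (q := q) U) {Q : Submodule F V}
    (hQ : Q ≤ U) {x : V} (hx : x ∈ U) (hxQ : x ∉ Q) :
    ∃ z ∈ U, (∀ y ∈ Q, H z y = 0) ∧ H z x = 1 := by
  obtain ⟨v, hv, hv1⟩ := exists_orth_one K hxQ
  obtain ⟨a, ha, hva⟩ := exists_split K hU v
  have key : ∀ y ∈ U, H a y = K.bar (H y v) := fun y hy => by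
    have := hva y hy
    rw [h_sub_right K, sub_eq_zero] at this
    rw [h_swap K y a, this]
  exact ⟨a, ha, fun y hy => by rw [key y (hQ hy), hv y hy, map_zero],
    by rw [key x hx, hv1, map_one]⟩

/-- An anisotropic vector of `U` orthogonal to two given ones, given one vector orthogonal to both outside
their span. -/
theorem exists_aniso_perp_of {U : Submodule F V} (hU : Nondeg (q := q) U)
    {b b' : V} (hb : b ∈ U) (hb' : b' ∈ U) {x : V}
    (hx : x ∈ U ⊓ orth K (Submodule.span F (Set.range ![b, b'])))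
    (hxQ : x ∉ Submodule.span F (Set.range ![b, b'])) :
    ∃ p ∈ U, H p b = 0 ∧ H p b' = 0 ∧ H p p ≠ 0 := by
  classical
  set Q := Submodule.span F (Set.range ![b, b']) with hQ
  set P := U ⊓ orth K Q with hP
  have hb0 : ∀ p ∈ P, H p b = 0 ∧ H p b' = 0 := fun p hp =>
    ⟨h_eq_zero_symm K (hp.2 b (Submodule.subset_span ⟨0, rfl⟩)),
      h_eq_zero_symm K (hp.2 b' (Submodule.subset_span ⟨1, rfl⟩))⟩
  by_cases hxx : H x x = 0
  swap
  · exact ⟨x, hx.1, (hb0 x hx).1, (hb0 x hx).2, hxx⟩
  have hQU : Q ≤ U := by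
    rw [hQ, Submodule.span_le]
    rintro _ ⟨i, rfl⟩
    fin_cases i <;> assumption
  obtain ⟨z, hz, hzQ, hzx⟩ := exists_prescribed K hU hQU hx.1 hxQ
  have hzb := hzQ b (Submodule.subset_span ⟨0, rfl⟩)
  have hzb' := hzQ b' (Submodule.subset_span ⟨1, rfl⟩)
  by_cases hzz : H z z = 0
  swap
  · exact ⟨z, hz, hzb, hzb', hzz⟩
  obtain ⟨y, hy⟩ := K.exists_trace
  refine ⟨z + y • x, U.add_mem hz (U.smul_mem _ hx.1), ?_, ?_, ?_⟩
  · rw [h_add_left K, h_smul_left K, hzb, (hb0 x hx).1, mul_zero, add_zero]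
  · rw [h_add_left K, h_smul_left K, hzb', (hb0 x hx).2, mul_zero, add_zero]
  · have hxz : H x z = 1 := by rw [h_swap K z x, hzx, map_one]
    simp only [h_add_left K, h_add_right K, h_smul_left K, h_smul_right K, hzz, hxx, hzx, hxz,
      mul_one, mul_zero, zero_add, add_zero]
    rwa [add_comm] at hy

/-- An anisotropic vector of `U` orthogonal to two given ones. -/
theorem exists_aniso_perp {U : Submodule F V} (hU : Nondeg (q := q) U)
    (hd : 5 ≤ Module.finrank F U) {b b' : V} (hb : b ∈ U) (hb' : b' ∈ U) :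
    ∃ p ∈ U, H p b = 0 ∧ H p b' = 0 ∧ H p p ≠ 0 := by
  obtain ⟨x, hx, hxQ⟩ : ∃ x ∈ U ⊓ orth K (Submodule.span F (Set.range ![b, b'])),
      x ∉ Submodule.span F (Set.range ![b, b']) := by
    by_contra hc
    push Not at hc
    have h1 := Submodule.finrank_mono hc
    have h2 : Module.finrank F (Submodule.span F (Set.range ![b, b'])) ≤ 2 :=
      (finrank_range_le_card (R := F) ![b, b']).trans_eq (Fintype.card_fin 2)
    have h3 := finrank_inf_orth_le K U 2 ![b, b']
    omega
  exact exists_aniso_perp_of K hU hb hb' hx hxQ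

/-- An anisotropic vector of `U` orthogonal to a given one. -/
theorem exists_aniso_perp_one {U : Submodule F V} (hU : Nondeg (q := q) U)
    (hd : 3 ≤ Module.finrank F U) {b : V} (hb : b ∈ U) : ∃ p ∈ U, H p b = 0 ∧ H p p ≠ 0 := by
  obtain ⟨x, hx, hxQ⟩ : ∃ x ∈ U ⊓ orth K (Submodule.span F (Set.range ![b])),
      x ∉ Submodule.span F (Set.range ![b]) := by
    by_contra hc
    push Not at hc
    have h1 := Submodule.finrank_mono hc
    have h2 : Module.finrank F (Submodule.span F (Set.range ![b])) ≤ 1 :=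
      (finrank_range_le_card (R := F) ![b]).trans_eq (Fintype.card_fin 1)
    have h3 := finrank_inf_orth_le K U 1 ![b]
    omega
  have e : Set.range ![b, b] = Set.range ![b] := by simp
  rw [← e] at hx hxQ
  obtain ⟨p, hp, h1, -, h2⟩ := exists_aniso_perp_of K hU hb hb hx hxQ
  exact ⟨p, hp, h1, h2⟩

/-- In dimension four two vectors spanning a subspace which is not totally isotropic. -/
theorem exists_aniso_perp_two {U : Submodule F V} (hU : Nondeg (q := q) U)
    (hd : 4 ≤ Module.finrank F U) {b b' : V} (hb : b ∈ U) (hb' : b' ∈ U)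
    (hnt : ¬ (H b b = 0 ∧ H b b' = 0 ∧ H b' b' = 0)) :
    ∃ p ∈ U, H p b = 0 ∧ H p b' = 0 ∧ H p p ≠ 0 := by
  set Q := Submodule.span F (Set.range ![b, b']) with hQ
  obtain ⟨x, hx, hxQ⟩ : ∃ x ∈ U ⊓ orth K Q, x ∉ Q := by
    by_contra hc
    push Not at hc
    have h2 : Module.finrank F Q ≤ 2 :=
      (finrank_range_le_card (R := F) ![b, b']).trans_eq (Fintype.card_fin 2)
    have h3 : Module.finrank F U ≤ Module.finrank F (U ⊓ orth K Q : Submodule F V) + 2 :=
      finrank_inf_orth_le K U 2 ![b, b']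
    have he := Submodule.eq_of_le_of_finrank_le (show U ⊓ orth K Q ≤ Q from hc) (by omega)
    have hm : ∀ y ∈ Q, y ∈ orth K Q := fun y hy => by rw [← he] at hy; exact hy.2
    have m0 : b ∈ Q := Submodule.subset_span ⟨0, rfl⟩
    have m1 : b' ∈ Q := Submodule.subset_span ⟨1, rfl⟩
    exact hnt ⟨hm b m0 b m0, hm b' m1 b m0, hm b' m1 b' m1⟩
  exact exists_aniso_perp_of K hU hb hb' hx hxQ

theorem exists_scaled {U : Submodule F V} {p : V} (hp : p ∈ U) (hpp : H p p ≠ 0) {s : F}
    (hs : K.bar s = s) : ∃ t : F, t • p ∈ U ∧ H (t • p) (t • p) = s := by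
  obtain ⟨t, ht⟩ := K.exists_norm (s / H p p) (by rw [map_div₀, hs, bar_self K])
  exact ⟨t, U.smul_mem _ hp, by
    rw [h_smul_left K, h_smul_right K, ← mul_assoc, ht, div_mul_cancel₀ _ hpp]⟩

/-- A vector of given norm, orthogonal to and independent of a given one. -/
theorem exists_norm_perp {U : Submodule F V} (hU : Nondeg (q := q) U)
    (hd : 4 ≤ Module.finrank F U) {b : V} (hb : b ∈ U) (hb0 : b ≠ 0) {s : F} (hs : K.bar s = s) :
    ∃ z ∈ U, z ∉ Submodule.span F {b} ∧ z ≠ 0 ∧ H z z = s := by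
  by_cases hs0 : s = 0
  · obtain ⟨y, -, hby⟩ := hU b hb hb0
    obtain ⟨z, hz, hz0, hzz⟩ := exists_isotropic_ne K
      (P := U ⊓ orth K (Submodule.span F (Set.range ![y]))) (by
        have := finrank_inf_orth_le K U 1 ![y]
        omega)
    refine ⟨z, hz.1, fun h => ?_, hz0, hzz.trans hs0.symm⟩
    obtain ⟨e, rfl⟩ := Submodule.mem_span_singleton.1 h
    have h1 := h_eq_zero_symm K (hz.2 y (Submodule.subset_span ⟨0, rfl⟩))
    rw [h_smul_left K] at h1
    exact hz0 (by rw [(mul_eq_zero.1 h1).resolve_right hby, zero_smul])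
  · obtain ⟨p, hp, hpb, hpp⟩ := exists_aniso_perp_one K hU (by omega) hb
    obtain ⟨t, ht, htt⟩ := exists_scaled K hp hpp hs
    refine ⟨t • p, ht, fun h => ?_, ne_zero_of_h K (htt ▸ hs0), htt⟩
    obtain ⟨e, he⟩ := Submodule.mem_span_singleton.1 h
    have h1 : e * H b b = 0 := by rw [← h_smul_left K, he, h_smul_left K, hpb, mul_zero]
    refine hs0 ?_
    rw [← htt, ← he, h_smul_left K, h_smul_right K, mul_left_comm, h1, mul_zero]

theorem exists_skew : ∃ θ : F, θ ≠ 0 ∧ θ + K.bar θ = 0 := by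
  obtain ⟨y, hy⟩ := K.exists_moved
  exact ⟨y - K.bar y, sub_ne_zero.2 hy.symm, by rw [map_sub, K.bar_bar]; ring⟩

theorem exists_step_norm {U : Submodule F V} {a b : V} (ha : a ∈ U) (hb : b ∈ U) {s : F}
    (has : H a a = s) (hbs : H b b = s) (hθ : H a b - s ≠ 0)
    (hskew : H a b - s + K.bar (H a b - s) = 0) : ∃ g ∈ gen K U, app g a = b := by
  set h := H a b - s with hh
  have hbs' : K.bar s = s := has ▸ bar_self K a
  have hvv : H (b - a) (b - a) = 0 := by
    rw [h_sub_left K, h_sub_right K, h_sub_right K, hbs, has, h_swap K a b]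
    rw [map_sub, hbs'] at hskew
    linear_combination (-1 : F) * hskew + (1 : F) * (by rw [hh] : h = H a b - s)
  have hav : H a (b - a) = h := by rw [h_sub_right K, has]
  have hc : h⁻¹ + K.bar h⁻¹ = 0 := by
    have hb0 : K.bar h ≠ 0 := (map_ne_zero K.bar).2 hθ
    rw [map_inv₀]
    field_simp
    linear_combination hskew
  obtain ⟨g, hg⟩ := exists_T K hvv hc
  refine ⟨g, Subgroup.subset_closure ⟨b - a, U.sub_mem hb ha, h⁻¹, hg⟩, ?_⟩
  rw [hg.2.2, hav, inv_mul_cancel₀ hθ, one_smul, add_sub_cancel]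

/-- The transvections of `U` are transitive on its non-zero vectors of given norm. -/
theorem exists_move_norm {U : Submodule F V} (hU : Nondeg (q := q) U)
    (hd : 4 ≤ Module.finrank F U) {b b' : V} (hb : b ∈ U) (hb' : b' ∈ U) (h0 : b ≠ 0)
    (h0' : b' ≠ 0) (hn : H b b = H b' b') : ∃ g ∈ gen K U, app g b = b' := by
  have indep : ∀ b b' : V, b ∈ U → b' ∈ U → H b b = H b' b' → b ∉ Submodule.span F {b'} →
      b' ∉ Submodule.span F {b} → ∃ g ∈ gen K U, app g b = b' := by
    intro b b' hb hb' hn hi hi'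
    set s := H b b with hs
    have hss : K.bar s = s := bar_self K b
    obtain ⟨θ, hθ0, hθ⟩ := exists_skew K
    obtain ⟨z₁, hz₁, h1, h1'⟩ := exists_prescribed K hU
      ((Submodule.span_singleton_le_iff_mem _ _).2 hb') hb hi
    obtain ⟨z₂, hz₂, h2, h2'⟩ := exists_prescribed K hU
      ((Submodule.span_singleton_le_iff_mem _ _).2 hb) hb' hi'
    replace h1 := h1 b' (Submodule.mem_span_singleton_self b')
    replace h2 := h2 b (Submodule.mem_span_singleton_self b)
    set z₀ := (s + θ) • z₁ + (s + θ) • z₂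
    have hz₀ : z₀ ∈ U := U.add_mem (U.smul_mem _ hz₁) (U.smul_mem _ hz₂)
    obtain ⟨z, hz, hzz, hzb, hzb'⟩ : ∃ z ∈ U, H z z = s ∧ H z b = s + θ ∧ H z b' = s + θ := by
      by_cases hti : s = 0 ∧ H b b' = 0
      · obtain ⟨hs0, hbb⟩ := hti
        have hbn : H b b = 0 := hs0
        have hzb0 : H z₀ b = θ := by
          simp only [z₀, h_add_left K, h_smul_left K, h1', h2, hs0]; ring
        have hzb0' : H z₀ b' = θ := by
          simp only [z₀, h_add_left K, h_smul_left K, h1, h2', hs0]; ring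
        obtain ⟨y, hy⟩ : ∃ y : F, y + K.bar y = 1 := by
          obtain ⟨y, hy⟩ := K.exists_trace
          refine ⟨y / (y + K.bar y), ?_⟩
          rw [map_div₀, map_add, K.bar_bar, add_comm (K.bar y) y, ← add_div, div_self hy]
        refine ⟨z₀ + (y * H z₀ z₀ / θ) • b, U.add_mem hz₀ (U.smul_mem _ hb), ?_, ?_, ?_⟩
        · have hbz0 : H b z₀ = K.bar θ := by rw [h_swap K z₀ b, hzb0]
          simp only [h_add_left K, h_add_right K, h_smul_left K, h_smul_right K, hbn, hzb0, hbz0,
            mul_zero, add_zero, hs0]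
          have hbar : K.bar (H z₀ z₀) = H z₀ z₀ := bar_self K z₀
          have hbθ : K.bar θ = -θ := eq_neg_of_add_eq_zero_right hθ
          simp only [map_div₀, map_mul, hbar, hbθ]
          field_simp
          linear_combination (-H z₀ z₀) * hy
        · rw [h_add_left K, h_smul_left K, hbn, mul_zero, add_zero, hzb0, hs0, zero_add]
        · rw [h_add_left K, h_smul_left K, hbb, mul_zero, add_zero, hzb0', hs0, zero_add]
      obtain ⟨p, hp, hpb, hpb', hpp⟩ := exists_aniso_perp_two K hU hd hb hb' fun h => hti ⟨h.1, h.2.1⟩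
      set z₃ := z₀ - (H z₀ p / H p p) • p
      have hz₃p : H z₃ p = 0 := by
        rw [h_sub_left K, h_smul_left K, div_mul_cancel₀ _ hpp, sub_self]
      obtain ⟨t, ht, htt⟩ := exists_scaled K hp hpp (s := s - H z₃ z₃)
        (by rw [map_sub, hss, bar_self K])
      refine ⟨z₃ + t • p, U.add_mem (U.sub_mem hz₀ (U.smul_mem _ hp)) ht, ?_, ?_, ?_⟩
      · rw [h_add_left K, h_add_right K, h_add_right K, htt, h_smul_right K, hz₃p, mul_zero,
          h_smul_left K, h_eq_zero_symm K hz₃p, mul_zero]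
        ring
      · simp only [z₃, z₀, h_add_left K, h_sub_left K, h_smul_left K, hpb, h1', h2]
        ring
      · simp only [z₃, z₀, h_add_left K, h_sub_left K, h_smul_left K, hpb', h1, h2']
        ring
    have hbz : H b z = s - θ := by
      rw [h_swap K z b, hzb, map_add, hss]; linear_combination hθ
    obtain ⟨g, hg, hgb⟩ := exists_step_norm K (U := U) hb hz hs.symm hzz
      (by rw [hbz, sub_sub_cancel_left]; exact neg_ne_zero.2 hθ0)
      (by rw [hbz, sub_sub_cancel_left, map_neg]; linear_combination (-1 : F) * hθ)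
    obtain ⟨g', hg', hgz⟩ := exists_step_norm K (U := U) hz hb' hzz hn.symm
      (by rw [hzb', add_sub_cancel_left]; exact hθ0) (by rw [hzb', add_sub_cancel_left]; exact hθ)
    exact ⟨g' * g, mul_mem hg' hg, by rw [app_mul, hgb, hgz]⟩
  by_cases hi : b ∈ Submodule.span F {b'}
  swap
  · by_cases hi' : b' ∈ Submodule.span F {b}
    · obtain ⟨c, hc⟩ := Submodule.mem_span_singleton.1 hi'
      refine absurd (Submodule.mem_span_singleton.2 ⟨c⁻¹, ?_⟩) hi
      rw [← hc, smul_smul, inv_mul_cancel₀ (fun h : c = 0 => h0' (by rw [← hc, h, zero_smul])), one_smul]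
    · exact indep b b' hb hb' hn hi hi'
  obtain ⟨c, hc⟩ := Submodule.mem_span_singleton.1 hi
  have hc0 : c ≠ 0 := fun e => h0 (by rw [← hc, e, zero_smul])
  have hline : Submodule.span F {b} = Submodule.span F {b'} := by
    rw [← hc]; exact Submodule.span_singleton_smul_eq (IsUnit.mk0 c hc0) b'
  obtain ⟨z, hz, hzb2, hz0, hzz⟩ := exists_norm_perp K hU hd hb h0 (bar_self K b)
  have hzi : z ∉ Submodule.span F {b'} := hline ▸ hzb2
  have swap : ∀ x : V, x ≠ 0 → z ∉ Submodule.span F {x} → x ∉ Submodule.span F {z} :=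
    fun x hx hzx h => hzx <| by
      obtain ⟨e, he⟩ := Submodule.mem_span_singleton.1 h
      have he0 : e ≠ 0 := fun e0 => hx (by rw [← he, e0, zero_smul])
      exact Submodule.mem_span_singleton.2
        ⟨e⁻¹, by rw [← he, smul_smul, inv_mul_cancel₀ he0, one_smul]⟩
  have hbz := swap b h0 hzb2
  have hzb' := swap b' h0' hzi
  obtain ⟨g, hg, hgb⟩ := indep b z hb hz hzz.symm hbz hzb2
  obtain ⟨g', hg', hgz⟩ := indep z b' hz hb' (hzz.trans hn) hzi hzb'
  exact ⟨g' * g, mul_mem hg' hg, by rw [app_mul, hgb, hgz]⟩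

end CfsgLib.Classical.Herm
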