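import Mathlib

set_option autoImplicit false

/-!
The centralizer of a semisimple endomorphism over a finite field has every nonzero determinant.
-/

namespace CfsgLib.Classical.SemisimpleDet

open Module

variable {F V : Type*} [Field F] [AddCommGroup V] [Module F V] [FiniteDimensional F V]

/-- The irreducible case. -/
theorem exists_det_irreducible [Finite F] (Y : Module.End F V) [Nontrivial V]
    (hirr : ∀ U : Submodule F V, (∀ x ∈ U, Y x ∈ U) → U ≠ ⊥ → U = ⊤) {c : F} :
    ∃ Z : Module.End F V, Commute Z Y ∧ LinearMap.det Z = c := by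
  classical
  have hinj : ∀ p : Polynomial F, Polynomial.aeval Y p ≠ 0 →
      Function.Injective (Polynomial.aeval Y p) := by
    intro p hp
    rw [← LinearMap.ker_eq_bot]
    by_contra hk
    refine hp (LinearMap.ker_eq_top.1 (hirr _ (fun x hx => ?_) hk))
    rw [LinearMap.mem_ker] at hx ⊢
    have hc : Commute (Polynomial.aeval Y p) Y := by
      have := (Commute.all p Polynomial.X).map (Polynomial.aeval Y).toRingHom
      simpa using this
    have := LinearMap.congr_fun hc.eq x
    rw [Module.End.mul_apply, Module.End.mul_apply] at this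
    rw [this, hx, map_zero]
  have hint : IsIntegral F Y := IsIntegral.of_finite F Y
  have hμ : Irreducible (minpoly F Y) := by
    refine ⟨minpoly.not_isUnit F Y, fun a b hab => ?_⟩
    have h0 : Polynomial.aeval Y a * Polynomial.aeval Y b = 0 := by
      rw [← map_mul, ← hab, minpoly.aeval]
    have hne := minpoly.ne_zero hint
    rw [hab] at hne
    obtain ⟨ha0, hb0⟩ := mul_ne_zero_iff.1 hne
    have hdeg := Polynomial.natDegree_mul ha0 hb0
    rw [← hab] at hdeg
    have unit_of : ∀ d : Polynomial F, d ≠ 0 → Polynomial.aeval Y d = 0 → ∀ d' : Polynomial F, d' ≠ 0 →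
        (minpoly F Y).natDegree = d.natDegree + d'.natDegree → IsUnit d' := by
      intro d hd hd' d' hd0 he
      have := Polynomial.natDegree_le_of_dvd (minpoly.dvd F Y hd') hd
      rw [Polynomial.isUnit_iff_degree_eq_zero, Polynomial.degree_eq_natDegree hd0]
      norm_cast
      omega
    by_cases h : Polynomial.aeval Y a = 0
    · exact Or.inr (unit_of a ha0 h b hb0 hdeg)
    · refine Or.inl (unit_of b hb0 ?_ a ha0 (by rw [hdeg, add_comm]))
      refine LinearMap.ext fun x => hinj a h ?_
      rw [LinearMap.zero_apply, map_zero]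
      exact LinearMap.congr_fun h0 x
  have : Fact (Irreducible (minpoly F Y)) := ⟨hμ⟩
  let K := AdjoinRoot (minpoly F Y)
  have : Module.Finite F K := (AdjoinRoot.powerBasis (minpoly.ne_zero hint)).finite
  have : Finite K := Module.finite_of_finite F
  obtain ⟨Φ, hΦ⟩ : ∃ Φ : K →ₐ[F] Module.End F V, Φ (AdjoinRoot.root _) = Y :=
    ⟨Ideal.Quotient.liftₐ (Ideal.span {minpoly F Y}) (Polynomial.aeval Y) fun p hp => by
        obtain ⟨q, rfl⟩ := Ideal.mem_span_singleton'.1 hp
        rw [map_mul, minpoly.aeval, mul_zero],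
      Polynomial.aeval_X Y⟩
  obtain ⟨w, hw⟩ := exists_ne (0 : V)
  let e₀ : K →ₗ[F] V := (LinearMap.applyₗ w).comp Φ.toLinearMap
  have he₀ : Function.Bijective e₀ := by
    refine ⟨(injective_iff_map_eq_zero e₀).2 fun a ha => ?_, LinearMap.range_eq_top.1 (hirr _ ?_ ?_)⟩
    · by_contra h0
      apply hw
      have h1 : Φ a⁻¹ (Φ a w) = w := by
        rw [← Module.End.mul_apply, ← map_mul, inv_mul_cancel₀ h0, map_one]; rfl
      rw [← h1, show Φ a w = 0 from ha, map_zero]
    · rintro _ ⟨a, rfl⟩
      refine ⟨AdjoinRoot.root _ * a, ?_⟩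
      show Φ (AdjoinRoot.root _ * a) w = Y (Φ a w)
      rw [map_mul, hΦ]; rfl
    · exact fun hb => hw (by
        have : e₀ 1 ∈ LinearMap.range e₀ := ⟨1, rfl⟩
        rw [hb, Submodule.mem_bot] at this
        simpa [e₀] using this)
  let e : K ≃ₗ[F] V := LinearEquiv.ofBijective e₀ he₀
  obtain ⟨a, ha⟩ := FiniteField.norm_surjective F K c
  refine ⟨Φ a, ?_, ?_⟩
  · have := ((Commute.all a (AdjoinRoot.root (minpoly F Y))).map Φ)
    rwa [hΦ] at this
  · have hconj : Φ a = (e : K →ₗ[F] V) ∘ₗ (Algebra.lmul F K a) ∘ₗ (e.symm : V →ₗ[F] K) := by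
      refine LinearMap.ext fun x => ?_
      obtain ⟨b, rfl⟩ := e.surjective x
      simp only [LinearMap.comp_apply, LinearEquiv.coe_coe, LinearEquiv.symm_apply_apply]
      show Φ a (Φ b w) = Φ (a * b) w
      rw [map_mul]; rfl
    rw [hconj, LinearMap.det_conj, ← Algebra.norm_apply, ha]

/-- The centralizer of a semisimple endomorphism has all determinants. -/
theorem exists_commute_det [Finite F] [Nontrivial V] (X : Module.End F V) (hX : X.IsSemisimple)
    (c : F) : ∃ Z : Module.End F V, Commute Z X ∧ LinearMap.det Z = c := by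
  classical
  have hex : ∃ k, ∃ W : Submodule F V, (∀ x ∈ W, X x ∈ W) ∧ W ≠ ⊥ ∧ finrank F W = k :=
    ⟨_, ⊤, fun x _ => trivial, top_ne_bot, rfl⟩
  obtain ⟨W, hW, hW0, hWk⟩ := Nat.find_spec hex
  obtain ⟨W', hW', hc'⟩ := Module.End.isSemisimple_iff.1 hX W hW
  have : Nontrivial W := Submodule.nontrivial_iff_ne_bot.2 hW0
  obtain ⟨Z, hZ, hdet⟩ := exists_det_irreducible (X.restrict hW) (c := c) (fun U hU hU0 => by
    have hle : U.map W.subtype ≤ W := Submodule.map_subtype_le W U
    have hUk : Nat.find hex ≤ finrank F (U.map W.subtype) := by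
      refine Nat.find_le ⟨U.map W.subtype, ?_, ?_, rfl⟩
      · rintro _ ⟨u, hu, rfl⟩
        exact ⟨X.restrict hW u, hU u hu, rfl⟩
      · exact fun hb => hU0 (Submodule.map_injective_of_injective W.injective_subtype (hb.trans (Submodule.map_bot _).symm))
    rw [Submodule.finrank_map_subtype_eq] at hUk
    refine Submodule.eq_top_of_finrank_eq (le_antisymm (Submodule.finrank_le U) ?_)
    omega)
  let E := Submodule.prodEquivOfIsCompl W W' hc'
  refine ⟨(E : (W × W') →ₗ[F] V) ∘ₗ (Z.prodMap LinearMap.id) ∘ₗ (E.symm : V →ₗ[F] (W × W')), ?_, ?_⟩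
  · refine LinearMap.ext fun x => ?_
    obtain ⟨⟨u, v⟩, rfl⟩ := E.surjective x
    have hXE : X (E (u, v)) = E (X.restrict hW u, ⟨X v, hW' v.2⟩) := by
      simp [E, map_add]
    rw [Module.End.mul_apply, Module.End.mul_apply, hXE]
    simp only [LinearMap.comp_apply, LinearEquiv.coe_coe, LinearEquiv.symm_apply_apply,
      LinearMap.prodMap_apply, LinearMap.id_apply]
    have := LinearMap.congr_fun hZ.eq u
    rw [Module.End.mul_apply, Module.End.mul_apply] at this
    rw [this]
    simp [E, map_add]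
  · rw [LinearMap.det_conj, LinearMap.det_prodMap, hdet, LinearMap.det_id, mul_one]

/-- Elements of order prime to `p` are semisimple. -/
theorem isSemisimple_of_pow (p : ℕ) [CharP F p] (X : Module.End F V) {k : ℕ}
    (hk : ¬ p ∣ k) (hX : X ^ k = 1) : X.IsSemisimple := by
  refine Module.End.isSemisimple_of_squarefree_aeval_eq_zero
    (p := Polynomial.X ^ k - Polynomial.C (1 : F)) ?_ (by simp [hX])
  exact (Polynomial.separable_X_pow_sub_C (1 : F) (by rwa [Ne, CharP.cast_eq_zero_iff F p])
    one_ne_zero).squarefree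

end CfsgLib.Classical.SemisimpleDet
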