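import Mathlib
import Cfsg.Agent.Lib.Classical.SemisimpleDet

/-!
Semisimple endomorphisms are determined up to conjugacy by their characteristic polynomials, and
over a finite field every characteristic polynomial is that of a semisimple element.
-/

set_option autoImplicit false
set_option linter.style.haveILetI false

namespace CfsgLib.Classical.SemisimpleClasses

open Module Polynomial

variable {F : Type*} [Field F]

/-- A root of the characteristic polynomial of a matrix is a root of every annihilating polynomial. -/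
theorem dvd_of_dvd_charpoly {ι : Type*} [Fintype ι] [DecidableEq ι] (A : Matrix ι ι F) {f g : F[X]}
    [hf : Fact (Irreducible f)] (hdvd : f ∣ A.charpoly) (hg : aeval A g = 0) : f ∣ g := by
  let φ : F →+* AdjoinRoot f := AdjoinRoot.of f
  have hroot : IsRoot (A.map φ).charpoly (AdjoinRoot.root f) := by
    rw [Matrix.charpoly_map, IsRoot, eval_map]
    obtain ⟨c, hc⟩ := hdvd
    rw [hc, eval₂_mul, AdjoinRoot.eval₂_root, zero_mul]
  have hspec := Matrix.mem_spectrum_iff_isRoot_charpoly.mpr hroot
  have h0 : aeval (A.map φ) (g.map φ) = 0 := by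
    show aeval (A.map φ) (g.map (algebraMap F (AdjoinRoot f))) = 0
    rw [aeval_map_algebraMap]
    exact (aeval_algHom_apply (AlgHom.mapMatrix (Algebra.ofId F (AdjoinRoot f))) A g).trans
      (by rw [hg, map_zero])
  have h2 := spectrum.subset_polynomial_aeval (A.map φ) (g.map φ) ⟨_, hspec, rfl⟩
  rw [h0] at h2
  rcases isEmpty_or_nonempty ι with hι | hι
  · rw [spectrum.of_subsingleton] at h2; exact absurd h2 (Set.notMem_empty _)
  rw [spectrum.zero_eq, Set.mem_singleton_iff] at h2
  rw [← AdjoinRoot.mk_eq_zero, ← AdjoinRoot.aeval_eq, aeval_def]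
  simpa [eval_map] using h2

variable {V : Type*} [AddCommGroup V] [Module F V] [FiniteDimensional F V]

theorem finrank_pos_of_irreducible {f : F[X]} [hf : Fact (Irreducible f)] :
    0 < finrank F (AdjoinRoot f) := by
  rw [(AdjoinRoot.powerBasis hf.out.ne_zero).finrank, AdjoinRoot.powerBasis_dim]
  exact hf.out.natDegree_pos

/-- Splitting off a cyclic irreducible summand. -/
theorem exists_split (T : Module.End F V) (hT : T.IsSemisimple) {f : F[X]} [hf : Fact (Irreducible f)]
    (hdvd : f ∣ T.charpoly) :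
    ∃ U : Submodule F V, ∃ hU : ∀ x ∈ U, T x ∈ U, ∃ e : (AdjoinRoot f × U) ≃ₗ[F] V,
      Module.End.IsSemisimple (T.restrict hU : Module.End F U) ∧
      ∀ z : AdjoinRoot f × U, e (AdjoinRoot.root f * z.1, T.restrict hU z.2) = T (e z) := by
  classical
  let b := Module.finBasis F V
  set A := LinearMap.toMatrix b b T with hA
  have hAc : f ∣ A.charpoly := by rwa [LinearMap.charpoly_toMatrix]
  obtain ⟨g, hg⟩ := dvd_of_dvd_charpoly A hAc (minpoly.aeval F A)
  have hmin : minpoly F A = minpoly F T := minpoly.algEquiv_eq (LinearMap.toMatrixAlgEquiv b) T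
  rw [hmin] at hg
  have hg0 : aeval T g ≠ 0 := by
    intro h0
    have hgz : g ≠ 0 := fun h => minpoly.ne_zero (IsIntegral.of_finite F T) (by rw [hg, h, mul_zero])
    have h1 := natDegree_le_of_dvd (minpoly.dvd F T h0) hgz
    rw [hg, natDegree_mul hf.out.ne_zero hgz] at h1
    have := hf.out.natDegree_pos
    omega
  obtain ⟨w, hw⟩ : ∃ w, aeval T g w ≠ 0 := by
    by_contra h
    push Not at h
    exact hg0 (LinearMap.ext h)
  set v := aeval T g w
  have hv : aeval T f v = 0 := by
    show aeval T f (aeval T g w) = 0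
    rw [← Module.End.mul_apply, ← map_mul, ← hg, minpoly.aeval]
    rfl
  set Kf := LinearMap.ker (aeval T f) with hKf
  have hcomm : Commute T (aeval T f) := by
    have h := (Commute.all Polynomial.X f).map (aeval (R := F) T)
    simpa using h
  have hKinv : ∀ x ∈ Kf, T x ∈ Kf := by
    intro x hx
    rw [LinearMap.mem_ker] at hx ⊢
    rw [← Module.End.mul_apply, ← hcomm.eq, Module.End.mul_apply, hx, map_zero]
  have hzero : aeval (T.restrict hKinv) f = 0 := by
    refine LinearMap.ext fun x => Subtype.ext ?_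
    have key : ∀ p : F[X], ((aeval (T.restrict hKinv) p x : Kf) : V) = aeval T p x := by
      intro p
      induction p using Polynomial.induction_on' with
      | add a c ha hc => simp [map_add, ha, hc]
      | monomial k a =>
        simp only [aeval_monomial, Module.End.mul_apply, Module.algebraMap_end_apply,
          Submodule.coe_smul_of_tower]
        congr 1
        induction k with
        | zero => simp
        | succ k ih =>
          rw [pow_succ', pow_succ', Module.End.mul_apply, Module.End.mul_apply, LinearMap.coe_restrict_apply, ih]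
    rw [key]
    exact x.2
  let Φ : AdjoinRoot f →ₐ[F] Module.End F Kf :=
    Ideal.Quotient.liftₐ (Ideal.span {f}) (aeval (T.restrict hKinv)) fun p hp => by
      obtain ⟨q, rfl⟩ := Ideal.mem_span_singleton'.1 hp
      rw [map_mul, hzero, mul_zero]
  have hΦ : Φ (AdjoinRoot.root f) = T.restrict hKinv := aeval_X (R := F) (T.restrict hKinv)
  let ψ : AdjoinRoot f →ₗ[F] V :=
    Kf.subtype ∘ₗ (LinearMap.applyₗ (⟨v, hv⟩ : Kf)) ∘ₗ Φ.toLinearMap
  have hψT : ∀ a, ψ (AdjoinRoot.root f * a) = T (ψ a) := by
    intro a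
    show ((Φ (AdjoinRoot.root f * a) ⟨v, hv⟩ : Kf) : V) = T ((Φ a ⟨v, hv⟩ : Kf) : V)
    rw [map_mul, hΦ]
    rfl
  have hψ : Function.Injective ψ := by
    refine (injective_iff_map_eq_zero ψ).2 fun a ha => ?_
    by_contra h0
    refine hw ?_
    have h1 : Φ a⁻¹ (Φ a ⟨v, hv⟩) = (⟨v, hv⟩ : Kf) := by
      rw [← Module.End.mul_apply, ← map_mul, inv_mul_cancel₀ h0, map_one]; rfl
    have h2 : Φ a ⟨v, hv⟩ = 0 := Subtype.ext ha
    rw [h2, map_zero] at h1
    exact (congrArg Subtype.val h1).symm
  obtain ⟨U, hU, hc⟩ := Module.End.isSemisimple_iff.1 hT (LinearMap.range ψ) (by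
    rintro _ ⟨a, rfl⟩
    exact ⟨_, hψT a⟩)
  refine ⟨U, hU, ((LinearEquiv.ofInjective ψ hψ).prodCongr (LinearEquiv.refl F U)).trans
    (Submodule.prodEquivOfIsCompl _ U hc), Module.End.IsSemisimple.restrict hU hT, ?_⟩
  rintro ⟨a, u⟩
  simp [hψT a]
  rfl

theorem charpoly_eq_of_split (T : Module.End F V) {f : F[X]} [hf : Fact (Irreducible f)]
    [Module.Finite F (AdjoinRoot f)] {U : Submodule F V} {hU : ∀ x ∈ U, T x ∈ U}
    (e : (AdjoinRoot f × U) ≃ₗ[F] V)
    (he : ∀ z : AdjoinRoot f × U, e (AdjoinRoot.root f * z.1, T.restrict hU z.2) = T (e z)) :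
    T.charpoly = (Algebra.lmul F (AdjoinRoot f) (AdjoinRoot.root f)).charpoly *
      (T.restrict hU).charpoly := by
  rw [← LinearMap.charpoly_prodMap, ← LinearEquiv.charpoly_conj e]
  congr 1
  refine LinearMap.ext fun x => ?_
  obtain ⟨z, rfl⟩ := e.surjective x
  simp [LinearEquiv.conj_apply, ← he z]

universe u v w

/-- Semisimple endomorphisms with the same characteristic polynomial are conjugate. -/
theorem exists_conj_aux {F : Type u} [Field F] (n : ℕ) : ∀ (V : Type v) (W : Type w) [AddCommGroup V]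
    [Module F V] [FiniteDimensional F V] [AddCommGroup W] [Module F W] [FiniteDimensional F W]
    (S : Module.End F V) (T : Module.End F W), finrank F V = n → S.IsSemisimple → T.IsSemisimple →
    S.charpoly = T.charpoly → ∃ e : V ≃ₗ[F] W, ∀ x, e (S x) = T (e x) := by
  induction n using Nat.strong_induction_on with
  | _ n ih =>
  intro V W _ _ _ _ _ _ S T hn hS hT hc
  have hWn : finrank F W = n := by rw [← hn, ← S.charpoly_natDegree, hc, T.charpoly_natDegree]
  rcases Nat.eq_zero_or_pos n with rfl | hpos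
  · haveI : Subsingleton V := Module.finrank_zero_iff.mp hn
    haveI : Subsingleton W := Module.finrank_zero_iff.mp hWn
    exact ⟨LinearEquiv.ofSubsingleton V W, fun x => Subsingleton.elim _ _⟩
  obtain ⟨f, hf, hfd⟩ := exists_irreducible_of_natDegree_pos
    (f := S.charpoly) (by rw [S.charpoly_natDegree, hn]; exact hpos)
  haveI := Fact.mk hf
  haveI : Module.Finite F (AdjoinRoot f) := (AdjoinRoot.powerBasis hf.ne_zero).finite
  obtain ⟨U₁, h₁, e₁, hs₁, he₁⟩ := exists_split S hS hfd
  obtain ⟨U₂, h₂, e₂, hs₂, he₂⟩ := exists_split T hT (hc ▸ hfd)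
  have hlt : finrank F U₁ < n := by
    rw [← hn, ← e₁.finrank_eq, Module.finrank_prod]
    exact Nat.lt_add_of_pos_left finrank_pos_of_irreducible
  have hc' : (S.restrict h₁).charpoly = (T.restrict h₂).charpoly := by
    rw [charpoly_eq_of_split S e₁ he₁, charpoly_eq_of_split T e₂ he₂] at hc
    exact mul_left_cancel₀ (LinearMap.charpoly_monic _).ne_zero hc
  obtain ⟨e, he⟩ := ih _ hlt U₁ U₂ (S.restrict h₁) (T.restrict h₂) rfl hs₁ hs₂ hc'
  refine ⟨e₁.symm.trans (((LinearEquiv.refl F (AdjoinRoot f)).prodCongr e).trans e₂), fun x => ?_⟩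
  obtain ⟨⟨a, u⟩, rfl⟩ := e₁.surjective x
  rw [← he₁ (a, u)]
  simp only [LinearEquiv.trans_apply, LinearEquiv.symm_apply_apply]
  rw [← he₂]
  simp [he u]

variable [Fintype F] {p : ℕ} [hp : Fact p.Prime] [CharP F p] {n : ℕ}

theorem isSemisimple_toLin' (x : GL (Fin n) F) (hx : (orderOf x).Coprime p) :
    Module.End.IsSemisimple ((x : Matrix (Fin n) (Fin n) F).toLin') := by
  refine CfsgLib.Classical.SemisimpleDet.isSemisimple_of_pow p _ (k := orderOf x)
    (hp.out.coprime_iff_not_dvd.mp hx.symm) ?_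
  rw [← Matrix.toLin'_pow, ← Units.val_pow_eq_pow_val, pow_orderOf_eq_one, Units.val_one, Matrix.toLin'_one]
  rfl

/-- Semisimple elements of `GL` with equal characteristic polynomials are conjugate. -/
theorem isConj_of_charpoly_eq (g h : GL (Fin n) F) (hg : (orderOf g).Coprime p)
    (hh : (orderOf h).Coprime p)
    (hc : (g : Matrix (Fin n) (Fin n) F).charpoly = (h : Matrix (Fin n) (Fin n) F).charpoly) :
    IsConj g h := by
  obtain ⟨e, he⟩ := exists_conj_aux n (Fin n → F) (Fin n → F) _ _ (by simp)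
    (isSemisimple_toLin' g hg) (isSemisimple_toLin' h hh)
    (by rw [Matrix.charpoly_toLin', Matrix.charpoly_toLin', hc])
  let E := (LinearMap.GeneralLinearGroup.ofLinearEquiv e)
  let c : GL (Fin n) F := (Matrix.GeneralLinearGroup.toLin (n := Fin n) (R := F)).symm E
  have hcl : Matrix.toLin' (c : Matrix (Fin n) (Fin n) F) = e.toLinearMap := by
    have := congrArg Units.val
      ((Matrix.GeneralLinearGroup.toLin (n := Fin n) (R := F)).apply_symm_apply E)
    exact this
  refine isConj_iff.mpr ⟨c, mul_inv_eq_iff_eq_mul.mpr (Units.ext (Matrix.toLin'.injective ?_))⟩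
  rw [Units.val_mul, Units.val_mul, Matrix.toLin'_mul, Matrix.toLin'_mul, hcl]
  exact LinearMap.ext he

/-- Every monic polynomial of degree `n` with nonzero constant term is the characteristic polynomial
of a semisimple element. -/
theorem exists_semisimple (f : F[X]) (hm : f.Monic) (hd : f.natDegree = n) (h0 : f.coeff 0 ≠ 0) :
    ∃ g : GL (Fin n) F, (orderOf g).Coprime p ∧ (g : Matrix (Fin n) (Fin n) F).charpoly = f := by
  classical
  let pb := AdjoinRoot.powerBasis' hm
  have hdim : pb.dim = n := by rw [AdjoinRoot.powerBasis'_dim, hd]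
  set M := (Algebra.leftMulMatrix pb.basis pb.gen).reindex (finCongr hdim) (finCongr hdim) with hM
  have hMc : M.charpoly = f := by
    rw [hM, Matrix.charpoly_reindex, charpoly_leftMulMatrix]
    refine (AdjoinRoot.minpoly_root hm.ne_zero).trans ?_
    rw [hm.leadingCoeff, inv_one, map_one, mul_one]
  have hMdet : M.det ≠ 0 := by
    intro h
    apply h0
    have := M.det_eq_sign_charpoly_coeff
    rw [h, hMc] at this
    exact (mul_eq_zero.mp this.symm).resolve_left (pow_ne_zero _ (by norm_num))
  set g := Matrix.GeneralLinearGroup.mkOfDetNeZero M hMdet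
  obtain ⟨a, m, hpm, ham⟩ := Nat.exists_eq_pow_mul_and_not_dvd (orderOf_pos g).ne' p hp.out.ne_one
  obtain ⟨k, hk⟩ := FiniteField.card F p
  have hq : ∀ j : ℕ, (((g ^ (Fintype.card F) ^ j : GL (Fin n) F)) : Matrix (Fin n) (Fin n) F).charpoly = f := by
    intro j
    induction j with
    | zero => rw [pow_zero, pow_one]; exact hMc
    | succ j ih =>
      rw [pow_succ, pow_mul, Units.val_pow_eq_pow_val, FiniteField.Matrix.charpoly_pow_card, ih]
  refine ⟨g ^ (Fintype.card F) ^ a, ?_, hq a⟩
  have hpa : p ^ a ∣ Fintype.card F ^ a := pow_dvd_pow_of_dvd (hk.2 ▸ dvd_pow_self p k.ne_zero) a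
  obtain ⟨c, hc⟩ := hpa
  have hdvd : orderOf (g ^ Fintype.card F ^ a) ∣ m := by
    refine orderOf_dvd_of_pow_eq_one ?_
    rw [← pow_mul, hc, mul_right_comm, ← ham, pow_mul, pow_orderOf_eq_one, one_pow]
  exact Nat.Coprime.coprime_dvd_left hdvd ((hp.out.coprime_iff_not_dvd.mpr hpm).symm)

end CfsgLib.Classical.SemisimpleClasses
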