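import Mathlib
import Cfsg.Agent.Lib.Classical.SemisimpleClasses

/-!
Counting semisimple classes of the general and special linear groups.
-/

set_option autoImplicit false
set_option linter.style.haveILetI false

namespace CfsgLib.Classical.SemisimpleCount

open Polynomial CfsgLib.Classical.SemisimpleClasses
open scoped MatrixGroups

variable {F : Type*} [Field F]

/-- Monic polynomials of degree `m + 1` with constant term in a set, as coefficient vectors. -/
theorem card_monic (m : ℕ) (P : F → Prop) :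
    Nat.card {f : F[X] // f.Monic ∧ f.natDegree = m + 1 ∧ P (f.coeff 0)} =
      Nat.card {a : F // P a} * Nat.card (Fin m → F) := by
  classical
  let e₀ : {f : F[X] // f.Monic ∧ f.natDegree = m + 1} ≃ (Fin (m + 1) → F) :=
    (monicEquivDegreeLT (m + 1)).trans (degreeLTEquiv F (m + 1)).toEquiv
  have he : ∀ f, e₀ f 0 = f.1.coeff 0 := by
    intro f
    show f.1.eraseLead.coeff 0 = f.1.coeff 0
    rw [eraseLead_coeff_of_ne]
    rw [f.2.2]; omega
  rw [← Nat.card_prod]
  refine Nat.card_congr (((Equiv.subtypeEquivRight fun f => and_assoc.symm).trans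
    ((Equiv.subtypeSubtypeEquivSubtypeInter _ (fun f : F[X] => P (f.coeff 0))).symm)).trans
    ((e₀.subtypeEquiv (q := fun c => P (c 0)) fun f => by rw [he]).trans ?_))
  exact
    { toFun := fun c => (⟨c.1 0, c.2⟩, Fin.tail c.1)
      invFun := fun z => ⟨Fin.cons z.1.1 z.2, by simpa using z.1.2⟩
      left_inv := fun c => Subtype.ext (Fin.cons_self_tail c.1)
      right_inv := fun z => by
        apply Prod.ext
        · exact Subtype.ext (Fin.cons_zero (α := fun _ => F) z.1.1 z.2)
        · exact Fin.tail_cons (α := fun _ => F) z.1.1 z.2 }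

variable [Fintype F] {p : ℕ} [hp : Fact p.Prime] [CharP F p]

/-- The characteristic polynomial of a class. -/
noncomputable def classCharpoly {n : ℕ} : ConjClasses (GL (Fin n) F) → F[X] :=
  Quotient.lift (fun g : GL (Fin n) F => (g : Matrix (Fin n) (Fin n) F).charpoly) fun g h hgh => by
    obtain ⟨c, hc⟩ := isConj_iff.mp (hgh : IsConj g h)
    rw [← hc, Units.val_mul, Units.val_mul]
    rw [← Matrix.charpoly_units_conj c (g : Matrix (Fin n) (Fin n) F), Matrix.coe_units_inv]

theorem charpoly_coeff_zero_ne {n : ℕ} (g : GL (Fin n) F) :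
    (g : Matrix (Fin n) (Fin n) F).charpoly.coeff 0 ≠ 0 := by
  intro h
  have := Matrix.det_eq_sign_charpoly_coeff (g : Matrix (Fin n) (Fin n) F)
  rw [h, mul_zero] at this
  exact g.det_ne_zero this

theorem card_gl {q : ℕ} (hq : Fintype.card F = q) (n : ℕ) (hn : 1 ≤ n) :
    Nat.card {c : ConjClasses (GL (Fin n) F) // ∃ g : GL (Fin n) F, ConjClasses.mk g = c ∧
      (orderOf g).Coprime p} = (q - 1) * q ^ (n - 1) := by
  classical
  obtain ⟨m, rfl⟩ : ∃ m, n = m + 1 := ⟨n - 1, by omega⟩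
  let φ : {c : ConjClasses (GL (Fin (m + 1)) F) // ∃ g : GL (Fin (m + 1)) F, ConjClasses.mk g = c ∧
      (orderOf g).Coprime p} → {f : F[X] // f.Monic ∧ f.natDegree = m + 1 ∧ f.coeff 0 ≠ 0} := fun c =>
    ⟨classCharpoly c.1, by
      obtain ⟨g, hg, -⟩ := c.2
      rw [← hg]
      exact ⟨Matrix.charpoly_monic _, by rw [show classCharpoly (ConjClasses.mk g) =
        (g : Matrix (Fin (m + 1)) (Fin (m + 1)) F).charpoly from rfl, Matrix.charpoly_natDegree_eq_dim,
        Fintype.card_fin], charpoly_coeff_zero_ne g⟩⟩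
  have hφ : Function.Bijective φ := by
    constructor
    · rintro ⟨c, g, rfl, hg⟩ ⟨d, h, rfl, hh⟩ e
      apply Subtype.ext
      exact ConjClasses.mk_eq_mk_iff_isConj.mpr (isConj_of_charpoly_eq g h hg hh (congrArg Subtype.val e))
    · rintro ⟨f, hm, hd, h0⟩
      obtain ⟨g, hg, hgc⟩ := exists_semisimple (p := p) f hm hd h0
      exact ⟨⟨ConjClasses.mk g, g, rfl, hg⟩, Subtype.ext hgc⟩
  rw [Nat.card_congr (Equiv.ofBijective φ hφ), card_monic m (fun a => a ≠ 0), Nat.card_fun,
    Nat.card_eq_fintype_card, Fintype.card_subtype_compl, Fintype.card_subtype_eq,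
    Nat.card_eq_fintype_card, hq, Nat.card_eq_fintype_card, Fintype.card_fin]
  rfl

theorem sl_conj_of_charpoly_eq {n : ℕ} (g h : Matrix.SpecialLinearGroup (Fin n) F)
    (hg : (orderOf g).Coprime p) (hh : (orderOf h).Coprime p)
    (hc : (g : Matrix (Fin n) (Fin n) F).charpoly = (h : Matrix (Fin n) (Fin n) F).charpoly) :
    IsConj g h := by
  rcases Nat.eq_zero_or_pos n with rfl | hn
  · exact (Subtype.ext (Subsingleton.elim _ _) : g = h) ▸ IsConj.refl g
  have : Nontrivial (Fin n → F) := by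
    have : Nonempty (Fin n) := Fin.pos_iff_nonempty.1 hn
    infer_instance
  have hinj := Matrix.SpecialLinearGroup.toGL_injective (n := Fin n) (R := F)
  have hg' : (orderOf (Matrix.SpecialLinearGroup.toGL g)).Coprime p := by
    rwa [orderOf_injective _ hinj]
  have hh' : (orderOf (Matrix.SpecialLinearGroup.toGL h)).Coprime p := by
    rwa [orderOf_injective _ hinj]
  obtain ⟨c, hcc⟩ := isConj_iff.mp (isConj_of_charpoly_eq _ _ hg' hh' hc)
  obtain ⟨Z, hZ, hdet⟩ := CfsgLib.Classical.SemisimpleDet.exists_commute_det _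
    (isSemisimple_toLin' _ hg') ((c : Matrix (Fin n) (Fin n) F).det)⁻¹
  rw [← LinearMap.det_toMatrix'] at hdet
  let w : Matrix.SpecialLinearGroup (Fin n) F :=
    ⟨(c : Matrix (Fin n) (Fin n) F) * LinearMap.toMatrix' Z, by
      rw [Matrix.det_mul, hdet, mul_inv_cancel₀ c.det_ne_zero]⟩
  refine isConj_iff.mpr ⟨w, mul_inv_eq_iff_eq_mul.mpr (Subtype.ext ?_)⟩
  show (c : Matrix (Fin n) (Fin n) F) * LinearMap.toMatrix' Z * g.1 =
    h.1 * ((c : Matrix (Fin n) (Fin n) F) * LinearMap.toMatrix' Z)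
  have hzx : LinearMap.toMatrix' Z * g.1 = g.1 * LinearMap.toMatrix' Z := by
    apply Matrix.toLin'.injective
    rw [Matrix.toLin'_mul, Matrix.toLin'_mul, Matrix.toLin'_toMatrix']
    exact hZ.eq
  have hcm : (c : Matrix (Fin n) (Fin n) F) * g.1 = h.1 * (c : Matrix (Fin n) (Fin n) F) :=
    congrArg Units.val (mul_inv_eq_iff_eq_mul.mp hcc)
  rw [mul_assoc, hzx, ← mul_assoc, hcm, mul_assoc]

theorem card_sl {q : ℕ} (hq : Fintype.card F = q) (n : ℕ) (hn : 1 ≤ n) :
    Nat.card {c : ConjClasses (Matrix.SpecialLinearGroup (Fin n) F) //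
      ∃ g : Matrix.SpecialLinearGroup (Fin n) F, ConjClasses.mk g = c ∧ (orderOf g).Coprime p} =
      q ^ (n - 1) := by
  classical
  obtain ⟨m, rfl⟩ : ∃ m, n = m + 1 := ⟨n - 1, by omega⟩
  have hinj := Matrix.SpecialLinearGroup.toGL_injective (n := Fin (m + 1)) (R := F)
  have hc0 : ∀ g : Matrix.SpecialLinearGroup (Fin (m + 1)) F,
      g.1.charpoly.coeff 0 = (-1) ^ (m + 1) := by
    intro g
    have h := Matrix.det_eq_sign_charpoly_coeff g.1
    rw [g.2, Fintype.card_fin] at h
    calc g.1.charpoly.coeff 0 = ((-1 : F) ^ (m + 1) * (-1) ^ (m + 1)) * g.1.charpoly.coeff 0 := by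
          rw [← mul_pow]; simp
      _ = _ := by rw [mul_assoc, ← h, mul_one]
  let φ : {c : ConjClasses (Matrix.SpecialLinearGroup (Fin (m + 1)) F) //
      ∃ g : Matrix.SpecialLinearGroup (Fin (m + 1)) F, ConjClasses.mk g = c ∧ (orderOf g).Coprime p} →
      {f : F[X] // f.Monic ∧ f.natDegree = m + 1 ∧ f.coeff 0 = (-1) ^ (m + 1)} := fun c =>
    ⟨classCharpoly (ConjClasses.map Matrix.SpecialLinearGroup.toGL c.1), by
      obtain ⟨g, hg, -⟩ := c.2
      rw [← hg]
      exact ⟨Matrix.charpoly_monic _, by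
        rw [show classCharpoly (ConjClasses.map Matrix.SpecialLinearGroup.toGL (ConjClasses.mk g)) =
        g.1.charpoly from rfl, Matrix.charpoly_natDegree_eq_dim, Fintype.card_fin], hc0 g⟩⟩
  have hφ : Function.Bijective φ := by
    constructor
    · rintro ⟨c, g, rfl, hg⟩ ⟨d, h, rfl, hh⟩ e
      apply Subtype.ext
      exact ConjClasses.mk_eq_mk_iff_isConj.mpr (sl_conj_of_charpoly_eq g h hg hh (congrArg Subtype.val e))
    · rintro ⟨f, hm, hd, h0⟩
      obtain ⟨g, hg, hgc⟩ := exists_semisimple (p := p) f hm hd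
        (by rw [h0]; exact pow_ne_zero _ (neg_ne_zero.mpr one_ne_zero))
      have hdet : (g : Matrix (Fin (m + 1)) (Fin (m + 1)) F).det = 1 := by
        rw [Matrix.det_eq_sign_charpoly_coeff, hgc, h0, Fintype.card_fin, ← mul_pow]; simp
      let g' : Matrix.SpecialLinearGroup (Fin (m + 1)) F := ⟨g, hdet⟩
      have e : Matrix.SpecialLinearGroup.toGL g' = g := Units.ext rfl
      refine ⟨⟨ConjClasses.mk g', g', rfl, ?_⟩, Subtype.ext hgc⟩
      rwa [← orderOf_injective _ hinj g', e]
  rw [Nat.card_congr (Equiv.ofBijective φ hφ), card_monic m (fun a => a = (-1) ^ (m + 1)), Nat.card_fun,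
    Nat.card_unique, one_mul, Nat.card_eq_fintype_card, hq, Nat.card_eq_fintype_card, Fintype.card_fin]
  rfl

end CfsgLib.Classical.SemisimpleCount
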