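import Cfsg.Agent.Lib.ClassicalAut.UnitarySpace
import Cfsg.Agent.Lib.ClassicalAut.UnitaryTwist
import Cfsg.Agent.Lib.FormRep.Unitary
import Cfsg.Prelude.Def_ClassicalGeometry

set_option autoImplicit false

/-!
Counting in Hermitian spaces and the orders of `GU_n(q)` and `SU_n(q)`.
-/

namespace CfsgLib.Classical.Herm

open Matrix Cfsg
open CfsgLib.ClassicalAut (Unitary.Conj Unitary.exists_conj Unitary.normOne Unitary.mem_normOne Unitary.card_normOne Unitary.herm_apply)

variable {F : Type*} [Field F] [Finite F] {q : ℕ}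

theorem exists_conj_of_card [Fintype F] (hF : Fintype.card F = q ^ 2) :
    Nonempty (Unitary.Conj F q) := by
  obtain ⟨p, _⟩ := CharP.exists F
  obtain ⟨k, hp, hk⟩ := FiniteField.card F p
  have := Fact.mk hp
  obtain ⟨f, -, hf⟩ := (Nat.dvd_prime_pow hp).1 (show q ∣ p ^ (k : ℕ) from hk ▸ hF ▸ dvd_pow_self q two_ne_zero)
  exact Unitary.exists_conj hf (by rw [Nat.card_eq_fintype_card, hF])

variable (K : Unitary.Conj F q)

/-- Number of vectors of `F^j` of norm `c`. -/
noncomputable def count (j : ℕ) (c : F) : ℕ := Nat.card {v : Fin j → F // ∑ i, v i * K.bar (v i) = c}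

theorem bar_norm (a : F) : K.bar (a * K.bar a) = a * K.bar a := by rw [map_mul, K.bar_bar, mul_comm]

theorem count_smul (j : ℕ) {c : F} (hc : K.bar c = c) (hc0 : c ≠ 0) :
    count K j c = count K j 1 := by
  obtain ⟨e, he⟩ := K.exists_norm c hc
  have he0 : e ≠ 0 := fun h => hc0 (by rw [← he, h, zero_mul])
  have he0' : K.bar e ≠ 0 := (map_ne_zero K.bar).2 he0
  have hiff : ∀ v : Fin j → F, ∑ i, v i * K.bar (v i) = c ↔ ∑ i, (e⁻¹ * v i) * K.bar (e⁻¹ * v i) = 1 := by
    intro v
    have : ∑ i, (e⁻¹ * v i) * K.bar (e⁻¹ * v i) = c⁻¹ * ∑ i, v i * K.bar (v i) := by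
      rw [Finset.mul_sum]
      refine Finset.sum_congr rfl fun i _ => ?_
      rw [← he, map_mul, map_inv₀]
      field_simp
    rw [this, inv_mul_eq_one₀ hc0, eq_comm]
  exact Nat.card_congr
    (((Equiv.piCongrRight fun _ : Fin j => Equiv.mulLeft₀ e⁻¹ (inv_ne_zero he0))).subtypeEquiv hiff)

theorem count_split (j : ℕ) (c : F) :
    count K (j + 1) c = Nat.card (Σ a : F, {v : Fin j → F // ∑ i, v i * K.bar (v i) = c - a * K.bar a}) := by
  refine Nat.card_congr
    { toFun := fun v => ⟨v.1 0, fun i => v.1 i.succ, by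
        rw [eq_sub_iff_add_eq']
        exact ((Fin.sum_univ_succ _).symm.trans v.2)⟩
      invFun := fun x => ⟨Fin.cons x.1 x.2.1, by
        rw [Fin.sum_univ_succ]
        simp only [Fin.cons_zero, Fin.cons_succ]
        rw [x.2.2]; ring⟩
      left_inv := fun v => Subtype.ext (Fin.cons_self_tail v.1)
      right_inv := fun x => Sigma.subtype_ext (by simp) (funext fun i => by simp) }

theorem card_norm_one : Nat.card {a : F // a * K.bar a = 1} = q + 1 := by
  rw [← Unitary.card_normOne K]
  exact Nat.card_congr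
    { toFun := fun a => ⟨Units.mk0 a.1 (fun h => one_ne_zero (α := F) (by rw [← a.2, h, zero_mul])),
        (Unitary.mem_normOne K).2 a.2⟩
      invFun := fun u => ⟨((u : Fˣ) : F), (Unitary.mem_normOne K).1 u.2⟩
      left_inv := fun a => rfl
      right_inv := fun u => Subtype.ext (Units.ext rfl) }

theorem count_zero_one : count K 0 1 = 0 := by
  rw [count, Nat.card_eq_zero]
  exact Or.inl ⟨fun v => zero_ne_one (α := F) (by simpa using v.2)⟩

theorem count_zero_zero : count K 0 0 = 1 := by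
  rw [count, Nat.card_eq_one_iff_unique]
  exact ⟨⟨fun a b => Subtype.ext (Subsingleton.elim _ _)⟩, ⟨⟨0, by simp⟩⟩⟩

theorem count_rec (j : ℕ) : (count K (j + 1) 1 : ℤ) =
    (q + 1) * count K j 0 + ((q : ℤ) ^ 2 - q - 1) * count K j 1 := by
  classical
  cases nonempty_fintype F
  rw [count_split, Nat.card_sigma, ← Finset.sum_filter_add_sum_filter_not Finset.univ
    (fun a : F => a * K.bar a = 1)]
  have hA : ∀ a ∈ (Finset.univ.filter fun a : F => a * K.bar a = 1),
      Nat.card {v : Fin j → F // ∑ i, v i * K.bar (v i) = 1 - a * K.bar a} = count K j 0 := fun a ha => by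
    rw [(Finset.mem_filter.1 ha).2, sub_self]; rfl
  have hB : ∀ a ∈ (Finset.univ.filter fun a : F => ¬ a * K.bar a = 1),
      Nat.card {v : Fin j → F // ∑ i, v i * K.bar (v i) = 1 - a * K.bar a} = count K j 1 := fun a ha => by
    refine count_smul K j ?_ (sub_ne_zero.2 (Ne.symm (Finset.mem_filter.1 ha).2))
    rw [map_sub, map_one, bar_norm]
  rw [Finset.sum_congr rfl hA, Finset.sum_congr rfl hB]
  have h1 : (Finset.univ.filter fun a : F => a * K.bar a = 1).card = q + 1 := by
    rw [← card_norm_one K, Nat.card_eq_fintype_card, Fintype.card_subtype]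
  have h2 := Finset.card_filter_add_card_filter_not (s := (Finset.univ : Finset F)) (fun a : F => a * K.bar a = 1)
  rw [h1, Finset.card_univ, ← Nat.card_eq_fintype_card, K.card] at h2
  rw [Finset.sum_const, Finset.sum_const, h1, smul_eq_mul, smul_eq_mul]
  have h3 : ((Finset.univ.filter fun a : F => ¬ a * K.bar a = 1).card : ℤ) = (q : ℤ) ^ 2 - q - 1 := by
    have h4 := congrArg (fun n : ℕ => (n : ℤ)) h2
    push_cast at h4
    linear_combination h4
  push_cast
  rw [h3]

theorem card_fixed : Nat.card {c : F // K.bar c = c ∧ c ≠ 0} = q - 1 := by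
  have h1 := AutPSL.card_fixedUnits (F := F) K.bar
  have h2 := AutPSL.card_fixedField_pow K.orderOf_bar
  rw [K.card] at h2
  rw [Nat.pow_left_injective two_ne_zero h2] at h1
  rw [← h1]
  exact Nat.card_congr
    { toFun := fun a => ⟨Units.mk0 a.1 a.2.2, a.2.1⟩
      invFun := fun u => ⟨((u : Fˣ) : F), u.2, Units.ne_zero _⟩
      left_inv := fun a => rfl
      right_inv := fun u => Subtype.ext (Units.ext rfl) }

theorem count_total (j : ℕ) :
    (count K j 0 : ℤ) + ((q : ℤ) - 1) * count K j 1 = (q : ℤ) ^ (2 * j) := by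
  classical
  cases nonempty_fintype F
  have e : (Fin j → F) ≃ Σ c : F, {v : Fin j → F // ∑ i, v i * K.bar (v i) = c} :=
    (Equiv.sigmaFiberEquiv _).symm
  have h := Nat.card_congr e
  rw [Nat.card_fun, Nat.card_fin, K.card, ← pow_mul, Nat.card_sigma] at h
  rw [← Finset.sum_erase_add _ _ (Finset.mem_univ (0 : F))] at h
  have hz : ∀ c ∈ (Finset.univ.erase (0 : F)),
      Nat.card {v : Fin j → F // ∑ i, v i * K.bar (v i) = c} = if K.bar c = c then count K j 1 else 0 := by
    intro c hc
    split_ifs with hb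
    · exact count_smul K j hb (Finset.mem_erase.1 hc).1
    · rw [Nat.card_eq_zero]
      refine Or.inl ⟨fun v => hb ?_⟩
      rw [← v.2, map_sum]
      exact Finset.sum_congr rfl fun i _ => bar_norm K _
  rw [Finset.sum_congr rfl hz, Finset.sum_ite, Finset.sum_const_zero, add_zero, Finset.sum_const,
    smul_eq_mul] at h
  have hc : ((Finset.univ.erase (0 : F)).filter fun c => K.bar c = c).card = q - 1 := by
    rw [← card_fixed K, Nat.card_eq_fintype_card, Fintype.card_subtype]
    congr 1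
    ext c
    simp [and_comm]
  rw [hc] at h
  have h' := congrArg (fun n : ℕ => (n : ℤ)) h
  push_cast [Nat.cast_sub (show 1 ≤ q from K.two_le.trans' one_le_two)] at h'
  rw [show count K j 0 = Nat.card {v : Fin j → F // ∑ i, v i * K.bar (v i) = 0} from rfl]
  linear_combination -h'

theorem count_one (j : ℕ) :
    (q : ℤ) * count K j 1 = (q : ℤ) ^ j * ((q : ℤ) ^ j - (-1) ^ j) := by
  induction j with
  | zero => rw [count_zero_one]; simp
  | succ j ih =>
    have h1 := count_rec K j
    have h2 := count_total K j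
    rw [h1, pow_succ, pow_succ]
    rw [show (q : ℤ) ^ (2 * j) = (q : ℤ) ^ j * (q : ℤ) ^ j by rw [two_mul, pow_add]] at h2
    linear_combination (q * (q + 1) : ℤ) * h2 + ((q : ℤ) ^ 2 - q - 1 - ((q : ℤ) + 1) * ((q : ℤ) - 1)) * ih

theorem count_one_nat (n : ℕ) : count K n 1 =
    if Even n then q ^ (n - 1) * (q ^ n - 1) else q ^ (n - 1) * (q ^ n + 1) := by
  have hq := K.two_le
  rcases n with _ | j
  · rw [count_zero_one]; simp
  have h := count_one K (j + 1)
  have hpow : 1 ≤ q ^ (j + 1) := Nat.one_le_pow _ _ (by omega)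
  have hs : (q : ℤ) ^ (j + 1) = q * (q : ℤ) ^ j := pow_succ' _ _
  rw [Nat.add_sub_cancel]
  rcases Nat.even_or_odd (j + 1) with he | ho
  · rw [if_pos he]
    rw [he.neg_one_pow] at h
    have : (count K (j + 1) 1 : ℤ) = (q : ℤ) ^ j * ((q : ℤ) ^ (j + 1) - 1) :=
      mul_left_cancel₀ (show (q : ℤ) ≠ 0 by omega) (h.trans (by rw [hs]; ring))
    zify [hpow]
    exact this
  · rw [if_neg (Nat.not_even_iff_odd.2 ho)]
    rw [ho.neg_one_pow] at h
    have : (count K (j + 1) 1 : ℤ) = (q : ℤ) ^ j * ((q : ℤ) ^ (j + 1) + 1) :=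
      mul_left_cancel₀ (show (q : ℤ) ≠ 0 by omega) (h.trans (by rw [hs]; ring))
    exact_mod_cast this

theorem count_zero_nat (n : ℕ) : count K n 0 =
    (if Even n then (q ^ n - 1) * (q ^ (n - 1) + 1) else (q ^ n + 1) * (q ^ (n - 1) - 1)) + 1 := by
  have hq := K.two_le
  rcases n with _ | j
  · rw [count_zero_zero]; simp
  have h := count_one K (j + 1)
  have ht := count_total K (j + 1)
  have hpow : 1 ≤ q ^ (j + 1) := Nat.one_le_pow _ _ (by omega)
  have hpow' : 1 ≤ q ^ j := Nat.one_le_pow _ _ (by omega)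
  have hs : (q : ℤ) ^ (j + 1) = q * (q : ℤ) ^ j := pow_succ' _ _
  have hqq : (q : ℤ) ≠ 0 := by omega
  rw [show (q : ℤ) ^ (2 * (j + 1)) = (q * (q : ℤ) ^ j) * (q * (q : ℤ) ^ j) by ring] at ht
  rw [hs] at h
  rw [Nat.add_sub_cancel]
  rcases Nat.even_or_odd (j + 1) with he | ho
  · rw [if_pos he]
    rw [he.neg_one_pow] at h
    zify [hpow, hpow']
    rw [hs]
    refine mul_left_cancel₀ hqq ?_
    linear_combination (q : ℤ) * ht - ((q : ℤ) - 1) * h
  · rw [if_neg (Nat.not_even_iff_odd.2 ho)]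
    rw [ho.neg_one_pow] at h
    zify [hpow, hpow']
    rw [hs]
    refine mul_left_cancel₀ hqq ?_
    linear_combination (q : ℤ) * ht - ((q : ℤ) - 1) * h

variable {n : ℕ}

local notation "H" => hermForm n F q

theorem h_swap (u v : Fin n → F) : H v u = K.bar (H u v) := by
  rw [Unitary.herm_apply K, Unitary.herm_apply K, map_sum]
  exact Finset.sum_congr rfl fun i _ => by rw [map_mul, K.bar_bar, mul_comm]

/-- The matrix of a quasi-reflection. -/
def quasi (w : Fin n → F) (lam : F) : Matrix (Fin n) (Fin n) F :=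
  1 + lam • vecMulVec w (fun j => K.bar (w j))

theorem quasi_apply (w : Fin n → F) (lam : F) (x : Fin n → F) :
    quasi K w lam *ᵥ x = x + (lam * H x w) • w := by
  rw [quasi, add_mulVec, one_mulVec, smul_mulVec, vecMulVec_mulVec, dotProduct_comm,
    Unitary.herm_apply K]
  congr 1
  ext i
  simp [dotProduct, mul_comm, mul_left_comm]

theorem exists_isometry {w : Fin n → F} {lam : F}
    (hl : lam + K.bar lam + lam * K.bar lam * H w w = 0) :
    ∃ g : GU n F q, ∀ x, ((g : GL (Fin n) F) : Matrix (Fin n) (Fin n) F) *ᵥ x = x + (lam * H x w) • w := by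
  set A := quasi K w lam
  have hadd : ∀ a b c : Fin n → F, H (a + b) c = H a c + H b c ∧ H c (a + b) = H c a + H c b := by
    intro a b c
    constructor
    · simp only [Unitary.herm_apply K, Pi.add_apply, add_mul, Finset.sum_add_distrib]
    · simp only [Unitary.herm_apply K, Pi.add_apply, map_add, mul_add, Finset.sum_add_distrib]
  have hsmul : ∀ (t : F) (a c : Fin n → F), H (t • a) c = t * H a c ∧ H c (t • a) = K.bar t * H c a := by
    intro t a c
    constructor
    · simp only [Unitary.herm_apply K, Pi.smul_apply, smul_eq_mul, Finset.mul_sum, mul_assoc]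
    · simp only [Unitary.herm_apply K, Pi.smul_apply, smul_eq_mul, map_mul, Finset.mul_sum]
      exact Finset.sum_congr rfl fun i _ => by ring
  have hiso : ∀ x y, H (A *ᵥ x) (A *ᵥ y) = H x y := by
    intro x y
    rw [quasi_apply, quasi_apply]
    simp only [(hadd _ _ _).1, (hadd _ _ _).2, (hsmul _ _ _).1, (hsmul _ _ _).2, map_mul]
    rw [h_swap K y w]
    have e1 : H w y = K.bar (H y w) := h_swap K y w
    linear_combination (H x w * K.bar (H y w)) * hl
  have hdet : A.det ≠ 0 := by
    intro h0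
    obtain ⟨v, hv0, hv⟩ := Matrix.exists_mulVec_eq_zero_iff.2 h0
    apply hv0
    funext i
    have h1 := hiso v (Pi.single i 1)
    rw [hv] at h1
    rw [Unitary.herm_apply K, Unitary.herm_apply K] at h1
    simpa [Pi.single_apply, apply_ite K.bar] using h1.symm
  exact ⟨⟨GeneralLinearGroup.mkOfDetNeZero A hdet, hiso⟩, quasi_apply K w lam⟩

/-- The isometries fixing the first `k` coordinate vectors. -/
def fixer (k : ℕ) : Subgroup (GU n F q) where
  carrier := {g | ∀ i : Fin n, (i : ℕ) < k →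
    ((g : GL (Fin n) F) : Matrix (Fin n) (Fin n) F) *ᵥ Pi.single i 1 = Pi.single i 1}
  mul_mem' {a b} ha hb i hi := by
    rw [Subgroup.coe_mul, Units.val_mul, ← mulVec_mulVec, hb i hi, ha i hi]
  one_mem' i _ := one_mulVec _
  inv_mem' {a} ha i hi := by
    conv_lhs => rw [← ha i hi, mulVec_mulVec, Subgroup.coe_inv, Units.inv_mul, one_mulVec]

variable (n) in
/-- The norm one vectors supported from `k` on. -/
abbrev Sphere (k : ℕ) : Type _ :=
  {v : Fin n → F // (∀ i : Fin n, (i : ℕ) < k → v i = 0) ∧ H v v = 1}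

include K in
theorem h_single (v : Fin n → F) (i : Fin n) : H v (Pi.single i 1) = v i := by
  rw [Unitary.herm_apply K, Finset.sum_eq_single i (fun j _ hj => by simp [hj]) (by simp)]
  simp

include K in
theorem exists_move_step {k : ℕ} {u v : Fin n → F} (hu : ∀ i : Fin n, (i : ℕ) < k → u i = 0)
    (hv : ∀ i : Fin n, (i : ℕ) < k → v i = 0) (h1 : H u u = 1) (h2 : H v v = 1) (huv : H u v ≠ 1) :
    ∃ g : GU n F q, g ∈ fixer k ∧ ((g : GL (Fin n) F) : Matrix (Fin n) (Fin n) F) *ᵥ u = v := by
  have hsub : ∀ a b c : Fin n → F, H (a - b) c = H a c - H b c ∧ H c (a - b) = H c a - H c b := by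
    intro a b c
    constructor
    · simp only [Unitary.herm_apply K, Pi.sub_apply, sub_mul, Finset.sum_sub_distrib]
    · simp only [Unitary.herm_apply K, Pi.sub_apply, map_sub, mul_sub, Finset.sum_sub_distrib]
  set d := H u (v - u)
  have hd : d ≠ 0 := by
    show H u (v - u) ≠ 0
    rw [(hsub _ _ _).2, h1]
    exact sub_ne_zero.2 huv
  have hl : d⁻¹ + K.bar d⁻¹ + d⁻¹ * K.bar d⁻¹ * H (v - u) (v - u) = 0 := by
    have hd' : K.bar d ≠ 0 := (map_ne_zero K.bar).2 hd
    have e : H (v - u) (v - u) = -(d + K.bar d) := by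
      show _ = -(H u (v - u) + K.bar (H u (v - u)))
      simp only [(hsub _ _ _).1, (hsub _ _ _).2, map_sub, h1, h2, map_one, ← h_swap K u v]
      ring
    rw [e, map_inv₀]
    field_simp
    ring
  obtain ⟨g, hg⟩ := exists_isometry K hl
  refine ⟨g, fun i hi => ?_, ?_⟩
  · rw [hg, h_swap K (v - u) (Pi.single i 1), h_single K, Pi.sub_apply, hv i hi, hu i hi, sub_zero,
      map_zero, mul_zero, zero_smul, add_zero]
  · rw [hg, inv_mul_cancel₀ hd, one_smul, add_sub_cancel]

include K in
theorem exists_move {k : ℕ} {u v : Fin n → F} (hu : ∀ i : Fin n, (i : ℕ) < k → u i = 0)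
    (hv : ∀ i : Fin n, (i : ℕ) < k → v i = 0) (h1 : H u u = 1) (h2 : H v v = 1) :
    ∃ g : GU n F q, g ∈ fixer k ∧ ((g : GL (Fin n) F) : Matrix (Fin n) (Fin n) F) *ᵥ u = v := by
  by_cases huv : H u v = 1
  swap
  · exact exists_move_step K hu hv h1 h2 huv
  obtain ⟨⟨ζ, hζ⟩, hne⟩ : ∃ z : {a : F // a * K.bar a = 1}, z ≠ ⟨1, by simp⟩ := by
    have : Nontrivial {a : F // a * K.bar a = 1} :=
      (Finite.one_lt_card_iff_nontrivial).1 (by rw [card_norm_one K]; have := K.two_le; omega)
    exact exists_ne _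
  have hz1 : ζ ≠ 1 := fun h => hne (Subtype.ext h)
  have hsm : ∀ a b : Fin n → F, H (ζ • a) b = ζ * H a b ∧ H a (ζ • b) = K.bar ζ * H a b := by
    intro a b
    constructor
    · simp only [Unitary.herm_apply K, Pi.smul_apply, smul_eq_mul, Finset.mul_sum, mul_assoc]
    · simp only [Unitary.herm_apply K, Pi.smul_apply, smul_eq_mul, map_mul, Finset.mul_sum]
      exact Finset.sum_congr rfl fun i _ => by ring
  have hvz : ∀ i : Fin n, (i : ℕ) < k → (ζ • v) i = 0 := fun i hi => by simp [hv i hi]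
  have hzz : H (ζ • v) (ζ • v) = 1 := by rw [(hsm _ _).1, (hsm _ _).2, h2, mul_one, hζ]
  obtain ⟨g, hg, hgu⟩ := exists_move_step K hu hvz h1 hzz (by
    rw [(hsm _ _).2, huv, mul_one]
    exact fun h => hz1 (by rw [← K.bar_bar ζ, h, map_one]))
  obtain ⟨g', hg', hgv⟩ := exists_move_step K hvz hv hzz h2 (by rw [(hsm _ _).1, h2, mul_one]; exact hz1)
  refine ⟨g' * g, mul_mem hg' hg, ?_⟩
  rw [Subgroup.coe_mul, Units.val_mul, ← mulVec_mulVec, hgu, hgv]

include K in
theorem card_fixer_succ {k : ℕ} (hk : k < n) :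
    Nat.card (fixer (F := F) (q := q) (n := n) k) =
      Nat.card (Sphere (F := F) (q := q) n k) * Nat.card (fixer (F := F) (q := q) (n := n) (k + 1)) := by
  classical
  set i₀ : Fin n := ⟨k, hk⟩
  have hsph : ∀ g : fixer (F := F) (q := q) (n := n) k,
      (∀ i : Fin n, (i : ℕ) < k → (((g : GU n F q) : GL (Fin n) F).1 *ᵥ Pi.single i₀ 1) i = 0) ∧
      H (((g : GU n F q) : GL (Fin n) F).1 *ᵥ Pi.single i₀ 1) (((g : GU n F q) : GL (Fin n) F).1 *ᵥ Pi.single i₀ 1) = 1 := by
    intro g
    refine ⟨fun i hi => ?_, ((g : GU n F q).2 _ _).trans ?_⟩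
    · rw [← h_single K (((g : GU n F q) : GL (Fin n) F).1 *ᵥ Pi.single i₀ 1) i]
      conv_lhs => rw [← g.2 i hi]
      refine ((g : GU n F q).2 _ _).trans ?_
      rw [h_single K]
      exact Pi.single_eq_of_ne (fun e => by rw [e] at hi; exact lt_irrefl k hi) _
    · rw [h_single K, Pi.single_eq_same]
  let φ : fixer (F := F) (q := q) (n := n) k → Sphere (F := F) (q := q) n k := fun g => ⟨_, hsph g⟩
  have hex : ∀ p : Sphere (F := F) (q := q) n k, ∃ g, φ g = p := by
    rintro ⟨v, hv, hv1⟩
    obtain ⟨g, hg, hgu⟩ := exists_move K (u := Pi.single i₀ (1 : F))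
      (fun i hi => Pi.single_eq_of_ne (fun e => by rw [e] at hi; exact lt_irrefl k hi) _) hv
      (by rw [h_single K, Pi.single_eq_same]) hv1
    exact ⟨⟨g, hg⟩, Subtype.ext hgu⟩
  choose s hs using hex
  have hle : fixer (F := F) (q := q) (n := n) (k + 1) ≤ fixer k := fun g hg i hi =>
    hg i (Nat.lt_succ_of_lt hi)
  have hmem : ∀ g, ((s (φ g))⁻¹ * g : fixer (F := F) (q := q) (n := n) k).1 ∈ fixer (k + 1) := by
    intro g i hi
    rcases Nat.lt_succ_iff_lt_or_eq.1 hi with hi | hi
    · exact ((s (φ g))⁻¹ * g).2 i hi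
    · obtain rfl : i = i₀ := Fin.ext hi
      have e : (((s (φ g) : GU n F q) : GL (Fin n) F)).1 *ᵥ Pi.single i₀ 1 =
          (((g : GU n F q) : GL (Fin n) F)).1 *ᵥ Pi.single i₀ 1 :=
        congrArg Subtype.val (hs (φ g))
      rw [Subgroup.coe_mul, Subgroup.coe_mul, Units.val_mul, ← mulVec_mulVec, ← e, mulVec_mulVec,
        Subgroup.coe_inv, Subgroup.coe_inv, Units.inv_mul, one_mulVec]
  have hback : ∀ p (h : fixer (F := F) (q := q) (n := n) (k + 1)), φ (s p * ⟨h, hle h.2⟩) = p := by
    intro p h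
    conv_rhs => rw [← hs p]
    refine Subtype.ext ?_
    show ((((s p * ⟨h, hle h.2⟩ : fixer k) : GU n F q) : GL (Fin n) F)).1 *ᵥ _ = _
    rw [Subgroup.coe_mul, Subgroup.coe_mul, Units.val_mul, ← mulVec_mulVec, h.2 i₀ (Nat.lt_succ_self k)]
  rw [← Nat.card_prod]
  exact Nat.card_congr
    { toFun := fun g => (φ g, ⟨_, hmem g⟩)
      invFun := fun p => s p.1 * ⟨p.2, hle p.2.2⟩
      left_inv := fun g => Subtype.ext (by simp)
      right_inv := fun p => by
        refine Prod.ext (hback _ _) (Subtype.ext ?_)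
        show ((s (φ (s p.1 * ⟨p.2, hle p.2.2⟩)))⁻¹ * (s p.1 * ⟨p.2, hle p.2.2⟩) : fixer k).1 = _
        rw [hback, inv_mul_cancel_left] }

include K in
theorem card_sphere {k : ℕ} (hk : k ≤ n) :
    Nat.card (Sphere (F := F) (q := q) n k) = count K (n - k) 1 := by
  classical
  have hsum : ∀ v : Fin n → F, (∀ i : Fin n, (i : ℕ) < k → v i = 0) →
      ∑ i : Fin (n - k), v ⟨k + i, by omega⟩ * K.bar (v ⟨k + i, by omega⟩) = H v v := by
    intro v hv
    rw [Unitary.herm_apply K]
    refine Finset.sum_of_injOn (fun i : Fin (n - k) => (⟨k + i, by omega⟩ : Fin n)) ?_ ?_ ?_ ?_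
    · intro a _ b _ e
      exact Fin.ext (by simpa [Fin.ext_iff] using e)
    · intro a _; simp
    · intro i _ hi
      rcases lt_or_ge (i : ℕ) k with h | h
      · rw [hv i h, zero_mul]
      · exact absurd ⟨⟨i - k, by omega⟩, by simp, Fin.ext (by simp; omega)⟩ hi
    · intro a _; rfl
  refine Nat.card_congr
    { toFun := fun v => ⟨fun i => v.1 ⟨k + i, by omega⟩, (hsum v.1 v.2.1).trans v.2.2⟩
      invFun := fun w => ⟨fun i => if h : k ≤ (i : ℕ) then w.1 ⟨i - k, by omega⟩ else 0,
        fun i hi => dif_neg (not_le.2 hi), by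
          rw [← hsum _ fun i hi => dif_neg (not_le.2 hi)]
          refine (Finset.sum_congr rfl fun i _ => ?_).trans w.2
          simp⟩
      left_inv := fun v => by
        refine Subtype.ext (funext fun i => ?_)
        by_cases h : k ≤ (i : ℕ)
        · simp [h]
        · simp [h, v.2.1 i (not_le.1 h)]
      right_inv := fun w => by
        refine Subtype.ext (funext fun i => ?_)
        simp }

include K in
theorem card_GU : Nat.card (GU n F q) = q ^ (n * (n - 1) / 2) *
    ∏ i ∈ Finset.range n, (if Even i then q ^ (i + 1) + 1 else q ^ (i + 1) - 1) := by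
  have key : ∀ j ≤ n, Nat.card (fixer (F := F) (q := q) (n := n) (n - j)) =
      q ^ (j * (j - 1) / 2) * ∏ i ∈ Finset.range j, (if Even i then q ^ (i + 1) + 1 else q ^ (i + 1) - 1) := by
    intro j
    induction j with
    | zero =>
      intro _
      rw [Nat.card_eq_one_iff_unique.2 ⟨⟨fun a b => ?_⟩, ⟨1⟩⟩]
      · simp
      refine Subtype.ext (Subtype.ext (Units.ext (Matrix.ext_of_mulVec_single fun i => ?_)))
      rw [a.2 i (by simp), b.2 i (by simp)]
    | succ j ih =>
      intro hj
      rw [card_fixer_succ K (by omega), card_sphere K (by omega), count_one_nat,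
        show n - (n - (j + 1)) = j + 1 by omega, show n - (j + 1) + 1 = n - j by omega, ih (by omega),
        Finset.prod_range_succ, Nat.add_sub_cancel]
      have htri : (j + 1) * j / 2 = j * (j - 1) / 2 + j := by
        have hb := Nat.choose_two_right (j + 1)
        rw [Nat.add_sub_cancel] at hb
        rw [← hb, ← Nat.choose_two_right j, Nat.choose_succ_succ, Nat.choose_one_right, add_comm]
      rw [htri, pow_add]
      rcases Nat.even_or_odd j with he | ho
      · rw [if_neg (fun h => Nat.even_add_one.1 h he), if_pos he]; ring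
      · rw [if_pos (Nat.even_add_one.2 (Nat.not_even_iff_odd.2 ho)), if_neg (Nat.not_even_iff_odd.2 ho)]; ring
  have h := key n le_rfl
  rw [Nat.sub_self] at h
  rw [← h, ← Nat.card_congr (Equiv.subtypeUnivEquiv (p := fun g => g ∈ fixer (F := F) (q := q) (n := n) 0)
    fun g i hi => absurd hi (Nat.not_lt_zero _))]

include K in
theorem card_SU (hn : 1 ≤ n) : (q + 1) * Nat.card (SU n F q) = Nat.card (GU n F q) := by
  set d := ClassicalAut.Unitary.det1 n K
  have hsurj : Function.Surjective d := fun c => ⟨_, ClassicalAut.Unitary.det1_diag1 K hn c⟩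
  rw [Subgroup.card_eq_card_quotient_mul_card_subgroup d.ker,
    Nat.card_congr (QuotientGroup.quotientKerEquivOfSurjective d hsurj).toEquiv,
    Unitary.card_normOne K]
  congr 1
  refine Nat.card_congr
    { toFun := fun s => ⟨⟨SpecialLinearGroup.toGL s.1, fun u v => s.2 u v⟩, Subtype.ext (Units.ext s.1.2)⟩
      invFun := fun g => ⟨⟨((g : GU n F q) : GL (Fin n) F).1,
        congrArg (fun c : ClassicalAut.Unitary.normOne K => ((c : Fˣ) : F)) g.2⟩, fun u v => (g : GU n F q).2 u v⟩
      left_inv := fun s => rfl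
      right_inv := fun g => Subtype.ext (Subtype.ext (Units.ext rfl)) }

include K in
theorem center_iff (hn : 2 ≤ n) (g : SU n F q) :
    g ∈ Subgroup.center (SU n F q) ↔ ∃ c : F, (g.1 : Matrix (Fin n) (Fin n) F) = c • 1 := by
  classical
  cases nonempty_fintype F
  rcases Nat.lt_or_ge n 3 with h3 | h3
  swap
  · exact FormRep.Unitary.center_iff h3 (by rw [← Nat.card_eq_fintype_card, K.card]) K.bar K.bar_apply K.bar_bar g
  obtain rfl : n = 2 := by omega
  constructor
  swap
  · rintro ⟨c, hc⟩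
    rw [Subgroup.mem_center_iff]
    intro h
    refine Subtype.ext (Subtype.ext ?_)
    show (h.1 : Matrix (Fin 2) (Fin 2) F) * g.1 = g.1 * h.1
    rw [hc, Matrix.mul_smul, Matrix.smul_mul, Matrix.mul_one, Matrix.one_mul]
  intro hg
  obtain ⟨l, hl, hl2⟩ : ∃ l : F, l * K.bar l = 1 ∧ l * l ≠ 1 := by
    by_contra hc
    push Not at hc
    have hsub : Nat.card {a : F // a * K.bar a = 1} ≤ Nat.card ({1, -1} : Set F) := by
      refine Nat.card_le_card_of_injective
        (fun a => (⟨a.1, (mul_self_eq_one_iff.1 (hc a.1 a.2)).elim Or.inl Or.inr⟩ : ({1, -1} : Set F)))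
        fun a b e => Subtype.ext (congrArg (fun x : ({1, -1} : Set F) => (x : F)) e)
    rw [card_norm_one K] at hsub
    have h2 : Nat.card ({1, -1} : Set F) ≤ 2 := by
      rw [Nat.card_coe_set_eq]
      exact (Set.ncard_insert_le _ _).trans (by rw [Set.ncard_singleton])
    have := K.two_le
    omega
  have hl0 : l ≠ 0 := fun h => one_ne_zero (α := F) (by rw [← hl, h, zero_mul])
  have hl' : K.bar l ≠ 0 := (map_ne_zero K.bar).2 hl0
  have hcomm : ∀ (A : Matrix (Fin 2) (Fin 2) F), A.det = 1 →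
      (∀ u v, hermForm 2 F q (A *ᵥ u) (A *ᵥ v) = hermForm 2 F q u v) →
      A * g.1.1 = g.1.1 * A := fun A h1 h2 =>
    congrArg (fun x : SU 2 F q => (x.1 : Matrix (Fin 2) (Fin 2) F))
      (Subgroup.mem_center_iff.1 hg ⟨⟨A, h1⟩, h2⟩)
  have hh : ∀ u v : Fin 2 → F, hermForm 2 F q u v = u 0 * K.bar (v 0) + u 1 * K.bar (v 1) := fun u v => by
    rw [Unitary.herm_apply K, Fin.sum_univ_two]
  have e1 := hcomm !![l, 0; 0, K.bar l] (by simp [det_fin_two, hl]) fun u v => by
    rw [hh, hh]
    simp [mulVec, dotProduct, Fin.sum_univ_two, K.bar_bar]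
    linear_combination (u 0 * K.bar (v 0) + u 1 * K.bar (v 1)) * hl
  have e2 := hcomm !![0, 1; -1, 0] (by simp [det_fin_two]) fun u v => by
    rw [hh, hh]
    simp [mulVec, dotProduct, Fin.sum_univ_two]
    ring
  have hne : l - K.bar l ≠ 0 := fun h => hl2 (by
    have e : l = K.bar l := sub_eq_zero.1 h
    calc l * l = l * K.bar l := congrArg (l * ·) e
      _ = 1 := hl)
  have a01 := congrFun (congrFun e1 0) 1
  have a10 := congrFun (congrFun e1 1) 0
  have b01 := congrFun (congrFun e2 0) 1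
  simp [Matrix.mul_apply, Fin.sum_univ_two] at a01 a10 b01
  have z01 : g.1.1 0 1 = 0 := (mul_eq_zero.1 (show (l - K.bar l) * g.1.1 0 1 = 0 by linear_combination a01)).resolve_left hne
  have z10 : g.1.1 1 0 = 0 := (mul_eq_zero.1 (show (l - K.bar l) * g.1.1 1 0 = 0 by linear_combination -a10)).resolve_left hne
  refine ⟨g.1.1 0 0, Matrix.ext fun i j => ?_⟩
  fin_cases i <;> fin_cases j <;> simp [z01, z10, ← b01]

include K in
theorem card_center (hn : 2 ≤ n) : Nat.card (Subgroup.center (SU n F q)) = Nat.gcd n (q + 1) := by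
  classical
  set N := ClassicalAut.Unitary.normOne K
  have hone : ∀ c : N, ∀ u v : Fin n → F,
      hermForm n F q ((((c : Fˣ) : F) • (1 : Matrix (Fin n) (Fin n) F)) *ᵥ u)
        ((((c : Fˣ) : F) • (1 : Matrix (Fin n) (Fin n) F)) *ᵥ v) = hermForm n F q u v := by
    intro c u v
    rw [smul_mulVec, smul_mulVec, one_mulVec, one_mulVec, Unitary.herm_apply K, Unitary.herm_apply K]
    refine Finset.sum_congr rfl fun i _ => ?_
    have h := (Unitary.mem_normOne K).1 c.2
    simp only [Pi.smul_apply, smul_eq_mul, map_mul]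
    linear_combination (u i * K.bar (v i)) * h
  let ψ : (powMonoidHom n : N →* N).ker →* Subgroup.center (SU n F q) :=
    MonoidHom.mk' (fun c => ⟨⟨⟨(((c : N) : Fˣ) : F) • 1, by
      rw [det_smul, det_one, mul_one, Fintype.card_fin]
      exact congrArg (fun x : N => ((x : Fˣ) : F)) (show (c : N) ^ n = 1 from c.2)⟩, hone c⟩,
        (center_iff K hn _).2 ⟨_, rfl⟩⟩) fun a b => Subtype.ext (Subtype.ext (Subtype.ext (by
          show ((((a : N) * (b : N) : N) : Fˣ) : F) • (1 : Matrix (Fin n) (Fin n) F) = (_ • 1) * (_ • 1)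
          rw [Matrix.smul_mul, Matrix.one_mul, smul_smul]
          rfl)))
  have hψ : Function.Bijective ψ := by
    constructor
    · intro a b e
      have := congrFun (congrFun (congrArg (fun x : Subgroup.center (SU n F q) => (x : SU n F q).1.1) e) ⟨0, by omega⟩) ⟨0, by omega⟩
      refine Subtype.ext (Subtype.ext (Units.ext ?_))
      simpa [ψ] using this
    · intro g
      obtain ⟨c, hc⟩ := (center_iff K hn (g : SU n F q)).1 g.2
      have hcn : c ^ n = 1 := by
        have := (g : SU n F q).1.2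
        rwa [hc, det_smul, det_one, mul_one, Fintype.card_fin] at this
      have hc0 : c ≠ 0 := fun h => by rw [h, zero_pow (by omega)] at hcn; exact zero_ne_one hcn
      have hcc : c * K.bar c = 1 := by
        have h1 := (g : SU n F q).2 (Pi.single ⟨0, by omega⟩ 1) (Pi.single ⟨0, by omega⟩ 1)
        rw [show slToMat n F (g : SU n F q).1 = c • (1 : Matrix (Fin n) (Fin n) F) from hc, smul_mulVec,
          one_mulVec, h_single K, Unitary.herm_apply K,
          Finset.sum_eq_single (⟨0, by omega⟩ : Fin n) (fun j _ hj => by simp [hj]) (by simp)] at h1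
        simpa using h1
      refine ⟨⟨⟨Units.mk0 c hc0, (Unitary.mem_normOne K).2 hcc⟩, Subtype.ext (Units.ext ?_)⟩,
        Subtype.ext (Subtype.ext (Subtype.ext hc.symm))⟩
      simpa using hcn
  rw [← Nat.card_congr (Equiv.ofBijective ψ hψ), IsCyclic.card_powMonoidHom_ker,
    Unitary.card_normOne K, Nat.gcd_comm]

end CfsgLib.Classical.Herm
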