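import Mathlib
import Cfsg.Agent.Lib.Singer.Basic
import Cfsg.Agent.Lib.Classical.Card

/-!
Sylow `r`-subgroups of `GL_n(q)` and `SL_n(q)` for a prime `r > n` not dividing `q`.
-/

set_option autoImplicit false

namespace CfsgLib.Classical.SylowLargePrime

open Polynomial

/-- A finite cyclic group contains a copy of each cyclic group of order dividing its own. -/
theorem exists_cyclic_hom {G : Type*} [Group G] [Finite G] [IsCyclic G] {N : ℕ}
    (h : N ∣ Nat.card G) :
    ∃ φ : Multiplicative (ZMod N) →* G, Function.Injective φ := by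
  obtain ⟨g, hg⟩ := IsCyclic.exists_generator (α := G)
  have hg' : orderOf g = Nat.card G := orderOf_eq_card_of_forall_mem_zpowers hg
  have hpos : 0 < Nat.card G := Nat.card_pos
  have hd : Nat.card G / N ≠ 0 := fun h0 => by
    have := Nat.div_mul_cancel h
    rw [h0, zero_mul] at this
    omega
  have hx : Nat.card (Subgroup.zpowers (g ^ (Nat.card G / N))) = Nat.card (Multiplicative (ZMod N)) := by
    rw [Nat.card_zpowers, orderOf_pow' g hd, hg', Nat.gcd_eq_right (Nat.div_dvd_of_dvd h),
      Nat.div_div_self h hpos.ne', Nat.card_congr Multiplicative.toAdd, Nat.card_zmod]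
  exact ⟨(Subgroup.zpowers (g ^ (Nat.card G / N))).subtype.comp
    (mulEquivOfCyclicCardEq hx.symm).toMonoidHom,
    Subtype.val_injective.comp (mulEquivOfCyclicCardEq hx.symm).injective⟩

/-- A subgroup of Sylow order is isomorphic to every Sylow subgroup. -/
theorem sylow_iso {G C : Type*} [Group G] [Finite G] [Group C] {r : ℕ} [Fact r.Prime]
    (ψ : C →* G) (hψ : Function.Injective ψ)
    (hc : Nat.card C = r ^ (Nat.card G).factorization r) (P : Sylow r G) :
    Nonempty (↥(P : Subgroup G) ≃* C) := by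
  have h1 : Nat.card ψ.range = r ^ (Nat.card G).factorization r := by
    rw [← hc]; exact (Nat.card_congr (MonoidHom.ofInjective hψ).toEquiv).symm
  have e : (↥(P : Subgroup G)) ≃* (↥ψ.range) := P.equiv (Sylow.ofCard ψ.range h1)
  exact ⟨e.trans (MonoidHom.ofInjective hψ).symm⟩

section arith

variable {q r : ℕ} [hr : Fact r.Prime]

theorem order_pos (hrq : ¬ r ∣ q) : 0 < orderOf (q : ZMod r) := by
  refine orderOf_pos_iff.mpr (isOfFinOrder_iff_pow_eq_one.mpr
    ⟨r - 1, by have := hr.out.two_le; omega, ZMod.pow_card_sub_one_eq_one ?_⟩)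
  rwa [Ne, CharP.cast_eq_zero_iff (ZMod r) r]

theorem dvd_pow_sub_one_iff (hq : 1 ≤ q) (i : ℕ) :
    r ∣ q ^ i - 1 ↔ orderOf (q : ZMod r) ∣ i := by
  rw [orderOf_dvd_iff_pow_eq_one, ← CharP.cast_eq_zero_iff (ZMod r) r,
    Nat.cast_sub (Nat.one_le_pow _ _ hq), Nat.cast_pow, Nat.cast_one, sub_eq_zero]

theorem factorization_pow_sub_one {x m : ℕ} (hx : 1 ≤ x) (hxr : r ∣ x - 1) (hm : ¬ r ∣ m) :
    (x ^ m - 1).factorization r = (x - 1).factorization r := by
  rcases eq_or_lt_of_le hx with rfl | hx2
  · simp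
  have hx1 : ((x : ℕ) : ZMod r) = 1 := by
    have := (CharP.cast_eq_zero_iff (ZMod r) r _).mpr hxr
    rwa [Nat.cast_sub hx, Nat.cast_one, sub_eq_zero] at this
  have hs : ¬ r ∣ ∑ j ∈ Finset.range m, x ^ j := by
    rw [← CharP.cast_eq_zero_iff (ZMod r) r]
    simpa [hx1, CharP.cast_eq_zero_iff (ZMod r) r] using hm
  rw [← geom_sum_mul_of_one_le hx m, Nat.factorization_mul (fun h0 => hs (by rw [h0]; exact dvd_zero r)) (by omega),
    Finsupp.add_apply, Nat.factorization_eq_zero_of_not_dvd hs, zero_add]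

theorem factorization_q_pow_sub_one (hq : 1 ≤ q) {i : ℕ} (hi : 0 < i)
    (hm : ∀ m, i = orderOf (q : ZMod r) * m → ¬ r ∣ m) :
    (q ^ i - 1).factorization r =
      if orderOf (q : ZMod r) ∣ i then (q ^ orderOf (q : ZMod r) - 1).factorization r else 0 := by
  split_ifs with h
  · obtain ⟨m, rfl⟩ := h
    rw [pow_mul]
    exact factorization_pow_sub_one (Nat.one_le_pow _ _ hq)
      ((dvd_pow_sub_one_iff hq _).mpr dvd_rfl) (hm m rfl)
  · exact Nat.factorization_eq_zero_of_not_dvd fun hd => h ((dvd_pow_sub_one_iff hq i).mp hd)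

/-- The `r`-part of `Φ_d(q)` is that of `q^d - 1`. -/
theorem padicValNat_cyclotomic (hq : 2 ≤ q) (hrq : ¬ r ∣ q) :
    padicValNat r ((cyclotomic (orderOf (q : ZMod r)) ℤ).eval (q : ℤ)).natAbs =
      (q ^ orderOf (q : ZMod r) - 1).factorization r := by
  classical
  set d := orderOf (q : ZMod r) with hd
  have hd0 : 0 < d := order_pos hrq
  let c := fun e : ℕ => ((cyclotomic e ℤ).eval (q : ℤ)).natAbs
  have hprod : ∀ e : ℕ, 0 < e → q ^ e - 1 = ∏ i ∈ e.divisors, c i := by
    intro e he
    have h := congrArg (fun P : ℤ[X] => (P.eval (q : ℤ)).natAbs)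
      (prod_cyclotomic_eq_X_pow_sub_one he ℤ)
    simp only [eval_prod, eval_sub, eval_pow, eval_X, eval_one] at h
    rw [show ((q : ℤ) ^ e - 1) = ((q ^ e - 1 : ℕ) : ℤ) by
      rw [Nat.cast_sub (Nat.one_le_pow _ _ (by omega))]; push_cast; ring, Int.natAbs_natCast] at h
    rw [← h]
    exact (map_prod Int.natAbsHom _ _).trans rfl
  have hne : ∀ e, 0 < e → q ^ e - 1 ≠ 0 := fun e he => by
    have : q ^ 1 ≤ q ^ e := Nat.pow_le_pow_right (by omega) he
    rw [pow_one] at this
    omega
  have hcd := hprod d hd0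
  have hc0 : ∀ i ∈ d.divisors, c i ≠ 0 := fun i hi h0 =>
    hne d hd0 (hcd.trans (Finset.prod_eq_zero hi h0))
  rw [hcd, Nat.factorization_prod hc0, Finsupp.finsetSum_apply, Finset.sum_eq_single d,
    Nat.factorization_def _ hr.out]
  · intro e he hed
    refine Nat.factorization_eq_zero_of_not_dvd fun hdv => ?_
    obtain ⟨hedvd, -⟩ := Nat.mem_divisors.mp he
    have he0 : 0 < e := Nat.pos_of_dvd_of_pos hedvd hd0
    have : r ∣ q ^ e - 1 := by
      rw [hprod e he0]
      exact hdv.trans (Finset.dvd_prod_of_mem _ (Nat.mem_divisors_self e he0.ne'))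
    have hde : d ∣ e := (dvd_pow_sub_one_iff (by omega) e).mp this
    exact hed (Nat.dvd_antisymm hedvd hde)
  · intro h
    exact absurd (Nat.mem_divisors_self d hd0.ne') h

end arith

section groups

variable {F : Type*} [Field F] [Fintype F] {q r n : ℕ} [hr : Fact r.Prime]

theorem factorization_card_GL_of_div (hq : Fintype.card F = q)
    (hrn : n / orderOf (q : ZMod r) < r) (hrq : ¬ r ∣ q) :
    (Nat.card (GL (Fin n) F)).factorization r =
      n / orderOf (q : ZMod r) * (q ^ orderOf (q : ZMod r) - 1).factorization r := by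
  classical
  have hq2 : 2 ≤ q := hq ▸ Fintype.one_lt_card
  have hsplit : ∀ i < n, q ^ n - q ^ i = q ^ i * (q ^ (n - i) - 1) := fun i hi => by
    rw [Nat.mul_sub, mul_one, ← pow_add, Nat.add_sub_cancel' hi.le]
  have hne : ∀ i < n, q ^ n - q ^ i ≠ 0 := fun i hi => by
    have := Nat.pow_lt_pow_right (by omega : 1 < q) hi
    omega
  have hterm : ∀ i < n, (q ^ n - q ^ i).factorization r =
      if orderOf (q : ZMod r) ∣ n - 1 - i + 1 then (q ^ orderOf (q : ZMod r) - 1).factorization r
      else 0 := fun i hi => by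
    have h2 := hne i hi
    rw [hsplit i hi] at h2
    rw [hsplit i hi, Nat.factorization_mul (pow_ne_zero _ (by omega))
      (right_ne_zero_of_mul h2), Finsupp.add_apply,
      Nat.factorization_eq_zero_of_not_dvd fun h => hrq (hr.out.dvd_of_dvd_pow h), zero_add,
      show n - 1 - i + 1 = n - i by omega]
    refine factorization_q_pow_sub_one (by omega) (by omega) fun m hm hdvd => ?_
    have hm0 : m ≠ 0 := fun h0 => by rw [h0, mul_zero] at hm; omega
    have hd0 := order_pos (r := r) hrq
    have hle : m ≤ n / orderOf (q : ZMod r) :=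
      (Nat.le_div_iff_mul_le hd0).mpr (by rw [mul_comm, ← hm]; omega)
    have := Nat.le_of_dvd (Nat.pos_of_ne_zero hm0) hdvd
    omega
  rw [CfsgLib.Classical.card_GL_fin, hq,
    Nat.factorization_prod (fun (i : Fin n) _ => hne i i.2), Finsupp.finsetSum_apply,
    Fin.sum_univ_eq_sum_range (fun i => (q ^ n - q ^ i).factorization r),
    Finset.sum_congr rfl fun i hi => hterm i (Finset.mem_range.mp hi),
    Finset.sum_range_reflect (fun j => if orderOf (q : ZMod r) ∣ j + 1 then
      (q ^ orderOf (q : ZMod r) - 1).factorization r else 0) n,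
    Finset.sum_ite, Finset.sum_const_zero, add_zero, Finset.sum_const, smul_eq_mul,
    Nat.card_multiples]

theorem factorization_card_GL (hq : Fintype.card F = q) (hrn : n < r) (hrq : ¬ r ∣ q) :
    (Nat.card (GL (Fin n) F)).factorization r =
      n / orderOf (q : ZMod r) * (q ^ orderOf (q : ZMod r) - 1).factorization r :=
  factorization_card_GL_of_div hq ((Nat.div_le_self n _).trans_lt hrn) hrq

/-- A homocyclic subgroup of `GL_n` of Sylow order. -/
theorem exists_GL_hom (hq : Fintype.card F = q) (hrq : ¬ r ∣ q) :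
    ∃ ψ : (Fin (n / orderOf (q : ZMod r)) →
        Multiplicative (ZMod (r ^ (q ^ orderOf (q : ZMod r) - 1).factorization r))) →*
      GL (Fin n) F, Function.Injective ψ := by
  classical
  have hd : 1 ≤ orderOf (q : ZMod r) := order_pos hrq
  obtain ⟨K, _, _, _, φ, hφ, hc⟩ := CfsgLib.Singer.exists_fieldExt_embedding (F := F) _ hd
  obtain ⟨cyc, hcyc⟩ := exists_cyclic_hom (G := Kˣ)
    (N := r ^ (q ^ orderOf (q : ZMod r) - 1).factorization r) (by
      rw [Nat.card_units, hc, Nat.card_eq_fintype_card, hq]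
      exact Nat.ordProj_dvd _ _)
  let k := n / orderOf (q : ZMod r)
  have hle : orderOf (q : ZMod r) * k ≤ n := Nat.mul_div_le n _
  let M : (Fin k → K) →* Matrix (Fin n) (Fin n) F :=
    (CfsgLib.Singer.padHom hle).comp
      ((Matrix.reindexAlgEquiv F F finProdFinEquiv).toMulEquiv.toMonoidHom.comp
        ((Matrix.blockDiagonalRingHom (Fin (orderOf (q : ZMod r))) (Fin k) F).toMonoidHom.comp
          (φ.toRingHom.toMonoidHom.compLeft (Fin k))))
  have hM : Function.Injective M := by
    intro x y h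
    have h1 := Matrix.blockDiagonal_injective
      ((Matrix.reindexAlgEquiv F F finProdFinEquiv).injective (CfsgLib.Singer.padHom_injective hle h))
    exact funext fun i => hφ (congrFun h1 i)
  refine ⟨(Units.map M).comp ((MulEquiv.piUnits (M := fun _ : Fin k => K)).symm.toMonoidHom.comp
    (cyc.compLeft (Fin k))), fun x y h => ?_⟩
  have h1 := hM (congrArg Units.val h)
  exact funext fun i => hcyc (Units.ext (congrFun h1 i))

theorem filter_Icc_card {d : ℕ} (hd : 2 ≤ d) :
    ((Finset.Icc 2 n).filter (fun i => d ∣ i)).card = n / d := by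
  rw [← Nat.Ioc_filter_dvd_card_eq_div n d]
  congr 1
  ext i
  simp only [Finset.mem_filter, Finset.mem_Icc, Finset.mem_Ioc]
  refine ⟨fun h => ⟨⟨by omega, h.1.2⟩, h.2⟩, fun h => ⟨⟨?_, h.1.2⟩, h.2⟩⟩
  have := Nat.le_of_dvd h.1.1 h.2
  omega

/-- The case of nontrivial multiplicative order. -/
theorem SL_sylow_of_two_le (hq : Fintype.card F = q) (hrn : n < r) (hrq : ¬ r ∣ q)
    (hd : 2 ≤ orderOf (q : ZMod r)) (hn : 1 ≤ n)
    (P : Sylow r (Matrix.SpecialLinearGroup (Fin n) F)) :
    Nonempty (↥(P : Subgroup (Matrix.SpecialLinearGroup (Fin n) F)) ≃*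
      (Fin (n / orderOf (q : ZMod r)) →
        Multiplicative (ZMod (r ^ (q ^ orderOf (q : ZMod r) - 1).factorization r)))) := by
  classical
  have hq2 : 2 ≤ q := hq ▸ Fintype.one_lt_card
  have : Nonempty (Fin n) := Fin.pos_iff_nonempty.mp hn
  obtain ⟨ψ, hψ⟩ := exists_GL_hom (F := F) (n := n) hq hrq
  have hnd : ¬ r ∣ q - 1 := fun h => by
    have := (dvd_pow_sub_one_iff (r := r) (by omega : 1 ≤ q) 1).mp (by simpa using h)
    have := Nat.dvd_one.mp this
    omega
  have hU : Nat.card Fˣ = q - 1 := by rw [Nat.card_units, Nat.card_eq_fintype_card, hq]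
  have hcop : (r ^ (q ^ orderOf (q : ZMod r) - 1).factorization r).Coprime (Nat.card Fˣ) :=
    Nat.Coprime.pow_left _ (hr.out.coprime_iff_not_dvd.mpr (hU ▸ hnd))
  have hdet : ∀ x, ψ x ∈ (Matrix.SpecialLinearGroup.toGL :
      Matrix.SpecialLinearGroup (Fin n) F →* GL (Fin n) F).range := fun x => by
    rw [CfsgLib.Classical.range_toGL_eq_ker_det, MonoidHom.mem_ker, ← orderOf_eq_one_iff]
    refine Nat.eq_one_of_dvd_coprimes hcop ?_ (orderOf_dvd_natCard _)
    refine orderOf_dvd_of_pow_eq_one ?_
    have hx : x ^ (r ^ (q ^ orderOf (q : ZMod r) - 1).factorization r) = 1 := funext fun i => by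
      have := pow_card_eq_one' (x := x i)
      simpa using this
    rw [← map_pow, ← map_pow, hx, map_one, map_one]
  choose g hg using hdet
  have hinj := CfsgLib.Classical.toGL_injective' (ι := Fin n) (F := F)
  refine sylow_iso (MonoidHom.mk' g fun a b => hinj (by rw [hg, map_mul, map_mul, hg, hg]))
    (fun a b h => hψ ?_) ?_ P
  · rw [← hg a, ← hg b]
    exact congrArg _ h
  · have h := CfsgLib.Classical.card_GL_eq_mul_card_SL (ι := Fin n) (F := F)
    have hf := factorization_card_GL (F := F) hq hrn hrq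
    rw [h, hU, Nat.factorization_mul (by omega) Nat.card_pos.ne', Finsupp.add_apply,
      Nat.factorization_eq_zero_of_not_dvd hnd, zero_add] at hf
    rw [hf, Nat.card_fun]
    simp [← pow_mul, mul_comm]

/-- The split case. -/
theorem SL_sylow_of_one (hq : Fintype.card F = q) {m : ℕ} (hrn : m + 1 < r) (hrq : ¬ r ∣ q)
    (hd : orderOf (q : ZMod r) = 1) (P : Sylow r (Matrix.SpecialLinearGroup (Fin (m + 1)) F)) :
    Nonempty (↥(P : Subgroup (Matrix.SpecialLinearGroup (Fin (m + 1)) F)) ≃*
      (Fin m → Multiplicative (ZMod (r ^ (q - 1).factorization r)))) := by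
  classical
  have hq2 : 2 ≤ q := hq ▸ Fintype.one_lt_card
  have hU : Nat.card Fˣ = q - 1 := by rw [Nat.card_units, Nat.card_eq_fintype_card, hq]
  obtain ⟨cyc, hcyc⟩ := exists_cyclic_hom (G := Fˣ) (N := r ^ (q - 1).factorization r)
    (by rw [hU]; exact Nat.ordProj_dvd _ _)
  let dv : (Fin m → Multiplicative (ZMod (r ^ (q - 1).factorization r))) → Fin (m + 1) → Fˣ :=
    fun x => Fin.snoc (fun i => cyc (x i)) (∏ i, cyc (x i))⁻¹
  have hdet : ∀ x, (Matrix.diagonal fun i => (dv x i : F)).det = 1 := fun x => by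
    rw [Matrix.det_diagonal, ← Units.coe_prod, Units.val_eq_one, Fin.prod_univ_castSucc]
    simp [dv]
  have hmul : ∀ x y i, dv (x * y) i = dv x i * dv y i := fun x y i => by
    induction i using Fin.lastCases with
    | last => simp [dv, Finset.prod_mul_distrib, mul_comm]
    | cast i => simp [dv]
  let f : (Fin m → Multiplicative (ZMod (r ^ (q - 1).factorization r))) →
      Matrix.SpecialLinearGroup (Fin (m + 1)) F :=
    fun x => ⟨Matrix.diagonal fun i => (dv x i : F), hdet x⟩
  refine sylow_iso (MonoidHom.mk' f fun x y => Subtype.ext ?_) ?_ ?_ P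
  · simp only [f, Matrix.SpecialLinearGroup.coe_mul, hmul, Units.val_mul]
    exact (Matrix.diagonal_mul_diagonal _ _).symm
  · intro x y h
    refine funext fun i => hcyc (Units.ext ?_)
    have h1 := congrFun (Matrix.diagonal_injective (congrArg Subtype.val h)) i.castSucc
    simpa [dv] using h1
  · have h := CfsgLib.Classical.card_GL_eq_mul_card_SL (ι := Fin (m + 1)) (F := F)
    have hf := factorization_card_GL (F := F) hq hrn hrq
    rw [h, hU, Nat.factorization_mul (by omega) Nat.card_pos.ne', Finsupp.add_apply, hd, pow_one,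
      Nat.div_one, add_mul, one_mul] at hf
    rw [show (Nat.card (Matrix.SpecialLinearGroup (Fin (m + 1)) F)).factorization r =
      m * (q - 1).factorization r by omega, Nat.card_fun]
    simp [← pow_mul, mul_comm]

end groups

end CfsgLib.Classical.SylowLargePrime
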