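import Cfsg.Agent.Lib.Classical.OmegaTests
import Cfsg.Agent.Lib.Classical.OrthForms

set_option autoImplicit false

/-!
The hyperbolic space: Levi elements, the stabiliser of a maximal singular subspace and the parity
of the intersection dimension.
-/

namespace CfsgLib.Orth.Plus

open Matrix CfsgLib.Classical.WittBasis

variable {F : Type*} [Field F] [Finite F] {m : ℕ}
variable {Q : QuadraticForm F (Fin m ⊕ Fin m → F)}

local notation "B" => QuadraticMap.polar (DFunLike.coe Q)

omit [Finite F] in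
theorem q_eq (hQ : ⇑Q = Cfsg.quadFormPlus m F) (x y : Fin m → F) :
    Q (Sum.elim x y) = x ⬝ᵥ y := by
  rw [hQ]; rfl

omit [Finite F] in
/-- The standard pairs. -/
theorem isHyp_std (hQ : ⇑Q = Cfsg.quadFormPlus m F) :
    IsHyp Q (fun j : Fin m => (Pi.single (.inl j) 1 : Fin m ⊕ Fin m → F))
      (fun j => Pi.single (.inr j) 1) := by
  refine ⟨fun i => ?_, fun i => ?_, fun i j => ?_, fun i j => ?_, fun i j => ?_⟩
  all_goals simp only [hQ, CfsgLib.Orth.polar_plus]
  all_goals simp [Cfsg.quadFormPlus, Pi.single_apply, eq_comm]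

/-- The matrix of a Levi element. -/
def levMat (A : GL (Fin m) F) : Matrix (Fin m ⊕ Fin m) (Fin m ⊕ Fin m) F :=
  fromBlocks (A : Matrix (Fin m) (Fin m) F) 0 0 ((A⁻¹ : GL (Fin m) F) : Matrix (Fin m) (Fin m) F)ᵀ

omit [Finite F] in
theorem levMat_mul (A C : GL (Fin m) F) : levMat (A * C) = levMat A * levMat C := by
  simp [levMat, fromBlocks_multiply, Matrix.transpose_mul]

omit [Finite F] in
theorem levMat_mulVec (A : GL (Fin m) F) (v : Fin m ⊕ Fin m → F) :
    levMat A *ᵥ v = Sum.elim ((A : Matrix (Fin m) (Fin m) F) *ᵥ (v ∘ Sum.inl))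
      (((A⁻¹ : GL (Fin m) F) : Matrix (Fin m) (Fin m) F)ᵀ *ᵥ (v ∘ Sum.inr)) := by
  simp [levMat, fromBlocks_mulVec]

omit [Finite F] in
theorem exists_lev (hQ : ⇑Q = Cfsg.quadFormPlus m F) :
    ∃ lev : GL (Fin m) F →* Grp Q, ∀ A, ((lev A : GL (Fin m ⊕ Fin m) F) : Matrix (Fin m ⊕ Fin m) (Fin m ⊕ Fin m) F) = levMat A := by
  let M : GL (Fin m) F →* Matrix (Fin m ⊕ Fin m) (Fin m ⊕ Fin m) F :=
    { toFun := levMat
      map_one' := by simp [levMat]
      map_mul' := levMat_mul }
  refine ⟨M.toHomUnits.codRestrict _ fun A v _ => ?_, fun A => rfl⟩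
  show Q (levMat A *ᵥ v) = Q v
  rw [levMat_mulVec, q_eq hQ, Matrix.dotProduct_mulVec, Matrix.vecMul_transpose, Matrix.mulVec_mulVec,
    ← Units.val_mul, inv_mul_cancel, Units.val_one, Matrix.one_mulVec, ← q_eq hQ, Sum.elim_comp_inl_inr]

omit [Finite F] in
/-- An element fixing exactly the kernel of two coordinates has trivial Dickson invariant. -/
theorem dickson_fix_two (hB : Nondeg Q) (g : Grp Q) {a b : Fin m ⊕ Fin m} (hab : a ≠ b)
    (h : ∀ v, ap g v = v ↔ v a = 0 ∧ v b = 0) : dickson hB g = 1 := by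
  let T : (Fin m ⊕ Fin m → F) →ₗ[F] F × F := (LinearMap.proj a).prod (LinearMap.proj b)
  have hk : LinearMap.ker T = fixSpace g := by
    ext v
    rw [mem_fixSpace, h, LinearMap.mem_ker]
    simp [T, Prod.ext_iff]
  have hs : LinearMap.range T = ⊤ := by
    rw [LinearMap.range_eq_top]
    rintro ⟨x, y⟩
    exact ⟨Pi.single a x + Pi.single b y, by simp [T, hab, hab.symm]⟩
  have := LinearMap.finrank_range_add_finrank_ker T
  rw [hs, hk, finrank_top, Module.finrank_prod, Module.finrank_self] at this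
  show (-1 : ℤˣ) ^ (_ + _) = 1
  exact Even.neg_one_pow ⟨Module.finrank F (fixSpace g) + 1, by omega⟩

theorem spinor_square (g : Grp Q) : spinor Q 1 (g * g) = 1 := by
  rw [map_mul, Int.units_mul_self]

omit [Finite F] in
theorem dickson_square (hB : Nondeg Q) (g : Grp Q) : dickson hB (g * g) = 1 := by
  rw [map_mul, Int.units_mul_self]

/-- The invariants of the Levi elements. -/
theorem lev_class (hB : Nondeg Q) (hQ : ⇑Q = Cfsg.quadFormPlus m F) (hm : 1 ≤ m)
    (lev : GL (Fin m) F →* Grp Q)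
    (hlev : ∀ A, ((lev A : GL (Fin m ⊕ Fin m) F) : Matrix (Fin m ⊕ Fin m) (Fin m ⊕ Fin m) F) = levMat A) (A : GL (Fin m) F) :
    dickson hB (lev A) = 1 ∧
      ((2 : F) ≠ 0 → spinor Q 1 (lev A) = sqc (A : Matrix (Fin m) (Fin m) F).det) := by
  classical
  have hn : 2 ≤ Module.finrank F (Fin m ⊕ Fin m → F) := by simp; omega
  have hdet : ∀ C : GL (Fin m) F, (C : Matrix (Fin m) (Fin m) F).det ≠ 0 := fun C => C.det_ne_zero
  refine Matrix.diagonal_transvection_induction_of_det_ne_zero
    (fun M => ∀ C : GL (Fin m) F, (C : Matrix (Fin m) (Fin m) F) = M →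
      dickson hB (lev C) = 1 ∧ ((2 : F) ≠ 0 → spinor Q 1 (lev C) = sqc M.det))
    (A : Matrix (Fin m) (Fin m) F) (hdet A) ?_ ?_ ?_ A rfl
  · intro D hD C hC
    rw [Matrix.det_diagonal] at hD
    have hD' : ∀ j, D j ≠ 0 := fun j => (Finset.prod_ne_zero_iff.1 hD) j (Finset.mem_univ j)
    obtain ⟨g, g1, g2, -, g4, g5⟩ := exists_scale hB hn (isHyp_std hQ) D hD'
    have hinv : ((C⁻¹ : GL (Fin m) F) : Matrix (Fin m) (Fin m) F) = diagonal fun j => (D j)⁻¹ := by
      refine (Matrix.coe_units_inv C).trans (Matrix.inv_eq_right_inv ?_)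
      rw [hC, diagonal_mul_diagonal, ← diagonal_one]
      exact congrArg _ (funext fun j => mul_inv_cancel₀ (hD' j))
    have e : lev C = g := by
      refine Subtype.ext (Units.ext (Matrix.ext_of_mulVec_single fun k => ?_))
      rw [hlev, levMat, hC, hinv, diagonal_transpose, fromBlocks_diagonal]
      show _ = ap g (Pi.single k 1)
      rcases k with k | k
      · rw [g1 k]; funext i
        rcases eq_or_ne i (Sum.inl k) with rfl | h <;> simp [mulVec_diagonal, *]
      · rw [g2 k]; funext i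
        rcases eq_or_ne i (Sum.inr k) with rfl | h <;> simp [mulVec_diagonal, *]
    rw [e, Matrix.det_diagonal]
    exact ⟨g4, g5⟩
  · intro t C hC
    rw [t.det, sqc_one]
    by_cases h2 : (2 : F) = 0
    · refine ⟨?_, fun h => absurd h2 h⟩
      obtain ⟨i, j, hij, c⟩ := t
      rcases eq_or_ne c 0 with rfl | hc
      · have : C = 1 := Units.ext (hC.trans (by simp [TransvectionStruct.toMatrix]))
        rw [this, map_one, map_one]
      · have hinv : ((C⁻¹ : GL (Fin m) F) : Matrix (Fin m) (Fin m) F) = transvection i j (-c) := by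
          refine (Matrix.coe_units_inv C).trans (Matrix.inv_eq_right_inv ?_)
          rw [hC, TransvectionStruct.toMatrix, transvection_mul_transvection_same i j hij, add_neg_cancel,
            transvection_zero]
        refine dickson_fix_two hB (lev C) (a := Sum.inl j) (b := Sum.inr i) Sum.inl_ne_inr fun v => ?_
        show ((lev C : GL (Fin m ⊕ Fin m) F) : Matrix (Fin m ⊕ Fin m) (Fin m ⊕ Fin m) F) *ᵥ v = v ↔ _
        rw [hlev, levMat_mulVec, hC, hinv]
        simp only [TransvectionStruct.toMatrix, transvection, transpose_add, transpose_one, transpose_single,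
          add_mulVec, one_mulVec, single_mulVec]
        constructor
        · intro h
          have h1 := congrFun h (.inl i)
          have h2' := congrFun h (.inr j)
          simp [Pi.single_apply, hc] at h1 h2'
          exact ⟨h1, h2'⟩
        · rintro ⟨h1, h2'⟩
          funext k
          rcases k with k | k <;> simp [h1, h2', Pi.single_apply]
    · obtain ⟨i, j, hij, c⟩ := t
      let C' : GL (Fin m) F := GeneralLinearGroup.mkOfDetNeZero (transvection i j (c / 2))
        (by rw [det_transvection_of_ne i j hij]; exact one_ne_zero)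
      have e : C = C' * C' := by
        refine Units.ext (hC.trans ?_)
        show transvection i j c = transvection i j (c / 2) * transvection i j (c / 2)
        rw [transvection_mul_transvection_same i j hij, ← add_div, ← two_mul, mul_div_cancel_left₀ _ h2]
      rw [e, map_mul]
      exact ⟨dickson_square hB _, fun _ => spinor_square _⟩
  · intro M N hM hN hPM hPN C hC
    let CM : GL (Fin m) F := GeneralLinearGroup.mkOfDetNeZero M hM
    let CN : GL (Fin m) F := GeneralLinearGroup.mkOfDetNeZero N hN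
    have e : C = CM * CN := Units.ext (by rw [hC]; rfl)
    obtain ⟨a1, a2⟩ := hPM CM rfl
    obtain ⟨b1, b2⟩ := hPN CN rfl
    rw [e, map_mul, map_mul, map_mul, a1, b1, one_mul, Matrix.det_mul]
    exact ⟨rfl, fun h2 => by rw [a2 h2, b2 h2, sqc_mul hM hN]⟩

/-- The standard maximal singular subspace `y = 0`. -/
abbrev U0 (F : Type*) [Field F] (m : ℕ) : Submodule F (Fin m ⊕ Fin m → F) :=
  LinearMap.ker (LinearMap.funLeft F F (Sum.inr : Fin m → Fin m ⊕ Fin m))

omit [Finite F] in
theorem mem_U0 (v : Fin m ⊕ Fin m → F) : v ∈ U0 F m ↔ ∀ i, v (Sum.inr i) = 0 := by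
  simp [U0, funext_iff]

omit [Finite F] in
theorem finrank_U0 : Module.finrank F (U0 F m) = m := by
  have h := LinearMap.finrank_range_add_finrank_ker (LinearMap.funLeft F F (Sum.inr : Fin m → Fin m ⊕ Fin m))
  rw [LinearMap.range_eq_top.2 (LinearMap.funLeft_surjective_of_injective F F _ Sum.inr_injective),
    finrank_top, Module.finrank_fin_fun, Module.finrank_fintype_fun_eq_card, Fintype.card_sum,
    Fintype.card_fin] at h
  show Module.finrank F (LinearMap.ker _) = m
  omega

omit [Finite F] in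
theorem U0_singular (hQ : ⇑Q = Cfsg.quadFormPlus m F) (v : Fin m ⊕ Fin m → F) (hv : v ∈ U0 F m) :
    Q v = 0 := by
  rw [hQ]
  exact Finset.sum_eq_zero fun i _ => by rw [(mem_U0 v).1 hv i, mul_zero]

/-- The unipotent part of the stabiliser. -/
theorem uni_class (hB : Nondeg Q) (hQ : ⇑Q = Cfsg.quadFormPlus m F) (S : Matrix (Fin m) (Fin m) F)
    (g : Grp Q) (hg : ((g : GL (Fin m ⊕ Fin m) F) : Matrix (Fin m ⊕ Fin m) (Fin m ⊕ Fin m) F) = fromBlocks 1 S 0 1) :
    dickson hB g = 1 := by
  classical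
  have halt : ∀ y : Fin m → F, (S *ᵥ y) ⬝ᵥ y = 0 := fun y => by
    have h := ap_q g (Sum.elim 0 y)
    rw [show ap g (Sum.elim 0 y) = Sum.elim (S *ᵥ y) y by
      show ((g : GL (Fin m ⊕ Fin m) F) : Matrix (Fin m ⊕ Fin m) (Fin m ⊕ Fin m) F) *ᵥ _ = _
      rw [hg, fromBlocks_mulVec]; simp, q_eq hQ, q_eq hQ] at h
    simpa using h
  have hdiag : ∀ i, S i i = 0 := fun i => by simpa using halt (Pi.single i 1)
  have hanti : ∀ i j, S j i = -S i j := fun i j => by
    have h := halt (Pi.single i 1 + Pi.single j 1)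
    simp [mulVec_add, hdiag] at h
    linear_combination h
  -- elementary pieces
  let P : Matrix (Fin m) (Fin m) F → Prop := fun T =>
    ∃ g : Grp Q, ((g : GL (Fin m ⊕ Fin m) F) : Matrix (Fin m ⊕ Fin m) (Fin m ⊕ Fin m) F) = fromBlocks 1 T 0 1 ∧ dickson hB g = 1
  have hadd : ∀ T T', P T → P T' → P (T + T') := by
    rintro T T' ⟨a, ha, ha'⟩ ⟨b, hb, hb'⟩
    refine ⟨a * b, ?_, by rw [map_mul, ha', hb', one_mul]⟩
    rw [Subgroup.coe_mul, Units.val_mul, ha, hb, fromBlocks_multiply]
    simp [add_comm]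
  have hzero : P 0 := ⟨1, by simp, map_one _⟩
  let E : Fin m × Fin m → Matrix (Fin m) (Fin m) F := fun p =>
    Matrix.single p.1 p.2 (S p.1 p.2) - Matrix.single p.2 p.1 (S p.1 p.2)
  have hE : ∀ p : Fin m × Fin m, p.1 < p.2 → P (E p) := by
    intro p hp
    rcases eq_or_ne (S p.1 p.2) 0 with h0 | h0
    · simp only [E, h0, single_zero, sub_zero]; exact hzero
    have hap : ∀ y : Fin m → F, E p *ᵥ y =
        Pi.single p.1 (S p.1 p.2 * y p.2) - Pi.single p.2 (S p.1 p.2 * y p.1) := fun y => by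
      simp only [E, sub_mulVec, single_mulVec]; rfl
    obtain ⟨a, ha⟩ := exists_iso hB (Matrix.mulVecLin (fromBlocks 1 (E p) 0 1)) fun v => by
      rw [Matrix.mulVecLin_apply, fromBlocks_mulVec, one_mulVec, zero_mulVec, one_mulVec, zero_add, q_eq hQ,
        add_dotProduct, ← q_eq hQ, Sum.elim_comp_inl_inr, hap, sub_dotProduct, single_dotProduct,
        single_dotProduct]
      simp only [Function.comp_apply]
      ring
    have hm' : ((a : GL (Fin m ⊕ Fin m) F) : Matrix (Fin m ⊕ Fin m) (Fin m ⊕ Fin m) F) = fromBlocks 1 (E p) 0 1 :=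
      Matrix.ext_iff_mulVec.2 fun v => ha v
    refine ⟨a, hm', dickson_fix_two hB a (a := Sum.inr p.1) (b := Sum.inr p.2)
      (fun e => hp.ne (Sum.inr_injective e)) fun v => ?_⟩
    rw [ha, Matrix.mulVecLin_apply, fromBlocks_mulVec, one_mulVec, zero_mulVec, one_mulVec, zero_add, hap]
    constructor
    · intro h
      have h1 := congrFun h (.inl p.1)
      have h2 := congrFun h (.inl p.2)
      simp [Pi.single_apply, hp.ne, hp.ne', h0] at h1 h2
      exact ⟨h2, h1⟩
    · rintro ⟨h1, h2⟩
      funext k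
      rcases k with k | k <;> simp [h1, h2]
  have hS : S = ∑ p ∈ Finset.univ.filter (fun p : Fin m × Fin m => p.1 < p.2), E p := by
    ext i j
    rw [Matrix.sum_apply]
    rcases lt_trichotomy i j with h | rfl | h
    · rw [Finset.sum_eq_single (i, j)]
      · simp [E, Matrix.single_apply, h.ne, h.ne']
      · rintro ⟨a, b⟩ hab hne
        simp only [Finset.mem_filter, Finset.mem_univ, true_and] at hab
        simp only [E, Matrix.sub_apply, Matrix.single_apply]
        rw [if_neg, if_neg, sub_zero]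
        · rintro ⟨rfl, rfl⟩; exact lt_asymm h hab
        · rintro ⟨rfl, rfl⟩; exact hne rfl
      · intro hh; simp [h] at hh
    · rw [hdiag, Finset.sum_eq_zero]
      rintro ⟨a, b⟩ hab
      simp only [Finset.mem_filter, Finset.mem_univ, true_and] at hab
      simp only [E, Matrix.sub_apply, Matrix.single_apply]
      rw [if_neg, if_neg, sub_zero]
      · rintro ⟨rfl, rfl⟩; exact lt_irrefl _ hab
      · rintro ⟨rfl, rfl⟩; exact lt_irrefl _ hab
    · rw [Finset.sum_eq_single (j, i)]
      · simp [E, Matrix.single_apply, h.ne, h.ne', hanti j i]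
      · rintro ⟨a, b⟩ hab hne
        simp only [Finset.mem_filter, Finset.mem_univ, true_and] at hab
        simp only [E, Matrix.sub_apply, Matrix.single_apply]
        rw [if_neg, if_neg, sub_zero]
        · rintro ⟨rfl, rfl⟩; exact hne rfl
        · rintro ⟨rfl, rfl⟩; exact lt_asymm h hab
      · intro hh; simp [h] at hh
  obtain ⟨a, ha, ha'⟩ : P S := by
    rw [hS]
    exact Finset.sum_induction E P hadd hzero fun p hp => hE p (Finset.mem_filter.1 hp).2
  have e : g = a := Subtype.ext (Units.ext (hg.trans ha.symm))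
  rw [e, ha']

/-- Stabilisers of the standard maximal singular subspace have trivial Dickson invariant. -/
theorem stab_class (hB : Nondeg Q) (hQ : ⇑Q = Cfsg.quadFormPlus m F) (hm : 1 ≤ m) (g : Grp Q)
    (hg : (U0 F m).map (Matrix.mulVecLin ((g : GL (Fin m ⊕ Fin m) F) : Matrix (Fin m ⊕ Fin m) (Fin m ⊕ Fin m) F)) ≤ U0 F m) :
    dickson hB g = 1 := by
  classical
  set M := ((g : GL (Fin m ⊕ Fin m) F) : Matrix (Fin m ⊕ Fin m) (Fin m ⊕ Fin m) F) with hM
  have h21 : M.toBlocks₂₁ = 0 := by
    ext i j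
    have hj : (Pi.single (Sum.inl j) 1 : Fin m ⊕ Fin m → F) ∈ U0 F m := by
      rw [mem_U0]; intro k; simp
    have := (mem_U0 _).1 (hg (Submodule.mem_map_of_mem hj)) i
    simpa [toBlocks₂₁] using this
  have hMb : M = fromBlocks M.toBlocks₁₁ M.toBlocks₁₂ 0 M.toBlocks₂₂ := by
    conv_lhs => rw [← fromBlocks_toBlocks M, h21]
  have hdA : M.toBlocks₁₁.det ≠ 0 := by
    have : M.det ≠ 0 := (g : GL (Fin m ⊕ Fin m) F).det_ne_zero
    rw [hMb, det_fromBlocks_zero₂₁] at this
    exact left_ne_zero_of_mul this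
  obtain ⟨lev, hlev⟩ := exists_lev hQ
  let A : GL (Fin m) F := GeneralLinearGroup.mkOfDetNeZero M.toBlocks₁₁ hdA
  obtain ⟨S, D, hu⟩ : ∃ S D, (((lev A⁻¹ * g : Grp Q) : GL (Fin m ⊕ Fin m) F) : Matrix (Fin m ⊕ Fin m) (Fin m ⊕ Fin m) F) =
      fromBlocks 1 S 0 D := by
    have hA : ((A⁻¹ : GL (Fin m) F) : Matrix (Fin m) (Fin m) F) * M.toBlocks₁₁ = 1 := by
      show ((A⁻¹ : GL (Fin m) F) : Matrix (Fin m) (Fin m) F) * (A : Matrix (Fin m) (Fin m) F) = 1
      rw [← Units.val_mul, inv_mul_cancel, Units.val_one]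
    refine ⟨((A⁻¹ : GL (Fin m) F) : Matrix (Fin m) (Fin m) F) * M.toBlocks₁₂,
      (A : Matrix (Fin m) (Fin m) F)ᵀ * M.toBlocks₂₂, ?_⟩
    rw [Subgroup.coe_mul, Units.val_mul, hlev, ← hM, hMb, levMat, fromBlocks_multiply, inv_inv]
    simp only [Matrix.zero_mul, Matrix.mul_zero, add_zero, zero_add, toBlocks_fromBlocks₁₁,
      toBlocks_fromBlocks₁₂, toBlocks_fromBlocks₂₂, hA]
  have hD : D = 1 := by
    refine Matrix.ext_of_mulVec_single fun k => funext fun i => ?_
    have key : ∀ x y : Fin m → F, (x + S *ᵥ y) ⬝ᵥ (D *ᵥ y) = x ⬝ᵥ y := fun x y => by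
      have h := ap_q (lev A⁻¹ * g) (Sum.elim x y)
      rw [ap, hu, fromBlocks_mulVec, one_mulVec, zero_mulVec, zero_add, Sum.elim_comp_inl,
        Sum.elim_comp_inr, q_eq hQ, q_eq hQ] at h
      exact h
    have h0 := key 0 (Pi.single k 1)
    have h1 := key (Pi.single i 1) (Pi.single k 1)
    rw [add_dotProduct] at h0 h1
    rw [zero_dotProduct, zero_add] at h0
    rw [h0, zero_dotProduct, add_zero, single_dotProduct, single_dotProduct, one_mul, one_mul] at h1
    rw [h1, one_mulVec]
  subst hD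
  have h1 := uni_class hB hQ S _ hu
  rw [map_mul, (lev_class hB hQ hm lev hlev A⁻¹).1, one_mul] at h1
  exact h1

/-- The Dickson invariant is the parity of the codimension of the intersection. -/
theorem dickson_eq (hB : Nondeg Q) (hQ : ⇑Q = Cfsg.quadFormPlus m F) (hm : 1 ≤ m) (g : Grp Q) :
    dickson hB g = (-1) ^ (m - Module.finrank F
      ↥(U0 F m ⊓ (U0 F m).map (Matrix.mulVecLin ((g : GL (Fin m ⊕ Fin m) F) : Matrix (Fin m ⊕ Fin m) (Fin m ⊕ Fin m) F)))) := by
  suffices H : ∀ (k : ℕ) (g : Grp Q), m - Module.finrank F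
      ↥(U0 F m ⊓ (U0 F m).map (Matrix.mulVecLin ((g : GL (Fin m ⊕ Fin m) F) : Matrix (Fin m ⊕ Fin m) (Fin m ⊕ Fin m) F))) = k →
      dickson hB g = (-1) ^ k from H _ g rfl
  intro k
  induction k with
  | zero =>
    intro g hk
    rw [pow_zero]
    refine stab_class hB hQ hm g ?_
    have h1 : U0 F m ⊓ (U0 F m).map (Matrix.mulVecLin ((g : GL (Fin m ⊕ Fin m) F) : Matrix (Fin m ⊕ Fin m) (Fin m ⊕ Fin m) F)) =
        (U0 F m).map (Matrix.mulVecLin ((g : GL (Fin m ⊕ Fin m) F) : Matrix (Fin m ⊕ Fin m) (Fin m ⊕ Fin m) F)) := by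
      refine Submodule.eq_of_le_of_finrank_le inf_le_right ?_
      rw [finrank_map_iso, finrank_U0]
      omega
    exact inf_eq_right.1 h1
  | succ k ih =>
    intro g hk
    set W := (U0 F m).map (Matrix.mulVecLin ((g : GL (Fin m ⊕ Fin m) F) : Matrix (Fin m ⊕ Fin m) (Fin m ⊕ Fin m) F)) with hW
    have hWq : ∀ w ∈ W, Q w = 0 := by
      rintro _ ⟨v, hv, rfl⟩
      exact (ap_q g v).trans (U0_singular hQ v hv)
    obtain ⟨w, hw, hwU⟩ : ∃ w ∈ W, w ∉ U0 F m := SetLike.not_le_iff_exists.1 fun hle => by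
      rw [inf_eq_right.2 hle, hW, finrank_map_iso, finrank_U0] at hk
      omega
    obtain ⟨u₀, hu₀, hu₀w⟩ : ∃ u ∈ U0 F m, B u w ≠ 0 := by
      by_contra hc
      push Not at hc
      have hUo := le_orth_of_singular (Q := Q) (U0_singular hQ)
      have hle : U0 F m ⊔ (F ∙ w) ≤ orth Q (U0 F m ⊔ (F ∙ w)) := by
        refine sup_le (fun u hu => ?_) ((Submodule.span_singleton_le_iff_mem _ _).2 ?_)
        · rw [mem_orth]
          intro z hz
          obtain ⟨a, ha, b, hb, rfl⟩ := Submodule.mem_sup.1 hz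
          obtain ⟨t, rfl⟩ := Submodule.mem_span_singleton.1 hb
          rw [b_add_left, b_smul_left, b_comm w u, hc u hu, mul_zero, add_zero]
          exact mem_orth.1 (hUo hu) a ha
        · rw [mem_orth]
          intro z hz
          obtain ⟨a, ha, b, hb, rfl⟩ := Submodule.mem_sup.1 hz
          obtain ⟨t, rfl⟩ := Submodule.mem_span_singleton.1 hb
          rw [b_add_left, b_smul_left, hc a ha, b_self_zero (hWq w hw), mul_zero, add_zero]
      have h1 := two_mul_finrank_le hB hle
      have h2 : U0 F m < U0 F m ⊔ (F ∙ w) := left_lt_sup.2 fun h =>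
        hwU (h (Submodule.mem_span_singleton_self w))
      have h3 := Submodule.finrank_lt_finrank_of_lt h2
      rw [finrank_U0] at h3
      rw [Module.finrank_fintype_fun_eq_card, Fintype.card_sum, Fintype.card_fin] at h1
      omega
    let u := (B u₀ w)⁻¹ • u₀
    have hu : u ∈ U0 F m := Submodule.smul_mem _ _ hu₀
    have huw : B u w = 1 := by
      show B ((B u₀ w)⁻¹ • u₀) w = 1
      rw [b_smul_left, inv_mul_cancel₀ hu₀w]
    have hqu := U0_singular hQ u hu
    have hqw := hWq w hw
    have hqv : Q (u - w) = -1 := by rw [q_sub, hqu, hqw, huw]; ring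
    obtain ⟨r, hr⟩ := exists_refl hB (v := u - w) (by rw [hqv]; exact neg_ne_zero.2 one_ne_zero)
    have hrx : ∀ x, ap r x = x + B (u - w) x • (u - w) := fun x => by
      rw [hr.2, hqv, inv_neg_one, neg_one_mul, neg_smul, sub_neg_eq_add]
    have hrw : ap r w = u := by
      rw [hrx, b_sub_left, huw, b_self_zero hqw, sub_zero, one_smul]; abel
    set D := U0 F m ⊓ W with hD
    have hnew : U0 F m ⊓ (U0 F m).map (Matrix.mulVecLin (((r * g : Grp Q) : GL (Fin m ⊕ Fin m) F) :
        Matrix _ _ F)) = D ⊔ (F ∙ u) := by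
      rw [map_mul_eq, ← hW]
      refine le_antisymm ?_ (sup_le ?_ ((Submodule.span_singleton_le_iff_mem _ _).2 ⟨hu, w, hw, hrw⟩))
      · rintro y ⟨hy, x, hx, rfl⟩
        set c := B (u - w) x with hc
        have hy' : ap r x ∈ U0 F m := hy
        rw [hrx, ← hc] at hy'
        have hd : x - c • w ∈ D := by
          refine ⟨?_, sub_mem hx (Submodule.smul_mem _ _ hw)⟩
          have := sub_mem hy' (Submodule.smul_mem _ c hu)
          rwa [show x + c • (u - w) - c • u = x - c • w by rw [smul_sub]; abel] at this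
        have e : Matrix.mulVecLin ((r : GL (Fin m ⊕ Fin m) F) : Matrix (Fin m ⊕ Fin m) (Fin m ⊕ Fin m) F) x = (x - c • w) + c • u := by
          show ap r x = _
          rw [hrx, ← hc, smul_sub]; abel
        rw [e]
        exact Submodule.add_mem_sup hd (Submodule.smul_mem _ _ (Submodule.mem_span_singleton_self u))
      · intro d hd
        refine ⟨hd.1, d, hd.2, ?_⟩
        show ap r d = d
        have h1 : B u d = 0 := by
          rw [b_comm]; exact mem_orth.1 (le_orth_of_singular (Q := Q) (U0_singular hQ) hu) d hd.1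
        have h2 : B w d = 0 := by
          rw [b_comm]; exact mem_orth.1 (le_orth_of_singular (Q := Q) hWq hw) d hd.2
        rw [hrx, b_sub_left, h1, h2, sub_zero, zero_smul, add_zero]
    have hrank : Module.finrank F ↥(D ⊔ (F ∙ u)) = Module.finrank F D + 1 := by
      have hu0 : u ≠ 0 := fun e => one_ne_zero (α := F) (by rw [← huw, e, b_zero_left])
      have h1 : D < D ⊔ (F ∙ u) := left_lt_sup.2 fun h => by
        have hd := h (Submodule.mem_span_singleton_self u)
        have := mem_orth.1 (le_orth_of_singular (Q := Q) hWq hw) u hd.2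
        rw [huw] at this
        exact one_ne_zero this
      have h2 := Submodule.finrank_lt_finrank_of_lt h1
      have h3 := Submodule.finrank_add_le_finrank_add_finrank D (F ∙ u)
      rw [finrank_span_singleton hu0] at h3
      omega
    have hdk := ih (r * g) (by rw [hnew, hrank]; omega)
    rw [map_mul, dickson_refl hB hr] at hdk
    rw [pow_succ, ← hdk]
    simp

end CfsgLib.Orth.Plus
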