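import Mathlib

/-!
Chain bases of nilpotent endomorphisms and their invariants.
-/

set_option autoImplicit false

namespace CfsgLib.NilClasses

open Module

universe u v

variable {F : Type u} [Field F]

/-- A basis made of chains of the lengths `μ`. -/
structure Chains {V : Type v} [AddCommGroup V] [Module F V] (f : V →ₗ[F] V) {ι : Type}
    (μ : ι → ℕ) where
  /-- The basis. -/
  b : Basis (Σ i, Fin (μ i)) F V
  /-- `f` shifts along the chains. -/
  shift : ∀ (i : ι) (j : Fin (μ i)),
    f (b ⟨i, j⟩) = if h : (j : ℕ) + 1 < μ i then b ⟨i, ⟨(j : ℕ) + 1, h⟩⟩ else 0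

theorem Chains.pow_apply {V : Type v} [AddCommGroup V] [Module F V] {f : V →ₗ[F] V} {ι : Type}
    {μ : ι → ℕ} (C : Chains f μ) (i : ι) (t : ℕ) (j : Fin (μ i)) :
    (f ^ t) (C.b ⟨i, j⟩) = if h : (j : ℕ) + t < μ i then C.b ⟨i, ⟨(j : ℕ) + t, h⟩⟩ else 0 := by
  induction t with
  | zero => rw [dif_pos (by simp)]; rfl
  | succ t ih =>
    rw [pow_succ', Module.End.mul_apply, ih]
    by_cases h : (j : ℕ) + t < μ i
    · rw [dif_pos h, C.shift]
      simp only [add_assoc]
    · rw [dif_neg h, map_zero, dif_neg (by omega)]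

/-- The rank of a power, from the chain lengths. -/
theorem Chains.finrank_range_pow {V : Type v} [AddCommGroup V] [Module F V] {f : V →ₗ[F] V}
    {ι : Type} [Fintype ι] {μ : ι → ℕ} (C : Chains f μ) (t : ℕ) :
    finrank F ↥(LinearMap.range (f ^ t)) = ∑ i, (μ i - t) := by
  classical
  let w : (Σ i, Fin (μ i - t)) → V := fun p => C.b ⟨p.1, ⟨(p.2 : ℕ) + t, by omega⟩⟩
  have hli : LinearIndependent F w := by
    refine C.b.linearIndependent.comp
      (fun p : Σ i, Fin (μ i - t) => (⟨p.1, ⟨(p.2 : ℕ) + t, by omega⟩⟩ : Σ i, Fin (μ i))) ?_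
    rintro ⟨i, a⟩ ⟨i', a'⟩ e
    simp only [Sigma.mk.inj_iff] at e
    obtain ⟨rfl, e⟩ := e
    simp only [heq_eq_eq, Fin.ext_iff, add_left_inj] at e
    rw [Fin.ext e]
  have hspan : LinearMap.range (f ^ t) = Submodule.span F (Set.range w) := by
    refine le_antisymm ?_ (Submodule.span_le.2 ?_)
    · rw [LinearMap.range_eq_map, ← C.b.span_eq, Submodule.map_span, Submodule.span_le]
      rintro _ ⟨_, ⟨⟨i, j⟩, rfl⟩, rfl⟩
      rw [SetLike.mem_coe, C.pow_apply]
      split_ifs with h
      · exact Submodule.subset_span ⟨⟨i, ⟨j, by omega⟩⟩, rfl⟩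
      · exact zero_mem _
    · rintro _ ⟨⟨i, a⟩, rfl⟩
      refine ⟨C.b ⟨i, ⟨(a : ℕ), by omega⟩⟩, ?_⟩
      rw [C.pow_apply, dif_pos (show (a : ℕ) + t < μ i by omega)]
  rw [hspan, finrank_span_eq_card hli]
  simp

/-- Every nilpotent endomorphism has a chain basis. -/
theorem exists_chains : ∀ (n : ℕ) {V : Type v} [AddCommGroup V] [Module F V] [FiniteDimensional F V]
    (f : V →ₗ[F] V), finrank F V = n → IsNilpotent f →
    ∃ (ι : Type) (_ : Fintype ι) (μ : ι → ℕ), (∀ i, 0 < μ i) ∧ Nonempty (Chains f μ) := by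
  intro n
  induction n using Nat.strong_induction_on with
  | _ n ih =>
  intro V _ _ _ f hn hf
  classical
  rcases Nat.eq_zero_or_pos n with rfl | hpos
  · refine ⟨Empty, inferInstance, fun i => i.elim, fun i => i.elim, ⟨⟨?_, fun i => i.elim⟩⟩⟩
    exact (finBasisOfFinrankEq F V hn).reindex
      (Equiv.equivOfIsEmpty (Fin 0) (Σ i : Empty, Fin (Empty.elim i)))
  have hlt : finrank F ↥(LinearMap.range f) < n := by
    refine hn ▸ Submodule.finrank_lt fun htop => ?_
    obtain ⟨k, hk⟩ := hf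
    have hs : Function.Surjective ⇑(f ^ k) := by
      rw [Module.End.coe_pow]; exact (LinearMap.range_eq_top.1 htop).iterate k
    rw [hk] at hs
    have : Subsingleton V := ⟨fun a b => by
      obtain ⟨a', rfl⟩ := hs a
      obtain ⟨b', rfl⟩ := hs b
      simp⟩
    have := (finrank_zero_iff (R := F) (M := V)).2 this
    omega
  set W := LinearMap.range f with hW
  have hinv : ∀ x ∈ W, f x ∈ W := fun x _ => ⟨x, rfl⟩
  set g := f.restrict hinv with hg
  have hgn : IsNilpotent g := Module.End.isNilpotent.restrict hinv hf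
  obtain ⟨ι, hι, ν, hν, ⟨C⟩⟩ := ih _ hlt g rfl hgn
  choose y hy using fun i => LinearMap.mem_range.1 (C.b ⟨i, ⟨0, hν i⟩⟩).2
  -- the chain through `y i`
  have hchain : ∀ (i : ι) (j : ℕ) (hj : j < ν i),
      (f ^ (j + 1)) (y i) = (C.b ⟨i, ⟨j, hj⟩⟩ : V) := by
    intro i j
    induction j with
    | zero => intro hj; rw [zero_add, pow_one]; exact hy i
    | succ j ihj =>
      intro hj
      rw [pow_succ', Module.End.mul_apply, ihj (by omega)]
      have := congrArg Subtype.val (C.shift i ⟨j, by omega⟩)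
      rw [dif_pos hj] at this
      exact this
  have hlast : ∀ i, (f ^ (ν i + 1)) (y i) = 0 := by
    intro i
    obtain ⟨j, hj⟩ : ∃ j, ν i = j + 1 := ⟨ν i - 1, by have := hν i; omega⟩
    rw [hj, pow_succ', Module.End.mul_apply, hchain i j (by omega)]
    have := congrArg Subtype.val (C.shift i ⟨j, by omega⟩)
    rw [dif_neg (by simp [hj])] at this
    exact this
  -- tails
  let tail : ι → V := fun i => (f ^ ν i) (y i)
  have htail : ∀ i, tail i = (C.b ⟨i, ⟨ν i - 1, by have := hν i; omega⟩⟩ : V) := by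
    intro i
    have h := hchain i (ν i - 1) (by have := hν i; omega)
    rw [Nat.sub_add_cancel (hν i)] at h
    exact h
  have htk : ∀ i, tail i ∈ LinearMap.ker f := fun i => by
    rw [LinearMap.mem_ker, ← Module.End.mul_apply, ← pow_succ']; exact hlast i
  have htli : LinearIndependent F tail := by
    have h1 : LinearIndependent F
        (fun i => C.b ⟨i, ⟨ν i - 1, by have := hν i; omega⟩⟩) :=
      C.b.linearIndependent.comp
        (fun i => (⟨i, ⟨ν i - 1, by have := hν i; omega⟩⟩ : Σ i, Fin (ν i))) fun a b e => by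
          simp only [Sigma.mk.inj_iff] at e; exact e.1
    have h2 := h1.map' W.subtype W.ker_subtype
    rwa [show tail = fun i => W.subtype (C.b ⟨i, ⟨ν i - 1, by have := hν i; omega⟩⟩) from
      funext htail]
  have hkW : LinearMap.ker f ⊓ W ≤ Submodule.span F (Set.range tail) := by
    rintro x ⟨hxk, hxW⟩
    have hx0 : g ⟨x, hxW⟩ = 0 := Subtype.ext hxk
    have hsum := C.b.sum_repr ⟨x, hxW⟩
    have hzero : ∀ (i : ι) (j : Fin (ν i)), (j : ℕ) + 1 < ν i → C.b.repr ⟨x, hxW⟩ ⟨i, j⟩ = 0 := by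
      intro i j hj
      have h2 := congrArg g hsum
      rw [map_sum, hx0] at h2
      have h3 := congrArg (fun z => C.b.repr z ⟨i, ⟨(j : ℕ) + 1, hj⟩⟩) h2
      simp only [map_smul, map_sum, Finsupp.coe_finsetSum, Finset.sum_apply, map_zero,
        Finsupp.zero_apply, Finsupp.smul_apply] at h3
      rw [Finset.sum_eq_single ⟨i, j⟩] at h3
      · rw [C.shift, dif_pos hj, Basis.repr_self, Finsupp.single_eq_same, smul_eq_mul, mul_one] at h3
        exact h3
      · rintro ⟨i', j'⟩ - hne
        rw [C.shift]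
        split_ifs with h'
        · rw [Basis.repr_self, Finsupp.single_eq_of_ne', smul_zero]
          intro e
          simp only [Sigma.mk.inj_iff] at e
          obtain ⟨rfl, e⟩ := e
          simp only [heq_eq_eq, Fin.ext_iff, add_left_inj] at e
          exact hne (by rw [Fin.ext e])
        · simp
      · simp
    have h4 := congrArg (fun w : W => (w : V)) hsum
    simp only [Submodule.coe_sum, Submodule.coe_smul] at h4
    rw [← h4]
    refine Submodule.sum_mem _ fun p _ => ?_
    obtain ⟨i, j⟩ := p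
    by_cases hj : (j : ℕ) + 1 < ν i
    · rw [hzero i j hj, zero_smul]; exact zero_mem _
    · refine Submodule.smul_mem _ _ (Submodule.subset_span ⟨i, ?_⟩)
      rw [htail]
      have hj' : j = ⟨ν i - 1, by omega⟩ := Fin.ext (show (j : ℕ) = ν i - 1 by omega)
      rw [hj']
  set T := Submodule.span F (Set.range tail) with hT
  have hTle : T ≤ LinearMap.ker f := Submodule.span_le.2 (by rintro _ ⟨i, rfl⟩; exact htk i)
  have hTW : T ≤ W := Submodule.span_le.2 (by rintro _ ⟨i, rfl⟩; rw [htail]; exact Subtype.mem _)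
  obtain ⟨E', hE'⟩ := Submodule.exists_isCompl T
  set K := E' ⊓ LinearMap.ker f with hK
  have hTK : T ⊔ K = LinearMap.ker f := by
    rw [hK, ← sup_inf_assoc_of_le _ hTle, hE'.sup_eq_top, top_inf_eq]
  have hTK' : T ⊓ K = ⊥ := by rw [hK, ← inf_assoc, hE'.inf_eq_bot, bot_inf_eq]
  set z := finBasis F ↥K with hz
  have hdim : finrank F V = (∑ i, (ν i + 1)) + finrank F ↥K := by
    have h1 := Submodule.finrank_sup_add_finrank_inf_eq T K
    rw [hTK, hTK', finrank_bot, add_zero, hT, finrank_span_eq_card htli] at h1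
    have h2 := LinearMap.finrank_range_add_finrank_ker f
    rw [← hW, finrank_eq_card_basis C.b, Fintype.card_sigma] at h2
    simp only [Fintype.card_fin] at h2
    rw [Finset.sum_add_distrib, Finset.sum_const, Finset.card_univ, smul_eq_mul, mul_one]
    omega
  let μ : ι ⊕ Fin (finrank F ↥K) → ℕ := Sum.elim (fun i => ν i + 1) fun _ => 1
  let v : (Σ i, Fin (μ i)) → V := fun p =>
    match p with
    | ⟨.inl i, j⟩ => (f ^ (j : ℕ)) (y i)
    | ⟨.inr k, _⟩ => (z k : V)
  have hli : LinearIndependent F v := by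
    rw [Fintype.linearIndependent_iff]
    intro c hc
    rw [Fintype.sum_sigma, Fintype.sum_sum_type] at hc
    simp only [μ, v, Sum.elim_inl, Sum.elim_inr] at hc
    have hzk : ∀ k, f (z k : V) = 0 := fun k => (z k).2.2
    have h1 := congrArg f hc
    simp only [map_add, map_sum, map_smul, hzk, smul_zero, Finset.sum_const_zero, add_zero,
      map_zero] at h1
    have h2 : ∀ i, ∑ j : Fin (ν i + 1), c ⟨.inl i, j⟩ • f ((f ^ (j : ℕ)) (y i)) =
        ∑ j : Fin (ν i), c ⟨.inl i, j.castSucc⟩ • (C.b ⟨i, j⟩ : V) := by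
      intro i
      rw [Fin.sum_univ_castSucc, ← Module.End.mul_apply f (f ^ ((Fin.last (ν i) : ℕ))), ← pow_succ',
        Fin.val_last, hlast i, smul_zero, add_zero]
      refine Finset.sum_congr rfl fun j _ => ?_
      rw [← Module.End.mul_apply f, ← pow_succ', Fin.val_castSucc, hchain i j j.2]
    replace h1 : ∑ i, ∑ j : Fin (ν i), c ⟨.inl i, j.castSucc⟩ • (C.b ⟨i, j⟩ : V) = 0 :=
      (Finset.sum_congr rfl fun i _ => (h2 i).symm).trans h1
    have h3 : ∑ p : Σ i, Fin (ν i), c ⟨.inl p.1, p.2.castSucc⟩ • C.b p = 0 := by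
      refine Subtype.ext ?_
      simp only [Submodule.coe_sum, Submodule.coe_smul, Submodule.coe_zero]
      rw [Fintype.sum_sigma]
      exact h1
    have h4 := Fintype.linearIndependent_iff.1 C.b.linearIndependent _ h3
    have h5 : ∀ i, ∑ j : Fin (ν i + 1), c ⟨.inl i, j⟩ • (f ^ (j : ℕ)) (y i) =
        c ⟨.inl i, Fin.last (ν i)⟩ • tail i := by
      intro i
      rw [Fin.sum_univ_castSucc, Finset.sum_eq_zero fun j _ => by rw [h4 ⟨i, j⟩, zero_smul],
        zero_add]
      rfl
    replace hc : (∑ i, c ⟨.inl i, Fin.last (ν i)⟩ • tail i) + ∑ k, c ⟨.inr k, (0 : Fin 1)⟩ • (z k : V) = 0 :=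
      (congrArg₂ (· + ·) (Finset.sum_congr rfl fun i _ => (h5 i).symm)
        (Finset.sum_congr rfl fun k _ => (Fin.sum_univ_one _).symm)).trans hc
    have hA : (∑ i, c ⟨.inl i, Fin.last (ν i)⟩ • tail i) ∈ T :=
      Submodule.sum_mem _ fun i _ => Submodule.smul_mem _ _ (Submodule.subset_span ⟨i, rfl⟩)
    have hB : (∑ k, c ⟨.inr k, (0 : Fin 1)⟩ • (z k : V)) ∈ K :=
      Submodule.sum_mem _ fun k _ => Submodule.smul_mem _ _ (z k).2
    have hA0 : (∑ i, c ⟨.inl i, Fin.last (ν i)⟩ • tail i) = 0 := by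
      have : (∑ i, c ⟨.inl i, Fin.last (ν i)⟩ • tail i) ∈ T ⊓ K :=
        ⟨hA, by rw [eq_neg_of_add_eq_zero_left hc]; exact K.neg_mem hB⟩
      rwa [hTK', Submodule.mem_bot] at this
    rw [hA0, zero_add] at hc
    have h6 := Fintype.linearIndependent_iff.1 htli _ hA0
    have h7 := Fintype.linearIndependent_iff.1 z.linearIndependent (fun k => c ⟨.inr k, (0 : Fin 1)⟩)
      (Subtype.ext (by simpa using hc))
    rintro ⟨i | k, j⟩
    · revert j
      show ∀ j : Fin (ν i + 1), c ⟨.inl i, j⟩ = 0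
      exact Fin.lastCases (h6 i) fun j => h4 ⟨i, j⟩
    · revert j
      show ∀ j : Fin 1, c ⟨.inr k, j⟩ = 0
      intro j
      rw [Subsingleton.elim j 0]
      exact h7 k
  have hcard : Fintype.card (Σ i, Fin (μ i)) = finrank F V := by
    rw [hdim, Fintype.card_sigma, Fintype.sum_sum_type]
    refine congrArg₂ (· + ·) (Finset.sum_congr rfl fun i _ => Fintype.card_fin _) ?_
    exact (Finset.sum_congr rfl fun k _ => Fintype.card_fin 1).trans (by simp)
  have hne : Nonempty (Σ i, Fin (μ i)) := Fintype.card_pos_iff.1 (by omega)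
  refine ⟨ι ⊕ Fin (finrank F ↥K), inferInstance, μ, fun i => ?_,
    ⟨⟨basisOfLinearIndependentOfCardEqFinrank hli hcard, ?_⟩⟩⟩
  · rcases i with i | k
    · exact Nat.succ_pos _
    · exact Nat.one_pos
  · rintro (i | k) j
    · simp only [coe_basisOfLinearIndependentOfCardEqFinrank, v]
      rw [← Module.End.mul_apply f, ← pow_succ']
      split_ifs with h
      · rfl
      · rw [show (j : ℕ) + 1 = ν i + 1 from by
          have := j.2
          simp only [μ, Sum.elim_inl] at this h ⊢
          omega]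
        exact hlast i
    · simp only [coe_basisOfLinearIndependentOfCardEqFinrank, v]
      rw [dif_neg (by simp [μ])]
      exact (z k).2.2

/-- Equal multisets of lengths give similar endomorphisms. -/
theorem exists_intertwine {V : Type v} [AddCommGroup V] [Module F V] {f g : V →ₗ[F] V}
    {ι κ : Type} [Fintype ι] [Fintype κ] {μ : ι → ℕ} {ν : κ → ℕ} (C : Chains f μ) (D : Chains g ν)
    (h : Finset.univ.val.map μ = Finset.univ.val.map ν) :
    ∃ e : V ≃ₗ[F] V, ∀ x, e (f x) = g (e x) := by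
  classical
  have hfib : ∀ w, Fintype.card {i // μ i = w} = Fintype.card {k // ν k = w} := by
    intro w
    have := congrArg (Multiset.count w) h
    rw [Multiset.count_map, Multiset.count_map] at this
    simp only [eq_comm (a := w)] at this
    rw [Fintype.card_subtype, Fintype.card_subtype]
    exact this
  let σ : ι ≃ κ := Equiv.ofFiberEquiv (f := μ) (g := ν) fun w => Fintype.equivOfCardEq (hfib w)
  have hσ : ∀ i, ν (σ i) = μ i := fun i => Equiv.ofFiberEquiv_map _ i
  let τ : (Σ i, Fin (μ i)) ≃ Σ k, Fin (ν k) := Equiv.sigmaCongr σ fun i => finCongr (hσ i).symm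
  refine ⟨C.b.equiv D.b τ, fun x => ?_⟩
  have key : (C.b.equiv D.b τ : V →ₗ[F] V) ∘ₗ f = g ∘ₗ (C.b.equiv D.b τ : V →ₗ[F] V) := by
    refine C.b.ext fun p => ?_
    obtain ⟨i, j⟩ := p
    have hτ : ∀ j : Fin (μ i), τ ⟨i, j⟩ = ⟨σ i, Fin.cast (hσ i).symm j⟩ := fun j => rfl
    simp only [LinearMap.comp_apply, LinearEquiv.coe_coe, Basis.equiv_apply, C.shift, D.shift, hτ]
    by_cases hj : (j : ℕ) + 1 < μ i
    · rw [dif_pos hj, Basis.equiv_apply, hτ, dif_pos (by simpa [hσ] using hj)]
      rfl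
    · rw [dif_neg hj, map_zero, dif_neg (by simpa [hσ] using hj)]
  exact LinearMap.congr_fun key x

/-- A matrix with prescribed chains. -/
theorem exists_model {n : ℕ} {ι : Type} [Fintype ι] (μ : ι → ℕ) (h : ∑ i, μ i = n) :
    ∃ f : (Fin n → F) →ₗ[F] (Fin n → F), IsNilpotent f ∧ Nonempty (Chains f μ) := by
  classical
  have hc : Fintype.card (Σ i, Fin (μ i)) = n := by simp [h]
  let b : Basis (Σ i, Fin (μ i)) F (Fin n → F) :=
    (Pi.basisFun F (Fin n)).reindex (Fintype.equivFinOfCardEq hc).symm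
  let f : (Fin n → F) →ₗ[F] (Fin n → F) := b.constr F fun p =>
    if h : (p.2 : ℕ) + 1 < μ p.1 then b ⟨p.1, ⟨(p.2 : ℕ) + 1, h⟩⟩ else 0
  let C : Chains f μ := ⟨b, fun i j => b.constr_basis F _ ⟨i, j⟩⟩
  refine ⟨f, ⟨n, b.ext fun p => ?_⟩, ⟨C⟩⟩
  obtain ⟨i, j⟩ := p
  have h1 : μ i ≤ n := h ▸ Finset.single_le_sum (fun k _ => Nat.zero_le _) (Finset.mem_univ i)
  have h2 := C.pow_apply i n j
  rw [dif_neg (by omega)] at h2
  exact h2

/-- The numbers `∑ (m - t)` determine a multiset of positive integers. -/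
theorem multiset_eq_of_sums {s t : Multiset ℕ} (hs : ∀ x ∈ s, 0 < x) (ht : ∀ x ∈ t, 0 < x)
    (h : ∀ k, (s.map fun x => x - k).sum = (t.map fun x => x - k).sum) : s = t := by
  classical
  have key : ∀ (u : Multiset ℕ) (w : ℕ), (u.map fun x => x - w).sum + (u.map fun x => x - (w + 2)).sum =
      2 * (u.map fun x => x - (w + 1)).sum + u.count (w + 1) := by
    intro u w
    induction u using Multiset.induction with
    | empty => simp
    | cons a u ih =>
      simp only [Multiset.map_cons, Multiset.sum_cons, Multiset.count_cons]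
      split_ifs with e <;> omega
  ext w
  cases w with
  | zero =>
    rw [Multiset.count_eq_zero_of_notMem fun e => lt_irrefl 0 (hs 0 e),
      Multiset.count_eq_zero_of_notMem fun e => lt_irrefl 0 (ht 0 e)]
  | succ w =>
    have := key s w
    have := key t w
    have := h w
    have := h (w + 1)
    have := h (w + 2)
    omega

end CfsgLib.NilClasses
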