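import Mathlib
import Cfsg.Agent.Lib.Classical.NilpotentClasses
import Cfsg.Agent.Lib.Unipotent.Order

/-!
Regular unipotent elements of `GL` and `SL`: centralizer and classes.
-/

set_option autoImplicit false
set_option linter.style.haveILetI false

namespace CfsgLib.Classical.RegularUnipotent

open Module
open scoped MatrixGroups

variable {F : Type*} [Field F] {n : ℕ}

theorem rank_pow_eq {N : Matrix (Fin n) (Fin n) F} {ι : Type} [Fintype ι] {μ : ι → ℕ}
    (C : CfsgLib.NilClasses.Chains (Matrix.toLin' N) μ) (k : ℕ) :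
    (N ^ k).rank = ∑ i, (μ i - k) := by
  rw [Matrix.rank, ← Matrix.toLin'_apply', Matrix.toLin'_pow, C.finrank_range_pow]

theorem sum_lengths {N : Matrix (Fin n) (Fin n) F} {ι : Type} [Fintype ι] {μ : ι → ℕ}
    (C : CfsgLib.NilClasses.Chains (Matrix.toLin' N) μ) : ∑ i, μ i = n := by
  have h1 := Module.finrank_eq_card_basis C.b
  rw [Module.finrank_fin_fun, Fintype.card_sigma] at h1
  simpa using h1.symm

/-- Regularity gives a cyclic basis. -/
theorem exists_cyclic {N : Matrix (Fin n) (Fin n) F} (hn : 1 ≤ n) (hnil : N ^ n = 0)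
    (hreg : N.rank = n - 1) :
    ∃ (v : Fin n → F) (B : Basis (Fin n) F (Fin n → F)), ∀ j, B j = (N ^ (j : ℕ)).mulVec v := by
  classical
  have hN' : IsNilpotent N := ⟨n, hnil⟩
  have hnil' : IsNilpotent (Matrix.toLin' N) := hN'.map Matrix.toLinAlgEquiv'
  obtain ⟨ι, hι, μ, hμ, ⟨C⟩⟩ :=
    CfsgLib.NilClasses.exists_chains n (Matrix.toLin' N) (Module.finrank_fin_fun F) hnil'
  have hsum := sum_lengths C
  have h1 := rank_pow_eq C 1
  rw [pow_one, hreg] at h1
  have h2 : ∑ i, (μ i - 1) + Fintype.card ι = ∑ i, μ i := by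
    rw [← Finset.card_univ, Finset.card_eq_sum_ones, ← Finset.sum_add_distrib]
    exact Finset.sum_congr rfl fun i _ => Nat.sub_add_cancel (hμ i)
  obtain ⟨i₀, hi₀⟩ := Fintype.card_eq_one_iff.mp (by omega : Fintype.card ι = 1)
  have hμ0 : μ i₀ = n := by
    rw [← hsum, Fintype.sum_eq_single i₀ fun j hj => absurd (hi₀ j) hj]
  let e : Fin n ≃ Σ i, Fin (μ i) :=
    { toFun := fun j => ⟨i₀, Fin.cast hμ0.symm j⟩
      invFun := fun x => ⟨x.2.1, by have := x.2.2; have e := hi₀ x.1; subst e; omega⟩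
      left_inv := fun j => rfl
      right_inv := fun ⟨i, j⟩ => by
        obtain rfl := hi₀ i
        rfl }
  refine ⟨C.b ⟨i₀, ⟨0, hμ i₀⟩⟩, C.b.reindex e.symm, fun j => ?_⟩
  rw [Basis.reindex_apply, Equiv.symm_symm, ← Matrix.toLin'_apply, Matrix.toLin'_pow, C.pow_apply,
    dif_pos (by simp only [zero_add]; exact lt_of_lt_of_eq j.2 hμ0.symm)]
  congr 1
  simp [e]
  ext; rfl

/-- A linear combination of powers. -/
def comb (N : Matrix (Fin n) (Fin n) F) (c : Fin n → F) : Matrix (Fin n) (Fin n) F :=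
  ∑ j : Fin n, c j • N ^ (j : ℕ)

theorem comb_comm (N : Matrix (Fin n) (Fin n) F) (c : Fin n → F) : comb N c * N = N * comb N c := by
  rw [comb, Finset.sum_mul, Finset.mul_sum]
  exact Finset.sum_congr rfl fun j _ => by
    rw [Matrix.smul_mul, Matrix.mul_smul, ← pow_succ, ← pow_succ']

theorem comb_mulVec {N : Matrix (Fin n) (Fin n) F} {v : Fin n → F}
    {B : Basis (Fin n) F (Fin n → F)} (hB : ∀ j, B j = (N ^ (j : ℕ)).mulVec v) (c : Fin n → F) :
    (comb N c).mulVec v = B.equivFun.symm c := by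
  rw [comb, Matrix.sum_mulVec, Basis.equivFun_symm_apply]
  exact Finset.sum_congr rfl fun j _ => by rw [Matrix.smul_mulVec, hB]

theorem comb_injective {N : Matrix (Fin n) (Fin n) F} {v : Fin n → F}
    {B : Basis (Fin n) F (Fin n → F)} (hB : ∀ j, B j = (N ^ (j : ℕ)).mulVec v) :
    Function.Injective (comb N) := fun c d h => B.equivFun.symm.injective (by
  rw [← comb_mulVec hB, ← comb_mulVec hB, h])

theorem exists_comb_of_comm {N : Matrix (Fin n) (Fin n) F} {v : Fin n → F}
    {B : Basis (Fin n) F (Fin n → F)} (hB : ∀ j, B j = (N ^ (j : ℕ)).mulVec v)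
    {Z : Matrix (Fin n) (Fin n) F} (hZ : Z * N = N * Z) : ∃ c, comb N c = Z := by
  refine ⟨B.equivFun (Z.mulVec v), Matrix.toLin'.injective (B.ext fun j => ?_)⟩
  rw [Matrix.toLin'_apply, Matrix.toLin'_apply, hB, Matrix.mulVec_mulVec, Matrix.mulVec_mulVec,
    ((show Commute (comb N _) N from comb_comm N _).pow_right _).eq,
    ((show Commute Z N from hZ).pow_right _).eq, ← Matrix.mulVec_mulVec, ← Matrix.mulVec_mulVec,
    comb_mulVec hB, LinearEquiv.symm_apply_apply]

theorem det_comb [Finite F] {N : Matrix (Fin (n + 1)) (Fin (n + 1)) F} (hnil : N ^ (n + 1) = 0)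
    (c : Fin (n + 1) → F) : (comb N c).det = c 0 ^ (n + 1) := by
  classical
  obtain ⟨p, hp⟩ := CharP.exists F
  haveI := Fact.mk (CharP.char_is_prime F p)
  set M : Matrix (Fin (n + 1)) (Fin (n + 1)) F := ∑ j : Fin n, c j.succ • N ^ (j : ℕ)
  have hcomb : comb N c = c 0 • 1 + N * M := by
    rw [comb, Fin.sum_univ_succ, Fin.val_zero, pow_zero, Finset.mul_sum]
    congr 1
    exact Finset.sum_congr rfl fun j _ => by rw [Fin.val_succ, pow_succ', Matrix.mul_smul]
  have hcomm : Commute N M := Commute.sum_right _ _ _ fun j _ =>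
    ((Commute.refl N).pow_right _).smul_right _
  have hM : (N * M) ^ p ^ (n + 1) = 0 := by
    rw [hcomm.mul_pow, pow_eq_zero_of_le (Nat.lt_pow_self (Fact.out : p.Prime).one_lt).le hnil, zero_mul]
  have h1 : comb N c ^ p ^ (n + 1) = c 0 ^ p ^ (n + 1) • (1 : Matrix (Fin (n + 1)) (Fin (n + 1)) F) := by
    rw [hcomb, add_pow_char_pow_of_commute p _ ((Commute.one_left _).smul_left _), hM, add_zero,
      smul_pow, one_pow]
  have h2 := congrArg Matrix.det h1
  rw [Matrix.det_pow, Matrix.det_smul, Matrix.det_one, mul_one, Fintype.card_fin, ← pow_mul,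
    mul_comm, pow_mul] at h2
  exact iterateFrobenius_inj F p (n + 1) (by simpa [iterateFrobenius_def] using h2)

theorem card_centralizer [Fintype F] {q : ℕ} (hF : Fintype.card F = q) (hn : 1 ≤ n) (u : GL (Fin n) F)
    (hnil : ((u : Matrix (Fin n) (Fin n) F) - 1) ^ n = 0)
    (hreg : ((u : Matrix (Fin n) (Fin n) F) - 1).rank = n - 1) :
    Nat.card ↥(Subgroup.centralizer ({u} : Set (GL (Fin n) F))) = (q - 1) * q ^ (n - 1) := by
  classical
  obtain ⟨m, rfl⟩ : ∃ m, n = m + 1 := ⟨n - 1, by omega⟩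
  obtain ⟨v, B, hB⟩ := exists_cyclic hn hnil hreg
  set N := (u : Matrix (Fin (m + 1)) (Fin (m + 1)) F) - 1
  have hu : ∀ Z : Matrix (Fin (m + 1)) (Fin (m + 1)) F,
      Z * (u : Matrix (Fin (m + 1)) (Fin (m + 1)) F) = (u : Matrix (Fin (m + 1)) (Fin (m + 1)) F) * Z ↔
        Z * N = N * Z := fun Z => by
    simp only [N, mul_sub, sub_mul, mul_one, one_mul, sub_left_inj]
  let φ : {c : Fin (m + 1) → F // c 0 ≠ 0} → ↥(Subgroup.centralizer ({u} : Set (GL (Fin (m + 1)) F))) :=
    fun c => ⟨Matrix.GeneralLinearGroup.mkOfDetNeZero (comb N c.1)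
      (by rw [det_comb hnil]; exact pow_ne_zero _ c.2),
      Subgroup.mem_centralizer_singleton_iff.mpr (Units.ext ((hu _).mpr (comb_comm N c.1)))⟩
  have hφ : Function.Bijective φ := by
    refine ⟨fun c d h => Subtype.ext (comb_injective hB (congrArg (fun z => ((z.1 : GL (Fin (m + 1)) F) :
      Matrix (Fin (m + 1)) (Fin (m + 1)) F)) h)), ?_⟩
    rintro ⟨z, hz⟩
    obtain ⟨c, hc⟩ := exists_comb_of_comm hB
      ((hu _).mp (congrArg Units.val (Subgroup.mem_centralizer_singleton_iff.mp hz)))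
    refine ⟨⟨c, fun h0 => z.det_ne_zero ?_⟩, Subtype.ext (Units.ext hc)⟩
    rw [← hc, det_comb hnil, h0, zero_pow (by omega)]
  rw [← Nat.card_congr (Equiv.ofBijective φ hφ), Nat.card_congr
    ({ toFun := fun c => (⟨c.1 0, c.2⟩, Fin.tail c.1)
       invFun := fun z => ⟨Fin.cons z.1.1 z.2, by simpa using z.1.2⟩
       left_inv := fun c => Subtype.ext (Fin.cons_self_tail c.1)
       right_inv := fun z => by
        apply Prod.ext
        · exact Subtype.ext (Fin.cons_zero (α := fun _ => F) z.1.1 z.2)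
        · exact Fin.tail_cons (α := fun _ => F) z.1.1 z.2 } :
      {c : Fin (m + 1) → F // c 0 ≠ 0} ≃ {a : F // a ≠ 0} × (Fin m → F)),
    Nat.card_prod, Nat.card_fun, Nat.card_eq_fintype_card, Fintype.card_subtype_compl,
    Fintype.card_subtype_eq, Nat.card_eq_fintype_card, hF, Nat.card_eq_fintype_card, Fintype.card_fin]
  rfl

/-- Regular nilpotent matrices are similar. -/
theorem exists_conj {N N' : Matrix (Fin n) (Fin n) F} (hn : 1 ≤ n) (h : N ^ n = 0) (hr : N.rank = n - 1)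
    (h' : N' ^ n = 0) (hr' : N'.rank = n - 1) :
    ∃ c : GL (Fin n) F, (c : Matrix (Fin n) (Fin n) F) * N = N' * (c : Matrix (Fin n) (Fin n) F) := by
  classical
  obtain ⟨v, B, hB⟩ := exists_cyclic hn h hr
  obtain ⟨v', B', hB'⟩ := exists_cyclic hn h' hr'
  let e := B.equiv B' (Equiv.refl _)
  let c : GL (Fin n) F := (Matrix.GeneralLinearGroup.toLin (n := Fin n) (R := F)).symm
    (LinearMap.GeneralLinearGroup.ofLinearEquiv e)
  have hcl : Matrix.toLin' (c : Matrix (Fin n) (Fin n) F) = e.toLinearMap :=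
    congrArg Units.val ((Matrix.GeneralLinearGroup.toLin (n := Fin n) (R := F)).apply_symm_apply _)
  refine ⟨c, Matrix.toLin'.injective (B.ext fun j => ?_)⟩
  have hej : ∀ i, e (B i) = B' i := fun i => Basis.equiv_apply B i B' (Equiv.refl _)
  rw [Matrix.toLin'_mul, Matrix.toLin'_mul, hcl, LinearMap.comp_apply, LinearMap.comp_apply,
    Matrix.toLin'_apply, Matrix.toLin'_apply, LinearEquiv.coe_coe, hej, hB, hB', Matrix.mulVec_mulVec,
    Matrix.mulVec_mulVec, ← pow_succ', ← pow_succ']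
  rcases Nat.lt_or_ge ((j : ℕ) + 1) n with hlt | hge
  · rw [← hB ⟨_, hlt⟩, ← hB' ⟨_, hlt⟩, hej]
  · rw [pow_eq_zero_of_le hge h, pow_eq_zero_of_le hge h', Matrix.zero_mulVec, Matrix.zero_mulVec, map_zero]

theorem shift_rank (hn : 1 ≤ n) : (CfsgLib.Unipotent.shift F n).rank = n - 1 := by
  set N := CfsgLib.Unipotent.shift F n
  have hN' : IsNilpotent N := ⟨n, CfsgLib.Unipotent.shift_pow_card⟩
  have hnil : IsNilpotent (Matrix.toLin' N) := hN'.map Matrix.toLinAlgEquiv'
  obtain ⟨ι, hι, μ, hμ, ⟨C⟩⟩ :=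
    CfsgLib.NilClasses.exists_chains n (Matrix.toLin' N) (Module.finrank_fin_fun F) hnil
  have hsum := sum_lengths C
  obtain ⟨i₀, hi₀⟩ : ∃ i, n - 1 < μ i := by
    by_contra hc
    push Not at hc
    refine CfsgLib.Unipotent.shift_pow_pred_ne_zero (F := F) hn (Matrix.toLin'.injective ?_)
    rw [Matrix.toLin'_pow, map_zero]
    refine C.b.ext fun q => ?_
    rw [C.pow_apply, dif_neg (by have := hc q.1; omega), LinearMap.zero_apply]
  have hle : μ i₀ ≤ n := hsum ▸ Finset.single_le_sum (fun k _ => Nat.zero_le _) (Finset.mem_univ i₀)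
  have h1 := rank_pow_eq C 1
  rw [pow_one] at h1
  rw [h1]
  classical
  have hother : ∀ i, i ≠ i₀ → False := fun i hi => by
    have := Finset.add_le_sum (f := μ) (fun k _ => Nat.zero_le _) (Finset.mem_univ i₀)
      (Finset.mem_univ i) (Ne.symm hi)
    have := hμ i
    omega
  rw [Fintype.sum_eq_single i₀ fun i hi => (hother i hi).elim]
  omega

theorem card_sl_classes [Fintype F] {q : ℕ} (hF : Fintype.card F = q) (hn : 1 ≤ n) :
    Nat.card {C : ConjClasses (Matrix.SpecialLinearGroup (Fin n) F) //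
      ∃ u : Matrix.SpecialLinearGroup (Fin n) F, ConjClasses.mk u = C ∧
        ((u : Matrix (Fin n) (Fin n) F) - 1) ^ n = 0 ∧
        ((u : Matrix (Fin n) (Fin n) F) - 1).rank = n - 1} = Nat.gcd n (q - 1) := by
  classical
  obtain ⟨m, rfl⟩ : ∃ m, n = m + 1 := ⟨n - 1, by omega⟩
  set N := CfsgLib.Unipotent.shift F (m + 1) with hNdef
  have hN : N ^ (m + 1) = 0 := CfsgLib.Unipotent.shift_pow_card
  have hNr : N.rank = m + 1 - 1 := shift_rank hn
  obtain ⟨v, B, hB⟩ := exists_cyclic hn hN hNr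
  have hdet1 : (1 + N).det = 1 := by
    have h : comb N (fun j => if (j : ℕ) ≤ 1 then 1 else 0) = 1 + N := by
      rcases Nat.eq_zero_or_pos m with rfl | hm
      · have hN0 : N = 0 := by simpa using hN
        rw [hN0, comb]; simp
      · obtain ⟨k, rfl⟩ : ∃ k, m = k + 1 := ⟨m - 1, by omega⟩
        rw [comb, Fin.sum_univ_succ, Fin.sum_univ_succ]
        simp
    rw [← h, det_comb hN]
    simp
  let d : Fˣ → GL (Fin (m + 1)) F := fun a => Matrix.GeneralLinearGroup.mkOfDetNeZero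
    (Matrix.diagonal (Function.update (fun _ => (1 : F)) 0 (a : F)))
    (by rw [Matrix.det_diagonal, Finset.prod_update_of_mem (Finset.mem_univ _)]; simp)
  have hd : ∀ a, ((d a : GL (Fin (m + 1)) F) : Matrix (Fin (m + 1)) (Fin (m + 1)) F).det = a := fun a => by
    show (Matrix.diagonal (Function.update (fun _ => (1 : F)) 0 (a : F))).det = a
    rw [Matrix.det_diagonal, Finset.prod_update_of_mem (Finset.mem_univ _)]
    simp
  let u₀ : GL (Fin (m + 1)) F := Matrix.GeneralLinearGroup.mkOfDetNeZero (1 + N) (by rw [hdet1]; exact one_ne_zero)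
  have hu₀ : (u₀ : Matrix (Fin (m + 1)) (Fin (m + 1)) F) = 1 + N := rfl
  let w : Fˣ → Matrix.SpecialLinearGroup (Fin (m + 1)) F := fun a =>
    ⟨((d a * u₀ * (d a)⁻¹ : GL (Fin (m + 1)) F) : Matrix (Fin (m + 1)) (Fin (m + 1)) F), by
      rw [Units.val_mul, Units.val_mul, Matrix.det_units_conj, hu₀, hdet1]⟩
  have hw1 : ∀ a, ((w a : Matrix (Fin (m + 1)) (Fin (m + 1)) F) - 1) =
      ((d a : GL (Fin (m + 1)) F) : Matrix (Fin (m + 1)) (Fin (m + 1)) F) * N *
        (((d a)⁻¹ : GL (Fin (m + 1)) F) : Matrix (Fin (m + 1)) (Fin (m + 1)) F) := by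
    intro a
    show ((d a * u₀ * (d a)⁻¹ : GL (Fin (m + 1)) F) : Matrix (Fin (m + 1)) (Fin (m + 1)) F) - 1 = _
    rw [Units.val_mul, Units.val_mul, hu₀, mul_add, add_mul, mul_one, Units.mul_inv, add_sub_cancel_left]
  have hwmem : ∀ a, ((w a : Matrix (Fin (m + 1)) (Fin (m + 1)) F) - 1) ^ (m + 1) = 0 ∧
      ((w a : Matrix (Fin (m + 1)) (Fin (m + 1)) F) - 1).rank = m + 1 - 1 := by
    intro a
    rw [hw1, Units.conj_pow, hN, mul_zero, zero_mul,
      Matrix.rank_mul_eq_left_of_isUnit_det _ _ ((Matrix.isUnit_iff_isUnit_det _).1 ((d a)⁻¹).isUnit),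
      Matrix.rank_mul_eq_right_of_isUnit_det _ _ ((Matrix.isUnit_iff_isUnit_det _).1 (d a).isUnit), hNr]
    exact ⟨rfl, rfl⟩
  set R := (powMonoidHom (m + 1) : Fˣ →* Fˣ).range with hR
  have hiff : ∀ a b, IsConj (w a) (w b) ↔ a⁻¹ * b ∈ R := by
    intro a b
    constructor
    · intro h
      obtain ⟨s, hs⟩ := isConj_iff.mp h
      have hs' : Matrix.SpecialLinearGroup.toGL s * (d a * u₀ * (d a)⁻¹) *
          (Matrix.SpecialLinearGroup.toGL s)⁻¹ = d b * u₀ * (d b)⁻¹ := by
        have e : ∀ x, Matrix.SpecialLinearGroup.toGL (w x) = d x * u₀ * (d x)⁻¹ := fun x => Units.ext rfl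
        rw [← e, ← e, ← hs, map_mul, map_mul, map_inv]
      set z := (d b)⁻¹ * Matrix.SpecialLinearGroup.toGL s * d a with hz
      have hzu : z * u₀ = u₀ * z := by
        calc z * u₀ = (d b)⁻¹ * (Matrix.SpecialLinearGroup.toGL s * (d a * u₀ * (d a)⁻¹) *
              (Matrix.SpecialLinearGroup.toGL s)⁻¹) * Matrix.SpecialLinearGroup.toGL s * d a := by
              rw [hz]; group
          _ = (d b)⁻¹ * (d b * u₀ * (d b)⁻¹) * Matrix.SpecialLinearGroup.toGL s * d a := by rw [hs']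
          _ = u₀ * z := by rw [hz]; group
      have hzN : (z : Matrix (Fin (m + 1)) (Fin (m + 1)) F) * N = N * (z : Matrix (Fin (m + 1)) (Fin (m + 1)) F) := by
        have h2 : (z : Matrix (Fin (m + 1)) (Fin (m + 1)) F) * (1 + N) =
            (1 + N) * (z : Matrix (Fin (m + 1)) (Fin (m + 1)) F) := by
          rw [← hu₀, ← Units.val_mul, hzu, Units.val_mul]
        rw [mul_add, add_mul, mul_one, one_mul] at h2
        exact add_left_cancel h2
      obtain ⟨c, hc⟩ := exists_comb_of_comm hB hzN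
      have hdet := congrArg Matrix.det hc
      rw [det_comb hN, hz, Units.val_mul, Units.val_mul, Matrix.det_mul, Matrix.det_mul,
        show ((Matrix.SpecialLinearGroup.toGL s : GL (Fin (m + 1)) F) :
          Matrix (Fin (m + 1)) (Fin (m + 1)) F).det = 1 from s.2, hd, mul_one, Matrix.coe_units_inv,
        Matrix.det_nonsing_inv, hd] at hdet
      have hc0 : c 0 ≠ 0 := by
        intro h0
        rw [h0, zero_pow (by omega)] at hdet
        simp at hdet
      refine ⟨(Units.mk0 (c 0) hc0)⁻¹, ?_⟩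
      apply Units.ext
      simp only [powMonoidHom_apply, inv_pow, Units.val_inv_eq_inv_val, Units.val_pow_eq_pow_val,
        Units.val_mk0, Units.val_mul, hdet, Ring.inverse_eq_inv', mul_inv_rev, inv_inv]
    · rintro ⟨z, hz⟩
      have hz' : a * z ^ (m + 1) = b := by
        rw [show z ^ (m + 1) = a⁻¹ * b from hz, mul_inv_cancel_left]
      let Z : GL (Fin (m + 1)) F := Units.map (algebraMap F (Matrix (Fin (m + 1)) (Fin (m + 1)) F)).toMonoidHom z⁻¹
      let s : Matrix.SpecialLinearGroup (Fin (m + 1)) F :=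
        ⟨((d b * Z * (d a)⁻¹ : GL (Fin (m + 1)) F) : Matrix (Fin (m + 1)) (Fin (m + 1)) F), by
          rw [Units.val_mul, Units.val_mul, Matrix.det_mul, Matrix.det_mul, hd, Matrix.coe_units_inv,
            Matrix.det_nonsing_inv, hd,
            show (Z : Matrix (Fin (m + 1)) (Fin (m + 1)) F) = Matrix.scalar (Fin (m + 1)) ((z⁻¹ : Fˣ) : F) from rfl,
            Matrix.scalar_apply, Matrix.det_diagonal, Finset.prod_const, Finset.card_univ, Fintype.card_fin,
            ← hz', Ring.inverse_eq_inv']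
          push_cast
          field_simp
          simp [mul_pow]⟩
      refine isConj_iff.mpr ⟨s, Matrix.SpecialLinearGroup.toGL_injective ?_⟩
      rw [map_mul, map_mul, map_inv,
        show Matrix.SpecialLinearGroup.toGL (w a) = d a * u₀ * (d a)⁻¹ from Units.ext rfl,
        show Matrix.SpecialLinearGroup.toGL (w b) = d b * u₀ * (d b)⁻¹ from Units.ext rfl,
        show Matrix.SpecialLinearGroup.toGL s = d b * Z * (d a)⁻¹ from Units.ext rfl]
      have hZ : Z * u₀ = u₀ * Z := Units.ext (Algebra.commutes _ _)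
      calc d b * Z * (d a)⁻¹ * (d a * u₀ * (d a)⁻¹) * (d b * Z * (d a)⁻¹)⁻¹ =
            d b * (Z * u₀) * Z⁻¹ * (d b)⁻¹ := by group
        _ = d b * u₀ * (d b)⁻¹ := by rw [hZ]; group
  let φ : Fˣ ⧸ R → {C : ConjClasses (Matrix.SpecialLinearGroup (Fin (m + 1)) F) //
      ∃ u : Matrix.SpecialLinearGroup (Fin (m + 1)) F, ConjClasses.mk u = C ∧
        ((u : Matrix (Fin (m + 1)) (Fin (m + 1)) F) - 1) ^ (m + 1) = 0 ∧
        ((u : Matrix (Fin (m + 1)) (Fin (m + 1)) F) - 1).rank = m + 1 - 1} :=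
    Quotient.lift (fun a => ⟨ConjClasses.mk (w a), w a, rfl, hwmem a⟩) fun a b h =>
      Subtype.ext (ConjClasses.mk_eq_mk_iff_isConj.mpr ((hiff a b).mpr (QuotientGroup.leftRel_apply.mp h)))
  have hφ : Function.Bijective φ := by
    constructor
    · intro x y
      induction x using QuotientGroup.induction_on
      induction y using QuotientGroup.induction_on
      intro h
      exact QuotientGroup.eq.mpr ((hiff _ _).mp (ConjClasses.mk_eq_mk_iff_isConj.mp (congrArg Subtype.val h)))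
    · rintro ⟨C, u, rfl, hu, hur⟩
      obtain ⟨c, hc⟩ := exists_conj hn hN hNr hu hur
      refine ⟨QuotientGroup.mk (Matrix.GeneralLinearGroup.det c), Subtype.ext ?_⟩
      refine ConjClasses.mk_eq_mk_iff_isConj.mpr (isConj_iff.mpr
        ⟨⟨((c * (d (Matrix.GeneralLinearGroup.det c))⁻¹ : GL (Fin (m + 1)) F) :
          Matrix (Fin (m + 1)) (Fin (m + 1)) F), ?_⟩, ?_⟩)
      · rw [Units.val_mul, Matrix.det_mul, Matrix.coe_units_inv, Matrix.det_nonsing_inv, hd,
          Matrix.GeneralLinearGroup.val_det_apply, Ring.inverse_eq_inv', mul_inv_cancel₀ c.det_ne_zero]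
      · set a := Matrix.GeneralLinearGroup.det c
        refine mul_inv_eq_iff_eq_mul.mpr (Subtype.ext ?_)
        show ((c * (d a)⁻¹ : GL (Fin (m + 1)) F) : Matrix (Fin (m + 1)) (Fin (m + 1)) F) *
            ((d a * u₀ * (d a)⁻¹ : GL (Fin (m + 1)) F) : Matrix (Fin (m + 1)) (Fin (m + 1)) F) =
          u.1 * ((c * (d a)⁻¹ : GL (Fin (m + 1)) F) : Matrix (Fin (m + 1)) (Fin (m + 1)) F)
        rw [← Units.val_mul, show c * (d a)⁻¹ * (d a * u₀ * (d a)⁻¹) = c * u₀ * (d a)⁻¹ by group,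
          Units.val_mul, Units.val_mul, Units.val_mul, hu₀, ← mul_assoc u.1]
        congr 1
        rw [mul_add, mul_one, hc, sub_mul, one_mul, add_sub_cancel]
  rw [← Nat.card_congr (Equiv.ofBijective φ hφ)]
  show R.index = _
  rw [hR, IsCyclic.index_powMonoidHom_range, Nat.card_units, Nat.card_eq_fintype_card, hF, Nat.gcd_comm]

end CfsgLib.Classical.RegularUnipotent
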