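import Mathlib

set_option autoImplicit false

/-!
Reflections of a quadratic form in any characteristic, and Witt extension for anisotropic forms.
-/

namespace CfsgLib.Classical

open QuadraticMap

variable {F V : Type*} [Field F] [AddCommGroup V] [Module F V] (Q : QuadraticForm F V)

/-- The linear map `v ↦ v - (B(v,d)/Q(d)) d`. -/
noncomputable def quadReflectionMap (d : V) : V →ₗ[F] V :=
  LinearMap.id - ((Q d)⁻¹ • polarBilin Q d).smulRight d

theorem quadReflectionMap_apply (d v : V) :
    quadReflectionMap Q d v = v - ((Q d)⁻¹ * polar Q d v) • d := by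
  simp [quadReflectionMap]

theorem quadReflectionMap_involutive {d : V} (hd : Q d ≠ 0) :
    Function.Involutive (quadReflectionMap Q d) := by
  intro v
  simp only [quadReflectionMap_apply, sub_eq_add_neg, polar_add_right, polar_neg_right,
    polar_smul_right, polar_self, smul_eq_mul, nsmul_eq_mul, Nat.cast_ofNat]
  match_scalars <;> field_simp <;> ring

theorem quadReflectionMap_map {d : V} (hd : Q d ≠ 0) (v : V) :
    Q (quadReflectionMap Q d v) = Q v := by
  rw [quadReflectionMap_apply, sub_eq_add_neg, ← neg_smul, QuadraticMap.map_add (⇑Q),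
    QuadraticMap.map_smul, polar_smul_right, polar_comm Q v d]
  simp only [smul_eq_mul]
  field_simp
  ring

/-- The reflection in a non-singular vector, as an isometry. -/
noncomputable def quadReflection {d : V} (hd : Q d ≠ 0) : Q.IsometryEquiv Q :=
  { LinearEquiv.ofInvolutive (quadReflectionMap Q d) (quadReflectionMap_involutive Q hd) with
    map_app' := fun v => quadReflectionMap_map Q hd v }

theorem quadReflection_apply {d : V} (hd : Q d ≠ 0) (v : V) :
    quadReflection Q hd v = v - ((Q d)⁻¹ * polar Q d v) • d :=
  quadReflectionMap_apply Q d v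

/-- For an anisotropic form, a family with prescribed values of `Q` and of the polar form is carried
to any other such family by an isometry. -/
theorem exists_isometry_of_anisotropic (hQ : Q.Anisotropic) {ι : Type*} (s : Finset ι) (x y : ι → V)
    (h1 : ∀ i, Q (x i) = Q (y i)) (h2 : ∀ i j, polar Q (x i) (x j) = polar Q (y i) (y j)) :
    ∃ φ : Q.IsometryEquiv Q, ∀ i ∈ s, φ (x i) = y i := by
  classical
  induction s using Finset.induction with
  | empty => exact ⟨QuadraticMap.IsometryEquiv.refl Q, by simp⟩
  | insert j s _ ih =>
    obtain ⟨φ, hφ⟩ := ih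
    have hp : ∀ v w, polar Q (φ v) (φ w) = polar Q v w := by
      intro v w
      have hadd : φ (v + w) = φ v + φ w := φ.toLinearEquiv.map_add v w
      simp only [polar, ← hadd, φ.map_app]
    by_cases hd : φ (x j) - y j = 0
    · refine ⟨φ, fun i hi => ?_⟩
      rcases Finset.mem_insert.mp hi with rfl | hi
      · exact sub_eq_zero.mp hd
      · exact hφ i hi
    · have hQd : Q (φ (x j) - y j) ≠ 0 := fun h => hd (hQ _ h)
      refine ⟨φ.trans (quadReflection Q hQd), fun i hi => ?_⟩
      show quadReflection Q hQd (φ (x i)) = y i
      rw [quadReflection_apply]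
      rcases Finset.mem_insert.mp hi with rfl | hi
      · have hQz : Q (φ (x i)) = Q (y i) := by rw [φ.map_app, h1]
        have e : polar Q (φ (x i) - y i) (φ (x i)) = Q (φ (x i) - y i) := by
          rw [sub_eq_add_neg, polar_add_left, polar_self, polar_neg_left, QuadraticMap.map_add (⇑Q),
            QuadraticMap.map_neg, polar_neg_right, polar_comm Q (y i), ← hQz, nsmul_eq_mul]
          ring
        rw [e, inv_mul_cancel₀ hQd, one_smul, sub_sub_cancel]
      · have e : polar Q (φ (x j) - y j) (φ (x i)) = 0 := by
          rw [sub_eq_add_neg, polar_add_left, polar_neg_left, hp, hφ i hi, h2, add_neg_cancel]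
        rw [e, mul_zero, zero_smul, sub_zero, hφ i hi]

end CfsgLib.Classical
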