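import Cfsg.Agent.Lib.Classical.AschClifford

set_option autoImplicit false
set_option linter.unusedSectionVars false

/-!
A normal subgroup of an irreducible matrix group is scalar, absolutely irreducible, splits into several
components, gives an extension field, or gives a tensor decomposition.
-/

namespace CfsgLib.Asch

open Matrix
open Cfsg.Geo (matrixSet scalars mem_scalars_iff ActsIrreducibly ActsAbsolutelyIrreducibly IsFieldSubalgebra
  subalgebraNormalizer tensorProductSubgroup kroneckerSubgroup)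
open CfsgLib.PrimeDim (Inv Nml cent mem_cent cent_isField cent_normalized)
open scoped MatrixGroups Kronecker

variable {F : Type*} [Field F] {n m t : ℕ}

/-- The matrix of `x` in the coordinates given by `e` and `P`. -/
def coord (e : Fin n ≃ Fin m × Fin t) (P : GL (Fin n) F) (x : Matrix (Fin n) (Fin n) F) :
    Matrix (Fin m × Fin t) (Fin m × Fin t) F :=
  ((↑P⁻¹ : Matrix (Fin n) (Fin n) F) * x * (P : Matrix (Fin n) (Fin n) F)).submatrix e.symm e.symm

theorem coord_mul (e : Fin n ≃ Fin m × Fin t) (P : GL (Fin n) F) (x y : Matrix (Fin n) (Fin n) F) :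
    coord e P (x * y) = coord e P x * coord e P y := by
  rw [coord, coord, coord, Matrix.submatrix_mul_equiv]
  congr 1
  simp only [mul_assoc, Units.mul_inv_cancel_left]

theorem coord_injective (e : Fin n ≃ Fin m × Fin t) (P : GL (Fin n) F) : Function.Injective (coord e P) := by
  intro x y h
  have h1 : (↑P⁻¹ : Matrix (Fin n) (Fin n) F) * x * (P : Matrix (Fin n) (Fin n) F) =
      (↑P⁻¹ : Matrix (Fin n) (Fin n) F) * y * (P : Matrix (Fin n) (Fin n) F) := by
    ext i i'
    have := congrFun (congrFun h (e i)) (e i')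
    simpa [coord] using this
  exact (Units.mul_right_inj _).1 ((Units.mul_left_inj _).1 h1)

/-- The embedding `a ↦ P (a ⊗ 1) P⁻¹`. -/
def emb (e : Fin n ≃ Fin m × Fin t) (P : GL (Fin n) F) : Matrix (Fin m) (Fin m) F →ₐ[F] Matrix (Fin n) (Fin n) F where
  toFun a := (P : Matrix (Fin n) (Fin n) F) * (kroneckerMap (fun x y => x * y) a (1 : Matrix (Fin t) (Fin t) F)).submatrix e e * (↑P⁻¹ : Matrix (Fin n) (Fin n) F)
  map_one' := by rw [one_kronecker_one, Matrix.submatrix_one_equiv, mul_one, Units.mul_inv]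
  map_mul' a b := by
    conv_lhs => rw [show (1 : Matrix (Fin t) (Fin t) F) = 1 * 1 from (one_mul 1).symm, mul_kronecker_mul,
      ← Matrix.submatrix_mul_equiv _ _ e e e]
    simp only [mul_assoc, Units.inv_mul_cancel_left]
  map_zero' := by simp
  map_add' a b := by
    rw [add_kronecker, Matrix.submatrix_add]
    simp only [Pi.add_apply, mul_add, add_mul]
  commutes' c := by
    rw [Algebra.algebraMap_eq_smul_one, Algebra.algebraMap_eq_smul_one, smul_kronecker, one_kronecker_one,
      Matrix.submatrix_smul]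
    simp only [Pi.smul_apply, Matrix.submatrix_one_equiv, mul_smul_comm, smul_mul_assoc, mul_one, Units.mul_inv]

theorem coord_emb (e : Fin n ≃ Fin m × Fin t) (P : GL (Fin n) F) (a : Matrix (Fin m) (Fin m) F) :
    coord e P (emb e P a) = a ⊗ₖ (1 : Matrix (Fin t) (Fin t) F) := by
  show coord e P ((P : Matrix (Fin n) (Fin n) F) *
    (kroneckerMap (fun x y => x * y) a (1 : Matrix (Fin t) (Fin t) F)).submatrix e e *
      (↑P⁻¹ : Matrix (Fin n) (Fin n) F)) = _
  unfold coord
  rw [mul_assoc (P : Matrix (Fin n) (Fin n) F), Units.inv_mul_cancel_left, mul_assoc, Units.inv_mul, mul_one,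
    Matrix.submatrix_submatrix, Equiv.self_comp_symm, Matrix.submatrix_id_id]

theorem emb_injective (e : Fin n ≃ Fin m × Fin t) (P : GL (Fin n) F) (ht : 1 ≤ t) :
    Function.Injective (emb e P) := by
  intro a b h
  have h1 := congrArg (coord e P) h
  rw [coord_emb, coord_emb] at h1
  ext i j
  have := congrFun (congrFun h1 (i, ⟨0, ht⟩)) (j, ⟨0, ht⟩)
  simpa using this

/-- The data of a normalised extension field inside the centralising algebra. -/
def ExtData (H N : Subgroup (GL (Fin n) F)) (d : ℕ) (K : Subalgebra F (Matrix (Fin n) (Fin n) F)) : Prop :=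
  IsFieldSubalgebra d K ∧ H ≤ subalgebraNormalizer K ∧
    ∀ k, k ∈ K ↔ k ∈ cent (matrixSet N) ∧ ∀ M ∈ cent (matrixSet N), k * M = M * k

/-- The data of a tensor decomposition. -/
def TensorData (H N : Subgroup (GL (Fin n) F)) (m t : ℕ) (ρ : N → Matrix (Fin m) (Fin m) F)
    (e : Fin n ≃ Fin m × Fin t) (P : GL (Fin n) F) : Prop :=
  IsHomog N ρ e P ∧ ActsAbsolutelyIrreducibly (Set.range ρ) ∧
    ∀ h ∈ H, ∃ (A : GL (Fin m) F) (C : GL (Fin t) F),
      coord e P (h : Matrix (Fin n) (Fin n) F) = (A : Matrix (Fin m) (Fin m) F) ⊗ₖ (C : Matrix (Fin t) (Fin t) F)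

theorem mem_tensor {e : Fin n ≃ Fin m × Fin t} {P h : GL (Fin n) F} {A : GL (Fin m) F} {C : GL (Fin t) F}
    (hh : coord e P (h : Matrix (Fin n) (Fin n) F) = (A : Matrix (Fin m) (Fin m) F) ⊗ₖ (C : Matrix (Fin t) (Fin t) F)) :
    h ∈ tensorProductSubgroup m t e P := by
  let g : GL (Fin m × Fin t) F := Cfsg.Geo.glReindex e (P⁻¹ * h * P)
  refine ⟨Cfsg.Geo.glReindex e.symm g, ⟨g, ⟨A, C, hh⟩, rfl⟩, ?_⟩
  have e1 : Cfsg.Geo.glReindex e.symm g = P⁻¹ * h * P := Units.ext (Matrix.ext fun i j => by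
    simp [g, Cfsg.Geo.glReindex])
  rw [e1]
  simp [mul_assoc]

theorem TensorData.le {H N : Subgroup (GL (Fin n) F)} {ρ : N → Matrix (Fin m) (Fin m) F}
    {e : Fin n ≃ Fin m × Fin t} {P : GL (Fin n) F} (h : TensorData H N m t ρ e P) :
    H ≤ tensorProductSubgroup m t e P := fun g hg => by
  obtain ⟨A, C, hh⟩ := h.2.2 g hg
  exact mem_tensor hh

theorem cent_of_blocks [Finite F] {N : Subgroup (GL (Fin n) F)} {ρ : N → Matrix (Fin m) (Fin m) F}
    {e : Fin n ≃ Fin m × Fin t} {P : GL (Fin n) F} (hρ : IsHomog N ρ e P) {g : Matrix (Fin n) (Fin n) F}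
    (hg : ∀ j k, blk (coord e P g) j k ∈ cent (Set.range ρ)) : g ∈ cent (matrixSet N) := by
  refine mem_cent.2 ?_
  rintro _ ⟨x, hx, rfl⟩
  apply coord_injective e P
  have hx' : coord e P (x : Matrix (Fin n) (Fin n) F) = ρ ⟨x, hx⟩ ⊗ₖ (1 : Matrix (Fin t) (Fin t) F) :=
    hρ.kron ⟨x, hx⟩
  rw [coord_mul, coord_mul, hx']
  refine blk_ext fun j k => ?_
  rw [blk_kron_mul, blk_mul_kron, mem_cent.1 (hg j k) _ ⟨⟨x, hx⟩, rfl⟩]

theorem ext_or_tensor [Finite F] {H N : Subgroup (GL (Fin n) F)}
    (hN : Nml H N) {ρ : N → Matrix (Fin m) (Fin m) F} {e : Fin n ≃ Fin m × Fin t} {P : GL (Fin n) F}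
    (hρ : IsHomog N ρ e P) (hm : 1 ≤ m) (ht : 1 ≤ t) :
    (∃ d K, 2 ≤ d ∧ ExtData H N d K) ∨ TensorData H N m t ρ e P := by
  classical
  haveI : Nonempty (Fin m) := ⟨⟨0, hm⟩⟩
  set K₀ := cent (Set.range ρ) with hK₀
  have hfield := cent_isField hm hρ.irr
  by_cases hd : 2 ≤ Module.finrank F K₀
  · refine Or.inl ⟨_, K₀.map (emb e P), hd, ⟨⟨?_, ?_, ?_⟩, ?_, ?_⟩⟩
    · rintro _ ⟨a, ha, rfl⟩ _ ⟨b, hb, rfl⟩
      show emb e P a * emb e P b = emb e P b * emb e P a
      rw [← map_mul, ← map_mul, hfield.comm a ha b hb]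
    · rintro _ ⟨a, ha, rfl⟩ h0
      obtain ⟨b, hb, hab⟩ := hfield.inv a ha fun e0 => h0 (by rw [e0]; exact map_zero (emb e P))
      refine ⟨emb e P b, ⟨b, hb, rfl⟩, ?_⟩
      show emb e P a * emb e P b = 1
      rw [← map_mul, hab, map_one]
    · exact (Subalgebra.equivMapOfInjective _ _ (emb_injective e P ht)).toLinearEquiv.finrank_eq.symm
    · have key : ∀ h ∈ H, ∀ k ∈ K₀.map (emb e P),
          (h : Matrix (Fin n) (Fin n) F) * k * (↑h⁻¹ : Matrix (Fin n) (Fin n) F) ∈ K₀.map (emb e P) := by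
        rintro h hh _ ⟨k, hk, rfl⟩
        obtain ⟨A, hA, hblk⟩ := hρ.normalizer hm ht hN hh
        have hAk : (A : Matrix (Fin m) (Fin m) F) * k * (↑A⁻¹ : Matrix (Fin m) (Fin m) F) ∈ K₀ := by
          refine mem_cent.2 ?_
          rintro _ ⟨y, rfl⟩
          let x : N := ⟨h⁻¹ * y * h, hN.conj' hh y.2⟩
          have hy : (⟨h * x * h⁻¹, hN.conj h hh x x.2⟩ : N) = y := Subtype.ext (by simp [x, mul_assoc])
          have h1 := hA x
          rw [hy] at h1
          have h2 : (↑A⁻¹ : Matrix (Fin m) (Fin m) F) * ρ y = ρ x * (↑A⁻¹ : Matrix (Fin m) (Fin m) F) := by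
            calc (↑A⁻¹ : Matrix (Fin m) (Fin m) F) * ρ y
                = (↑A⁻¹ : Matrix (Fin m) (Fin m) F) * (ρ y * A) * ↑A⁻¹ := by simp [mul_assoc]
              _ = _ := by rw [← h1]; simp [← mul_assoc]
          calc ρ y * ((A : Matrix (Fin m) (Fin m) F) * k * ↑A⁻¹)
              = (A : Matrix (Fin m) (Fin m) F) * (ρ x * k) * (↑A⁻¹ : Matrix (Fin m) (Fin m) F) := by
                rw [← mul_assoc, ← mul_assoc, ← h1, mul_assoc (A : Matrix (Fin m) (Fin m) F)]
            _ = (A : Matrix (Fin m) (Fin m) F) * (k * ρ x) * (↑A⁻¹ : Matrix (Fin m) (Fin m) F) := by rw [mem_cent.1 hk _ ⟨x, rfl⟩]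
            _ = _ := by rw [← mul_assoc, mul_assoc _ (ρ x), ← h2, ← mul_assoc]
        refine ⟨_, hAk, ?_⟩
        show emb e P _ = (h : Matrix (Fin n) (Fin n) F) * emb e P k * (↑h⁻¹ : Matrix (Fin n) (Fin n) F)
        have h3 : (h : Matrix (Fin n) (Fin n) F) * emb e P k =
            emb e P ((A : Matrix (Fin m) (Fin m) F) * k * (↑A⁻¹ : Matrix (Fin m) (Fin m) F)) * (h : Matrix (Fin n) (Fin n) F) := by
          apply coord_injective e P
          rw [coord_mul, coord_mul, coord_emb, coord_emb]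
          refine blk_ext fun j l => ?_
          rw [blk_mul_kron, blk_kron_mul]
          obtain ⟨c, hc, e'⟩ := hblk j l
          rw [show blk (coord e P (h : Matrix (Fin n) (Fin n) F)) j l = (A : Matrix (Fin m) (Fin m) F) * c from e',
            mul_assoc, hfield.comm c hc k hk]
          simp only [mul_assoc, Units.inv_mul_cancel_left]
        rw [h3, mul_assoc _ _ (↑h⁻¹ : Matrix (Fin n) (Fin n) F), Units.mul_inv, mul_one]
      intro h hh k
      refine ⟨key h hh k, fun hk => ?_⟩
      have := key h⁻¹ (inv_mem hh) _ hk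
      simpa [mul_assoc] using this
    · intro k
      constructor
      · rintro ⟨a, ha, rfl⟩
        have hmem : emb e P a ∈ cent (matrixSet N) := cent_of_blocks hρ fun j l => by
          rw [coord_emb]
          by_cases hjl : j = l
          · subst hjl
            have : blk (a ⊗ₖ (1 : Matrix (Fin t) (Fin t) F)) j j = a := by
              ext i i'
              simp [blk]
            rw [this]
            exact ha
          · convert zero_mem K₀ using 1
            ext i i'
            simp [blk, hjl]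
        refine ⟨hmem, fun M hM => coord_injective e P ?_⟩
        show coord e P (emb e P a * M) = coord e P (M * emb e P a)
        rw [coord_mul, coord_mul, coord_emb]
        refine blk_ext fun j l => ?_
        rw [blk_mul_kron, blk_kron_mul]
        exact hfield.comm a ha _ (hρ.blk_cent hM j l)
      · rintro ⟨hk, hcomm⟩
        let j₀ : Fin t := ⟨0, ht⟩
        refine ⟨blk (coord e P k) j₀ j₀, hρ.blk_cent hk j₀ j₀, coord_injective e P ?_⟩
        show coord e P (emb e P _) = _
        rw [coord_emb]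
        -- a matrix unit in the second factor lies in the centraliser
        have hunit : ∀ a b : Fin t, ∃ M ∈ cent (matrixSet N),
            coord e P M = (1 : Matrix (Fin m) (Fin m) F) ⊗ₖ Matrix.single a b (1 : F) := by
          intro a b
          refine ⟨(P : Matrix (Fin n) (Fin n) F) * ((1 : Matrix (Fin m) (Fin m) F) ⊗ₖ Matrix.single a b (1 : F)).submatrix e e *
            (↑P⁻¹ : Matrix (Fin n) (Fin n) F), cent_of_blocks hρ fun j l => ?_, ?_⟩
          · simp only [coord, mul_assoc, Units.inv_mul_cancel_left, Units.inv_mul, mul_one, Matrix.submatrix_submatrix]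
            by_cases h : a = j ∧ b = l
            · convert (Subalgebra.one_mem K₀) using 1
              ext i i'
              simp [blk, Matrix.single, h.1, h.2]
            · convert zero_mem K₀ using 1
              ext i i'
              simp [blk, Matrix.single, h]
          · simp only [coord, mul_assoc, Units.inv_mul_cancel_left, Units.inv_mul, mul_one, Matrix.submatrix_submatrix]
            simp
        set G := coord e P k with hG
        refine blk_ext fun j l => ?_
        obtain ⟨M, hM, hMG⟩ := hunit j j₀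
        have h := congrArg (fun X => blk (coord e P X) j j₀) (hcomm M hM)
        simp only [coord_mul, hMG, ← hG] at h
        have e1 : ∀ l', blk ((1 : Matrix (Fin m) (Fin m) F) ⊗ₖ Matrix.single j j₀ (1 : F) * G) j l' = blk G j₀ l' := by
          intro l'
          ext i i'
          simp [blk, Matrix.mul_apply, Fintype.sum_prod_type, Matrix.one_apply, Matrix.single]
        have e2 : ∀ l', blk (G * ((1 : Matrix (Fin m) (Fin m) F) ⊗ₖ Matrix.single j j₀ (1 : F))) l' j₀ = blk G l' j := by
          intro l'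
          ext i i'
          simp [blk, Matrix.mul_apply, Fintype.sum_prod_type, Matrix.one_apply, Matrix.single]
        rw [e1, e2] at h
        by_cases hjl : j = l
        · subst hjl
          rw [h]
          ext i i'
          simp [blk]
        · obtain ⟨M', hM', hMG'⟩ := hunit j₀ j
          have h' := congrArg (fun X => blk (coord e P X) j₀ l) (hcomm M' hM')
          simp only [coord_mul, hMG', ← hG] at h'
          have e3 : blk ((1 : Matrix (Fin m) (Fin m) F) ⊗ₖ Matrix.single j₀ j (1 : F) * G) j₀ l = blk G j l := by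
            ext i i'
            simp [blk, Matrix.mul_apply, Fintype.sum_prod_type, Matrix.one_apply, Matrix.single]
          have e4 : blk (G * ((1 : Matrix (Fin m) (Fin m) F) ⊗ₖ Matrix.single j₀ j (1 : F))) j₀ l = 0 := by
            ext i i'
            simp [blk, Matrix.mul_apply, Fintype.sum_prod_type, Matrix.one_apply, Matrix.single, hjl]
          rw [e3, e4] at h'
          rw [← h']
          ext i i'
          simp [blk, hjl]
  · have h1 : Module.finrank F K₀ = 1 := by
      have : 0 < Module.finrank F K₀ := Module.finrank_pos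
      omega
    have habs := PrimeDim.absIrreducible_of_finrank_one hm hρ.irr h1
    refine Or.inr ⟨hρ, habs, fun h hh => ?_⟩
    obtain ⟨A, -, hblk⟩ := hρ.normalizer hm ht hN hh
    have : ∀ j k, ∃ c : F, blk (coord e P (h : Matrix (Fin n) (Fin n) F)) j k = c • (A : Matrix (Fin m) (Fin m) F) := by
      intro j k
      obtain ⟨c, hc, e'⟩ := hblk j k
      rw [← hK₀, Subalgebra.eq_bot_of_finrank_one h1, Algebra.mem_bot] at hc
      obtain ⟨c, rfl⟩ := hc
      refine ⟨c, (show blk (coord e P (h : Matrix (Fin n) (Fin n) F)) j k = _ from e').trans ?_⟩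
      rw [Algebra.algebraMap_eq_smul_one, mul_smul_comm, mul_one]
    choose C hC using this
    have hG : coord e P (h : Matrix (Fin n) (Fin n) F) = (A : Matrix (Fin m) (Fin m) F) ⊗ₖ Matrix.of C := by
      refine blk_ext fun j k => ?_
      rw [hC]
      ext i i'
      simp [blk, mul_comm]
    have hunit : IsUnit (coord e P (h : Matrix (Fin n) (Fin n) F)) := by
      have := (P⁻¹ * h * P).isUnit
      rw [Matrix.isUnit_iff_isUnit_det] at this ⊢
      rw [coord, Matrix.det_submatrix_equiv_self]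
      exact this
    rw [hG, Matrix.isUnit_iff_isUnit_det, Matrix.det_kronecker, Fintype.card_fin, Fintype.card_fin,
      IsUnit.mul_iff] at hunit
    obtain ⟨C', hC'⟩ := (Matrix.isUnit_iff_isUnit_det _).2 (isUnit_pow_iff (by omega : m ≠ 0) |>.1 hunit.2)
    exact ⟨A, C', by rw [hG, hC']⟩

/-- The five cases. -/
theorem clifford_cases [Finite F] (hn : 1 ≤ n) {H N : Subgroup (GL (Fin n) F)}
    (hH : ActsIrreducibly (matrixSet H)) (hN : Nml H N) :
    N ≤ scalars (Fin n) F ∨ SplitCase H N ∨ (∃ d K, 2 ≤ d ∧ ExtData H N d K) ∨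
      (∃ m t ρ e P, 2 ≤ m ∧ 2 ≤ t ∧ TensorData H N m t ρ e P) ∨ ActsAbsolutelyIrreducibly (matrixSet N) := by
  classical
  rcases split_or_homogeneous hn hH hN with h | ⟨W, hW, htop⟩
  · exact Or.inr (Or.inl h)
  obtain ⟨m, t, ρ, e, P, hm, ht, hρ⟩ := exists_homog hn (semisimple_of_normal hH hN) hW htop
  rcases ext_or_tensor hN hρ hm ht with h | h
  · exact Or.inr (Or.inr (Or.inl h))
  by_cases hm2 : 2 ≤ m
  swap
  · -- scalars
    refine Or.inl fun x hx => (mem_scalars_iff x).2 ?_
    haveI : Subsingleton (Fin m) := ⟨fun a b => Fin.ext (by omega)⟩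
    let a : Fin m := ⟨0, hm⟩
    have hx' : (x : Matrix (Fin n) (Fin n) F) = ρ ⟨x, hx⟩ a a • (1 : Matrix (Fin n) (Fin n) F) := by
      apply coord_injective e P
      rw [show coord e P (x : Matrix (Fin n) (Fin n) F) = _ from hρ.kron ⟨x, hx⟩]
      have h1 : ρ ⟨x, hx⟩ = ρ ⟨x, hx⟩ a a • (1 : Matrix (Fin m) (Fin m) F) := by
        ext i j
        rw [Subsingleton.elim i a, Subsingleton.elim j a]
        simp
      conv_lhs => rw [h1]
      rw [smul_kronecker, one_kronecker_one, coord]
      simp [Matrix.submatrix_smul]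
    haveI : Nonempty (Fin n) := ⟨⟨0, hn⟩⟩
    refine ⟨Units.mk0 _ fun e0 => x.ne_zero ?_, hx'⟩
    rw [hx', e0, zero_smul]
  by_cases ht2 : 2 ≤ t
  · exact Or.inr (Or.inr (Or.inr (Or.inl ⟨m, t, ρ, e, P, hm2, ht2, h⟩)))
  -- one copy
  refine Or.inr (Or.inr (Or.inr (Or.inr ?_)))
  obtain ⟨-, habs, -⟩ := h
  haveI : Subsingleton (Fin t) := ⟨fun a b => Fin.ext (by omega)⟩
  let j₀ : Fin t := ⟨0, ht⟩
  have hcent : ∀ M : Matrix (Fin n) (Fin n) F, (∀ s ∈ matrixSet N, M * s = s * M) → ∃ c : F, M = c • 1 := by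
    intro M hM
    obtain ⟨c, hc⟩ := habs.2 (blk (coord e P M) j₀ j₀) fun s hs =>
      (mem_cent.1 (hρ.blk_cent (mem_cent.2 fun s hs => (hM s hs).symm) j₀ j₀) s hs).symm
    refine ⟨c, coord_injective e P (blk_ext fun j k => ?_)⟩
    rw [Subsingleton.elim j j₀, Subsingleton.elim k j₀, hc]
    ext i i'
    simp [coord, blk, Matrix.submatrix_smul, Matrix.one_apply]
  refine ⟨PrimeDim.irreducible_iff.2 fun U hU => ?_, hcent⟩
  obtain ⟨p, hp, hpU, hpid⟩ := semisimple_of_normal hH hN U hU
  obtain ⟨c, hc⟩ := hcent p fun s hs => (mem_cent.1 hp s hs).symm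
  by_cases hc0 : c = 0
  · exact Or.inl ((Submodule.eq_bot_iff _).2 fun u hu => by rw [← hpid u hu, hc, hc0, zero_smul, zero_mulVec])
  · refine Or.inr (eq_top_iff.2 fun v _ => ?_)
    have := hpU (c⁻¹ • v)
    rwa [hc, smul_mulVec, one_mulVec, smul_inv_smul₀ hc0] at this

/-! ### Subfields of prime degree -/

/-- A normalised field contains a normalised field of every prime degree dividing its own. -/
theorem exists_subfield_degree [Finite F] {d r : ℕ} (hr : r ∣ d) (hd : 0 < d)
    {K : Subalgebra F (Matrix (Fin n) (Fin n) F)} (hK : IsFieldSubalgebra d K) :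
    ∃ L : Subalgebra F (Matrix (Fin n) (Fin n) F), L ≤ K ∧ IsFieldSubalgebra r L ∧
      subalgebraNormalizer K ≤ subalgebraNormalizer L := by
  classical
  haveI := Fintype.ofFinite F
  have hr0 : 0 < r := Nat.pos_of_dvd_of_pos hr hd
  haveI : Finite K := Finite.of_injective _ Subtype.val_injective
  have hnt : Nontrivial K := by
    have : 0 < Module.finrank F K := by rw [hK.finrank_eq]; exact hd
    exact Module.finrank_pos_iff.1 this
  have hF : IsField K := ⟨hnt.exists_pair_ne, fun a b => Subtype.ext (hK.comm a a.2 b b.2), fun {a} ha => by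
    obtain ⟨b, hb, hab⟩ := hK.inv a a.2 fun e => ha (Subtype.ext e)
    exact ⟨⟨b, hb⟩, Subtype.ext hab⟩⟩
  letI : Field K := hF.toField
  let φ : K →ₐ[F] K := (FiniteField.frobeniusAlgHom F K) ^ r
  have hφ : ∀ k : K, φ k = k ^ (Fintype.card F ^ r) := fun k => by
    show ((FiniteField.frobeniusAlgHom F K) ^ r) k = _
    rw [AlgHom.coe_pow, FiniteField.coe_frobeniusAlgHom, pow_iterate]
  let L₀ : Subalgebra F K := AlgHom.equalizer φ (AlgHom.id F K)
  have hmemL : ∀ k : K, k ∈ L₀ ↔ k ^ (Fintype.card F ^ r) = k := fun k => by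
    show φ k = AlgHom.id F K k ↔ _
    rw [hφ, AlgHom.id_apply]
  have hcardK : Nat.card K = Fintype.card F ^ d := by
    rw [Module.natCard_eq_pow_finrank (K := F), hK.finrank_eq, Nat.card_eq_fintype_card]
  have hq2 : 2 ≤ Fintype.card F := Fintype.one_lt_card
  have hcardL : Nat.card L₀ = Fintype.card F ^ r := by
    set a := Fintype.card F ^ r with ha
    have ha1 : 1 ≤ a := Nat.one_le_pow _ _ (by omega)
    have ha2 : 2 ≤ a := hq2.trans (Nat.le_self_pow hr0.ne' _)
    have hker : Nat.card (powMonoidHom (α := Kˣ) (a - 1)).ker = a - 1 := by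
      rw [IsCyclic.card_powMonoidHom_ker, Nat.card_units, hcardK]
      refine Nat.gcd_eq_right ?_
      obtain ⟨l, rfl⟩ := hr
      rw [ha, pow_mul]
      exact (Nat.sub_one_dvd_pow_sub_one _ l)
    let f : Option (powMonoidHom (α := Kˣ) (a - 1)).ker → L₀ := fun o => match o with
      | none => 0
      | some u => ⟨((u : Kˣ) : K), (hmemL _).2 (by
          have h1 : (u : Kˣ) ^ (a - 1) = 1 := u.2
          calc ((u : Kˣ) : K) ^ a = ((u : Kˣ) : K) ^ (a - 1 + 1) := by rw [Nat.sub_add_cancel ha1]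
            _ = _ := by rw [pow_succ, ← Units.val_pow_eq_pow_val, h1, Units.val_one, one_mul])⟩
    have hf : Function.Bijective f := by
      refine ⟨fun o o' h => ?_, fun k => ?_⟩
      · rcases o with - | u <;> rcases o' with - | u'
        · rfl
        · exact absurd (congrArg Subtype.val h).symm (u' : Kˣ).ne_zero
        · exact absurd (congrArg Subtype.val h) (u : Kˣ).ne_zero
        · exact congrArg some (Subtype.ext (Units.ext (congrArg Subtype.val h)))
      · by_cases hk : (k : K) = 0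
        · exact ⟨none, Subtype.ext hk.symm⟩
        · refine ⟨some ⟨Units.mk0 _ hk, Units.ext ?_⟩, Subtype.ext rfl⟩
          have h1 := (hmemL k).1 k.2
          rw [← Nat.sub_add_cancel ha1, pow_succ] at h1
          show ((Units.mk0 (k : K) hk) ^ (a - 1) : Kˣ).val = _
          rw [Units.val_pow_eq_pow_val, Units.val_mk0, Units.val_one]
          exact mul_right_cancel₀ hk (h1.trans (one_mul _).symm)
    rw [← Nat.card_eq_of_bijective f hf, Finite.card_option, hker]
    omega
  have hrankL : Module.finrank F L₀ = r := by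
    have h := Module.natCard_eq_pow_finrank (K := F) (V := L₀)
    rw [hcardL, Nat.card_eq_fintype_card] at h
    exact (Nat.pow_right_injective hq2 h).symm
  let L := L₀.map K.val
  have hmemL' : ∀ x : Matrix (Fin n) (Fin n) F, x ∈ L ↔ ∃ hx : x ∈ K, x ^ (Fintype.card F ^ r) = x := by
    intro x
    constructor
    · rintro ⟨k, hk, rfl⟩
      exact ⟨k.2, congrArg Subtype.val ((hmemL k).1 hk)⟩
    · rintro ⟨hx, e⟩
      exact ⟨⟨x, hx⟩, (hmemL _).2 (Subtype.ext e), rfl⟩
  refine ⟨L, fun x hx => ((hmemL' x).1 hx).1, ⟨?_, ?_, ?_⟩, fun g hg k => ?_⟩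
  · intro x hx y hy
    exact hK.comm x ((hmemL' x).1 hx).1 y ((hmemL' y).1 hy).1
  · rintro _ ⟨k, hk, rfl⟩ h0
    have hk0 : k ≠ 0 := fun e => h0 (by rw [e]; rfl)
    refine ⟨_, ⟨k⁻¹, (hmemL _).2 (by rw [inv_pow, (hmemL k).1 hk]), rfl⟩, ?_⟩
    exact congrArg Subtype.val (mul_inv_cancel₀ hk0)
  · rw [← hrankL]
    exact (Subalgebra.equivMapOfInjective L₀ K.val Subtype.val_injective).toLinearEquiv.finrank_eq.symm
  · have hpow : ∀ k : Matrix (Fin n) (Fin n) F, ∀ j : ℕ,
        ((g : Matrix (Fin n) (Fin n) F) * k * (↑g⁻¹ : Matrix (Fin n) (Fin n) F)) ^ j =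
          (g : Matrix (Fin n) (Fin n) F) * k ^ j * (↑g⁻¹ : Matrix (Fin n) (Fin n) F) := fun k j =>
      Units.conj_pow g k j
    rw [hmemL', hmemL']
    constructor
    · rintro ⟨hx, e⟩
      exact ⟨(hg k).1 hx, by rw [hpow, e]⟩
    · rintro ⟨hx, e⟩
      refine ⟨(hg k).2 hx, ?_⟩
      rw [hpow] at e
      exact (Units.mul_right_inj _).1 ((Units.mul_left_inj _).1 e)

end CfsgLib.Asch
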