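import Cfsg.Agent.Lib.Classical.PrimeDimStructure

set_option autoImplicit false
set_option linter.unusedSectionVars false

/-!
Clifford's theorem for irreducible matrix groups of any degree: the homogeneous components of a normal subgroup,
and the block form of its normaliser when there is only one component.
-/

namespace CfsgLib.Asch

open Matrix
open Cfsg.Geo (matrixSet scalars mem_scalars_iff ActsIrreducibly ActsAbsolutelyIrreducibly)
open CfsgLib.PrimeDim (Inv Nml cent mem_cent isUnit_of_comm cent_isField irreducible_iff exists_minimal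
  cent_normalized mulVec_inv_cancel inv_mulVec_cancel mulVec_injective)
open scoped MatrixGroups Kronecker

variable {F : Type*} [Field F] {n : ℕ}

/-! ### Semisimplicity -/

/-- A minimal invariant subspace. -/
structure MinInv (S : Set (Matrix (Fin n) (Fin n) F)) (X : Submodule F (Fin n → F)) : Prop where
  inv : Inv S X
  ne_bot : X ≠ ⊥
  min : ∀ Y, Inv S Y → Y ≤ X → Y = ⊥ ∨ Y = X

/-- Every invariant subspace is the image of an equivariant projection. -/
def Semisimple (S : Set (Matrix (Fin n) (Fin n) F)) : Prop :=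
  ∀ U, Inv S U → ∃ p ∈ cent S, (∀ v, p *ᵥ v ∈ U) ∧ ∀ v ∈ U, p *ᵥ v = v

theorem exists_minInv {S : Set (Matrix (Fin n) (Fin n) F)} {U : Submodule F (Fin n → F)} (hU : Inv S U)
    (h0 : U ≠ ⊥) : ∃ X, MinInv S X ∧ X ≤ U := by
  obtain ⟨X, hle, hX, hX0, hmin⟩ := exists_minimal hU h0
  exact ⟨X, ⟨hX, hX0, hmin⟩, hle⟩

theorem semisimple_of_normal {H N : Subgroup (GL (Fin n) F)} (hH : ActsIrreducibly (matrixSet H))
    (hN : Nml H N) : Semisimple (matrixSet N) := by
  classical
  set S := matrixSet N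
  intro U hU
  -- a maximal invariant subspace disjoint from U
  obtain ⟨Z, ⟨hZ, hZU⟩, hZmax⟩ := (wellFounded_gt (α := Submodule F (Fin n → F))).has_min
    {Z | Inv S Z ∧ U ⊓ Z = ⊥} ⟨⊥, PrimeDim.inv_bot S, inf_bot_eq _⟩
  have htop : U ⊔ Z = ⊤ := by
    by_contra hne
    obtain ⟨W, hW, -⟩ := exists_minInv (S := S) (U := ⊤) (fun s _ v _ => Submodule.mem_top) fun e =>
      hne (by rw [eq_top_iff, e]; exact bot_le)
    -- some conjugate of W lies outside U ⊔ Z
    obtain ⟨h, hh, hWh⟩ : ∃ h ∈ H, ¬ W.map (Matrix.toLin' (h : Matrix (Fin n) (Fin n) F)) ≤ U ⊔ Z := by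
      by_contra hall
      push Not at hall
      let T : Submodule F (Fin n → F) := ⨆ h : H, W.map (Matrix.toLin' ((h : GL (Fin n) F) : Matrix (Fin n) (Fin n) F))
      have hT : Inv (matrixSet H) T := by
        rintro _ ⟨g, hg, rfl⟩ v hv
        have : T.map (Matrix.toLin' (g : Matrix (Fin n) (Fin n) F)) ≤ T := by
          rw [Submodule.map_iSup]
          refine iSup_le fun h => le_iSup_of_le (⟨g, hg⟩ * h) (le_of_eq ?_)
          rw [← Submodule.map_comp, ← Matrix.toLin'_mul, ← Units.val_mul]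
          rfl
        exact this ⟨v, hv, Matrix.toLin'_apply _ _⟩
      rcases irreducible_iff.1 hH T hT with h0 | h0
      · refine hW.ne_bot (eq_bot_iff.2 (le_trans ?_ h0.le))
        exact le_iSup_of_le (1 : H) (by simp)
      · exact hne (top_unique (h0 ▸ iSup_le fun h => hall h h.2))
    set X := W.map (Matrix.toLin' (h : Matrix (Fin n) (Fin n) F))
    have hX : Inv S X := by
      rintro _ ⟨x, hx, rfl⟩ _ ⟨v, hv, rfl⟩
      refine ⟨_, hW.inv _ ⟨_, hN.conj' hh hx, rfl⟩ v hv, ?_⟩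
      simp only [Matrix.toLin'_apply, Units.val_mul, mulVec_mulVec, ← mul_assoc, Units.mul_inv, one_mul]
    have hXmin : ∀ Y, Inv S Y → Y ≤ X → Y = ⊥ ∨ Y = X := by
      intro Y hY hle
      have hinv : Inv S (Y.comap (Matrix.toLin' (h : Matrix (Fin n) (Fin n) F))) := by
        rintro _ ⟨x, hx, rfl⟩ v hv
        rw [Submodule.mem_comap, Matrix.toLin'_apply] at hv ⊢
        have := hY _ ⟨_, hN.conj h hh x hx, rfl⟩ _ hv
        simpa [mulVec_mulVec, mul_assoc] using this
      have e : (Y.comap (Matrix.toLin' (h : Matrix (Fin n) (Fin n) F))).map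
          (Matrix.toLin' (h : Matrix (Fin n) (Fin n) F)) = Y :=
        Submodule.map_comap_eq_of_surjective (fun v => ⟨_, (Matrix.toLin'_apply _ _).trans (mulVec_inv_cancel h v)⟩) Y
      rcases hW.min _ hinv (by
        intro v hv
        obtain ⟨w, hw, e'⟩ := hle hv
        exact mulVec_injective h e' ▸ hw) with h1 | h1
      · exact Or.inl (by rw [← e, h1, Submodule.map_bot])
      · exact Or.inr (by rw [← e, h1])
    have hdis : X ⊓ (U ⊔ Z) = ⊥ :=
      (hXmin _ (PrimeDim.inv_inf hX (PrimeDim.inv_sup hU hZ)) inf_le_left).resolve_right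
        fun e => hWh (inf_eq_left.1 e)
    refine hZmax (Z ⊔ X) ⟨PrimeDim.inv_sup hZ hX, ?_⟩ (lt_of_le_of_ne le_sup_left fun e => hWh ?_)
    · refine (Submodule.eq_bot_iff _).2 fun v hv => ?_
      obtain ⟨z, hz, x, hx, rfl⟩ := Submodule.mem_sup.1 hv.2
      have hx0 : x = 0 := (Submodule.eq_bot_iff _).1 hdis x ⟨hx, by
        rw [show x = (z + x) - z by abel]
        exact Submodule.sub_mem _ (Submodule.mem_sup_left hv.1) (Submodule.mem_sup_right hz)⟩
      subst hx0
      rw [add_zero] at hv ⊢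
      exact (Submodule.eq_bot_iff _).1 hZU z ⟨hv.1, hz⟩
    · exact le_sup_right.trans (e.symm.le.trans le_sup_right)
  have hc : IsCompl U Z := ⟨disjoint_iff.2 hZU, codisjoint_iff.2 htop⟩
  refine ⟨LinearMap.toMatrix' (U.projectionOnto Z hc |> U.subtype.comp), mem_cent.2 ?_, fun v => ?_, fun v hv => ?_⟩
  · rintro _ ⟨x, hx, rfl⟩
    refine Matrix.toLin'.injective (LinearMap.ext fun v => ?_)
    obtain ⟨u, hu, z, hz, rfl⟩ : ∃ u ∈ U, ∃ z ∈ Z, v = u + z := by
      obtain ⟨u, hu, z, hz, e⟩ := Submodule.mem_sup.1 (htop ▸ Submodule.mem_top : v ∈ U ⊔ Z)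
      exact ⟨u, hu, z, hz, e.symm⟩
    simp only [Matrix.toLin'_apply, ← mulVec_mulVec, LinearMap.toMatrix'_mulVec, mulVec_add,
      LinearMap.comp_apply, map_add, Submodule.subtype_apply]
    rw [show u = ((⟨u, hu⟩ : U) : Fin n → F) from rfl, Submodule.projectionOnto_apply_left,
      Submodule.projectionOnto_apply_right hc ⟨z, hz⟩,
      show (x : Matrix (Fin n) (Fin n) F) *ᵥ ((⟨u, hu⟩ : U) : Fin n → F) =
        ((⟨_, hU _ ⟨x, hx, rfl⟩ u hu⟩ : U) : Fin n → F) from rfl, Submodule.projectionOnto_apply_left,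
      Submodule.projectionOnto_apply_right hc ⟨_, hZ _ ⟨x, hx, rfl⟩ z hz⟩]
    simp
  · rw [LinearMap.toMatrix'_mulVec]
    exact (U.projectionOnto Z hc v).2
  · rw [LinearMap.toMatrix'_mulVec, LinearMap.comp_apply,
      show v = ((⟨v, hv⟩ : U) : Fin n → F) from rfl, Submodule.projectionOnto_apply_left]
    rfl

/-! ### Homogeneous components -/

variable {S : Set (Matrix (Fin n) (Fin n) F)}

theorem inv_map_cent {X : Submodule F (Fin n → F)} (hX : Inv S X) {M : Matrix (Fin n) (Fin n) F}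
    (hM : M ∈ cent S) : Inv S (X.map (Matrix.toLin' M)) := by
  rintro s hs _ ⟨v, hv, rfl⟩
  refine ⟨_, hX s hs v hv, ?_⟩
  rw [Matrix.toLin'_apply, Matrix.toLin'_apply, mulVec_mulVec, mulVec_mulVec, mem_cent.1 hM s hs]

theorem MinInv.image {X : Submodule F (Fin n → F)} (hX : MinInv S X) {M : Matrix (Fin n) (Fin n) F}
    (hM : M ∈ cent S) (h0 : X.map (Matrix.toLin' M) ≠ ⊥) :
    MinInv S (X.map (Matrix.toLin' M)) ∧ ∀ v ∈ X, M *ᵥ v = 0 → v = 0 := by
  have hinj : ∀ v ∈ X, M *ᵥ v = 0 → v = 0 := by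
    have hK : Inv S (X ⊓ LinearMap.ker (Matrix.toLin' M)) := PrimeDim.inv_inf hX.inv fun s hs v hv => by
      rw [LinearMap.mem_ker, Matrix.toLin'_apply] at hv ⊢
      rw [mulVec_mulVec, ← mem_cent.1 hM s hs, ← mulVec_mulVec, hv, mulVec_zero]
    rcases hX.min _ hK inf_le_left with h | h
    · exact fun v hv e => (Submodule.eq_bot_iff _).1 h v ⟨hv, LinearMap.mem_ker.2 ((Matrix.toLin'_apply _ _).trans e)⟩
    · refine absurd ?_ h0
      refine (Submodule.eq_bot_iff _).2 ?_
      rintro _ ⟨v, hv, rfl⟩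
      exact LinearMap.mem_ker.1 (inf_eq_left.1 h hv)
  refine ⟨⟨inv_map_cent hX.inv hM, h0, fun Y hY hle => ?_⟩, hinj⟩
  have hinv : Inv S (X ⊓ Y.comap (Matrix.toLin' M)) := PrimeDim.inv_inf hX.inv fun s hs v hv => by
    rw [Submodule.mem_comap, Matrix.toLin'_apply] at hv ⊢
    rw [mulVec_mulVec, ← mem_cent.1 hM s hs, ← mulVec_mulVec]
    exact hY s hs _ hv
  rcases hX.min _ hinv inf_le_left with h | h
  · refine Or.inl ((Submodule.eq_bot_iff _).2 fun y hy => ?_)
    obtain ⟨v, hv, rfl⟩ := hle hy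
    rw [(Submodule.eq_bot_iff _).1 h v ⟨hv, hy⟩, map_zero]
  · refine Or.inr (le_antisymm hle ?_)
    rintro _ ⟨v, hv, rfl⟩
    exact inf_eq_left.1 h hv

/-- The homogeneous component of a minimal invariant subspace. -/
def comp (S : Set (Matrix (Fin n) (Fin n) F)) (X : Submodule F (Fin n → F)) : Submodule F (Fin n → F) :=
  ⨆ M : cent S, X.map (Matrix.toLin' (M : Matrix (Fin n) (Fin n) F))

theorem le_comp (X : Submodule F (Fin n → F)) : X ≤ comp S X :=
  le_iSup_of_le (1 : cent S) (by simp)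

theorem inv_comp {X : Submodule F (Fin n → F)} (hX : Inv S X) : Inv S (comp S X) := by
  intro s hs v hv
  induction hv using Submodule.iSup_induction' with
  | mem M v hv => exact Submodule.mem_iSup_of_mem M (inv_map_cent hX M.2 s hs v hv)
  | zero => rw [mulVec_zero]; exact zero_mem _
  | add v w _ _ hv hw => rw [mulVec_add]; exact add_mem hv hw

theorem cent_comp (X : Submodule F (Fin n → F)) :
    Inv (cent S : Set (Matrix (Fin n) (Fin n) F)) (comp S X) := by
  intro M hM v hv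
  induction hv using Submodule.iSup_induction' with
  | mem M' v hv =>
    obtain ⟨w, hw, rfl⟩ := hv
    refine Submodule.mem_iSup_of_mem (⟨M, hM⟩ * M') ⟨w, hw, ?_⟩
    show _ = M *ᵥ _
    rw [Matrix.toLin'_apply, Matrix.toLin'_apply, mulVec_mulVec]
    rfl
  | zero => rw [mulVec_zero]; exact zero_mem _
  | add v w _ _ hv hw => rw [mulVec_add]; exact add_mem hv hw

theorem comp_mono {X Y : Submodule F (Fin n → F)} (h : Y ≤ comp S X) : comp S Y ≤ comp S X := by
  refine iSup_le fun M => ?_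
  rintro _ ⟨y, hy, rfl⟩
  rw [Matrix.toLin'_apply]
  exact cent_comp X _ M.2 y (h hy)

/-- An equivariant map onto a minimal invariant subspace can be reversed. -/
theorem exists_back (hS : Semisimple S) {X : Submodule F (Fin n → F)} (hX : MinInv S X)
    {M : Matrix (Fin n) (Fin n) F} (hM : M ∈ cent S) (h0 : X.map (Matrix.toLin' M) ≠ ⊥) :
    ∃ M' ∈ cent S, (X.map (Matrix.toLin' M)).map (Matrix.toLin' M') = X := by
  obtain ⟨hY, hinj⟩ := hX.image hM h0
  obtain ⟨p, hp, hpY, hpid⟩ := hS _ hY.inv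
  have hex : ∀ v, ∃ x, x ∈ X ∧ M *ᵥ x = p *ᵥ v := fun v => by
    obtain ⟨x, hx, e⟩ := hpY v
    exact ⟨x, hx, (Matrix.toLin'_apply _ _).symm.trans e⟩
  choose f hfX hf using hex
  have huniq : ∀ v x, x ∈ X → M *ᵥ x = p *ᵥ v → f v = x := fun v x hx e =>
    sub_eq_zero.1 (hinj _ (X.sub_mem (hfX v) hx) (by rw [mulVec_sub, hf, e, sub_self]))
  let L : (Fin n → F) →ₗ[F] (Fin n → F) :=
    { toFun := f
      map_add' := fun v w => huniq _ _ (X.add_mem (hfX v) (hfX w)) (by rw [mulVec_add, mulVec_add, hf, hf])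
      map_smul' := fun c v => huniq _ _ (X.smul_mem _ (hfX v)) (by rw [mulVec_smul, mulVec_smul, hf, RingHom.id_apply]) }
  refine ⟨LinearMap.toMatrix' L, mem_cent.2 fun s hs => Matrix.toLin'.injective (LinearMap.ext fun v => ?_), ?_⟩
  · simp only [Matrix.toLin'_apply, ← mulVec_mulVec, LinearMap.toMatrix'_mulVec]
    refine (huniq _ _ (hX.inv s hs _ (hfX v)) ?_).symm
    rw [mulVec_mulVec, ← mem_cent.1 hM s hs, ← mulVec_mulVec, hf, mulVec_mulVec, mem_cent.1 hp s hs, ← mulVec_mulVec]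
  · rw [Matrix.toLin'_toMatrix']
    apply le_antisymm
    · rintro _ ⟨_, ⟨x, hx, rfl⟩, rfl⟩
      exact hfX _
    · intro x hx
      refine ⟨M *ᵥ x, ⟨x, hx, Matrix.toLin'_apply _ _⟩, huniq _ x hx ?_⟩
      rw [hpid _ ⟨x, hx, Matrix.toLin'_apply _ _⟩]

/-- A minimal subspace in a component is an equivariant image of the generating one. -/
theorem exists_map_of_le_comp (hS : Semisimple S) {X Y : Submodule F (Fin n → F)} (hX : Inv S X)
    (hY : MinInv S Y) (hle : Y ≤ comp S X) :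
    ∃ M ∈ cent S, X.map (Matrix.toLin' M) = Y := by
  obtain ⟨p, hp, hpY, hpid⟩ := hS _ hY.inv
  by_contra hall
  push Not at hall
  apply hY.ne_bot
  refine (Submodule.eq_bot_iff _).2 fun y hy => ?_
  have hker : comp S X ≤ LinearMap.ker (Matrix.toLin' p) := iSup_le fun M => by
    have hpM : p * (M : Matrix (Fin n) (Fin n) F) ∈ cent S := mul_mem hp M.2
    rcases hY.min _ (inv_map_cent hX hpM) (by
      rintro _ ⟨v, -, rfl⟩
      rw [Matrix.toLin'_apply, ← mulVec_mulVec]
      exact hpY _) with h | h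
    · rintro _ ⟨v, hv, rfl⟩
      rw [LinearMap.mem_ker]
      have := (Submodule.eq_bot_iff _).1 h _ ⟨v, hv, rfl⟩
      rwa [Matrix.toLin'_mul, LinearMap.comp_apply] at this
    · exact absurd h (hall _ hpM)
  have h := LinearMap.mem_ker.1 (hker (hle hy))
  rwa [Matrix.toLin'_apply, hpid y hy] at h

theorem comp_eq (hS : Semisimple S) {X Y : Submodule F (Fin n → F)} (hX : MinInv S X) (hY : MinInv S Y)
    (hle : Y ≤ comp S X) : comp S Y = comp S X := by
  refine le_antisymm (comp_mono hle) (comp_mono ?_)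
  obtain ⟨M, hM, rfl⟩ := exists_map_of_le_comp hS hX.inv hY hle
  obtain ⟨M', hM', e⟩ := exists_back hS hX hM hY.ne_bot
  conv_lhs => rw [← e]
  exact le_iSup_of_le (⟨M', hM'⟩ : cent S) le_rfl

/-- The homogeneous components. -/
def comps (S : Set (Matrix (Fin n) (Fin n) F)) : Set (Submodule F (Fin n → F)) :=
  {C | ∃ X, MinInv S X ∧ C = comp S X}

theorem sSupIndep_comps (hS : Semisimple S) : sSupIndep (comps S) := by
  intro C hC
  obtain ⟨X, hX, rfl⟩ := hC
  rw [disjoint_iff]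
  by_contra hne
  have hinv : Inv S (sSup (comps S \ {comp S X})) := by
    rw [sSup_eq_iSup]
    intro s hs v hv
    induction hv using Submodule.iSup_induction' with
    | mem C v hv =>
      induction hv using Submodule.iSup_induction' with
      | mem hC v hv =>
        obtain ⟨X', hX', rfl⟩ := hC.1
        exact Submodule.mem_iSup_of_mem _ (Submodule.mem_iSup_of_mem hC (inv_comp hX'.inv s hs v hv))
      | zero => rw [mulVec_zero]; exact zero_mem _
      | add v w _ _ hv hw => rw [mulVec_add]; exact add_mem hv hw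
    | zero => rw [mulVec_zero]; exact zero_mem _
    | add v w _ _ hv hw => rw [mulVec_add]; exact add_mem hv hw
  obtain ⟨Y, hY, hle⟩ := exists_minInv (PrimeDim.inv_inf (inv_comp hX.inv) hinv) hne
  obtain ⟨p, hp, hpY, hpid⟩ := hS _ hY.inv
  refine hY.ne_bot ((Submodule.eq_bot_iff _).2 fun y hy => ?_)
  have hker : sSup (comps S \ {comp S X}) ≤ LinearMap.ker (Matrix.toLin' p) := by
    refine sSup_le ?_
    rintro _ ⟨⟨X', hX', rfl⟩, hne'⟩ v hv
    rw [LinearMap.mem_ker, Matrix.toLin'_apply]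
    by_contra hv0
    refine hne' ?_
    rw [Set.mem_singleton_iff, ← comp_eq hS hX hY (hle.trans inf_le_left)]
    refine (comp_eq hS hX' hY ?_).symm
    have hmin : Inv S (Y ⊓ comp S X') := PrimeDim.inv_inf hY.inv (inv_comp hX'.inv)
    rcases hY.min _ hmin inf_le_left with h | h
    · exact absurd ((Submodule.eq_bot_iff _).1 h _ ⟨hpY v, cent_comp X' p hp v hv⟩) hv0
    · exact inf_eq_left.1 h
  have h := LinearMap.mem_ker.1 (hker ((hle.trans inf_le_right) hy))
  rwa [Matrix.toLin'_apply, hpid y hy] at h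

/-- An invariant subspace preserved by the centraliser is a sum of components. -/
theorem eq_sSup_comps (hS : Semisimple S) {U : Submodule F (Fin n → F)} (hU : Inv S U)
    (hUc : Inv (cent S : Set (Matrix (Fin n) (Fin n) F)) U) :
    U = sSup {C ∈ comps S | C ≤ U} := by
  refine le_antisymm ?_ (sSup_le fun C hC => hC.2)
  by_contra hne
  set T := sSup {C ∈ comps S | C ≤ U}
  have hT : Inv S T := by
    show Inv S (sSup {C ∈ comps S | C ≤ U})
    rw [sSup_eq_iSup]
    intro s hs v hv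
    induction hv using Submodule.iSup_induction' with
    | mem C v hv =>
      induction hv using Submodule.iSup_induction' with
      | mem hC v hv =>
        obtain ⟨X', hX', rfl⟩ := hC.1
        exact Submodule.mem_iSup_of_mem _ (Submodule.mem_iSup_of_mem hC (inv_comp hX'.inv s hs v hv))
      | zero => rw [mulVec_zero]; exact zero_mem _
      | add v w _ _ hv hw => rw [mulVec_add]; exact add_mem hv hw
    | zero => rw [mulVec_zero]; exact zero_mem _
    | add v w _ _ hv hw => rw [mulVec_add]; exact add_mem hv hw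
  obtain ⟨p, hp, hpT, hpid⟩ := hS T hT
  -- the complement inside U
  let K : Submodule F (Fin n → F) := U ⊓ LinearMap.ker (Matrix.toLin' p)
  have hK : Inv S K := PrimeDim.inv_inf hU fun s hs v hv => by
    rw [LinearMap.mem_ker, Matrix.toLin'_apply] at hv ⊢
    rw [mulVec_mulVec, ← mem_cent.1 hp s hs, ← mulVec_mulVec, hv, mulVec_zero]
  have hK0 : K ≠ ⊥ := fun e => hne fun u hu => by
    have h := (Submodule.eq_bot_iff _).1 e (u - p *ᵥ u) ⟨U.sub_mem hu (hUc p hp u hu), by
      rw [SetLike.mem_coe, LinearMap.mem_ker, Matrix.toLin'_apply, mulVec_sub, hpid _ (hpT u), sub_self]⟩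
    rw [sub_eq_zero.1 h]
    exact hpT u
  obtain ⟨Y, hY, hle⟩ := exists_minInv hK hK0
  have hcompU : comp S Y ≤ U := iSup_le fun M => by
    rintro _ ⟨y, hy, rfl⟩
    rw [Matrix.toLin'_apply]
    exact hUc _ M.2 y (hle hy).1
  have hYT : Y ≤ T := (le_comp Y).trans (le_sSup ⟨⟨Y, hY, rfl⟩, hcompU⟩)
  refine hY.ne_bot ((Submodule.eq_bot_iff _).2 fun y hy => ?_)
  rw [← hpid y (hYT hy)]
  exact (Matrix.toLin'_apply _ _).symm.trans (LinearMap.mem_ker.1 (hle hy).2)

/-- `H` permutes at least two homogeneous components of `N`. -/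
def SplitCase (H N : Subgroup (GL (Fin n) F)) : Prop :=
  ∃ (t m : ℕ) (D : Fin t → Submodule F (Fin n → F)), Cfsg.Geo.IsMDecomposition m D ∧
    H ≤ Cfsg.Geo.decompositionStabilizer D ∧ (∀ i, Inv (matrixSet N) (D i)) ∧
    (∀ i, Inv (cent (matrixSet N) : Set (Matrix (Fin n) (Fin n) F)) (D i)) ∧
    ∀ U, Inv (matrixSet N) U → Inv (cent (matrixSet N) : Set (Matrix (Fin n) (Fin n) F)) U →
      U = ⨆ i ∈ {i | D i ≤ U}, D i

theorem minInv_map {H N : Subgroup (GL (Fin n) F)} (hN : Nml H N) {g : GL (Fin n) F} (hg : g ∈ H)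
    {X : Submodule F (Fin n → F)} (hX : MinInv (matrixSet N) X) :
    MinInv (matrixSet N) (X.map (Matrix.toLin' (g : Matrix (Fin n) (Fin n) F))) ∧
      (comp (matrixSet N) X).map (Matrix.toLin' (g : Matrix (Fin n) (Fin n) F)) =
        comp (matrixSet N) (X.map (Matrix.toLin' (g : Matrix (Fin n) (Fin n) F))) := by
  have hinvmap : ∀ {g : GL (Fin n) F}, g ∈ H → ∀ {Y}, Inv (matrixSet N) Y →
      Inv (matrixSet N) (Y.map (Matrix.toLin' (g : Matrix (Fin n) (Fin n) F))) := by
    intro g hg Y hY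
    rintro _ ⟨x, hx, rfl⟩ _ ⟨v, hv, rfl⟩
    refine ⟨_, hY _ ⟨_, hN.conj' hg hx, rfl⟩ v hv, ?_⟩
    simp only [Matrix.toLin'_apply, Units.val_mul, mulVec_mulVec, ← mul_assoc, Units.mul_inv, one_mul]
  have hcancel : ∀ (Y : Submodule F (Fin n → F)),
      (Y.map (Matrix.toLin' (↑g⁻¹ : Matrix (Fin n) (Fin n) F))).map (Matrix.toLin' (g : Matrix (Fin n) (Fin n) F)) = Y := fun Y => by
    rw [← Submodule.map_comp, ← Matrix.toLin'_mul, Units.mul_inv, Matrix.toLin'_one, Submodule.map_id]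
  refine ⟨⟨hinvmap hg hX.inv, fun e => hX.ne_bot ((Submodule.eq_bot_iff _).2 fun v hv =>
    mulVec_injective g ((Submodule.eq_bot_iff _).1 e _ ⟨v, hv, rfl⟩ |>.trans (map_zero _).symm)), fun Y hY hle => ?_⟩, ?_⟩
  · rcases hX.min _ (hinvmap (inv_mem hg) hY) (by
      rintro _ ⟨y, hy, rfl⟩
      obtain ⟨v, hv, rfl⟩ := hle hy
      rw [Matrix.toLin'_apply, Matrix.toLin'_apply, inv_mulVec_cancel]
      exact hv) with h | h
    · exact Or.inl (by rw [← hcancel Y, h, Submodule.map_bot])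
    · exact Or.inr (by rw [← hcancel Y, h])
  · have key : ∀ M ∈ cent (matrixSet N), (g : Matrix (Fin n) (Fin n) F) * M * (↑g⁻¹ : Matrix (Fin n) (Fin n) F) ∈
        cent (matrixSet N) := fun M hM => (cent_normalized hN hg M).1 hM
    have key' : ∀ M ∈ cent (matrixSet N), (↑g⁻¹ : Matrix (Fin n) (Fin n) F) * M * (g : Matrix (Fin n) (Fin n) F) ∈
        cent (matrixSet N) := fun M hM => by
      have := (cent_normalized hN (inv_mem hg) M).1 hM
      rwa [inv_inv] at this
    unfold comp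
    rw [Submodule.map_iSup]
    refine le_antisymm (iSup_le fun M => ?_) (iSup_le fun M => ?_)
    · refine le_iSup_of_le ⟨_, key M M.2⟩ (le_of_eq ?_)
      rw [← Submodule.map_comp, ← Submodule.map_comp, ← Matrix.toLin'_mul, ← Matrix.toLin'_mul]
      congr 2
      simp [mul_assoc]
    · refine le_iSup_of_le ⟨_, key' M M.2⟩ (le_of_eq ?_)
      rw [← Submodule.map_comp, ← Submodule.map_comp, ← Matrix.toLin'_mul, ← Matrix.toLin'_mul]
      congr 2
      simp [← mul_assoc]

theorem split_or_homogeneous [Finite F] (hn : 1 ≤ n) {H N : Subgroup (GL (Fin n) F)}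
    (hH : ActsIrreducibly (matrixSet H)) (hN : Nml H N) :
    SplitCase H N ∨ ∃ W, MinInv (matrixSet N) W ∧ comp (matrixSet N) W = ⊤ := by
  classical
  haveI : Nonempty (Fin n) := ⟨⟨0, hn⟩⟩
  haveI : Finite (Submodule F (Fin n → F)) := Finite.of_injective _ SetLike.coe_injective
  set S := matrixSet N
  have hS := semisimple_of_normal hH hN
  obtain ⟨W, hW, -⟩ := exists_minInv (S := S) (U := ⊤) (fun s _ v _ => Submodule.mem_top) top_ne_bot
  by_cases hone : comp S W = ⊤
  · exact Or.inr ⟨W, hW, hone⟩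
  refine Or.inl ?_
  haveI := Fintype.ofFinite (comps S)
  set t := Fintype.card (comps S)
  let e : Fin t ≃ comps S := (Fintype.equivFin _).symm
  let D : Fin t → Submodule F (Fin n → F) := fun i => (e i).1
  have hindD : iSupIndep D :=
    ((sSupIndep_iff (comps S)).1 (sSupIndep_comps hS)).comp e.injective
  have hmove : ∀ g ∈ H, ∀ i, ∃ j, (D i).map (Matrix.toLin' (g : Matrix (Fin n) (Fin n) F)) = D j := by
    intro g hg i
    obtain ⟨X, hX, hDi⟩ := (e i).2
    obtain ⟨hX', hc⟩ := minInv_map hN hg hX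
    refine ⟨e.symm ⟨_, _, hX', rfl⟩, ?_⟩
    simp only [D, Equiv.apply_symm_apply]
    rw [hDi, hc]
  have hinvD : ∀ i, Inv S (D i) := fun i => by
    obtain ⟨X, hX, hDi⟩ := (e i).2
    simp only [D, hDi]
    exact inv_comp hX.inv
  have hcD : ∀ i, Inv (cent S : Set (Matrix (Fin n) (Fin n) F)) (D i) := fun i => by
    obtain ⟨X, -, hDi⟩ := (e i).2
    simp only [D, hDi]
    exact cent_comp X
  have hne : ∀ i, D i ≠ ⊥ := fun i h => by
    obtain ⟨X, hX, hDi⟩ := (e i).2
    simp only [D, hDi] at h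
    exact hX.ne_bot (eq_bot_iff.2 ((le_comp X).trans_eq h))
  -- the orbit of one component is everything
  obtain ⟨i₀, hi₀⟩ : ∃ i₀, D i₀ = comp S W := ⟨e.symm ⟨_, W, hW, rfl⟩, by simp [D]⟩
  let O : Set (Fin t) := {i | ∃ g ∈ H, (D i₀).map (Matrix.toLin' (g : Matrix (Fin n) (Fin n) F)) = D i}
  have hOtop : (⨆ i ∈ O, D i) = ⊤ := by
    have hinv : Inv (matrixSet H) (⨆ i ∈ O, D i) := by
      rintro _ ⟨g, hg, rfl⟩ v hv
      have : (⨆ i ∈ O, D i).map (Matrix.toLin' (g : Matrix (Fin n) (Fin n) F)) ≤ ⨆ i ∈ O, D i := by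
        rw [Submodule.map_iSup]
        refine iSup_le fun i => ?_
        rw [Submodule.map_iSup]
        refine iSup_le fun ⟨g', hg', hi⟩ => ?_
        obtain ⟨j, hj⟩ := hmove g hg i
        rw [hj]
        refine le_iSup₂_of_le j ⟨g * g', mul_mem hg hg', ?_⟩ le_rfl
        rw [Units.val_mul, Matrix.toLin'_mul, Submodule.map_comp, hi, hj]
      exact this ⟨v, hv, Matrix.toLin'_apply _ _⟩
    refine (irreducible_iff.1 hH _ hinv).resolve_left fun h => hne i₀ (eq_bot_iff.2 (le_trans ?_ h.le))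
    exact le_iSup₂ (f := fun i (_ : i ∈ O) => D i) i₀ ⟨1, one_mem H, by simp⟩
  have htrans : ∀ i, i ∈ O := by
    intro i
    by_contra hi
    refine hne i (disjoint_self.1 ((hindD i).mono_right ((le_top.trans_eq hOtop.symm).trans ?_)))
    exact iSup₂_le fun j hj => le_iSup₂_of_le j (fun e' => hi (e' ▸ hj)) le_rfl
  refine ⟨t, Module.finrank F (D i₀), D, ⟨?_, ?_, fun i => ?_, hindD, ?_⟩, ?_, hinvD, hcD, fun U hU hUc => ?_⟩
  · by_contra hlt
    apply hone
    rw [← hi₀, ← hOtop]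
    refine le_antisymm (le_iSup₂ (f := fun i (_ : i ∈ O) => D i) i₀ (htrans i₀)) (iSup₂_le fun i _ => ?_)
    have : i = i₀ := Fin.ext (by have := i.isLt; have := i₀.isLt; omega)
    rw [this]
  · exact Nat.pos_of_ne_zero fun h => hne i₀ (Submodule.finrank_eq_zero.1 h)
  · obtain ⟨g, -, hi⟩ := htrans i
    rw [← hi, ← (Submodule.equivMapOfInjective _ (mulVec_injective g) _).finrank_eq]
  · rw [← top_le_iff, ← hOtop]
    exact iSup₂_le fun i _ => le_iSup D i
  · intro g hg
    choose τ hτ using hmove g hg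
    have hτinj : Function.Injective τ := fun a b hab => by
      have h : D a = D b := Submodule.map_injective_of_injective (mulVec_injective g)
        ((hτ a).trans (hab ▸ (hτ b).symm))
      exact e.injective (Subtype.ext h)
    exact ⟨Equiv.ofBijective τ (Finite.injective_iff_bijective.1 hτinj), fun i => hτ i⟩
  · conv_lhs => rw [eq_sSup_comps hS hU hUc]
    refine le_antisymm (sSup_le fun C hC => ?_) (iSup₂_le fun i hi => le_sSup ⟨(e i).2, hi⟩)
    refine le_iSup₂_of_le (e.symm ⟨C, hC.1⟩) ?_ ?_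
    · show D (e.symm ⟨C, hC.1⟩) ≤ U
      simpa [D] using hC.2
    · simp [D]

/-! ### The homogeneous case -/

/-- In the coordinates given by `e` and `P` the group acts as `ρ ⊗ 1`. -/
structure IsHomog (N : Subgroup (GL (Fin n) F)) {m t : ℕ} (ρ : N → Matrix (Fin m) (Fin m) F)
    (e : Fin n ≃ Fin m × Fin t) (P : GL (Fin n) F) : Prop where
  irr : ActsIrreducibly (Set.range ρ)
  eq : ∀ x : N, ((P⁻¹ * x * P : GL (Fin n) F) : Matrix (Fin n) (Fin n) F) =
    (ρ x ⊗ₖ (1 : Matrix (Fin t) (Fin t) F)).submatrix e e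

theorem exists_homog {N : Subgroup (GL (Fin n) F)} (hn : 1 ≤ n) (hS : Semisimple (matrixSet N))
    {W : Submodule F (Fin n → F)} (hW : MinInv (matrixSet N) W) (htop : comp (matrixSet N) W = ⊤) :
    ∃ (m t : ℕ) (ρ : N → Matrix (Fin m) (Fin m) F) (e : Fin n ≃ Fin m × Fin t) (P : GL (Fin n) F),
      1 ≤ m ∧ 1 ≤ t ∧ IsHomog N ρ e P := by
  classical
  set S := matrixSet N with hSdef
  set m := Module.finrank F W
  have hm : 1 ≤ m := Nat.one_le_iff_ne_zero.2 fun h => hW.ne_bot (Submodule.finrank_eq_zero.1 h)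
  let Ψ : ∀ {t : ℕ}, (Fin t → cent S) → (Fin t → W) →ₗ[F] (Fin n → F) := fun {t} M =>
    ∑ j, (Matrix.toLin' (M j : Matrix (Fin n) (Fin n) F)).comp (W.subtype.comp (LinearMap.proj j))
  have hΨ : ∀ {t : ℕ} (M : Fin t → cent S) c, Ψ M c = ∑ j, (M j : Matrix (Fin n) (Fin n) F) *ᵥ (c j : Fin n → F) :=
    fun {t} M c => by simp [Ψ, LinearMap.sum_apply]
  let good : ℕ → Prop := fun t => ∃ M : Fin t → cent S, Function.Injective (Ψ M)
  have hbound : ∀ t, good t → t ≤ n := by
    rintro t ⟨M, hM⟩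
    have h := LinearMap.finrank_le_finrank_of_injective hM
    rw [Module.finrank_pi_fintype, Module.finrank_fin_fun, Finset.sum_const, Finset.card_univ,
      Fintype.card_fin, smul_eq_mul] at h
    exact (Nat.le_mul_of_pos_right t hm).trans h
  have hg0 : good 0 := ⟨Fin.elim0, fun a b _ => funext fun j => j.elim0⟩
  set t := Nat.findGreatest good n with ht
  obtain ⟨M, hM⟩ : good t := Nat.findGreatest_spec (P := good) (Nat.zero_le n) hg0
  have hsurj : LinearMap.range (Ψ M) = ⊤ := by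
    by_contra hne
    have hR : Inv S (LinearMap.range (Ψ M)) := by
      rintro s hs _ ⟨c, rfl⟩
      refine ⟨fun j => ⟨s *ᵥ (c j : Fin n → F), hW.inv s hs _ (c j).2⟩, ?_⟩
      rw [hΨ, hΨ, mulVec_sum]
      exact Finset.sum_congr rfl fun j _ => by rw [mulVec_mulVec, mulVec_mulVec, mem_cent.1 (M j).2 s hs]
    obtain ⟨M', hM'⟩ : ∃ M' : cent S, ¬ W.map (Matrix.toLin' (M' : Matrix (Fin n) (Fin n) F)) ≤ LinearMap.range (Ψ M) := by
      by_contra hall
      push Not at hall
      exact hne (top_unique (htop ▸ iSup_le hall))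
    obtain ⟨hY, hYinj⟩ := hW.image M'.2 fun e => hM' (e ▸ bot_le)
    have hdis : W.map (Matrix.toLin' (M' : Matrix (Fin n) (Fin n) F)) ⊓ LinearMap.range (Ψ M) = ⊥ :=
      (hY.min _ (PrimeDim.inv_inf hY.inv hR) inf_le_left).resolve_right fun e => hM' (inf_eq_left.1 e)
    have hgood : good (t + 1) := by
      refine ⟨Fin.cons M' M, (injective_iff_map_eq_zero _).2 fun c hc => ?_⟩
      rw [hΨ, Fin.sum_univ_succ] at hc
      simp only [Fin.cons_zero, Fin.cons_succ] at hc
      rw [← hΨ M (fun j : Fin t => c j.succ)] at hc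
      have h0 : (M' : Matrix (Fin n) (Fin n) F) *ᵥ (c 0 : Fin n → F) = 0 :=
        (Submodule.eq_bot_iff _).1 hdis _ ⟨⟨c 0, (c 0).2, Matrix.toLin'_apply _ _⟩, by
          rw [eq_neg_of_add_eq_zero_left hc]
          exact neg_mem (LinearMap.mem_range_self _ _)⟩
      rw [h0, zero_add] at hc
      have h1 : (fun j : Fin t => c j.succ) = 0 := hM (hc.trans (map_zero _).symm)
      funext j
      refine Fin.cases ?_ (fun j => congrFun h1 j) j
      exact Subtype.ext (hYinj _ (c 0).2 h0)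
    have hle := Nat.le_findGreatest (P := good) (hbound _ hgood) hgood
    omega
  have hdim : n = m * t := by
    have h := LinearMap.finrank_range_of_inj hM
    rw [hsurj, finrank_top, Module.finrank_fin_fun, Module.finrank_pi_fintype, Finset.sum_const, Finset.card_univ,
      Fintype.card_fin, smul_eq_mul] at h
    rw [h, mul_comm]
  have ht1 : 1 ≤ t := Nat.one_le_iff_ne_zero.2 fun h => by
    rw [h, mul_zero] at hdim
    omega
  let b := Module.finBasis F W
  let e : Fin n ≃ Fin m × Fin t := (finCongr hdim).trans finProdFinEquiv.symm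
  let ρ : N → Matrix (Fin m) (Fin m) F := fun x => Matrix.of fun a a' =>
    b.repr ⟨((x : GL (Fin n) F) : Matrix (Fin n) (Fin n) F) *ᵥ (b a' : Fin n → F), hW.inv _ ⟨x, x.2, rfl⟩ _ (b a').2⟩ a
  let col : Fin n → (Fin n → F) := fun k => (M (e k).2 : Matrix (Fin n) (Fin n) F) *ᵥ (b (e k).1 : Fin n → F)
  let P₀ : Matrix (Fin n) (Fin n) F := Matrix.of fun i k => col k i
  have hP₀ : ∀ u : Fin n → F, P₀ *ᵥ u = ∑ j, (M j : Matrix (Fin n) (Fin n) F) *ᵥ ((∑ a, u (e.symm (a, j)) • b a : W) : Fin n → F) := by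
    intro u
    have h1 : P₀ *ᵥ u = ∑ k, u k • col k := by
      funext i
      simp only [P₀, mulVec, dotProduct, Finset.sum_apply, Pi.smul_apply, smul_eq_mul, Matrix.of_apply]
      exact Finset.sum_congr rfl fun k _ => mul_comm _ _
    rw [h1, ← Equiv.sum_comp e.symm, Fintype.sum_prod_type, Finset.sum_comm]
    refine Finset.sum_congr rfl fun j _ => ?_
    simp [col, mulVec_sum, mulVec_smul]
  obtain ⟨P, hP⟩ : IsUnit P₀ := by
    refine Matrix.mulVec_injective_iff_isUnit.1 fun u u' hu => ?_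
    rw [hP₀, hP₀, ← hΨ M fun j => ∑ a, u (e.symm (a, j)) • b a, ← hΨ M fun j => ∑ a, u' (e.symm (a, j)) • b a] at hu
    funext k
    have h := congrArg (fun w => b.repr w (e k).1) (congrFun (hM hu) (e k).2)
    simpa [Finsupp.single_apply] using h
  have hρ : ∀ (x : N) a', ((x : GL (Fin n) F) : Matrix (Fin n) (Fin n) F) *ᵥ (b a' : Fin n → F) =
      ∑ a, ρ x a a' • (b a : Fin n → F) := by
    intro x a'
    have h := congrArg Subtype.val (b.sum_repr
      (⟨((x : GL (Fin n) F) : Matrix (Fin n) (Fin n) F) *ᵥ (b a' : Fin n → F), hW.inv _ ⟨x, x.2, rfl⟩ _ (b a').2⟩ : W))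
    rw [Submodule.coe_sum] at h
    simp only [Submodule.coe_smul] at h
    exact h.symm
  refine ⟨m, t, ρ, e, P, hm, ht1, ⟨?_, fun x => ?_⟩⟩
  · -- irreducibility
    intro U hU
    let U' : Submodule F (Fin n → F) := U.map (W.subtype.comp (b.equivFun.symm : (Fin m → F) ≃ₗ[F] W).toLinearMap)
    have hinj : Function.Injective (W.subtype.comp (b.equivFun.symm : (Fin m → F) ≃ₗ[F] W).toLinearMap) :=
      W.subtype_injective.comp b.equivFun.symm.injective
    have hU' : Inv S U' := by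
      rintro _ ⟨x, hx, rfl⟩ _ ⟨u, hu, rfl⟩
      refine ⟨ρ ⟨x, hx⟩ *ᵥ u, hU _ ⟨⟨x, hx⟩, rfl⟩ ⟨u, hu, Matrix.toLin'_apply _ _⟩, ?_⟩
      simp only [LinearMap.comp_apply, LinearEquiv.coe_coe, Submodule.subtype_apply, Module.Basis.equivFun_symm_apply,
        Submodule.coe_sum, Submodule.coe_smul, mulVec_sum, mulVec_smul, hρ ⟨x, hx⟩]
      simp only [mulVec, dotProduct, Finset.sum_smul, Finset.smul_sum, smul_smul]
      rw [Finset.sum_comm]
      exact Finset.sum_congr rfl fun a _ => Finset.sum_congr rfl fun a' _ => by rw [mul_comm]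
    rcases hW.min U' hU' (by rintro _ ⟨u, -, rfl⟩; exact (b.equivFun.symm u).2) with h | h
    · exact Or.inl ((Submodule.eq_bot_iff _).2 fun u hu => hinj (by
        rw [map_zero]
        exact (Submodule.eq_bot_iff _).1 h _ ⟨u, hu, rfl⟩))
    · refine Or.inr (eq_top_iff.2 fun u _ => ?_)
      obtain ⟨u', hu', e'⟩ := (h.ge (b.equivFun.symm u).2 : ((b.equivFun.symm u : W) : Fin n → F) ∈ U')
      exact hinj e' ▸ hu'
  · have hxP : ((x : GL (Fin n) F) : Matrix (Fin n) (Fin n) F) * P₀ =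
        P₀ * (ρ x ⊗ₖ (1 : Matrix (Fin t) (Fin t) F)).submatrix e e := by
      refine Matrix.ext_of_mulVec_single fun k => ?_
      rw [← mulVec_mulVec, ← mulVec_mulVec, mulVec_single_one, mulVec_single_one]
      have hcol : P₀.col k = col k := rfl
      rw [hcol, hP₀]
      simp only [col, mulVec_mulVec, mem_cent.1 (M (e k).2).2 _ ⟨x, x.2, rfl⟩]
      rw [← mulVec_mulVec, hρ]
      simp only [Matrix.col_apply, Matrix.submatrix_apply, Matrix.kroneckerMap_apply, Equiv.apply_symm_apply,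
        Submodule.coe_sum, Submodule.coe_smul]
      rw [Finset.sum_eq_single (e k).2]
      · simp
      · intro j _ hj
        simp [hj]
      · simp
    rw [Units.val_mul, Units.val_mul, mul_assoc, hP, hxP, ← hP, ← mul_assoc, Units.inv_mul, one_mul]

/-- The block of a matrix at a pair of indices of the second factor. -/
def blk {m t : ℕ} (G : Matrix (Fin m × Fin t) (Fin m × Fin t) F) (j k : Fin t) : Matrix (Fin m) (Fin m) F :=
  G.submatrix (fun a => (a, j)) fun a => (a, k)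

theorem blk_mul_kron {m t : ℕ} (G : Matrix (Fin m × Fin t) (Fin m × Fin t) F) (A : Matrix (Fin m) (Fin m) F)
    (j k : Fin t) : blk (G * (A ⊗ₖ (1 : Matrix (Fin t) (Fin t) F))) j k = blk G j k * A := by
  ext a b
  simp [blk, Matrix.mul_apply, Fintype.sum_prod_type, Matrix.one_apply]

theorem blk_kron_mul {m t : ℕ} (G : Matrix (Fin m × Fin t) (Fin m × Fin t) F) (A : Matrix (Fin m) (Fin m) F)
    (j k : Fin t) : blk ((A ⊗ₖ (1 : Matrix (Fin t) (Fin t) F)) * G) j k = A * blk G j k := by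
  ext a b
  simp [blk, Matrix.mul_apply, Fintype.sum_prod_type, Matrix.one_apply]

theorem blk_ext {m t : ℕ} {G G' : Matrix (Fin m × Fin t) (Fin m × Fin t) F}
    (h : ∀ j k, blk G j k = blk G' j k) : G = G' :=
  Matrix.ext fun p q => congrFun (congrFun (h p.2 q.2) p.1) q.1

variable {N : Subgroup (GL (Fin n) F)} {m t : ℕ} {ρ : N → Matrix (Fin m) (Fin m) F}
  {e : Fin n ≃ Fin m × Fin t} {P : GL (Fin n) F}

theorem IsHomog.kron (hρ : IsHomog N ρ e P) (x : N) :
    (((P⁻¹ * x * P : GL (Fin n) F) : Matrix (Fin n) (Fin n) F)).submatrix e.symm e.symm =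
      ρ x ⊗ₖ (1 : Matrix (Fin t) (Fin t) F) := by
  rw [hρ.eq, Matrix.submatrix_submatrix]
  simp

/-- Elements intertwining the group with itself, up to a twist, have intertwining blocks. -/
theorem IsHomog.blocks (hρ : IsHomog N ρ e P) {g : Matrix (Fin n) (Fin n) F} {x y : N}
    (h : g * ((x : GL (Fin n) F) : Matrix (Fin n) (Fin n) F) = ((y : GL (Fin n) F) : Matrix (Fin n) (Fin n) F) * g)
    (j k : Fin t) :
    blk (((↑P⁻¹ : Matrix (Fin n) (Fin n) F) * g * (P : Matrix (Fin n) (Fin n) F)).submatrix e.symm e.symm) j k * ρ x =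
      ρ y * blk (((↑P⁻¹ : Matrix (Fin n) (Fin n) F) * g * (P : Matrix (Fin n) (Fin n) F)).submatrix e.symm e.symm) j k := by
  rw [← blk_mul_kron, ← blk_kron_mul, ← hρ.kron, ← hρ.kron, Matrix.submatrix_mul_equiv, Matrix.submatrix_mul_equiv]
  congr 2
  simp only [Units.val_mul, mul_assoc, Units.mul_inv_cancel_left]
  rw [← mul_assoc g, h, mul_assoc]

theorem IsHomog.blk_cent (hρ : IsHomog N ρ e P) {g : Matrix (Fin n) (Fin n) F} (hg : g ∈ cent (matrixSet N))
    (j k : Fin t) :
    blk (((↑P⁻¹ : Matrix (Fin n) (Fin n) F) * g * (P : Matrix (Fin n) (Fin n) F)).submatrix e.symm e.symm) j k ∈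
      cent (Set.range ρ) :=
  mem_cent.2 fun _ ⟨x, hx⟩ => hx ▸ (hρ.blocks (x := x) (y := x) (mem_cent.1 hg _ ⟨x, x.2, rfl⟩).symm j k).symm

theorem irreducible_intertwiner {ρ' : N → Matrix (Fin m) (Fin m) F} (hirr : ActsIrreducibly (Set.range ρ))
    {T : Matrix (Fin m) (Fin m) F} (hT : ∀ x, T * ρ x = ρ' x * T) (h0 : T ≠ 0) : IsUnit T := by
  rw [CfsgLib.PrimeDim.irreducible_iff] at hirr
  have hinv : Inv (Set.range ρ) (LinearMap.ker (Matrix.toLin' T)) := by
    rintro _ ⟨x, rfl⟩ v hv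
    rw [LinearMap.mem_ker, Matrix.toLin'_apply] at hv ⊢
    rw [mulVec_mulVec, hT, ← mulVec_mulVec, hv, mulVec_zero]
  rcases hirr _ hinv with h | h
  · refine Matrix.mulVec_injective_iff_isUnit.1 fun x y e => ?_
    exact LinearMap.ker_eq_bot.1 h (by simpa [Matrix.toLin'_apply] using e)
  · exact absurd (Matrix.toLin'.injective (LinearMap.ker_eq_top.1 h |>.trans (map_zero _).symm)) h0

/-- An element normalising a homogeneous group acts by a twisted intertwiner and a matrix over the centralising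
field. -/
theorem IsHomog.normalizer (hρ : IsHomog N ρ e P) (hm : 1 ≤ m) (ht : 1 ≤ t) {H : Subgroup (GL (Fin n) F)}
    (hN : Nml H N) {h : GL (Fin n) F} (hh : h ∈ H) :
    ∃ A : GL (Fin m) F, (∀ x : N, (A : Matrix (Fin m) (Fin m) F) * ρ x =
        ρ ⟨h * x * h⁻¹, hN.conj h hh x x.2⟩ * A) ∧
      ∀ j k, ∃ c ∈ cent (Set.range ρ),
        blk (((↑P⁻¹ : Matrix (Fin n) (Fin n) F) * (h : Matrix (Fin n) (Fin n) F) * (P : Matrix (Fin n) (Fin n) F)).submatrix
          e.symm e.symm) j k = (A : Matrix (Fin m) (Fin m) F) * c := by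
  classical
  set G := ((↑P⁻¹ : Matrix (Fin n) (Fin n) F) * (h : Matrix (Fin n) (Fin n) F) * (P : Matrix (Fin n) (Fin n) F)).submatrix
    e.symm e.symm with hG
  have hblk : ∀ j k (x : N), blk G j k * ρ x = ρ ⟨h * x * h⁻¹, hN.conj h hh x x.2⟩ * blk G j k :=
    fun j k x => hρ.blocks (by simp [mul_assoc]) j k
  obtain ⟨j₀, k₀, h0⟩ : ∃ j k, blk G j k ≠ 0 := by
    by_contra hall
    push Not at hall
    have hG0 : G = 0 := blk_ext fun j k => by rw [hall]; rfl
    have hne0 : ((P⁻¹ * h * P : GL (Fin n) F) : Matrix (Fin n) (Fin n) F) = 0 := by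
      ext i i'
      have h1 := congrFun (congrFun hG0 (e i)) (e i')
      simpa [hG] using h1
    haveI : Nonempty (Fin n) := ⟨e.symm (⟨0, hm⟩, ⟨0, ht⟩)⟩
    exact (P⁻¹ * h * P).ne_zero hne0
  obtain ⟨A, hA⟩ := irreducible_intertwiner hρ.irr (hblk j₀ k₀) h0
  refine ⟨A, fun x => by rw [hA]; exact hblk j₀ k₀ x, fun j k => ⟨(↑A⁻¹ : Matrix (Fin m) (Fin m) F) * blk G j k, ?_, ?_⟩⟩
  · refine mem_cent.2 ?_
    rintro _ ⟨x, rfl⟩
    rw [mul_assoc, hblk, ← mul_assoc, ← mul_assoc]
    congr 1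
    have h1 := hblk j₀ k₀ x
    rw [← hA] at h1
    calc ρ x * (↑A⁻¹ : Matrix (Fin m) (Fin m) F)
        = (↑A⁻¹ : Matrix (Fin m) (Fin m) F) * ((A : Matrix (Fin m) (Fin m) F) * ρ x) * ↑A⁻¹ := by
          simp [← mul_assoc]
      _ = _ := by rw [h1]; simp [mul_assoc]
  · rw [← mul_assoc, Units.mul_inv, one_mul]

end CfsgLib.Asch
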