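import Cfsg.Agent.Lib.Classical.AschLinear

set_option autoImplicit false
set_option linter.unusedSectionVars false

/-!
Reflexive sesquilinear forms given by matrices: adjoints, orthogonal subspaces and invariant forms of
absolutely irreducible sets of matrices.
-/

namespace CfsgLib.Asch

open Matrix
open Cfsg.Geo (ActsIrreducibly ActsAbsolutelyIrreducibly)
open scoped MatrixGroups Kronecker

variable {ι : Type} [Fintype ι] [DecidableEq ι] {F : Type*} [Field F]

/-- Apply a field automorphism to every entry. -/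
def bm (τ : F ≃+* F) : Matrix ι ι F →+* Matrix ι ι F := (τ : F →+* F).mapMatrix

theorem bm_apply (τ : F ≃+* F) (X : Matrix ι ι F) (i j : ι) : bm τ X i j = τ (X i j) := rfl

theorem bm_transpose (τ : F ≃+* F) (X : Matrix ι ι F) : (bm τ X)ᵀ = bm τ Xᵀ := rfl

theorem bm_smul (τ : F ≃+* F) (c : F) (X : Matrix ι ι F) : bm τ (c • X) = τ c • bm τ X := by
  ext i j
  simp [bm_apply]

theorem bm_bm {τ : F ≃+* F} (hτ : ∀ a, τ (τ a) = a) (X : Matrix ι ι F) : bm τ (bm τ X) = X := by
  ext i j
  simp [bm_apply, hτ]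

theorem bm_refl (X : Matrix ι ι F) : bm (RingEquiv.refl F) X = X := rfl

theorem bm_mulVec (τ : F ≃+* F) (X : Matrix ι ι F) (v : ι → F) :
    bm τ X *ᵥ (⇑τ ∘ v) = ⇑τ ∘ (X *ᵥ v) := by
  funext i
  simp [mulVec, dotProduct, bm_apply, map_sum]

theorem isUnit_bm {τ : F ≃+* F} {X : Matrix ι ι F} (h : IsUnit X) : IsUnit (bm τ X) := h.map _

/-- The form of a matrix, semilinear in the second argument. -/
def sform (τ : F ≃+* F) (J : Matrix ι ι F) (u v : ι → F) : F := u ⬝ᵥ J *ᵥ (⇑τ ∘ v)

variable (τ : F ≃+* F) (J : Matrix ι ι F)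

theorem sform_add_left (x y v : ι → F) : sform τ J (x + y) v = sform τ J x v + sform τ J y v :=
  add_dotProduct x y _

theorem sform_smul_left (c : F) (x v : ι → F) : sform τ J (c • x) v = c * sform τ J x v := by
  simp [sform]

theorem sform_add_right (v x y : ι → F) : sform τ J v (x + y) = sform τ J v x + sform τ J v y := by
  have e : ⇑τ ∘ (x + y) = (⇑τ ∘ x) + (⇑τ ∘ y) := funext fun i => map_add τ _ _
  simp [sform, e, mulVec_add]

theorem sform_smul_right (c : F) (v x : ι → F) : sform τ J v (c • x) = τ c * sform τ J v x := by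
  have e : ⇑τ ∘ (c • x) = τ c • (⇑τ ∘ x) := funext fun i => map_mul τ _ _
  simp [sform, e, mulVec_smul]

theorem sform_zero_left (v : ι → F) : sform τ J 0 v = 0 := zero_dotProduct _

theorem sform_mulVec (A B : Matrix ι ι F) (u v : ι → F) :
    sform τ J (A *ᵥ u) (B *ᵥ v) = sform τ (Aᵀ * J * bm τ B) u v := by
  rw [sform, sform, ← bm_mulVec, mulVec_mulVec, dotProduct_mulVec, dotProduct_mulVec,
    ← mulVec_transpose, ← mulVec_transpose (A := Aᵀ * J * bm τ B), mulVec_mulVec]
  simp [Matrix.transpose_mul, mul_assoc]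

theorem comp_single (i : ι) : ⇑τ ∘ (Pi.single i 1 : ι → F) = Pi.single i 1 := by
  funext j
  by_cases h : j = i
  · subst h; simp
  · simp [Pi.single_eq_of_ne h]

theorem sform_single (i j : ι) : sform τ J (Pi.single i 1) (Pi.single j 1) = J i j := by
  simp [sform, comp_single]

theorem sform_ext {J' : Matrix ι ι F} (h : ∀ u v, sform τ J u v = sform τ J' u v) : J = J' := by
  ext i j
  rw [← sform_single τ J, h, sform_single]

theorem sform_gram : Cfsg.Geo.gramMatrix (sform τ J) = J := Matrix.ext fun i j => sform_single τ J i j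

theorem formOfGram_eq (u v : ι → F) : Cfsg.Geo.formOfGram ⇑τ J u v = sform τ J u v := by
  simp [Cfsg.Geo.formOfGram, sform, dotProduct, mulVec, Finset.mul_sum, mul_assoc]

theorem sform_smul_matrix (c : F) (u v : ι → F) : sform τ (c • J) u v = c * sform τ J u v := by
  simp [sform, smul_mulVec]

/-- Isometries of the form. -/
def Iso (g : Matrix ι ι F) : Prop := gᵀ * J * bm τ g = J

theorem iso_iff (g : Matrix ι ι F) :
    Iso τ J g ↔ ∀ u v, sform τ J (g *ᵥ u) (g *ᵥ v) = sform τ J u v := by
  refine ⟨fun h u v => by rw [sform_mulVec, h], fun h => sform_ext τ _ fun u v => ?_⟩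
  rw [← sform_mulVec, h]

/-- A non-degenerate reflexive form. -/
structure FormData (ε : F) : Prop where
  unit : IsUnit J
  inv : ∀ a, τ (τ a) = a
  herm : (bm τ J)ᵀ = ε • J

variable {τ J} {ε : F}

theorem FormData.swap (h : FormData τ J ε) (u v : ι → F) : τ (sform τ J u v) = ε * sform τ J v u := by
  have e : τ (sform τ J u v) = (⇑τ ∘ u) ⬝ᵥ bm τ J *ᵥ v := by
    simp [sform, dotProduct, mulVec, map_sum, bm_apply, h.inv]
  rw [e, dotProduct_mulVec, ← mulVec_transpose, h.herm, smul_mulVec, smul_dotProduct, dotProduct_comm, smul_eq_mul]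
  rfl

theorem FormData.eps_ne_zero [Nonempty ι] (h : FormData τ J ε) : ε ≠ 0 := fun e => by
  have h1 := (isUnit_bm (τ := τ) h.unit)
  rw [Matrix.isUnit_iff_isUnit_det, ← Matrix.det_transpose, h.herm, e, zero_smul, Matrix.det_zero] at h1
  exact h1.ne_zero rfl

/-- Orthogonality is symmetric. -/
theorem FormData.eq_zero_comm (h : FormData τ J ε) {u v : ι → F} (e : sform τ J u v = 0) : sform τ J v u = 0 := by
  rcases isEmpty_or_nonempty ι with hι | hι
  · simp [sform, dotProduct]
  · have h1 := h.swap u v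
    rw [e, map_zero] at h1
    exact (mul_eq_zero.1 h1.symm).resolve_left h.eps_ne_zero

theorem FormData.eq_zero (h : FormData τ J ε) {v : ι → F} (hv : ∀ u, sform τ J u v = 0) : v = 0 := by
  have h1 : J *ᵥ (⇑τ ∘ v) = 0 := funext fun i => by simpa [sform] using hv (Pi.single i 1)
  have h2 := Matrix.mulVec_injective_iff_isUnit.2 h.unit (h1.trans (mulVec_zero J).symm)
  exact funext fun i => by simpa using congrFun h2 i

theorem FormData.nondegenerate (h : FormData τ J ε) : Cfsg.Geo.IsNondegenerateForm (sform τ J) := fun v hv => by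
  have h1 : ∃ x, sform τ J x v ≠ 0 := by
    by_contra hc
    push Not at hc
    exact hv (h.eq_zero hc)
  obtain ⟨x, hx⟩ := h1
  exact ⟨⟨x, hx⟩, x, fun e => hx (h.eq_zero_comm e)⟩

/-- The orthogonal subspace. -/
def perp (τ : F ≃+* F) (J : Matrix ι ι F) (U : Submodule F (ι → F)) : Submodule F (ι → F) where
  carrier := {v | ∀ u ∈ U, sform τ J v u = 0}
  add_mem' {x y} hx hy := fun u hu => by rw [sform_add_left, hx u hu, hy u hu, add_zero]
  zero_mem' := fun u _ => sform_zero_left τ J u
  smul_mem' c x hx := fun u hu => by rw [sform_smul_left, hx u hu, mul_zero]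

theorem finrank_perp (h : FormData τ J ε) (U : Submodule F (ι → F)) :
    Module.finrank F (perp τ J U) + Module.finrank F U = Fintype.card ι := by
  classical
  let b := Module.finBasis F U
  let w : Fin (Module.finrank F U) → ι → F := fun i => J *ᵥ (⇑τ ∘ ((b i : U) : ι → F))
  have hw : LinearIndependent F w := by
    rw [Fintype.linearIndependent_iff]
    intro c hc i
    have e : ∀ u, sform τ J u (∑ i, τ (c i) • ((b i : U) : ι → F)) = 0 := fun u => by
      have e' : ∀ s : Finset (Fin (Module.finrank F U)),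
          sform τ J u (∑ i ∈ s, τ (c i) • ((b i : U) : ι → F)) = u ⬝ᵥ ∑ i ∈ s, c i • w i := by
        intro s
        induction s using Finset.induction_on with
        | empty => simp [sform, show ⇑τ ∘ (0 : ι → F) = 0 from funext fun _ => map_zero τ]
        | @insert a s ha ih =>
          rw [Finset.sum_insert ha, Finset.sum_insert ha, sform_add_right, sform_smul_right, h.inv, ih,
            dotProduct_add, dotProduct_smul, smul_eq_mul]
          rfl
      rw [e', hc, dotProduct_zero]
    have h0 := Fintype.linearIndependent_iff.1 b.linearIndependent (fun i => τ (c i))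
      (Subtype.ext (by simpa [Submodule.coe_sum] using h.eq_zero e)) i
    simpa using h0
  let W : Matrix (Fin (Module.finrank F U)) ι F := Matrix.of w
  have hker : perp τ J U = LinearMap.ker W.mulVecLin := by
    ext v
    rw [LinearMap.mem_ker]
    constructor
    · intro hv
      funext i
      show w i ⬝ᵥ v = 0
      rw [dotProduct_comm]
      exact hv _ (b i).2
    · intro hv u hu
      have e : ∀ i, sform τ J v ((b i : U) : ι → F) = 0 := fun i => by
        rw [sform, dotProduct_comm]
        exact congrFun hv i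
      have e' : ∀ s : Finset (Fin (Module.finrank F U)),
          sform τ J v (∑ i ∈ s, b.repr ⟨u, hu⟩ i • ((b i : U) : ι → F)) = 0 := by
        intro s
        induction s using Finset.induction_on with
        | empty => simp [sform, show ⇑τ ∘ (0 : ι → F) = 0 from funext fun _ => map_zero τ]
        | @insert a s ha ih => rw [Finset.sum_insert ha, sform_add_right, sform_smul_right, e, ih, mul_zero, add_zero]
      have hu' := congrArg Subtype.val (b.sum_repr ⟨u, hu⟩)
      simp only [Submodule.coe_sum, Submodule.coe_smul] at hu'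
      rw [← hu']
      exact e' Finset.univ
  have hrank : Module.finrank F (LinearMap.range W.mulVecLin) = Module.finrank F U := by
    show W.rank = _
    rw [LinearIndependent.rank_matrix (M := W) hw, Fintype.card_fin]
  have := LinearMap.finrank_range_add_finrank_ker W.mulVecLin
  rw [hker]
  rw [Module.finrank_fintype_fun_eq_card] at this
  omega

theorem perp_comm (h : FormData τ J ε) {U W : Submodule F (ι → F)} (hle : U ≤ perp τ J W) :
    W ≤ perp τ J U := fun w hw u hu => h.eq_zero_comm (hle hu w hw)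

theorem perp_perp (h : FormData τ J ε) (U : Submodule F (ι → F)) : perp τ J (perp τ J U) = U := by
  refine (Submodule.eq_of_le_of_finrank_le (perp_comm h le_rfl) ?_).symm
  have := finrank_perp h U
  have := finrank_perp h (perp τ J U)
  omega

theorem isNondegenerateOn_iff (h : FormData τ J ε) {U : Submodule F (ι → F)} :
    Cfsg.Geo.IsNondegenerateOn (sform τ J) U ↔ U ⊓ perp τ J U = ⊥ := by
  constructor
  · intro hU
    rw [Submodule.eq_bot_iff]
    rintro v ⟨hv, hv'⟩
    by_contra h0
    obtain ⟨-, x, hx, hne⟩ := hU v hv h0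
    exact hne (hv' x hx)
  · intro hU w hw hw0
    have : ¬ w ∈ perp τ J U := fun hw' => hw0 ((Submodule.eq_bot_iff _).1 hU w ⟨hw, hw'⟩)
    simp only [perp, Submodule.mem_mk, AddSubmonoid.mem_mk, AddSubsemigroup.mem_mk, Set.mem_setOf_eq] at this
    push Not at this
    obtain ⟨x, hx, hne⟩ := this
    exact ⟨⟨x, hx, fun e => hne (h.eq_zero_comm e)⟩, x, hx, hne⟩

/-- The adjoint of a matrix. -/
noncomputable def adj (τ : F ≃+* F) (J X : Matrix ι ι F) : Matrix ι ι F := bm τ (J⁻¹ * Xᵀ * J)

theorem FormData.det (h : FormData τ J ε) : IsUnit J.det := (Matrix.isUnit_iff_isUnit_det J).1 h.unit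

theorem sform_adj (h : FormData τ J ε) (X : Matrix ι ι F) (u v : ι → F) :
    sform τ J (X *ᵥ u) v = sform τ J u (adj τ J X *ᵥ v) := by
  conv_lhs => rw [← one_mulVec v]
  conv_rhs => rw [← one_mulVec u]
  rw [sform_mulVec, sform_mulVec, map_one, mul_one, Matrix.transpose_one, one_mul, adj, bm_bm h.inv,
    ← mul_assoc, ← mul_assoc, Matrix.mul_nonsing_inv _ h.det, one_mul]

theorem adj_unique (h : FormData τ J ε) {X Y : Matrix ι ι F}
    (hY : ∀ u v, sform τ J (X *ᵥ u) v = sform τ J u (Y *ᵥ v)) : Y = adj τ J X := by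
  refine Matrix.toLin'.injective (LinearMap.ext fun v => ?_)
  rw [Matrix.toLin'_apply, Matrix.toLin'_apply, ← sub_eq_zero]
  refine h.eq_zero fun u => ?_
  have e := hY u v
  rw [sform_adj h] at e
  have := sform_add_right τ J u (Y *ᵥ v - adj τ J X *ᵥ v) (adj τ J X *ᵥ v)
  rw [sub_add_cancel, e] at this
  exact right_eq_add.1 this

theorem adj_mul (h : FormData τ J ε) (X Y : Matrix ι ι F) : adj τ J (X * Y) = adj τ J Y * adj τ J X := by
  refine (adj_unique h fun u v => ?_).symm
  rw [← mulVec_mulVec, sform_adj h, sform_adj h, mulVec_mulVec]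

theorem adj_add (X Y : Matrix ι ι F) : adj τ J (X + Y) = adj τ J X + adj τ J Y := by
  simp [adj, mul_add, add_mul]

theorem adj_smul (c : F) (X : Matrix ι ι F) : adj τ J (c • X) = τ c • adj τ J X := by
  simp [adj, bm_smul]

theorem adj_one (h : FormData τ J ε) : adj τ J 1 = 1 :=
  (adj_unique h fun u v => by rw [one_mulVec, one_mulVec]).symm

theorem adj_adj (h : FormData τ J ε) (X : Matrix ι ι F) : adj τ J (adj τ J X) = X := by
  refine (adj_unique h fun u v => ?_).symm
  rcases isEmpty_or_nonempty ι with hι | hι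
  · simp [sform, dotProduct]
  · refine mul_left_cancel₀ h.eps_ne_zero ?_
    rw [← h.swap, ← h.swap, sform_adj h]

theorem adj_iso (h : FormData τ J ε) {g : GL ι F} (hg : Iso τ J g.val) :
    adj τ J g.val = (g⁻¹ : GL ι F).val := by
  refine (adj_unique h fun u v => ?_).symm
  conv_lhs => rw [← one_mulVec v, ← Units.mul_inv g, ← mulVec_mulVec, (iso_iff τ J _).1 hg]

theorem adj_conj (h : FormData τ J ε) {g : GL ι F} (hg : Iso τ J g.val) (X : Matrix ι ι F) :
    adj τ J (g.val * X * (g⁻¹ : GL ι F).val) = g.val * adj τ J X * (g⁻¹ : GL ι F).val := by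
  rw [adj_mul h, adj_mul h, ← adj_iso h hg, adj_adj h, adj_iso h hg, mul_assoc]

/-! ### Invariant matrices of irreducible sets -/

/-- A non-zero invariant form of an irreducible set of units is non-degenerate. -/
theorem invariant_isUnit {S : Set (Matrix ι ι F)} (hirr : ActsIrreducibly S) {B : Matrix ι ι F} (h0 : B ≠ 0)
    (hS : ∀ s ∈ S, IsUnit s) (hinv : ∀ s ∈ S, sᵀ * B * bm τ s = B) : IsUnit B := by
  classical
  let K : Submodule F (ι → F) :=
    { carrier := {v | B *ᵥ (⇑τ ∘ v) = 0}
      add_mem' := fun {x y} hx hy => by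
        show B *ᵥ (⇑τ ∘ (x + y)) = 0
        rw [show ⇑τ ∘ (x + y) = (⇑τ ∘ x) + (⇑τ ∘ y) from funext fun i => map_add τ _ _, mulVec_add, hx, hy, add_zero]
      zero_mem' := by
        show B *ᵥ (⇑τ ∘ 0) = 0
        rw [show ⇑τ ∘ (0 : ι → F) = 0 from funext fun i => map_zero τ, mulVec_zero]
      smul_mem' := fun c x hx => by
        show B *ᵥ (⇑τ ∘ (c • x)) = 0
        rw [show ⇑τ ∘ (c • x) = τ c • (⇑τ ∘ x) from funext fun i => map_mul τ _ _, mulVec_smul, hx, smul_zero] }
  rcases hirr K (fun s hs => by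
    rintro _ ⟨v, hv, rfl⟩
    show B *ᵥ (⇑τ ∘ (Matrix.toLin' s v)) = 0
    rw [Matrix.toLin'_apply, ← bm_mulVec]
    refine Matrix.mulVec_injective_iff_isUnit.2 (?_ : IsUnit sᵀ) ?_
    · rw [Matrix.isUnit_iff_isUnit_det, Matrix.det_transpose]
      exact (Matrix.isUnit_iff_isUnit_det s).1 (hS s hs)
    · rw [mulVec_zero, mulVec_mulVec, mulVec_mulVec, hinv s hs]
      exact hv) with h | h
  · refine Matrix.mulVec_injective_iff_isUnit.1 fun x y e => ?_
    have hx : (⇑τ.symm ∘ (x - y)) ∈ K := by
      show B *ᵥ (⇑τ ∘ (⇑τ.symm ∘ (x - y))) = 0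
      rw [show ⇑τ ∘ (⇑τ.symm ∘ (x - y)) = x - y from funext fun i => τ.apply_symm_apply _, mulVec_sub, e, sub_self]
    have := (Submodule.eq_bot_iff K).1 h _ hx
    funext i
    have hi := congrFun this i
    simpa [sub_eq_zero] using hi
  · refine absurd (Matrix.ext fun i j => ?_) h0
    have hj : (Pi.single j 1 : ι → F) ∈ K := h ▸ Submodule.mem_top
    have hj' : B *ᵥ (⇑τ ∘ (Pi.single j 1 : ι → F)) = 0 := hj
    rw [comp_single] at hj'
    simpa using congrFun hj' i

/-- An absolutely irreducible set has at most one invariant form, up to scalars. -/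
theorem invariant_unique (hτ : ∀ a, τ (τ a) = a) {S : Set (Matrix ι ι F)} (habs : ActsAbsolutelyIrreducibly S)
    {B B' : Matrix ι ι F} (hB : IsUnit B) (hinv : ∀ s ∈ S, sᵀ * B * bm τ s = B)
    (hinv' : ∀ s ∈ S, sᵀ * B' * bm τ s = B') : ∃ c : F, B' = c • B := by
  obtain ⟨U, rfl⟩ := hB
  obtain ⟨c, hc⟩ := habs.2 (bm τ ((↑U⁻¹ : Matrix ι ι F) * B')) (fun s hs => by
    have h1 : IsUnit (sᵀ * (U : Matrix ι ι F) * bm τ s) := by rw [hinv s hs]; exact U.isUnit
    have hsT : IsUnit sᵀ := by
      rw [Matrix.isUnit_iff_isUnit_det] at h1 ⊢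
      rw [Matrix.det_mul, Matrix.det_mul] at h1
      exact isUnit_of_mul_isUnit_left (isUnit_of_mul_isUnit_left h1)
    obtain ⟨T, hT⟩ := hsT
    apply (bm_bm hτ _).symm.trans
    rw [← bm_bm hτ (s * bm τ _)]
    congr 1
    simp only [map_mul, bm_bm hτ]
    have e1 : B' * bm τ s = (↑T⁻¹ : Matrix ι ι F) * B' := by
      conv_rhs => rw [← hinv' s hs, ← hT]
      simp only [mul_assoc, Units.inv_mul_cancel_left]
    have e2 : (↑T⁻¹ : Matrix ι ι F) * U = U * bm τ s := by
      conv_lhs => rw [← hinv s hs, ← hT]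
      simp only [mul_assoc, Units.inv_mul_cancel_left]
    rw [mul_assoc, e1]
    apply (Units.mul_right_inj U).1
    rw [Units.mul_inv_cancel_left, ← mul_assoc (U : Matrix ι ι F), ← e2, mul_assoc, Units.mul_inv_cancel_left])
  refine ⟨τ c, ?_⟩
  have h := congrArg (fun X => (U : Matrix ι ι F) * bm τ X) hc
  rwa [bm_bm hτ, Units.mul_inv_cancel_left, bm_smul, map_one, mul_smul_comm, mul_one] at h

/-- The symmetry type of an invariant form. -/
theorem invariant_herm (hτ : ∀ a, τ (τ a) = a) [Nonempty ι] {S : Set (Matrix ι ι F)}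
    (habs : ActsAbsolutelyIrreducibly S) {B : Matrix ι ι F} (hB : IsUnit B)
    (hinv : ∀ s ∈ S, sᵀ * B * bm τ s = B) : ∃ c : F, c * τ c = 1 ∧ FormData τ B c := by
  obtain ⟨c, hc⟩ := invariant_unique hτ habs hB hinv (B' := (bm τ B)ᵀ) fun s hs => by
    have h := congrArg (fun X => (bm τ X)ᵀ) (hinv s hs)
    simp only [map_mul, bm_bm hτ, Matrix.transpose_mul, bm_transpose, Matrix.transpose_transpose] at h
    rw [mul_assoc]
    exact h
  refine ⟨c, ?_, hB, hτ, hc⟩
  have h2 := congrArg (fun X => (bm τ X)ᵀ) hc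
  simp only [bm_transpose, Matrix.transpose_transpose, bm_bm hτ, bm_smul, Matrix.transpose_smul] at h2
  rw [show bm τ Bᵀ = c • B from hc, smul_smul, mul_comm] at h2
  obtain ⟨i, j, hij⟩ : ∃ i j, B i j ≠ 0 := by
    by_contra hc'
    push Not at hc'
    exact hB.ne_zero (Matrix.ext hc')
  exact (mul_eq_right₀ hij).1 (congrFun (congrFun h2 i) j).symm

end CfsgLib.Asch
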