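import Cfsg.Agent.Lib.Classical.AschFormBasic

set_option autoImplicit false
set_option linter.unusedSectionVars false

/-!
Subspaces, decompositions and fields preserved by isometry groups.
-/

namespace CfsgLib.Asch

open Matrix
open Cfsg.Geo (matrixSet ActsIrreducibly ActsAbsolutelyIrreducibly IsFieldSubalgebra subalgebraNormalizer
  decompositionStabilizer IsMDecomposition IsNondegenerateMDecomposition subspaceStabilizer
  IsTotallySingularFor AreOrthogonalFor)
open CfsgLib.PrimeDim (Inv Nml cent mem_cent)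
open scoped MatrixGroups

variable {F : Type*} [Field F] {n : ℕ} {τ : F ≃+* F} {J : Matrix (Fin n) (Fin n) F} {ε : F}

/-- `H` fixes a non-zero totally singular subspace. -/
def TSCase (τ : F ≃+* F) (J : Matrix (Fin n) (Fin n) F) (H : Subgroup (GL (Fin n) F)) : Prop :=
  ∃ W : Submodule F (Fin n → F), W ≠ ⊥ ∧ IsTotallySingularFor (sform τ J) W ∧ H ≤ subspaceStabilizer W

/-- `H` fixes a small non-degenerate subspace. -/
def NDCase (τ : F ≃+* F) (J : Matrix (Fin n) (Fin n) F) (H : Subgroup (GL (Fin n) F)) : Prop :=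
  ∃ W : Submodule F (Fin n → F), W ≠ ⊥ ∧ Cfsg.Geo.IsNondegenerateOn (sform τ J) W ∧
    2 * Module.finrank F W < n ∧ H ≤ subspaceStabilizer W

/-- `H` preserves an orthogonal decomposition. -/
def NDDecompCase (τ : F ≃+* F) (J : Matrix (Fin n) (Fin n) F) (H : Subgroup (GL (Fin n) F)) : Prop :=
  ∃ (t k : ℕ) (D : Fin t → Submodule F (Fin n → F)), t * k = n ∧
    IsNondegenerateMDecomposition (sform τ J) k D ∧ H ≤ decompositionStabilizer D

/-- `H` preserves a pair of complementary totally singular subspaces. -/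
def TSPairCase (τ : F ≃+* F) (J : Matrix (Fin n) (Fin n) F) (H : Subgroup (GL (Fin n) F)) : Prop :=
  ∃ (k : ℕ) (D : Fin 2 → Submodule F (Fin n → F)), 2 * k = n ∧ IsMDecomposition k D ∧
    (∀ i, IsTotallySingularFor (sform τ J) (D i)) ∧ H ≤ decompositionStabilizer D

theorem ts_iff_le_perp {W : Submodule F (Fin n → F)} :
    IsTotallySingularFor (sform τ J) W ↔ W ≤ perp τ J W :=
  ⟨fun h _ hv u hu => h _ hv u hu, fun h u hu v hv => h hu v hv⟩

theorem inv_perp (h : FormData τ J ε) {H : Subgroup (GL (Fin n) F)} (hH : ∀ g ∈ H, Iso τ J g.val)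
    {W : Submodule F (Fin n → F)} (hW : Inv (matrixSet H) W) : Inv (matrixSet H) (perp τ J W) := by
  rintro _ ⟨g, hg, rfl⟩ v hv u hu
  rw [sform_adj h, adj_iso h (hH g hg)]
  exact hv _ (hW _ ⟨_, inv_mem hg, rfl⟩ u hu)

theorem le_stab_of_inv {H : Subgroup (GL (Fin n) F)} {W : Submodule F (Fin n → F)} (hW : Inv (matrixSet H) W) :
    H ≤ subspaceStabilizer W := by
  intro g hg v
  refine ⟨fun hv => hW _ ⟨g, hg, rfl⟩ v hv, fun hv => ?_⟩
  have := hW _ ⟨g⁻¹, inv_mem hg, rfl⟩ _ hv
  change (↑g⁻¹ : Matrix (Fin n) (Fin n) F) *ᵥ ((g : Matrix (Fin n) (Fin n) F) *ᵥ v) ∈ W at this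
  rwa [PrimeDim.inv_mulVec_cancel] at this

/-- An orthogonal spanning family is a non-degenerate decomposition. -/
theorem nondegDecomp_mk (h : FormData τ J ε) {t k : ℕ} {D : Fin t → Submodule F (Fin n → F)} (ht : 2 ≤ t)
    (hk : 0 < k) (hdim : ∀ i, Module.finrank F (D i) = k) (horth : ∀ i j, i ≠ j → D i ≤ perp τ J (D j))
    (hspan : iSup D = ⊤) : IsNondegenerateMDecomposition (sform τ J) k D := by
  have key : ∀ i, ∀ v ∈ perp τ J (D i), (∀ j, j ≠ i → v ∈ perp τ J (D j)) → v = 0 := by
    intro i v hv hvo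
    have hall : ∀ j, D j ≤ perp τ J (Submodule.span F {v}) := fun j x hx u hu => by
      obtain ⟨c, rfl⟩ := Submodule.mem_span_singleton.1 hu
      have : v ∈ perp τ J (D j) := if e : j = i then e ▸ hv else hvo j e
      rw [sform_smul_right, h.eq_zero_comm (this x hx), mul_zero]
    refine h.eq_zero fun u => ?_
    have hle := iSup_le hall
    rw [hspan] at hle
    exact hle (Submodule.mem_top (x := u)) v (Submodule.mem_span_singleton_self v)
  refine ⟨⟨ht, hk, hdim, fun i => ?_, hspan⟩, fun i => ?_, fun i j hij u hu v hv => horth i j hij hu v hv⟩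
  · rw [disjoint_iff, Submodule.eq_bot_iff]
    rintro v ⟨hv, hv'⟩
    refine key i v ((iSup₂_le fun j hj => horth j i hj) hv') fun j hj => horth i j hj.symm hv
  · rw [isNondegenerateOn_iff h, Submodule.eq_bot_iff]
    rintro v ⟨hv, hv'⟩
    exact key i v hv' fun j hj => horth i j hj.symm hv

/-- A reducible isometry group. -/
theorem reducible_form (h : FormData τ J ε) {H : Subgroup (GL (Fin n) F)} (hH : ∀ g ∈ H, Iso τ J g.val)
    (hirr : ¬ ActsIrreducibly (matrixSet H)) : TSCase τ J H ∨ NDCase τ J H ∨ NDDecompCase τ J H := by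
  rw [PrimeDim.irreducible_iff] at hirr
  push Not at hirr
  obtain ⟨U, hU, hU0, hU1⟩ := hirr
  obtain ⟨W, hWU, hW, hW0, hWmin⟩ := PrimeDim.exists_minimal hU hU0
  have hW1 : W ≠ ⊤ := fun e => hU1 (eq_top_iff.2 (e ▸ hWU))
  have hWp := inv_perp h hH hW
  rcases hWmin _ (PrimeDim.inv_inf hW hWp) inf_le_left with hb | hb
  swap
  · exact Or.inl ⟨W, hW0, ts_iff_le_perp.2 (inf_eq_left.1 hb), le_stab_of_inv hW⟩
  right
  have hdim := finrank_perp h W
  rw [Fintype.card_fin] at hdim
  have hpb : perp τ J W ⊓ perp τ J (perp τ J W) = ⊥ := by rw [perp_perp h, inf_comm, hb]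
  rcases lt_trichotomy (2 * Module.finrank F W) n with hlt | heq | hgt
  · exact Or.inl ⟨W, hW0, (isNondegenerateOn_iff h).2 hb, hlt, le_stab_of_inv hW⟩
  · right
    refine ⟨2, Module.finrank F W, ![W, perp τ J W], heq, nondegDecomp_mk h le_rfl
      (Nat.pos_of_ne_zero fun e => hW0 (Submodule.finrank_eq_zero.1 e)) ?_ ?_ ?_, ?_⟩
    · intro i; fin_cases i
      · rfl
      · show Module.finrank F (perp τ J W) = _
        omega
    · intro i j hij
      fin_cases i <;> fin_cases j <;> simp only [ne_eq, not_true_eq_false] at hij <;>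
        simp [perp_perp h]
    · refine Submodule.eq_top_of_finrank_eq (le_antisymm (Submodule.finrank_le _) ?_)
      rw [Module.finrank_fin_fun]
      have h2 := Submodule.finrank_sup_add_finrank_inf_eq W (perp τ J W)
      rw [hb, finrank_bot, add_zero] at h2
      refine le_trans ?_ (Submodule.finrank_mono (sup_le (le_iSup ![W, perp τ J W] 0) (le_iSup ![W, perp τ J W] 1)))
      show n ≤ Module.finrank F ↥(W ⊔ perp τ J W)
      omega
    · intro g hg
      refine ⟨1, fun i => ?_⟩
      have hfix : ∀ X : Submodule F (Fin n → F), Inv (matrixSet H) X →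
          X.map (Matrix.toLin' (g : Matrix (Fin n) (Fin n) F)) = X := fun X hX => by
        refine le_antisymm ?_ fun v hv => ⟨_, hX _ ⟨_, inv_mem hg, rfl⟩ v hv, ?_⟩
        · rintro _ ⟨v, hv, rfl⟩
          exact hX _ ⟨g, hg, rfl⟩ v hv
        · rw [Matrix.toLin'_apply, PrimeDim.mulVec_inv_cancel]
      fin_cases i
      · exact hfix W hW
      · exact hfix _ hWp
  · refine Or.inl ⟨perp τ J W, fun e => hW1 ?_, (isNondegenerateOn_iff h).2 hpb, by omega, le_stab_of_inv hWp⟩
    have h0 := perp_perp h W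
    rw [e] at h0
    rw [← h0, eq_top_iff]
    rintro v - u hu
    rw [(Submodule.mem_bot F).1 hu]
    simpa using sform_smul_right τ J 0 v 0

/-- The centraliser of a group of isometries is closed under adjoints. -/
theorem cent_adj (h : FormData τ J ε) {N : Subgroup (GL (Fin n) F)} (hN : ∀ g ∈ N, Iso τ J g.val)
    {M : Matrix (Fin n) (Fin n) F} (hM : M ∈ cent (matrixSet N)) : adj τ J M ∈ cent (matrixSet N) := by
  refine mem_cent.2 ?_
  rintro _ ⟨s, hs, rfl⟩
  have e := congrArg (adj τ J) (mem_cent.1 hM _ ⟨_, inv_mem hs, rfl⟩)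
  rw [adj_mul h, adj_mul h, adj_iso h (hN _ (inv_mem hs)), inv_inv] at e
  exact e.symm

theorem map_perp_iff (h : FormData τ J ε) {g : GL (Fin n) F} (hg : Iso τ J g.val) (U W : Submodule F (Fin n → F)) :
    U.map (Matrix.toLin' g.val) ≤ perp τ J (W.map (Matrix.toLin' g.val)) ↔ U ≤ perp τ J W := by
  constructor
  · intro hle u hu w hw
    rw [← (iso_iff τ J _).1 hg]
    exact hle ⟨u, hu, Matrix.toLin'_apply _ _⟩ _ ⟨w, hw, Matrix.toLin'_apply _ _⟩
  · rintro hle _ ⟨u, hu, rfl⟩ _ ⟨w, hw, rfl⟩
    rw [Matrix.toLin'_apply, Matrix.toLin'_apply, (iso_iff τ J _).1 hg]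
    exact hle hu w hw

theorem finrank_biSup_le {t m : ℕ} {D : Fin t → Submodule F (Fin n → F)} (hdim : ∀ i, Module.finrank F (D i) = m)
    (s : Finset (Fin t)) : Module.finrank F ↥(s.sup D) ≤ s.card * m := by
  classical
  induction s using Finset.induction_on with
  | empty => simp
  | @insert a s ha ih =>
    rw [Finset.sup_insert, Finset.card_insert_of_notMem ha]
    refine (Submodule.finrank_add_le_finrank_add_finrank _ _).trans ?_
    rw [hdim, add_mul, one_mul]
    omega

/-- The homogeneous components of a normal subgroup, with a form. -/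
theorem split_form (h : FormData τ J ε) {H N : Subgroup (GL (Fin n) F)}
    (hirr : ActsIrreducibly (matrixSet H)) (hH : ∀ g ∈ H, Iso τ J g.val) (hN : Nml H N)
    (hS : SplitCase H N) : NDDecompCase τ J H ∨ TSPairCase τ J H := by
  classical
  obtain ⟨t, m, D, hD, hle, hinv, hcinv, hsum⟩ := hS
  have hn : t * m = n := mdecomp_card hD
  have hm := hD.pos
  have hNiso : ∀ g ∈ N, Iso τ J g.val := fun g hg => hH g (hN.le hg)
  have hne : ∀ i, D i ≠ ⊥ := fun i e => by
    have := hD.finrank_eq i
    rw [e, finrank_bot] at this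
    omega
  -- the partner of a component
  have hpart : ∀ i, ∃ j, ¬ D j ≤ perp τ J (D i) ∧ ∀ l, l ≠ j → D l ≤ perp τ J (D i) := by
    intro i
    have h1 : Inv (matrixSet N) (perp τ J (D i)) := inv_perp h hNiso (hinv i)
    have h2 : Inv (cent (matrixSet N) : Set (Matrix (Fin n) (Fin n) F)) (perp τ J (D i)) := by
      intro M hM v hv u hu
      rw [sform_adj h]
      exact hv _ (hcinv i _ (cent_adj h hNiso hM) u hu)
    set L : Finset (Fin t) := Finset.univ.filter fun l => D l ≤ perp τ J (D i) with hL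
    have hU : perp τ J (D i) ≤ L.sup D := by
      rw [hsum _ h1 h2]
      exact iSup₂_le fun l hl => Finset.le_sup (f := D) (Finset.mem_filter.2 ⟨Finset.mem_univ l, hl⟩)
    have hcard : (t - 1) ≤ L.card := by
      have h3 := (Submodule.finrank_mono hU).trans (finrank_biSup_le hD.finrank_eq L)
      have h4 := finrank_perp h (D i)
      rw [Fintype.card_fin, hD.finrank_eq] at h4
      refine Nat.le_of_mul_le_mul_right (?_ : (t - 1) * m ≤ L.card * m) hm
      rw [Nat.sub_mul, one_mul]
      omega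
    obtain ⟨j, hj⟩ : ∃ j, ¬ D j ≤ perp τ J (D i) := by
      by_contra hc
      push Not at hc
      refine hne i ((Submodule.eq_bot_iff _).2 fun v hv => h.eq_zero fun u => ?_)
      have hle' := iSup_le hc
      rw [hD.iSup_eq_top] at hle'
      exact hle' (Submodule.mem_top (x := u)) v hv
    refine ⟨j, hj, fun l hl => ?_⟩
    by_contra hl'
    have hsub : L ⊆ (Finset.univ.erase j).erase l := fun x hx => by
      have hx' := (Finset.mem_filter.1 hx).2
      exact Finset.mem_erase.2 ⟨fun e => hl' (e ▸ hx'), Finset.mem_erase.2 ⟨fun e => hj (e ▸ hx'), Finset.mem_univ x⟩⟩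
    have h5 := Finset.card_le_card hsub
    rw [Finset.card_erase_of_mem (Finset.mem_erase.2 ⟨hl, Finset.mem_univ l⟩),
      Finset.card_erase_of_mem (Finset.mem_univ j), Finset.card_univ, Fintype.card_fin] at h5
    have := hD.two_le
    omega
  choose π hπ hπ' using hpart
  have huniq : ∀ i j, ¬ D j ≤ perp τ J (D i) → j = π i := fun i j hj => by
    by_contra e
    exact hj (hπ' i j e)
  have hinvol : ∀ i, π (π i) = i := fun i =>
    (huniq (π i) i fun e => hπ i (perp_comm h e)).symm
  have hequi : ∀ g ∈ H, ∀ σ : Equiv.Perm (Fin t),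
      (∀ i, (D i).map (Matrix.toLin' (g : Matrix (Fin n) (Fin n) F)) = D (σ i)) → ∀ i, π (σ i) = σ (π i) :=
    fun g hg σ hσ i => (huniq (σ i) (σ (π i)) fun e => hπ i (by
      rw [← hσ, ← hσ] at e
      exact (map_perp_iff h (hH g hg) _ _).1 e)).symm
  -- all or none
  have hdich : (∀ i, π i = i) ∨ ∀ i, π i ≠ i := by
    by_contra hc
    push Not at hc
    obtain ⟨⟨a, ha⟩, b, hb⟩ := hc
    have hinvU : Inv (matrixSet H) (⨆ i ∈ {i | π i = i}, D i) := by
      rintro _ ⟨g, hg, rfl⟩ v hv
      obtain ⟨σ, hσ⟩ := hle hg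
      have : (⨆ i ∈ {i | π i = i}, D i).map (Matrix.toLin' (g : Matrix (Fin n) (Fin n) F)) ≤
          ⨆ i ∈ {i | π i = i}, D i := by
        rw [Submodule.map_iSup]
        refine iSup_le fun i => ?_
        rw [Submodule.map_iSup]
        refine iSup_le fun hi => ?_
        rw [hσ]
        exact le_iSup₂ (f := fun i (_ : i ∈ {i | π i = i}) => D i) (σ i)
          (show π (σ i) = σ i by rw [hequi g hg σ hσ i, show π i = i from hi])
      exact this ⟨v, hv, Matrix.toLin'_apply _ _⟩
    rcases PrimeDim.irreducible_iff.1 hirr _ hinvU with e | e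
    · exact hne b (eq_bot_iff.2 ((le_iSup₂ (f := fun i (_ : i ∈ {i | π i = i}) => D i) b hb).trans e.le))
    · refine hne a (disjoint_self.1 ((hD.indep a).mono_right ((le_top.trans_eq e.symm).trans ?_)))
      exact iSup₂_le fun j hj => le_iSup₂_of_le j (fun e' => ha (e' ▸ hj)) le_rfl
  rcases hdich with hfix | hfree
  · exact Or.inl ⟨t, m, D, hn, nondegDecomp_mk h hD.two_le hm hD.finrank_eq
      (fun i j hij => hπ' j i (fun e => hij (e.trans (hfix j)))) hD.iSup_eq_top, hle⟩
  have hts : ∀ i, IsTotallySingularFor (sform τ J) (D i) := fun i =>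
    ts_iff_le_perp.2 (hπ' i i fun e => hfree i e.symm)
  by_cases ht : t = 2
  · subst ht
    exact Or.inr ⟨m, D, hn, hD, hts, hle⟩
  -- pairs
  left
  let S : Finset (Fin t) := Finset.univ.filter fun i => i < π i
  let s := S.card
  let es : Fin s ≃ S := S.equivFin.symm
  let P : Fin t → Submodule F (Fin n → F) := fun i => D i ⊔ D (π i)
  have hPπ : ∀ i, P (π i) = P i := fun i => by simp only [P, hinvol, sup_comm]
  have hrep : ∀ i, ∃ j : Fin s, P (es j : Fin t) = P i := by
    intro i
    rcases lt_trichotomy i (π i) with hlt | heq | hgt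
    · exact ⟨es.symm ⟨i, Finset.mem_filter.2 ⟨Finset.mem_univ i, hlt⟩⟩, by simp⟩
    · exact absurd heq.symm (hfree i)
    · exact ⟨es.symm ⟨π i, Finset.mem_filter.2 ⟨Finset.mem_univ _, by rw [hinvol]; exact hgt⟩⟩, by simp [hPπ]⟩
  let D' : Fin s → Submodule F (Fin n → F) := fun j => P (es j : Fin t)
  have hdim' : ∀ j, Module.finrank F (D' j) = 2 * m := fun j => by
    have h2 := Submodule.finrank_sup_add_finrank_inf_eq (D (es j : Fin t)) (D (π (es j : Fin t)))
    have hdis : D (es j : Fin t) ⊓ D (π (es j : Fin t)) = ⊥ :=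
      disjoint_iff.1 (hD.indep.pairwiseDisjoint (Ne.symm (hfree _)))
    rw [hdis, finrank_bot, add_zero, hD.finrank_eq, hD.finrank_eq] at h2
    show Module.finrank F ↥(P _) = _
    simp only [P]
    omega
  have horth' : ∀ i j, i ≠ j → D' i ≤ perp τ J (D' j) := by
    intro i j hij
    set a := (es i : Fin t) with ha
    set b := (es j : Fin t) with hb
    have hab : a ≠ b := fun e => hij (es.injective (Subtype.ext e))
    have hab' : π a ≠ b := fun e => by
      have h1 := (Finset.mem_filter.1 (es i).2).2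
      have h2 := (Finset.mem_filter.1 (es j).2).2
      rw [← ha] at h1
      rw [← hb, ← e, hinvol] at h2
      exact lt_asymm h1 h2
    have k : ∀ {x y}, x ≠ π y → D x ≤ perp τ J (D y) := fun {x y} hne' => hπ' y x hne'
    have hsup : ∀ x, D x ≤ perp τ J (D b) → D x ≤ perp τ J (D (π b)) → D x ≤ perp τ J (P b) := by
      intro x h1 h2
      refine perp_comm h (sup_le (perp_comm h h1) (perp_comm h h2))
    refine sup_le (hsup a (k fun e => hab' (by rw [e, hinvol])) (k (by rw [hinvol]; exact hab)))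
      (hsup (π a) (k fun e => hab (by simpa [hinvol] using congrArg π e)) (k (by rw [hinvol]; exact hab')))
  have hspan' : iSup D' = ⊤ := by
    rw [eq_top_iff, ← hD.iSup_eq_top]
    refine iSup_le fun i => ?_
    obtain ⟨j, hj⟩ := hrep i
    exact le_sup_left.trans (hj.symm.le.trans (le_iSup D' j))
  have hs2 : 2 ≤ s := by
    by_contra hlt
    haveI : Subsingleton (Fin s) := ⟨fun a b => Fin.ext (by have := a.isLt; have := b.isLt; omega)⟩
    let i₀ : Fin t := ⟨0, by have := hD.two_le; omega⟩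
    obtain ⟨j₀, hj₀⟩ := hrep i₀
    have h2 : n ≤ 2 * m := by
      have : iSup D' ≤ D' j₀ := iSup_le fun j => le_of_eq (by rw [Subsingleton.elim j j₀])
      rw [hspan'] at this
      have h3 := Submodule.finrank_mono this
      rwa [finrank_top, Module.finrank_fin_fun, hdim'] at h3
    have := hD.two_le
    have : 3 ≤ t := by omega
    nlinarith
  have hmd := nondegDecomp_mk h hs2 (by omega) hdim' horth' hspan'
  refine ⟨s, 2 * m, D', mdecomp_card hmd.decomp, hmd, fun g hg => ?_⟩
  obtain ⟨σ, hσ⟩ := hle hg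
  have hmove : ∀ j, ∃ j', (D' j).map (Matrix.toLin' (g : Matrix (Fin n) (Fin n) F)) = D' j' := fun j => by
    obtain ⟨j', hj'⟩ := hrep (σ (es j : Fin t))
    refine ⟨j', ?_⟩
    show (P _).map _ = P _
    rw [hj']
    simp only [P, Submodule.map_sup, hσ, hequi g hg σ hσ]
  choose f hf using hmove
  have hfinj : Function.Injective f := fun a b hab => by
    by_contra hne'
    have e := Submodule.map_injective_of_injective (PrimeDim.mulVec_injective g) ((hf a).trans (hab ▸ (hf b).symm))
    have := hdim' a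
    have hd' : Disjoint (D' a) (D' b) := hmd.decomp.indep.pairwiseDisjoint hne'
    rw [← e, disjoint_self] at hd'
    rw [hd', finrank_bot] at this
    omega
  exact ⟨Equiv.ofBijective f (Finite.injective_iff_bijective.1 hfinj), hf⟩

/-! ### Fields -/

/-- `H` normalises a field of prime degree of self-adjoint elements. -/
def SAFieldCase (τ : F ≃+* F) (J : Matrix (Fin n) (Fin n) F) (H : Subgroup (GL (Fin n) F)) : Prop :=
  ∃ (r : ℕ) (K : Subalgebra F (Matrix (Fin n) (Fin n) F)), r.Prime ∧ IsFieldSubalgebra r K ∧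
    (∀ k ∈ K, adj τ J k = k) ∧ H ≤ subalgebraNormalizer K

/-- `H` normalises a quadratic field with non-trivial adjoint. -/
def ConjFieldCase (τ : F ≃+* F) (J : Matrix (Fin n) (Fin n) F) (H : Subgroup (GL (Fin n) F)) : Prop :=
  ∃ K : Subalgebra F (Matrix (Fin n) (Fin n) F), IsFieldSubalgebra 2 K ∧
    (∀ k ∈ K, adj τ J k ∈ K) ∧ ¬ (∀ k ∈ K, adj τ J k = k) ∧
    (∀ k ∈ K, adj τ J k = k → ∃ c : F, k = c • 1) ∧ H ≤ subalgebraNormalizer K

/-- The centre of the centraliser is closed under adjoints. -/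
theorem ext_adj (h : FormData τ J ε) {H N : Subgroup (GL (Fin n) F)} (hN : ∀ g ∈ N, Iso τ J g.val) {d : ℕ}
    {K : Subalgebra F (Matrix (Fin n) (Fin n) F)} (hK : ExtData H N d K) {k : Matrix (Fin n) (Fin n) F}
    (hk : k ∈ K) : adj τ J k ∈ K := by
  obtain ⟨h1, h2⟩ := (hK.2.2 k).1 hk
  refine (hK.2.2 _).2 ⟨cent_adj h hN h1, fun M hM => ?_⟩
  have e := congrArg (adj τ J) (h2 _ (cent_adj h hN hM))
  rw [adj_mul h, adj_mul h, adj_adj h] at e
  exact e.symm

/-- The two cases for a normalised field and a bilinear form. -/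
theorem field_bilinear [Finite F] (h : FormData (RingEquiv.refl F) J ε) {H N : Subgroup (GL (Fin n) F)}
    (hH : ∀ g ∈ H, Iso (RingEquiv.refl F) J g.val) (hN : Nml H N) {d : ℕ} (hd : 2 ≤ d)
    {K : Subalgebra F (Matrix (Fin n) (Fin n) F)} (hK : ExtData H N d K) :
    SAFieldCase (RingEquiv.refl F) J H ∨ ConjFieldCase (RingEquiv.refl F) J H := by
  classical
  haveI : Nonempty (Fin n) := by
    by_contra he
    rw [not_nonempty_iff] at he
    have hK' := hK.1.finrank_eq
    have : Module.finrank F K.toSubmodule = 0 := by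
      haveI : Subsingleton (Matrix (Fin n) (Fin n) F) := ⟨fun A B => Matrix.ext fun i => he.elim i⟩
      exact Module.finrank_zero_of_subsingleton
    have hK'' : Module.finrank F K.toSubmodule = d := hK'

    omega
  have hadj : ∀ k ∈ K, adj (RingEquiv.refl F) J k ∈ K := fun k hk => ext_adj h (fun g hg => hH g (hN.le hg)) hK hk
  let K₀ : Subalgebra F (Matrix (Fin n) (Fin n) F) :=
    { carrier := {k | k ∈ K ∧ adj (RingEquiv.refl F) J k = k}
      mul_mem' := fun {a b} ha hb => ⟨mul_mem ha.1 hb.1, by rw [adj_mul h, ha.2, hb.2, hK.1.comm _ hb.1 _ ha.1]⟩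
      one_mem' := ⟨one_mem _, adj_one h⟩
      add_mem' := fun {a b} ha hb => ⟨add_mem ha.1 hb.1, by rw [adj_add, ha.2, hb.2]⟩
      zero_mem' := ⟨zero_mem _, by simp [adj]⟩
      algebraMap_mem' := fun c => ⟨Subalgebra.algebraMap_mem _ c, by
        rw [Algebra.algebraMap_eq_smul_one, adj_smul, adj_one h]; rfl⟩ }
  have hmem₀ : ∀ k, k ∈ K₀ ↔ k ∈ K ∧ adj (RingEquiv.refl F) J k = k := fun k => Iff.rfl
  set d₀ := Module.finrank F K₀ with hd₀
  have hK₀ : IsFieldSubalgebra d₀ K₀ := by
    refine ⟨fun x hx y hy => hK.1.comm x hx.1 y hy.1, fun x hx hx0 => ?_, rfl⟩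
    obtain ⟨y, hy, hxy⟩ := hK.1.inv x hx.1 hx0
    refine ⟨y, ⟨hy, ?_⟩, hxy⟩
    have e := congrArg (adj (RingEquiv.refl F) J) hxy
    rw [adj_mul h, adj_one h, hx.2] at e
    calc adj (RingEquiv.refl F) J y = adj (RingEquiv.refl F) J y * (x * y) := by rw [hxy, mul_one]
      _ = y := by rw [← mul_assoc, e, one_mul]
  have hnorm : H ≤ subalgebraNormalizer K₀ := fun g hg k => by
    rw [hmem₀, hmem₀, adj_conj h (hH g hg)]
    refine and_congr (hK.2.1 hg k) ⟨fun e => by rw [e], fun e => ?_⟩
    exact (Units.mul_right_inj g).1 ((Units.mul_left_inj g⁻¹).1 e)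
  by_cases hd2 : 2 ≤ d₀
  · obtain ⟨r, hr, hrd⟩ := Nat.exists_prime_and_dvd (n := d₀) (by omega)
    obtain ⟨L, hLK, hL, hle⟩ := exists_subfield_degree hrd (by omega) hK₀
    exact Or.inl ⟨r, L, hr, hL, fun k hk => (hLK hk).2, hnorm.trans hle⟩
  right
  have hsc : ∀ k ∈ K₀, ∃ c : F, k = c • 1 := by
    intro k hk
    have : Module.finrank F K₀ = 1 := by
      haveI : Nontrivial K₀ := inferInstance
      have : 0 < Module.finrank F K₀ := Module.finrank_pos
      omega
    rw [Subalgebra.eq_bot_of_finrank_one this, Algebra.mem_bot] at hk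
    obtain ⟨c, rfl⟩ := hk
    exact ⟨c, Algebra.algebraMap_eq_smul_one c⟩
  have hnsa : ¬ ∀ k ∈ K, adj (RingEquiv.refl F) J k = k := fun hall => by
    have : K₀ = K := SetLike.ext fun k => ((hmem₀ k).trans ⟨fun hk => hk.1, fun hk => ⟨hk, hall k hk⟩⟩)
    rw [hd₀, this, hK.1.finrank_eq] at hd2
    exact hd2 hd
  have hd' : d = 2 := by
    push Not at hnsa
    obtain ⟨a, ha, hane⟩ := hnsa
    have hle : K.toSubmodule ≤ Submodule.span F {1, a} := by
      intro x hx
      have ha' : a - adj (RingEquiv.refl F) J a ∈ K := sub_mem ha (hadj a ha)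
      obtain ⟨w, hw, haw⟩ := hK.1.inv _ ha' (sub_ne_zero.2 (Ne.symm hane))
      have hsub : ∀ X Y : Matrix (Fin n) (Fin n) F, adj (RingEquiv.refl F) J (X - Y) =
          adj (RingEquiv.refl F) J X - adj (RingEquiv.refl F) J Y := fun X Y => by simp [adj, mul_sub, sub_mul]
      have hw' : adj (RingEquiv.refl F) J w = -w := by
        have e := congrArg (adj (RingEquiv.refl F) J) haw
        rw [adj_mul h, adj_one h, hsub, adj_adj h] at e
        calc adj (RingEquiv.refl F) J w
            = adj (RingEquiv.refl F) J w * ((a - adj (RingEquiv.refl F) J a) * w) := by rw [haw, mul_one]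
          _ = -(adj (RingEquiv.refl F) J w * (adj (RingEquiv.refl F) J a - a)) * w := by
              rw [← mul_assoc, ← mul_neg, neg_sub]
          _ = -w := by rw [e, neg_one_mul]
      obtain ⟨β, hβ⟩ : ∃ β : F, (x - adj (RingEquiv.refl F) J x) * w = β • 1 := by
        refine hsc _ ⟨mul_mem (sub_mem hx (hadj x hx)) hw, ?_⟩
        rw [adj_mul h, hsub, adj_adj h, hw', ← neg_sub x, neg_mul_neg]
        exact hK.1.comm _ hw _ (sub_mem hx (hadj x hx))
      obtain ⟨γ, hγ⟩ : ∃ γ : F, x - β • a = γ • 1 := by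
        refine hsc _ ⟨sub_mem hx (Subalgebra.smul_mem _ ha β), ?_⟩
        have hxa : x - adj (RingEquiv.refl F) J x = β • (a - adj (RingEquiv.refl F) J a) := by
          have e := congrArg (fun X => X * (a - adj (RingEquiv.refl F) J a)) hβ
          rw [mul_assoc, hK.1.comm w hw _ ha', haw, mul_one, smul_mul_assoc, one_mul] at e
          exact e
        rw [hsub, adj_smul, RingEquiv.refl_apply, sub_eq_sub_iff_sub_eq_sub, ← neg_sub x, hxa, ← smul_sub, ← smul_neg, neg_sub]
      refine Submodule.mem_span_pair.2 ⟨γ, β, ?_⟩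
      rw [← hγ, sub_add_cancel]
    have h2 := Submodule.finrank_mono hle
    have h3 : Module.finrank F (Submodule.span F ({1, a} : Set (Matrix (Fin n) (Fin n) F))) ≤ 2 := by
      refine (finrank_span_le_card _).trans ?_
      rw [Set.toFinset_insert, Set.toFinset_singleton]
      exact Finset.card_le_two
    have h4 : Module.finrank F K.toSubmodule = d := hK.1.finrank_eq
    omega
  subst hd'
  exact ⟨K, hK.1, hadj, hnsa, fun k hk e => hsc k ⟨hk, e⟩, hK.2.1⟩

/-- A pair of totally singular subspaces from an idempotent. -/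
theorem tsPair_of_idem (h : FormData τ J ε) (hn : 1 ≤ n) {H : Subgroup (GL (Fin n) F)}
    {p : Matrix (Fin n) (Fin n) F} (hp : p * p = p) (hadj : adj τ J p = 1 - p)
    (hH : ∀ g ∈ H, g.val * p = p * g.val ∨ g.val * p = (1 - p) * g.val) : TSPairCase τ J H := by
  classical
  set q := 1 - p with hq
  have hqq : q * q = q := by rw [hq, sub_mul, mul_sub, mul_sub, one_mul, one_mul, mul_one, hp, sub_self, sub_zero]
  have hpq : p * q = 0 := by rw [hq, mul_sub, mul_one, hp, sub_self]
  have hqp : q * p = 0 := by rw [hq, sub_mul, one_mul, hp, sub_self]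
  have hadjq : adj τ J q = p := by rw [← hadj, adj_adj h]
  let D : Fin 2 → Submodule F (Fin n → F) := ![LinearMap.range (Matrix.toLin' p), LinearMap.range (Matrix.toLin' q)]
  have hts : ∀ i, IsTotallySingularFor (sform τ J) (D i) := by
    intro i
    fin_cases i <;> rintro _ ⟨u, rfl⟩ _ ⟨v, rfl⟩
    · rw [Matrix.toLin'_apply, Matrix.toLin'_apply, sform_adj h, hadj, mulVec_mulVec, hqp, zero_mulVec]
      simpa using sform_smul_right τ J 0 u 0
    · rw [Matrix.toLin'_apply, Matrix.toLin'_apply, sform_adj h, hadjq, mulVec_mulVec, hpq, zero_mulVec]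
      simpa using sform_smul_right τ J 0 u 0
  have hle : ∀ i, 2 * Module.finrank F (D i) ≤ n := fun i => by
    have h1 := Submodule.finrank_mono (ts_iff_le_perp.1 (hts i))
    have h2 := finrank_perp h (D i)
    rw [Fintype.card_fin] at h2
    omega
  have hdis : D 0 ⊓ D 1 = ⊥ := (Submodule.eq_bot_iff _).2 fun v ⟨⟨u, hu⟩, ⟨w, hw⟩⟩ => by
    rw [Matrix.toLin'_apply] at hu hw
    rw [← hu]
    calc p *ᵥ u = (p * p) *ᵥ u := by rw [hp]
      _ = 0 := by rw [← mulVec_mulVec, hu, ← hw, mulVec_mulVec, hpq, zero_mulVec]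
  have hsup : D 0 ⊔ D 1 = ⊤ := eq_top_iff.2 fun v _ => by
    have e : v = p *ᵥ v + q *ᵥ v := by rw [hq, sub_mulVec, one_mulVec]; abel
    rw [e]
    exact Submodule.add_mem_sup ⟨v, Matrix.toLin'_apply _ _⟩ ⟨v, Matrix.toLin'_apply _ _⟩
  have hsum := Submodule.finrank_sup_add_finrank_inf_eq (D 0) (D 1)
  rw [hdis, hsup, finrank_bot, finrank_top, Module.finrank_fin_fun] at hsum
  have := hle 0
  have := hle 1
  refine ⟨Module.finrank F (D 0), D, by omega, ⟨le_rfl, by omega, fun i => ?_, ?_, ?_⟩, hts, fun g hg => ?_⟩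
  · fin_cases i
    · rfl
    · show Module.finrank F (D 1) = _
      omega
  · intro i
    fin_cases i
    · refine (disjoint_iff.2 hdis).mono_right (iSup₂_le fun j hj => ?_)
      fin_cases j
      · exact absurd rfl hj
      · exact le_rfl
    · refine (disjoint_iff.2 (by rw [inf_comm]; exact hdis)).mono_right (iSup₂_le fun j hj => ?_)
      fin_cases j
      · exact le_rfl
      · exact absurd rfl hj
  · exact top_le_iff.1 (hsup.symm.le.trans (sup_le (le_iSup D 0) (le_iSup D 1)))
  · have key : ∀ a b : Matrix (Fin n) (Fin n) F, g.val * a = b * g.val →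
        (LinearMap.range (Matrix.toLin' a)).map (Matrix.toLin' g.val) = LinearMap.range (Matrix.toLin' b) := by
      intro a b e
      rw [← LinearMap.range_comp, ← Matrix.toLin'_mul, e, Matrix.toLin'_mul, LinearMap.range_comp,
        LinearMap.range_eq_top.2 fun v => ⟨(↑g⁻¹ : Matrix (Fin n) (Fin n) F) *ᵥ v, by
          rw [Matrix.toLin'_apply, PrimeDim.mulVec_inv_cancel]⟩, Submodule.map_top]
    rcases hH g hg with e | e
    · refine ⟨1, fun i => ?_⟩
      fin_cases i
      · exact key _ _ e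
      · exact key _ _ (show g.val * q = q * g.val by rw [hq, mul_sub, mul_one, e, sub_mul, one_mul])
    · refine ⟨Equiv.swap 0 1, fun i => ?_⟩
      fin_cases i
      · simpa [D] using key _ _ e
      · have e' : g.val * q = p * g.val := by rw [hq, mul_sub, mul_one, e, sub_mul, one_mul, sub_sub_cancel]
        simpa [D] using key _ _ e'

/-- A normalised line of skew-adjoint matrices with scalar square. -/
theorem skew_line [Finite F] (h : FormData (RingEquiv.refl F) J ε) (hn : 1 ≤ n) (h2 : (2 : F) ≠ 0)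
    {H : Subgroup (GL (Fin n) F)} (hH : ∀ g ∈ H, Iso (RingEquiv.refl F) J g.val) {X : Matrix (Fin n) (Fin n) F}
    {a : F} (ha : a ≠ 0) (hX : X * X = a • 1) (hadj : adj (RingEquiv.refl F) J X = -X)
    (hns : ∀ c : F, X ≠ c • 1)
    (hnorm : ∀ g ∈ H, ∃ c : F, g.val * X = c • (X * g.val)) :
    TSPairCase (RingEquiv.refl F) J H ∨ ConjFieldCase (RingEquiv.refl F) J H := by
  classical
  haveI : Nonempty (Fin n) := ⟨⟨0, hn⟩⟩
  have hsign : ∀ g ∈ H, g.val * X = X * g.val ∨ g.val * X = -(X * g.val) := by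
    intro g hg
    obtain ⟨c, hc⟩ := hnorm g hg
    have e : g.val * (X * X) = (c * c) • (X * X * g.val) := by
      rw [← mul_assoc, hc, smul_mul_assoc, mul_assoc X, hc, mul_smul_comm, smul_smul, ← mul_assoc]
    rw [hX, mul_smul_comm, mul_one, smul_mul_assoc, one_mul, smul_smul] at e
    have hcc : c * c = 1 := by
      by_contra hne
      apply g.ne_zero
      have h0 : (a - c * c * a) • (g.val) = 0 := by rw [sub_smul, ← e, sub_self]
      rcases smul_eq_zero.1 h0 with h' | h'
      · exact absurd (mul_right_cancel₀ ha (show c * c * a = 1 * a by rw [one_mul]; linear_combination -h')) hne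
      · exact h'
    rcases mul_self_eq_one_iff.1 hcc with h' | h'
    · exact Or.inl (by rw [hc, h', one_smul])
    · exact Or.inr (by rw [hc, h', neg_smul, one_smul])
  by_cases hsq : IsSquare a
  · left
    obtain ⟨s, rfl⟩ := hsq
    have hs : s ≠ 0 := fun e => ha (by rw [e, mul_zero])
    refine tsPair_of_idem h hn (p := (1 / 2 : F) • (1 + s⁻¹ • X)) ?_ ?_ fun g hg => ?_
    · simp only [smul_mul_assoc, mul_smul_comm, smul_smul, add_mul, mul_add, one_mul, mul_one, hX, smul_add]
      match_scalars <;> field_simp <;> ring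
    · rw [adj_smul, adj_add, adj_one h, adj_smul, hadj]
      simp only [RingEquiv.refl_apply, smul_add, smul_neg]
      match_scalars <;> field_simp <;> ring
    · rcases hsign g hg with e | e
      · exact Or.inl (by simp only [mul_smul_comm, smul_mul_assoc, mul_add, add_mul, mul_one, one_mul, e])
      · refine Or.inr ?_
        simp only [mul_smul_comm, smul_mul_assoc, mul_add, add_mul, sub_mul, mul_one, one_mul, e, smul_neg, smul_add]
        match_scalars <;> field_simp <;> ring
  right
  let K : Subalgebra F (Matrix (Fin n) (Fin n) F) :=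
    { carrier := {M | ∃ u v : F, M = u • 1 + v • X}
      mul_mem' := by
        rintro _ _ ⟨u, v, rfl⟩ ⟨u', v', rfl⟩
        refine ⟨u * u' + v * v' * a, u * v' + v * u', ?_⟩
        simp only [smul_mul_assoc, mul_smul_comm, smul_smul, add_mul, mul_add, one_mul, mul_one, hX]
        match_scalars <;> ring
      one_mem' := ⟨1, 0, by simp⟩
      add_mem' := by
        rintro _ _ ⟨u, v, rfl⟩ ⟨u', v', rfl⟩
        exact ⟨u + u', v + v', by rw [add_smul, add_smul]; abel⟩
      zero_mem' := ⟨0, 0, by simp⟩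
      algebraMap_mem' := fun c => ⟨c, 0, by simp [Algebra.algebraMap_eq_smul_one]⟩ }
  have hmem : ∀ M, M ∈ K ↔ ∃ u v : F, M = u • 1 + v • X := fun M => Iff.rfl
  have hindep : ∀ u v : F, u • (1 : Matrix (Fin n) (Fin n) F) + v • X = 0 → u = 0 ∧ v = 0 := by
    intro u v e
    haveI : Nonempty (Fin n) := ⟨⟨0, hn⟩⟩
    by_cases hv : v = 0
    · rw [hv, zero_smul, add_zero, smul_eq_zero] at e
      exact ⟨e.resolve_right one_ne_zero, hv⟩
    · refine absurd ?_ (hns (-(u / v)))
      have e' := eq_neg_of_add_eq_zero_right e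
      rw [← inv_smul_smul₀ hv X, e', ← neg_smul, smul_smul]
      congr 1
      ring
  have hK : IsFieldSubalgebra 2 K := by
    refine ⟨?_, ?_, ?_⟩
    · rintro _ ⟨u, v, rfl⟩ _ ⟨u', v', rfl⟩
      simp only [smul_mul_assoc, mul_smul_comm, smul_smul, add_mul, mul_add, one_mul, mul_one]
      match_scalars <;> ring
    · rintro _ ⟨u, v, rfl⟩ h0
      have hden : u * u - v * v * a ≠ 0 := by
        intro e
        by_cases hv : v = 0
        · subst hv
          have : u = 0 := by simpa using e
          exact h0 (by simp [this])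
        · exact hsq ⟨u / v, by field_simp; linear_combination -e⟩
      refine ⟨_, ⟨u / (u * u - v * v * a), -v / (u * u - v * v * a), rfl⟩, ?_⟩
      simp only [smul_mul_assoc, mul_smul_comm, smul_smul, add_mul, mul_add, one_mul, mul_one, hX]
      match_scalars
      · rw [div_mul_eq_mul_div, div_eq_mul_inv, div_eq_mul_inv]
        linear_combination mul_inv_cancel₀ hden
      · ring
    · let f : (Fin 2 → F) →ₗ[F] K :=
        { toFun := fun w => ⟨w 0 • 1 + w 1 • X, w 0, w 1, rfl⟩
          map_add' := fun w w' => Subtype.ext (by simp [add_smul]; abel)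
          map_smul' := fun c w => Subtype.ext (by simp [smul_add, smul_smul]) }
      have hf : Function.Bijective f := by
        refine ⟨(injective_iff_map_eq_zero f).2 fun w hw => ?_, ?_⟩
        · obtain ⟨e0, e1⟩ := hindep _ _ (congrArg Subtype.val hw)
          funext i; fin_cases i <;> assumption
        · rintro ⟨_, u, v, rfl⟩
          exact ⟨![u, v], rfl⟩
      rw [← (LinearEquiv.ofBijective f hf).finrank_eq, Module.finrank_fin_fun]
  have hadjK : ∀ u v : F, adj (RingEquiv.refl F) J (u • 1 + v • X) = u • 1 + (-v) • X := fun u v => by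
    rw [adj_add, adj_smul, adj_smul, adj_one h, hadj]
    simp
  refine ⟨K, hK, ?_, fun hall => ?_, ?_, fun g hg k => ?_⟩
  · rintro _ ⟨u, v, rfl⟩
    exact ⟨u, -v, hadjK u v⟩
  · have e := hall (0 • 1 + 1 • X) ⟨0, 1, rfl⟩
    rw [hadjK] at e
    refine mul_ne_zero h2 one_ne_zero (hindep 0 (2 * 1) ?_).2
    rw [mul_one, show (2 : F) = 1 + 1 by norm_num, add_smul, zero_smul, zero_add]
    simp at e
    nth_rw 1 [← e]
    simp
  · rintro _ ⟨u, v, rfl⟩ e
    rw [hadjK] at e
    have : (0 : F) • (1 : Matrix (Fin n) (Fin n) F) + (2 * v) • X = 0 := by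
      rw [zero_smul, zero_add, two_mul, add_smul]
      have e' := add_left_cancel e
      nth_rw 1 [← e']
      rw [neg_smul, neg_add_cancel]
    exact ⟨u, by rw [(mul_eq_zero.1 (hindep _ _ this).2).resolve_left h2, zero_smul, add_zero]⟩
  · obtain ⟨c, hc, hcc⟩ : ∃ c : F, c * c = 1 ∧ g.val * X = c • (X * g.val) := by
      rcases hsign g hg with e | e
      · exact ⟨1, by ring, by rw [e, one_smul]⟩
      · exact ⟨-1, by ring, by rw [e, neg_smul, one_smul]⟩
    have hconj : ∀ u v : F, g.val * (u • 1 + v • X) * (g⁻¹ : GL (Fin n) F).val = u • 1 + (c * v) • X := fun u v => by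
      rw [mul_add, add_mul, mul_smul_comm, mul_one, smul_mul_assoc, Units.mul_inv, mul_smul_comm, smul_mul_assoc, hcc,
        smul_mul_assoc, mul_assoc, Units.mul_inv, mul_one, smul_smul, mul_comm]
    rw [hmem, hmem]
    constructor
    · rintro ⟨u, v, rfl⟩
      exact ⟨u, c * v, hconj u v⟩
    · rintro ⟨u, v, e⟩
      refine ⟨u, c * v, (Units.mul_right_inj g).1 ((Units.mul_left_inj g⁻¹).1 ?_)⟩
      rw [hconj, ← mul_assoc, hc, one_mul, e]

end CfsgLib.Asch
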