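import Cfsg.Agent.Lib.Classical.AschFormSplit

set_option autoImplicit false
set_option linter.unusedSectionVars false

/-!
Forms on tensor products and tensor powers preserved by normalised isometry groups.
-/

namespace CfsgLib.Asch

open Matrix
open Cfsg.Geo (matrixSet ActsIrreducibly ActsAbsolutelyIrreducibly tensorWreathSubgroup tensorWreathStandard
  glReindex)
open CfsgLib.PrimeDim (Inv Nml cent mem_cent)
open scoped MatrixGroups Kronecker

variable {F : Type*} [Field F] {n : ℕ} {τ : F ≃+* F} {J : Matrix (Fin n) (Fin n) F} {ε : F}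

theorem bm_kron {a b : ℕ} (τ : F ≃+* F) (A : Matrix (Fin a) (Fin a) F) (B : Matrix (Fin b) (Fin b) F) :
    bm τ (A ⊗ₖ B) = bm τ A ⊗ₖ bm τ B := by
  ext p q
  simp [bm_apply]

theorem bm_pureMat {m k : ℕ} (τ : F ≃+* F) (gs : Fin k → Matrix (Fin m) (Fin m) F) :
    bm τ (pureMat gs) = pureMat fun i => bm τ (gs i) := by
  ext x y
  simp [bm_apply, pureMat_apply, map_prod]

theorem bm_submatrix {ι κ : Type} [Fintype ι] [DecidableEq ι] [Fintype κ] [DecidableEq κ] (τ : F ≃+* F)
    (X : Matrix ι ι F) (e : κ → ι) : bm τ (X.submatrix e e) = (bm τ X).submatrix e e := rfl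

/-- The matrix of the form in the coordinates given by `e` and `P`. -/
def fcoord {ι : Type} (τ : F ≃+* F) (J : Matrix (Fin n) (Fin n) F) (e : Fin n ≃ ι) (P : GL (Fin n) F) :
    Matrix ι ι F :=
  ((P : Matrix (Fin n) (Fin n) F)ᵀ * J * bm τ (P : Matrix (Fin n) (Fin n) F)).submatrix e.symm e.symm

variable {ι : Type} [Fintype ι] [DecidableEq ι] {e : Fin n ≃ ι} {P : GL (Fin n) F}

theorem fcoord_congr (x : Matrix (Fin n) (Fin n) F) :
    (tcoord e P x)ᵀ * fcoord τ J e P * bm τ (tcoord e P x) =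
      ((P : Matrix (Fin n) (Fin n) F)ᵀ * (xᵀ * J * bm τ x) * bm τ (P : Matrix (Fin n) (Fin n) F)).submatrix
        e.symm e.symm := by
  rw [tcoord, fcoord, Matrix.transpose_submatrix, bm_submatrix, Matrix.submatrix_mul_equiv,
    Matrix.submatrix_mul_equiv]
  congr 1
  have e1 : (P : Matrix (Fin n) (Fin n) F) * ((↑P⁻¹ : Matrix (Fin n) (Fin n) F) * x * (P : Matrix (Fin n) (Fin n) F)) =
      x * (P : Matrix (Fin n) (Fin n) F) := by rw [mul_assoc, Units.mul_inv_cancel_left]
  calc _ = ((P : Matrix (Fin n) (Fin n) F) * ((↑P⁻¹ : Matrix (Fin n) (Fin n) F) * x * (P : Matrix (Fin n) (Fin n) F)))ᵀ *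
        J * bm τ ((P : Matrix (Fin n) (Fin n) F) * ((↑P⁻¹ : Matrix (Fin n) (Fin n) F) * x * (P : Matrix (Fin n) (Fin n) F))) := by
        generalize (↑P⁻¹ : Matrix (Fin n) (Fin n) F) * x * (P : Matrix (Fin n) (Fin n) F) = Q
        rw [Matrix.transpose_mul, map_mul]
        simp only [mul_assoc]
    _ = _ := by
        rw [e1, Matrix.transpose_mul, map_mul]
        simp only [mul_assoc]

theorem fcoord_iso {g : Matrix (Fin n) (Fin n) F} (hg : Iso τ J g) :
    (tcoord e P g)ᵀ * fcoord τ J e P * bm τ (tcoord e P g) = fcoord τ J e P := by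
  rw [fcoord_congr, show gᵀ * J * bm τ g = J from hg]
  rfl

theorem fcoord_data (h : FormData τ J ε) (e : Fin n ≃ ι) (P : GL (Fin n) F) :
    FormData τ (fcoord τ J e P) ε := by
  refine ⟨?_, h.inv, ?_⟩
  · have h1 : IsUnit ((P : Matrix (Fin n) (Fin n) F)ᵀ * J * bm τ (P : Matrix (Fin n) (Fin n) F)) := by
      refine (IsUnit.mul ?_ h.unit).mul (isUnit_bm P.isUnit)
      rw [Matrix.isUnit_iff_isUnit_det, Matrix.det_transpose]
      exact (Matrix.isUnit_iff_isUnit_det _).1 P.isUnit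
    rw [fcoord, Matrix.isUnit_iff_isUnit_det, Matrix.det_submatrix_equiv_self]
    exact (Matrix.isUnit_iff_isUnit_det _).1 h1
  · rw [fcoord, bm_submatrix, Matrix.transpose_submatrix, map_mul, map_mul, bm_bm h.inv, Matrix.transpose_mul,
      Matrix.transpose_mul, h.herm,
      show ((bm τ) (P : Matrix (Fin n) (Fin n) F)ᵀ)ᵀ = bm τ (P : Matrix (Fin n) (Fin n) F) from rfl]
    ext i j
    simp [mul_assoc, smul_mul, mul_smul]

theorem sform_fcoord (x y : ι → F) :
    sform τ J ((P : Matrix (Fin n) (Fin n) F) *ᵥ (x ∘ e)) ((P : Matrix (Fin n) (Fin n) F) *ᵥ (y ∘ e)) =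
      sform τ (fcoord τ J e P) x y := by
  rw [sform_mulVec, fcoord]
  generalize (P : Matrix (Fin n) (Fin n) F)ᵀ * J * bm τ (P : Matrix (Fin n) (Fin n) F) = Y
  simp only [sform, dotProduct, mulVec, Matrix.submatrix_apply, Function.comp_apply]
  refine Fintype.sum_equiv e _ _ fun i => ?_
  congr 1
  · exact Fintype.sum_equiv e _ _ fun j => by simp

/-! ### Separation -/

theorem kron_factor {a b : ℕ} {A A' : Matrix (Fin a) (Fin a) F} {B B' : Matrix (Fin b) (Fin b) F}
    (h : A ⊗ₖ B = A' ⊗ₖ B') (hA' : A' ≠ 0) (hB' : B' ≠ 0) :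
    ∃ c : F, c ≠ 0 ∧ A = c • A' ∧ B = c⁻¹ • B' := by
  have hh : ∀ i j k l, A i j * B k l = A' i j * B' k l := fun i j k l => congrFun (congrFun h (i, k)) (j, l)
  obtain ⟨i, j, hij⟩ : ∃ i j, A' i j ≠ 0 := by
    by_contra hc
    push Not at hc
    exact hA' (Matrix.ext hc)
  obtain ⟨k, l, hkl⟩ : ∃ k l, B' k l ≠ 0 := by
    by_contra hc
    push Not at hc
    exact hB' (Matrix.ext hc)
  have hne : A i j * B k l ≠ 0 := by rw [hh]; exact mul_ne_zero hij hkl
  obtain ⟨hAij, hBkl⟩ := mul_ne_zero_iff.1 hne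
  refine ⟨A i j / A' i j, div_ne_zero hAij hij, Matrix.ext fun x y => ?_, Matrix.ext fun x y => ?_⟩
  · rw [Matrix.smul_apply, smul_eq_mul, div_mul_eq_mul_div, eq_div_iff hij]
    refine mul_right_cancel₀ hBkl ?_
    linear_combination (A' i j) * hh x y k l - (A' x y) * hh i j k l
  · rw [Matrix.smul_apply, smul_eq_mul]
    field_simp
    linear_combination hh i j x y

theorem pureMat_factor {m k : ℕ} {A B : Fin k → Matrix (Fin m) (Fin m) F} {c : F}
    (h : pureMat A = c • pureMat B) (hA : ∀ i, A i ≠ 0) :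
    ∀ i, ∃ a : F, a ≠ 0 ∧ A i = a • B i := by
  have hpick : ∀ i, ∃ u v, A i u v ≠ 0 := fun i => by
    by_contra hc
    push Not at hc
    exact hA i (Matrix.ext hc)
  choose u v huv using hpick
  intro i
  classical
  have hh : ∀ x y : Fin k → Fin m, (∏ l, A l (x l) (y l)) = c * ∏ l, B l (x l) (y l) := fun x y =>
    congrFun (congrFun h x) y
  have key : ∀ p q, A i p q * (∏ l ∈ Finset.univ.erase i, A l (u l) (v l)) =
      B i p q * (c * ∏ l ∈ Finset.univ.erase i, B l (u l) (v l)) := fun p q => by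
    have e1 : ∀ G : Fin k → Matrix (Fin m) (Fin m) F,
        (∏ l, G l (Function.update u i p l) (Function.update v i q l)) =
          G i p q * ∏ l ∈ Finset.univ.erase i, G l (u l) (v l) := fun G => by
      rw [← Finset.mul_prod_erase _ _ (Finset.mem_univ i), Function.update_self, Function.update_self]
      congr 1
      exact Finset.prod_congr rfl fun l hl => by
        rw [Function.update_of_ne (Finset.ne_of_mem_erase hl), Function.update_of_ne (Finset.ne_of_mem_erase hl)]
    have := hh (Function.update u i p) (Function.update v i q)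
    rw [e1, e1] at this
    linear_combination this
  have hP : (∏ l ∈ Finset.univ.erase i, A l (u l) (v l)) ≠ 0 := Finset.prod_ne_zero_iff.2 fun l _ => huv l
  refine ⟨(c * ∏ l ∈ Finset.univ.erase i, B l (u l) (v l)) / ∏ l ∈ Finset.univ.erase i, A l (u l) (v l), ?_,
    Matrix.ext fun p q => ?_⟩
  · refine div_ne_zero ?_ hP
    intro e0
    have := key (u i) (v i)
    rw [e0, mul_zero] at this
    exact mul_ne_zero (huv i) hP this
  · rw [Matrix.smul_apply, smul_eq_mul, div_mul_eq_mul_div, eq_div_iff hP]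
    linear_combination key p q

/-! ### Two factors -/

theorem rho_isUnit {N : Subgroup (GL (Fin n) F)} {m t : ℕ} (ht : 1 ≤ t) {ρ : N → Matrix (Fin m) (Fin m) F}
    {e : Fin n ≃ Fin m × Fin t} {P : GL (Fin n) F} (hρ : IsHomog N ρ e P) (x : N) : IsUnit (ρ x) := by
  have h1 : IsUnit (ρ x ⊗ₖ (1 : Matrix (Fin t) (Fin t) F)) := by
    rw [← hρ.kron, Matrix.isUnit_iff_isUnit_det, Matrix.det_submatrix_equiv_self]
    exact (Matrix.isUnit_iff_isUnit_det _).1 (P⁻¹ * (x : GL (Fin n) F) * P).isUnit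
  rw [Matrix.isUnit_iff_isUnit_det] at h1 ⊢
  rw [Matrix.det_kronecker, IsUnit.mul_iff, Fintype.card_fin] at h1
  exact (isUnit_pow_iff (by omega)).1 h1.1

/-- The form splits along a tensor decomposition. -/
theorem tensor_form (h : FormData τ J ε) {H N : Subgroup (GL (Fin n) F)} (hH : ∀ g ∈ H, Iso τ J g.val)
    (hN : Nml H N) {m t : ℕ} {ρ : N → Matrix (Fin m) (Fin m) F} {e : Fin n ≃ Fin m × Fin t} {P : GL (Fin n) F}
    (hm : 1 ≤ m) (ht : 1 ≤ t) (hT : TensorData H N m t ρ e P) :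
    ∃ (J₁ : Matrix (Fin m) (Fin m) F) (J₂ : Matrix (Fin t) (Fin t) F) (c₁ c₂ : F),
      c₁ * c₂ = ε ∧ fcoord τ J e P = J₁ ⊗ₖ J₂ ∧ FormData τ J₁ c₁ ∧ FormData τ J₂ c₂ ∧
      (∀ x, (ρ x)ᵀ * J₁ * bm τ (ρ x) = J₁) ∧
      ∀ g ∈ H, ∃ (A : GL (Fin m) F) (C : GL (Fin t) F) (a b : F),
        coord e P (g : Matrix (Fin n) (Fin n) F) = (A : Matrix (Fin m) (Fin m) F) ⊗ₖ (C : Matrix (Fin t) (Fin t) F) ∧
        a ≠ 0 ∧ b ≠ 0 ∧ A.valᵀ * J₁ * bm τ A.val = a • J₁ ∧ C.valᵀ * J₂ * bm τ C.val = b • J₂ := by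
  classical
  obtain ⟨hρ, habs, hH'⟩ := hT
  haveI : Nonempty (Fin m) := ⟨⟨0, hm⟩⟩
  haveI : Nonempty (Fin t) := ⟨⟨0, ht⟩⟩
  haveI : Nonempty (Fin m × Fin t) := inferInstance
  set F₀ := fcoord τ J e P with hF₀
  have hFd := fcoord_data h e P
  rw [← hF₀] at hFd
  have hinv : ∀ (x : N) j k, (ρ x)ᵀ * blk F₀ j k * bm τ (ρ x) = blk F₀ j k := by
    intro x j k
    have h1 := fcoord_iso (e := e) (P := P) (τ := τ) (J := J) (hH _ (hN.le x.2))
    rw [show tcoord e P ((x : GL (Fin n) F) : Matrix (Fin n) (Fin n) F) = _ from hρ.kron x, ← hF₀, bm_kron, map_one,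
      show (ρ x ⊗ₖ (1 : Matrix (Fin t) (Fin t) F))ᵀ = (ρ x)ᵀ ⊗ₖ (1 : Matrix (Fin t) (Fin t) F) from by
        rw [← Matrix.kroneckerMap_transpose, Matrix.transpose_one]] at h1
    conv_rhs => rw [← h1]
    rw [blk_mul_kron, blk_kron_mul]
  have hS : ∀ s ∈ Set.range ρ, IsUnit s := by
    rintro _ ⟨x, rfl⟩
    exact rho_isUnit ht hρ x
  obtain ⟨j₀, k₀, h0⟩ : ∃ j k, blk F₀ j k ≠ 0 := by
    by_contra hc
    push Not at hc
    exact hFd.unit.ne_zero (blk_ext fun j k => by rw [hc]; rfl)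
  set J₁ := blk F₀ j₀ k₀ with hJ₁
  have hJ₁inv : ∀ s ∈ Set.range ρ, sᵀ * J₁ * bm τ s = J₁ := by
    rintro _ ⟨x, rfl⟩
    exact hinv x j₀ k₀
  have hu := invariant_isUnit habs.1 h0 hS hJ₁inv
  have hex : ∀ j k, ∃ c : F, blk F₀ j k = c • J₁ := fun j k => by
    refine invariant_unique h.inv habs hu hJ₁inv ?_
    rintro _ ⟨x, rfl⟩
    exact hinv x j k
  choose C hC using hex
  have hF : F₀ = J₁ ⊗ₖ Matrix.of C := by
    refine blk_ext fun j k => ?_
    rw [hC]
    ext i i'
    simp [blk, mul_comm]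
  obtain ⟨c₁, hc₁, hd₁⟩ := invariant_herm h.inv habs hu hJ₁inv
  have hc₁0 : c₁ ≠ 0 := left_ne_zero_of_mul_eq_one hc₁
  have hu₂ : IsUnit (Matrix.of C) := by
    have h1 := (Matrix.isUnit_iff_isUnit_det _).1 hFd.unit
    rw [hF, Matrix.det_kronecker, IsUnit.mul_iff, Fintype.card_fin, Fintype.card_fin] at h1
    exact (Matrix.isUnit_iff_isUnit_det _).2 ((isUnit_pow_iff (by omega)).1 h1.2)
  have hd₂ : FormData τ (Matrix.of C) (ε / c₁) := by
    refine ⟨hu₂, h.inv, ?_⟩
    have h1 := hFd.herm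
    rw [hF, bm_kron, ← Matrix.kroneckerMap_transpose, hd₁.herm, Matrix.smul_kronecker, ← Matrix.kronecker_smul,
      ← Matrix.kronecker_smul] at h1
    obtain ⟨i, i', hii⟩ : ∃ i i', J₁ i i' ≠ 0 := by
      by_contra hc
      push Not at hc
      exact hu.ne_zero (Matrix.ext hc)
    ext k l
    have h2 := congrFun (congrFun h1 (i, k)) (i', l)
    simp only [Matrix.kroneckerMap_apply, Matrix.smul_apply, smul_eq_mul] at h2 ⊢
    rw [div_mul_eq_mul_div, eq_div_iff hc₁0]
    exact mul_left_cancel₀ hii (by linear_combination h2)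
  refine ⟨J₁, Matrix.of C, c₁, ε / c₁, mul_div_cancel₀ ε hc₁0, hF, hd₁, hd₂, fun x => hJ₁inv _ ⟨x, rfl⟩,
    fun g hg => ?_⟩
  obtain ⟨A, C', hAC⟩ := hH' g hg
  have h1 := fcoord_iso (e := e) (P := P) (τ := τ) (J := J) (hH g hg)
  rw [show tcoord e P (g : Matrix (Fin n) (Fin n) F) = _ from hAC, ← hF₀, hF, bm_kron, ← Matrix.kroneckerMap_transpose,
    ← Matrix.mul_kronecker_mul, ← Matrix.mul_kronecker_mul] at h1
  obtain ⟨a, ha, e1, e2⟩ := kron_factor h1 hu.ne_zero hu₂.ne_zero
  exact ⟨A, C', a, a⁻¹, hAC, ha, inv_ne_zero ha, e1, e2⟩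

/-! ### Powers -/

/-- The matrices preserving a form. -/
def isoGroup (τ : F ≃+* F) (B : Matrix (Fin n) (Fin n) F) : Subgroup (GL (Fin n) F) where
  carrier := {g | Iso τ B g.val}
  one_mem' := by simp [Iso]
  mul_mem' {a b} ha hb := by
    show (a * b).valᵀ * B * bm τ (a * b).val = B
    rw [Units.val_mul, Matrix.transpose_mul, map_mul]
    conv_rhs => rw [← show b.valᵀ * B * bm τ b.val = B from hb, ← show a.valᵀ * B * bm τ a.val = B from ha]
    simp only [mul_assoc]
  inv_mem' {a} ha := by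
    show (a⁻¹).valᵀ * B * bm τ (a⁻¹).val = B
    conv_lhs => rw [← show a.valᵀ * B * bm τ a.val = B from ha]
    simp only [← mul_assoc]
    rw [← Matrix.transpose_mul, Units.mul_inv, Matrix.transpose_one, one_mul, mul_assoc, ← map_mul, Units.mul_inv,
      map_one, mul_one]

theorem permMat_congr {m k : ℕ} (σ : Equiv.Perm (Fin k)) (Y : Fin k → Matrix (Fin m) (Fin m) F) :
    (permMat σ)ᵀ * pureMat Y * permMat σ = pureMat fun i => Y (σ i) := by
  have ht : (permMat σ : Matrix (Fin k → Fin m) (Fin k → Fin m) F).transpose = permMat σ⁻¹ := by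
    ext x y
    simp only [Matrix.transpose_apply, permMat, Matrix.of_apply]
    by_cases h : x = y ∘ σ
    · subst h
      simp [Function.comp_assoc]
    · rw [if_neg h, if_neg]
      intro h'
      exact h (by rw [h']; funext j; simp)
  rw [ht]
  ext x y
  rw [mul_assoc, Matrix.mul_apply, Finset.sum_eq_single (x ∘ ⇑σ⁻¹)]
  · rw [show (permMat σ⁻¹ : Matrix (Fin k → Fin m) (Fin k → Fin m) F) x (x ∘ ⇑σ⁻¹) = 1 from if_pos rfl, one_mul,
      pureMat_mul_permMat, pureMat_apply]
    exact Finset.prod_congr rfl fun i _ => by simp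
  · intro z _ hz
    rw [show (permMat σ⁻¹ : Matrix (Fin k → Fin m) (Fin k → Fin m) F) x z = 0 from if_neg hz, zero_mul]
  · simp

/-- Changing the coordinates inside the standard group. -/
theorem wreath_mul_std {m k : ℕ} {e : Fin n ≃ (Fin k → Fin m)} {P : GL (Fin n) F} {d : GL (Fin k → Fin m) F}
    (hd : d ∈ tensorWreathStandard m k F) :
    tensorWreathSubgroup m k e (P * glReindex e.symm d) = tensorWreathSubgroup m k e P := by
  ext g
  constructor
  · rintro ⟨_, ⟨x, hx, rfl⟩, rfl⟩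
    exact ⟨_, ⟨d * x * d⁻¹, mul_mem (mul_mem hd hx) (inv_mem hd), rfl⟩, by simp [mul_assoc]⟩
  · rintro ⟨_, ⟨x, hx, rfl⟩, rfl⟩
    exact ⟨_, ⟨d⁻¹ * x * d, mul_mem (mul_mem (inv_mem hd) hx) hd, rfl⟩, by simp [mul_assoc]⟩

set_option maxHeartbeats 1000000 in
/-- The form on a tensor power. -/
theorem wreath_form [Finite F] (h : FormData τ J ε) (hn : 1 ≤ n) {H : Subgroup (GL (Fin n) F)}
    (hH : ∀ g ∈ H, Iso τ J g.val) {m k : ℕ} (hk : 1 ≤ k) {M : Fin k → Subgroup (GL (Fin n) F)}
    {ρ : ∀ i, M i → Matrix (Fin m) (Fin m) F} {e : Fin n ≃ (Fin k → Fin m)} {P : GL (Fin n) F}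
    (hirr : ∀ i, ActsIrreducibly (Set.range (ρ i)))
    (hrep : ∀ i (x : M i), tcoord e P ((x : GL (Fin n) F) : Matrix (Fin n) (Fin n) F) = slot i (ρ i x))
    (habs : ActsAbsolutelyIrreducibly (matrixSet (⨆ i, M i))) (hMH : ∀ i, M i ≤ H)
    (hperm : ∀ g ∈ H, ∃ σ : Equiv.Perm (Fin k), ∀ i, ∀ x ∈ M i, g * x * g⁻¹ ∈ M (σ i))
    (i₀ : Fin k) (htrans : ∀ l, ∃ g ∈ H, ∃ σ : Equiv.Perm (Fin k), σ i₀ = l ∧ ∀ i, ∀ x ∈ M i, g * x * g⁻¹ ∈ M (σ i)) :
    ∃ (J₀ : Matrix (Fin m) (Fin m) F) (c₀ c : F) (P' : GL (Fin n) F),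
      c ≠ 0 ∧ c₀ * τ c₀ = 1 ∧ FormData τ J₀ c₀ ∧ fcoord τ J e P' = c • pureMat (fun _ : Fin k => J₀) ∧
      ActsAbsolutelyIrreducibly (Set.range (ρ i₀)) ∧ (∀ x, (ρ i₀ x)ᵀ * J₀ * bm τ (ρ i₀ x) = J₀) ∧
      H ≤ tensorWreathSubgroup m k e P' := by
  classical
  haveI : Nonempty (Fin n) := ⟨⟨0, hn⟩⟩
  haveI : Nonempty (Fin k → Fin m) := ⟨e ⟨0, hn⟩⟩
  set F₀ := fcoord τ J e P with hF₀
  have hFd := fcoord_data h e P
  rw [← hF₀] at hFd
  have hslot : ∀ i (x : M i), (slot i (ρ i x))ᵀ * F₀ * bm τ (slot i (ρ i x)) = F₀ := fun i x => by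
    rw [← hrep]
    exact fcoord_iso (hH _ (hMH i x.2))
  have hslotT : ∀ (i : Fin k) (A : Matrix (Fin m) (Fin m) F), (slot i A)ᵀ = slot i Aᵀ := fun i A => by
    rw [slot, slot, pureMat_transpose]
    congr 1
    funext l
    by_cases hl : l = i
    · subst hl; simp
    · simp [Function.update_of_ne hl]
  have hslotB : ∀ (i : Fin k) (A : Matrix (Fin m) (Fin m) F), bm τ (slot i A) = slot i (bm τ A) := fun i A => by
    rw [slot, slot, bm_pureMat]
    congr 1
    funext l
    by_cases hl : l = i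
    · subst hl; simp
    · simp [Function.update_of_ne hl]
  have hρu : ∀ i (x : M i), IsUnit (ρ i x) := by
    intro i x
    have h1 : IsUnit (slot i (ρ i x)) := by
      rw [← hrep, tcoord, Matrix.isUnit_iff_isUnit_det, Matrix.det_submatrix_equiv_self]
      exact (Matrix.isUnit_iff_isUnit_det _).1 (P⁻¹ * (x : GL (Fin n) F) * P).isUnit
    refine Matrix.mulVec_injective_iff_isUnit.1 fun u v huv => ?_
    by_contra hne
    obtain ⟨w, hw⟩ : ∃ w, (u - v) w ≠ 0 := Function.ne_iff.1 (sub_ne_zero.2 hne)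
    obtain ⟨a⟩ := (inferInstance : Nonempty (Fin k → Fin m))
    let X : Matrix (Fin k → Fin m) (Fin k → Fin m) F :=
      Matrix.of fun p q => if ∀ l, l ≠ i → p l = a l ∧ q l = a l then (u - v) (p i) else 0
    have hX : slot i (ρ i x) * X = 0 := by
      ext p q
      rw [slot_mul]
      by_cases hpq : ∀ l, l ≠ i → p l = a l ∧ q l = a l
      · have e' : ∀ w', X (Function.update p i w') q = (u - v) w' := fun w' => by
          rw [show X (Function.update p i w') q = if ∀ l, l ≠ i → Function.update p i w' l = a l ∧ q l = a l then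
            (u - v) (Function.update p i w' i) else 0 from rfl, if_pos fun l hl => by
            rw [Function.update_of_ne hl]; exact hpq l hl, Function.update_self]
        simp only [e']
        have h2 := congrFun (show ρ i x *ᵥ (u - v) = 0 by rw [mulVec_sub]; exact sub_eq_zero.2 huv) (p i)
        simpa [mulVec, dotProduct] using h2
      · refine Finset.sum_eq_zero fun w' _ => ?_
        rw [show X (Function.update p i w') q = if ∀ l, l ≠ i → Function.update p i w' l = a l ∧ q l = a l then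
            (u - v) (Function.update p i w' i) else 0 from rfl, if_neg fun hc => hpq fun l hl => by
            simpa [Function.update_of_ne hl] using hc l hl, mul_zero]
    have hX0 : X = 0 := h1.mul_left_cancel (hX.trans (mul_zero _).symm)
    have h3 := congrFun (congrFun hX0 (Function.update a i w)) a
    rw [show X (Function.update a i w) a = if ∀ l, l ≠ i → Function.update a i w l = a l ∧ a l = a l then
      (u - v) (Function.update a i w i) else 0 from rfl, if_pos fun l hl => by simp [Function.update_of_ne hl],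
      Function.update_self] at h3
    exact hw h3
  obtain ⟨a, b, hab⟩ : ∃ a b, F₀ a b ≠ 0 := by
    by_contra hc
    push Not at hc
    exact hFd.unit.ne_zero (Matrix.ext hc)
  let X : Fin k → Matrix (Fin m) (Fin m) F := fun i =>
    Matrix.of fun u v => F₀ (Function.update a i u) (Function.update b i v)
  have hXinv : ∀ i (x : M i), (ρ i x)ᵀ * X i * bm τ (ρ i x) = X i := by
    intro i x
    ext u v
    have h1 := congrFun (congrFun (hslot i x) (Function.update a i u)) (Function.update b i v)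
    rw [hslotT, hslotB] at h1
    simp only [mul_slot, slot_mul, Function.update_idem, Function.update_self] at h1
    simpa [X, Matrix.mul_apply, Finset.sum_mul] using h1
  have hXne : ∀ i, X i ≠ 0 := fun i e0 => hab (by simpa [X] using congrFun (congrFun e0 (a i)) (b i))
  have hXu : ∀ i, IsUnit (X i) := fun i => invariant_isUnit (hirr i) (hXne i) (by
    rintro _ ⟨x, rfl⟩
    exact hρu i x) (by
    rintro _ ⟨x, rfl⟩
    exact hXinv i x)
  set T := pureMat X with hT
  have hTslot : ∀ i (x : M i), (slot i (ρ i x))ᵀ * T * bm τ (slot i (ρ i x)) = T := by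
    intro i x
    rw [hslotT, hslotB, hT, slot, slot, pureMat_mul, pureMat_mul]
    congr 1
    funext l
    by_cases hl : l = i
    · subst hl; simpa using hXinv l x
    · simp [Function.update_of_ne hl]
  set B : Matrix (Fin n) (Fin n) F :=
    (↑P⁻¹ : Matrix (Fin n) (Fin n) F)ᵀ * T.submatrix e e * bm τ (↑P⁻¹ : Matrix (Fin n) (Fin n) F) with hB
  have hBT : fcoord τ B e P = T := by
    rw [fcoord, hB]
    simp only [← mul_assoc]
    rw [← Matrix.transpose_mul, Units.inv_mul, Matrix.transpose_one, one_mul, mul_assoc (T.submatrix e e), ← map_mul,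
      Units.inv_mul, map_one, mul_one, Matrix.submatrix_submatrix, Equiv.self_comp_symm, Matrix.submatrix_id_id]
  have hfinj : ∀ Y Y' : Matrix (Fin n) (Fin n) F, fcoord τ Y e P = fcoord τ Y' e P → Y = Y' := by
    intro Y Y' hYY
    have h1 : (P : Matrix (Fin n) (Fin n) F)ᵀ * Y * bm τ (P : Matrix (Fin n) (Fin n) F) =
        (P : Matrix (Fin n) (Fin n) F)ᵀ * Y' * bm τ (P : Matrix (Fin n) (Fin n) F) := by
      ext i j
      simpa [fcoord] using congrFun (congrFun hYY (e i)) (e j)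
    have h2 := congrArg (fun Z => (↑P⁻¹ : Matrix (Fin n) (Fin n) F)ᵀ * Z * bm τ (↑P⁻¹ : Matrix (Fin n) (Fin n) F)) h1
    simp only [← mul_assoc, ← Matrix.transpose_mul, Units.mul_inv, Matrix.transpose_one, one_mul] at h2
    simpa [mul_assoc, ← map_mul] using h2
  have hBiso : (⨆ i, M i) ≤ isoGroup τ B := iSup_le fun i x hx => by
    show Iso τ B x.val
    refine hfinj _ _ ?_
    rw [hBT]
    conv_rhs => rw [← hTslot i ⟨x, hx⟩, ← hrep i ⟨x, hx⟩, ← hBT, fcoord_congr]
    rfl
  have hJiso : (⨆ i, M i) ≤ isoGroup τ J := iSup_le fun i x hx => hH x (hMH i hx)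
  have hTu : IsUnit T := by
    choose Y hY using fun i => (hXu i).exists_right_inv
    exact IsUnit.of_mul_eq_one (pureMat Y) (by rw [hT, pureMat_mul]; simp only [hY]; exact pureMat_one)
  have hBu : IsUnit B := by
    refine (IsUnit.mul ?_ ?_).mul (isUnit_bm P⁻¹.isUnit)
    · rw [Matrix.isUnit_iff_isUnit_det, Matrix.det_transpose]
      exact (Matrix.isUnit_iff_isUnit_det _).1 P⁻¹.isUnit
    · rw [Matrix.isUnit_iff_isUnit_det, Matrix.det_submatrix_equiv_self]
      exact (Matrix.isUnit_iff_isUnit_det _).1 hTu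
  obtain ⟨c', hc'⟩ := invariant_unique h.inv habs hBu (by rintro _ ⟨x, hx, rfl⟩; exact hBiso hx) (B' := J)
    (by rintro _ ⟨x, hx, rfl⟩; exact hJiso hx)
  have hF : F₀ = c' • T := by
    rw [hF₀, hc', ← hBT]
    ext p q
    simp [fcoord]
  have hc'0 : c' ≠ 0 := fun e0 => hFd.unit.ne_zero (by rw [hF, e0, zero_smul])
  -- absolute irreducibility of a factor
  have habs₀ : ActsAbsolutelyIrreducibly (Set.range (ρ i₀)) := by
    refine ⟨hirr i₀, fun M₀ hM₀ => ?_⟩
    set Z : Matrix (Fin n) (Fin n) F :=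
      (P : Matrix (Fin n) (Fin n) F) * (slot i₀ M₀).submatrix e e * (↑P⁻¹ : Matrix (Fin n) (Fin n) F) with hZ
    clear_value Z
    have hcZ : tcoord e P Z = slot i₀ M₀ := by
      simp only [hZ, tcoord, mul_assoc, Units.inv_mul_cancel_left, Units.inv_mul, mul_one,
        Matrix.submatrix_submatrix, Equiv.self_comp_symm, Matrix.submatrix_id_id]
    obtain ⟨c, hc⟩ := habs.2 Z fun s hs => (mem_cent.1 (cent_iSup (M := M) fun i => mem_cent.2 (by
      rintro _ ⟨x, hx, rfl⟩
      apply tcoord_injective e P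
      rw [tcoord_mul, tcoord_mul, hcZ, show tcoord e P (x : Matrix (Fin n) (Fin n) F) = _ from hrep i ⟨x, hx⟩,
        slot, slot, pureMat_mul, pureMat_mul]
      congr 1
      funext l
      by_cases hi : i = i₀
      · subst hi
        by_cases hl : l = i
        · subst hl; simpa using (hM₀ _ ⟨⟨x, hx⟩, rfl⟩).symm
        · simp [Function.update_of_ne hl]
      · by_cases hl : l = i
        · subst hl; simp [Function.update_of_ne hi]
        · simp [Function.update_of_ne hl])) s hs).symm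
    refine ⟨c, Matrix.ext fun u v => ?_⟩
    have h1 : slot i₀ M₀ = c • 1 := by
      rw [← hcZ, hc]
      ext p q
      simp [tcoord, Matrix.one_apply]
    have h2 := congrFun (congrFun h1 (Function.update a i₀ u)) (Function.update a i₀ v)
    rw [slot_apply, if_pos fun l hl => by simp [Function.update_of_ne hl]] at h2
    simpa [Matrix.one_apply, (Function.update_injective a i₀).eq_iff] using h2
  haveI : Nonempty (Fin m) := ⟨a i₀⟩
  obtain ⟨c₀, hc₀, hd₀⟩ := invariant_herm h.inv habs₀ (hXu i₀) (by rintro _ ⟨x, rfl⟩; exact hXinv i₀ x)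
  -- the bases of the factors
  have hrel : ∀ l, ∃ (g : GL (Fin m) F) (d : F), d ≠ 0 ∧ g.valᵀ * X l * bm τ g.val = d • X i₀ := by
    intro l
    obtain ⟨g, hg, σ, hσl, hσ⟩ := htrans l
    obtain ⟨gs, hgs⟩ := factor_normalizer_coords hn hk hirr hrep habs hσ
    have h1 := fcoord_iso (e := e) (P := P) (τ := τ) (J := J) (hH g hg)
    rw [← hF₀, hF, hgs, mul_smul_comm, smul_mul_assoc] at h1
    have h2 := smul_right_injective _ hc'0 h1
    rw [hT, Matrix.transpose_mul, map_mul, pureMat_transpose, bm_pureMat] at h2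
    rw [show bm τ (permMat σ : Matrix (Fin k → Fin m) (Fin k → Fin m) F) = permMat σ from by
      ext p q; simp [bm_apply, permMat, apply_ite τ]] at h2
    have h3 : (permMat σ)ᵀ * pureMat (fun i => (gs i).valᵀ * X i * bm τ (gs i).val) * permMat σ = pureMat X := by
      conv_rhs => rw [← h2]
      rw [← pureMat_mul, ← pureMat_mul]
      simp only [mul_assoc]
    rw [permMat_congr] at h3
    obtain ⟨d, hd, hd'⟩ := pureMat_factor (F := F) (c := (1 : F))
      (A := fun i => (gs (σ i)).valᵀ * X (σ i) * bm τ (gs (σ i)).val) (B := X) (by rw [one_smul]; exact h3) (fun i => by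
      refine (IsUnit.ne_zero ((IsUnit.mul ?_ (hXu _)).mul (isUnit_bm (gs (σ i)).isUnit)))
      rw [Matrix.isUnit_iff_isUnit_det, Matrix.det_transpose]
      exact (Matrix.isUnit_iff_isUnit_det _).1 (gs (σ i)).isUnit) i₀
    simp only [hσl] at hd'
    exact ⟨gs l, d, hd, hd'⟩
  choose gl dl hdl hgl using hrel
  obtain ⟨D, hD⟩ : IsUnit (pureMat fun l => (gl l).val) :=
    IsUnit.of_mul_eq_one (pureMat fun l => (gl l)⁻¹.val) (by rw [pureMat_mul]; simp only [Units.mul_inv]; exact pureMat_one)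
  have hDmem : D ∈ tensorWreathStandard m k F := Subgroup.subset_closure (Or.inl ⟨gl, fun x y => by rw [hD]; rfl⟩)
  refine ⟨X i₀, c₀, c' * ∏ l, dl l, P * glReindex e.symm D, mul_ne_zero hc'0 (Finset.prod_ne_zero_iff.2 fun l _ => hdl l),
    hc₀, hd₀, ?_, habs₀, hXinv i₀, ?_⟩
  · have e1 : fcoord τ J e (P * glReindex e.symm D) = D.valᵀ * F₀ * bm τ D.val := by
      have e2 : ((glReindex e.symm D : GL (Fin n) F) : Matrix (Fin n) (Fin n) F) = D.val.submatrix e e := by
        ext i j; simp [glReindex]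
      rw [hF₀, fcoord, fcoord, Units.val_mul, e2, Matrix.transpose_mul, map_mul, bm_submatrix, Matrix.transpose_submatrix]
      rw [← mul_assoc, mul_assoc (D.valᵀ.submatrix e e), mul_assoc (D.valᵀ.submatrix e e),
        ← Matrix.submatrix_mul_equiv _ _ e.symm e.symm e.symm, ← Matrix.submatrix_mul_equiv _ _ e.symm e.symm e.symm]
      simp [Matrix.submatrix_submatrix]
    rw [e1, hF, hD, mul_smul_comm, smul_mul_assoc, hT, pureMat_transpose, bm_pureMat, pureMat_mul, pureMat_mul]
    simp only [hgl, pureMat_smul, smul_smul]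
  · rw [wreath_mul_std hDmem]
    intro g hg
    obtain ⟨σ, hσ⟩ := hperm g hg
    exact factor_normalizer hn hk hirr hrep habs hσ

/-- An irreducible group of similitudes of a symmetric form in characteristic two makes it alternating. -/
theorem alt_of_irreducible [Finite F] {m : ℕ} (hm : 2 ≤ m) (h20 : (2 : F) = 0) {B : Matrix (Fin m) (Fin m) F}
    (hB : Bᵀ = B) {S : Set (Matrix (Fin m) (Fin m) F)} (hirr : ActsIrreducibly S)
    (hinv : ∀ s ∈ S, ∃ c : F, sᵀ * B * s = c • B) :
    ∀ v, sform (RingEquiv.refl F) B v v = 0 := by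
  classical
  haveI : CharP F 2 := CharTwo.of_one_ne_zero_of_two_eq_zero one_ne_zero h20
  set f := sform (RingEquiv.refl F) B
  have hsymm : ∀ u v, f u v = f v u := fun u v => by
    show u ⬝ᵥ B *ᵥ v = v ⬝ᵥ B *ᵥ u
    rw [dotProduct_mulVec, ← mulVec_transpose, hB, dotProduct_comm]
  have hadd : ∀ u v, f (u + v) (u + v) = f u u + f v v := fun u v => by
    simp only [f, sform_add_left, sform_add_right]
    have := hsymm u v
    simp only [f] at this
    linear_combination this + sform (RingEquiv.refl F) B v u * h20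
  let K : Submodule F (Fin m → F) :=
    { carrier := {v | f v v = 0}
      add_mem' := fun {x y} hx hy => by
        show f (x + y) (x + y) = 0
        rw [hadd, hx, hy, add_zero]
      zero_mem' := sform_zero_left _ _ _
      smul_mem' := fun c x hx => by
        show f (c • x) (c • x) = 0
        simp only [f, sform_smul_left, sform_smul_right, RingEquiv.refl_apply]
        rw [show sform (RingEquiv.refl F) B x x = 0 from hx, mul_zero, mul_zero] }
  rcases hirr K (fun s hs => by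
    rintro _ ⟨v, hv, rfl⟩
    obtain ⟨c, hc⟩ := hinv s hs
    show f (Matrix.toLin' s v) (Matrix.toLin' s v) = 0
    simp only [f, Matrix.toLin'_apply, sform_mulVec, bm_refl, hc, sform_smul_matrix]
    rw [show sform (RingEquiv.refl F) B v v = 0 from hv, mul_zero]) with hK | hK
  swap
  · exact fun v => (hK ▸ Submodule.mem_top : v ∈ K)
  exfalso
  haveI := Fintype.ofFinite F
  set x : Fin m → F := Pi.single ⟨0, by omega⟩ 1 with hx
  set y : Fin m → F := Pi.single ⟨1, by omega⟩ 1 with hy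
  have hxy : ∀ a b : F, a • x + b • y = 0 → a = 0 ∧ b = 0 := fun a b e' => by
    constructor
    · simpa [hx, hy, Pi.single_apply, Fin.ext_iff] using congrFun e' ⟨0, by omega⟩
    · simpa [hx, hy, Pi.single_apply, Fin.ext_iff] using congrFun e' ⟨1, by omega⟩
  obtain ⟨α, hα⟩ : IsSquare (f x x) := FiniteField.isSquare_of_char_two (by rw [ringChar.eq F 2]) _
  obtain ⟨β, hβ⟩ : IsSquare (f y y) := FiniteField.isSquare_of_char_two (by rw [ringChar.eq F 2]) _
  have hv : β • x + α • y ∈ K := by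
    show f _ _ = 0
    rw [hadd]
    simp only [f, sform_smul_left, sform_smul_right, RingEquiv.refl_apply] at hα hβ ⊢
    rw [hα, hβ]
    linear_combination (α * α * β * β) * h20
  obtain ⟨hb, ha⟩ := hxy β α ((Submodule.eq_bot_iff K).1 hK _ hv)
  have hxK : x ∈ K := show f x x = 0 by rw [hα, ha, mul_zero]
  have := congrFun ((Submodule.eq_bot_iff K).1 hK x hxK) ⟨0, by omega⟩
  simp [hx] at this

end CfsgLib.Asch
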