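import Cfsg.Agent.Lib.Classical.PrimeDimFieldFour

set_option autoImplicit false
set_option linter.unusedSectionVars false

/-!
The maximal subgroups of `SL(n, q)` for an odd prime `n`.
-/

namespace CfsgLib.PrimeDim

open Matrix
open Cfsg.Geo (matrixSet scalars specialLinear ActsIrreducibly ActsAbsolutelyIrreducibly)
open scoped MatrixGroups

variable {F : Type*} [Field F] {n : ℕ}

/-- The diagonal form in a basis. -/
noncomputable def stdForm (B : Module.Basis (Fin n) F (Fin n → F)) (τ : F ≃+* F) (u v : Fin n → F) : F :=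
  ∑ i, B.repr u i * τ (B.repr v i)

theorem stdForm_sesq (B : Module.Basis (Fin n) F (Fin n → F)) (τ : F ≃+* F) : Sesq τ (stdForm B τ) := by
  classical
  refine ⟨fun x y v => ?_, fun c x v => ?_, fun v x y => ?_, fun c v x => ?_, fun v hv => ?_⟩
  · simp [stdForm, add_mul, Finset.sum_add_distrib]
  · simp [stdForm, mul_assoc, Finset.mul_sum]
  · simp [stdForm, mul_add, Finset.sum_add_distrib]
  · simp [stdForm, mul_left_comm, Finset.mul_sum]
  · obtain ⟨i, hi⟩ : ∃ i, B.repr v i ≠ 0 := by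
      by_contra hc
      push Not at hc
      exact hv (B.ext_elem fun i => by simp [hc i])
    refine ⟨⟨B i, ?_⟩, ⟨B i, ?_⟩⟩ <;>
      simpa [stdForm, Finsupp.single_apply, Finset.sum_ite_eq, Finset.sum_ite_eq', ite_mul, mul_ite, apply_ite τ] using hi

theorem stdForm_unitary (B : Module.Basis (Fin n) F (Fin n → F)) (σ : F ≃+* F)
    (hne : σ ≠ RingEquiv.refl F) (hinv : ∀ a, σ (σ a) = a) : Cfsg.Geo.IsUnitaryForm σ (stdForm B σ) := by
  refine ⟨hne, hinv, (stdForm_sesq B σ).add_left, (stdForm_sesq B σ).smul_left, fun v w => ?_, (stdForm_sesq B σ).nd⟩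
  simp [stdForm, hinv, mul_comm]

theorem stdForm_quad (B : Module.Basis (Fin n) F (Fin n → F)) (h2 : (2 : F) ≠ 0) :
    Cfsg.Geo.IsNondegenerateQuadraticForm fun v => stdForm B (RingEquiv.refl F) v v := by
  have hS := stdForm_sesq B (RingEquiv.refl F)
  have hp : ∀ u v, QuadraticMap.polar (fun v => stdForm B (RingEquiv.refl F) v v) u v =
      2 * stdForm B (RingEquiv.refl F) u v := by
    intro u v
    have hsymm : stdForm B (RingEquiv.refl F) v u = stdForm B (RingEquiv.refl F) u v := by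
      simp [stdForm, mul_comm]
    simp only [QuadraticMap.polar, hS.add_left, hS.add_right, hsymm]
    ring
  refine ⟨fun c v => ?_, ⟨fun x y v => ?_, fun c x v => ?_, fun v x y => ?_, fun c v x => ?_⟩, fun v hv => ?_⟩
  · rw [hS.smul_left, hS.smul_right, RingEquiv.refl_apply]; ring
  · simp only [hp, hS.add_left]; ring
  · simp only [hp, hS.smul_left]; ring
  · simp only [hp, hS.add_right]; ring
  · simp only [hp, hS.smul_right, RingEquiv.refl_apply]; ring
  · obtain ⟨⟨x, hx⟩, ⟨y, hy⟩⟩ := hS.nd v hv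
    exact ⟨⟨x, by rw [hp]; exact mul_ne_zero h2 hx⟩, ⟨y, by rw [hp]; exact mul_ne_zero h2 hy⟩⟩

theorem stdForm_monomial (B : Module.Basis (Fin n) F (Fin n → F)) (τ : F ≃+* F)
    {g : Matrix (Fin n) (Fin n) F} {π : Equiv.Perm (Fin n)} {a : Fin n → F}
    (hg : ∀ i, g *ᵥ B i = a i • B (π i)) (ha : ∀ i, a i * τ (a i) = 1) (u v : Fin n → F) :
    stdForm B τ (g *ᵥ u) (g *ᵥ v) = stdForm B τ u v := by
  classical
  have key : ∀ w i, B.repr (g *ᵥ w) (π i) = B.repr w i * a i := by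
    intro w i
    conv_lhs => rw [← B.sum_repr w]
    simp only [mulVec_sum, mulVec_smul, hg, smul_smul]
    simp [Finsupp.single_apply, π.injective.eq_iff]
  simp only [stdForm]
  rw [← Equiv.sum_comp π]
  refine Finset.sum_congr rfl fun i _ => ?_
  rw [key, key, map_mul]
  linear_combination (B.repr u i * τ (B.repr v i)) * ha i

theorem exists_involution [Fintype F] {p m : ℕ} [CharP F p] (hp : p.Prime) (hm : m ≠ 0)
    (hcard : Fintype.card F = p ^ (2 * m)) :
    ∃ σ : F ≃+* F, σ ≠ RingEquiv.refl F ∧ (∀ a, σ (σ a) = a) ∧ ∀ a, σ a = a ^ p ^ m := by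
  haveI : Fact p.Prime := ⟨hp⟩
  let σ : F ≃+* F := iterateFrobeniusEquiv F p m
  have hσ : ∀ a, σ a = a ^ p ^ m := fun a => by
    show iterateFrobeniusEquiv F p m a = _
    rw [coe_iterateFrobeniusEquiv, iterateFrobenius_def]
  refine ⟨σ, fun e => ?_, fun a => ?_, hσ⟩
  · obtain ⟨g, hg⟩ := IsCyclic.exists_generator (α := Fˣ)
    have h1 : g ^ (p ^ m - 1) = 1 := by
      have h := hσ g
      rw [e, RingEquiv.refl_apply] at h
      have h' : g ^ p ^ m = g := Units.ext (by rw [Units.val_pow_eq_pow_val]; exact h.symm)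
      rw [← Nat.sub_add_cancel (Nat.one_le_pow m p hp.pos), pow_succ] at h'
      exact mul_eq_right.1 h'
    have h2 := orderOf_dvd_of_pow_eq_one h1
    rw [orderOf_eq_card_of_forall_mem_zpowers hg, Nat.card_units, Nat.card_eq_fintype_card, hcard] at h2
    have hlt : p ^ m < p ^ (2 * m) := Nat.pow_lt_pow_right hp.one_lt (by omega)
    have h3 : 1 < p ^ m := Nat.one_lt_pow hm hp.one_lt
    have := Nat.le_of_dvd (by omega) h2
    omega
  · rw [hσ, hσ, ← pow_mul, ← pow_add, ← two_mul, ← hcard, FiniteField.pow_card]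

/-- Groups permuting eigenlines. -/
theorem eigen_cases [Fintype F] (hn : 2 ≤ n) {H : Subgroup (GL (Fin n) F)}
    (hirr : ActsIrreducibly (matrixSet H)) (hE : EigenCase H) :
    (5 ≤ Fintype.card F ∧ ∃ D : Fin n → Submodule F (Fin n → F),
      Cfsg.Geo.IsMDecomposition 1 D ∧ H ≤ Cfsg.Geo.decompositionStabilizer D) ∨
    (Odd (Fintype.card F) ∧ ∃ Q : (Fin n → F) → F,
      Cfsg.Geo.IsNondegenerateQuadraticForm Q ∧ H ≤ Cfsg.Geo.quadSimilarityGroup Q) ∨
    (∃ (σ : F ≃+* F) (f : (Fin n → F) → (Fin n → F) → F),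
      Cfsg.Geo.IsUnitaryForm σ f ∧ H ≤ Cfsg.Geo.similarityGroup f) := by
  classical
  obtain ⟨N, χ, -, -, hD, hle⟩ := hE
  by_cases hq : 5 ≤ Fintype.card F
  · exact Or.inl ⟨hq, _, hD, hle⟩
  have hd : ∀ i, ∃ v ∈ eig N (χ i), v ≠ 0 := fun i => Submodule.exists_mem_ne_zero_of_ne_bot fun e => by
    have := hD.finrank_eq i
    rw [e, finrank_bot] at this
    exact zero_ne_one this
  choose v hv hv0 using hd
  have hli : LinearIndependent F v := iSupIndep.linearIndependent _ hD.indep hv hv0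
  haveI : Nonempty (Fin n) := ⟨⟨0, by omega⟩⟩
  let B := basisOfLinearIndependentOfCardEqFinrank hli (by simp)
  have hB : ∀ i, B i = v i := fun i => by simp [B]
  have hmono : ∀ h ∈ H, ∃ (π : Equiv.Perm (Fin n)) (a : Fin n → F),
      (∀ i, a i ≠ 0) ∧ ∀ i, (h : Matrix (Fin n) (Fin n) F) *ᵥ B i = a i • B (π i) := by
    intro h hh
    obtain ⟨π, hπ⟩ := hle hh
    have : ∀ i, ∃ a : F, a • v (π i) = (h : Matrix (Fin n) (Fin n) F) *ᵥ v i := by
      intro i
      have hm : (h : Matrix (Fin n) (Fin n) F) *ᵥ v i ∈ eig N (χ (π i)) := by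
        have h1 := hπ i
        simp only at h1
        rw [← h1]
        exact ⟨v i, hv i, Matrix.toLin'_apply _ _⟩
      obtain ⟨a, ha⟩ := (finrank_eq_one_iff_of_nonzero' (⟨v (π i), hv (π i)⟩ : eig N (χ (π i)))
        fun e => hv0 _ (congrArg Subtype.val e)).1 (hD.finrank_eq _) ⟨_, hm⟩
      exact ⟨a, congrArg Subtype.val ha⟩
    choose a ha using this
    refine ⟨π, a, fun i e => hv0 i ?_, fun i => by rw [hB, hB, ha]⟩
    have h0 := ha i
    rw [e, zero_smul] at h0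
    rw [← inv_mulVec_cancel h (v i), ← h0, mulVec_zero]
  have h2 : 2 ≤ Fintype.card F := Fintype.one_lt_card
  obtain h | h | h : Fintype.card F = 2 ∨ Fintype.card F = 3 ∨ Fintype.card F = 4 := by omega
  · exfalso
    set s := ∑ i, B i with hs
    have hfix : ∀ g ∈ H, (g : Matrix (Fin n) (Fin n) F) *ᵥ s = s := by
      intro g hg
      obtain ⟨π, a, ha0, ha⟩ := hmono g hg
      have ha1 : ∀ i, a i = 1 := fun i => by
        simpa [h] using FiniteField.pow_card_sub_one_eq_one (a i) (ha0 i)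
      rw [hs, mulVec_sum]
      simp only [ha, ha1, one_smul]
      exact Equiv.sum_comp π fun i => B i
    have hs0 : s ≠ 0 := by
      intro e
      have h1 := Fintype.linearIndependent_iff.1 B.linearIndependent (fun _ => 1) (by simpa [hs] using e) ⟨0, by omega⟩
      exact one_ne_zero h1
    rcases irreducible_iff.1 hirr (Submodule.span F {s}) (by
      rintro _ ⟨g, hg, rfl⟩ w hw
      obtain ⟨c, rfl⟩ := Submodule.mem_span_singleton.1 hw
      rw [mulVec_smul, hfix g hg]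
      exact Submodule.smul_mem _ _ (Submodule.mem_span_singleton_self s)) with e | e
    · exact hs0 (Submodule.span_singleton_eq_bot.1 e)
    · have h1 := finrank_span_singleton (K := F) hs0
      rw [e, finrank_top, Module.finrank_fin_fun] at h1
      omega
  · have hodd : Odd (Fintype.card F) := by rw [h]; exact ⟨1, rfl⟩
    refine Or.inr (Or.inl ⟨hodd, _, stdForm_quad B (two_ne_zero_of_odd hodd), fun g hg => ?_⟩)
    obtain ⟨π, a, ha0, ha⟩ := hmono g hg
    refine ⟨1, fun w => ?_⟩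
    rw [Units.val_one, one_mul]
    refine stdForm_monomial B _ ha (fun i => ?_) w w
    have := FiniteField.pow_card_sub_one_eq_one (a i) (ha0 i)
    rw [h] at this
    rw [RingEquiv.refl_apply, ← pow_two]
    exact this
  · haveI : CharP F 2 := by
      obtain ⟨p, hp⟩ := CharP.exists F
      obtain ⟨k, hpp, hk⟩ := FiniteField.card F p
      rw [h] at hk
      have h2' : p ∣ 2 ^ 2 := by rw [show (2 : ℕ) ^ 2 = 4 from rfl, hk]; exact dvd_pow_self p k.ne_zero
      rwa [(Nat.prime_dvd_prime_iff_eq hpp Nat.prime_two).1 (hpp.dvd_of_dvd_pow h2')] at hp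
    obtain ⟨σ, hne, hinv, hσ⟩ := exists_involution (F := F) (p := 2) (m := 1) Nat.prime_two one_ne_zero
      (by rw [h]; rfl)
    refine Or.inr (Or.inr ⟨σ, _, stdForm_unitary B σ hne hinv, fun g hg => ?_⟩)
    obtain ⟨π, a, ha0, ha⟩ := hmono g hg
    refine ⟨1, fun u w => ?_⟩
    rw [Units.val_one, one_mul]
    refine stdForm_monomial B _ ha (fun i => ?_) u w
    have := FiniteField.pow_card_sub_one_eq_one (a i) (ha0 i)
    rw [h] at this
    rw [hσ, ← pow_succ']
    exact this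

/-- The arithmetic of the field of a normal Heisenberg group. -/
def FieldData (n p e : ℕ) (F : Type*) [Field F] [Fintype F] : Prop :=
  p.Prime ∧ CharP F p ∧ Fintype.card F = p ^ e ∧ Odd e ∧ e < n ∧ p ^ e % n = 1 ∧
    ∀ d, 0 < d → d < e → p ^ d % n ≠ 1

theorem heis_monomial {N : Subgroup (GL (Fin n) F)} [NeZero n] {c : Fˣ} {x y : GL (Fin n) F} {v : Fin n → F}
    (hyn : y ^ n = 1)
    (hb : ∀ i : ℕ, (x : Matrix (Fin n) (Fin n) F) *ᵥ (((y ^ i : GL (Fin n) F) : Matrix (Fin n) (Fin n) F) *ᵥ v) =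
      (c : F) ^ i • (((y ^ i : GL (Fin n) F) : Matrix (Fin n) (Fin n) F) *ᵥ v))
    (hgen : ∀ z ∈ N, ∃ k i j : ℕ, z = sc c ^ k * x ^ i * y ^ j) (B : Module.Basis (Fin n) F (Fin n → F))
    (hB : ∀ i : Fin n, B i = ((y ^ (i : ℕ) : GL (Fin n) F) : Matrix (Fin n) (Fin n) F) *ᵥ v) :
    ∀ z ∈ N, ∃ (π : Equiv.Perm (Fin n)) (a : Fin n → ℕ),
      ∀ i, (z : Matrix (Fin n) (Fin n) F) *ᵥ B i = (c : F) ^ a i • B (π i) := by
  let b : ℕ → Fin n → F := fun i => ((y ^ i : GL (Fin n) F) : Matrix (Fin n) (Fin n) F) *ᵥ v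
  intro z hz
  obtain ⟨k, i, j, rfl⟩ := hgen z hz
  refine ⟨Equiv.addRight (⟨j % n, Nat.mod_lt _ (NeZero.pos n)⟩ : Fin n), fun m => k + ((m : ℕ) + j) * i, fun m => ?_⟩
  have hxpow : ∀ i t : ℕ, ((x ^ i : GL (Fin n) F) : Matrix (Fin n) (Fin n) F) *ᵥ b t = ((c : F) ^ t) ^ i • b t := by
    intro i t
    induction i with
    | zero => simp
    | succ i ih => rw [pow_succ, Units.val_mul, ← mulVec_mulVec, hb, mulVec_smul, ih, smul_smul, ← pow_succ']
  have e1 : ((y ^ j : GL (Fin n) F) : Matrix (Fin n) (Fin n) F) *ᵥ B m = b ((m : ℕ) + j) := by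
    simp only [hB, b, mulVec_mulVec, ← Units.val_mul, ← pow_add, add_comm]
  have e2 : B (Equiv.addRight (⟨j % n, Nat.mod_lt _ (NeZero.pos n)⟩ : Fin n) m) = b ((m : ℕ) + j) := by
    rw [hB]
    simp only [b, Equiv.coe_addRight, Fin.val_add, Nat.add_mod_mod]
    rw [← pow_eq_pow_mod _ hyn]
  rw [Units.val_mul, ← mulVec_mulVec, e1, Units.val_mul, ← mulVec_mulVec, hxpow, mulVec_smul, e2]
  have hsc : ∀ w, ((sc c ^ k : GL (Fin n) F) : Matrix (Fin n) (Fin n) F) *ᵥ w = (c : F) ^ k • w := by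
    intro w
    rw [Units.val_pow_eq_pow_val, sc_val, smul_pow, one_pow, smul_mulVec, one_mulVec]
  rw [hsc, smul_smul, ← pow_mul, ← pow_add, add_comm]

theorem heis_realisable [NeZero n] {N : Subgroup (GL (Fin n) F)} {c : Fˣ}
    (B : Module.Basis (Fin n) F (Fin n → F))
    (hmono : ∀ z ∈ N, ∃ (π : Equiv.Perm (Fin n)) (a : Fin n → ℕ),
      ∀ i, (z : Matrix (Fin n) (Fin n) F) *ᵥ B i = (c : F) ^ a i • B (π i)) :
    Cfsg.Geo.RealisableOver (Subfield.closure {(c : F)}) (matrixSet N) := by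
  classical
  let P₀ : Matrix (Fin n) (Fin n) F := Matrix.of fun i j => B j i
  have hcol : ∀ j, P₀ *ᵥ Pi.single j 1 = B j := fun j => by rw [mulVec_single_one]; rfl
  have hu : IsUnit P₀ := by
    rw [← Matrix.linearIndependent_cols_iff_isUnit]
    exact B.linearIndependent
  obtain ⟨P, hP⟩ := hu
  refine ⟨P⁻¹, ?_⟩
  rintro _ ⟨z, hz, rfl⟩ i j
  obtain ⟨π, a, ha⟩ := hmono z hz
  have hzP : (z : Matrix (Fin n) (Fin n) F) * P₀ =
      P₀ * Matrix.of fun i j => if i = π j then (c : F) ^ a j else 0 :=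
    Matrix.ext_of_mulVec_single fun j => by
      rw [← mulVec_mulVec, ← mulVec_mulVec, hcol, ha, ← hcol, ← mulVec_smul]
      congr 1
      funext i
      simp [Pi.single_apply]
  rw [inv_inv, mul_assoc, hP, hzP, ← hP, ← mul_assoc, Units.inv_mul, one_mul]
  show (if i = π j then (c : F) ^ a j else 0) ∈ Subfield.closure {(c : F)}
  split
  · exact pow_mem (Subfield.subset_closure (Set.mem_singleton _)) _
  · exact zero_mem _

theorem heis_cases [Fintype F] (hn : n.Prime) (hn2 : n ≠ 2) {H : Subgroup (GL (Fin n) F)}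
    (hH : HeisCase H) :
    (∃ (F₀ : Subfield F) (r : ℕ) (P : GL (Fin n) F), r.Prime ∧ F₀ ≠ ⊤ ∧
      Fintype.card F = Nat.card F₀ ^ r ∧ H ≤ Cfsg.Geo.subfieldSubgroup F₀ P) ∨
    (∃ (σ : F ≃+* F) (f : (Fin n → F) → (Fin n → F) → F),
      Cfsg.Geo.IsUnitaryForm σ f ∧ H ≤ Cfsg.Geo.similarityGroup f) ∨
    (∃ (p e : ℕ) (R : Subgroup (GL (Fin n) F)), FieldData n p e F ∧
      Cfsg.Geo.IsLinearSymplecticTypeData n R ∧ ¬ R ≤ scalars (Fin n) F ∧ Nat.card R = n ^ 3 ∧
      H ≤ Cfsg.Geo.subgroupNormalizer R) := by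
  classical
  obtain ⟨N, c, x, y, v, hN, habs, hprim, -, -, hyn, hli, hb, hgen, hST, hcard, hcen⟩ := hH
  haveI : NeZero n := ⟨hn.ne_zero⟩
  haveI : Fact n.Prime := ⟨hn⟩
  haveI : Nonempty (Fin n) := ⟨0⟩
  let b : ℕ → Fin n → F := fun i => ((y ^ i : GL (Fin n) F) : Matrix (Fin n) (Fin n) F) *ᵥ v
  let B := basisOfLinearIndependentOfCardEqFinrank hli (by simp)
  have hB : ∀ i : Fin n, B i = b i := fun i => by simp [B, b]
  have hmono := heis_monomial (N := N) hyn hb hgen B hB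
  set F₀ : Subfield F := Subfield.closure {(c : F)}
  by_cases hF₀ : F₀ = ⊤
  swap
  · -- realised over the field of the root of unity
    left
    exact subfield_of_realisable hn.pos hN habs hF₀ (heis_realisable B hmono)
  -- automorphisms fixing the root of unity are trivial
  have hfix : ∀ σ : F →+* F, σ c = c → ∀ a, σ a = a := by
    intro σ hσ a
    have : F₀ ≤ RingHom.eqLocusField σ (RingHom.id F) :=
      Subfield.closure_le.2 (Set.singleton_subset_iff.2 hσ)
    exact this (hF₀ ▸ Subfield.mem_top a)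
  obtain ⟨p, hp⟩ := CharP.exists F
  obtain ⟨k₀, hpp, hq'⟩ := FiniteField.card F p
  obtain ⟨e, he0, hq⟩ : ∃ e : ℕ, e ≠ 0 ∧ Fintype.card F = p ^ e := ⟨k₀, k₀.ne_zero, hq'⟩
  haveI : Fact p.Prime := ⟨hpp⟩
  have hord : orderOf c = n := hprim.eq_orderOf.symm
  rcases Nat.even_or_odd (e : ℕ) with he | he
  · -- the form
    obtain ⟨m, hm⟩ := he
    have hm0 : m ≠ 0 := by rintro rfl; exact he0 hm
    obtain ⟨σ, hne, hinv, -⟩ := exists_involution (F := F) hpp hm0 (by rw [hq, hm, two_mul])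
    have hσc : (c : F) * σ c = 1 := by
      obtain ⟨k, -, hk⟩ := (IsPrimitiveRoot.coe_units_iff.2 hprim).eq_pow_of_pow_eq_one
        (show (σ c) ^ n = 1 by rw [← map_pow, ← Units.val_pow_eq_pow_val, hprim.pow_eq_one, Units.val_one, map_one])
      have hkk : c ^ (k * k) = c ^ 1 := Units.ext (by
        rw [Units.val_pow_eq_pow_val, pow_mul, hk, ← map_pow, hk, hinv, pow_one])
      rw [pow_eq_pow_iff_modEq, hord] at hkk
      have h2 : (k : ZMod n) * k = 1 := by
        rw [← Nat.cast_mul, ← Nat.cast_one, ZMod.natCast_eq_natCast_iff]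
        exact hkk
      rcases mul_self_eq_one_iff.1 h2 with h | h
      · exfalso
        apply hne
        refine RingEquiv.ext fun a => hfix (σ : F →+* F) ?_ a
        show σ c = c
        rw [← hk, ← Units.val_pow_eq_pow_val]
        congr 1
        rw [← Nat.cast_one, ZMod.natCast_eq_natCast_iff] at h
        conv_rhs => rw [← pow_one c]
        rw [pow_eq_pow_iff_modEq, hord]
        exact h
      · have h3 : ((k + 1 : ℕ) : ZMod n) = 0 := by push_cast; rw [h]; ring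
        rw [ZMod.natCast_eq_zero_iff, ← hord, orderOf_dvd_iff_pow_eq_one] at h3
        rw [← hk, ← pow_succ', ← Units.val_pow_eq_pow_val, h3, Units.val_one]
    refine Or.inr (Or.inl ⟨σ, stdForm B σ, stdForm_unitary B σ hne hinv,
      similarity_of_fixes (stdForm_sesq B σ) hN habs ?_⟩)
    rintro _ ⟨z, hz, rfl⟩ u w
    obtain ⟨π, a, ha⟩ := hmono z hz
    refine stdForm_monomial B σ ha (fun i => ?_) u w
    rw [map_pow, ← mul_pow, hσc, one_pow]
  · -- the data
    have hmod : ∀ d, n ∣ p ^ d - 1 ↔ p ^ d % n = 1 := fun d => by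
      rw [← Nat.modEq_iff_dvd' (Nat.one_le_pow d p hpp.pos), Nat.ModEq, Nat.mod_eq_of_lt hn.one_lt, eq_comm]
    have hdvd : n ∣ p ^ (e : ℕ) - 1 := by
      rw [← hq, ← hord, ← Fintype.card_units]
      exact orderOf_dvd_card
    have hmin : ∀ d, 0 < d → d < e → ¬ n ∣ p ^ d - 1 := by
      intro d hd hde hdn
      have hc : iterateFrobenius F p d c = c := by
        rw [iterateFrobenius_def, ← Nat.sub_add_cancel (Nat.one_le_pow d p hpp.pos), pow_succ,
          ← Units.val_pow_eq_pow_val]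
        rw [← hord, orderOf_dvd_iff_pow_eq_one] at hdn
        rw [hdn, Units.val_one, one_mul]
      obtain ⟨g, hg⟩ := IsCyclic.exists_generator (α := Fˣ)
      have h1 := hfix _ hc g
      rw [iterateFrobenius_def, ← Units.val_pow_eq_pow_val] at h1
      have h1' : g ^ (p ^ d - 1) = 1 := by
        have h' : g ^ p ^ d = g := Units.ext h1
        rw [← Nat.sub_add_cancel (Nat.one_le_pow d p hpp.pos), pow_succ] at h'
        exact mul_eq_right.1 h'
      have h2 := orderOf_dvd_of_pow_eq_one h1'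
      rw [orderOf_eq_card_of_forall_mem_zpowers hg, Nat.card_units, Nat.card_eq_fintype_card, hq] at h2
      have hlt : p ^ d < p ^ (e : ℕ) := Nat.pow_lt_pow_right hpp.one_lt hde
      have h3 : 1 < p ^ d := Nat.one_lt_pow hd.ne' hpp.one_lt
      have := Nat.le_of_dvd (by omega) h2
      omega
    have hnp : n ≠ p := by
      rintro rfl
      have h1 : ((c : F) - 1) ^ n = 0 := by
        rw [sub_pow_char, ← Units.val_pow_eq_pow_val, hprim.pow_eq_one, Units.val_one, one_pow, sub_self]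
      have h2 : c = 1 := Units.ext (sub_eq_zero.1 (pow_eq_zero_iff hn.ne_zero |>.1 h1))
      exact hprim.ne_one hn.one_lt h2
    have hen : (e : ℕ) < n := by
      by_contra hge
      refine hmin (n - 1) (by have := hn.two_le; omega) (by omega) ((hmod _).2 ?_)
      have h := Nat.ModEq.pow_totient ((Nat.coprime_primes hpp hn).2 hnp.symm)
      rw [Nat.totient_prime hn, Nat.ModEq, Nat.mod_eq_of_lt hn.one_lt] at h
      exact h
    refine Or.inr (Or.inr ⟨p, e, N, ⟨hpp, hp, hq, he, hen, (hmod _).1 hdvd, fun d hd hde h =>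
      hmin d hd hde ((hmod d).2 h)⟩, ⟨hST, habs, p, e, hnp, ⟨hpp, hp, hq, hcen.symm ▸ hdvd,
        fun d hd hde h => hmin d hd hde (hcen ▸ h)⟩,
      Or.inl ⟨hn.odd_of_ne_two hn2, he, hcen, 1, le_rfl, by rw [hcard]⟩⟩, ?_, hcard, fun h hh => ?_⟩)
    · intro hs
      rcases irreducible_iff.1 habs.1 (Submodule.span F {B 0}) (by
        rintro _ ⟨g, hg, rfl⟩ w hw
        obtain ⟨u, rfl⟩ := eq_sc_of_mem_scalars (hs hg)
        show ((sc u : GL (Fin n) F) : Matrix (Fin n) (Fin n) F) *ᵥ w ∈ _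
        rw [sc_mulVec]
        exact Submodule.smul_mem _ _ hw) with h | h
      · exact B.ne_zero 0 (Submodule.span_singleton_eq_bot.1 h)
      · have h1 := finrank_span_singleton (K := F) (B.ne_zero 0)
        rw [h, finrank_top, Module.finrank_fin_fun] at h1
        exact hn.ne_one h1
    · refine Subgroup.mem_normalizer_iff.2 fun z => ⟨fun hz => hN.conj h hh z hz, fun hz => ?_⟩
      have := hN.conj' hh hz
      simpa [mul_assoc] using this

/-- Groups with a normal perfect irreducible subgroup. -/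
theorem perfect_cases [Fintype F] (hn : n.Prime) (hn2 : n ≠ 2) {H : Subgroup (GL (Fin n) F)}
    (hP : PerfectCase H) :
    (∃ (F₀ : Subfield F) (r : ℕ) (P : GL (Fin n) F), r.Prime ∧ F₀ ≠ ⊤ ∧
      Fintype.card F = Nat.card F₀ ^ r ∧ H ≤ Cfsg.Geo.subfieldSubgroup F₀ P) ∨
    (Odd (Fintype.card F) ∧ ∃ Q : (Fin n → F) → F,
      Cfsg.Geo.IsNondegenerateQuadraticForm Q ∧ H ≤ Cfsg.Geo.quadSimilarityGroup Q) ∨
    (∃ (σ : F ≃+* F) (f : (Fin n → F) → (Fin n → F) → F),
      Cfsg.Geo.IsUnitaryForm σ f ∧ H ≤ Cfsg.Geo.similarityGroup f) ∨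
    Cfsg.Geo.InLinearResidualClass H := by
  obtain ⟨P, hN, habs, hperf, hsimp, hnab, hcent⟩ := hP
  have hodd := hn.odd_of_ne_two hn2
  by_cases h1 : ∃ F₀ : Subfield F, F₀ ≠ ⊤ ∧ Cfsg.Geo.RealisableOver F₀ (matrixSet P)
  · obtain ⟨F₀, hne, hr⟩ := h1
    exact Or.inl (subfield_of_realisable hn.pos hN habs hne hr)
  by_cases h2 : ∃ Q : (Fin n → F) → F,
      Cfsg.Geo.IsNondegenerateQuadraticForm Q ∧ Cfsg.Geo.FixesQuadForm (matrixSet P) Q
  · obtain ⟨Q, hQ, hfix⟩ := h2
    exact Or.inr (Or.inl ⟨odd_card_of_quad hodd hQ, Q, hQ,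
      quad_similarity_of_fixes (odd_card_of_quad hodd hQ) hQ hN habs hfix⟩)
  by_cases h3 : ∃ (σ : F ≃+* F) (f : (Fin n → F) → (Fin n → F) → F),
      Cfsg.Geo.IsUnitaryForm σ f ∧ Cfsg.Geo.FixesForm (matrixSet P) f
  · obtain ⟨σ, f, hf, hfix⟩ := h3
    exact Or.inr (Or.inr (Or.inl ⟨σ, f, hf, similarity_of_fixes (Sesq.of_unitary hf) hN habs hfix⟩))
  refine Or.inr (Or.inr (Or.inr ⟨P, ⟨hN.le, hN.conj, hperf, hsimp, hnab, hcent, habs,
    fun F₀ hne hr => h1 ⟨F₀, hne, hr⟩⟩, h2, ?_, h3⟩))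
  rintro ⟨f, hf, -⟩
  exact no_alternating hodd hf.bilinear hf.alternating hf.nondegenerate

/-- The classes of maximal subgroups of `SL(n, q)`, `n` an odd prime. -/
theorem linear_cases [Fintype F] (hn : n.Prime) (hn2 : n ≠ 2) {H : Subgroup (GL (Fin n) F)}
    (hH : Cfsg.Geo.IsMaximalIn (specialLinear (Fin n) F) H) :
    (∃ W : Submodule F (Fin n → F), W ≠ ⊥ ∧ W ≠ ⊤ ∧
      H = Cfsg.Geo.subspaceStabilizer W ⊓ specialLinear (Fin n) F) ∨
    (5 ≤ Fintype.card F ∧ ∃ D : Fin n → Submodule F (Fin n → F), Cfsg.Geo.IsMDecomposition 1 D ∧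
      H = Cfsg.Geo.decompositionStabilizer D ⊓ specialLinear (Fin n) F) ∨
    (¬ (n = 3 ∧ Fintype.card F = 4) ∧ ∃ K : Subalgebra F (Matrix (Fin n) (Fin n) F),
      Cfsg.Geo.IsFieldSubalgebra n K ∧ H = Cfsg.Geo.subalgebraNormalizer K ⊓ specialLinear (Fin n) F) ∨
    (∃ (F₀ : Subfield F) (r : ℕ) (P : GL (Fin n) F), r.Prime ∧ Fintype.card F = Nat.card F₀ ^ r ∧
      H = Cfsg.Geo.subfieldSubgroup F₀ P ⊓ specialLinear (Fin n) F) ∨
    (∃ (p e : ℕ) (R : Subgroup (GL (Fin n) F)), FieldData n p e F ∧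
      Cfsg.Geo.IsLinearSymplecticTypeData n R ∧
      H = Cfsg.Geo.subgroupNormalizer R ⊓ specialLinear (Fin n) F) ∨
    (Odd (Fintype.card F) ∧ ∃ Q : (Fin n → F) → F, Cfsg.Geo.IsNondegenerateQuadraticForm Q ∧
      H = Cfsg.Geo.quadSimilarityGroup Q ⊓ specialLinear (Fin n) F) ∨
    (∃ (σ : F ≃+* F) (f : (Fin n → F) → (Fin n → F) → F), Cfsg.Geo.IsUnitaryForm σ f ∧
      H = Cfsg.Geo.similarityGroup f ⊓ specialLinear (Fin n) F) ∨
    Cfsg.Geo.InLinearResidualClass H := by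
  classical
  have h3 : 3 ≤ n := by have := hn.two_le; omega
  have hHS : H ≤ specialLinear (Fin n) F := hH.1.le
  have key : ∀ M : Subgroup (GL (Fin n) F), H ≤ M → ¬ specialLinear (Fin n) F ≤ M →
      H = M ⊓ specialLinear (Fin n) F := by
    intro M hle hnot
    rcases hH.2 (M ⊓ specialLinear (Fin n) F) (le_inf hle hHS) inf_le_right with h | h
    · exact h.symm
    · exact absurd (h.symm.le.trans inf_le_left) hnot
  by_cases hirr : ActsIrreducibly (matrixSet H)
  swap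
  · left
    rw [irreducible_iff] at hirr
    push Not at hirr
    obtain ⟨W, hW, hW0, hW1⟩ := hirr
    refine ⟨W, hW0, hW1, key _ (fun g hg v => ⟨fun hv => hW _ ⟨g, hg, rfl⟩ v hv, fun hv => ?_⟩) fun hle => ?_⟩
    · have := hW _ ⟨g⁻¹, inv_mem hg, rfl⟩ _ hv
      change (↑g⁻¹ : Matrix (Fin n) (Fin n) F) *ᵥ ((g : Matrix (Fin n) (Fin n) F) *ᵥ v) ∈ W at this
      rwa [inv_mulVec_cancel] at this
    · obtain ⟨g, hg⟩ := CfsgLib.Classical.MinIndex.exists_notMem_stab hW0 hW1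
      exact hg ((CfsgLib.Classical.MinIndex.mem_subspaceStabilizer_iff W g).1
        (hle (CfsgLib.Classical.MinIndex.mem_specialLinear.2 ⟨g, rfl⟩)))
  right
  have hquad : (Odd (Fintype.card F) ∧ ∃ Q : (Fin n → F) → F,
      Cfsg.Geo.IsNondegenerateQuadraticForm Q ∧ H ≤ Cfsg.Geo.quadSimilarityGroup Q) →
      Odd (Fintype.card F) ∧ ∃ Q : (Fin n → F) → F, Cfsg.Geo.IsNondegenerateQuadraticForm Q ∧
        H = Cfsg.Geo.quadSimilarityGroup Q ⊓ specialLinear (Fin n) F := by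
    rintro ⟨ho, Q, hQ, hle⟩
    exact ⟨ho, Q, hQ, key _ hle (not_le_quadSimilarity h3 ho hQ)⟩
  have hunit : (∃ (σ : F ≃+* F) (f : (Fin n → F) → (Fin n → F) → F),
      Cfsg.Geo.IsUnitaryForm σ f ∧ H ≤ Cfsg.Geo.similarityGroup f) →
      ∃ (σ : F ≃+* F) (f : (Fin n → F) → (Fin n → F) → F), Cfsg.Geo.IsUnitaryForm σ f ∧
        H = Cfsg.Geo.similarityGroup f ⊓ specialLinear (Fin n) F := by
    rintro ⟨σ, f, hf, hle⟩
    exact ⟨σ, f, hf, key _ hle (not_le_similarity_unitary h3 hf)⟩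
  have hsub : (∃ (F₀ : Subfield F) (r : ℕ) (P : GL (Fin n) F), r.Prime ∧ F₀ ≠ ⊤ ∧
      Fintype.card F = Nat.card F₀ ^ r ∧ H ≤ Cfsg.Geo.subfieldSubgroup F₀ P) →
      ∃ (F₀ : Subfield F) (r : ℕ) (P : GL (Fin n) F), r.Prime ∧ Fintype.card F = Nat.card F₀ ^ r ∧
        H = Cfsg.Geo.subfieldSubgroup F₀ P ⊓ specialLinear (Fin n) F := by
    rintro ⟨F₀, r, P, hr, hne, hcard, hle⟩
    exact ⟨F₀, r, P, hr, hcard, key _ hle (not_le_subfield hn.two_le hne P)⟩
  rcases structure_cases hn hn2 hHS hirr with h | ⟨N, hN, -, hK, hle⟩ | h | h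
  · rcases eigen_cases hn.two_le hirr h with ⟨h5, D, hD, hle⟩ | h | h
    · exact Or.inl ⟨h5, D, hD, key _ hle (not_le_decomposition h3 hD)⟩
    · exact Or.inr (Or.inr (Or.inr (Or.inr (Or.inl (hquad h)))))
    · exact Or.inr (Or.inr (Or.inr (Or.inr (Or.inr (Or.inl (hunit h))))))
  · by_cases h34 : n = 3 ∧ Fintype.card F = 4
    · obtain ⟨rfl, h4⟩ := h34
      obtain ⟨F₀, P, hne, hcard, hle'⟩ := field_four h4 hHS hK hle
      exact Or.inr (Or.inr (Or.inl (hsub ⟨F₀, 2, P, Nat.prime_two, hne, hcard, hle'⟩)))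
    · exact Or.inr (Or.inl ⟨h34, _, hK, key _ hle (not_le_normalizer h3 hK)⟩)
  · rcases heis_cases hn hn2 h with h | h | ⟨p, e, R, hfd, hR, hns, hcard, hle⟩
    · exact Or.inr (Or.inr (Or.inl (hsub h)))
    · exact Or.inr (Or.inr (Or.inr (Or.inr (Or.inr (Or.inl (hunit h))))))
    · refine Or.inr (Or.inr (Or.inr (Or.inl ⟨p, e, R, hfd, hR,
        key _ hle (not_le_subgroupNormalizer hn.two_le hns hcard ?_)⟩)))
      obtain ⟨hp, -, hq, he, -, hmod, -⟩ := hfd
      rw [hq]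
      have hgt : n < p ^ e := by
        have h1 : 1 < p ^ e := Nat.one_lt_pow he.pos.ne' hp.one_lt
        rcases lt_or_ge (p ^ e) n with h' | h'
        · rw [Nat.mod_eq_of_lt h'] at hmod; omega
        · rcases h'.eq_or_lt with h'' | h''
          · rw [← h'', Nat.mod_self] at hmod; omega
          · exact h''
      rcases (show n = 3 ∨ 5 ≤ n by
        have := hn.odd_of_ne_two hn2
        rcases this with ⟨k, hk⟩
        omega) with rfl | h5
      · have h7 : 7 ≤ p ^ e := by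
          by_contra hlt
          have h4 : p ^ e = 4 := by omega
          have h22 : p ∣ 2 ^ 2 := by rw [show (2 : ℕ) ^ 2 = 4 from rfl, ← h4]; exact dvd_pow_self p he.pos.ne'
          rw [(Nat.prime_dvd_prime_iff_eq hp Nat.prime_two).1 (hp.dvd_of_dvd_pow h22),
            show (4 : ℕ) = 2 ^ 2 from rfl] at h4
          have : e = 2 := Nat.pow_right_injective le_rfl h4
          exact Nat.not_even_iff_odd.2 he ⟨1, by omega⟩
        calc 3 ^ 3 < 7 ^ 2 := by norm_num
          _ ≤ _ := Nat.pow_le_pow_left h7 2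
      · calc n ^ 3 < (n + 1) ^ 3 := Nat.pow_lt_pow_left (by omega) (by norm_num)
          _ ≤ (p ^ e) ^ 3 := Nat.pow_le_pow_left hgt 3
          _ ≤ _ := Nat.pow_le_pow_right (by omega) (by omega)
  · rcases perfect_cases hn hn2 h with h | h | h | h
    · exact Or.inr (Or.inr (Or.inl (hsub h)))
    · exact Or.inr (Or.inr (Or.inr (Or.inr (Or.inl (hquad h)))))
    · exact Or.inr (Or.inr (Or.inr (Or.inr (Or.inr (Or.inl (hunit h))))))
    · exact Or.inr (Or.inr (Or.inr (Or.inr (Or.inr (Or.inr h)))))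

end CfsgLib.PrimeDim
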