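import Cfsg.Agent.Lib.Classical.AschHeisBasic
import Cfsg.Agent.Lib.Classical.PrimeDimLinear

set_option autoImplicit false
set_option linter.unusedSectionVars false

/-!
Classical forms given by a matrix, and the groups of the classes five and eight over a group.
-/

namespace CfsgLib.Asch

open Matrix
open Cfsg.Geo (matrixSet scalars specialLinear ActsIrreducibly ActsAbsolutelyIrreducibly)
open CfsgLib.PrimeDim (Inv Nml Sesq)
open scoped MatrixGroups

variable {F : Type*} [Field F] {n : ℕ}

/-- `H` lies in a subfield group. -/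
def SubfieldCase [Fintype F] (H : Subgroup (GL (Fin n) F)) : Prop :=
  ∃ (F₀ : Subfield F) (r : ℕ) (P : GL (Fin n) F), r.Prime ∧ F₀ ≠ ⊤ ∧
    Fintype.card F = Nat.card F₀ ^ r ∧ H ≤ Cfsg.Geo.subfieldSubgroup F₀ P

/-- `H` lies in the similarity group of a unitary form. -/
def UnitaryCase (H : Subgroup (GL (Fin n) F)) : Prop :=
  ∃ (σ : F ≃+* F) (f : (Fin n → F) → (Fin n → F) → F),
    Cfsg.Geo.IsUnitaryForm σ f ∧ H ≤ Cfsg.Geo.similarityGroup f

/-- `H` lies in the similarity group of a symplectic form. -/
def SympCase (H : Subgroup (GL (Fin n) F)) : Prop :=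
  ∃ f : (Fin n → F) → (Fin n → F) → F,
    Cfsg.Geo.IsSymplecticForm f ∧ Even n ∧ H ≤ Cfsg.Geo.similarityGroup f

/-- `H` lies in the similarity group of a quadratic form, in odd characteristic. -/
def QuadCase [Fintype F] (H : Subgroup (GL (Fin n) F)) : Prop :=
  ∃ Q : (Fin n → F) → F, Cfsg.Geo.IsNondegenerateQuadraticForm Q ∧ Odd (Fintype.card F) ∧
    H ≤ Cfsg.Geo.quadSimilarityGroup Q

/-- The bilinear form of a matrix. -/
def matForm (B : Matrix (Fin n) (Fin n) F) (u v : Fin n → F) : F := u ⬝ᵥ B *ᵥ v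

theorem matForm_bilinear (B : Matrix (Fin n) (Fin n) F) : Cfsg.Geo.IsBilinearForm (matForm B) :=
  ⟨fun x y v => add_dotProduct x y _, fun c x v => by simp [matForm],
    fun v x y => by simp [matForm, mulVec_add], fun c v x => by simp [matForm, mulVec_smul]⟩

theorem matForm_swap (B : Matrix (Fin n) (Fin n) F) (u v : Fin n → F) :
    matForm B v u = matForm B.transpose u v := by
  rw [matForm, matForm, dotProduct_mulVec, dotProduct_comm, mulVec_transpose]

theorem matForm_mulVec (B g : Matrix (Fin n) (Fin n) F) (u v : Fin n → F) :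
    matForm B (g *ᵥ u) (g *ᵥ v) = matForm (g.transpose * B * g) u v := by
  simp only [matForm]
  rw [dotProduct_mulVec u (g.transpose * B * g), ← vecMul_vecMul, ← vecMul_vecMul, vecMul_transpose,
    ← dotProduct_mulVec, ← dotProduct_mulVec]

theorem matForm_nondegenerate {B : Matrix (Fin n) (Fin n) F} (hB : IsUnit B) :
    Cfsg.Geo.IsNondegenerateForm (matForm B) := by
  classical
  have hinj := Matrix.mulVec_injective_iff_isUnit.2 hB
  have hinj' := Matrix.mulVec_injective_iff_isUnit.2 ((Matrix.isUnit_iff_isUnit_det _).2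
    (by rw [Matrix.det_transpose]; exact (Matrix.isUnit_iff_isUnit_det _).1 hB) : IsUnit B.transpose)
  intro v hv
  refine ⟨?_, ?_⟩
  · by_contra hc
    push Not at hc
    refine hv (hinj (funext fun i => ?_))
    have := hc (Pi.single i 1)
    simpa [matForm, single_dotProduct] using this
  · by_contra hc
    push Not at hc
    refine hv (hinj' (funext fun i => ?_))
    have := hc (Pi.single i 1)
    rw [matForm_swap] at this
    simpa [matForm, single_dotProduct] using this

/-- Alternation from a vanishing diagonal and skew symmetry. -/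
theorem matForm_alternating {B : Matrix (Fin n) (Fin n) F} (hd : ∀ i, B i i = 0) (hs : B.transpose = -B)
    (v : Fin n → F) : matForm B v v = 0 := by
  have e : matForm B v v = ∑ p : Fin n × Fin n, v p.1 * B p.1 p.2 * v p.2 := by
    rw [matForm, dotProduct, Fintype.sum_prod_type]
    simp [mulVec, dotProduct, Finset.mul_sum, mul_assoc]
  rw [e]
  refine Finset.sum_involution (fun p _ => (p.2, p.1)) (fun p _ => ?_) (fun p _ hp => ?_)
    (fun p _ => Finset.mem_univ _) (fun p _ => rfl)
  · have h : B p.2 p.1 = -B p.1 p.2 := by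
      have := congrFun (congrFun hs p.1) p.2
      simpa [Matrix.transpose_apply] using this
    rw [h]
    ring
  · intro he
    apply hp
    have h1 : p.2 = p.1 := congrArg Prod.fst he
    rw [h1, hd]
    ring

/-- Similitudes of an alternating matrix. -/
theorem sympCase_of_matrix {H : Subgroup (GL (Fin n) F)} {B : Matrix (Fin n) (Fin n) F} (hB : IsUnit B)
    (hd : ∀ i, B i i = 0) (hs : B.transpose = -B)
    (hH : H ≤ Cfsg.Geo.similarityGroup (matForm B)) : SympCase H := by
  refine ⟨matForm B, ⟨matForm_bilinear B, fun v w => ?_, matForm_alternating hd hs, matForm_nondegenerate hB⟩, ?_, hH⟩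
  · rw [matForm_swap B v w, hs]
    simp [matForm, neg_mulVec]
  · by_contra hev
    exact PrimeDim.no_alternating (Nat.not_even_iff_odd.1 hev) (matForm_bilinear B)
      (matForm_alternating hd hs) (matForm_nondegenerate hB)

/-- Similitudes of a symmetric matrix in odd characteristic. -/
theorem quadCase_of_matrix [Fintype F] {H : Subgroup (GL (Fin n) F)} {B : Matrix (Fin n) (Fin n) F} (hB : IsUnit B)
    (hodd : Odd (Fintype.card F)) (hs : B.transpose = B)
    (hH : H ≤ Cfsg.Geo.similarityGroup (matForm B)) : QuadCase H := by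
  have h2 := PrimeDim.two_ne_zero_of_odd hodd
  have hb := matForm_bilinear B
  have hp : ∀ u v, QuadraticMap.polar (fun v => matForm B v v) u v = 2 * matForm B u v := by
    intro u v
    have hsym : matForm B v u = matForm B u v := by rw [matForm_swap, hs]
    simp only [QuadraticMap.polar, hb.add_left, hb.add_right, hsym]
    ring
  refine ⟨fun v => matForm B v v, ⟨fun c v => ?_, ⟨fun x y v => ?_, fun c x v => ?_, fun v x y => ?_, fun c v x => ?_⟩,
    fun v hv => ?_⟩, hodd, fun h hh => ?_⟩
  · rw [hb.smul_left, hb.smul_right]; ring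
  · simp only [hp, hb.add_left]; ring
  · simp only [hp, hb.smul_left]; ring
  · simp only [hp, hb.add_right]; ring
  · simp only [hp, hb.smul_right]; ring
  · obtain ⟨⟨x, hx⟩, ⟨y, hy⟩⟩ := matForm_nondegenerate hB v hv
    exact ⟨⟨x, by rw [hp]; exact mul_ne_zero h2 hx⟩, ⟨y, by rw [hp]; exact mul_ne_zero h2 hy⟩⟩
  · obtain ⟨c, hc⟩ := hH hh
    exact ⟨c, fun v => hc v v⟩

/-- An invariant form of an absolutely irreducible group that is symmetric or skew. -/
theorem formCase_of_invariant [Fintype F] (hn : 1 ≤ n) {H N : Subgroup (GL (Fin n) F)} (hN : Nml H N)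
    (habs : ActsAbsolutelyIrreducibly (matrixSet N)) (hodd : Odd (Fintype.card F))
    {B : Matrix (Fin n) (Fin n) F} (h0 : B ≠ 0)
    (hinv : ∀ g ∈ N, (g : Matrix (Fin n) (Fin n) F).transpose * B * (g : Matrix (Fin n) (Fin n) F) = B) :
    SympCase H ∨ QuadCase H := by
  classical
  haveI : Nonempty (Fin n) := ⟨⟨0, hn⟩⟩
  have hB : IsUnit B := by
    have hker : Inv (matrixSet N) (LinearMap.ker (Matrix.toLin' B)) := by
      rintro _ ⟨g, hg, rfl⟩ v hv
      rw [LinearMap.mem_ker, Matrix.toLin'_apply] at hv ⊢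
      have h := hinv _ (inv_mem hg)
      have h1 : B *ᵥ ((g : Matrix (Fin n) (Fin n) F) *ᵥ v) =
          (↑g⁻¹ : Matrix (Fin n) (Fin n) F).transpose *ᵥ (B *ᵥ v) := by
        conv_lhs => rw [← h]
        simp only [mulVec_mulVec, mul_assoc, Units.inv_mul, mul_one]
      rw [h1, hv, mulVec_zero]
    rcases PrimeDim.irreducible_iff.1 habs.1 _ hker with h | h
    · refine Matrix.mulVec_injective_iff_isUnit.1 fun x y e => ?_
      exact LinearMap.ker_eq_bot.1 h (by simpa [Matrix.toLin'_apply] using e)
    · exact absurd (Matrix.toLin'.injective (LinearMap.ker_eq_top.1 h |>.trans (map_zero _).symm)) h0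
  obtain ⟨U, hU⟩ := hB
  have htr : ∀ g ∈ N, (g : Matrix (Fin n) (Fin n) F).transpose * B.transpose * (g : Matrix (Fin n) (Fin n) F) =
      B.transpose := fun g hg => by
    have := congrArg Matrix.transpose (hinv g hg)
    simpa [Matrix.transpose_mul, mul_assoc] using this
  obtain ⟨c, hc⟩ := habs.2 ((↑U⁻¹ : Matrix (Fin n) (Fin n) F) * B.transpose) (by
    rintro _ ⟨g, hg, rfl⟩
    have hg' : IsUnit (g : Matrix (Fin n) (Fin n) F).transpose := by
      rw [Matrix.isUnit_iff_isUnit_det, Matrix.det_transpose]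
      exact (Matrix.isUnit_iff_isUnit_det _).1 g.isUnit
    obtain ⟨T, hT⟩ := hg'
    have e1 : B.transpose * (g : Matrix (Fin n) (Fin n) F) = (↑T⁻¹ : Matrix (Fin n) (Fin n) F) * B.transpose := by
      conv_rhs => rw [← htr g hg, ← hT]
      simp only [mul_assoc, Units.inv_mul_cancel_left]
    have e2 : (↑T⁻¹ : Matrix (Fin n) (Fin n) F) * B = B * (g : Matrix (Fin n) (Fin n) F) := by
      conv_lhs => rw [← hinv g hg, ← hT]
      simp only [mul_assoc, Units.inv_mul_cancel_left]
    show (↑U⁻¹ : Matrix (Fin n) (Fin n) F) * B.transpose * (g : Matrix (Fin n) (Fin n) F) =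
      (g : Matrix (Fin n) (Fin n) F) * ((↑U⁻¹ : Matrix (Fin n) (Fin n) F) * B.transpose)
    rw [mul_assoc, e1]
    apply (Units.mul_right_inj U).1
    rw [Units.mul_inv_cancel_left, hU, ← mul_assoc B, ← e2, ← hU, mul_assoc, Units.mul_inv_cancel_left])
  have hBt : B.transpose = c • B := by
    have := congrArg (fun X => (U : Matrix (Fin n) (Fin n) F) * X) hc
    rwa [Units.mul_inv_cancel_left, mul_smul_comm, mul_one, hU] at this
  have hcc : c * c = 1 := by
    have h1 := congrArg Matrix.transpose hBt
    rw [Matrix.transpose_transpose, Matrix.transpose_smul, hBt, smul_smul] at h1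
    obtain ⟨i, j, hij⟩ : ∃ i j, B i j ≠ 0 := by
      by_contra hc'
      push Not at hc'
      exact h0 (Matrix.ext hc')
    have h2 := congrFun (congrFun h1 i) j
    simp only [Matrix.smul_apply, smul_eq_mul] at h2
    exact (mul_eq_right₀ hij).1 h2.symm
  have hsim : H ≤ Cfsg.Geo.similarityGroup (matForm B) := by
    refine PrimeDim.similarity_of_fixes (Sesq.of_bilinear (matForm_bilinear B)
      (matForm_nondegenerate ⟨U, hU⟩)) hN habs ?_
    rintro _ ⟨g, hg, rfl⟩ u v
    rw [matForm_mulVec, hinv g hg]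
  rcases mul_self_eq_one_iff.1 hcc with h | h
  · exact Or.inr (quadCase_of_matrix ⟨U, hU⟩ hodd (by rw [hBt, h, one_smul]) hsim)
  · refine Or.inl (sympCase_of_matrix ⟨U, hU⟩ (fun i => ?_) (by rw [hBt, h, neg_smul, one_smul]) hsim)
    have := congrFun (congrFun hBt i) i
    simp only [Matrix.transpose_apply, Matrix.smul_apply, h, smul_eq_mul, neg_one_mul] at this
    exact (mul_eq_zero.1 (show (2 : F) * B i i = 0 by linear_combination this)).resolve_left
      (PrimeDim.two_ne_zero_of_odd hodd)

end CfsgLib.Asch
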