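import Cfsg.Agent.Lib.Classical.AschSmallBasic

set_option autoImplicit false
set_option linter.unusedSectionVars false

/-!
Over five elements the monomial group in dimension four normalises the Pauli matrices, so it is not maximal.
-/

namespace CfsgLib.Asch.Four

open Matrix
open Cfsg.Geo (specialLinear decompositionStabilizer IsMDecomposition)
open scoped MatrixGroups

variable {F : Type*} [Field F]

/-- The sign of the standard pairing. -/
def sz (a y : Fin 2 × Fin 2) : ℤ := if a.1 * y.1 + a.2 * y.2 = 0 then 1 else -1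

theorem sz_table : (∀ a y, sz a y * sz a y = 1) ∧ (∀ a, ∏ y, sz a y = 1) ∧
    (∀ x y v a, sz x (y + v) * sz a y = sz v a * sz v (x + a) * sz (x + a) y) ∧
    (∀ a b, ∑ y, sz a y * sz y b = if a = b then 4 else 0) := by
  decide

theorem perm_translate : ∀ (π : Equiv.Perm (Fin 2 × Fin 2)) (v : Fin 2 × Fin 2),
    ∃ w, ∀ y, π (y + v) = π y + w := by
  decide

theorem four_points : ∀ v y : Fin 2 × Fin 2, v ≠ 0 → y ≠ 0 → y ≠ v →
    ({0, v, y, y + v} : Finset (Fin 2 × Fin 2)) = Finset.univ ∧ y + v ≠ 0 ∧ y + v ≠ v ∧ y + v ≠ y := by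
  decide

theorem add_self : ∀ v : Fin 2 × Fin 2, v + v = 0 := by decide

/-- A monomial matrix of the Pauli group. -/
def pauli (c : F) (a v : Fin 2 × Fin 2) : Matrix (Fin 2 × Fin 2) (Fin 2 × Fin 2) F :=
  Matrix.of fun x y => if x = y + v then c * (sz a y : F) else 0

/-- Membership in the Pauli group with scalars. -/
def IsPauli (X : Matrix (Fin 2 × Fin 2) (Fin 2 × Fin 2) F) : Prop :=
  ∃ c a v, c ≠ 0 ∧ X = pauli c a v

theorem sz_ne_zero [NeZero (1 : F)] (a y : Fin 2 × Fin 2) : (sz a y : F) ≠ 0 := fun e => by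
  have h : ((sz a y * sz a y : ℤ) : F) = 0 := by rw [Int.cast_mul, e, zero_mul]
  rw [sz_table.1 a y, Int.cast_one] at h
  exact one_ne_zero h

theorem char_of_squares [Fintype F] (hq : Fintype.card F = 5) (f : Fin 2 × Fin 2 → F) (h0 : ∀ y, f y ≠ 0)
    (hsq : ∀ y, f y * f y = f 0 * f 0) (hprod : ∏ y, f y = 1) : ∃ c a, c ≠ 0 ∧ ∀ y, f y = c * (sz a y : F) := by
  classical
  have h4 : ∀ x : F, x ≠ 0 → x * x * (x * x) = 1 := fun x hx => by
    have := FiniteField.pow_card_sub_one_eq_one x hx
    rw [hq] at this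
    rw [← this]
    ring
  have hpm : ∀ y, f y = f 0 ∨ f y = - f 0 := fun y => mul_self_eq_mul_self_iff.1 (hsq y)
  rw [Fintype.prod_prod_type, Fin.prod_univ_two, Fin.prod_univ_two, Fin.prod_univ_two] at hprod
  have h2 : (2 : F) ≠ 0 := PrimeDim.two_ne_zero_of_odd (by rw [hq]; decide)
  have hf0 : f (0, 0) = f 0 := rfl
  have := h4 _ (h0 0)
  rcases hpm (0, 1) with e01 | e01 <;> rcases hpm (1, 0) with e10 | e10 <;> rcases hpm (1, 1) with e11 | e11 <;>
    rw [hf0, e01, e10, e11] at hprod <;>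
    first
      | (exfalso; exact h2 (by linear_combination (-1 : F) * this - hprod))
      | (refine ⟨f 0, (0, 0), h0 0, fun y => ?_⟩
         obtain ⟨i, j⟩ := y
         fin_cases i <;> fin_cases j <;> simp [sz, hf0, e01, e10, e11] <;> done)
      | (refine ⟨f 0, (0, 1), h0 0, fun y => ?_⟩
         obtain ⟨i, j⟩ := y
         fin_cases i <;> fin_cases j <;> simp [sz, hf0, e01, e10, e11] <;> done)
      | (refine ⟨f 0, (1, 0), h0 0, fun y => ?_⟩
         obtain ⟨i, j⟩ := y
         fin_cases i <;> fin_cases j <;> simp [sz, hf0, e01, e10, e11] <;> done)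
      | (refine ⟨f 0, (1, 1), h0 0, fun y => ?_⟩
         obtain ⟨i, j⟩ := y
         fin_cases i <;> fin_cases j <;> simp [sz, hf0, e01, e10, e11] <;> done)

/-- Monomial matrices of determinant one conjugate Pauli matrices to Pauli matrices. -/
theorem mono_pauli [Fintype F] (hq : Fintype.card F = 5) {G : Matrix (Fin 2 × Fin 2) (Fin 2 × Fin 2) F}
    {π : Equiv.Perm (Fin 2 × Fin 2)} (hG : ∀ p q, G p q ≠ 0 → p = π q) (hdet : G.det = 1)
    {X : Matrix (Fin 2 × Fin 2) (Fin 2 × Fin 2) F} (hX : IsPauli X) : ∃ Y, IsPauli Y ∧ G * X = Y * G := by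
  classical
  obtain ⟨c, a, v, hc, rfl⟩ := hX
  obtain ⟨w, hw⟩ := perm_translate π v
  let d : Fin 2 × Fin 2 → F := fun y => G (π y) y
  have hGd : ∀ p q, G p q = if p = π q then d q else 0 := by
    intro p q
    split
    · next h => rw [h]
    · next h =>
      by_contra h0
      exact h (hG p q h0)
  have hd : ∀ y, d y ≠ 0 := by
    intro y h0
    rw [Matrix.det_eq_zero_of_column_eq_zero y fun p => by rw [hGd]; split <;> simp [h0]] at hdet
    exact zero_ne_one hdet
  have h4 : ∀ x : F, x ≠ 0 → x * x * (x * x) = 1 := fun x hx => by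
    have := FiniteField.pow_card_sub_one_eq_one x hx
    rw [hq] at this
    rw [← this]
    ring
  have hdprod : (∏ y, d y) * ∏ y, d y = 1 := by
    have e : G = (Matrix.diagonal d).submatrix π.symm id := by
      ext p q
      rw [hGd, Matrix.submatrix_apply, Matrix.diagonal_apply, id]
      by_cases h : p = π q
      · subst h; simp
      · rw [if_neg h, if_neg fun e => h (by rw [← e, Equiv.apply_symm_apply])]
    have h1 := hdet
    rw [e, Matrix.det_permute, Matrix.det_diagonal] at h1
    rcases Int.units_eq_one_or (Equiv.Perm.sign π.symm) with hs | hs <;> rw [hs] at h1 <;> simp at h1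
    · rw [h1, one_mul]
    · rw [show (∏ y, d y) = -1 by linear_combination -h1]; ring
  let r : Fin 2 × Fin 2 → F := fun y => d (y + v) / d y
  have hr0 : ∀ y, r y ≠ 0 := fun y => div_ne_zero (hd _) (hd _)
  have hrsq : ∀ y, r y * r y = r 0 * r 0 := by
    intro y
    by_cases hv : v = 0
    · subst hv
      simp only [r, add_zero, div_self (hd _)]
    by_cases hy : y = 0
    · rw [hy]
    by_cases hyv : y = v
    · subst hyv
      simp only [r, add_self, zero_add]
      field_simp [hd]
      linear_combination h4 _ (hd 0) - h4 _ (hd y)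
    obtain ⟨huniv, h1, h2, h3⟩ := four_points v y hv hy hyv
    rw [← huniv, Finset.prod_insert (by simp [Ne.symm hv, Ne.symm hy, Ne.symm h1]),
      Finset.prod_insert (by simp [Ne.symm hyv, Ne.symm h2]), Finset.prod_insert (by simp [Ne.symm h3]),
      Finset.prod_singleton] at hdprod
    simp only [r, zero_add]
    have e4 := h4 (d v * d y) (mul_ne_zero (hd _) (hd _))
    field_simp [hd]
    linear_combination (d v * d y) * (d v * d y) * hdprod - (d (y + v) * d 0) * (d (y + v) * d 0) * e4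
  have hrprod : ∏ y, r y = 1 := by
    show ∏ y, d (y + v) / d y = 1
    rw [Finset.prod_div_distrib, div_eq_one_iff_eq (Finset.prod_ne_zero_iff.2 fun y _ => hd y)]
    exact Equiv.prod_comp (Equiv.addRight v) d
  have hsq1 : ∀ y, ((sz a y : F)) * (sz a y : F) = 1 := fun y => by
    rw [← Int.cast_mul, sz_table.1, Int.cast_one]
  let f : Fin 2 × Fin 2 → F := fun z => r (π.symm z) * (c * (sz a (π.symm z) : F))
  have hall : ∀ y z, (r y * (c * (sz a y : F))) * (r y * (c * (sz a y : F))) =
      (r z * (c * (sz a z : F))) * (r z * (c * (sz a z : F))) := by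
    intro y z
    linear_combination (c * c * (sz a y : F) * (sz a y : F)) * hrsq y - (c * c * (sz a z : F) * (sz a z : F)) * hrsq z
      + (r 0 * r 0 * c * c) * hsq1 y - (r 0 * r 0 * c * c) * hsq1 z
  obtain ⟨c', a', hc', hf⟩ := char_of_squares hq f (fun z => mul_ne_zero (hr0 _) (mul_ne_zero hc (sz_ne_zero _ _)))
    (fun z => hall _ _) (by
      show ∏ z, r (π.symm z) * (c * (sz a (π.symm z) : F)) = 1
      rw [Equiv.prod_comp π.symm fun y => r y * (c * (sz a y : F)), Finset.prod_mul_distrib, Finset.prod_mul_distrib,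
        hrprod, ← Int.cast_prod, sz_table.2.1, Int.cast_one, Finset.prod_const, Finset.card_univ]
      simp only [Fintype.card_prod, Fintype.card_fin, one_mul, mul_one]
      have := h4 c hc
      rw [← this]
      ring)
  refine ⟨pauli c' a' w, ⟨c', a', w, hc', rfl⟩, Matrix.ext fun x y => ?_⟩
  rw [Matrix.mul_apply, Matrix.mul_apply, Finset.sum_eq_single (y + v), Finset.sum_eq_single (π y)]
  · simp only [pauli, Matrix.of_apply, hGd, if_true]
    rw [← hw]
    by_cases h : x = π (y + v)
    · rw [if_pos h, if_pos h, ← hf]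
      simp only [f, r, Equiv.symm_apply_apply]
      field_simp [hd]
    · rw [if_neg h, if_neg h, zero_mul, zero_mul]
  · intro z _ hz
    rw [hGd z y, if_neg hz, mul_zero]
  · simp
  · intro z _ hz
    rw [show pauli c a v z y = 0 by simp [pauli, hz], mul_zero]
  · simp

/-- The monomial group in dimension four over five elements is not maximal. -/
theorem not_maximal [Fintype F] (hq : Fintype.card F = 5) {H : Subgroup (GL (Fin 4) F)}
    (hH : Cfsg.Geo.IsMaximalIn (specialLinear (Fin 4) F) H) {D : Fin 4 → Submodule F (Fin 4 → F)}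
    (hD : IsMDecomposition 1 D) (hle : H ≤ decompositionStabilizer D) : False := by
  classical
  obtain ⟨e, P, -, hblk⟩ := block_coords hD hle
  let f4 : Fin 2 × Fin 2 ≃ Fin 4 := finProdFinEquiv (m := 2) (n := 2)
  let ε : Fin 4 × Fin 1 ≃ Fin 2 × Fin 2 := (Equiv.prodUnique (Fin 4) (Fin 1)).trans f4.symm
  let e' : Fin 4 ≃ Fin 2 × Fin 2 := e.trans ε
  let G : Subgroup (GL (Fin 2 × Fin 2) F) :=
    { carrier := {g | ∀ X : Matrix (Fin 2 × Fin 2) (Fin 2 × Fin 2) F, IsPauli X ↔
        IsPauli ((g : Matrix (Fin 2 × Fin 2) (Fin 2 × Fin 2) F) * X * (↑g⁻¹ : Matrix (Fin 2 × Fin 2) (Fin 2 × Fin 2) F))}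
      one_mem' := fun X => by simp
      mul_mem' := fun {g h} hg hh X => by
        rw [hh X, hg, _root_.mul_inv_rev, Units.val_mul, Units.val_mul]
        simp only [mul_assoc]
      inv_mem' := fun {g} hg X => by
        rw [inv_inv, hg ((↑g⁻¹ : Matrix (Fin 2 × Fin 2) (Fin 2 × Fin 2) F) * X * (g : Matrix (Fin 2 × Fin 2) (Fin 2 × Fin 2) F))]
        simp [mul_assoc] }
  let ψ : GL (Fin 4) F ≃* GL (Fin 2 × Fin 2) F := (MulAut.conj P⁻¹).trans (Cfsg.Geo.glReindex e')
  have hψ : ∀ g : GL (Fin 4) F, (ψ g : Matrix (Fin 2 × Fin 2) (Fin 2 × Fin 2) F) =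
      tcoord e' P (g : Matrix (Fin 4) (Fin 4) F) := by
    intro g
    ext p q
    simp [ψ, tcoord, Cfsg.Geo.glReindex]
  have hmono : ∀ h ∈ H, ∃ π : Equiv.Perm (Fin 2 × Fin 2), ∀ p q,
      (ψ h : Matrix (Fin 2 × Fin 2) (Fin 2 × Fin 2) F) p q ≠ 0 → p = π q := by
    intro h hh
    obtain ⟨σ, hσ⟩ := hblk h hh
    refine ⟨f4.trans (σ.trans f4.symm), fun p q hpq => ?_⟩
    rw [hψ] at hpq
    have h1 := hσ (ε.symm p) (ε.symm q) (by simpa [tcoord, e'] using hpq)
    have h2 : ∀ p, (ε.symm p).1 = f4 p := fun p => by simp [ε]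
    rw [h2, h2] at h1
    simp only [Equiv.trans_apply, ← h1, Equiv.symm_apply_apply]
  have hHG : H ≤ G.comap ψ.toMonoidHom := by
    have key : ∀ h ∈ H, ∀ X, IsPauli X → IsPauli ((ψ h : Matrix (Fin 2 × Fin 2) (Fin 2 × Fin 2) F) * X *
        (↑(ψ h)⁻¹ : Matrix (Fin 2 × Fin 2) (Fin 2 × Fin 2) F)) := by
      intro h hh X hX
      obtain ⟨π, hπ⟩ := hmono h hh
      have hdet : (ψ h : Matrix (Fin 2 × Fin 2) (Fin 2 × Fin 2) F).det = 1 := by
        rw [hψ, tcoord, Matrix.det_submatrix_equiv_self, Matrix.det_units_conj', PrimeDim.det_eq_one hH.1.le hh]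
      obtain ⟨Y, hY, e1⟩ := mono_pauli hq hπ hdet hX
      rw [e1, mul_assoc, Units.mul_inv, mul_one]
      exact hY
    intro h hh X
    refine ⟨key h hh X, fun hX => ?_⟩
    have := key h⁻¹ (inv_mem hh) _ hX
    simpa [map_inv, mul_assoc] using this
  -- the Hadamard matrix
  have h20 : (2 : F) ≠ 0 := PrimeDim.two_ne_zero_of_odd (by rw [hq]; decide)
  let A : Matrix (Fin 2 × Fin 2) (Fin 2 × Fin 2) F := Matrix.of fun x y => (sz x y : F) / 2
  have hAA : A * A = 1 := by
    ext x y
    simp only [A, Matrix.mul_apply, Matrix.of_apply, Matrix.one_apply, div_mul_div_comm, ← Finset.sum_div]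
    simp only [← Int.cast_mul, ← Int.cast_sum, sz_table.2.2.2]
    split
    · rw [show ((4 : ℤ) : F) = 2 * 2 by norm_num, div_self (mul_ne_zero h20 h20)]
    · simp
  have hAdet : A.det = 1 := by
    have hk : A = Matrix.kroneckerMap (· * ·) (!![1, 1; 1, -1] : Matrix (Fin 2) (Fin 2) F)
        ((1 / 2 : F) • (!![1, 1; 1, -1] : Matrix (Fin 2) (Fin 2) F)) := by
      ext ⟨i, j⟩ ⟨i', j'⟩
      fin_cases i <;> fin_cases j <;> fin_cases i' <;> fin_cases j' <;> simp [A, sz] <;> ring
    rw [hk, Matrix.det_kronecker, Matrix.det_smul]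
    simp [Matrix.det_fin_two]
    field_simp
    ring
  let a : GL (Fin 2 × Fin 2) F := ⟨A, A, hAA, hAA⟩
  have haG : a ∈ G := by
    have key : ∀ X, IsPauli X → IsPauli (A * X * A) := by
      rintro _ ⟨c, b, v, hc, rfl⟩
      refine ⟨c * (sz v b : F), v, b, mul_ne_zero hc (sz_ne_zero _ _), ?_⟩
      have e1 : A * pauli c b v = pauli (c * (sz v b : F)) v b * A := by
        ext x y
        rw [Matrix.mul_apply, Matrix.mul_apply, Finset.sum_eq_single (y + v), Finset.sum_eq_single (x + b)]
        · simp only [A, pauli, Matrix.of_apply, if_true, add_assoc, add_self, add_zero]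
          have h := congrArg (fun z : ℤ => (z : F)) (sz_table.2.2.1 x y v b)
          simp only [Int.cast_mul] at h
          linear_combination (c / 2) * h
        · intro z _ hz
          rw [show pauli (c * (sz v b : F)) v b x z = 0 from if_neg fun e => hz (by rw [e, add_assoc, add_self, add_zero]),
            zero_mul]
        · simp
        · intro z _ hz
          rw [show pauli c b v z y = 0 by simp [pauli, hz], mul_zero]
        · simp
      rw [e1, mul_assoc, hAA, mul_one]
    intro X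
    refine ⟨key X, fun hX => ?_⟩
    have := key (A * X * A) hX
    rwa [show A * (A * X * A) * A = X by rw [← mul_assoc, ← mul_assoc, hAA, one_mul, mul_assoc, hAA, mul_one]] at this
  -- a transvection outside
  let S : Matrix (Fin 2 × Fin 2) (Fin 2 × Fin 2) F := Matrix.single (0, 0) (1, 0) 1
  have hSS : S * S = 0 := by simp [S]
  let b : GL (Fin 2 × Fin 2) F := ⟨1 + S, 1 - S, by simp [mul_sub, add_mul, hSS], by simp [sub_mul, mul_add, hSS]⟩
  have hbG : b ∉ G := by
    intro hb
    obtain ⟨c, a', v, hc, hX⟩ := (hb (pauli 1 (1, 0) 0)).1 ⟨1, (1, 0), 0, one_ne_zero, rfl⟩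
    have h1 := congrFun (congrFun hX (0, 0)) (0, 0)
    have h2 := congrFun (congrFun hX (0, 0)) (1, 0)
    simp [b, S, pauli, sz, Matrix.mul_apply, Fintype.sum_prod_type, Fin.sum_univ_two, Matrix.single,
      Matrix.one_apply] at h1 h2
    by_cases hv : (0 : Fin 2 × Fin 2) = v
    · subst hv
      rw [if_neg (by decide)] at h2
      exact h20 (by linear_combination -h2)
    · rw [if_neg (Ne.symm hv)] at h1
      exact one_ne_zero h1
  -- back in the given coordinates
  have hSL : ∀ g : GL (Fin 2 × Fin 2) F, (g : Matrix (Fin 2 × Fin 2) (Fin 2 × Fin 2) F).det = 1 →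
      ψ.symm g ∈ specialLinear (Fin 4) F := by
    intro g hg
    refine MonoidHom.mem_ker.2 (Units.ext ?_)
    show ((ψ.symm g : GL (Fin 4) F) : Matrix (Fin 4) (Fin 4) F).det = 1
    have h1 := hψ (ψ.symm g)
    rw [MulEquiv.apply_symm_apply] at h1
    rw [h1, tcoord, Matrix.det_submatrix_equiv_self, Matrix.det_units_conj'] at hg
    exact hg
  rcases hH.2 (G.comap ψ.toMonoidHom ⊓ specialLinear (Fin 4) F) (le_inf hHG hH.1.le) inf_le_right with h | h
  · have hmem : ψ.symm a ∈ H := by
      rw [← h]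
      exact ⟨by show ψ (ψ.symm a) ∈ G; rw [MulEquiv.apply_symm_apply]; exact haG, hSL a hAdet⟩
    obtain ⟨π, hπ⟩ := hmono _ hmem
    rw [MulEquiv.apply_symm_apply] at hπ
    have h1 := hπ (0, 0) (0, 0) (by show A (0, 0) (0, 0) ≠ 0; simp [A, sz, h20])
    have h2 := hπ (0, 1) (0, 0) (by show A (0, 1) (0, 0) ≠ 0; simp [A, sz, h20])
    exact absurd (h1.trans h2.symm) (by decide)
  · have hdb : (b : Matrix (Fin 2 × Fin 2) (Fin 2 × Fin 2) F).det = 1 := by
      show (1 + S).det = 1
      exact Matrix.det_transvection_of_ne _ _ (by decide) 1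
    have := (h.ge (hSL b hdb)).1
    exact hbG (by simpa using this)

end CfsgLib.Asch.Four
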