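import Cfsg.Agent.Lib.Classical.AschForms

set_option autoImplicit false
set_option linter.unusedSectionVars false

/-!
A class two group is monomial over the roots of unity in its centre; this gives a subfield, a form, or a group of
symplectic type.
-/

namespace CfsgLib.Asch

open Matrix
open Cfsg.Geo (matrixSet scalars specialLinear mem_scalars_iff ActsIrreducibly ActsAbsolutelyIrreducibly)
open CfsgLib.PrimeDim (Inv Nml sc sc_val sc_comm sc_mem sc_mulVec eq_sc_of_mem_scalars scalar_of_comm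
  pow_eq_one_of_scalar mulVec_injective inv_mulVec_cancel)
open scoped MatrixGroups

variable {F : Type*} [Field F] {n : ℕ}

/-- Distinct homomorphisms constant on the left cosets of a subgroup are no more than the cosets. -/
theorem card_hom_le {G : Type*} [Group G] [Finite G] {ι : Type*} [Fintype ι] (K : Subgroup G) (ψ : ι → G →* F)
    (hinj : Function.Injective ψ) (hconst : ∀ i a b, a⁻¹ * b ∈ K → ψ i a = ψ i b) :
    Fintype.card ι ≤ K.index := by
  classical
  haveI := Fintype.ofFinite (G ⧸ K)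
  have hli : LinearIndependent F (fun i (q : G ⧸ K) => ψ i q.out) := by
    rw [Fintype.linearIndependent_iff]
    intro c hc
    have h := (linearIndependent_monoidHom G F).comp ψ hinj
    rw [Fintype.linearIndependent_iff] at h
    refine h c (funext fun a => ?_)
    have h1 := congrFun hc (QuotientGroup.mk a)
    simp only [Finset.sum_apply, Pi.smul_apply, Pi.zero_apply, Function.comp_apply] at h1 ⊢
    rw [← h1]
    refine Finset.sum_congr rfl fun i _ => ?_
    rw [hconst i (QuotientGroup.mk a : G ⧸ K).out a]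
    exact QuotientGroup.eq.1 (QuotientGroup.out_eq' _)
  have := hli.fintype_card_le_finrank
  rwa [Module.finrank_pi, ← Nat.card_eq_fintype_card (α := G ⧸ K)] at this

variable {H N : Subgroup (GL (Fin n) F)} {r : ℕ}

/-- Every scalar in the group squares to one and `r = 2`: an invariant form. -/
theorem HeisData.form_case [Fintype F] (hn : 1 ≤ n) (h : HeisData H N r) (h2 : r = 2)
    (hsc : ∀ u : Fˣ, sc u ∈ N → u ^ 2 = 1) : SympCase H ∨ QuadCase H := by
  classical
  subst h2
  haveI : Nonempty (Fin n) := ⟨⟨0, hn⟩⟩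
  haveI : Finite (GL (Fin n) F) := Finite.of_injective _ Units.val_injective
  haveI := Fintype.ofFinite N
  obtain ⟨x₀, hx₀, y₀, hy₀, u₀, hu₀, hu₁, hxy⟩ := h.noncomm
  have hneg : (u₀ : F) = -1 := by
    have : (u₀ : F) * u₀ = 1 := by
      rw [← pow_two, ← Units.val_pow_eq_pow_val, hu₀, Units.val_one]
    rcases mul_self_eq_one_iff.1 this with e | e
    · exact absurd (Units.ext e) hu₁
    · exact e
  have hu₀N : sc u₀ ∈ N := by
    have : sc u₀ = x₀ * y₀ * (y₀ * x₀)⁻¹ := by rw [hxy, mul_assoc, mul_inv_cancel, mul_one]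
    rw [this]
    exact mul_mem (mul_mem hx₀ hy₀) (inv_mem (mul_mem hy₀ hx₀))
  have h20 : (2 : F) ≠ 0 := fun e => hu₁ (Units.ext (by
    rw [hneg, Units.val_one]
    exact neg_eq_of_add_eq_zero_right ((one_add_one_eq_two).trans e)))
  have hodd : Odd (Fintype.card F) := by
    by_contra hev
    obtain ⟨p, hp⟩ := CharP.exists F
    obtain ⟨k, hpp, hk⟩ := FiniteField.card F p
    rw [Nat.not_odd_iff_even, hk, Nat.even_pow] at hev
    obtain rfl : 2 = p := (Nat.prime_dvd_prime_iff_eq Nat.prime_two hpp).1 hev.1.two_dvd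
    exact h20 (by exact_mod_cast CharP.cast_eq_zero F 2)
  have hcardN : (Fintype.card N : F) ≠ 0 := by
    haveI : Fact (Nat.Prime 2) := ⟨Nat.prime_two⟩
    obtain ⟨k, hk⟩ := IsPGroup.iff_card.1 h.pGroup
    rw [← Nat.card_eq_fintype_card, hk, Nat.cast_pow]
    exact pow_ne_zero _ (by exact_mod_cast h20)
  -- the dimension is invertible
  have hn0 : (n : F) ≠ 0 := by
    intro e
    let i₀ : Fin n := ⟨0, hn⟩
    let X : Matrix (Fin n) (Fin n) F := Matrix.single i₀ i₀ 1
    let S : Matrix (Fin n) (Fin n) F := ∑ g : N, ((g : GL (Fin n) F) : Matrix (Fin n) (Fin n) F) * X *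
      (↑(g : GL (Fin n) F)⁻¹ : Matrix (Fin n) (Fin n) F)
    obtain ⟨c, hc⟩ := h.abs.2 S (by
      rintro _ ⟨a, ha, rfl⟩
      show S * (a : Matrix (Fin n) (Fin n) F) = (a : Matrix (Fin n) (Fin n) F) * S
      simp only [S, Finset.sum_mul, Finset.mul_sum]
      symm
      refine Fintype.sum_equiv (Equiv.mulLeft (⟨a, ha⟩ : N)) _ _ fun g => ?_
      simp [mul_assoc])
    have ht := congrArg Matrix.trace hc
    simp only [S, Matrix.trace_sum, Matrix.trace_smul, Matrix.trace_one, Fintype.card_fin, e, smul_zero] at ht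
    refine hcardN ?_
    have : ∀ g : N, Matrix.trace (((g : GL (Fin n) F) : Matrix (Fin n) (Fin n) F) * X *
        (↑(g : GL (Fin n) F)⁻¹ : Matrix (Fin n) (Fin n) F)) = 1 := fun g => by
      rw [Matrix.trace_mul_comm, ← mul_assoc, Units.inv_mul, one_mul]
      simp [X, Matrix.trace_single_eq_same]
    rw [Finset.sum_congr rfl fun g _ => this g] at ht
    simpa using ht
  -- traces
  have htrace : ∀ g : N, (g : GL (Fin n) F) ≠ 1 → (g : GL (Fin n) F) ≠ sc u₀ →
      Matrix.trace ((g : GL (Fin n) F) : Matrix (Fin n) (Fin n) F) = 0 := by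
    rintro ⟨g, hg⟩ h1 h2
    by_contra ht
    obtain ⟨w, hw⟩ := eq_sc_of_mem_scalars (scalar_of_comm h.abs fun y hy => (by
      obtain ⟨u, -, e⟩ := h.comm g hg y hy
      have e' := congrArg (fun z : GL (Fin n) F => (↑y⁻¹ : Matrix (Fin n) (Fin n) F) * (z : Matrix (Fin n) (Fin n) F)) e
      simp only [Units.val_mul, sc_val, smul_mul, one_mul, mul_smul_comm, Units.inv_mul_cancel_left] at e'
      have e2 := congrArg Matrix.trace e'
      rw [← mul_assoc, Matrix.trace_mul_comm, ← mul_assoc, Units.mul_inv, one_mul, Matrix.trace_smul] at e2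
      have hu : u = 1 := Units.ext ((mul_eq_right₀ ht).1 e2.symm)
      rwa [hu, sc_one, one_mul] at e : g * y = y * g))
    have hw2 := hsc w (hw ▸ hg)
    have : (w : F) * w = 1 := by rw [← pow_two, ← Units.val_pow_eq_pow_val, hw2, Units.val_one]
    rcases mul_self_eq_one_iff.1 this with e | e
    · exact h1 (show g = 1 by rw [hw, show w = 1 from Units.ext e, sc_one])
    · exact h2 (show g = sc u₀ by rw [hw, show w = u₀ from Units.ext (e.trans hneg.symm)])
  -- some average is non-zero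
  obtain ⟨i, j, hij⟩ : ∃ i j : Fin n, (∑ g : N, ((g : GL (Fin n) F) : Matrix (Fin n) (Fin n) F).transpose *
      Matrix.single i j (1 : F) * ((g : GL (Fin n) F) : Matrix (Fin n) (Fin n) F)) ≠ 0 := by
    by_contra hc
    push Not at hc
    have hsum : ∑ g : N, Matrix.trace ((g : GL (Fin n) F) : Matrix (Fin n) (Fin n) F) ^ 2 = 0 := by
      have : ∀ g : N, Matrix.trace ((g : GL (Fin n) F) : Matrix (Fin n) (Fin n) F) ^ 2 =
          ∑ i : Fin n, ∑ j : Fin n, ((((g : GL (Fin n) F) : Matrix (Fin n) (Fin n) F).transpose * Matrix.single i j (1 : F) *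
            ((g : GL (Fin n) F) : Matrix (Fin n) (Fin n) F) : Matrix (Fin n) (Fin n) F)) i j := fun g => by
        rw [pow_two, Matrix.trace, Finset.sum_mul_sum]
        refine Finset.sum_congr rfl fun i _ => Finset.sum_congr rfl fun j _ => ?_
        simp [Matrix.mul_apply, Matrix.single, ite_and]
      rw [Finset.sum_congr rfl fun g _ => this g, Finset.sum_comm]
      refine Finset.sum_eq_zero fun i _ => ?_
      rw [Finset.sum_comm]
      refine Finset.sum_eq_zero fun j _ => ?_
      have h' := congrFun (congrFun (hc i j) i) j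
      rwa [Matrix.sum_apply] at h'
    have hne : (⟨1, one_mem N⟩ : N) ≠ ⟨sc u₀, hu₀N⟩ := fun e =>
      hu₁ (sc_injective hn ((congrArg Subtype.val e).symm.trans sc_one.symm))
    rw [Fintype.sum_eq_add (⟨1, one_mem N⟩ : N) ⟨sc u₀, hu₀N⟩ hne fun g hg => by
      rw [htrace g (fun e => hg.1 (Subtype.ext e)) (fun e => hg.2 (Subtype.ext e))]; ring] at hsum
    simp only [Units.val_one, sc_val, hneg, Matrix.trace_one, Matrix.trace_smul, Fintype.card_fin,
      smul_eq_mul] at hsum
    exact mul_ne_zero h20 (pow_ne_zero 2 hn0) (by linear_combination hsum)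
  refine formCase_of_invariant hn h.nml h.abs hodd hij fun a ha => ?_
  simp only [Finset.mul_sum, Finset.sum_mul]
  refine Fintype.sum_equiv (Equiv.mulRight (⟨a, ha⟩ : N)) _ _ fun g => ?_
  simp [Matrix.transpose_mul, mul_assoc]

/-- The group is monomial over the roots of unity in its centre. -/
theorem HeisData.monomial [Finite F] (hn : 1 ≤ n) (h : HeisData H N r) {z : ℕ} {ζ : Fˣ} (hz : z ≠ 0)
    (hζ : IsPrimitiveRoot ζ z) (hζN : sc ζ ∈ N) (hpow : ∀ x ∈ N, x ^ z = 1) :
    Nat.card (Subgroup.center N) = z ∧ Nat.card N = z * n ^ 2 ∧ (∃ k : ℕ, n = r ^ k) ∧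
      ∃ B : Module.Basis (Fin n) F (Fin n → F), ∀ g ∈ N, ∃ (π : Equiv.Perm (Fin n)) (a : Fin n → ℕ),
        ∀ i, (g : Matrix (Fin n) (Fin n) F) *ᵥ B i = (ζ : F) ^ a i • B (π i) := by
  classical
  haveI : Finite (GL (Fin n) F) := Finite.of_injective _ Units.val_injective
  haveI : Nonempty (Fin n) := ⟨⟨0, hn⟩⟩
  haveI : Fact r.Prime := ⟨h.prime⟩
  haveI : NeZero z := ⟨hz⟩
  have hζF : IsPrimitiveRoot (ζ : F) z := IsPrimitiveRoot.coe_units_iff.2 hζ
  haveI := hζF.neZero'
  have hroot : ∀ w : Fˣ, w ^ z = 1 → ∃ i, i < z ∧ ζ ^ i = w := fun w hw => by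
    obtain ⟨i, hi, e⟩ := hζF.eq_pow_of_pow_eq_one
      (show (w : F) ^ z = 1 by rw [← Units.val_pow_eq_pow_val, hw, Units.val_one])
    exact ⟨i, hi, Units.ext (by simpa using e)⟩
  -- the scalars
  let c₁ : N := ⟨sc ζ, hζN⟩
  have hscz : ∀ g : N, (g : GL (Fin n) F) ∈ scalars (Fin n) F → g ∈ Subgroup.zpowers c₁ := by
    intro g hg
    obtain ⟨w, hw⟩ := eq_sc_of_mem_scalars hg
    obtain ⟨i, -, hi⟩ := hroot w (sc_injective hn (by rw [sc_pow, ← hw, hpow _ g.2, sc_one]))
    exact ⟨i, Subtype.ext (by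
      show (((c₁ ^ (i : ℤ)) : N) : GL (Fin n) F) = _
      rw [zpow_natCast, SubgroupClass.coe_pow, hw, ← hi, sc_pow])⟩
  have hord : orderOf c₁ = z := by
    rw [← orderOf_injective N.subtype N.subtype_injective]
    show orderOf (sc ζ : GL (Fin n) F) = z
    rw [show (sc ζ : GL (Fin n) F) = (Units.map (Matrix.scalar (Fin n) : F →+* Matrix (Fin n) (Fin n) F).toMonoidHom) ζ from rfl,
      orderOf_injective _ (sc_injective hn), ← hζ.eq_orderOf]
  set Z : Subgroup N := Subgroup.zpowers c₁
  have hZc : Z ≤ Subgroup.center N := by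
    rw [Subgroup.zpowers_le, Subgroup.mem_center_iff]
    exact fun a => Subtype.ext (sc_comm ζ a.1).symm
  have hcenter : Subgroup.center N = Z := le_antisymm (fun g hg => hscz g (scalar_of_comm h.abs fun a ha =>
    (congrArg Subtype.val (Subgroup.mem_center_iff.1 hg ⟨a, ha⟩)).symm)) hZc
  have hZcard : Nat.card Z = z := by rw [Nat.card_zpowers, hord]
  -- the commutator pairing
  choose u hur hu using fun a b : N => h.comm a a.2 b b.2
  have huniq : ∀ (a b : N) (w : Fˣ), (a : GL (Fin n) F) * (b : GL (Fin n) F) = sc w * ((b : GL (Fin n) F) * (a : GL (Fin n) F)) → w = u a b :=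
    fun a b w e => sc_injective hn (mul_right_cancel (e.symm.trans (hu a b)))
  have hul : ∀ a a' b, u (a * a') b = u a b * u a' b := fun a a' b => (huniq _ _ _ (by
    show ((a : GL (Fin n) F) * (a' : GL (Fin n) F)) * (b : GL (Fin n) F) =
      sc (u a b * u a' b) * ((b : GL (Fin n) F) * ((a : GL (Fin n) F) * (a' : GL (Fin n) F)))
    rw [mul_assoc, hu a' b, ← mul_assoc (a : GL (Fin n) F), ← sc_comm, mul_assoc (sc (u a' b)),
      ← mul_assoc (a : GL (Fin n) F), hu a b, ← mul_assoc, ← mul_assoc, ← sc_mul, mul_comm (u a' b)]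
    simp only [mul_assoc])).symm
  have hswap : ∀ a b, u b a = (u a b)⁻¹ := fun a b => (huniq _ _ _ (by
    rw [sc_inv, hu a b, inv_mul_cancel_left])).symm
  have hur' : ∀ a b b', u a (b * b') = u a b * u a b' := fun a b b' => by
    rw [hswap, hul, hswap a b, hswap a b', mul_inv, inv_inv, inv_inv]
  have huZ : ∀ (c : N), c ∈ Z → ∀ b, u c b = 1 := fun c hc b => (huniq _ _ _ (by
    rw [sc_one, one_mul]
    exact (congrArg Subtype.val (Subgroup.mem_center_iff.1 (hZc hc) b)).symm)).symm
  -- a maximal abelian subgroup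
  haveI : Finite (Subgroup N) := Finite.of_injective _ SetLike.coe_injective
  obtain ⟨A, hA, hAmax⟩ := (wellFounded_gt (α := Subgroup N)).has_min
    {A | A ≤ Subgroup.centralizer (A : Set N)} ⟨⊥, show (⊥ : Subgroup N) ≤ _ from bot_le⟩
  have hAcomm : ∀ a ∈ A, ∀ b ∈ A, b * a = a * b := fun a ha b hb =>
    Subgroup.mem_centralizer_iff.1 (hA ha) b hb
  have hAself : ∀ y : N, (∀ a ∈ A, a * y = y * a) → y ∈ A := by
    intro y hy
    have hle : A ⊔ Subgroup.zpowers y ≤ Subgroup.centralizer ((A ⊔ Subgroup.zpowers y : Subgroup N) : Set N) := by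
      have h1 : A ≤ Subgroup.centralizer ((A ⊔ Subgroup.zpowers y : Subgroup N) : Set N) := by
        rw [Subgroup.le_centralizer_iff, sup_le_iff]
        exact ⟨hA, (Subgroup.zpowers_le).2 (Subgroup.mem_centralizer_iff.2 hy)⟩
      refine sup_le h1 ?_
      rw [Subgroup.le_centralizer_iff, sup_le_iff]
      refine ⟨?_, ?_⟩
      · intro a ha
        rw [Subgroup.mem_centralizer_iff]
        rintro _ ⟨k, rfl⟩
        exact ((show Commute y a from (hy a ha).symm).zpow_left k).eq
      · rw [Subgroup.zpowers_le, Subgroup.mem_centralizer_iff]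
        rintro _ ⟨k, rfl⟩
        exact ((Commute.refl y).zpow_left k).eq
    have heq : A = A ⊔ Subgroup.zpowers y := eq_of_le_of_not_lt le_sup_left fun hlt => hAmax _ hle hlt
    rw [heq]
    exact Subgroup.mem_sup_right (Subgroup.mem_zpowers y)
  have hZA : Z ≤ A := fun c hc => hAself c fun a _ => Subgroup.mem_center_iff.1 (hZc hc) a
  -- a common eigenvector
  haveI := Fintype.ofFinite A
  have hexU : ∀ s : Finset A, ∃ U : Submodule F (Fin n → F), U ≠ ⊥ ∧
      (∀ a : A, ∀ v ∈ U, (((a : N) : GL (Fin n) F) : Matrix (Fin n) (Fin n) F) *ᵥ v ∈ U) ∧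
      ∀ a ∈ s, ∃ i : ℕ, ∀ v ∈ U, (((a : N) : GL (Fin n) F) : Matrix (Fin n) (Fin n) F) *ᵥ v = (ζ : F) ^ i • v := by
    intro s
    induction s using Finset.induction_on with
    | empty => exact ⟨⊤, top_ne_bot, fun _ _ _ => Submodule.mem_top, by simp⟩
    | @insert a s has ih =>
      obtain ⟨U, hU0, hUinv, hUs⟩ := ih
      obtain ⟨v, hv, hv0⟩ := (Submodule.ne_bot_iff U).1 hU0
      set X : Matrix (Fin n) (Fin n) F := (((a : N) : GL (Fin n) F) : Matrix (Fin n) (Fin n) F) with hX
      have hXz : X ^ z = 1 := by rw [hX, ← Units.val_pow_eq_pow_val, hpow _ (a : N).2, Units.val_one]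
      let w : ℕ → (Fin n → F) := fun i => ∑ j ∈ Finset.range z, ((ζ : F)⁻¹ ^ i) ^ j • ((X ^ j) *ᵥ v)
      have hXv : ∀ j : ℕ, (X ^ j) *ᵥ v ∈ U := fun j => by
        induction j with
        | zero => simpa using hv
        | succ j ihj => rw [pow_succ', ← mulVec_mulVec]; exact hUinv a _ ihj
      have hwU : ∀ i, w i ∈ U := fun i => Submodule.sum_mem _ fun j _ => Submodule.smul_mem _ _ (hXv j)
      have hsum : ∑ i ∈ Finset.range z, w i = (z : F) • v := by
        rw [Finset.sum_comm, Finset.sum_eq_single 0]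
        · funext k
          simp
        · intro j hj hj0
          rw [← Finset.sum_smul]
          have : ∑ i ∈ Finset.range z, ((ζ : F)⁻¹ ^ i) ^ j = 0 := by
            have hne : ((ζ : F)⁻¹) ^ j ≠ 1 := by
              rw [inv_pow, ne_eq, inv_eq_one]
              exact hζF.pow_ne_one_of_pos_of_lt hj0 (Finset.mem_range.1 hj)
            have hz1 : (((ζ : F)⁻¹) ^ j) ^ z = 1 := by
              rw [← pow_mul, mul_comm, pow_mul, inv_pow, hζF.pow_eq_one, inv_one, one_pow]
            have hg := geom_sum_eq hne z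
            rw [hz1, sub_self, zero_div] at hg
            rw [← hg]
            exact Finset.sum_congr rfl fun i _ => by rw [← pow_mul, ← pow_mul, mul_comm]
          rw [this, zero_smul]
        · intro h0
          exact absurd (Finset.mem_range.2 (Nat.pos_of_ne_zero hz)) h0
      obtain ⟨i, -, hi⟩ : ∃ i ∈ Finset.range z, w i ≠ 0 := Finset.exists_ne_zero_of_sum_ne_zero (by
        rw [hsum]; exact smul_ne_zero (NeZero.ne _) hv0)
      have hXw : X *ᵥ w i = (ζ : F) ^ i • w i := by
        simp only [w, mulVec_sum, Finset.smul_sum, mulVec_smul, mulVec_mulVec, ← pow_succ', smul_smul]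
        let g : ℕ → (Fin n → F) := fun j => ((ζ : F) ^ i * ((ζ : F)⁻¹ ^ i) ^ j) • ((X ^ j) *ᵥ v)
        have h1 : ∀ j, ((ζ : F)⁻¹ ^ i) ^ j • ((X ^ (j + 1)) *ᵥ v) = g (j + 1) := fun j => by
          simp only [g, pow_succ' ((ζ : F)⁻¹ ^ i), ← mul_assoc]
          rw [inv_pow, mul_inv_cancel₀ (pow_ne_zero _ ζ.ne_zero), one_mul]
        have h2 : g z = g 0 := by
          simp only [g, hXz, pow_zero, mul_one, one_mulVec]
          congr 1
          rw [← pow_mul, mul_comm i, pow_mul, inv_pow, hζF.pow_eq_one, inv_one, one_pow, mul_one]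
        rw [Finset.sum_congr rfl fun j _ => h1 j]
        have h3 := Finset.sum_range_succ' g z
        rw [Finset.sum_range_succ, h2] at h3
        exact (add_right_cancel h3).symm
      refine ⟨U ⊓ LinearMap.ker (Matrix.toLin' (X - (ζ : F) ^ i • 1)), ?_, ?_, ?_⟩
      · rw [Submodule.ne_bot_iff]
        refine ⟨w i, ⟨hwU i, ?_⟩, hi⟩
        rw [SetLike.mem_coe, LinearMap.mem_ker, Matrix.toLin'_apply, sub_mulVec, smul_mulVec, one_mulVec, hXw, sub_self]
      · rintro b x ⟨hx, hx'⟩
        refine ⟨hUinv b x hx, ?_⟩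
        rw [SetLike.mem_coe, LinearMap.mem_ker, Matrix.toLin'_apply, sub_mulVec, smul_mulVec, one_mulVec,
          sub_eq_zero] at hx' ⊢
        have hab : X * (((b : N) : GL (Fin n) F) : Matrix (Fin n) (Fin n) F) =
            (((b : N) : GL (Fin n) F) : Matrix (Fin n) (Fin n) F) * X := by
          have := congrArg (fun g : N => ((g : GL (Fin n) F) : Matrix (Fin n) (Fin n) F)) (hAcomm _ b.2 _ a.2)
          simpa [hX] using this
        rw [mulVec_mulVec, hab, ← mulVec_mulVec, hx', mulVec_smul]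
      · intro b hb
        rcases Finset.mem_insert.1 hb with rfl | hb
        · refine ⟨i, fun x hx => ?_⟩
          have h' := hx.2
          rw [SetLike.mem_coe, LinearMap.mem_ker, Matrix.toLin'_apply, sub_mulVec, smul_mulVec, one_mulVec,
            sub_eq_zero] at h'
          exact h'
        · obtain ⟨j, hj⟩ := hUs b hb
          exact ⟨j, fun x hx => hj x hx.1⟩
  obtain ⟨U, hU0, -, hU⟩ := hexU Finset.univ
  obtain ⟨v, hv, hv0⟩ := (Submodule.ne_bot_iff U).1 hU0
  choose χ hχ using fun a : A => hU a (Finset.mem_univ a)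
  -- the transversal
  haveI := Fintype.ofFinite (N ⧸ A)
  let b : N ⧸ A → (Fin n → F) := fun q => ((q.out : GL (Fin n) F) : Matrix (Fin n) (Fin n) F) *ᵥ v
  let χq : N ⧸ A → A → F := fun q a => (u (a : N) q.out : F) * (ζ : F) ^ χ a
  have hbeig : ∀ q (a : A), (((a : N) : GL (Fin n) F) : Matrix (Fin n) (Fin n) F) *ᵥ b q = χq q a • b q := by
    intro q a
    have e := congrArg Units.val (hu (a : N) q.out)
    simp only [Units.val_mul, sc_val, smul_mul, one_mul] at e
    simp only [b, χq]
    rw [mulVec_mulVec, e, smul_mulVec, ← mulVec_mulVec, hχ a v hv, mulVec_smul, smul_smul]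
  have hχinj : Function.Injective χq := by
    intro q q' e
    rw [← QuotientGroup.out_eq' q, ← QuotientGroup.out_eq' q', QuotientGroup.eq]
    refine hAself _ fun a ha => Subtype.ext ?_
    have e' : u a q.out = u a q'.out := Units.ext (mul_right_cancel₀ (pow_ne_zero _ ζ.ne_zero) (congrFun e ⟨a, ha⟩))
    show (a : GL (Fin n) F) * ((q.out : GL (Fin n) F)⁻¹ * (q'.out : GL (Fin n) F)) =
      (q.out : GL (Fin n) F)⁻¹ * (q'.out : GL (Fin n) F) * (a : GL (Fin n) F)
    have h1 : (a : GL (Fin n) F) * (q.out : GL (Fin n) F)⁻¹ =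
        sc (u a q.out)⁻¹ * ((q.out : GL (Fin n) F)⁻¹ * (a : GL (Fin n) F)) := by
      rw [sc_inv, eq_inv_mul_iff_mul_eq, eq_inv_mul_iff_mul_eq, ← mul_assoc, ← mul_assoc,
        ← sc_comm, mul_assoc (sc (u a q.out)), ← hu a q.out, mul_assoc, mul_inv_cancel, mul_one]
    rw [← mul_assoc, h1, mul_assoc, mul_assoc, hu a q'.out, ← e', ← mul_assoc (q.out : GL (Fin n) F)⁻¹,
      ← sc_comm, mul_assoc (sc (u a q.out)), ← mul_assoc, ← sc_mul, inv_mul_cancel, sc_one, one_mul, ← mul_assoc]
  have hb0 : ∀ q, b q ≠ 0 := fun q e => hv0 (mulVec_injective (q.out : GL (Fin n) F) (by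
    exact ((Matrix.toLin'_apply _ _).trans e).trans (map_zero _).symm))
  have hli : LinearIndependent F b := by
    -- distinct characters
    let Ā : Subgroup (GL (Fin n) F) := A.map N.subtype
    let κ : N ⧸ A → Ā → F := fun q x => χq q ⟨⟨x, (Subgroup.map_subtype_le A) x.2⟩, by
      obtain ⟨a, ha, e⟩ := x.2
      rw [show (⟨(x : GL (Fin n) F), _⟩ : N) = a from Subtype.ext e.symm]
      exact ha⟩
    have hκ : Function.Injective κ := fun q q' e => hχinj (funext fun a => congrFun e ⟨_, (a : N), a.2, rfl⟩)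
    refine (PrimeDim.iSupIndep_eig Ā κ hκ).linearIndependent (fun q => PrimeDim.eig Ā (κ q)) (fun q x => ?_) hb0
    obtain ⟨_, a, ha, rfl⟩ := x
    exact hbeig q ⟨a, ha⟩
  have hmove : ∀ (g : N) (q : N ⧸ A), ∃ a : A,
      ((g : GL (Fin n) F) : Matrix (Fin n) (Fin n) F) *ᵥ b q = (ζ : F) ^ χ a • b (QuotientGroup.mk (g * q.out)) := by
    intro g q
    set q' : N ⧸ A := QuotientGroup.mk (g * q.out) with hq'
    have ha : q'.out⁻¹ * (g * q.out) ∈ A := QuotientGroup.eq.1 (QuotientGroup.out_eq' q')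
    refine ⟨⟨_, ha⟩, ?_⟩
    simp only [b]
    rw [← mulVec_smul, ← hχ ⟨_, ha⟩ v hv, mulVec_mulVec, mulVec_mulVec, ← Units.val_mul, ← Units.val_mul]
    congr 2
    simp
  have hspan : Submodule.span F (Set.range b) = ⊤ := by
    refine (PrimeDim.irreducible_iff.1 h.abs.1 _ ?_).resolve_left fun e => hb0 (QuotientGroup.mk 1)
      ((Submodule.span_eq_bot.1 e) _ ⟨_, rfl⟩)
    rintro _ ⟨g, hg, rfl⟩ x hx
    induction hx using Submodule.span_induction with
    | mem x hx =>
      obtain ⟨q, rfl⟩ := hx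
      obtain ⟨a, e⟩ := hmove ⟨g, hg⟩ q
      show (g : Matrix (Fin n) (Fin n) F) *ᵥ b q ∈ _
      rw [e]
      exact Submodule.smul_mem _ _ (Submodule.subset_span ⟨_, rfl⟩)
    | zero => rw [mulVec_zero]; exact zero_mem _
    | add x y _ _ hx hy => rw [mulVec_add]; exact add_mem hx hy
    | smul c x _ hx => rw [mulVec_smul]; exact Submodule.smul_mem _ _ hx
  let B₀ := Module.Basis.mk hli (by rw [hspan])
  have hindex : A.index = n := by
    have := Module.finrank_eq_card_basis B₀
    rw [Module.finrank_fin_fun] at this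
    rw [Subgroup.index, Nat.card_eq_fintype_card, ← this]
  -- the size of the group
  let Z' : Subgroup A := Z.subgroupOf A
  have h1 : Fintype.card (N ⧸ A) ≤ Z'.index := by
    refine card_hom_le (F := F) Z'
      (fun q => ({
        toFun := fun a => (u (a : N) q.out : F)
        map_one' := by rw [OneMemClass.coe_one, huZ 1 (one_mem Z), Units.val_one]
        map_mul' := fun a a' => by rw [Subgroup.coe_mul, hul, Units.val_mul] } : A →* F))
      (fun q q' e => hχinj (funext fun a => ?_)) fun q a a' haa => ?_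
    · have := DFunLike.congr_fun e a
      simp only [χq]
      rw [show (u (a : N) q.out : F) = u (a : N) q'.out from this]
    · show (u (a : N) q.out : F) = u (a' : N) q.out
      rw [show (a' : N) = a * (a⁻¹ * a' : A) by simp, hul, huZ _ (Subgroup.mem_subgroupOf.1 haa), mul_one]
  haveI := Fintype.ofFinite (A ⧸ Z')
  have h2 : Fintype.card (A ⧸ Z') ≤ A.index := by
    refine card_hom_le (F := F) A
      (fun p => ({
        toFun := fun g => (u (p.out : N) g : F)
        map_one' := by rw [hswap, huZ 1 (one_mem Z), inv_one, Units.val_one]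
        map_mul' := fun g g' => by rw [hur', Units.val_mul] } : N →* F))
      (fun p p' e => ?_) fun p g g' hgg => ?_
    · rw [← QuotientGroup.out_eq' p, ← QuotientGroup.out_eq' p', QuotientGroup.eq, Subgroup.mem_subgroupOf]
      refine hscz _ (scalar_of_comm h.abs fun g hg => ?_)
      have e' : u (p.out : N) ⟨g, hg⟩ = u (p'.out : N) ⟨g, hg⟩ := Units.ext (DFunLike.congr_fun e ⟨g, hg⟩)
      have e2 : u ((p.out⁻¹ * p'.out : A) : N) ⟨g, hg⟩ = 1 := by
        have := hul (p.out : N) ((p.out⁻¹ * p'.out : A) : N) ⟨g, hg⟩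
        rw [show (p.out : N) * ((p.out⁻¹ * p'.out : A) : N) = (p'.out : N) by simp, ← e'] at this
        exact (mul_eq_left.1 this.symm)
      have := hu ((p.out⁻¹ * p'.out : A) : N) ⟨g, hg⟩
      rwa [e2, sc_one, one_mul] at this
    · show (u (p.out : N) g : F) = u (p.out : N) g'
      rw [show g' = g * (g⁻¹ * g') by simp, hur']
      have : u (p.out : N) (g⁻¹ * g') = 1 := (huniq _ _ _ (by
        rw [sc_one, one_mul]
        exact congrArg Subtype.val (hAcomm _ hgg _ p.out.2))).symm
      rw [this, mul_one]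
  have hZ' : Z'.index = n := by
    rw [← Nat.card_eq_fintype_card] at h1 h2
    exact le_antisymm (h2.trans hindex.le) (hindex.ge.trans h1)
  have hcard : Nat.card N = z * n ^ 2 := by
    rw [← A.card_mul_index, ← Z'.card_mul_index, hZ', hindex,
      Nat.card_congr (Subgroup.subgroupOfEquivOfLe hZA).toEquiv, hZcard]
    ring
  have hk : ∃ k : ℕ, n = r ^ k := by
    obtain ⟨j, hj⟩ := IsPGroup.iff_card.1 h.pGroup
    obtain ⟨k, -, e⟩ := (Nat.dvd_prime_pow h.prime).1 (hj ▸ A.index_dvd_card)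
    exact ⟨k, hindex.symm.trans e⟩
  let eI : N ⧸ A ≃ Fin n := Fintype.equivFinOfCardEq (by rw [← Nat.card_eq_fintype_card]; exact hindex)
  refine ⟨by rw [hcenter, hZcard], hcard, hk, B₀.reindex eI, fun g hg => ?_⟩
  let π₀ : Equiv.Perm (N ⧸ A) := MulAction.toPerm (⟨g, hg⟩ : N)
  choose a ha using fun q => hmove ⟨g, hg⟩ q
  refine ⟨eI.permCongr π₀, fun i => χ (a (eI.symm i)), fun i => ?_⟩
  simp only [Module.Basis.reindex_apply, Equiv.permCongr_apply, Equiv.symm_apply_apply, B₀, Module.Basis.mk_apply]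
  refine (ha _).trans ?_
  congr 2
  show (QuotientGroup.mk ((⟨g, hg⟩ : N) * (eI.symm i).out) : N ⧸ A) = (⟨g, hg⟩ : N) • (eI.symm i)
  conv_rhs => rw [← QuotientGroup.out_eq' (eI.symm i)]
  rfl

end CfsgLib.Asch
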