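import Cfsg.Agent.Lib.Classical.AschClifford

set_option autoImplicit false
set_option linter.unusedSectionVars false

/-!
A minimal non-scalar normal subgroup of class two: it is an `r`-group of symplectic type, monomial over the
roots of unity in its centre.
-/

namespace CfsgLib.Asch

open Matrix
open Cfsg.Geo (matrixSet scalars specialLinear mem_scalars_iff ActsIrreducibly ActsAbsolutelyIrreducibly)
open CfsgLib.PrimeDim (Inv Nml sc sc_val sc_comm sc_mem sc_mulVec eq_sc_of_mem_scalars scalar_of_comm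
  pow_eq_one_of_scalar mulVec_injective eig iSupIndep_eig)
open scoped MatrixGroups
open scoped commutatorElement

variable {F : Type*} [Field F] {n : ℕ}

theorem sc_mul (u w : Fˣ) : (sc (u * w) : GL (Fin n) F) = sc u * sc w := map_mul _ u w

theorem sc_one : (sc 1 : GL (Fin n) F) = 1 := map_one _

theorem sc_inv (u : Fˣ) : (sc u⁻¹ : GL (Fin n) F) = (sc u)⁻¹ := map_inv _ u

theorem sc_pow (u : Fˣ) (k : ℕ) : (sc (u ^ k) : GL (Fin n) F) = sc u ^ k := map_pow _ u k

theorem sc_injective (hn : 1 ≤ n) : Function.Injective (sc : Fˣ → GL (Fin n) F) := by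
  intro u w h
  refine Units.ext ?_
  have := congrArg (fun g : GL (Fin n) F => (g : Matrix (Fin n) (Fin n) F) ⟨0, hn⟩ ⟨0, hn⟩) h
  simpa [sc_val] using this

theorem Nml.self (H : Subgroup (GL (Fin n) F)) : Nml H H :=
  ⟨le_rfl, fun _ hh _ hx => mul_mem (mul_mem hh hx) (inv_mem hh)⟩

/-- Scalar matrices do not act irreducibly. -/
theorem not_le_scalars (hn : 2 ≤ n) {H : Subgroup (GL (Fin n) F)} (hH : ActsIrreducibly (matrixSet H)) :
    ¬ H ≤ scalars (Fin n) F := by
  intro hs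
  let v : Fin n → F := Pi.single ⟨0, by omega⟩ 1
  rcases PrimeDim.irreducible_iff.1 hH (Submodule.span F {v}) (by
    rintro _ ⟨g, hg, rfl⟩ w hw
    obtain ⟨u, rfl⟩ := eq_sc_of_mem_scalars (hs hg)
    show ((sc u : GL (Fin n) F) : Matrix (Fin n) (Fin n) F) *ᵥ w ∈ _
    rw [sc_mulVec]
    exact Submodule.smul_mem _ _ hw) with h | h
  · exact (show v ≠ 0 by simp [v]) (Submodule.span_singleton_eq_bot.1 h)
  · have h1 : Module.finrank F (Submodule.span F {v}) ≤ 1 := by
      simpa using finrank_span_le_card ({v} : Set (Fin n → F))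
    rw [h, finrank_top, Module.finrank_fin_fun] at h1
    omega

/-- Commutation up to scalars, with powers. -/
theorem comm_pow {a b : GL (Fin n) F} {u : Fˣ} (h : a * b = sc u * (b * a)) :
    ∀ k : ℕ, a * b ^ k = sc (u ^ k) * (b ^ k * a) := by
  intro k
  induction k with
  | zero => simp [sc_one]
  | succ k ih =>
    rw [pow_succ, ← mul_assoc, ih, mul_assoc (sc (u ^ k)), mul_assoc (b ^ k), h, ← mul_assoc (b ^ k),
      ← sc_comm u (b ^ k), pow_succ, sc_mul]
    simp only [mul_assoc]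

/-- Powers of a product of elements commuting up to a scalar. -/
theorem mul_pow_twist {a b : GL (Fin n) F} {u : Fˣ} (h : b * a = sc u * (a * b)) :
    ∀ k : ℕ, (a * b) ^ k = sc (u ^ k.choose 2) * (a ^ k * b ^ k) := by
  intro k
  induction k with
  | zero => simp [sc_one]
  | succ k ih =>
    have h1 : b ^ k * a = sc (u ^ k) * (a * b ^ k) := by
      have h' : a * b = sc u⁻¹ * (b * a) := by rw [h, sc_inv, inv_mul_cancel_left]
      rw [comm_pow h' k, ← mul_assoc, ← sc_mul, inv_pow, mul_inv_cancel, sc_one, one_mul]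
    have hchoose : (k + 1).choose 2 = k.choose 2 + k := by
      rw [Nat.choose_succ_succ' k 1, Nat.choose_one_right, add_comm]
    calc (a * b) ^ (k + 1) = sc (u ^ k.choose 2) * (a ^ k * (b ^ k * a) * b) := by
          rw [pow_succ, ih]; simp only [mul_assoc]
      _ = sc (u ^ k.choose 2) * ((a ^ k * sc (u ^ k)) * (a * b ^ k) * b) := by
          rw [h1]; simp only [mul_assoc]
      _ = sc (u ^ k.choose 2) * (sc (u ^ k) * (a ^ k * a * (b ^ k * b))) := by
          rw [← sc_comm (u ^ k) (a ^ k)]; simp only [mul_assoc]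
      _ = _ := by rw [← mul_assoc, ← sc_mul, ← pow_add, hchoose, pow_succ, pow_succ]

/-- A minimal non-scalar normal subgroup of class two. -/
structure HeisData (H N : Subgroup (GL (Fin n) F)) (r : ℕ) : Prop where
  nml : Nml H N
  abs : ActsAbsolutelyIrreducibly (matrixSet N)
  ns : ¬ N ≤ scalars (Fin n) F
  min : ∀ K, Nml H K → K ≤ N → K ≤ scalars (Fin n) F ∨ K = N
  prime : r.Prime
  pGroup : IsPGroup r N
  comm : ∀ x ∈ N, ∀ y ∈ N, ∃ u : Fˣ, u ^ r = 1 ∧ x * y = sc u * (y * x)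
  pow_scalar : ∀ x ∈ N, x ^ r ∈ scalars (Fin n) F
  exp : ∀ x ∈ N, x ^ (r * Nat.gcd 2 r) = 1

theorem exists_heisData [Finite F] (hn : 2 ≤ n) {H N : Subgroup (GL (Fin n) F)}
    (hN : Nml H N) (habs : ActsAbsolutelyIrreducibly (matrixSet N))
    (hns : ¬ N ≤ scalars (Fin n) F)
    (hmin : ∀ K, Nml H K → K ≤ N → K ≤ scalars (Fin n) F ∨ K = N)
    (hcl : ⁅N, N⁆ ≤ scalars (Fin n) F) : ∃ r, HeisData H N r := by
  classical
  haveI : Finite (GL (Fin n) F) := Finite.of_injective _ Units.val_injective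
  have hn1 : 1 ≤ n := le_trans one_le_two hn
  have hcomm : ∀ a ∈ N, ∀ b ∈ N, ∃ u : Fˣ, a * b = sc u * (b * a) := by
    intro a ha b hb
    obtain ⟨u, hu⟩ := eq_sc_of_mem_scalars (hcl (Subgroup.commutator_mem_commutator ha hb))
    exact ⟨u, by rw [← hu, commutatorElement_def]; simp [mul_assoc]⟩
  -- a non-scalar element of prime power order
  obtain ⟨x, hxN, hxs, hxmin⟩ : ∃ x ∈ N, x ∉ scalars (Fin n) F ∧
      ∀ y ∈ N, y ∉ scalars (Fin n) F → orderOf x ≤ orderOf y := by
    have hex : ∃ k, ∃ y ∈ N, y ∉ scalars (Fin n) F ∧ orderOf y = k := by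
      obtain ⟨y, hy, hys⟩ := SetLike.not_le_iff_exists.1 hns
      exact ⟨_, y, hy, hys, rfl⟩
    obtain ⟨x, hx, hxs, he⟩ := Nat.find_spec hex
    exact ⟨x, hx, hxs, fun y hy hys => he ▸ Nat.find_min' hex ⟨y, hy, hys, rfl⟩⟩
  have hx1 : orderOf x ≠ 1 := fun h => hxs (by rw [orderOf_eq_one_iff.1 h]; exact one_mem _)
  obtain ⟨r, hr, hrdvd⟩ := Nat.exists_prime_and_dvd hx1
  haveI : Fact r.Prime := ⟨hr⟩
  have hxr : x ^ r ∈ scalars (Fin n) F := by
    by_contra h
    have := hxmin _ (pow_mem hxN r) h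
    rw [orderOf_pow_of_dvd hr.ne_zero hrdvd] at this
    exact absurd this (not_le.2 (Nat.div_lt_self (orderOf_pos x) hr.one_lt))
  have hxpow : ∃ k, x ^ r ^ k = 1 := by
    obtain ⟨a, b, hb, e⟩ := Nat.exists_eq_pow_mul_and_not_dvd (orderOf_pos x).ne' r hr.ne_one
    have hb0 : b ≠ 0 := by rintro rfl; exact hb (dvd_zero r)
    by_cases hb1 : b = 1
    · exact ⟨a, by rw [← mul_one (r ^ a), ← hb1, ← e]; exact pow_orderOf_eq_one x⟩
    exfalso
    apply hxs
    have h1 : x ^ b ∈ scalars (Fin n) F := by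
      by_contra h
      have := hxmin _ (pow_mem hxN b) h
      rw [orderOf_pow_of_dvd hb0 (Dvd.intro_left _ e.symm)] at this
      exact absurd this (not_le.2 (Nat.div_lt_self (orderOf_pos x) (by omega)))
    have hcop : Nat.Coprime r b := hr.coprime_iff_not_dvd.2 hb
    have hg := Nat.gcd_eq_gcd_ab r b
    rw [hcop.gcd_eq_one] at hg
    rw [show x = x ^ ((1 : ℕ) : ℤ) by simp, hg, _root_.zpow_add, _root_.zpow_mul, _root_.zpow_mul, zpow_natCast,
      zpow_natCast]
    exact mul_mem (zpow_mem hxr _) (zpow_mem h1 _)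
  -- the elements of r-power order form a subgroup
  let T : Subgroup (GL (Fin n) F) :=
    { carrier := {g | g ∈ N ∧ ∃ k, g ^ r ^ k = 1}
      one_mem' := ⟨one_mem N, 0, by simp⟩
      inv_mem' := fun {g} ⟨hg, k, hk⟩ => ⟨inv_mem hg, k, by rw [inv_pow, hk, inv_one]⟩
      mul_mem' := by
        rintro a b ⟨ha, i, hi⟩ ⟨hb, j, hj⟩
        refine ⟨mul_mem ha hb, 2 * (i + j) + 1, ?_⟩
        obtain ⟨u, hu⟩ := hcomm b hb a ha
        have hu' : u ^ r ^ i = 1 := by
          have h := comm_pow hu (r ^ i)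
          rw [hi, mul_one, one_mul] at h
          exact sc_injective hn1 ((mul_eq_right.1 h.symm).trans sc_one.symm)
        rw [mul_pow_twist hu]
        have e1 : ∀ {g : GL (Fin n) F} {s : ℕ}, g ^ r ^ s = 1 → ∀ {t}, s ≤ t → g ^ r ^ t = 1 := by
          intro g s hs t hst
          obtain ⟨d, rfl⟩ := Nat.exists_eq_add_of_le hst
          rw [pow_add, pow_mul, hs, one_pow]
        rw [e1 hi (by omega), e1 hj (by omega), mul_one, mul_one]
        have h2 : r ^ i ∣ (r ^ (2 * (i + j) + 1)).choose 2 := by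
          rw [Nat.choose_two_right]
          set t := 2 * (i + j) + 1
          have hd : r ^ (i + 1) ∣ r ^ t := pow_dvd_pow r (by omega)
          obtain ⟨d, hd⟩ := hd
          rcases hr.eq_two_or_odd' with h2 | h2
          · refine Dvd.intro (d * (r ^ t - 1)) ?_
            have : r ^ t * (r ^ t - 1) = 2 * (r ^ i * (d * (r ^ t - 1))) := by
              rw [hd, pow_succ, h2]; ring
            rw [this, Nat.mul_div_cancel_left _ two_pos]
          · have hev : 2 ∣ r ^ t - 1 := by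
              obtain ⟨c, hc⟩ := h2.pow (n := t)
              exact ⟨c, by omega⟩
            rw [Nat.mul_div_assoc _ hev]
            exact Dvd.dvd.mul_right (pow_dvd_pow r (by omega)) _
        obtain ⟨d, hd⟩ := h2
        rw [hd, pow_mul, hu', one_pow, sc_one] }
  have hT : T = N := by
    refine (hmin T ⟨fun g hg => hN.le hg.1, fun h hh g hg => ?_⟩ fun g hg => hg.1).resolve_left
      fun hs => hxs (hs ⟨hxN, hxpow⟩)
    obtain ⟨hgN, k, hk⟩ := hg
    exact ⟨hN.conj h hh g hgN, k, by rw [← MulAut.conj_apply, ← map_pow, hk, map_one]⟩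
  have hpG : IsPGroup r N := fun g => by
    obtain ⟨-, k, hk⟩ := (hT.symm ▸ g.2 : (g : GL (Fin n) F) ∈ T)
    exact ⟨k, Subtype.ext (by rw [SubgroupClass.coe_pow, hk, OneMemClass.coe_one])⟩
  -- r-th powers are scalar
  have hpow : ∀ y ∈ N, y ^ r ∈ scalars (Fin n) F := by
    let q := QuotientGroup.mk' (scalars (Fin n) F)
    haveI hcq : IsMulCommutative (N.map q) := ⟨⟨by
      rintro ⟨_, a, ha, rfl⟩ ⟨_, b, hb, rfl⟩
      refine Subtype.ext ?_
      show q a * q b = q b * q a
      obtain ⟨u, hu⟩ := hcomm a ha b hb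
      rw [← map_mul, hu, map_mul, show q (sc u) = 1 from (QuotientGroup.eq_one_iff _).2 (sc_mem u), one_mul,
        map_mul]⟩⟩
    let pw : N.map q →* N.map q :=
      MonoidHom.mk' (fun a => a ^ r) fun a b => (show Commute a b from hcq.is_comm.comm a b).mul_pow r
    let P : Subgroup (GL (Fin n) F) := ((pw.range.map (N.map q).subtype).comap q) ⊓ N
    have hP : Nml H P := by
      refine ⟨inf_le_right.trans hN.le, ?_⟩
      rintro h hh g ⟨⟨_, ⟨⟨_, z, hz, rfl⟩, rfl⟩, hga⟩, hg⟩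
      refine ⟨?_, hN.conj h hh g hg⟩
      have hga' : q g = (q z) ^ r := hga.symm
      refine ⟨(⟨q (h * z * h⁻¹), _, hN.conj h hh z hz, rfl⟩ : N.map q) ^ r, ⟨_, rfl⟩, ?_⟩
      show (q (h * z * h⁻¹)) ^ r = q (h * g * h⁻¹)
      rw [map_mul, map_mul, map_mul, map_mul, hga', map_inv, conj_pow]
    rcases hmin P hP inf_le_right with h | h
    · intro y hy
      refine h ⟨⟨(⟨q y, y, hy, rfl⟩ : N.map q) ^ r, ⟨_, rfl⟩, ?_⟩, pow_mem hy r⟩
      show (q y) ^ r = q (y ^ r)
      rw [map_pow]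
    · exfalso
      have hsurj : Function.Surjective pw := by
        rintro ⟨_, y, hy, rfl⟩
        obtain ⟨⟨w, ⟨a, ha⟩, hw⟩, -⟩ := (h.symm ▸ hy : y ∈ P)
        exact ⟨a, Subtype.ext ((congrArg Subtype.val ha).trans hw)⟩
      have hinj := Finite.injective_iff_surjective.2 hsurj
      have h1 := @hinj ⟨q x, x, hxN, rfl⟩ 1 (by
        refine (Subtype.ext ?_).trans (map_one pw).symm
        show (q x) ^ r = 1
        rw [← map_pow]
        exact (QuotientGroup.eq_one_iff _).2 hxr)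
      exact hxs ((QuotientGroup.eq_one_iff _).1 (congrArg Subtype.val h1))
  have hcr : ∀ a ∈ N, ∀ b ∈ N, ∃ u : Fˣ, u ^ r = 1 ∧ a * b = sc u * (b * a) := by
    intro a ha b hb
    obtain ⟨u, hu⟩ := hcomm a ha b hb
    refine ⟨u, sc_injective hn1 ?_, hu⟩
    obtain ⟨w, hw⟩ := eq_sc_of_mem_scalars (hpow b hb)
    have h := comm_pow hu r
    rw [hw, ← sc_comm] at h
    rw [sc_one]
    exact mul_eq_right.1 h.symm
  -- the exponent
  set E := r * Nat.gcd 2 r with hE
  have hrE : r ∣ E := Dvd.intro _ rfl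
  have hchooseE : r ∣ E.choose 2 := by
    rcases hr.eq_two_or_odd' with h2 | h2
    · subst h2; decide
    · have : Nat.gcd 2 r = 1 := Nat.coprime_two_left.2 h2
      rw [hE, this, mul_one, Nat.choose_two_right, Nat.mul_div_assoc]
      · exact Dvd.intro _ rfl
      · obtain ⟨c, hc⟩ := h2; exact ⟨c, by omega⟩
  have hmulE : ∀ a ∈ N, ∀ b ∈ N, (a * b) ^ E = a ^ E * b ^ E := by
    intro a ha b hb
    obtain ⟨u, hur, hu⟩ := hcr b hb a ha
    obtain ⟨d, hd⟩ := hchooseE
    rw [mul_pow_twist hu, hd, pow_mul, hur, one_pow, sc_one, one_mul]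
  let K : Subgroup (GL (Fin n) F) :=
    { carrier := {g | g ∈ N ∧ g ^ E = 1}
      one_mem' := ⟨one_mem N, one_pow E⟩
      inv_mem' := fun {g} ⟨hg, hk⟩ => ⟨inv_mem hg, by rw [inv_pow, hk, inv_one]⟩
      mul_mem' := fun {a b} ⟨ha, ha'⟩ ⟨hb, hb'⟩ => ⟨mul_mem ha hb, by rw [hmulE a ha b hb, ha', hb', mul_one]⟩ }
  have hKN : K = N := by
    refine (hmin K ⟨fun g hg => hN.le hg.1, fun h hh g hg => ⟨hN.conj h hh g hg.1, by
      rw [← MulAut.conj_apply, ← map_pow, hg.2, map_one]⟩⟩ fun g hg => hg.1).resolve_left fun hs => hns ?_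
    intro y hy
    -- the images of the power map generate a cyclic group
    let G : Subgroup (GL (Fin n) F) :=
      { carrier := {g | ∃ z ∈ N, g = z ^ E}
        one_mem' := ⟨1, one_mem N, (one_pow E).symm⟩
        inv_mem' := fun {g} ⟨z, hz, e⟩ => ⟨z⁻¹, inv_mem hz, by rw [e, inv_pow]⟩
        mul_mem' := by
          rintro _ _ ⟨z, hz, rfl⟩ ⟨w, hw, rfl⟩
          exact ⟨z * w, mul_mem hz hw, (hmulE z hz w hw).symm⟩ }
    have hGs : ∀ g ∈ G, g ∈ scalars (Fin n) F := by
      rintro _ ⟨z, hz, rfl⟩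
      obtain ⟨d, hd⟩ := hrE
      rw [hd, pow_mul]
      exact pow_mem (hpow z hz) d
    haveI : IsCyclic G := by
      let ι : G → Fˣ := fun g => (eq_sc_of_mem_scalars (hGs g g.2)).choose
      have hι : ∀ g : G, (g : GL (Fin n) F) = sc (ι g) := fun g => (eq_sc_of_mem_scalars (hGs g g.2)).choose_spec
      let ιh : G →* Fˣ := MonoidHom.mk' ι fun a b => sc_injective hn1 (by
        rw [sc_mul, ← hι, ← hι, ← hι]; rfl)
      exact isCyclic_of_injective ιh fun a b h => Subtype.ext (by rw [hι a, hι b]; exact congrArg sc h)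
    obtain ⟨⟨g, z₀, hz₀, rfl⟩, hgen⟩ := IsCyclic.exists_generator (α := G)
    have hdec : ∀ w ∈ N, ∃ (i : ℤ) (s : Fˣ), w = z₀ ^ i * sc s := by
      intro w hw
      obtain ⟨i, hi⟩ := hgen ⟨w ^ E, w, hw, rfl⟩
      have hi' : (z₀ ^ E) ^ i = w ^ E := congrArg Subtype.val hi
      have hz : (z₀ ^ i)⁻¹ ∈ N := inv_mem (zpow_mem hz₀ i)
      have hmem : (z₀ ^ i)⁻¹ * w ∈ K := by
        refine ⟨mul_mem hz hw, ?_⟩
        rw [hmulE _ hz w hw, inv_pow, ← zpow_natCast (z₀ ^ i) E, ← _root_.zpow_mul, mul_comm, _root_.zpow_mul,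
          zpow_natCast, hi', inv_mul_cancel]
      obtain ⟨s, hs'⟩ := eq_sc_of_mem_scalars (hs hmem)
      exact ⟨i, s, by rw [← hs', mul_inv_cancel_left]⟩
    refine scalar_of_comm habs fun w hw => ?_
    obtain ⟨i, s, rfl⟩ := hdec y hy
    obtain ⟨j, t, rfl⟩ := hdec w hw
    calc z₀ ^ i * sc s * (z₀ ^ j * sc t) = z₀ ^ i * (sc s * z₀ ^ j) * sc t := by simp only [mul_assoc]
      _ = z₀ ^ i * z₀ ^ j * (sc s * sc t) := by rw [sc_comm s (z₀ ^ j)]; simp only [mul_assoc]
      _ = z₀ ^ j * z₀ ^ i * (sc t * sc s) := by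
          rw [← _root_.zpow_add, add_comm, _root_.zpow_add, sc_comm s (sc t)]
      _ = z₀ ^ j * (sc t * z₀ ^ i) * sc s := by rw [sc_comm t (z₀ ^ i)]; simp only [mul_assoc]
      _ = _ := by simp only [mul_assoc]
  exact ⟨r, hN, habs, hns, hmin, hr, hpG, hcr, hpow, fun y hy => ((hKN.symm ▸ hy : y ∈ K)).2⟩

variable {H N : Subgroup (GL (Fin n) F)} {r : ℕ}

theorem HeisData.noncomm (h : HeisData H N r) :
    ∃ x ∈ N, ∃ y ∈ N, ∃ u : Fˣ, u ^ r = 1 ∧ u ≠ 1 ∧ x * y = sc u * (y * x) := by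
  by_contra hc
  push Not at hc
  refine h.ns fun x hx => scalar_of_comm h.abs fun y hy => ?_
  obtain ⟨u, hur, hu⟩ := h.comm x hx y hy
  by_cases h1 : u = 1
  · rwa [h1, sc_one, one_mul] at hu
  · exact absurd hu (hc x hx y hy u hur h1)

theorem HeisData.symplecticType [Finite F] (hn : 1 ≤ n) (h : HeisData H N r) : Cfsg.Geo.IsSymplecticTypeGroup r N := by
  classical
  haveI : Fact r.Prime := ⟨h.prime⟩
  refine ⟨h.prime, h.pGroup, fun A hA hAc => ?_, ?_⟩
  · have hA' : Nml H (A.map N.subtype) := by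
      refine ⟨(Subgroup.map_subtype_le A).trans h.nml.le, ?_⟩
      rintro g hg _ ⟨a, ha, rfl⟩
      let φ : N ≃* N :=
        { toFun := fun x => ⟨g * x * g⁻¹, h.nml.conj g hg x x.2⟩
          invFun := fun x => ⟨g⁻¹ * x * g, h.nml.conj' hg x.2⟩
          left_inv := fun x => Subtype.ext (by simp [mul_assoc])
          right_inv := fun x => Subtype.ext (by simp [mul_assoc])
          map_mul' := fun x y => Subtype.ext (by simp [mul_assoc]) }
      exact ⟨φ a, by rw [← Subgroup.characteristic_iff_map_eq.1 hA φ]; exact ⟨a, ha, rfl⟩, rfl⟩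
    have hs : ∀ a : A, ((a : N) : GL (Fin n) F) ∈ scalars (Fin n) F := by
      rcases h.min _ hA' (Subgroup.map_subtype_le A) with hs | hs
      · exact fun a => hs ⟨a, a.2, rfl⟩
      · refine absurd (fun x hx => scalar_of_comm h.abs fun y hy => ?_) h.ns
        obtain ⟨a, ha, rfl⟩ := (hs.symm ▸ hx : x ∈ A.map N.subtype)
        obtain ⟨b, hb, rfl⟩ := (hs.symm ▸ hy : y ∈ A.map N.subtype)
        exact congrArg (fun z : A => ((z : N) : GL (Fin n) F)) (hAc.is_comm.comm ⟨a, ha⟩ ⟨b, hb⟩)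
    let ι : A → Fˣ := fun a => (eq_sc_of_mem_scalars (hs a)).choose
    have hι : ∀ a : A, ((a : N) : GL (Fin n) F) = sc (ι a) := fun a => (eq_sc_of_mem_scalars (hs a)).choose_spec
    let ιh : A →* Fˣ := MonoidHom.mk' ι fun a b => sc_injective hn (by
      rw [sc_mul, ← hι, ← hι, ← hι]; rfl)
    haveI : Finite A := Finite.of_injective ιh fun a b e =>
      Subtype.ext (Subtype.ext (by rw [hι a, hι b]; exact congrArg sc e))
    exact isCyclic_of_injective ιh fun a b e =>
      Subtype.ext (Subtype.ext (by rw [hι a, hι b]; exact congrArg sc e))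
  · refine Nat.dvd_antisymm (Monoid.exponent_dvd_of_forall_pow_eq_one fun x => Subtype.ext (h.exp x x.2)) ?_
    obtain ⟨x, hx, y, hy, u, hur, hu1, hxy⟩ := h.noncomm
    have hu : orderOf u = r := orderOf_eq_prime hur hu1
    rcases h.prime.eq_two_or_odd' with h2 | h2
    · -- an element of order four
      subst h2
      have hexp2 : ¬ Monoid.exponent N ∣ 2 := by
        intro hd
        have hsq : ∀ g ∈ N, g * g = 1 := fun g hg => by
          have := Monoid.exponent_dvd_iff_forall_pow_eq_one.1 hd ⟨g, hg⟩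
          simpa [pow_two] using congrArg Subtype.val this
        have hinv : ∀ g ∈ N, g⁻¹ = g := fun g hg => inv_eq_of_mul_eq_one_right (hsq g hg)
        have e : x * y = y * x := by
          rw [← hinv _ (mul_mem hx hy), _root_.mul_inv_rev, hinv x hx, hinv y hy]
        rw [e] at hxy
        exact hu1 (sc_injective hn ((mul_eq_right.1 hxy.symm).trans sc_one.symm))
      have hd : Monoid.exponent N ∣ 2 * 2 := Monoid.exponent_dvd_of_forall_pow_eq_one fun g => Subtype.ext (by
        simpa using h.exp g g.2)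
      show 2 * 2 ∣ _
      obtain ⟨j, hj, e⟩ := (Nat.dvd_prime_pow Nat.prime_two).1 (show Monoid.exponent N ∣ 2 ^ 2 by simpa using hd)
      interval_cases j <;> simp_all
    · rw [Nat.coprime_two_left.2 h2, mul_one]
      have hxyN : sc u ∈ N := by
        have : sc u = x * y * (y * x)⁻¹ := by rw [hxy, mul_assoc, mul_inv_cancel, mul_one]
        rw [this]
        exact mul_mem (mul_mem hx hy) (inv_mem (mul_mem hy hx))
      have hd := Monoid.order_dvd_exponent (⟨sc u, hxyN⟩ : N)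
      rwa [← orderOf_injective N.subtype N.subtype_injective, show N.subtype ⟨sc u, hxyN⟩ = sc u from rfl,
        show (sc u : GL (Fin n) F) = (Units.map (Matrix.scalar (Fin n) : F →+* Matrix (Fin n) (Fin n) F).toMonoidHom) u from rfl,
        orderOf_injective _ (sc_injective hn), hu] at hd

end CfsgLib.Asch
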