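import Cfsg.Agent.Lib.Classical.AschHeis

set_option autoImplicit false
set_option linter.unusedSectionVars false

/-!
Groups with a minimal normal subgroup of class two: a subfield, a form, or a group of symplectic type.
-/

namespace CfsgLib.Asch

open Matrix
open Cfsg.Geo (matrixSet scalars specialLinear ActsIrreducibly ActsAbsolutelyIrreducibly)
open CfsgLib.PrimeDim (Inv Nml sc eq_sc_of_mem_scalars pow_eq_one_of_scalar)
open scoped MatrixGroups

variable {F : Type*} [Field F] {n : ℕ}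

/-- A normal group of symplectic type, with the arithmetic of its field. -/
def SympTypeCase [Fintype F] (H : Subgroup (GL (Fin n) F)) : Prop :=
  ∃ (r p e k : ℕ) (R : Subgroup (GL (Fin n) F)), Nml H R ∧ ¬ R ≤ scalars (Fin n) F ∧
    Cfsg.Geo.IsLinearSymplecticTypeData r R ∧ r.Prime ∧ p.Prime ∧ n = r ^ k ∧ 1 ≤ k ∧ CharP F p ∧
    Fintype.card F = p ^ e ∧
    ((Odd r ∧ Odd e ∧ r ∣ p ^ e - 1 ∧ (∀ d, 0 < d → d < e → ¬ r ∣ p ^ d - 1) ∧
        Nat.card R = r ^ (1 + 2 * k)) ∨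
      (r = 2 ∧ e = 1 ∧ p % 4 = 1 ∧ Nat.card R = 2 ^ (2 + 2 * k)))

theorem SympTypeCase.le [Fintype F] {H : Subgroup (GL (Fin n) F)} (h : SympTypeCase H) :
    ∃ (r : ℕ) (R : Subgroup (GL (Fin n) F)), Cfsg.Geo.IsLinearSymplecticTypeData r R ∧
      H ≤ Cfsg.Geo.subgroupNormalizer R := by
  obtain ⟨r, -, -, -, R, hN, -, hR, -⟩ := h
  refine ⟨r, R, hR, fun g hg => Subgroup.mem_normalizer_iff.2 fun z => ⟨fun hz => hN.conj g hg z hz, fun hz => ?_⟩⟩
  have := hN.conj' hg hz
  simpa [mul_assoc] using this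

/-- Groups with a normal class two group that is minimal non-scalar. -/
theorem heis_cases [Fintype F] (hn : 3 ≤ n) {H N : Subgroup (GL (Fin n) F)}
    (hH : H ≤ specialLinear (Fin n) F) (hN : Nml H N) (habs : ActsAbsolutelyIrreducibly (matrixSet N))
    (hns : ¬ N ≤ scalars (Fin n) F) (hmin : ∀ K, Nml H K → K ≤ N → K ≤ scalars (Fin n) F ∨ K = N)
    (hcl : ⁅N, N⁆ ≤ scalars (Fin n) F) :
    SubfieldCase H ∨ UnitaryCase H ∨ SympCase H ∨ QuadCase H ∨ SympTypeCase H := by
  classical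
  have hn1 : 1 ≤ n := by omega
  obtain ⟨r, h⟩ := exists_heisData (by omega) hN habs hns hmin hcl
  haveI : Fact r.Prime := ⟨h.prime⟩
  obtain ⟨x₀, hx₀, y₀, hy₀, u₀, hu₀, hu₁, hxy⟩ := h.noncomm
  have hu₀N : sc u₀ ∈ N := by
    have : sc u₀ = x₀ * y₀ * (y₀ * x₀)⁻¹ := by rw [hxy, mul_assoc, mul_inv_cancel, mul_one]
    rw [this]
    exact mul_mem (mul_mem hx₀ hy₀) (inv_mem (mul_mem hy₀ hx₀))
  by_cases hform : r = 2 ∧ ∀ u : Fˣ, sc u ∈ N → u ^ 2 = 1
  · rcases h.form_case (by omega) hform.1 hform.2 with h' | h'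
    · exact Or.inr (Or.inr (Or.inl h'))
    · exact Or.inr (Or.inr (Or.inr (Or.inl h')))
  obtain ⟨z, ζ, hz, hζ, hζN, hpow⟩ : ∃ (z : ℕ) (ζ : Fˣ), (Odd r ∧ z = r ∨ r = 2 ∧ z = 4) ∧
      IsPrimitiveRoot ζ z ∧ sc ζ ∈ N ∧ ∀ x ∈ N, x ^ z = 1 := by
    rcases h.prime.eq_two_or_odd' with h2 | h2
    · simp only [h2, true_and] at hform
      push Not at hform
      obtain ⟨u, huN, hu⟩ := hform
      have h4 : ∀ x ∈ N, x ^ 4 = 1 := fun x hx => by
        have := h.exp x hx
        rw [h2] at this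
        exact this
      refine ⟨4, u, Or.inr ⟨h2, rfl⟩, ?_, huN, h4⟩
      have hu4 : u ^ 4 = 1 := sc_injective hn1 (by rw [sc_pow, h4 _ huN, sc_one])
      have : orderOf u = 2 ^ (1 + 1) := orderOf_eq_prime_pow (by simpa using hu) (by simpa using hu4)
      have h' := IsPrimitiveRoot.orderOf u
      rwa [this] at h'
    · refine ⟨r, u₀, Or.inl ⟨h2, rfl⟩, (orderOf_eq_prime hu₀ hu₁) ▸ IsPrimitiveRoot.orderOf u₀, hu₀N, fun x hx => ?_⟩
      have := h.exp x hx
      rwa [Nat.coprime_two_left.2 h2, mul_one] at this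
  have hz0 : z ≠ 0 := by
    have := h.prime.two_le
    rcases hz with ⟨-, rfl⟩ | ⟨-, rfl⟩ <;> omega
  obtain ⟨hcen, hcard, ⟨k, hk⟩, B, hmono⟩ := h.monomial (by omega) hz0 hζ hζN hpow
  have hk1 : 1 ≤ k := Nat.one_le_iff_ne_zero.2 fun e => by rw [e, pow_zero] at hk; omega
  haveI : NeZero n := ⟨by omega⟩
  set F₀ : Subfield F := Subfield.closure {(ζ : F)}
  by_cases hF₀ : F₀ = ⊤
  swap
  · left
    exact PrimeDim.subfield_of_realisable (by omega) hN habs hF₀ (PrimeDim.heis_realisable B hmono)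
  have hfix : ∀ σ : F →+* F, σ ζ = ζ → ∀ a, σ a = a := by
    intro σ hσ a
    have : F₀ ≤ RingHom.eqLocusField σ (RingHom.id F) :=
      Subfield.closure_le.2 (Set.singleton_subset_iff.2 hσ)
    exact this (hF₀ ▸ Subfield.mem_top a)
  obtain ⟨p, hp⟩ := CharP.exists F
  obtain ⟨k₀, hpp, hq'⟩ := FiniteField.card F p
  obtain ⟨e, he0, hq⟩ : ∃ e : ℕ, e ≠ 0 ∧ Fintype.card F = p ^ e := ⟨k₀, k₀.ne_zero, hq'⟩
  haveI : Fact p.Prime := ⟨hpp⟩
  have hord : orderOf ζ = z := hζ.eq_orderOf.symm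
  have hζF : IsPrimitiveRoot (ζ : F) z := IsPrimitiveRoot.coe_units_iff.2 hζ
  rcases Nat.even_or_odd e with ⟨m, hm⟩ | he
  · -- a unitary form
    have hm0 : m ≠ 0 := by rintro rfl; exact he0 hm
    obtain ⟨σ, hne, hinv, -⟩ := PrimeDim.exists_involution (F := F) hpp hm0 (by rw [hq, hm, two_mul])
    have hσζ : (ζ : F) * σ ζ = 1 := by
      haveI : NeZero z := ⟨hz0⟩
      obtain ⟨i, hi, hiζ⟩ := hζF.eq_pow_of_pow_eq_one
        (show (σ ζ) ^ z = 1 by rw [← map_pow, hζF.pow_eq_one, map_one])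
      have hii : ζ ^ (i * i) = ζ ^ 1 := Units.ext (by
        rw [Units.val_pow_eq_pow_val, pow_mul, hiζ, ← map_pow, hiζ, hinv, pow_one])
      rw [pow_eq_pow_iff_modEq, hord] at hii
      have hi1 : i ≠ 1 := by
        rintro rfl
        rw [pow_one] at hiζ
        exact hne (RingEquiv.ext fun a => hfix (σ : F →+* F) hiζ.symm a)
      have hdvd : z ∣ i + 1 := by
        rcases hz with ⟨-, rfl⟩ | ⟨-, rfl⟩
        · have h2 : (i : ZMod z) * i = 1 := by
            rw [← Nat.cast_mul, ← Nat.cast_one, ZMod.natCast_eq_natCast_iff]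
            exact hii
          rcases mul_self_eq_one_iff.1 h2 with h3 | h3
          · rw [← Nat.cast_one, ZMod.natCast_eq_natCast_iff, Nat.ModEq, Nat.mod_eq_of_lt hi,
              Nat.mod_eq_of_lt h.prime.one_lt] at h3
            exact absurd h3 hi1
          · rw [← ZMod.natCast_eq_zero_iff]
            push_cast
            rw [h3]
            ring
        · interval_cases i <;> simp_all [Nat.ModEq]
      rw [← hiζ, ← pow_succ']
      exact (hζF.pow_eq_one_iff_dvd _).2 hdvd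
    refine Or.inr (Or.inl ⟨σ, PrimeDim.stdForm B σ, PrimeDim.stdForm_unitary B σ hne hinv,
      PrimeDim.similarity_of_fixes (PrimeDim.stdForm_sesq B σ) hN habs ?_⟩)
    rintro _ ⟨g, hg, rfl⟩ u w
    obtain ⟨π, a, ha⟩ := hmono g hg
    refine PrimeDim.stdForm_monomial B σ ha (fun i => ?_) u w
    rw [map_pow, ← mul_pow, hσζ, one_pow]
  · -- the data
    have hdvd : z ∣ p ^ e - 1 := by
      rw [← hq, ← hord, ← Fintype.card_units]
      exact orderOf_dvd_card
    have hmine : ∀ d, 0 < d → d < e → ¬ z ∣ p ^ d - 1 := by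
      intro d hd hde hdn
      have hc : iterateFrobenius F p d ζ = ζ := by
        rw [iterateFrobenius_def, ← Nat.sub_add_cancel (Nat.one_le_pow d p hpp.pos), pow_succ,
          ← Units.val_pow_eq_pow_val]
        rw [← hord, orderOf_dvd_iff_pow_eq_one] at hdn
        rw [hdn, Units.val_one, one_mul]
      obtain ⟨g, hg⟩ := IsCyclic.exists_generator (α := Fˣ)
      have h1 := hfix _ hc g
      rw [iterateFrobenius_def, ← Units.val_pow_eq_pow_val] at h1
      have h1' : g ^ (p ^ d - 1) = 1 := by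
        have h' : g ^ p ^ d = g := Units.ext h1
        rw [← Nat.sub_add_cancel (Nat.one_le_pow d p hpp.pos), pow_succ] at h'
        exact mul_eq_right.1 h'
      have h2 := orderOf_dvd_of_pow_eq_one h1'
      rw [orderOf_eq_card_of_forall_mem_zpowers hg, Nat.card_units, Nat.card_eq_fintype_card, hq] at h2
      have hlt : p ^ d < p ^ e := Nat.pow_lt_pow_right hpp.one_lt hde
      have h3 : 1 < p ^ d := Nat.one_lt_pow hd.ne' hpp.one_lt
      have := Nat.le_of_dvd (by omega) h2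
      omega
    have hrp : r ≠ p := by
      rintro rfl
      have h1 : ((u₀ : F) - 1) ^ r = 0 := by
        rw [sub_pow_char, ← Units.val_pow_eq_pow_val, hu₀, Units.val_one, one_pow, sub_self]
      exact hu₁ (Units.ext (sub_eq_zero.1 (pow_eq_zero_iff h.prime.ne_zero |>.1 h1)))
    refine Or.inr (Or.inr (Or.inr (Or.inr ?_)))
    have hST := h.symplecticType (by omega)
    rcases hz with ⟨hodd, rfl⟩ | ⟨rfl, rfl⟩
    · have hc : Nat.card N = z ^ (1 + 2 * k) := by rw [hcard, hk]; ring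
      exact ⟨z, p, e, k, N, hN, hns, ⟨hST, habs, p, e, hrp, ⟨hpp, hp, hq, hcen.symm ▸ hdvd,
        fun d hd hde hh => hmine d hd hde (hcen ▸ hh)⟩, Or.inl ⟨hodd, he, hcen, k, hk1, hc⟩⟩,
        h.prime, hpp, hk, hk1, hp, hq, Or.inl ⟨hodd, he, hdvd, hmine, hc⟩⟩
    · have hc : Nat.card N = 2 ^ (2 + 2 * k) := by rw [hcard, hk]; ring
      have he1 : e = 1 := by
        by_contra hne
        have hop : Odd p := hpp.odd_of_ne_two (Ne.symm hrp)
        refine hmine 2 (by omega) (by obtain ⟨j, rfl⟩ := he; omega) ?_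
        obtain ⟨j, rfl⟩ := hop
        refine ⟨j * j + j, ?_⟩
        have : (2 * j + 1) ^ 2 = 4 * (j * j + j) + 1 := by ring
        omega
      subst he1
      have hp4 : p % 4 = 1 := by
        rw [pow_one] at hdvd
        have := hpp.two_le
        omega
      exact ⟨2, p, 1, k, N, hN, hns, ⟨hST, habs, p, 1, hrp, ⟨hpp, hp, hq, hcen.symm ▸ hdvd,
        fun d hd hde => absurd hde (by omega)⟩, Or.inr (Or.inl ⟨rfl, rfl, hcen, by
          rw [Fintype.card_fin, hk]
          have : 2 ^ 2 ≤ 2 ^ k := Nat.pow_le_pow_right two_pos (by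
            by_contra hlt
            obtain rfl : k = 1 := by omega
            omega)
          simpa using this, k, hc⟩)⟩,
        h.prime, hpp, hk, hk1, hp, hq, Or.inr ⟨rfl, rfl, hp4, hc⟩⟩

end CfsgLib.Asch
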