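import Cfsg.Agent.Lib.Classical.AschPerfect
import Cfsg.Agent.Lib.Classical.AschHeisCases

set_option autoImplicit false
set_option linter.unusedSectionVars false

/-!
Aschbacher's theorem for subgroups of the special linear group in any dimension at least three.
-/

namespace CfsgLib.Asch

open Matrix
open Cfsg.Geo (matrixSet scalars specialLinear ActsIrreducibly ActsAbsolutelyIrreducibly tensorProductSubgroup
  tensorWreathSubgroup IsFieldSubalgebra subalgebraNormalizer decompositionStabilizer IsMDecomposition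
  subspaceStabilizer)
open CfsgLib.PrimeDim (Inv Nml)
open scoped MatrixGroups Kronecker

variable {F : Type*} [Field F] {n : ℕ}

/-- `H` fixes a proper non-zero subspace. -/
def ReducibleCase (H : Subgroup (GL (Fin n) F)) : Prop :=
  ∃ W : Submodule F (Fin n → F), W ≠ ⊥ ∧ W ≠ ⊤ ∧ H ≤ subspaceStabilizer W

/-- `H` permutes the members of a decomposition. -/
def DecompCase (H : Subgroup (GL (Fin n) F)) : Prop :=
  ∃ (t m : ℕ) (D : Fin t → Submodule F (Fin n → F)), t * m = n ∧ IsMDecomposition m D ∧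
    H ≤ decompositionStabilizer D

/-- `H` normalises a field of prime degree. -/
def FieldExtCase (H : Subgroup (GL (Fin n) F)) : Prop :=
  ∃ (r : ℕ) (K : Subalgebra F (Matrix (Fin n) (Fin n) F)), r.Prime ∧ r ∣ n ∧ IsFieldSubalgebra r K ∧
    H ≤ subalgebraNormalizer K

/-- `H` lies in the stabiliser of a tensor decomposition with factors of different dimensions. -/
def TensorCase (H : Subgroup (GL (Fin n) F)) : Prop :=
  ∃ (m t : ℕ) (e : Fin n ≃ Fin m × Fin t) (P : GL (Fin n) F), 2 ≤ m ∧ m < t ∧ m * t = n ∧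
    H ≤ tensorProductSubgroup m t e P

theorem mdecomp_card {t m : ℕ} {D : Fin t → Submodule F (Fin n → F)} (h : IsMDecomposition m D) : t * m = n := by
  classical
  have hint : DirectSum.IsInternal D :=
    DirectSum.isInternal_submodule_of_iSupIndep_of_iSup_eq_top h.indep h.iSup_eq_top
  have e := Module.finrank_eq_card_basis (hint.collectedBasis fun i => Module.finBasis F (D i))
  rw [Module.finrank_fin_fun, Fintype.card_sigma] at e
  simpa [h.finrank_eq] using e.symm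

/-- The degree of a field of matrices divides the dimension. -/
theorem field_degree_dvd [Finite F] {r : ℕ} (hr : r ≠ 0) {K : Subalgebra F (Matrix (Fin n) (Fin n) F)}
    (hK : IsFieldSubalgebra r K) : r ∣ n := by
  have hnt : Nontrivial K := by
    have : 0 < Module.finrank F K := by rw [hK.finrank_eq]; omega
    exact Module.finrank_pos_iff.1 this
  have hF : IsField K := ⟨hnt.exists_pair_ne, fun a b => Subtype.ext (hK.comm a a.2 b b.2), fun {a} ha => by
    obtain ⟨b, hb, hab⟩ := hK.inv a a.2 fun e => ha (Subtype.ext e)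
    exact ⟨⟨b, hb⟩, Subtype.ext hab⟩⟩
  letI : Field K := hF.toField
  letI : Module K (Fin n → F) :=
    { smul := fun k v => (k : Matrix (Fin n) (Fin n) F) *ᵥ v
      one_smul := fun v => one_mulVec v
      mul_smul := fun a b v => (mulVec_mulVec v (a : Matrix (Fin n) (Fin n) F) (b : Matrix (Fin n) (Fin n) F)).symm
      smul_zero := fun a => mulVec_zero _
      smul_add := fun a v w => mulVec_add _ v w
      add_smul := fun a b v => add_mulVec _ _ v
      zero_smul := fun v => zero_mulVec v }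
  haveI : IsScalarTower F K (Fin n → F) := ⟨fun c k v => smul_mulVec c (k : Matrix (Fin n) (Fin n) F) v⟩
  haveI : Module.Free K (Fin n → F) := Module.Free.of_divisionRing K (Fin n → F)
  refine ⟨Module.finrank K (Fin n → F), ?_⟩
  rw [← hK.finrank_eq, Module.finrank_mul_finrank F K (Fin n → F), Module.finrank_fin_fun]

theorem reducible_of_not_irreducible {H : Subgroup (GL (Fin n) F)} (h : ¬ ActsIrreducibly (matrixSet H)) :
    ReducibleCase H := by
  rw [PrimeDim.irreducible_iff] at h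
  push Not at h
  obtain ⟨W, hW, hW0, hW1⟩ := h
  refine ⟨W, hW0, hW1, fun g hg v => ⟨fun hv => hW _ ⟨g, hg, rfl⟩ v hv, fun hv => ?_⟩⟩
  have := hW _ ⟨g⁻¹, inv_mem hg, rfl⟩ _ hv
  change (↑g⁻¹ : Matrix (Fin n) (Fin n) F) *ᵥ ((g : Matrix (Fin n) (Fin n) F) *ᵥ v) ∈ W at this
  rwa [PrimeDim.inv_mulVec_cancel] at this

theorem coord_prodComm {m t : ℕ} (e : Fin n ≃ Fin m × Fin t) (P : GL (Fin n) F) (x : Matrix (Fin n) (Fin n) F)
    (A : Matrix (Fin m) (Fin m) F) (C : Matrix (Fin t) (Fin t) F) (h : coord e P x = A ⊗ₖ C) :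
    coord (e.trans (Equiv.prodComm _ _)) P x = C ⊗ₖ A := by
  ext p q
  have := congrFun (congrFun h (p.2, p.1)) (q.2, q.1)
  simp only [coord, Matrix.submatrix_apply, Matrix.kroneckerMap_apply] at this ⊢
  simpa [mul_comm, Prod.swap] using this

/-- A tensor decomposition gives one of the classes. -/
theorem tensor_cases [Fintype F] {H N : Subgroup (GL (Fin n) F)} {m t : ℕ} {ρ : N → Matrix (Fin m) (Fin m) F}
    {e : Fin n ≃ Fin m × Fin t} {P : GL (Fin n) F} (hm : 2 ≤ m) (ht : 2 ≤ t)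
    (h : TensorData H N m t ρ e P) : TensorCase H ∨ WreathCase H ∨ SympCase H ∨ QuadCase H := by
  classical
  have hn : m * t = n := by simpa using (Fintype.card_congr e).symm
  rcases lt_trichotomy m t with hlt | rfl | hgt
  · exact Or.inl ⟨m, t, e, P, hm, hlt, hn, h.le⟩
  · let e₂ : Fin n ≃ (Fin 2 → Fin m) := e.trans (finTwoArrowEquiv (Fin m)).symm
    have hle : H ≤ tensorWreathSubgroup m 2 e₂ P := by
      intro g hg
      obtain ⟨A, C, hgc⟩ := h.2.2 g hg
      refine mem_tensorWreath (gs := ![A, C]) (σ := 1) ?_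
      rw [permMat_one, mul_one]
      ext x y
      have := congrFun (congrFun hgc (x 0, x 1)) (y 0, y 1)
      simp only [coord, Matrix.submatrix_apply, Matrix.kroneckerMap_apply] at this
      simpa [tcoord, e₂, pureMat_apply, Fin.prod_univ_two] using this
    by_cases hm3 : 3 ≤ m
    · exact Or.inr (Or.inl ⟨m, 2, e₂, P, hm3, le_rfl, by rw [← hn, pow_two], hle⟩)
    · obtain rfl : m = 2 := by omega
      exact Or.inr (Or.inr (wreath_two_form one_le_two hle))
  · refine Or.inl ⟨t, m, e.trans (Equiv.prodComm _ _), P, ht, hgt, by rw [mul_comm]; exact hn, fun g hg => ?_⟩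
    obtain ⟨A, C, hgc⟩ := h.2.2 g hg
    exact mem_tensor (A := C) (C := A) (coord_prodComm e P _ _ _ hgc)

/-- Aschbacher's theorem for the special linear group. -/
theorem linear_structure [Fintype F] (hn : 3 ≤ n) {H : Subgroup (GL (Fin n) F)}
    (hH : H ≤ specialLinear (Fin n) F) :
    ReducibleCase H ∨ DecompCase H ∨ FieldExtCase H ∨ TensorCase H ∨ SubfieldCase H ∨ SympTypeCase H ∨
      WreathCase H ∨ SympCase H ∨ UnitaryCase H ∨ QuadCase H ∨ Cfsg.Geo.InLinearResidualClass H := by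
  classical
  haveI : Finite (GL (Fin n) F) := Finite.of_injective _ Units.val_injective
  by_cases hirr : ActsIrreducibly (matrixSet H)
  swap
  · exact Or.inl (reducible_of_not_irreducible hirr)
  right
  by_cases hall : ∀ K, Nml H K → K ≤ scalars (Fin n) F ∨ ActsAbsolutelyIrreducibly (matrixSet K)
  swap
  · push Not at hall
    obtain ⟨K, hK, hKs, hKa⟩ := hall
    rcases clifford_cases (by omega) hirr hK with h | ⟨t, m, D, hD, hle, -⟩ | ⟨d, L, hd, hL⟩ |
      ⟨m, t, ρ, e, P, hm, ht, hT⟩ | h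
    · exact absurd h hKs
    · exact Or.inl ⟨t, m, D, mdecomp_card hD, hD, hle⟩
    · obtain ⟨r, hr, hrd⟩ := Nat.exists_prime_and_dvd (n := d) (by omega)
      obtain ⟨L', -, hL', hle⟩ := exists_subfield_degree hrd (by omega) hL.1
      exact Or.inr (Or.inl ⟨r, L', hr, field_degree_dvd hr.ne_zero hL', hL', hL.2.1.trans hle⟩)
    · rcases tensor_cases hm ht hT with h | h | h | h
      · exact Or.inr (Or.inr (Or.inl h))
      · exact Or.inr (Or.inr (Or.inr (Or.inr (Or.inr (Or.inl h)))))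
      · exact Or.inr (Or.inr (Or.inr (Or.inr (Or.inr (Or.inr (Or.inl h))))))
      · exact Or.inr (Or.inr (Or.inr (Or.inr (Or.inr (Or.inr (Or.inr (Or.inr (Or.inl h))))))))
    · exact absurd h hKa
  obtain ⟨N, ⟨hN, hNns⟩, hmin⟩ := (wellFounded_lt (α := Subgroup (GL (Fin n) F))).has_min
    {K | Nml H K ∧ ¬ K ≤ scalars (Fin n) F} ⟨H, Nml.self H, not_le_scalars (by omega) hirr⟩
  have hmin' : ∀ K, Nml H K → K ≤ N → K ≤ scalars (Fin n) F ∨ K = N := fun K hK hle => by
    by_cases hs : K ≤ scalars (Fin n) F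
    · exact Or.inl hs
    · exact Or.inr (eq_of_le_of_not_lt hle fun hlt => hmin K ⟨hK, hs⟩ hlt)
  have habs := (hall N hN).resolve_left hNns
  rcases hmin' _ (nml_commutator hN) (commutator_le_self N) with h | h
  · rcases heis_cases hn hH hN habs hNns hmin' h with h | h | h | h | h
    · exact Or.inr (Or.inr (Or.inr (Or.inl h)))
    · exact Or.inr (Or.inr (Or.inr (Or.inr (Or.inr (Or.inr (Or.inr (Or.inl h)))))))
    · exact Or.inr (Or.inr (Or.inr (Or.inr (Or.inr (Or.inr (Or.inl h))))))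
    · exact Or.inr (Or.inr (Or.inr (Or.inr (Or.inr (Or.inr (Or.inr (Or.inr (Or.inl h))))))))
    · exact Or.inr (Or.inr (Or.inr (Or.inr (Or.inl h))))
  · rcases perfect_cases hn hN habs hNns hmin' h with h | h | h | h | h | h
    · exact Or.inr (Or.inr (Or.inr (Or.inl h)))
    · exact Or.inr (Or.inr (Or.inr (Or.inr (Or.inr (Or.inr (Or.inr (Or.inl h)))))))
    · exact Or.inr (Or.inr (Or.inr (Or.inr (Or.inr (Or.inr (Or.inl h))))))
    · exact Or.inr (Or.inr (Or.inr (Or.inr (Or.inr (Or.inr (Or.inr (Or.inr (Or.inl h))))))))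
    · exact Or.inr (Or.inr (Or.inr (Or.inr (Or.inr (Or.inl h)))))
    · exact Or.inr (Or.inr (Or.inr (Or.inr (Or.inr (Or.inr (Or.inr (Or.inr (Or.inr h))))))))

/-- The classes, as a union. -/
theorem linear_classes [Fintype F] (hn : 3 ≤ n) {H : Subgroup (GL (Fin n) F)}
    (hH : H ≤ specialLinear (Fin n) F) :
    (∃ M : Subgroup (GL (Fin n) F), Cfsg.Geo.InLinearClass n F M ∧ H ≤ M) ∨
      Cfsg.Geo.InLinearResidualClass H := by
  rcases linear_structure hn hH with ⟨W, h0, h1, hle⟩ | ⟨t, m, D, -, hD, hle⟩ | ⟨r, K, hr, -, hK, hle⟩ |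
    ⟨m, t, e, P, hm, hlt, -, hle⟩ | ⟨F₀, r, P, hr, -, hcard, hle⟩ | h | ⟨m, t, e, P, hm, ht, -, hle⟩ |
    ⟨f, hf, hev, hle⟩ | ⟨σ, f, hf, hle⟩ | ⟨Q, hQ, hodd, hle⟩ | h
  · exact Or.inl ⟨_, Or.inl ⟨W, h0, h1, rfl⟩, hle⟩
  · exact Or.inl ⟨_, Or.inr (Or.inr (Or.inr (Or.inl ⟨t, m, D, hD, rfl⟩))), hle⟩
  · exact Or.inl ⟨_, Or.inr (Or.inr (Or.inr (Or.inr (Or.inl ⟨r, K, hr, hK, rfl⟩)))), hle⟩
  · exact Or.inl ⟨_, Or.inr (Or.inr (Or.inr (Or.inr (Or.inr (Or.inl ⟨m, t, e, P, hm, hlt, rfl⟩))))), hle⟩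
  · exact Or.inl ⟨_, Or.inr (Or.inr (Or.inr (Or.inr (Or.inr (Or.inr (Or.inl ⟨F₀, r, P, hr, hcard, rfl⟩)))))), hle⟩
  · obtain ⟨r, R, hR, hle⟩ := h.le
    exact Or.inl ⟨_, Or.inr (Or.inr (Or.inr (Or.inr (Or.inr (Or.inr (Or.inr (Or.inl ⟨r, R, hR, rfl⟩))))))), hle⟩
  · exact Or.inl ⟨_, Or.inr (Or.inr (Or.inr (Or.inr (Or.inr (Or.inr (Or.inr (Or.inr
      (Or.inl ⟨m, t, e, P, hm, ht, rfl⟩)))))))), hle⟩
  · refine Or.inl ⟨_, Or.inr (Or.inr (Or.inr (Or.inr (Or.inr (Or.inr (Or.inr (Or.inr (Or.inr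
      (Or.inl ⟨f, hf, hev, ?_, rfl⟩))))))))), hle⟩
    obtain ⟨k, rfl⟩ := hev
    omega
  · exact Or.inl ⟨_, Or.inr (Or.inr (Or.inr (Or.inr (Or.inr (Or.inr (Or.inr (Or.inr (Or.inr (Or.inr
      (Or.inl ⟨σ, f, hf, hn, rfl⟩)))))))))), hle⟩
  · exact Or.inl ⟨_, Or.inr (Or.inr (Or.inr (Or.inr (Or.inr (Or.inr (Or.inr (Or.inr (Or.inr (Or.inr (Or.inr
      ⟨Q, hQ, hodd, hn, rfl⟩)))))))))), hle⟩
  · exact Or.inr h

end CfsgLib.Asch
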