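import Cfsg.Agent.Lib.Classical.AschFour

set_option autoImplicit false
set_option linter.unusedSectionVars false

/-!
The classes of maximal subgroups of the special linear group in a given dimension.
-/

namespace CfsgLib.Asch

open Matrix
open Cfsg.Geo (specialLinear subspaceStabilizer decompositionStabilizer IsMDecomposition IsFieldSubalgebra
  subalgebraNormalizer tensorProductSubgroup tensorWreathSubgroup scalars)
open CfsgLib.PrimeDim (Nml)
open scoped MatrixGroups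

variable {F : Type*} [Field F] {n : ℕ}

/-- The data of a maximal group of symplectic type, for the powers `4`, `8`, `9`. -/
theorem sympType_eq [Fintype F] {H : Subgroup (GL (Fin n) F)} (hn : n = 4 ∨ n = 8 ∨ n = 9)
    (key : ∀ M : Subgroup (GL (Fin n) F), H ≤ M → ¬ specialLinear (Fin n) F ≤ M →
      H = M ⊓ specialLinear (Fin n) F) (h : SympTypeCase H) :
    ∃ (p : ℕ) (R : Subgroup (GL (Fin n) F)), p.Prime ∧ Fintype.card F = p ∧
      (n = 9 → p % 3 = 1 ∧ Cfsg.Geo.IsLinearSymplecticTypeData 3 R) ∧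
      (n ≠ 9 → p % 4 = 1 ∧ Cfsg.Geo.IsLinearSymplecticTypeData 2 R) ∧
      H = Cfsg.Geo.subgroupNormalizer R ⊓ specialLinear (Fin n) F := by
  obtain ⟨r, p, e, k, R, hN, hns, hR, hr, hp, hk, hk1, -, hq, hcase⟩ := h
  have hle : H ≤ Cfsg.Geo.subgroupNormalizer R := fun g hg => Subgroup.mem_normalizer_iff.2 fun z =>
    ⟨fun hz => hN.conj g hg z hz, fun hz => by
      have := hN.conj' hg hz
      simpa [mul_assoc] using this⟩
  have hr23 : (n = 9 → r = 3 ∧ k = 2) ∧ (n = 8 → r = 2 ∧ k = 3) ∧ (n = 4 → r = 2 ∧ k = 2) := by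
    have hdvd : r ∣ n := hk ▸ dvd_pow_self r (by omega)
    have hk' : ∀ a b : ℕ, 2 ≤ a → n = a ^ b → r = a → k = b := by
      intro a b ha hn' hra
      subst hra
      exact Nat.pow_right_injective ha (hk.symm.trans hn')
    refine ⟨fun h => ?_, fun h => ?_, fun h => ?_⟩ <;> subst h
    · have : r ∣ 3 ^ 2 := hdvd
      have hr3 := (Nat.prime_dvd_prime_iff_eq hr Nat.prime_three).1 (hr.dvd_of_dvd_pow this)
      exact ⟨hr3, hk' 3 2 (by norm_num) rfl hr3⟩
    · have : r ∣ 2 ^ 3 := hdvd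
      have hr2 := (Nat.prime_dvd_prime_iff_eq hr Nat.prime_two).1 (hr.dvd_of_dvd_pow this)
      exact ⟨hr2, hk' 2 3 le_rfl rfl hr2⟩
    · have : r ∣ 2 ^ 2 := hdvd
      have hr2 := (Nat.prime_dvd_prime_iff_eq hr Nat.prime_two).1 (hr.dvd_of_dvd_pow this)
      exact ⟨hr2, hk' 2 2 le_rfl rfl hr2⟩
  rcases hcase with ⟨hodd, he, hdvd, hmin, hcard⟩ | ⟨hr2, he, hp4, hcard⟩
  · have hn9 : n = 9 := by
      rcases hn with h | h | h
      · exact absurd (hr23.2.2 h).1 (fun e' => by subst e'; exact absurd hodd (by decide))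
      · exact absurd (hr23.2.1 h).1 (fun e' => by subst e'; exact absurd hodd (by decide))
      · exact h
    obtain ⟨rfl, rfl⟩ := hr23.1 hn9
    have hp3 : p % 3 ≠ 0 := fun h0 => by
      have h3 : 3 ∣ p := Nat.dvd_of_mod_eq_zero h0
      have hp' := (Nat.prime_dvd_prime_iff_eq Nat.prime_three hp).1 h3
      have h1 : 3 ∣ p ^ e := h3.trans (dvd_pow_self p he.pos.ne')
      have h2 : 1 ≤ p ^ e := Nat.one_le_pow _ _ hp.pos
      omega
    have he1 : e = 1 := by
      by_contra hne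
      have h2 : 2 < e := by
        obtain ⟨j, rfl⟩ := he
        omega
      refine hmin 2 two_pos h2 ?_
      have h1 : p ^ 2 % 3 = 1 := by
        rw [Nat.pow_mod]
        have : p % 3 = 1 ∨ p % 3 = 2 := by omega
        rcases this with h | h <;> rw [h] <;> rfl
      omega
    subst he1
    rw [pow_one] at hdvd hq
    have hp1 : p % 3 = 1 := by
      have := hp.two_le
      omega
    refine ⟨p, R, hp, hq, fun _ => ⟨hp1, hR⟩, fun h => absurd hn9 h, key _ hle ?_⟩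
    refine PrimeDim.not_le_subgroupNormalizer (by omega) hns hcard ?_
    rw [hq, hn9]
    have h7 : 4 ≤ p := by
      have := hp.two_le
      omega
    calc 3 ^ (1 + 2 * 2) < 4 ^ (9 - 1) := by norm_num
      _ ≤ _ := Nat.pow_le_pow_left h7 _
  · subst hr2 he
    rw [pow_one] at hq
    have hn9 : n ≠ 9 := fun h => absurd (hr23.1 h).1 (by norm_num)
    have h5 : 5 ≤ p := by
      have := hp.two_le
      rcases Nat.lt_or_ge p 5 with h | h
      · omega
      · exact h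
    refine ⟨p, R, hp, hq, fun h => absurd h hn9, fun _ => ⟨hp4, hR⟩, key _ hle ?_⟩
    refine PrimeDim.not_le_subgroupNormalizer (by omega) hns hcard ?_
    rw [hq]
    rcases hn with rfl | rfl | rfl
    · obtain ⟨-, rfl⟩ := hr23.2.2 rfl
      calc 2 ^ (2 + 2 * 2) < 5 ^ (4 - 1) := by norm_num
        _ ≤ _ := Nat.pow_le_pow_left h5 _
    · obtain ⟨-, rfl⟩ := hr23.2.1 rfl
      calc 2 ^ (2 + 2 * 3) < 5 ^ (8 - 1) := by norm_num
        _ ≤ _ := Nat.pow_le_pow_left h5 _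
    · exact absurd rfl hn9

theorem prime_power_card [Fintype F] : IsPrimePow (Fintype.card F) := Fintype.isPrimePow_card_of_field

/-- Every maximal subgroup of the special linear group is of one of these kinds. -/
theorem maximal_cases [Fintype F] (hn : 3 ≤ n) {H : Subgroup (GL (Fin n) F)}
    (hH : Cfsg.Geo.IsMaximalIn (specialLinear (Fin n) F) H) :
    (∃ W : Submodule F (Fin n → F), W ≠ ⊥ ∧ W ≠ ⊤ ∧ H = subspaceStabilizer W ⊓ specialLinear (Fin n) F) ∨
    (∃ (t m : ℕ) (D : Fin t → Submodule F (Fin n → F)), 2 ≤ t ∧ t * m = n ∧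
      (m = 1 → 5 ≤ Fintype.card F) ∧ (m = 1 → n = 4 → 7 ≤ Fintype.card F) ∧ (m = 2 → 3 ≤ Fintype.card F) ∧
      (m = 2 → t = 2 → 4 ≤ Fintype.card F) ∧ IsMDecomposition m D ∧
      H = decompositionStabilizer D ⊓ specialLinear (Fin n) F) ∨
    (∃ (r : ℕ) (K : Subalgebra F (Matrix (Fin n) (Fin n) F)), r.Prime ∧ r ∣ n ∧ IsFieldSubalgebra r K ∧
      H = subalgebraNormalizer K ⊓ specialLinear (Fin n) F) ∨
    (∃ (m t : ℕ) (e : Fin n ≃ Fin m × Fin t) (P : GL (Fin n) F), 2 ≤ m ∧ m < t ∧ m * t = n ∧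
      (m = 2 → 3 ≤ Fintype.card F) ∧ H = tensorProductSubgroup m t e P ⊓ specialLinear (Fin n) F) ∨
    (∃ (F₀ : Subfield F) (r : ℕ) (P : GL (Fin n) F), r.Prime ∧ Fintype.card F = Nat.card F₀ ^ r ∧
      H = Cfsg.Geo.subfieldSubgroup F₀ P ⊓ specialLinear (Fin n) F) ∨
    SympTypeCase H ∨
    (∃ (m t : ℕ) (e : Fin n ≃ (Fin t → Fin m)) (P : GL (Fin n) F), 3 ≤ m ∧ 2 ≤ t ∧ m ^ t = n ∧
      H = tensorWreathSubgroup m t e P ⊓ specialLinear (Fin n) F) ∨
    (∃ f : (Fin n → F) → (Fin n → F) → F, Cfsg.Geo.IsSymplecticForm f ∧ Even n ∧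
      H = Cfsg.Geo.similarityGroup f ⊓ specialLinear (Fin n) F) ∨
    (∃ (σ : F ≃+* F) (f : (Fin n → F) → (Fin n → F) → F), Cfsg.Geo.IsUnitaryForm σ f ∧
      H = Cfsg.Geo.similarityGroup f ⊓ specialLinear (Fin n) F) ∨
    (Odd (Fintype.card F) ∧ ∃ Q : (Fin n → F) → F, Cfsg.Geo.IsNondegenerateQuadraticForm Q ∧
      H = Cfsg.Geo.quadSimilarityGroup Q ⊓ specialLinear (Fin n) F) ∨
    Cfsg.Geo.InLinearResidualClass H := by
  classical
  have hHS : H ≤ specialLinear (Fin n) F := hH.1.le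
  have key : ∀ M : Subgroup (GL (Fin n) F), H ≤ M → ¬ specialLinear (Fin n) F ≤ M →
      H = M ⊓ specialLinear (Fin n) F := by
    intro M hle hnot
    rcases hH.2 (M ⊓ specialLinear (Fin n) F) (le_inf hle hHS) inf_le_right with h | h
    · exact h.symm
    · exact absurd (h.symm.le.trans inf_le_left) hnot
  have hsymp : SympCase H → ∃ f : (Fin n → F) → (Fin n → F) → F, Cfsg.Geo.IsSymplecticForm f ∧ Even n ∧
      H = Cfsg.Geo.similarityGroup f ⊓ specialLinear (Fin n) F := fun ⟨f, hf, hev, hle⟩ =>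
    ⟨f, hf, hev, key _ hle (sl_not_le_symp hn hf)⟩
  have hunit : UnitaryCase H → ∃ (σ : F ≃+* F) (f : (Fin n → F) → (Fin n → F) → F),
      Cfsg.Geo.IsUnitaryForm σ f ∧ H = Cfsg.Geo.similarityGroup f ⊓ specialLinear (Fin n) F :=
    fun ⟨σ, f, hf, hle⟩ => ⟨σ, f, hf, key _ hle (PrimeDim.not_le_similarity_unitary hn hf)⟩
  have hquad : QuadCase H → Odd (Fintype.card F) ∧ ∃ Q : (Fin n → F) → F,
      Cfsg.Geo.IsNondegenerateQuadraticForm Q ∧ H = Cfsg.Geo.quadSimilarityGroup Q ⊓ specialLinear (Fin n) F :=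
    fun ⟨Q, hQ, hodd, hle⟩ => ⟨hodd, Q, hQ, key _ hle (PrimeDim.not_le_quadSimilarity hn hodd hQ)⟩
  have hfieldExt : FieldExtCase H → ∃ (r : ℕ) (K : Subalgebra F (Matrix (Fin n) (Fin n) F)), r.Prime ∧ r ∣ n ∧
      IsFieldSubalgebra r K ∧ H = subalgebraNormalizer K ⊓ specialLinear (Fin n) F :=
    fun ⟨r, K, hr, hrn, hK, hle⟩ => ⟨r, K, hr, hrn, hK, key _ hle (sl_not_le_normalizer hn hr.two_le hK)⟩
  by_cases hirr : Cfsg.Geo.ActsIrreducibly (Cfsg.Geo.matrixSet H)
  swap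
  · obtain ⟨W, h0, h1, hle⟩ := reducible_of_not_irreducible hirr
    refine Or.inl ⟨W, h0, h1, key _ hle fun hle' => ?_⟩
    obtain ⟨g, hg⟩ := CfsgLib.Classical.MinIndex.exists_notMem_stab h0 h1
    exact hg ((CfsgLib.Classical.MinIndex.mem_subspaceStabilizer_iff W g).1
      (hle' (CfsgLib.Classical.MinIndex.mem_specialLinear.2 ⟨g, rfl⟩)))
  rcases linear_structure hn hHS with ⟨W, h0, h1, hle⟩ | ⟨t, m, D, htm, hD, hle⟩ | h |
    ⟨m, t, e, P, hm, hlt, hmt, hle⟩ | ⟨F₀, r, P, hr, hne, hcard, hle⟩ | h | ⟨m, t, e, P, hm, ht, hmt, hle⟩ |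
    h | h | h | h
  · refine Or.inl ⟨W, h0, h1, key _ hle fun hle' => ?_⟩
    obtain ⟨g, hg⟩ := CfsgLib.Classical.MinIndex.exists_notMem_stab h0 h1
    exact hg ((CfsgLib.Classical.MinIndex.mem_subspaceStabilizer_iff W g).1
      (hle' (CfsgLib.Classical.MinIndex.mem_specialLinear.2 ⟨g, rfl⟩)))
  · by_cases hsmall1 : m = 1 ∧ Fintype.card F ≤ 4
    · obtain ⟨rfl, hq⟩ := hsmall1
      obtain rfl : t = n := by omega
      rcases lines_form hn hirr hD hle hq with h | h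
      · exact Or.inr (Or.inr (Or.inr (Or.inr (Or.inr (Or.inr (Or.inr (Or.inr (Or.inr (Or.inl (hquad h))))))))))
      · exact Or.inr (Or.inr (Or.inr (Or.inr (Or.inr (Or.inr (Or.inr (Or.inr (Or.inl (hunit h)))))))))
    by_cases hsmall2 : m = 2 ∧ (Fintype.card F = 2 ∨ (Fintype.card F = 3 ∧ t = 2))
    · obtain ⟨rfl, hq⟩ := hsmall2
      exact Or.inr (Or.inr (Or.inr (Or.inr (Or.inr (Or.inr (Or.inr (Or.inl (hsymp (planes_symp hHS hD hle hq)))))))))
    refine Or.inr (Or.inl ⟨t, m, D, hD.two_le, htm, fun h => ?_, fun h h4 => ?_, fun h => ?_, fun h h' => ?_, hD,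
      key _ hle (sl_not_le_decomposition hD)⟩)
    · by_contra hlt
      exact hsmall1 ⟨h, by omega⟩
    · subst h h4
      obtain rfl : t = 4 := by omega
      by_contra hlt
      have h5 : 5 ≤ Fintype.card F := by
        by_contra hlt'
        exact hsmall1 ⟨rfl, by omega⟩
      rcases (show Fintype.card F = 5 ∨ Fintype.card F = 6 by omega) with hq | hq
      · exact Four.not_maximal hq hH hD hle
      · have hpp := prime_power_card (F := F)
        rw [hq, isPrimePow_nat_iff] at hpp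
        obtain ⟨p, j, hp, hj, hpj⟩ := hpp
        have h2 : 2 ∣ p ^ j := hpj.symm ▸ (by norm_num)
        have h3 : 3 ∣ p ^ j := hpj.symm ▸ (by norm_num)
        have e2 := (Nat.prime_dvd_prime_iff_eq Nat.prime_two hp).1 (Nat.prime_two.dvd_of_dvd_pow h2)
        have e3 := (Nat.prime_dvd_prime_iff_eq Nat.prime_three hp).1 (Nat.prime_three.dvd_of_dvd_pow h3)
        omega
    · have : 2 ≤ Fintype.card F := Fintype.one_lt_card
      by_contra hlt
      exact hsmall2 ⟨h, Or.inl (by omega)⟩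
    · have : 2 ≤ Fintype.card F := Fintype.one_lt_card
      by_contra hlt
      rcases (show Fintype.card F = 2 ∨ Fintype.card F = 3 by omega) with hq | hq
      · exact hsmall2 ⟨h, Or.inl hq⟩
      · exact hsmall2 ⟨h, Or.inr ⟨hq, h'⟩⟩
  · exact Or.inr (Or.inr (Or.inl (hfieldExt h)))
  · by_cases hsmall : m = 2 ∧ Fintype.card F = 2
    · obtain ⟨rfl, hq⟩ := hsmall
      exact Or.inr (Or.inr (Or.inl (hfieldExt (tensor_two_field hq (by omega) hle))))
    refine Or.inr (Or.inr (Or.inr (Or.inl ⟨m, t, e, P, hm, hlt, hmt, fun h => ?_,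
      key _ hle (sl_not_le_tensor hm (by omega) e P)⟩)))
    have : 2 ≤ Fintype.card F := Fintype.one_lt_card
    by_contra hlt'
    exact hsmall ⟨h, by omega⟩
  · exact Or.inr (Or.inr (Or.inr (Or.inr (Or.inl
      ⟨F₀, r, P, hr, hcard, key _ hle (PrimeDim.not_le_subfield (by omega) hne P)⟩))))
  · exact Or.inr (Or.inr (Or.inr (Or.inr (Or.inr (Or.inl h)))))
  · exact Or.inr (Or.inr (Or.inr (Or.inr (Or.inr (Or.inr (Or.inl
      ⟨m, t, e, P, hm, ht, hmt, key _ hle (sl_not_le_wreath (by omega) ht e P)⟩))))))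
  · exact Or.inr (Or.inr (Or.inr (Or.inr (Or.inr (Or.inr (Or.inr (Or.inl (hsymp h))))))))
  · exact Or.inr (Or.inr (Or.inr (Or.inr (Or.inr (Or.inr (Or.inr (Or.inr (Or.inl (hunit h)))))))))
  · exact Or.inr (Or.inr (Or.inr (Or.inr (Or.inr (Or.inr (Or.inr (Or.inr (Or.inr (Or.inl (hquad h))))))))))
  · exact Or.inr (Or.inr (Or.inr (Or.inr (Or.inr (Or.inr (Or.inr (Or.inr (Or.inr (Or.inr h)))))))))

theorem key_of_maximal [Fintype F] {H : Subgroup (GL (Fin n) F)}
    (hH : Cfsg.Geo.IsMaximalIn (specialLinear (Fin n) F) H) (M : Subgroup (GL (Fin n) F)) (hle : H ≤ M)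
    (hnot : ¬ specialLinear (Fin n) F ≤ M) : H = M ⊓ specialLinear (Fin n) F := by
  rcases hH.2 (M ⊓ specialLinear (Fin n) F) (le_inf hle hH.1.le) inf_le_right with h | h
  · exact h.symm
  · exact absurd (h.symm.le.trans inf_le_left) hnot

end CfsgLib.Asch
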