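import Cfsg.Agent.Lib.Classical.AschMaximal

set_option autoImplicit false

/-!
Dimensions without symplectic type groups or tensor powers.
-/

namespace CfsgLib.Asch

open scoped MatrixGroups

variable {F : Type*} [Field F] {n : ℕ}

theorem not_sympType [Fintype F] (h6 : n = 6 ∨ n = 10 ∨ n = 12) (hn : 2 ≤ n) {H : Subgroup (GL (Fin n) F)}
    (h : SympTypeCase H) : False := by
  obtain ⟨r, p, e, k, R, -, -, -, hr, -, hk, -, -⟩ := h
  have hpp : ∀ q, q.Prime → q ∣ n → q = r := fun q hq hqn =>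
    (Nat.prime_dvd_prime_iff_eq hq hr).1 (hq.dvd_of_dvd_pow (hk ▸ hqn : q ∣ r ^ k))
  rcases h6 with rfl | rfl | rfl
  · exact absurd ((hpp 2 Nat.prime_two (by norm_num)).trans (hpp 3 Nat.prime_three (by norm_num)).symm) (by norm_num)
  · exact absurd ((hpp 2 Nat.prime_two (by norm_num)).trans (hpp 5 (by norm_num) (by norm_num)).symm) (by norm_num)
  · exact absurd ((hpp 2 Nat.prime_two (by norm_num)).trans (hpp 3 Nat.prime_three (by norm_num)).symm) (by norm_num)

theorem not_wreath {m t : ℕ} (h9 : n ≠ 9) (hn : n < 16) (hm : 3 ≤ m) (ht : 2 ≤ t) (h : m ^ t = n) : False := by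
  have h1 : m ^ 2 ≤ m ^ t := Nat.pow_le_pow_right (by omega) ht
  have hm3 : m = 3 := by
    by_contra hne
    have : 4 ^ 2 ≤ m ^ 2 := Nat.pow_le_pow_left (by omega) 2
    omega
  subst hm3
  have : t = 2 := by
    by_contra hne
    have : 3 ^ 3 ≤ 3 ^ t := Nat.pow_le_pow_right (by omega) (by omega)
    omega
  subst this
  exact h9 (by omega)

end CfsgLib.Asch
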