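import Cfsg.Agent.Lib.Classical.MonomialBase

set_option autoImplicit false
set_option linter.unusedSectionVars false

/-!
The monomial subgroup of `SL(ι, F)` is maximal for `|F| ≥ 5` and dimension at least six.
-/

namespace CfsgLib.Classical.MonMax

open Matrix CfsgLib.Classical.SLMon
open scoped MatrixGroups

variable {ι F : Type*} [Fintype ι] [DecidableEq ι] [Field F] [Fintype F] [DecidableEq F]
variable {K : Subgroup (SpecialLinearGroup ι F)}

theorem mul_inv_val (g : SpecialLinearGroup ι F) : g.1 * (g⁻¹).1 = 1 :=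
  congrArg Subtype.val (mul_inv_cancel g)

theorem inv_mul_val (g : SpecialLinearGroup ι F) : (g⁻¹).1 * g.1 = 1 :=
  congrArg Subtype.val (inv_mul_cancel g)

theorem perm_unique {g : SpecialLinearGroup ι F} {τ σ : Equiv.Perm ι}
    (hτ : ∀ k l, g.1 k l ≠ 0 → k = τ l) (hσ : ∀ k l, g.1 k l ≠ 0 → k = σ l) : τ = σ := by
  ext l
  obtain ⟨k, hk⟩ : ∃ k, g.1 k l ≠ 0 := by
    by_contra h
    push Not at h
    exact one_ne_zero (α := F) (g.2.symm.trans (det_eq_zero_of_column_eq_zero l h))
  rw [← hτ k l hk, ← hσ k l hk]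

theorem exists_hq (h5 : 5 ≤ Fintype.card F) : ∃ a : F, a ≠ 0 ∧ a ≠ 1 := by
  by_contra h
  push Not at h
  have hs : (Finset.univ : Finset F) ⊆ {0, 1} := fun a _ => by
    rcases eq_or_ne a 0 with rfl | e
    · simp
    · simp [h a e]
  have := (Finset.card_le_card hs).trans Finset.card_le_two
  rw [Finset.card_univ] at this
  omega

variable (h5 : 5 ≤ Fintype.card F) (hn : 6 ≤ Fintype.card ι) (hK : mons ≤ K) (htop : K ≠ ⊤)
include h5 hn hK htop

theorem mon_of_fix {x : SpecialLinearGroup ι F} (hx : x ∈ K) {j : ι} (h : Fixes j x.1) :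
    Mon x.1 := by
  by_contra hm
  exact htop (top_of_fix (exists_hq h5) (by omega) h5 hK hx h hm)

theorem no_axis {g : SpecialLinearGroup ι F} (hg : g ∈ K) (hmon : ¬ Mon g.1) {i l0 : ι}
    (h : ∀ l, (g⁻¹).1 l i ≠ 0 → l = l0) : False := by
  obtain ⟨y, d, hy, -, -⟩ := exists_pmat_SL (F := F) (Equiv.swap i l0) i
  have hyK : y ∈ K := hK (mons_pmat hy)
  refine hmon ?_
  have hfix : Fixes i (y * g⁻¹).1 := by
    intro k hk
    show (y.1 * (g⁻¹).1) k i = 0
    rw [hy, Matrix.mul_apply]
    refine Finset.sum_eq_zero fun l _ => ?_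
    by_cases e : l = l0
    · subst e; rw [pmat_apply, Equiv.swap_apply_right, if_neg hk, zero_mul]
    · rw [show (g⁻¹).1 l i = 0 by by_contra f; exact e (h l f), mul_zero]
  have h1 := mon_of_fix h5 hn hK htop (K.mul_mem hyK (K.inv_mem hg)) hfix
  have h2 : y⁻¹ * (y * g⁻¹) ∈ (mons : Subgroup (SpecialLinearGroup ι F)) :=
    Subgroup.mul_mem _ (Subgroup.inv_mem _ (mons_pmat hy)) h1
  rw [inv_mul_cancel_left] at h2
  exact mem_mons.1 ((Subgroup.inv_mem_iff _).1 h2)

/-- Over five elements two zeros in a column force two columns of the inverse supported on one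
pair of indices. -/
theorem pair_five (hc5 : Fintype.card F = 5) {g : SpecialLinearGroup ι F} (hg : g ∈ K)
    (hmon : ¬ Mon g.1) (j : ι) {k k' : ι} (hkk : k ≠ k') (hk : (g⁻¹).1 k j = 0)
    (hk' : (g⁻¹).1 k' j = 0) :
    ∃ a b, ∀ l, l ≠ a → l ≠ b → g.1 l k = 0 ∧ g.1 l k' = 0 := by
  classical
  haveI : Fact (Nat.Prime 5) := ⟨by norm_num⟩
  haveI : CharP F 5 := charP_of_card_eq_prime hc5
  have five : (5 : F) = 0 := by exact_mod_cast CharP.cast_eq_zero F 5
  have lit : ∀ m : ℕ, ¬ 5 ∣ m → (m : F) ≠ 0 := fun m hm h0 =>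
    hm ((CharP.cast_eq_zero_iff F 5 m).1 h0)
  have h20 : (2 : F) ≠ 0 := by exact_mod_cast lit 2 (by norm_num)
  have h21 : (2 : F) ≠ 1 := fun h => one_ne_zero (α := F) (by linear_combination h)
  have h31 : (3 : F) ≠ 1 := fun h => h20 (by linear_combination h)
  have h23 : (2 : F) ≠ 3 := fun h => one_ne_zero (α := F) (by linear_combination -h)
  set g' := (g⁻¹).1
  set w : ι → F := fun l => g' l j
  let d : ι → F := Function.update (Function.update (fun _ => 1) k 2) k' 3
  have hdk : d k = 2 := by simp [d, hkk]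
  have hdk' : d k' = 3 := by simp [d]
  have hdo : ∀ l, l ≠ k → l ≠ k' → d l = 1 := fun l a b => by simp [d, a, b]
  have hd : ∏ l, d l = 1 := by
    rw [prod_two hkk]
    linear_combination five
  have hdw : diagonal d *ᵥ w = w := by
    funext l
    rw [mulVec_diagonal]
    rcases eq_or_ne l k with rfl | a
    · simp only [w, hk, mul_zero]
    rcases eq_or_ne l k' with rfl | b
    · simp only [w, hk', mul_zero]
    rw [hdo l a b, one_mul]
  have hxfix : Fixes j (g * dia d hd * g⁻¹).1 := by
    intro i hi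
    have h1 : (g * dia d hd * g⁻¹).1 *ᵥ Pi.single j 1 = Pi.single j 1 := by
      show (g.1 * diagonal d * g') *ᵥ Pi.single j 1 = _
      rw [← mulVec_mulVec, ← mulVec_mulVec, mulVec_single_one g' j]
      show g.1 *ᵥ (diagonal d *ᵥ w) = _
      rw [hdw, show w = g' *ᵥ Pi.single j 1 by rw [mulVec_single_one]; rfl, mulVec_mulVec,
        mul_inv_val, one_mulVec]
    have h2 := congrFun h1 i
    rwa [mulVec_single_one, Pi.single_eq_of_ne hi] at h2
  obtain ⟨τ, e, hx, he⟩ := (mon_of_fix h5 hn hK htop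
    (K.mul_mem (K.mul_mem hg (hK (dia_mem d hd))) (K.inv_mem hg)) hxfix).exists_pmat
  replace hx : g.1 * diagonal d * g' = pmat τ e := hx
  have hgx : g' * pmat τ e = diagonal d * g' := by
    rw [← hx, ← mul_assoc, ← mul_assoc, inv_mul_val, one_mul]
  have hxg : pmat τ e * g.1 = g.1 * diagonal d := by
    rw [← hx, mul_assoc, inv_mul_val, mul_one]
  have sq : ∀ a b : ι → F, (g.1 * diagonal a * g') * (g.1 * diagonal b * g') =
      g.1 * diagonal (fun l => a l * b l) * g' := by
    intro a b
    rw [← diagonal_mul_diagonal]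
    calc _ = g.1 * diagonal a * (g' * g.1) * diagonal b * g' := by simp only [mul_assoc]
      _ = _ := by rw [inv_mul_val, mul_one]; simp only [mul_assoc]
  have lin : ∀ (a b : ι → F) (α β : F), g.1 * diagonal (fun l => α * a l + β * b l) * g' =
      α • (g.1 * diagonal a * g') + β • (g.1 * diagonal b * g') := by
    intro a b α β
    rw [show diagonal (fun l => α * a l + β * b l) = α • diagonal a + β • diagonal b by
        ext i m; rcases eq_or_ne i m with rfl | e <;> simp [*],
      mul_add, add_mul, Matrix.mul_smul, Matrix.mul_smul,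
      Matrix.smul_mul, Matrix.smul_mul]
  have one' : g.1 * diagonal (fun _ => (1 : F)) * g' = pmat 1 fun _ => 1 := by
    rw [diagonal_one, mul_one, mul_inv_val, pmat_one]
  have hcub : (g.1 * diagonal d * g') * (g.1 * diagonal d * g') * (g.1 * diagonal d * g') =
      (1 : F) • ((g.1 * diagonal d * g') * (g.1 * diagonal d * g')) +
        (1 : F) • ((-1 : F) • (g.1 * diagonal d * g') + (1 : F) • pmat 1 fun _ => 1) := by
    rw [← one', sq, sq, ← lin, ← lin]
    congr 3
    funext l
    rcases eq_or_ne l k with rfl | a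
    · rw [hdk]; linear_combination five
    rcases eq_or_ne l k' with rfl | b
    · rw [hdk']; linear_combination 4 * five
    · rw [hdo l a b]; ring
  by_cases hmove : ∀ l, τ l = l
  · obtain ⟨i, hi⟩ : ∃ i, g' k i ≠ 0 := by
      by_contra h
      push Not at h
      exact one_ne_zero (α := F) ((g⁻¹).2.symm.trans (det_eq_zero_of_row_eq_zero k h))
    refine (no_axis h5 hn hK htop hg hmon (i := i) (l0 := k) fun l hl => ?_).elim
    have rel : ∀ l, g' l i ≠ 0 → d l = e i := by
      intro l hl
      have h1 := congrFun (congrFun hgx l) i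
      rw [show τ = 1 from Equiv.ext hmove, pmat_diag, diagonal_mul, mul_diagonal] at h1
      exact mul_right_cancel₀ hl (h1.symm.trans (mul_comm _ _))
    have h1 := (rel k hi).trans (rel l hl).symm
    by_contra a
    rcases eq_or_ne l k' with rfl | b
    · exact h23 (by rwa [hdk, hdk'] at h1)
    · exact h21 (by rwa [hdk, hdo l a b] at h1)
  push Not at hmove
  obtain ⟨a, ha⟩ := hmove
  rw [hx, pmat_mul, pmat_mul] at hcub
  have haa : τ (τ a) = a := by
    by_contra h2a
    have h32 : τ (τ (τ a)) ≠ τ (τ a) := fun h => ha (τ.injective (τ.injective h))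
    have h21' : τ (τ a) ≠ τ a := fun h => ha (τ.injective h)
    have A := congrFun (congrFun hcub (τ (τ a))) a
    simp [pmat_apply, h2a, h32.symm, h21', ha] at A
    rcases A with A | A
    · exact he _ A
    · exact he _ A
  have hee : e (τ a) * e a = -1 := by
    have h3a : τ (τ (τ a)) = τ a := by rw [haa]
    have B := congrFun (congrFun hcub (τ a)) a
    simp [pmat_apply, haa, h3a, ha, Ne.symm ha] at B
    have hc : (e (τ a) * e a + 1) * e a = 0 := by linear_combination B
    exact eq_neg_of_add_eq_zero_left ((mul_eq_zero.1 hc).resolve_right (he a))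
  have hout : ∀ m, m ≠ a → m ≠ τ a → τ m = m ∧ e m = 1 := by
    intro m hma hmb
    by_contra hm
    let L : Fin 3 → ι := ![a, τ a, m]
    let v : Fin 3 → ι → F := fun s => pmat τ e *ᵥ Pi.single (L s) 1 - Pi.single (L s) 1
    have hgv : ∀ s, g' *ᵥ v s = fun i => (d i - 1) * g' i (L s) := by
      intro s
      funext i
      rw [show g' *ᵥ v s = (diagonal d * g') *ᵥ Pi.single (L s) 1 - g' *ᵥ Pi.single (L s) 1 by
        simp only [v, mulVec_sub, mulVec_mulVec, hgx], mulVec_single_one, mulVec_single_one]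
      show (diagonal d * g') i (L s) - g' i (L s) = _
      rw [diagonal_mul]
      ring
    let Φ : Fin 3 → Fin 2 → F := fun s => ![(g' *ᵥ v s) k, (g' *ᵥ v s) k']
    have hdep : ¬ LinearIndependent F Φ := fun h => by
      have := h.fintype_card_le_finrank
      simp at this
    rw [Fintype.linearIndependent_iff] at hdep
    push Not at hdep
    obtain ⟨c, hc, s0, hs0⟩ := hdep
    have hz : g' *ᵥ (∑ s, c s • v s) = 0 := by
      funext i
      rcases eq_or_ne i k with rfl | i1
      · have := congrFun hc 0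
        simpa [Φ, mulVec_sum, mulVec_smul, Finset.sum_apply] using this
      rcases eq_or_ne i k' with rfl | i2
      · have := congrFun hc 1
        simpa [Φ, mulVec_sum, mulVec_smul, Finset.sum_apply] using this
      simp [mulVec_sum, mulVec_smul, Finset.sum_apply, hgv, hdo i i1 i2]
    have hz0 : ∑ s, c s • v s = 0 := by
      have := congrArg (g.1 *ᵥ ·) hz
      simp only [mulVec_zero] at this
      rwa [mulVec_mulVec, mul_inv_val, one_mulVec] at this
    have hv : ∀ s i, v s i =
        (if i = τ (L s) then e (L s) else 0) - (if i = L s then 1 else 0) := by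
      intro s i
      simp [v, mulVec_single_one, pmat_apply, Pi.single_apply]
    have hτm : τ m ≠ a ∧ τ m ≠ τ a := ⟨fun h => hmb (τ.injective (by rw [h, haa])),
      fun h => hma (τ.injective h)⟩
    have ea := congrFun hz0 a
    have eb := congrFun hz0 (τ a)
    have em := congrFun hz0 m
    simp [Fin.sum_univ_three, hv, L, haa, ha, Ne.symm ha, hma, Ne.symm hma, hmb, Ne.symm hmb,
      Ne.symm hτm.1, Ne.symm hτm.2] at ea eb em
    have c2 : c 2 = 0 := by
      by_cases hmm : τ m = m
      · simp [hmm] at em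
        exact em.resolve_right (sub_ne_zero.2 fun h => hm ⟨hmm, h⟩)
      · simpa [Ne.symm hmm] using em
    have c0 : c 0 = 0 := by
      have h2 : (2 : F) * c 0 = 0 := by linear_combination -ea - e (τ a) * eb + c 0 * hee
      exact (mul_eq_zero.1 h2).resolve_left h20
    have c1 : c 1 = 0 := by linear_combination e a * c0 - eb
    fin_cases s0
    · exact hs0 c0
    · exact hs0 c1
    · exact hs0 c2
  refine ⟨a, τ a, fun l hla hlb => ?_⟩
  obtain ⟨hτl, hel⟩ := hout l hla hlb
  have hl' : τ.symm l = l := by rw [Equiv.symm_apply_eq, hτl]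
  have col : ∀ o, g.1 l o = g.1 l o * d o := fun o => by
    have h1 := congrFun (congrFun hxg l) o
    rw [mul_diagonal, Matrix.mul_apply, Finset.sum_eq_single l] at h1
    · rwa [pmat_apply, if_pos hτl.symm, hel, one_mul] at h1
    · intro b _ hb
      rw [pmat_apply, if_neg (fun f => hb (τ.injective (f.symm.trans hτl.symm))), zero_mul]
    · simp
  constructor
  · have h1 := col k
    rw [hdk] at h1
    linear_combination -h1
  · have h1 := col k'
    rw [hdk'] at h1
    have h2 : (2 : F) * g.1 l k' = 0 := by linear_combination -h1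
    exact (mul_eq_zero.1 h2).resolve_left h20

/-- Over five elements three zeros in a column are impossible. -/
theorem three_five (hc5 : Fintype.card F = 5) {g : SpecialLinearGroup ι F} (hg : g ∈ K)
    (hmon : ¬ Mon g.1) (j : ι) {k k2 k3 : ι} (h12 : k ≠ k2) (h13 : k ≠ k3) (h23 : k2 ≠ k3)
    (hk : (g⁻¹).1 k j = 0) (hk2 : (g⁻¹).1 k2 j = 0) (hk3 : (g⁻¹).1 k3 j = 0) : False := by
  classical
  obtain ⟨a, b, hab⟩ := pair_five h5 hn hK htop hc5 hg hmon j h12 hk hk2
  obtain ⟨a', b', hab'⟩ := pair_five h5 hn hK htop hc5 hg hmon j h13 hk hk3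
  have hmon' : ¬ Mon (g⁻¹).1 := fun h => hmon (by simpa using h.inv)
  have single : ∀ l0, (∀ l, g.1 l k ≠ 0 → l = l0) → False := fun l0 h =>
    no_axis h5 hn hK htop (K.inv_mem hg) hmon' (i := k) (l0 := l0) (by simpa using h)
  by_cases ea : a = a' ∨ a = b'
  swap
  · refine single b fun l hl => ?_
    by_contra hlb
    rcases eq_or_ne l a with rfl | hla
    · exact hl (hab' l (fun f => ea (Or.inl f)) fun f => ea (Or.inr f)).1
    · exact hl (hab l hla hlb).1
  by_cases eb : b = a' ∨ b = b'
  swap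
  · refine single a fun l hl => ?_
    by_contra hla
    rcases eq_or_ne l b with rfl | hlb
    · exact hl (hab' l (fun f => eb (Or.inl f)) fun f => eb (Or.inr f)).1
    · exact hl (hab l hla hlb).1
  rcases eq_or_ne a b with rfl | hne
  · exact single a fun l hl => by_contra fun h => hl (hab l h h).1
  let L : Fin 3 → ι := ![k, k2, k3]
  have sup : ∀ l, l ≠ a → l ≠ b → ∀ s, g.1 l (L s) = 0 := by
    intro l la lb
    have h' := hab' l (by rcases ea with f | f <;> rcases eb with f' | f' <;> grind)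
      (by rcases ea with f | f <;> rcases eb with f' | f' <;> grind)
    intro s; fin_cases s
    · exact h'.1
    · exact (hab l la lb).2
    · exact h'.2
  let Φ : Fin 3 → Fin 2 → F := fun s => ![g.1 a (L s), g.1 b (L s)]
  have hdep : ¬ LinearIndependent F Φ := fun h => by
    have := h.fintype_card_le_finrank
    simp at this
  rw [Fintype.linearIndependent_iff] at hdep
  push Not at hdep
  obtain ⟨c, hc, s0, hs0⟩ := hdep
  have hz : g.1 *ᵥ (∑ s, c s • Pi.single (L s) 1) = 0 := by
    funext i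
    rcases eq_or_ne i a with rfl | i1
    · have := congrFun hc 0
      simpa [Φ, mulVec_sum, mulVec_smul, Finset.sum_apply, mulVec_single_one] using this
    rcases eq_or_ne i b with rfl | i2
    · have := congrFun hc 1
      simpa [Φ, mulVec_sum, mulVec_smul, Finset.sum_apply, mulVec_single_one] using this
    simp [mulVec_sum, mulVec_smul, Finset.sum_apply, mulVec_single_one, sup i i1 i2]
  have hz0 : ∑ s, c s • Pi.single (L s) (1 : F) = 0 := by
    have := congrArg ((g⁻¹).1 *ᵥ ·) hz
    simp only [mulVec_zero] at this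
    rwa [mulVec_mulVec, inv_mul_val, one_mulVec] at this
  have h0 := congrFun hz0 (L s0)
  fin_cases s0 <;>
    simp [Fin.sum_univ_three, L, h12, h13, h23, Ne.symm h12, Ne.symm h13, Ne.symm h23] at h0 <;>
    exact hs0 h0

/-- Over five elements two zeros in a column are impossible. -/
theorem two_five (hc5 : Fintype.card F = 5) {g : SpecialLinearGroup ι F} (hg : g ∈ K)
    (hmon : ¬ Mon g.1) (j : ι) {k k' : ι} (hkk : k ≠ k') (hk : (g⁻¹).1 k j = 0)
    (hk' : (g⁻¹).1 k' j = 0) : False := by
  classical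
  obtain ⟨a, b, hab⟩ := pair_five h5 hn hK htop hc5 hg hmon j hkk hk hk'
  obtain ⟨x, y, z, hx, hy, hz, hxy, hxz, hyz⟩ := Finset.two_lt_card_iff.1
    (show 2 < ({a, b} : Finset ι)ᶜ.card by
      rw [Finset.card_compl]
      have := Finset.card_le_two (a := a) (b := b)
      omega)
  simp only [Finset.mem_compl, Finset.mem_insert, Finset.mem_singleton, not_or] at hx hy hz
  refine three_five h5 hn hK htop hc5 (K.inv_mem hg) (fun h => hmon (by simpa using h.inv)) k
    hxy hxz hyz ?_ ?_ ?_
  · rw [inv_inv]; exact (hab x hx.1 hx.2).1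
  · rw [inv_inv]; exact (hab y hy.1 hy.2).1
  · rw [inv_inv]; exact (hab z hz.1 hz.2).1

/-- A column with enough zeros. -/
theorem zlemma {g : SpecialLinearGroup ι F} (hg : g ∈ K) (hmon : ¬ Mon g.1) (j : ι) (Q : Finset ι)
    (hz : ∀ l ∈ Q, (g⁻¹).1 l j = 0) (h2 : 2 ≤ Q.card) : False := by
  classical
  set g' := (g⁻¹).1 with hg'
  -- conjugates of torus elements are diagonal, if they satisfy enough equations
  have conj : ∀ (d : ι → F) (hd : ∏ l, d l = 1), (∀ l, l ∉ Q → d l = 1) →
      ∃ τ : Equiv.Perm ι, ∃ e : ι → F, (g.1 * diagonal d * g') = pmat τ e ∧ ∀ l, e l ≠ 0 := by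
    intro d hd hQ
    have hfix : Fixes j (g * dia d hd * g⁻¹).1 := by
      intro k hk
      show (g.1 * diagonal d * g') k j = 0
      rw [mul_assoc, Matrix.mul_apply]
      calc _ = ∑ l, g.1 k l * g' l j := Finset.sum_congr rfl fun l _ => by
            rw [diagonal_mul]
            by_cases e : l ∈ Q
            · rw [hz l e, mul_zero]
            · rw [hQ l e, one_mul]
        _ = (g.1 * g') k j := (Matrix.mul_apply).symm
        _ = 0 := (congrFun (congrFun (mul_inv_val g) k) j).trans (Matrix.one_apply_ne hk)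
    exact (mon_of_fix h5 hn hK htop
      (K.mul_mem (K.mul_mem hg (hK (dia_mem d hd))) (K.inv_mem hg)) hfix).exists_pmat
  have rel : ∀ (d e : ι → F), g.1 * diagonal d * g' = pmat 1 e → ∀ l i, g' l i ≠ 0 → d l = e i := by
    intro d e h l i hli
    rw [pmat_diag] at h
    have h0 : g' * (g.1 * diagonal d * g') = g' * diagonal e := by rw [h]
    have h1 : (g' * (g.1 * diagonal d * g') : Matrix ι ι F) l i = (g' * diagonal e : Matrix ι ι F) l i :=
      congrFun (congrFun h0 l) i
    rw [← mul_assoc, ← mul_assoc, show g' * g.1 = 1 from inv_mul_val g, one_mul, diagonal_mul,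
      mul_diagonal] at h1
    exact mul_right_cancel₀ hli (h1.trans (mul_comm _ _))
  have sq : ∀ d d' : ι → F, (g.1 * diagonal d * g') * (g.1 * diagonal d' * g') =
      g.1 * diagonal (fun l => d l * d' l) * g' := by
    intro d d'
    rw [← diagonal_mul_diagonal]
    calc _ = g.1 * diagonal d * (g' * g.1) * diagonal d' * g' := by simp only [mul_assoc]
      _ = _ := by rw [inv_mul_val, mul_one]; simp only [mul_assoc]
  have lin : ∀ (d d' : ι → F) (α β : F), g.1 * diagonal (fun l => α * d l + β * d' l) * g' =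
      α • (g.1 * diagonal d * g') + β • (g.1 * diagonal d' * g') := by
    intro d d' α β
    rw [show diagonal (fun l => α * d l + β * d' l) = α • diagonal d + β • diagonal d' by
        ext i m; rcases eq_or_ne i m with rfl | e <;> simp [*],
      mul_add, add_mul, Matrix.mul_smul, Matrix.mul_smul,
      Matrix.smul_mul, Matrix.smul_mul]
  have one' : g.1 * diagonal (fun _ => (1 : F)) * g' = pmat 1 fun _ => 1 := by
    rw [diagonal_one, mul_one, mul_inv_val, pmat_one]
  rcases em (5 < Fintype.card F) with hbig | hbig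
  · -- a torus element with two eigenvalues `a`, `a⁻¹`
    obtain ⟨k, hk, k', hk', hkk⟩ := Finset.one_lt_card.1 h2
    obtain ⟨u, hu⟩ := IsCyclic.exists_generator (α := Fˣ)
    have hord : orderOf u = Fintype.card F - 1 := by
      rw [orderOf_eq_card_of_forall_mem_zpowers hu, Nat.card_units, Nat.card_eq_fintype_card]
    set a : F := (u : F)
    have hpow : ∀ m : ℕ, 0 < m → m ≤ 4 → a ^ m ≠ 1 := by
      intro m hm hm4 h
      have h1 : u ^ m = 1 := Units.ext (by simpa using h)
      have := Nat.le_of_dvd hm (orderOf_dvd_of_pow_eq_one h1)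
      omega
    have ha0 : a ≠ 0 := u.ne_zero
    let d := Function.update (Function.update (fun _ => (1 : F)) k a) k' a⁻¹
    have hd : ∏ l, d l = 1 := by rw [prod_two hkk, inv_mul_cancel₀ ha0]
    obtain ⟨τ, e, hx, he⟩ := conj d hd fun l hl => by
      simp [d, show l ≠ k from fun h => hl (h ▸ hk), show l ≠ k' from fun h => hl (h ▸ hk')]
    set s := 1 + a + a⁻¹
    have hcub : (g.1 * diagonal d * g') * (g.1 * diagonal d * g') * (g.1 * diagonal d * g') =
        s • ((g.1 * diagonal d * g') * (g.1 * diagonal d * g')) +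
          (1 : F) • ((-s) • (g.1 * diagonal d * g') + (1 : F) • pmat 1 fun _ => 1) := by
      rw [← one', sq, sq, ← lin, ← lin]
      congr 3
      funext l
      rcases eq_or_ne l k' with rfl | e1
      · simp [d, s]; field_simp; ring
      rcases eq_or_ne l k with rfl | e2
      · simp [d, e1, s]; field_simp; ring
      · simp [d, e1, e2]
    have hs0 : s ≠ 0 := fun h => hpow 3 (by norm_num) (by norm_num) (by
      have h' : a * s = 0 := by rw [h, mul_zero]
      simp only [s] at h'
      field_simp at h'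
      linear_combination (a - 1) * h')
    have hs1 : s * s ≠ 1 := fun h => by
      rcases mul_self_eq_one_iff.1 h with h | h
      · refine hpow 4 (by norm_num) (by norm_num) ?_
        simp only [s] at h
        field_simp at h
        linear_combination (a ^ 2 - 1) * h
      · refine hpow 2 (by norm_num) (by norm_num) ?_
        simp only [s] at h
        field_simp at h
        have hsq : (a + 1) * (a + 1) = 0 := by linear_combination h
        rw [eq_neg_of_add_eq_zero_left (mul_self_eq_zero.1 hsq)]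
        ring
    have hτ : τ = 1 := by
      refine Equiv.ext fun l => ?_
      by_contra hl
      have hl : τ l ≠ l := hl
      rw [hx, pmat_mul, pmat_mul] at hcub
      by_cases h2l : τ (τ l) = l
      · have h3l : τ (τ (τ l)) = τ l := by rw [h2l]
        have A := congrFun (congrFun hcub l) l
        have B := congrFun (congrFun hcub (τ l)) l
        simp [pmat_apply, h2l, h3l, hl, Ne.symm hl] at A B
        apply hs1
        have hc : e (τ l) * e l * s = -1 := by linear_combination -A
        have hc2 : (e (τ l) * e l + s) * e l = 0 := by linear_combination B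
        have hc3 := (mul_eq_zero.1 hc2).resolve_right (he l)
        linear_combination s * hc3 - hc
      · have h32 : τ (τ (τ l)) ≠ τ (τ l) := fun h => hl (τ.injective (τ.injective h))
        have h21 : τ (τ l) ≠ τ l := fun h => hl (τ.injective h)
        have A := congrFun (congrFun hcub (τ (τ l))) l
        simp [pmat_apply, h2l, h32.symm, h21, hl] at A
        rcases A with A | A | A
        · exact hs0 A
        · exact he _ A
        · exact he _ A
    subst hτ
    obtain ⟨i, hi⟩ : ∃ i, g' k i ≠ 0 := by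
      by_contra h
      push Not at h
      exact one_ne_zero (α := F) ((g⁻¹).2.symm.trans (det_eq_zero_of_row_eq_zero k h))
    refine no_axis h5 hn hK htop hg hmon (i := i) (l0 := k) fun l hl => ?_
    have h1 := (rel d e hx k i hi).trans (rel d e hx l i hl).symm
    by_contra hlk
    rcases eq_or_ne l k' with rfl | e1
    · simp [d, hkk] at h1
      exact hpow 2 (by norm_num) (by norm_num) (by rw [pow_two]; nth_rw 2 [h1]; exact mul_inv_cancel₀ ha0)
    · simp [d, hkk, hlk, e1] at h1
      exact hpow 1 one_pos (by norm_num) (by rw [pow_one, h1])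
  · obtain ⟨k, hk, k', hk', hkk⟩ := Finset.one_lt_card.1 h2
    exact two_five h5 hn hK htop (by omega) hg hmon j hkk (hz k hk) (hz k' hk')

/-- A column without zeros. -/
theorem no_full_column {g : SpecialLinearGroup ι F} (hg : g ∈ K) (j : ι)
    (hw : ∀ l, (g⁻¹).1 l j ≠ 0) : False := by
  classical
  haveI : Nontrivial ι := Fintype.one_lt_card_iff_nontrivial.1 (by omega)
  set w : ι → F := fun l => (g⁻¹).1 l j
  have hsign : ∀ σ : alternatingGroup ι, (pmat (σ : Equiv.Perm ι) fun l => w ((σ : Equiv.Perm ι) l) / w l).det = 1 := by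
    intro σ
    rw [det_pmat, Equiv.Perm.mem_alternatingGroup.1 σ.2, Finset.prod_div_distrib,
      Equiv.prod_comp (σ : Equiv.Perm ι) w,
      div_self (Finset.prod_ne_zero_iff.2 fun l _ => hw l)]
    simp
  let φ : alternatingGroup ι →* SpecialLinearGroup ι F :=
    MonoidHom.mk' (fun σ => ⟨_, hsign σ⟩) fun σ τ => Subtype.ext (by
      show _ = pmat _ _ * pmat _ _
      rw [pmat_mul]
      show pmat ((σ : Equiv.Perm ι) * (τ : Equiv.Perm ι)) _ = _
      congr 1
      funext l
      rw [Subgroup.coe_mul, Equiv.Perm.mul_apply, div_mul_div_cancel₀ (hw _)])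
  have hφw : ∀ σ, (φ σ).1 *ᵥ w = w := by
    intro σ
    show pmat _ _ *ᵥ w = w
    rw [pmat_mulVec]
    funext k
    simp only [Equiv.apply_symm_apply]
    exact div_mul_cancel₀ _ (hw _)
  let ψ : alternatingGroup ι →* SpecialLinearGroup ι F :=
    (MulAut.conj g).toMonoidHom.comp φ
  have hfix : ∀ σ, Fixes j (ψ σ).1 := by
    intro σ k hk
    show (g.1 * (φ σ).1 * (g⁻¹).1) k j = 0
    have h1 : (g.1 * (φ σ).1 * (g⁻¹).1) *ᵥ Pi.single j 1 = (g.1 * (g⁻¹).1) *ᵥ Pi.single j 1 := by
      rw [← mulVec_mulVec, ← mulVec_mulVec, ← mulVec_mulVec, mulVec_single_one]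
      exact congrArg (g.1 *ᵥ ·) (hφw σ)
    have h2 := congrFun h1 k
    rwa [mul_inv_val, one_mulVec, Pi.single_eq_of_ne hk, mulVec_single_one] at h2
  have hmon : ∀ σ, Mon (ψ σ).1 := fun σ => mon_of_fix h5 hn hK htop
    (K.mul_mem (K.mul_mem hg (hK (mons_pmat rfl))) (K.inv_mem hg)) (hfix σ)
  choose P hP using hmon
  let f : alternatingGroup ι →* Equiv.Perm ι := MonoidHom.mk' P fun σ τ => by
    refine perm_unique (hP (σ * τ)) fun k l h => ?_
    rw [map_mul] at h
    have h' : ((ψ σ).1 * (ψ τ).1) k l ≠ 0 := h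
    rw [Matrix.mul_apply] at h'
    obtain ⟨c, -, hc⟩ := Finset.exists_ne_zero_of_sum_ne_zero h'
    rw [hP σ k c (left_ne_zero_of_mul hc), hP τ c l (right_ne_zero_of_mul hc)]
    rfl
  have hfj : ∀ σ, f σ j = j := by
    intro σ
    obtain ⟨k, hk⟩ : ∃ k, (ψ σ).1 k j ≠ 0 := by
      by_contra h
      push Not at h
      exact one_ne_zero (α := F) ((ψ σ).2.symm.trans (det_eq_zero_of_column_eq_zero j h))
    have : k = j := by_contra fun e => hk (hfix σ k e)
    exact ((hP σ k j hk).symm.trans this)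
  rcases alternatingGroup.normal_subgroup_eq_bot_or_eq_top (α := ι)
      (by rw [Nat.card_eq_fintype_card]; omega) (N := f.ker) with hker | hker
  · rw [MonoidHom.ker_eq_bot_iff] at hker
    let f' : alternatingGroup ι → {τ : Equiv.Perm ι // ∀ a, ¬ (a ≠ j) → τ a = a} := fun σ =>
      ⟨f σ, fun a ha => by rw [not_not.1 ha]; exact hfj σ⟩
    have h1 := Nat.card_le_card_of_injective f' fun a b e => hker (congrArg Subtype.val e)
    rw [← Nat.card_congr (Equiv.Perm.subtypeEquivSubtypePerm (fun a => a ≠ j)), Nat.card_perm,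
      Nat.card_eq_fintype_card (α := {a // a ≠ j}), Fintype.card_subtype_compl,
      Fintype.card_subtype_eq, Nat.card_eq_fintype_card] at h1
    have h2 : 2 * Fintype.card (alternatingGroup ι) = (Fintype.card ι).factorial := by
      rw [two_mul_card_alternatingGroup, Fintype.card_perm]
    obtain ⟨m, hm⟩ : ∃ m, Fintype.card ι = m + 1 := ⟨Fintype.card ι - 1, by omega⟩
    rw [hm, Nat.factorial_succ] at h2
    rw [hm, Nat.add_sub_cancel] at h1
    have h3 := Nat.factorial_pos m
    nlinarith
  · have hcomm : ∀ σ τ : alternatingGroup ι, σ * τ = τ * σ := by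
      intro σ τ
      have hd : ∀ σ, ∃ e, (ψ σ).1 = diagonal e := by
        intro σ
        refine ⟨fun l => (ψ σ).1 l l, ?_⟩
        ext k l
        rcases eq_or_ne k l with rfl | e
        · simp
        · rw [diagonal_apply_ne _ e]
          by_contra h
          have h1 : f σ = 1 := MonoidHom.mem_ker.1 (hker ▸ Subgroup.mem_top σ)
          exact e ((hP σ k l h).trans (Equiv.congr_fun h1 l))
      obtain ⟨e1, he1⟩ := hd σ
      obtain ⟨e2, he2⟩ := hd τ
      have h1 : ψ (σ * τ) = ψ (τ * σ) := by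
        rw [map_mul, map_mul]
        refine Subtype.ext ?_
        show (ψ σ).1 * (ψ τ).1 = (ψ τ).1 * (ψ σ).1
        rw [he1, he2, diagonal_mul_diagonal, diagonal_mul_diagonal]
        simp only [mul_comm]
      have h2 : φ (σ * τ) = φ (τ * σ) := (MulAut.conj g).injective h1
      refine Subtype.ext (perm_unique (g := φ (σ * τ)) (fun k l h => ?_) fun k l h => ?_)
      · by_contra e
        exact h (if_neg e)
      · rw [h2] at h
        by_contra e
        exact h (if_neg e)
    obtain ⟨a, b, c, hab, hac, hbc⟩ := Fintype.two_lt_card_iff.1 (show 2 < Fintype.card ι by omega)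
    obtain ⟨d, hda, hdb, hdc⟩ := exists_third (by omega) a b c
    have m1 : Equiv.swap a b * Equiv.swap c d ∈ alternatingGroup ι := by
      simp [Equiv.Perm.mem_alternatingGroup, Equiv.Perm.sign_swap hab,
        Equiv.Perm.sign_swap hdc.symm]
    have m2 : Equiv.swap a b * Equiv.swap a c ∈ alternatingGroup ι := by
      simp [Equiv.Perm.mem_alternatingGroup, Equiv.Perm.sign_swap hab, Equiv.Perm.sign_swap hac]
    have := Equiv.congr_fun (congrArg Subtype.val (hcomm ⟨_, m1⟩ ⟨_, m2⟩)) a
    simp [Equiv.swap_apply_of_ne_of_ne, hab, hac, hda.symm, hbc, hbc.symm, hac.symm, hab.symm,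
      hdb, hdc, hda] at this

/-- In characteristic five a zero entry forces many zeros in its row. -/
theorem row_zeros (hc5 : Fintype.card F = 5) {g : SpecialLinearGroup ι F} (hg : g ∈ K) (j k : ι)
    (hk : (g⁻¹).1 k j = 0) (Q : Finset ι) (hQ : ∀ l, l ∈ Q ↔ (g⁻¹).1 l j = 0) (hQ4 : Q.card ≤ 4) :
    ∃ Q' : Finset ι, 2 ≤ Q'.card ∧ ∀ l ∈ Q', (g⁻¹).1 k l = 0 := by
  classical
  haveI : Fact (Nat.Prime 5) := ⟨by norm_num⟩
  haveI : CharP F 5 := charP_of_card_eq_prime hc5
  have h20 : (2 : F) ≠ 0 := fun h => by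
    have := (CharP.cast_eq_zero_iff F 5 2).1 (by exact_mod_cast h)
    omega
  set w : ι → F := fun l => (g⁻¹).1 l j
  obtain ⟨p, hp, r, hr, hpr⟩ : ∃ p ∈ Qᶜ, ∃ r ∈ Qᶜ, p ≠ r := Finset.one_lt_card.1 (by
    rw [Finset.card_compl]; omega)
  rw [Finset.mem_compl, hQ] at hp hr
  have hkp : k ≠ p := fun e => hp (e ▸ hk)
  have hkr : k ≠ r := fun e => hr (e ▸ hk)
  set d : ι → F := Function.update (Function.update (Function.update (fun _ => 1) p (w r / w p)) r
    (w p / w r)) k (-1)
  have hdp : d p = w r / w p := by simp [d, hkp.symm, hpr]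
  have hdr : d r = w p / w r := by simp [d, hkr.symm]
  have hdk : d k = -1 := by simp [d]
  have hdo : ∀ o, o ≠ p → o ≠ r → o ≠ k → d o = 1 := fun o a b c => by simp [d, a, b, c]
  set τ := Equiv.swap p r
  have hτk : τ k = k := Equiv.swap_apply_of_ne_of_ne hkp hkr
  have hdet : (pmat τ d).det = 1 := by
    rw [det_pmat, Equiv.Perm.sign_swap hpr, Finset.prod_update_of_mem (Finset.mem_univ k),
      Finset.prod_update_of_mem (by simp [hkr.symm]), Finset.prod_update_of_mem (by simp [hpr, hkp.symm])]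
    simp
    field_simp
    try rw [div_self (mul_ne_zero hp hr)]
  let π : SpecialLinearGroup ι F := ⟨pmat τ d, hdet⟩
  have hπ2 : π * π = 1 := Subtype.ext (by
    show pmat τ d * pmat τ d = 1
    rw [pmat_mul, show τ * τ = 1 from Equiv.swap_mul_self _ _, ← pmat_one]
    congr 1
    funext l
    rcases eq_or_ne l p with rfl | a
    · simp only [τ, Equiv.swap_apply_left, hdp, hdr]; field_simp [show w r ≠ 0 from hr, show w l ≠ 0 from hp]
    rcases eq_or_ne l r with rfl | b
    · simp only [τ, Equiv.swap_apply_right, hdp, hdr]; field_simp [show w p ≠ 0 from hp, show w l ≠ 0 from hr]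
    rcases eq_or_ne l k with rfl | c
    · simp [hτk, hdk]
    · simp [τ, Equiv.swap_apply_of_ne_of_ne a b, hdo l a b c])
  have hπw : π.1 *ᵥ w = w := by
    show pmat τ d *ᵥ w = w
    rw [pmat_mulVec]
    funext l
    simp only [τ, Equiv.symm_swap]
    rcases eq_or_ne l p with rfl | a
    · simp only [Equiv.swap_apply_left, hdr]; exact div_mul_cancel₀ _ hr
    rcases eq_or_ne l r with rfl | b
    · simp only [Equiv.swap_apply_right, hdp]; exact div_mul_cancel₀ _ hp
    rw [Equiv.swap_apply_of_ne_of_ne a b]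
    rcases eq_or_ne l k with rfl | c
    · show d l * w l = w l
      rw [show w l = 0 from hk, mul_zero]
    · rw [hdo l a b c, one_mul]
  set g' := (g⁻¹).1
  have hxfix : Fixes j (g * π * g⁻¹).1 := by
    intro i hi
    have h1 : (g * π * g⁻¹).1 *ᵥ Pi.single j 1 = Pi.single j 1 := by
      show (g.1 * π.1 * g') *ᵥ Pi.single j 1 = _
      rw [← mulVec_mulVec, ← mulVec_mulVec, mulVec_single_one g' j]
      show g.1 *ᵥ (π.1 *ᵥ w) = _
      rw [hπw, show w = g' *ᵥ Pi.single j 1 by rw [mulVec_single_one]; rfl, mulVec_mulVec,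
        mul_inv_val, one_mulVec]
    have h2 := congrFun h1 i
    rwa [mulVec_single_one, Pi.single_eq_of_ne hi] at h2
  obtain ⟨σ, e, hx, he⟩ := (mon_of_fix h5 hn hK htop
    (K.mul_mem (K.mul_mem hg (hK (mons_pmat rfl))) (K.inv_mem hg)) hxfix).exists_pmat
  set x := (g * π * g⁻¹).1
  have hx2 : x * x = 1 := by
    show ((g * π * g⁻¹) * (g * π * g⁻¹) : SpecialLinearGroup ι F).1 = 1
    rw [show g * π * g⁻¹ * (g * π * g⁻¹) = g * (π * π) * g⁻¹ by group, hπ2]
    simp [mul_inv_val]
  have hσ : ∀ l, σ (σ l) = l := by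
    intro l
    by_contra hl
    have := congrFun (congrFun hx2 (σ (σ l))) l
    rw [hx, pmat_mul, pmat_apply, Equiv.Perm.mul_apply, if_pos rfl, Matrix.one_apply_ne hl] at this
    exact mul_ne_zero (he _) (he _) this
  have hgx : ∀ v, g' *ᵥ (x *ᵥ v) = π.1 *ᵥ (g' *ᵥ v) := by
    intro v
    rw [mulVec_mulVec, mulVec_mulVec]
    congr 1
    show g' * (g.1 * π.1 * g') = _
    rw [← mul_assoc, ← mul_assoc, inv_mul_val, one_mul]
  let M := Finset.univ.filter fun l => ¬ (σ l = l ∧ e l = 1)
  have hM : M.card ≤ 4 := by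
    by_contra hM
    obtain ⟨l1, hl1⟩ : M.Nonempty := Finset.card_pos.1 (by omega)
    obtain ⟨l2, hl2⟩ : ((M.erase l1).erase (σ l1)).Nonempty := Finset.card_pos.1 (by
      have h1 := Finset.pred_card_le_card_erase (s := M.erase l1) (a := σ l1)
      have h2 := Finset.pred_card_le_card_erase (s := M) (a := l1)
      omega)
    obtain ⟨l3, hl3⟩ : ((((M.erase l1).erase (σ l1)).erase l2).erase (σ l2)).Nonempty :=
      Finset.card_pos.1 (by
      have h1 := Finset.pred_card_le_card_erase (s := M.erase l1) (a := σ l1)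
      have h2 := Finset.pred_card_le_card_erase (s := M) (a := l1)
      have h3 := Finset.pred_card_le_card_erase (s := (M.erase l1).erase (σ l1)) (a := l2)
      have h4 := Finset.pred_card_le_card_erase (s := ((M.erase l1).erase (σ l1)).erase l2) (a := σ l2)
      omega)
    simp only [Finset.mem_erase] at hl2 hl3
    let L : Fin 3 → ι := ![l1, l2, l3]
    have hLM : ∀ s, L s ∈ M := by
      intro s; fin_cases s
      · exact hl1
      · exact hl2.2.2
      · exact hl3.2.2.2.2
    have hL : ∀ s t, s ≠ t → L t ≠ L s ∧ L t ≠ σ (L s) := by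
      have a21 : l2 ≠ l1 ∧ l2 ≠ σ l1 := ⟨hl2.2.1, hl2.1⟩
      have a31 : l3 ≠ l1 ∧ l3 ≠ σ l1 := ⟨hl3.2.2.2.1, hl3.2.2.1⟩
      have a32 : l3 ≠ l2 ∧ l3 ≠ σ l2 := ⟨hl3.2.1, hl3.1⟩
      have sym : ∀ a b, b ≠ a ∧ b ≠ σ a → a ≠ b ∧ a ≠ σ b := fun a b h =>
        ⟨h.1.symm, fun e => h.2 (by rw [e, hσ])⟩
      intro s t hst
      fin_cases s <;> fin_cases t <;> first | exact absurd rfl hst | exact a21 | exact a31 | exact a32 | exact sym _ _ a21 | exact sym _ _ a31 | exact sym _ _ a32
    let v : Fin 3 → ι → F := fun s => x *ᵥ Pi.single (L s) 1 - Pi.single (L s) 1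
    have hv : ∀ s, v s = e (L s) • Pi.single (σ (L s)) 1 - Pi.single (L s) 1 := by
      intro s
      funext i
      by_cases hi : i = σ (L s)
      · subst hi; simp [v, hx, pmat_apply, mulVec_single_one]
      · simp [v, hx, pmat_apply, mulVec_single_one, hi]
    let Φ : Fin 3 → Fin 2 → F := fun s => ![(g' *ᵥ v s) k, (g' *ᵥ v s) p]
    have hdep : ¬ LinearIndependent F Φ := fun h => by
      have := h.fintype_card_le_finrank
      simp at this
    rw [Fintype.linearIndependent_iff] at hdep
    push Not at hdep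
    obtain ⟨c, hc, s0, hs0⟩ := hdep
    set y := ∑ s, c s • (g' *ᵥ Pi.single (L s) 1)
    have hu : g' *ᵥ (∑ s, c s • v s) = π.1 *ᵥ y - y := by
      simp only [y, v, mulVec_sum, mulVec_smul, mulVec_sub, hgx, smul_sub, Finset.sum_sub_distrib]
    have hk0 : (g' *ᵥ (∑ s, c s • v s)) k = 0 := by
      have := congrFun hc 0
      simpa [Φ, mulVec_sum, mulVec_smul, Finset.sum_apply] using this
    have hp0 : (g' *ᵥ (∑ s, c s • v s)) p = 0 := by
      have := congrFun hc 1
      simpa [Φ, mulVec_sum, mulVec_smul, Finset.sum_apply] using this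
    have hz : g' *ᵥ (∑ s, c s • v s) = 0 := by
      funext i
      rcases eq_or_ne i k with rfl | a
      · exact hk0
      rcases eq_or_ne i p with rfl | b
      · exact hp0
      rw [hu] at hp0 ⊢
      change (pmat τ d *ᵥ y - y) p = 0 at hp0
      show (pmat τ d *ᵥ y - y) i = 0
      simp only [pmat_mulVec, Pi.sub_apply, τ, Equiv.symm_swap, Equiv.swap_apply_left, hdr] at hp0 ⊢
      rcases eq_or_ne i r with rfl | c'
      · rw [Equiv.swap_apply_right, hdp]
        rw [← sub_eq_zero.1 hp0]
        field_simp [show w i ≠ 0 from hr, show w p ≠ 0 from hp]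
        ring
      · rw [Equiv.swap_apply_of_ne_of_ne b c', hdo i b c' a, one_mul, sub_self]
    have hz0 : ∑ s, c s • v s = 0 := by
      have := congrArg (g.1 *ᵥ ·) hz
      simp only [mulVec_zero] at this
      rwa [mulVec_mulVec, mul_inv_val, one_mulVec] at this
    have hM0 := (Finset.mem_filter.1 (hLM s0)).2
    obtain ⟨i, hi, hi'⟩ : ∃ i, v s0 i ≠ 0 ∧ (i = L s0 ∨ i = σ (L s0)) := by
      by_cases hs : σ (L s0) = L s0
      · exact ⟨L s0, by simp [hv, hs, sub_ne_zero]; exact fun h => hM0 ⟨hs, h⟩, Or.inl rfl⟩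
      · exact ⟨L s0, by simp [hv, Ne.symm hs], Or.inl rfl⟩
    have h0 := congrFun hz0 i
    rw [Finset.sum_apply, Finset.sum_eq_single s0] at h0
    · simp [hi] at h0
      exact hs0 h0
    · intro t _ ht
      obtain ⟨a1, a2⟩ := hL s0 t (Ne.symm ht)
      have b2 : L s0 ≠ σ (L t) := fun e => a2 (by rw [e, hσ])
      rcases hi' with rfl | rfl
      · simp [hv, a1.symm, b2]
      · simp [hv, a2.symm, Ne.symm a1]
    · simp
  refine ⟨Mᶜ, by rw [Finset.card_compl]; omega, fun l hl => ?_⟩
  simp only [Finset.mem_compl, M, Finset.mem_filter, Finset.mem_univ, true_and, not_not] at hl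
  have h1 := congrFun (hgx (Pi.single l 1)) k
  rw [show x *ᵥ Pi.single l 1 = Pi.single l 1 from ?_] at h1
  · change (g' *ᵥ Pi.single l 1) k = (pmat τ d *ᵥ (g' *ᵥ Pi.single l 1)) k at h1
    rw [pmat_mulVec] at h1
    have hτk' : τ.symm k = k := by rw [Equiv.symm_apply_eq, hτk]
    simp [hτk', hdk, mulVec_single_one] at h1
    have : (2 : F) * g' k l = 0 := by linear_combination h1
    exact (mul_eq_zero.1 this).resolve_left h20
  · rw [hx, pmat_mulVec]
    funext i
    rcases eq_or_ne i l with rfl | e'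
    · rw [show σ.symm i = i by rw [Equiv.symm_apply_eq, hl.1], hl.2, Pi.single_eq_same, mul_one]
    · rw [Pi.single_eq_of_ne e', Pi.single_eq_of_ne, mul_zero]
      intro f
      exact e' (by rw [← hl.1, ← f, Equiv.apply_symm_apply])

theorem zero_card {g : SpecialLinearGroup ι F} (hg : g ∈ K) (hmon : ¬ Mon g.1) (hq : 5 < Fintype.card F)
    (j : ι) : ∃ k, ∀ l, (g⁻¹).1 l j = 0 ↔ l = k := by
  classical
  obtain ⟨k, hk⟩ : ∃ k, (g⁻¹).1 k j = 0 := by
    by_contra h
    push Not at h
    exact no_full_column h5 hn hK htop hg j h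
  refine ⟨k, fun l => ⟨fun hl => ?_, fun e => e ▸ hk⟩⟩
  by_contra e
  exact zlemma h5 hn hK htop hg hmon j {l, k} (fun i hi => by
    rcases Finset.mem_insert.1 hi with rfl | hi
    · exact hl
    · rw [Finset.mem_singleton.1 hi]; exact hk) (by rw [Finset.card_pair e])

omit htop in
theorem trs_data (htop : K ≠ ⊤) {g : SpecialLinearGroup ι F} (hg : g ∈ K) (hmon : ¬ Mon g.1) :
    trs K ≠ ⊤ ∧ g.transpose ∈ trs K ∧ ¬ Mon g.transpose.1 ∧
      ((g.transpose)⁻¹).1 = (g⁻¹).1ᵀ := by
  refine ⟨fun h => htop (trs_eq_top h), ?_, fun h => hmon (by simpa using Mon.transpose (A := g.1ᵀ) h), ?_⟩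
  · show g.transpose.transpose ∈ K
    rwa [show g.transpose.transpose = g from Subtype.ext (transpose_transpose g.1)]
  · have : (g.transpose)⁻¹ = (g⁻¹).transpose := by
      refine inv_eq_of_mul_eq_one_right (Subtype.ext ?_)
      show g.1ᵀ * (g⁻¹).1ᵀ = 1
      rw [← transpose_mul, inv_mul_val, transpose_one]
    rw [this]; rfl

theorem false_of_not_mon {g : SpecialLinearGroup ι F} (hg : g ∈ K) (hmon : ¬ Mon g.1) : False := by
  classical
  haveI : Nonempty ι := Fintype.card_pos_iff.1 (by omega)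
  have hmon' : ¬ Mon (g⁻¹).1 := fun h => hmon (by simpa using h.inv)
  obtain ⟨hT, hgT, hmT, heT⟩ := trs_data h5 hn hK htop hg hmon
  obtain ⟨j⟩ := ‹Nonempty ι›
  by_cases hq : 5 < Fintype.card F
  swap
  · set Q := Finset.univ.filter fun l => (g⁻¹).1 l j = 0
    have hQm : ∀ l, l ∈ Q ↔ (g⁻¹).1 l j = 0 := fun l => by simp [Q]
    by_cases h5Q : 2 ≤ Q.card
    · exact zlemma h5 hn hK htop hg hmon j Q (fun l hl => (hQm l).1 hl) h5Q
    obtain ⟨k, hk⟩ : ∃ k, (g⁻¹).1 k j = 0 := by
      by_contra h
      push Not at h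
      exact no_full_column h5 hn hK htop hg j h
    obtain ⟨Q', hQ', hz⟩ := row_zeros h5 hn hK htop (by omega) hg j k hk Q hQm (by omega)
    exact zlemma h5 hn (mons_le_trs hK) hT hgT hmT k Q' (fun l hl => by rw [heT]; exact hz l hl)
      hQ'
  obtain ⟨hT', hgT', hmT', heT'⟩ := trs_data h5 hn hK htop (K.inv_mem hg) hmon'
  set A := g.1
  set A' := (g⁻¹).1
  obtain ⟨k, hk⟩ := zero_card h5 hn hK htop hg hmon hq j
  obtain ⟨j0, hrowk⟩ := zero_card h5 hn (mons_le_trs hK) hT hgT hmT hq k
  simp only [heT, transpose_apply] at hrowk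
  have hj0 : j0 = j := ((hrowk j).1 ((hk k).2 rfl)).symm
  subst hj0
  have colA : ∀ c, ∃ i, ∀ l, A l c = 0 ↔ l = i := by
    intro c
    simpa [A] using zero_card h5 hn hK htop (K.inv_mem hg) hmon' hq c
  have rowA : ∀ i, ∃ c, ∀ l, A i l = 0 ↔ l = c := by
    intro i
    simpa [heT', A] using zero_card h5 hn (mons_le_trs hK) hT' hgT' hmT' hq i
  obtain ⟨i0, hi0⟩ := colA k
  obtain ⟨i1, hi1j, hi10, -⟩ := exists_third (by omega) j0 i0 j0
  obtain ⟨i2, hi2j, hi20, hi21⟩ := exists_third (by omega) j0 i0 i1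
  obtain ⟨l0, hl0⟩ := rowA i1
  obtain ⟨l1, hl1⟩ := rowA i2
  have hl0k : l0 ≠ k := fun e => hi10 ((hi0 i1).1 ((hl0 k).2 e.symm))
  have hl1k : l1 ≠ k := fun e => hi20 ((hi0 i2).1 ((hl1 k).2 e.symm))
  have h01 : l0 ≠ l1 := by
    intro e
    obtain ⟨i, hi⟩ := colA l0
    exact hi21 (((hi i2).1 ((hl1 l0).2 e)).trans ((hi i1).1 ((hl0 l0).2 rfl)).symm)
  obtain ⟨o1, ho1k, ho10, ho11⟩ := exists_third (by omega) k l0 l1
  obtain ⟨o2, ho2⟩ : ∃ o, o ∈ ((((Finset.univ.erase k).erase l0).erase l1).erase o1 : Finset ι) := by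
    refine Finset.card_pos.1 ?_
    have h1 := Finset.pred_card_le_card_erase (s := ((Finset.univ.erase k).erase l0).erase l1) (a := o1)
    have h2 := Finset.pred_card_le_card_erase (s := (Finset.univ.erase k).erase l0) (a := l1)
    have h3 := Finset.pred_card_le_card_erase (s := (Finset.univ.erase k : Finset ι)) (a := l0)
    have h4 := Finset.pred_card_le_card_erase (s := (Finset.univ : Finset ι)) (a := k)
    rw [Finset.card_univ] at h4
    omega
  simp only [Finset.mem_erase, Finset.mem_univ, and_true] at ho2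
  obtain ⟨ho21, ho2l1, ho2l0, ho2k⟩ := ho2
  set w : ι → F := fun l => A' l j0
  have hw : ∀ l, l ≠ k → w l ≠ 0 := fun l hl h => hl ((hk l).1 h)
  let O : Finset ι := ((Finset.univ.erase k).erase l0).erase l1
  have ho1O : o1 ∈ O := by simp [O, ho1k, ho10, ho11]
  let S : ι → F → F := fun i t => ∑ o ∈ O, A i o * (if o = o1 then t else w o)
  have hS : ∀ i t, S i t = A i o1 * t + ∑ o ∈ O.erase o1, A i o * w o := by
    intro i t
    show ∑ o ∈ O, _ = _
    rw [← Finset.add_sum_erase O _ ho1O]
    simp only [if_true]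
    congr 1
    exact Finset.sum_congr rfl fun o ho => by rw [if_neg (Finset.ne_of_mem_erase ho)]
  have hA1 : A i1 o1 ≠ 0 := fun h => ho10 ((hl0 o1).1 h)
  have hA2 : A i2 o1 ≠ 0 := fun h => ho11 ((hl1 o1).1 h)
  obtain ⟨t, ht⟩ : ∃ t, t ∈ ({0, w o1, -(∑ o ∈ O.erase o1, A i1 o * w o) / A i1 o1,
      -(∑ o ∈ O.erase o1, A i2 o * w o) / A i2 o1} : Finset F)ᶜ := by
    refine Finset.card_pos.1 ?_
    rw [Finset.card_compl]
    have := Finset.card_le_four (a := (0 : F)) (b := w o1)
      (c := -(∑ o ∈ O.erase o1, A i1 o * w o) / A i1 o1)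
      (d := -(∑ o ∈ O.erase o1, A i2 o * w o) / A i2 o1)
    omega
  simp only [Finset.mem_compl, Finset.mem_insert, Finset.mem_singleton, not_or] at ht
  obtain ⟨ht0, ht1, ht2, ht3⟩ := ht
  have hS1 : S i1 t ≠ 0 := fun h => ht2 (by rw [hS] at h; field_simp; linear_combination h)
  have hS2 : S i2 t ≠ 0 := fun h => ht3 (by rw [hS] at h; field_simp; linear_combination h)
  have hA1l : A i1 l1 ≠ 0 := fun h => h01 ((hl0 l1).1 h).symm
  have hA2l : A i2 l0 ≠ 0 := fun h => h01 ((hl1 l0).1 h)
  set x : ι → F := fun l => if l = k then 0 else if l = l0 then -(S i2 t) / A i2 l0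
    else if l = l1 then -(S i1 t) / A i1 l1 else if l = o1 then t else w l
  have hx : ∀ l, l ≠ k → x l ≠ 0 := by
    intro l hl
    simp only [x, if_neg hl]
    split_ifs
    · exact div_ne_zero (neg_ne_zero.2 hS2) hA2l
    · exact div_ne_zero (neg_ne_zero.2 hS1) hA1l
    · exact ht0
    · exact hw l hl
  have hxk : x k = 0 := if_pos rfl
  have hdot : ∀ i, (A *ᵥ x) i = A i l0 * x l0 + A i l1 * x l1 + S i t := by
    intro i
    show ∑ l, A i l * x l = _
    rw [← Finset.add_sum_erase Finset.univ _ (Finset.mem_univ k), hxk, mul_zero, zero_add,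
      ← Finset.add_sum_erase _ _ (show l0 ∈ Finset.univ.erase k by simp [hl0k]),
      ← Finset.add_sum_erase _ _ (show l1 ∈ (Finset.univ.erase k).erase l0 by simp [hl1k, h01.symm]),
      add_assoc]
    congr 2
    refine Finset.sum_congr rfl fun o ho => ?_
    simp only [O, Finset.mem_erase, Finset.mem_univ, and_true] at ho
    simp [x, ho.1, ho.2.1, ho.2.2]
  have hxl0 : x l0 = -(S i2 t) / A i2 l0 := by simp [x, hl0k]
  have hxl1 : x l1 = -(S i1 t) / A i1 l1 := by simp [x, hl1k, h01.symm]
  have hz1 : (A *ᵥ x) i1 = 0 := by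
    rw [hdot, (hl0 l0).2 rfl, zero_mul, zero_add, hxl1, mul_div_cancel₀ _ hA1l, neg_add_cancel]
  have hz2 : (A *ᵥ x) i2 = 0 := by
    rw [hdot, (hl1 l1).2 rfl, zero_mul, add_zero, hxl0, mul_div_cancel₀ _ hA2l, neg_add_cancel]
  let c : F := ∏ l ∈ Finset.univ.erase k, x l / w l
  have hc : c ≠ 0 := Finset.prod_ne_zero_iff.2 fun l hl =>
    div_ne_zero (hx l (Finset.ne_of_mem_erase hl)) (hw l (Finset.ne_of_mem_erase hl))
  let d : ι → F := fun l => if l = k then c⁻¹ else x l / w l
  have hd : ∏ l, d l = 1 := by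
    rw [← Finset.mul_prod_erase _ _ (Finset.mem_univ k)]
    simp only [d, if_true]
    rw [Finset.prod_congr rfl (fun l hl => if_neg (Finset.ne_of_mem_erase hl))]
    exact inv_mul_cancel₀ hc
  set h := g * dia d hd * g⁻¹
  have hhK : h ∈ K := K.mul_mem (K.mul_mem hg (hK (dia_mem d hd))) (K.inv_mem hg)
  have hcol : h.1 *ᵥ Pi.single j0 1 = A *ᵥ x := by
    show (A * diagonal d * A') *ᵥ _ = _
    rw [← mulVec_mulVec, ← mulVec_mulVec, mulVec_single_one]
    congr 1
    funext l
    show (diagonal d *ᵥ w) l = _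
    rw [mulVec_diagonal]
    rcases eq_or_ne l k with rfl | e
    · rw [hxk, show w l = 0 from (hk l).2 rfl, mul_zero]
    · simp only [d, if_neg e]
      exact div_mul_cancel₀ _ (hw l e)
  have hhmon : ¬ Mon h.1 := by
    intro hm
    obtain ⟨τ, e, he, he0⟩ := hm.exists_pmat
    have h1 : x = e j0 • (A' *ᵥ Pi.single (τ j0) 1) := by
      have : h.1 *ᵥ Pi.single j0 1 = e j0 • Pi.single (τ j0) 1 := by
        rw [he, pmat_mulVec]
        funext i
        rcases eq_or_ne i (τ j0) with rfl | hne
        · simp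
        · simp [hne, show τ.symm i ≠ j0 from fun f => hne (by rw [← f, Equiv.apply_symm_apply])]
      rw [← mulVec_smul, ← this, hcol, mulVec_mulVec, inv_mul_val, one_mulVec]
    have h2 := congrFun h1 k
    rw [hxk, Pi.smul_apply, mulVec_single_one, smul_eq_mul, eq_comm, mul_eq_zero] at h2
    have hτ : τ j0 = j0 := (hrowk _).1 (h2.resolve_left (he0 _))
    rw [hτ] at h1
    have h3 := congrFun h1 o2
    have h4 := congrFun h1 o1
    rw [Pi.smul_apply, mulVec_single_one, smul_eq_mul] at h3 h4
    have g3 : w o2 = e j0 * w o2 :=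
      (show x o2 = w o2 by simp [x, ho2k, ho2l0, ho2l1, ho21]).symm.trans h3
    have g4 : t = e j0 * w o1 := (show x o1 = t by simp [x, ho1k, ho10, ho11]).symm.trans h4
    have he1 : e j0 = 1 := mul_right_cancel₀ (hw o2 ho2k) (g3.symm.trans (one_mul _).symm)
    exact ht1 (by rw [g4, he1, one_mul])
  have hhi : ¬ Mon (h⁻¹).1 := fun hh => hhmon (by simpa using hh.inv)
  refine zlemma h5 hn hK htop (K.inv_mem hhK) hhi j0 {i1, i2} (fun l hl => ?_)
    (by rw [Finset.card_pair (Ne.symm hi21)])
  rw [inv_inv, ← show (h.1 *ᵥ Pi.single j0 1) l = h.1 l j0 by rw [mulVec_single_one]; rfl, hcol]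
  simp only [Finset.mem_insert, Finset.mem_singleton] at hl
  rcases hl with rfl | rfl
  · exact hz1
  · exact hz2

omit htop in
/-- Overgroups of the monomial group. -/
theorem le_mons_or_top : K = ⊤ ∨ ∀ g ∈ K, Mon g.1 :=
  or_iff_not_imp_left.2 fun htop g hg => by
    by_contra hm
    exact false_of_not_mon h5 hn hK htop hg hm

end CfsgLib.Classical.MonMax
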