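import Cfsg.Agent.Lib.Classical.LinearBlocks
import Cfsg.Agent.Lib.Classical.MonomialMax
import Cfsg.Prelude.Def_GeometricClasses

set_option autoImplicit false
set_option linter.unusedSectionVars false

/-!
Stabilisers of direct sum decompositions are maximal in `SL_n`.
-/

namespace CfsgLib.Classical.DecompMax

open Matrix CfsgLib.Classical.SLMon
open scoped MatrixGroups

variable {F : Type*} [Field F] [Fintype F]

theorem le_bstab_or_top {t m : ℕ} (ht : 2 ≤ t) (hm : 1 ≤ m) (hn : 6 ≤ t * m)
    (h1 : ¬ (m = 1 ∧ Fintype.card F ≤ 4)) (h2 : ¬ (m = 2 ∧ Fintype.card F = 2))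
    (K : Subgroup (SpecialLinearGroup (Fin t × Fin m) F))
    (hK : LinBlocks.bstab (F := F) (κ := Fin t) (μ := Fin m) ⊆ K) :
    K = ⊤ ∨ (K : Set (SpecialLinearGroup (Fin t × Fin m) F)) ⊆ LinBlocks.bstab := by
  classical
  haveI : Nonempty (Fin t) := ⟨⟨0, by omega⟩⟩
  rcases eq_or_lt_of_le hm with hm1 | hm2
  · subst hm1
    have h5 : 5 ≤ Fintype.card F := by
      by_contra h
      exact h1 ⟨rfl, by omega⟩
    have hiff : ∀ g : SpecialLinearGroup (Fin t × Fin 1) F,
        MonMax.Mon g.1 ↔ g ∈ LinBlocks.bstab (F := F) (κ := Fin t) (μ := Fin 1) := by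
      intro g
      constructor
      · rintro ⟨τ, hτ⟩
        refine ⟨((Equiv.prodUnique (Fin t) (Fin 1)).symm.trans τ).trans
          (Equiv.prodUnique (Fin t) (Fin 1)), fun a b h => ?_⟩
        rw [hτ a b h]
        simp [Equiv.prodUnique, Prod.ext_iff]
        rw [show b = (b.1, (0 : Fin 1)) from Prod.ext rfl (Subsingleton.elim _ _)]
      · rintro ⟨σ, hσ⟩
        exact ⟨σ.prodCongr (Equiv.refl _), fun a b h =>
          Prod.ext (hσ a b h) (Subsingleton.elim _ _)⟩
    rcases MonMax.le_mons_or_top h5 (by simpa using hn) (K := K) (fun g hg => hK ((hiff g).1 hg))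
      with h | h
    · exact Or.inl h
    · exact Or.inr fun g hg => (hiff g).1 (h g hg)
  · haveI : Nontrivial (Fin m) := Fin.nontrivial_iff_two_le.2 hm2
    refine LinBlocks.le_bstab_or_top inferInstance ?_ hK
    rw [Fintype.card_fin, Fintype.card_fin]
    rcases eq_or_lt_of_le (show 2 ≤ m by omega) with e | e
    · subst e
      refine Or.inr ⟨by omega, ?_⟩
      by_contra hc
      push Not at hc
      apply h2
      refine ⟨rfl, ?_⟩
      rw [← Nat.card_eq_fintype_card, Nat.card_eq_two_iff]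
      refine ⟨0, 1, zero_ne_one, Set.eq_univ_of_forall fun c => ?_⟩
      by_cases e : c = 0
      · exact Or.inl e
      · exact Or.inr (hc c e)
    · exact Or.inl e

variable {n : ℕ} {t m : ℕ} {D : Fin t → Submodule F (Fin n → F)}

theorem exists_basis (hD : Cfsg.Geo.IsMDecomposition m D) :
    ∃ B : Module.Basis (Fin t × Fin m) F (Fin n → F),
      ∀ i v, v ∈ D i ↔ ∀ a : Fin t × Fin m, a.1 ≠ i → B.repr v a = 0 := by
  classical
  have hI : DirectSum.IsInternal D :=
    DirectSum.isInternal_submodule_of_iSupIndep_of_iSup_eq_top hD.indep hD.iSup_eq_top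
  let b := hI.collectedBasis fun i => Module.finBasisOfFinrankEq F (D i) (hD.finrank_eq i)
  refine ⟨b.reindex (Equiv.sigmaEquivProd _ _), fun i v => ⟨fun hv a ha => ?_, fun h => ?_⟩⟩
  · rw [Module.Basis.repr_reindex_apply]
    exact hI.collectedBasis_repr_of_mem_ne _ (Ne.symm ha) hv
  · rw [← (b.reindex (Equiv.sigmaEquivProd _ _)).sum_repr v]
    refine Submodule.sum_mem _ fun a _ => ?_
    by_cases ha : a.1 = i
    · refine Submodule.smul_mem _ _ ?_
      rw [Module.Basis.reindex_apply]
      have := hI.collectedBasis_mem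
        (fun i => Module.finBasisOfFinrankEq F (D i) (hD.finrank_eq i)) ⟨a.1, a.2⟩
      subst ha
      exact this
    · rw [h a ha, zero_smul]
      exact zero_mem _

theorem exists_model (hD : Cfsg.Geo.IsMDecomposition m D) :
    t * m = n ∧ ∃ f : SpecialLinearGroup (Fin t × Fin m) F →* GL (Fin n) F, Function.Injective f ∧
      (∀ g, f g ∈ Cfsg.Geo.decompositionStabilizer D ↔
        g ∈ LinBlocks.bstab (F := F) (κ := Fin t) (μ := Fin m)) ∧
      ∀ g, g ∈ Cfsg.Geo.specialLinear (Fin n) F ↔ ∃ s, f s = g := by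
  classical
  obtain ⟨B, hB⟩ := exists_basis hD
  let Φ : Matrix (Fin t × Fin m) (Fin t × Fin m) F ≃ₐ[F] Matrix (Fin n) (Fin n) F :=
    (Matrix.toLinAlgEquiv B).trans LinearMap.toMatrixAlgEquiv'
  have hdet : ∀ A, (Φ A).det = A.det := fun A => by
    show (LinearMap.toMatrix' (Matrix.toLin B B A)).det = _
    rw [LinearMap.det_toMatrix', LinearMap.det_toLin]
  let f : SpecialLinearGroup (Fin t × Fin m) F →* GL (Fin n) F :=
    (Units.map (Φ : Matrix (Fin t × Fin m) (Fin t × Fin m) F →* Matrix (Fin n) (Fin n) F)).comp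
      SpecialLinearGroup.toGL
  have hval : ∀ g : SpecialLinearGroup (Fin t × Fin m) F,
      Matrix.toLin' (f g : Matrix (Fin n) (Fin n) F) = Matrix.toLin B B g.1 := fun g =>
    Matrix.toLin'_toMatrix' (Matrix.toLin B B g.1)
  have hmem : ∀ g, (f g ∈ Cfsg.Geo.decompositionStabilizer D ↔
      g ∈ LinBlocks.bstab (F := F) (κ := Fin t) (μ := Fin m)) := by
    intro g
    have hcol : ∀ a b, B.repr (Matrix.toLin B B g.1 (B b)) a = g.1 a b := fun a b => by
      rw [Matrix.toLin_self, map_sum]
      simp [Finsupp.single_apply]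
    constructor
    · rintro ⟨σ, hσ⟩
      refine ⟨σ, fun a b hab => ?_⟩
      by_contra hne
      apply hab
      rw [← hcol]
      have hb : B b ∈ D b.1 := (hB _ _).2 fun c hc => by
        rw [B.repr_self, Finsupp.single_apply, if_neg]
        exact fun e => hc (by rw [e])
      exact (hB _ _).1 (hσ b.1 ▸ ⟨B b, hb, by rw [hval]⟩) a hne
    · rintro ⟨σ, hσ⟩
      refine ⟨σ, fun i => ?_⟩
      rw [hval]
      refine Submodule.eq_of_le_of_finrank_le ?_ (le_of_eq ?_)
      · rintro _ ⟨v, hv, rfl⟩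
        rw [hB]
        intro a ha
        rw [← B.sum_repr v, map_sum, map_sum, Finsupp.finsetSum_apply]
        refine Finset.sum_eq_zero fun b _ => ?_
        rw [map_smul, map_smul, Finsupp.smul_apply, hcol]
        by_cases e : b.1 = i
        · by_cases e2 : g.1 a b = 0
          · rw [e2, smul_zero]
          · exact absurd (e ▸ hσ a b e2) ha
        · rw [(hB i v).1 hv b e, zero_smul]
      · have hinj : Function.Injective (Matrix.toLin B B g.1) := by
          intro v w e
          have h := congrArg (Matrix.toLin B B (g⁻¹).1) e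
          have key : Matrix.toLin B B (g⁻¹).1 ∘ₗ Matrix.toLin B B g.1 = LinearMap.id := by
            rw [← Matrix.toLin_mul]
            exact (congrArg (Matrix.toLin B B)
              (congrArg Subtype.val (inv_mul_cancel g))).trans (Matrix.toLin_one B)
          exact (LinearMap.congr_fun key v).symm.trans (h.trans (LinearMap.congr_fun key w))
        exact ((hD.finrank_eq (σ i)).trans (hD.finrank_eq i).symm).trans
          (LinearEquiv.finrank_eq (Submodule.equivMapOfInjective _ hinj (D i)))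
  have hrange : ∀ g, g ∈ Cfsg.Geo.specialLinear (Fin n) F ↔ ∃ s, f s = g := by
    intro g
    constructor
    · intro hg
      have hg1 : (g : Matrix (Fin n) (Fin n) F).det = 1 := congrArg Units.val (MonoidHom.mem_ker.1 hg)
      refine ⟨⟨Φ.symm g, by rw [← hdet, Φ.apply_symm_apply, hg1]⟩, Units.ext ?_⟩
      exact Φ.apply_symm_apply _
    · rintro ⟨s, rfl⟩
      exact MonoidHom.mem_ker.2 (Units.ext ((hdet s.1).trans s.2))
  have ht := hD.two_le
  have hnm : t * m = n := by
    have := Module.finrank_eq_card_basis B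
    rw [Module.finrank_fin_fun, Fintype.card_prod, Fintype.card_fin, Fintype.card_fin] at this
    omega
  exact ⟨hnm, f, fun a b e => Subtype.ext (Φ.injective (congrArg Units.val e)), hmem, hrange⟩

theorem isMaximalIn (hn : 6 ≤ n) (hD : Cfsg.Geo.IsMDecomposition m D)
    (h1 : ¬ (m = 1 ∧ Fintype.card F ≤ 4)) (h2 : ¬ (m = 2 ∧ Fintype.card F = 2)) :
    Cfsg.Geo.IsMaximalIn (Cfsg.Geo.specialLinear (Fin n) F)
      (Cfsg.Geo.decompositionStabilizer D ⊓ Cfsg.Geo.specialLinear (Fin n) F) := by
  obtain ⟨hnm, f, -, hmem, hrange⟩ := exists_model hD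
  have ht := hD.two_le
  refine ⟨lt_of_le_not_ge inf_le_right fun hle => ?_, fun M hM hM' => ?_⟩
  · have hm := hD.pos
    let a : Fin t × Fin m := (⟨0, by omega⟩, ⟨0, hm⟩)
    let b : Fin t × Fin m := (⟨1, by omega⟩, ⟨0, hm⟩)
    have hab : a.1 ≠ b.1 := by simp [a, b]
    obtain ⟨σ, hσ⟩ := (hmem (SpecialLinearGroup.transvection
      (show a ≠ b from fun e => hab (by rw [e])) (1 : F))).1 (hle ((hrange _).2 ⟨_, rfl⟩)).1
    have hne : a ≠ b := fun e => hab (by rw [e])
    refine hab ?_
    rw [hσ b b (by simp [SpecialLinearGroup.transvection_coe, Matrix.transvection, Ne.symm hne, hne]),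
      hσ a b (by simp [SpecialLinearGroup.transvection_coe, Matrix.transvection, Ne.symm hne, hne])]
  rcases le_bstab_or_top ht hD.pos (hnm ▸ hn) h1 h2 (M.comap f) (fun g hg =>
      hM ⟨(hmem g).2 hg, (hrange _).2 ⟨g, rfl⟩⟩) with h | h
  · refine Or.inr (le_antisymm hM' fun g hg => ?_)
    obtain ⟨s, rfl⟩ := (hrange g).1 hg
    have : s ∈ M.comap f := h ▸ Subgroup.mem_top s
    exact this
  · refine Or.inl (le_antisymm (fun g hg => ?_) hM)
    obtain ⟨s, rfl⟩ := (hrange g).1 (hM' hg)
    exact ⟨(hmem s).2 (h hg), (hrange _).2 ⟨s, rfl⟩⟩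

end CfsgLib.Classical.DecompMax
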