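import Cfsg.Agent.Lib.Classical.SubspaceStab

set_option autoImplicit false

/-!
The similarity group of a symplectic form is maximal in the special linear group.
-/

namespace CfsgLib.Classical.MinIndex

open Matrix
open scoped MatrixGroups

variable {F : Type*} [Field F] {n : ℕ}

/-- `g` is the transvection `x ↦ x + f(x,u) w`. -/
def IsTr (f : (Fin n → F) → (Fin n → F) → F) (g : SpecialLinearGroup (Fin n) F)
    (w u : Fin n → F) : Prop := ∀ x, app g x = x + f x u • w

/-- The similarities. -/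
def sim (f : (Fin n → F) → (Fin n → F) → F) : Set (SpecialLinearGroup (Fin n) F) :=
  {g | ∃ c : Fˣ, ∀ x y, f (app g x) (app g y) = (c : F) * f x y}

variable {f : (Fin n → F) → (Fin n → F) → F} (hf : Cfsg.Geo.IsSymplecticForm f)

include hf

theorem fs_zero_left (v : Fin n → F) : f 0 v = 0 := by
  simpa using hf.bilinear.smul_left 0 0 v

theorem fs_zero_right (v : Fin n → F) : f v 0 = 0 := by
  simpa using hf.bilinear.smul_right 0 v 0

theorem fs_sub_right (v x y : Fin n → F) : f v (x - y) = f v x - f v y :=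
  eq_sub_of_add_eq (by rw [← hf.bilinear.add_right, sub_add_cancel])

theorem fs_eq_zero {a : Fin n → F} (h : ∀ x, f x a = 0) : a = 0 := by
  by_contra h0
  obtain ⟨x, hx⟩ := (hf.nondegenerate a h0).1
  exact hx (h x)

theorem exists_rep (φ : (Fin n → F) →ₗ[F] F) : ∃ u, ∀ x, f x u = φ x := by
  let L : (Fin n → F) →ₗ[F] Module.Dual F (Fin n → F) :=
    LinearMap.mk₂ F (fun u x => f x u) (fun a b x => hf.bilinear.add_right _ _ _)
      (fun c a x => hf.bilinear.smul_right _ _ _) (fun a x y => hf.bilinear.add_left _ _ _)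
      (fun c a x => hf.bilinear.smul_left _ _ _)
  have hL : Function.Injective L := by
    rw [← LinearMap.ker_eq_bot, Submodule.eq_bot_iff]
    exact fun a ha => fs_eq_zero hf fun x => LinearMap.congr_fun ha x
  obtain ⟨u, hu⟩ :=
    (LinearMap.injective_iff_surjective_of_finrank_eq_finrank Subspace.dual_finrank_eq.symm).1 hL φ
  exact ⟨u, fun x => LinearMap.congr_fun hu x⟩

theorem exists_isTr {w u : Fin n → F} (h : f w u = 0) :
    ∃ g : SpecialLinearGroup (Fin n) F, IsTr f g w u := by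
  let φ : Fin n → F := fun j => f (Pi.single j 1) u
  have hφ : ∀ x, φ ⬝ᵥ x = f x u := fun x => by
    let L : (Fin n → F) →ₗ[F] F :=
      { toFun := fun y => f y u
        map_add' := fun a b => hf.bilinear.add_left _ _ _
        map_smul' := fun c a => hf.bilinear.smul_left _ _ _ }
    show _ = L x
    rw [LinearMap.pi_apply_eq_sum_univ L x, dotProduct]
    refine Finset.sum_congr rfl fun i _ => ?_
    rw [smul_eq_mul, mul_comm]
    congr 1
    show f (Pi.single i 1) u = f _ u
    congr 1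
    funext j
    simp [Pi.single_apply, eq_comm]
  exact ⟨tv w φ (by rw [hφ, h]), fun x => by rw [app_tv, hφ]⟩

theorem f_isTr_self {g : SpecialLinearGroup (Fin n) F} {v : Fin n → F} {c : F}
    (hg : IsTr f g v (c • v)) (x y : Fin n → F) : f (app g x) (app g y) = f x y := by
  rw [hg, hg, hf.bilinear.add_left, hf.bilinear.add_right, hf.bilinear.add_right,
    hf.bilinear.smul_left, hf.bilinear.smul_right, hf.bilinear.smul_right, hf.bilinear.smul_right,
    hf.bilinear.smul_right, hf.bilinear.smul_left, hf.alternating, hf.skew v y]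
  ring

theorem self_mem_sim {g : SpecialLinearGroup (Fin n) F} {v : Fin n → F} {c : F}
    (hg : IsTr f g v (c • v)) : g ∈ sim f := ⟨1, fun x y => by
  rw [Units.val_one, one_mul, f_isTr_self hf hg]⟩

theorem exists_ne_two {a b : Fin n → F} (P : Submodule F (Fin n → F))
    (ha : ∃ z ∈ P, f a z ≠ 0) (hb : ∃ z ∈ P, f b z ≠ 0) : ∃ z ∈ P, f a z ≠ 0 ∧ f b z ≠ 0 := by
  obtain ⟨z, hz, h⟩ := ha
  obtain ⟨z', hz', h'⟩ := hb
  by_cases e : f b z = 0
  · by_cases e' : f a z' = 0
    · exact ⟨z + z', P.add_mem hz hz', by rw [hf.bilinear.add_right, e', add_zero]; exact h,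
        by rw [hf.bilinear.add_right, e, zero_add]; exact h'⟩
    · exact ⟨z', hz', e', h'⟩
  · exact ⟨z, hz, h, e⟩

/-- An isometry mapping `a` to `b`. -/
theorem exists_step {a b : Fin n → F} (h : f a b ≠ 0) :
    ∃ g : SpecialLinearGroup (Fin n) F, (∀ x y, f (app g x) (app g y) = f x y) ∧ app g a = b ∧
      ∀ p, f p a = f p b → app g p = p := by
  obtain ⟨g, hg⟩ := exists_isTr hf (w := b - a) (u := (f a b)⁻¹ • (b - a))
    (by rw [hf.bilinear.smul_right, hf.alternating, mul_zero])
  refine ⟨g, f_isTr_self hf hg, ?_, fun p hp => ?_⟩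
  · rw [hg, hf.bilinear.smul_right, fs_sub_right hf, hf.alternating, sub_zero, inv_mul_cancel₀ h,
      one_smul, add_sub_cancel]
  · rw [hg, hf.bilinear.smul_right, fs_sub_right hf, hp, sub_self, mul_zero, zero_smul, add_zero]

theorem exists_iso_map {a b : Fin n → F} (ha : a ≠ 0) (hb : b ≠ 0) :
    ∃ g : SpecialLinearGroup (Fin n) F, (∀ x y, f (app g x) (app g y) = f x y) ∧ app g a = b := by
  obtain ⟨z, -, h1, h2⟩ := exists_ne_two hf ⊤
    (let ⟨z, hz⟩ := (hf.nondegenerate a ha).2; ⟨z, trivial, hz⟩)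
    (let ⟨z, hz⟩ := (hf.nondegenerate b hb).2; ⟨z, trivial, hz⟩)
  obtain ⟨g, hg, hga, -⟩ := exists_step hf h1
  obtain ⟨g', hg', hgz, -⟩ := exists_step hf (a := z) (b := b)
    (by rw [hf.skew]; exact neg_ne_zero.2 h2)
  exact ⟨g' * g, fun x y => by rw [app_mul, app_mul, hg', hg], by rw [app_mul, hga, hgz]⟩

theorem exists_perp_ne {w a : Fin n → F} (ha : a ∉ Submodule.span F {w}) :
    ∃ z, f w z = 0 ∧ f a z ≠ 0 := by
  obtain ⟨ψ, hψ, hψa⟩ := exists_sep (Submodule.span F {w}) ha
  obtain ⟨z, hz⟩ := exists_rep hf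
    { toFun := fun x => ψ ⬝ᵥ x
      map_add' := fun x y => dotProduct_add _ _ _
      map_smul' := fun c x => by simp [dotProduct_smul] }
  exact ⟨z, (hz w).trans (hψ w (Submodule.mem_span_singleton_self w)),
    by rw [hz a]; show ψ ⬝ᵥ a ≠ 0; rw [hψa]; exact one_ne_zero⟩

theorem exists_iso_map_perp {w a b : Fin n → F} (ha : f w a = 0) (hb : f w b = 0)
    (hai : a ∉ Submodule.span F {w}) (hbi : b ∉ Submodule.span F {w}) :
    ∃ g : SpecialLinearGroup (Fin n) F, (∀ x y, f (app g x) (app g y) = f x y) ∧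
      app g w = w ∧ app g a = b := by
  let P : Submodule F (Fin n → F) :=
    { carrier := {z | f w z = 0}
      add_mem' := fun {x y} hx hy => by
        show f w (x + y) = 0
        rw [hf.bilinear.add_right, show f w x = 0 from hx, show f w y = 0 from hy, add_zero]
      zero_mem' := fs_zero_right hf w
      smul_mem' := fun c x hx => by
        show f w (c • x) = 0
        rw [hf.bilinear.smul_right, show f w x = 0 from hx, mul_zero] }
  obtain ⟨z, hz, h1, h2⟩ := exists_ne_two hf P
    (exists_perp_ne hf hai) (exists_perp_ne hf hbi)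
  obtain ⟨g, hg, hga, hgw⟩ := exists_step hf h1
  obtain ⟨g', hg', hgz, hgw'⟩ := exists_step hf (a := z) (b := b)
    (by rw [hf.skew]; exact neg_ne_zero.2 h2)
  exact ⟨g' * g, fun x y => by rw [app_mul, app_mul, hg', hg],
    by rw [app_mul, hgw w (ha.trans (show f w z = 0 from hz).symm),
      hgw' w ((show f w z = 0 from hz).trans hb.symm)],
    by rw [app_mul, hga, hgz]⟩

theorem isTr_conj {g t : SpecialLinearGroup (Fin n) F}
    (hg : ∀ x y, f (app g x) (app g y) = f x y) {w u : Fin n → F} (ht : IsTr f t w u) :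
    IsTr f (g * t * g⁻¹) (app g w) (app g u) := fun x => by
  rw [app_mul, app_mul, ht, app_add, app_smul, app_inv']
  congr 2
  conv_rhs => rw [← app_inv' g x, hg]

theorem sim_le_or_top (hn : 3 ≤ n) (K : Subgroup (SpecialLinearGroup (Fin n) F)) (hK : sim f ⊆ K) :
    K = ⊤ ∨ (K : Set (SpecialLinearGroup (Fin n) F)) ⊆ sim f := by
  by_cases hR : (K : Set (SpecialLinearGroup (Fin n) F)) ⊆ sim f
  · exact Or.inr hR
  left
  obtain ⟨g, hg, hgs⟩ := Set.not_subset.1 hR
  have himg : ∀ w c, ∃ k ∈ K, ∀ x, app k x = x + (c * f (app g⁻¹ x) (app g⁻¹ w)) • w := by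
    intro w c
    obtain ⟨t, ht⟩ := exists_isTr hf (w := app g⁻¹ w) (u := c • app g⁻¹ w)
      (by rw [hf.bilinear.smul_right, hf.alternating, mul_zero])
    refine ⟨g * t * g⁻¹, K.mul_mem (K.mul_mem hg (hK (self_mem_sim hf ht))) (K.inv_mem hg),
      fun x => ?_⟩
    rw [app_mul, app_mul, ht, app_add, app_smul, app_inv', app_inv', hf.bilinear.smul_right]
  have hU : ∀ w, ∃ u, ∀ x, f x u = f (app g⁻¹ x) (app g⁻¹ w) := fun w => exists_rep hf
    { toFun := fun x => f (app g⁻¹ x) (app g⁻¹ w)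
      map_add' := fun a b => by rw [app_add, hf.bilinear.add_left]
      map_smul' := fun c a => by rw [app_smul, hf.bilinear.smul_left]; rfl }
  choose U hU using hU
  obtain ⟨w, hw⟩ : ∃ w, U w ∉ Submodule.span F {w} := by
    by_contra hc
    push Not at hc
    choose κ hκ using fun w => Submodule.mem_span_singleton.1 (hc w)
    have hUadd : ∀ a b, U (a + b) = U a + U b := fun a b =>
      sub_eq_zero.1 (fs_eq_zero hf fun x => by
        rw [fs_sub_right hf, hf.bilinear.add_right, hU, hU, hU, app_add, hf.bilinear.add_right, sub_self])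
    have hconst : ∀ a b, b ∉ Submodule.span F {a} → a ≠ 0 → κ a = κ b := by
      intro a b hb ha0
      have h := hUadd a b
      rw [← hκ, ← hκ, ← hκ, smul_add] at h
      have e2 : κ (a + b) - κ b = 0 := by
        by_contra e
        refine hb (Submodule.mem_span_singleton.2 ⟨(κ (a + b) - κ b)⁻¹ * (κ a - κ (a + b)), ?_⟩)
        rw [← smul_smul, show (κ a - κ (a + b)) • a = (κ (a + b) - κ b) • b by
          rw [sub_smul, sub_smul, sub_eq_sub_iff_add_eq_add]
          rw [← h]; abel, smul_smul, inv_mul_cancel₀ e, one_smul]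
      have e1 : (κ (a + b) - κ a) • a = 0 := by
        rw [sub_eq_zero] at e2
        rw [← e2] at h
        rw [sub_smul, sub_eq_zero]
        exact add_right_cancel h
      rw [sub_eq_zero.1 ((smul_eq_zero.1 e1).resolve_right ha0)] at e2
      exact sub_eq_zero.1 e2
    have : Nontrivial (Fin n → F) := Function.nontrivial (α := Fin n) (h := ⟨⟨0, by omega⟩⟩)
    obtain ⟨a₀, ha₀⟩ := exists_ne (0 : Fin n → F)
    obtain ⟨b₀, hb₀⟩ : ∃ b, b ∉ Submodule.span F {a₀} := by
      by_contra hc'
      push Not at hc'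
      have h1 := Submodule.finrank_mono
        (show (⊤ : Submodule F (Fin n → F)) ≤ Submodule.span F {a₀} from fun x _ => hc' x)
      rw [finrank_top, Module.finrank_fin_fun, finrank_span_singleton ha₀] at h1
      omega
    have hall : ∀ z, z ≠ 0 → κ z = κ a₀ := by
      intro z hz
      by_cases hzi : z ∈ Submodule.span F {a₀}
      · obtain ⟨t, rfl⟩ := Submodule.mem_span_singleton.1 hzi
        have h1 : b₀ ∉ Submodule.span F {t • a₀} := fun h => hb₀
          ((Submodule.span_singleton_le_iff_mem _ _).2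
            (Submodule.smul_mem _ t (Submodule.mem_span_singleton_self a₀)) h)
        rw [hconst _ b₀ h1 hz, ← hconst a₀ b₀ hb₀ ha₀]
      · exact (hconst a₀ z hzi ha₀).symm
    set κ₀ := κ a₀
    have hform : ∀ x y, f (app g⁻¹ x) (app g⁻¹ y) = κ₀ * f x y := fun x y => by
      by_cases hy : y = 0
      · rw [hy, fs_zero_right hf, mul_zero, show app g⁻¹ (0 : Fin n → F) = 0 from mulVec_zero _,
          fs_zero_right hf]
      rw [← hU, ← hκ, hf.bilinear.smul_right, hall y hy]
    have hκ0 : κ₀ ≠ 0 := fun e => by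
      obtain ⟨x, hx⟩ := (hf.nondegenerate a₀ ha₀).1
      refine hx ?_
      rw [← app_inv g x, ← app_inv g a₀, hform, e, zero_mul]
    refine hgs ⟨(Units.mk0 κ₀ hκ0)⁻¹, fun x y => ?_⟩
    have := hform (app g x) (app g y)
    rw [app_inv, app_inv] at this
    rw [Units.val_inv_eq_inv_val, Units.val_mk0, this, ← mul_assoc, inv_mul_cancel₀ hκ0, one_mul]
  have hw0 : w ≠ 0 := fun e => by
    refine hw ?_
    rw [fs_eq_zero hf (a := U w) fun x => by
      rw [hU, e, show app g⁻¹ (0 : Fin n → F) = 0 from mulVec_zero _, fs_zero_right hf]]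
    exact zero_mem _
  have hwU : f w (U w) = 0 := by rw [hU, hf.alternating]
  -- all transvections
  have hall : ∀ a u, f a u = 0 → ∃ t ∈ K, IsTr f t a u := by
    intro a u hau
    by_cases ha : a = 0
    · subst ha
      exact ⟨1, K.one_mem, fun x => by rw [app_one, smul_zero, add_zero]⟩
    by_cases hu : u ∈ Submodule.span F {a}
    · obtain ⟨c, rfl⟩ := Submodule.mem_span_singleton.1 hu
      obtain ⟨t, ht⟩ := exists_isTr hf hau
      exact ⟨t, hK (self_mem_sim hf ht), ht⟩
    obtain ⟨g₁, hg₁, hg₁w⟩ := exists_iso_map hf hw0 ha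
    have h1 : f a (app g₁ (U w)) = 0 := by rw [← hg₁w, hg₁, hwU]
    have h2 : app g₁ (U w) ∉ Submodule.span F {a} := fun h => by
      obtain ⟨c, hc⟩ := Submodule.mem_span_singleton.1 h
      refine hw (Submodule.mem_span_singleton.2 ⟨c, ?_⟩)
      rw [← app_inv g₁ (U w), ← hc, app_smul, ← hg₁w, app_inv]
    obtain ⟨g₂, hg₂, hg₂a, hg₂u⟩ := exists_iso_map_perp hf h1 hau h2 hu
    obtain ⟨k, hk, hkx⟩ := himg w 1
    have hkt : IsTr f k w (U w) := fun x => by rw [hkx, one_mul, hU]
    have hi : ∀ x y, f (app (g₂ * g₁) x) (app (g₂ * g₁) y) = f x y := fun x y => by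
      rw [app_mul, app_mul, hg₂, hg₁]
    have hG : g₂ * g₁ ∈ K := hK ⟨1, fun x y => by rw [Units.val_one, one_mul, hi]⟩
    refine ⟨_, K.mul_mem (K.mul_mem hG hk) (K.inv_mem hG), ?_⟩
    have := isTr_conj hf hi hkt
    rwa [app_mul, app_mul, hg₁w, hg₂a, hg₂u] at this
  refine eq_top_of_centres (by omega) (eq_top_iff.2 fun a _ φ h => ?_)
  obtain ⟨u, hu⟩ := exists_rep hf
    { toFun := fun x => φ ⬝ᵥ x
      map_add' := fun x y => dotProduct_add _ _ _
      map_smul' := fun c x => by simp [dotProduct_smul] }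
  obtain ⟨t, ht, htx⟩ := hall a u ((hu a).trans h)
  have : t = tv a φ h := ext_app fun x => by rw [htx, app_tv, hu]; rfl
  rwa [← this]

theorem exists_notMem_sim (hn : 3 ≤ n) : ∃ g : SpecialLinearGroup (Fin n) F, g ∉ sim f := by
  have : Nontrivial (Fin n → F) := Function.nontrivial (α := Fin n) (h := ⟨⟨0, by omega⟩⟩)
  obtain ⟨w, hw⟩ := exists_ne (0 : Fin n → F)
  let L : (Fin n → F) →ₗ[F] F :=
    { toFun := fun z => f w z
      map_add' := fun a b => hf.bilinear.add_right _ _ _
      map_smul' := fun c a => hf.bilinear.smul_right _ _ _ }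
  obtain ⟨u, hu, hui⟩ : ∃ u ∈ LinearMap.ker L, u ∉ Submodule.span F {w} := by
    by_contra hc
    push Not at hc
    have h1 := L.finrank_range_add_finrank_ker
    have h2 : Module.finrank F (LinearMap.range L) ≤ 1 :=
      (Submodule.finrank_le _).trans_eq (Module.finrank_self F)
    have h3 := Submodule.finrank_mono (show LinearMap.ker L ≤ Submodule.span F {w} from hc)
    rw [finrank_span_singleton hw] at h3
    rw [Module.finrank_fin_fun] at h1
    omega
  have hwu : f w u = 0 := LinearMap.mem_ker.1 hu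
  obtain ⟨g, hg⟩ := exists_isTr hf hwu
  refine ⟨g, fun ⟨c, hc⟩ => ?_⟩
  have hgw : app g w = w := by rw [hg, hwu, zero_smul, add_zero]
  obtain ⟨y, hy⟩ := (hf.nondegenerate w hw).2
  have hc1 : (c : F) = 1 := by
    have h := hc w y
    rw [hgw, hg, hf.bilinear.add_right, hf.bilinear.smul_right, hf.alternating, mul_zero, add_zero]
      at h
    exact (mul_eq_right₀ hy).1 h.symm
  obtain ⟨x, hxw, hxu⟩ := exists_perp_ne hf hui
  have h := hc x y
  rw [hg, hg, hf.bilinear.add_left, hf.bilinear.add_right, hf.bilinear.add_right,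
    hf.bilinear.smul_left, hf.bilinear.smul_left, hf.bilinear.smul_right, hf.bilinear.smul_right,
    hc1, hf.skew x w, hxw, hf.alternating] at h
  have : f x u * f w y = 0 := by linear_combination h
  rw [hf.skew x u] at this
  exact mul_ne_zero (neg_ne_zero.2 hxu) hy this

omit hf in
theorem mem_similarityGroup_iff (g : SpecialLinearGroup (Fin n) F) :
    (g : GL (Fin n) F) ∈ Cfsg.Geo.similarityGroup f ↔ g ∈ sim f := Iff.rfl

theorem isMaximalIn_sim (hn : 3 ≤ n) :
    Cfsg.Geo.IsMaximalIn (Cfsg.Geo.specialLinear (Fin n) F)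
      (Cfsg.Geo.similarityGroup f ⊓ Cfsg.Geo.specialLinear (Fin n) F) := by
  refine ⟨lt_of_le_not_ge inf_le_right fun h => ?_, fun M hM hM' => ?_⟩
  · obtain ⟨g, hg⟩ := exists_notMem_sim hf hn
    exact hg ((mem_similarityGroup_iff g).1 (h (mem_specialLinear.2 ⟨g, rfl⟩)).1)
  rcases sim_le_or_top hf hn (M.comap SpecialLinearGroup.toGL) (fun g hg =>
      hM ⟨(mem_similarityGroup_iff g).2 hg, mem_specialLinear.2 ⟨g, rfl⟩⟩) with h | h
  · refine Or.inr (le_antisymm hM' fun g hg => ?_)
    obtain ⟨s, rfl⟩ := mem_specialLinear.1 hg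
    have : s ∈ M.comap SpecialLinearGroup.toGL := h ▸ Subgroup.mem_top s
    exact this
  · refine Or.inl (le_antisymm (fun g hg => ?_) hM)
    obtain ⟨s, rfl⟩ := mem_specialLinear.1 (hM' hg)
    exact ⟨(mem_similarityGroup_iff s).2 (h hg), mem_specialLinear.2 ⟨s, rfl⟩⟩

end CfsgLib.Classical.MinIndex
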