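import Cfsg.Agent.Lib.Classical.AschLinear
import Cfsg.Agent.Lib.Classical.DecompMax
import Cfsg.Agent.Lib.Classical.LinearSymp

set_option autoImplicit false
set_option linter.unusedSectionVars false

/-!
The special linear group lies in no member of the classes.
-/

namespace CfsgLib.Asch

open Matrix
open Cfsg.Geo (matrixSet scalars specialLinear tensorProductSubgroup tensorWreathSubgroup tensorWreathStandard
  IsFieldSubalgebra subalgebraNormalizer decompositionStabilizer IsMDecomposition glReindex)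
open CfsgLib.PrimeDim (exists_transvection transvection_mulVec)
open scoped MatrixGroups Kronecker

variable {F : Type*} [Field F] {n : ℕ}

theorem sl_not_le_decomposition [Fintype F] {t m : ℕ} {D : Fin t → Submodule F (Fin n → F)}
    (hD : IsMDecomposition m D) : ¬ specialLinear (Fin n) F ≤ decompositionStabilizer D := by
  intro hle
  obtain ⟨-, f, -, hmem, hrange⟩ := CfsgLib.Classical.DecompMax.exists_model hD
  have ht := hD.two_le
  let a : Fin t × Fin m := (⟨0, by omega⟩, ⟨0, hD.pos⟩)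
  let b : Fin t × Fin m := (⟨1, by omega⟩, ⟨0, hD.pos⟩)
  have hab : a.1 ≠ b.1 := by simp [a, b]
  have hne : a ≠ b := fun e => hab (by rw [e])
  obtain ⟨σ, hσ⟩ := (hmem (SpecialLinearGroup.transvection hne (1 : F))).1 (hle ((hrange _).2 ⟨_, rfl⟩))
  refine hab ?_
  rw [hσ b b (by simp [SpecialLinearGroup.transvection_coe, Matrix.transvection, Ne.symm hne, hne]),
    hσ a b (by simp [SpecialLinearGroup.transvection_coe, Matrix.transvection, Ne.symm hne, hne])]

theorem sl_not_le_normalizer (hn : 3 ≤ n) {r : ℕ} (hr : 2 ≤ r) {K : Subalgebra F (Matrix (Fin n) (Fin n) F)}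
    (hK : IsFieldSubalgebra r K) : ¬ specialLinear (Fin n) F ≤ subalgebraNormalizer K := by
  classical
  intro hle
  haveI : Nonempty (Fin n) := ⟨⟨0, by omega⟩⟩
  set u : Fin n → F := Pi.single ⟨0, by omega⟩ 1
  set φ : Fin n → F := Pi.single ⟨1, by omega⟩ 1
  have hu0 : u ≠ 0 := Pi.single_ne_zero_iff.2 one_ne_zero
  obtain ⟨t, ht, hti, htv⟩ := exists_transvection u φ (by simp [u, φ])
  have key : ∀ k ∈ K, ∃ c : F, k = c • 1 := by
    intro k hk
    have hX : t.val * k * t⁻¹.val - k ∈ K := sub_mem ((hle ht k).1 hk) hk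
    set X := t.val * k * t⁻¹.val - k
    have himg : ∀ v, X *ᵥ v ∈ Submodule.span F ({u, k *ᵥ u} : Set (Fin n → F)) := by
      intro v
      simp only [X, htv, hti, Matrix.sub_mulVec, ← mulVec_mulVec, Matrix.add_mulVec, one_mulVec, vecMulVec_mulVec,
        op_smul_eq_smul, mulVec_sub, mulVec_smul]
      refine (Submodule.mem_span_pair).2 ?_
      exact ⟨φ ⬝ᵥ (k *ᵥ v) - (φ ⬝ᵥ (k *ᵥ u)) * (φ ⬝ᵥ v), -(φ ⬝ᵥ v), by
        module⟩
    have hX0 : X = 0 := by
      by_contra h0
      obtain ⟨Y, -, hY⟩ := hK.inv X hX h0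
      have htop : Submodule.span F ({u, k *ᵥ u} : Set (Fin n → F)) = ⊤ := eq_top_iff.2 fun v _ => by
        have := himg (Y *ᵥ v)
        rwa [mulVec_mulVec, hY, one_mulVec] at this
      have h2 := finrank_span_le_card (R := F) ({u, k *ᵥ u} : Set (Fin n → F))
      rw [htop, finrank_top, Module.finrank_fin_fun] at h2
      have : ({u, k *ᵥ u} : Set (Fin n → F)).toFinset.card ≤ 2 := by
        rw [Set.toFinset_insert, Set.toFinset_singleton]; exact Finset.card_le_two
      omega
    have hcomm : t.val * k = k * t.val := by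
      have e : t.val * k * t⁻¹.val = k := sub_eq_zero.1 hX0
      conv_rhs => rw [← e]
      rw [mul_assoc, Units.inv_mul, mul_one]
    have hv := congrArg (fun A : Matrix (Fin n) (Fin n) F => A *ᵥ φ) hcomm
    simp only [← mulVec_mulVec, transvection_mulVec htv, mulVec_add, mulVec_smul] at hv
    have h1 : φ ⬝ᵥ φ = 1 := by simp [φ]
    rw [h1, one_smul, add_right_inj] at hv
    refine ⟨φ ⬝ᵥ (k *ᵥ φ), sub_eq_zero.1 ?_⟩
    by_contra h0
    obtain ⟨Y, hYK, hY⟩ := hK.inv _ (sub_mem hk (K.smul_mem K.one_mem _)) h0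
    apply hu0
    rw [← one_mulVec u, ← hY, ← hK.comm Y hYK _ (sub_mem hk (K.smul_mem K.one_mem _)), ← mulVec_mulVec,
      sub_mulVec, smul_mulVec, one_mulVec, hv, sub_self, mulVec_zero]
  have h1 : K = ⊥ := by
    refine eq_bot_iff.2 fun k hk => ?_
    obtain ⟨c, rfl⟩ := key k hk
    exact Algebra.mem_bot.2 ⟨c, Algebra.algebraMap_eq_smul_one c⟩
  have := hK.finrank_eq
  rw [h1, Subalgebra.finrank_bot] at this
  omega

theorem sl_not_le_tensor {m t : ℕ} (hm : 2 ≤ m) (ht : 2 ≤ t) (e : Fin n ≃ Fin m × Fin t) (P : GL (Fin n) F) :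
    ¬ specialLinear (Fin n) F ≤ tensorProductSubgroup m t e P := by
  classical
  intro hle
  let a0 : Fin m := ⟨0, by omega⟩
  let a1 : Fin m := ⟨1, by omega⟩
  let b0 : Fin t := ⟨0, by omega⟩
  let b1 : Fin t := ⟨1, by omega⟩
  have ha : a0 ≠ a1 := by simp [a0, a1]
  have hb : b0 ≠ b1 := by simp [b0, b1]
  obtain ⟨g, hg, -, hgv⟩ := exists_transvection (Pi.single (e.symm (a0, b0)) (1 : F))
    (Pi.single (e.symm (a1, b0)) (1 : F)) (by simp [ha])
  obtain ⟨h, ⟨k, ⟨A, C, hk⟩, rfl⟩, hh⟩ :=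
    hle ((MonoidHom.normal_ker (Matrix.GeneralLinearGroup.det : GL (Fin n) F →* Fˣ)).conj_mem g hg P)
  have he : glReindex e.symm k = g := (MulAut.conj P).injective hh
  have hval : ∀ p q, (k : Matrix (Fin m × Fin t) (Fin m × Fin t) F) p q =
      (g : Matrix (Fin n) (Fin n) F) (e.symm p) (e.symm q) := by
    intro p q
    rw [← he]
    simp [glReindex]
  have h00 := hval (a0, b0) (a0, b0)
  have h01 := hval (a0, b0) (a1, b0)
  have h02 := hval (a0, b1) (a1, b1)
  have h03 := hval (a0, b1) (a0, b1)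
  rw [hk, show (g : Matrix (Fin n) (Fin n) F) = _ from hgv] at h00 h01 h02 h03
  simp [vecMulVec_apply, Matrix.one_apply, ha, ha.symm, hb, hb.symm] at h00 h01 h02 h03
  rcases h02 with h02 | h02
  · rw [h02, zero_mul] at h01
    exact zero_ne_one h01
  · rw [h02, mul_zero] at h03
    exact zero_ne_one h03

/-- The vectors that are pure tensors. -/
def pureVecs (F : Type*) [Field F] (m k : ℕ) : Set ((Fin k → Fin m) → F) :=
  {v | ∃ u : Fin k → Fin m → F, ∀ x, v x = ∏ i, u i (x i)}

theorem wreathStandard_pure [Finite F] {m k : ℕ} {g : GL (Fin k → Fin m) F} (hg : g ∈ tensorWreathStandard m k F) :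
    ∀ v ∈ pureVecs F m k, (g : Matrix (Fin k → Fin m) (Fin k → Fin m) F) *ᵥ v ∈ pureVecs F m k := by
  classical
  have key : ∀ g : GL (Fin k → Fin m) F, (Cfsg.Geo.IsPureTensor m k g ∨ Cfsg.Geo.IsFactorPermutation m k g) →
      ∀ v ∈ pureVecs F m k, (g : Matrix (Fin k → Fin m) (Fin k → Fin m) F) *ᵥ v ∈ pureVecs F m k := by
    rintro g (⟨gs, hgs⟩ | ⟨σ, hσ⟩) v ⟨u, hu⟩
    · refine ⟨fun i => (gs i : Matrix (Fin m) (Fin m) F) *ᵥ u i, fun x => ?_⟩
      simp only [mulVec, dotProduct, hgs, hu, ← Finset.prod_mul_distrib]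
      exact (Fintype.prod_sum fun i j => (gs i : Matrix (Fin m) (Fin m) F) (x i) j * u i j).symm
    · refine ⟨fun i => u (σ.symm i), fun x => ?_⟩
      simp only [mulVec, dotProduct, hσ, ite_mul, one_mul, zero_mul, Finset.sum_ite_eq', Finset.mem_univ, if_true, hu]
      rw [← Equiv.prod_comp σ fun i => u (σ.symm i) (x i)]
      simp
  refine Subgroup.closure_induction (p := fun (g : GL (Fin k → Fin m) F) _ => ∀ v ∈ pureVecs F m k,
      (g : Matrix (Fin k → Fin m) (Fin k → Fin m) F) *ᵥ v ∈ pureVecs F m k) (fun g hg => key g hg)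
    (fun v hv => by simpa using hv) (fun a b _ _ ha hb v hv => ?_) (fun a _ ha v hv => ?_) hg
  · rw [Units.val_mul, ← mulVec_mulVec]
    exact ha _ (hb _ hv)
  · haveI : Finite (GL (Fin k → Fin m) F) := Finite.of_injective _ Units.val_injective
    have hpow : ∀ j : ℕ, ((a ^ j : GL (Fin k → Fin m) F) : Matrix (Fin k → Fin m) (Fin k → Fin m) F) *ᵥ v ∈
        pureVecs F m k := fun j => by
      induction j with
      | zero => simpa using hv
      | succ j ih => rw [pow_succ', Units.val_mul, ← mulVec_mulVec]; exact ha _ ih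
    have e : a⁻¹ = a ^ (orderOf a - 1) := inv_eq_of_mul_eq_one_right (by
      rw [← pow_succ', Nat.sub_add_cancel (orderOf_pos a), pow_orderOf_eq_one])
    rw [e]
    exact hpow _

theorem sl_not_le_wreath [Finite F] {m k : ℕ} (hm : 2 ≤ m) (hk : 2 ≤ k) (e : Fin n ≃ (Fin k → Fin m)) (P : GL (Fin n) F) :
    ¬ specialLinear (Fin n) F ≤ tensorWreathSubgroup m k e P := by
  classical
  intro hle
  let a0 : Fin m := ⟨0, by omega⟩
  let a1 : Fin m := ⟨1, by omega⟩
  have ha : a0 ≠ a1 := by simp [a0, a1]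
  let x0 : Fin k → Fin m := fun _ => a0
  let x1 : Fin k → Fin m := fun _ => a1
  have hx : x1 ≠ x0 := fun h => ha (congrFun h ⟨0, by omega⟩).symm
  obtain ⟨g, hg, -, hgv⟩ := exists_transvection (Pi.single (e.symm x1) (1 : F))
    (Pi.single (e.symm x0) (1 : F)) (by simp [hx.symm])
  obtain ⟨h, ⟨w, hw, rfl⟩, hh⟩ :=
    hle ((MonoidHom.normal_ker (Matrix.GeneralLinearGroup.det : GL (Fin n) F →* Fˣ)).conj_mem g hg P)
  have he : glReindex e.symm w = g := (MulAut.conj P).injective hh
  obtain ⟨u, hu⟩ := wreathStandard_pure hw (fun x => if x = x0 then 1 else 0) ⟨fun _ a => if a = a0 then 1 else 0, fun x => by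
    by_cases hx' : x = x0
    · simp [hx', x0]
    · obtain ⟨i, hi⟩ := Function.ne_iff.1 hx'
      show (if x = x0 then (1 : F) else 0) = _
      rw [if_neg hx']
      exact (Finset.prod_eq_zero (Finset.mem_univ i) (by simp [x0] at hi; simp [hi])).symm⟩
  have hwval : ∀ p, ((w : Matrix (Fin k → Fin m) (Fin k → Fin m) F) *ᵥ fun x => if x = x0 then 1 else 0) p =
      (g : Matrix (Fin n) (Fin n) F) (e.symm p) (e.symm x0) := by
    intro p
    rw [← he]
    simp [glReindex, mulVec, dotProduct]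
  simp only [hwval, show (g : Matrix (Fin n) (Fin n) F) = _ from hgv] at hu
  have h0 := hu x0
  have h1 := hu x1
  simp [vecMulVec_apply, Matrix.one_apply, hx, hx.symm] at h0 h1
  let i0 : Fin k := ⟨0, by omega⟩
  let x01 : Fin k → Fin m := Function.update x0 i0 a1
  have hne0 : x01 ≠ x0 := fun h => ha (by simpa [x01, x0] using (congrFun h i0).symm)
  have hne1 : x01 ≠ x1 := fun h => ha (by
    have := congrFun h ⟨1, by omega⟩
    simpa [x01, x0, x1, i0, Function.update_of_ne (show (⟨1, by omega⟩ : Fin k) ≠ i0 by simp [i0])] using this)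
  have h2 := hu x01
  simp [vecMulVec_apply, Matrix.one_apply, hne0, hne1] at h2
  obtain ⟨i, hi⟩ := Finset.prod_eq_zero_iff.1 h2.symm
  by_cases hii : i = i0
  · subst hii
    simp [x01] at hi
    exact one_ne_zero (h1.trans (Finset.prod_eq_zero (Finset.mem_univ i0) hi))
  · simp [x01, Function.update_of_ne hii] at hi
    exact one_ne_zero (h0.trans (Finset.prod_eq_zero (Finset.mem_univ i) hi))

theorem sl_not_le_symp [Finite F] (hn : 3 ≤ n) {f : (Fin n → F) → (Fin n → F) → F}
    (hf : Cfsg.Geo.IsSymplecticForm f) : ¬ specialLinear (Fin n) F ≤ Cfsg.Geo.similarityGroup f := by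
  intro hle
  obtain ⟨g, hg⟩ := CfsgLib.Classical.MinIndex.exists_notMem_sim hf hn
  exact hg ((CfsgLib.Classical.MinIndex.mem_similarityGroup_iff g).1
    (hle (CfsgLib.Classical.MinIndex.mem_specialLinear.2 ⟨g, rfl⟩)))

end CfsgLib.Asch
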