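import Cfsg.Agent.Lib.Classical.AschOrthSimple

set_option autoImplicit false
set_option linter.unusedSectionVars false

/-!
Aschbacher's theorem for subgroups of the commutator subgroup of an orthogonal group in dimension at least five.
-/

namespace CfsgLib.Asch

open Matrix
open Cfsg.Geo (matrixSet scalars ActsIrreducibly ActsAbsolutelyIrreducibly omegaGL)
open CfsgLib.Orth (Nondeg)
open CfsgLib.PrimeDim (Inv Nml)
open scoped MatrixGroups

variable {F : Type*} [Field F] [Fintype F] {n : ℕ} {Q : QuadraticForm F (Fin n → F)}

local notation "τ₁" => RingEquiv.refl F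

/-- The union of the orthogonal classes and the residual class. -/
inductive OrthCases (Q : QuadraticForm F (Fin n → F)) (H : Subgroup (GL (Fin n) F)) : Prop
  | ts : OTSCase Q H → OrthCases Q H
  | point : OPointCase Q H → OrthCases Q H
  | nd : ONDCase Q H → OrthCases Q H
  | decomp : ODecompCase Q H → OrthCases Q H
  | tsPair : OTSPairCase Q H → OrthCases Q H
  | saField : OSAFieldCase Q H → OrthCases Q H
  | conjField : OConjFieldCase Q H → OrthCases Q H
  | symTensor : OSymTensorCase Q H → OrthCases Q H
  | sympTensor : OSympTensorCase Q H → OrthCases Q H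
  | rational : ORationalCase Q H → OrthCases Q H
  | heis : Odd (Fintype.card F) → (∃ k, n = 2 ^ k) → (4 ∣ n → HasHalf Q) → OrthCases Q H
  | symPower : OSymPowerCase Q H → OrthCases Q H
  | sympPower : OSympPowerCase Q H → OrthCases Q H
  | residual : Cfsg.Geo.InOrthogonalResidualClass H → OrthCases Q H

/-- Aschbacher's theorem for the orthogonal group. -/
theorem orth_structure (hB : Nondeg Q) (hn : 5 ≤ n) {H : Subgroup (GL (Fin n) F)} (hH : H ≤ omegaGL ⇑Q) :
    OrthCases Q H := by
  classical
  haveI : Finite (GL (Fin n) F) := Finite.of_injective _ Units.val_injective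
  have hd := orth_data hB
  have hiso := omega_iso hB hH
  by_cases hirr : ActsIrreducibly (matrixSet H)
  swap
  · rcases orth_reducible_cases hB hH hirr with h | h | h
    · exact .ts h
    · exact .point h
    · exact .nd h
  by_cases hall : ∀ K, Nml H K → K ≤ scalars (Fin n) F ∨ ActsAbsolutelyIrreducibly (matrixSet K)
  swap
  · push Not at hall
    obtain ⟨K, hK, hKs, hKa⟩ := hall
    rcases clifford_cases (by omega) hirr hK with h | h | ⟨d, L, hd', hL⟩ | ⟨m, t, ρ, e, P, hm, ht, hT⟩ | h
    · exact absurd h hKs
    · rcases split_form hd hirr hiso hK h with h | h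
      · exact .decomp (ndDecomp_orth hB hH hirr h)
      · exact .tsPair (tsPair_orth hB hn hH hirr h)
    · rcases orth_field hB (by omega) hH hirr hK hd' hL with h | h
      · exact .saField h
      · exact .conjField h
    · rcases orth_tensor hB hn hH hirr hK hm ht hT with h | h | h | h
      · exact .symTensor h
      · exact .sympTensor h
      · exact .tsPair h
      · exact .conjField h
    · exact absurd h hKa
  obtain ⟨N, ⟨hN, hNns⟩, hmin⟩ := (wellFounded_lt (α := Subgroup (GL (Fin n) F))).has_min
    {K | Nml H K ∧ ¬ K ≤ scalars (Fin n) F} ⟨H, Nml.self H, not_le_scalars (by omega) hirr⟩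
  have hmin' : ∀ K, Nml H K → K ≤ N → K ≤ scalars (Fin n) F ∨ K = N := fun K hK hle => by
    by_cases hs : K ≤ scalars (Fin n) F
    · exact Or.inl hs
    · exact Or.inr (eq_of_le_of_not_lt hle fun hlt => hmin K ⟨hK, hs⟩ hlt)
  have habs := (hall N hN).resolve_left hNns
  rcases hmin' _ (nml_commutator hN) (commutator_le_self N) with h | h
  · obtain ⟨r, hr⟩ := exists_heisData (by omega) hN habs hNns hmin' h
    obtain ⟨h1, h2, h3⟩ := orth_heis hB (by omega) hH hr
    exact .heis h1 h2 h3
  · rcases perfect_split (by omega) hN habs hNns hmin' h with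
      ⟨hsimp, hnab, hcent⟩ | ⟨m, k, Mf, ρ, e, P, hm, hk, hcard, hirr', hrep, habs', hMH, hperf, hperm, htrans⟩
    · rcases orth_simple hB (by omega) hH hN habs h hsimp hnab hcent with h | h
      · exact .rational h
      · exact .residual h
    · rcases orth_power hB (by omega) hH hirr hm hk hcard hirr' hrep habs' hMH hperf hperm htrans with h | h
      · exact .symPower h
      · exact .sympPower h

end CfsgLib.Asch
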