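import Cfsg.Agent.Lib.Classical.PrimeDimHermitian

set_option autoImplicit false
set_option linter.unusedSectionVars false

/-!
The maximal subgroups of `SU(n, q)` for an odd prime `n`.
-/

namespace CfsgLib.PrimeDim

open Matrix Cfsg
open Cfsg.Geo (matrixSet scalars specialLinear ActsIrreducibly ActsAbsolutelyIrreducibly)
open CfsgLib.ClassicalAut (Unitary.Conj Unitary.herm_apply)
open CfsgLib.Classical.Herm (h_add_left h_add_right h_smul_left h_smul_right h_zero_left h_zero_right
  h_eq_zero_symm h_ne_zero_symm bar_self h_nondeg h_swap orth Nondeg isCompl_orth nondeg_orth finrank_orth)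
open scoped MatrixGroups

variable {F : Type*} [Field F] [Fintype F] {q : ℕ} {n : ℕ} (K : Unitary.Conj F q)

section

include K

theorem gu_apply {g : GL (Fin n) F} (hg : g ∈ GU n F q) (x y : Fin n → F) :
    hermForm n F q ((g : Matrix (Fin n) (Fin n) F) *ᵥ x) ((g : Matrix (Fin n) (Fin n) F) *ᵥ y) =
      hermForm n F q x y := hg x y

omit K in
/-- Two forms fixed by an absolutely irreducible group are proportional. -/
theorem form_unique {τ : F ≃+* F} {f f' : (Fin n → F) → (Fin n → F) → F} (hf : Sesq τ f)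
    (hadd : ∀ x y v, f' (x + y) v = f' x v + f' y v) (hsmul : ∀ (c : F) (x v : Fin n → F), f' (c • x) v = c * f' x v)
    (hadd' : ∀ v x y, f' v (x + y) = f' v x + f' v y)
    (hsmul' : ∀ (c : F) (v x : Fin n → F), f' v (c • x) = τ c * f' v x)
    {N : Subgroup (GL (Fin n) F)} (habs : ActsAbsolutelyIrreducibly (matrixSet N))
    (hfix : Cfsg.Geo.FixesForm (matrixSet N) f) (hfix' : Cfsg.Geo.FixesForm (matrixSet N) f') :
    ∃ d : F, ∀ u v, f' u v = d * f u v := by
  classical
  let Φ : (Fin n → F) → (Fin n → F) := fun w j => f (Pi.single j 1) w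
  have hdec : ∀ u w, f u w = ∑ j, u j * Φ w j := by
    intro u w
    conv_lhs => rw [pi_eq_sum_univ' u]
    rw [hf.sum_left]
    exact Finset.sum_congr rfl fun j _ => hf.smul_left _ _ _
  have hinj : Function.Injective Φ := by
    intro w w' e
    by_contra hne
    obtain ⟨⟨x, hx⟩, -⟩ := hf.nd (w - w') (sub_ne_zero.2 hne)
    apply hx
    have h2 : f x (w - w' + w') = f x (w - w') + f x w' := hf.add_right _ _ _
    rw [sub_add_cancel, hdec x w, hdec x w', e] at h2
    exact right_eq_add.1 h2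
  have hext : ∀ w w', (∀ u, f u w = f u w') → w = w' := fun w w' e => hinj (funext fun j => e _)
  have hex : ∀ v, ∃ w, ∀ u, f u w = f' u v := by
    intro v
    obtain ⟨w, hw⟩ := (Finite.injective_iff_surjective.1 hinj) fun j => f' (Pi.single j 1) v
    refine ⟨w, fun u => ?_⟩
    rw [hdec u w, hw]
    conv_rhs => rw [pi_eq_sum_univ' u,
      show f' (∑ i, u i • Pi.single i 1) v = ∑ i, f' (u i • Pi.single i 1) v from
        map_sum (AddMonoidHom.mk' (fun x => f' x v) fun a b => hadd a b v) _ _]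
    exact Finset.sum_congr rfl fun j _ => (hsmul _ _ _).symm
  choose M hM using hex
  let L : (Fin n → F) →ₗ[F] (Fin n → F) :=
    { toFun := M
      map_add' := fun v w => hext _ _ fun u => by rw [hM, hadd', hf.add_right, hM, hM]
      map_smul' := fun c v => hext _ _ fun u => by rw [hM, hsmul', RingHom.id_apply, hf.smul_right, hM] }
  obtain ⟨c, hc⟩ := habs.2 (LinearMap.toMatrix' L) (by
    rintro _ ⟨z, hz, rfl⟩
    refine Matrix.toLin'.injective (LinearMap.ext fun v => ?_)
    rw [Matrix.toLin'_mul, Matrix.toLin'_mul, Matrix.toLin'_toMatrix']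
    simp only [LinearMap.comp_apply, Matrix.toLin'_apply]
    refine hext _ _ fun u => ?_
    show f u (M ((z : Matrix (Fin n) (Fin n) F) *ᵥ v)) = f u ((z : Matrix (Fin n) (Fin n) F) *ᵥ M v)
    have h1 := hfix' _ ⟨z, hz, rfl⟩ ((↑z⁻¹ : Matrix (Fin n) (Fin n) F) *ᵥ u) v
    have h2 := hfix _ ⟨z, hz, rfl⟩ ((↑z⁻¹ : Matrix (Fin n) (Fin n) F) *ᵥ u) (M v)
    simp only [mulVec_inv_cancel] at h1 h2
    rw [hM, h2, hM, h1])
  refine ⟨τ c, fun u v => ?_⟩
  have hMc : M v = c • v := by
    have := congrArg (fun X : Matrix (Fin n) (Fin n) F => X *ᵥ v) hc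
    simpa [LinearMap.toMatrix'_mulVec, smul_mulVec, L] using this
  rw [← hM, hMc, hf.smul_right]

theorem herm_fixed {H N : Subgroup (GL (Fin n) F)} (hN : Nml H N) (hH : H ≤ GU n F q) :
    Cfsg.Geo.FixesForm (matrixSet N) (hermForm n F q) := by
  rintro _ ⟨z, hz, rfl⟩ u v
  exact gu_apply K (hH (hN.le hz)) u v

/-- Changing the basis by a scalar. -/
theorem subfieldSubgroup_sc {F₁ : Subfield F} {P h : GL (Fin n) F} (e : Fˣ)
    (h0 : h ∈ Cfsg.Geo.subfieldSubgroup F₁ P) : h ∈ Cfsg.Geo.subfieldSubgroup F₁ (P * sc e) := by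
  obtain ⟨c, hc0, hc⟩ := mem_subfieldSubgroup.1 h0
  refine mem_subfieldSubgroup.2 ⟨c, hc0, ?_⟩
  have : (P * sc e)⁻¹ * h * (P * sc e) = P⁻¹ * h * P := by
    rw [_root_.mul_inv_rev]
    calc (sc e)⁻¹ * P⁻¹ * h * (P * sc e) = (sc e)⁻¹ * ((P⁻¹ * h * P) * sc e) := by simp [mul_assoc]
      _ = _ := by rw [← sc_comm, inv_mul_cancel_left]
  rw [this]
  exact hc

/-- A group realised over a subfield lies in a subfield group compatible with the form. -/
theorem form_rational (hn : n.Prime) (hn2 : n ≠ 2) {H N : Subgroup (GL (Fin n) F)} (hH : H ≤ GU n F q)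
    (hN : Nml H N) (habs : ActsAbsolutelyIrreducibly (matrixSet N)) {F₀ : Subfield F} (hF₀ : F₀ ≠ ⊤)
    (hreal : Cfsg.Geo.RealisableOver F₀ (matrixSet N)) :
    ∃ (F₁ : Subfield F) (r : ℕ) (P : GL (Fin n) F), r.Prime ∧ F₁ ≠ ⊤ ∧
      Fintype.card F = Nat.card F₁ ^ r ∧ Cfsg.Geo.IsFormRationalStructure (hermForm n F q) F₁ 1 P ∧
      (Odd r ∨ r = 2 ∧ Odd q) ∧ H ≤ Cfsg.Geo.subfieldSubgroup F₁ P := by
  classical
  obtain ⟨F₁, r, P, σ, hr, hne, hcard, hfix, hrat, hle⟩ := subfield_data hn.pos hN habs hF₀ hreal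
  haveI : Nonempty (Fin n) := ⟨⟨0, hn.pos⟩⟩
  haveI : Finite F₁ := Finite.of_injective _ Subtype.val_injective
  set Pm : Matrix (Fin n) (Fin n) F := (P : Matrix (Fin n) (Fin n) F)
  let Θ : (Fin n → F) → (Fin n → F) := fun x => Pm *ᵥ fun i => σ.symm (((↑P⁻¹ : Matrix (Fin n) (Fin n) F) *ᵥ x) i)
  have hΘadd : ∀ x y, Θ (x + y) = Θ x + Θ y := fun x y => by
    simp only [Θ, ← mulVec_add]
    congr 1
    funext i
    simp [mulVec_add]
  have hΘsmul : ∀ (c : F) x, Θ (c • x) = σ.symm c • Θ x := fun c x => by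
    simp only [Θ, ← mulVec_smul]
    congr 1
    funext i
    simp [mulVec_smul]
  have hΘN : ∀ z ∈ N, ∀ x, Θ ((z : Matrix (Fin n) (Fin n) F) *ᵥ x) = (z : Matrix (Fin n) (Fin n) F) *ᵥ Θ x := by
    intro z hz x
    set Z : Matrix (Fin n) (Fin n) F := ((P⁻¹ * z * P : GL (Fin n) F) : Matrix (Fin n) (Fin n) F) with hZ
    set w := (↑P⁻¹ : Matrix (Fin n) (Fin n) F) *ᵥ x
    have e1 : (↑P⁻¹ : Matrix (Fin n) (Fin n) F) *ᵥ ((z : Matrix (Fin n) (Fin n) F) *ᵥ x) = Z *ᵥ w := by
      rw [hZ, Units.val_mul, Units.val_mul, ← mulVec_mulVec, ← mulVec_mulVec, mulVec_inv_cancel]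
    have e2 : (z : Matrix (Fin n) (Fin n) F) * Pm = Pm * Z := by
      rw [hZ, Units.val_mul, Units.val_mul, ← mul_assoc, ← mul_assoc, Units.mul_inv, one_mul]
    show Pm *ᵥ _ = (z : Matrix (Fin n) (Fin n) F) *ᵥ (Pm *ᵥ _)
    rw [e1, mulVec_mulVec _ (z : Matrix (Fin n) (Fin n) F) Pm, e2, ← mulVec_mulVec]
    congr 1
    funext i
    show σ.symm (∑ j, Z i j * w j) = ∑ j, Z i j * σ.symm (w j)
    rw [map_sum]
    refine Finset.sum_congr rfl fun j _ => ?_
    rw [map_mul]
    congr 1
    rw [RingEquiv.symm_apply_eq]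
    exact ((hfix _).2 (hrat z hz i j)).symm
  have hΘP : ∀ u : Fin n → F, (∀ i, u i ∈ F₁) → Θ (Pm *ᵥ u) = Pm *ᵥ u := by
    intro u hu
    show Pm *ᵥ _ = _
    rw [inv_mulVec_cancel]
    congr 1
    funext i
    exact (RingEquiv.symm_apply_eq _).2 ((hfix _).2 (hu i)).symm
  let f' : (Fin n → F) → (Fin n → F) → F := fun x y => σ (hermForm n F q (Θ x) (Θ y))
  obtain ⟨d, hd⟩ := form_unique (herm_sesq K) (f' := f')
    (fun x y v => by simp only [f', hΘadd, h_add_left K, map_add])
    (fun c x v => by simp only [f', hΘsmul, h_smul_left K, map_mul, RingEquiv.apply_symm_apply])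
    (fun v x y => by simp only [f', hΘadd, h_add_right K, map_add])
    (fun c v x => by
      simp only [f', hΘsmul, h_smul_right K, map_mul]
      rw [bar_commute K σ, RingEquiv.apply_symm_apply])
    habs (herm_fixed K hN hH) (by
      rintro _ ⟨z, hz, rfl⟩ x y
      simp only [f', hΘN z hz, gu_apply K (hH (hN.le hz))])
  have hval : ∀ u v : Fin n → F, (∀ i, u i ∈ F₁) → (∀ i, v i ∈ F₁) →
      σ (hermForm n F q (Pm *ᵥ u) (Pm *ᵥ v)) = d * hermForm n F q (Pm *ᵥ u) (Pm *ᵥ v) := fun u v hu hv => by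
    rw [← hd]
    simp only [f', hΘP u hu, hΘP v hv]
  have hbarF₁ : ∀ c ∈ F₁, K.bar c ∈ F₁ := fun c hc => by rw [K.bar_apply]; exact pow_mem hc q
  have hsingle : ∀ j : Fin n, ∀ i, (Pi.single j (1 : F) : Fin n → F) i ∈ F₁ := fun j i => by
    by_cases h : i = j
    · subst h; simp [F₁.one_mem]
    · simp [h, F₁.zero_mem]
  have hnd : ∀ w, w ≠ 0 → ∃ i, hermForm n F q (Pm *ᵥ Pi.single i 1) w ≠ 0 := by
    intro w hw
    by_contra hall
    push Not at hall
    obtain ⟨⟨x, hx⟩, -⟩ := (herm_sesq K).nd w hw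
    apply hx
    rw [← mulVec_inv_cancel P x, pi_eq_sum_univ' ((↑P⁻¹ : Matrix (Fin n) (Fin n) F) *ᵥ x)]
    simp only [mulVec_sum, mulVec_smul]
    rw [(herm_sesq K).sum_left]
    exact Finset.sum_eq_zero fun i _ => by rw [h_smul_left K, hall, mul_zero]
  set i₀ : Fin n := ⟨0, hn.pos⟩
  have hP0 : Pm *ᵥ Pi.single i₀ 1 ≠ 0 := fun e => by
    have := congrArg (fun w => (↑P⁻¹ : Matrix (Fin n) (Fin n) F) *ᵥ w) e
    simp only [Pm, inv_mulVec_cancel, mulVec_zero] at this
    exact one_ne_zero (α := F) (by simpa using congrFun this i₀)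
  obtain ⟨k, hkl⟩ := hnd _ hP0
  set a : F := (hermForm n F q (Pm *ᵥ Pi.single k 1) (Pm *ᵥ Pi.single i₀ 1))⁻¹
  have ha0 : a ≠ 0 := inv_ne_zero hkl
  have hd0 : d ≠ 0 := fun e => hkl (σ.injective (by
    rw [hval _ _ (hsingle k) (hsingle i₀), e, zero_mul, map_zero]))
  have harat : ∀ u v : Fin n → F, (∀ i, u i ∈ F₁) → (∀ i, v i ∈ F₁) →
      a * hermForm n F q (Pm *ᵥ u) (Pm *ᵥ v) ∈ F₁ := fun u v hu hv => by
    refine (hfix _).1 ?_
    rw [map_mul, hval u v hu hv, map_inv₀, hval _ _ (hsingle k) (hsingle i₀)]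
    rw [mul_inv, mul_comm d⁻¹, mul_assoc, inv_mul_cancel_left₀ hd0]
  -- the rational form
  let g : (Fin n → F₁) → (Fin n → F₁) → F₁ := fun u v =>
    ⟨a * hermForm n F q (Pm *ᵥ fun i => (u i : F)) (Pm *ᵥ fun i => (v i : F)), harat _ _ (fun i => (u i).2) (fun i => (v i).2)⟩
  have hgadd : ∀ x y v, g (x + y) v = g x v + g y v := fun x y v => Subtype.ext (by
    simp only [g, Subfield.coe_add, Pi.add_apply]
    rw [show (fun i => ((x i : F) + y i)) = (fun i => (x i : F)) + fun i => (y i : F) from rfl, mulVec_add,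
      h_add_left K, mul_add])
  have hgsymm : ∀ u v, (g v u : F) * a⁻¹ = K.bar ((g u v : F) * a⁻¹) := fun u v => by
    simp only [g]
    rw [mul_comm a, mul_inv_cancel_right₀ ha0, mul_comm a, mul_inv_cancel_right₀ ha0]
    exact h_swap K _ _
  have hgnd : ∀ v : Fin n → F₁, v ≠ 0 → ∃ i, g (Pi.single i 1) v ≠ 0 := by
    intro v hv
    have hv' : (Pm *ᵥ fun i => (v i : F)) ≠ 0 := fun e => hv (funext fun i => by
      have := congrFun (congrArg (fun w => (↑P⁻¹ : Matrix (Fin n) (Fin n) F) *ᵥ w) e) i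
      simp only [Pm, inv_mulVec_cancel, mulVec_zero] at this
      exact Subtype.ext this)
    obtain ⟨i, hi⟩ := hnd _ hv'
    refine ⟨i, fun e => hi ?_⟩
    have h := congrArg (Subtype.val) e
    simp only [g] at h
    rw [show (fun j => (((Pi.single i 1 : Fin n → F₁) j : F₁) : F)) = Pi.single i (1 : F) from funext fun j => by
      by_cases hji : j = i
      · subst hji; simp
      · simp [hji]] at h
    exact (mul_eq_zero.1 (by simpa using h)).resolve_left ha0
  have hgsmul : ∀ (c : F₁) x v, g (c • x) v = c * g x v := fun c x v => Subtype.ext (by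
    simp only [g, Subfield.coe_mul, Pi.smul_apply, smul_eq_mul]
    rw [show (fun i => (c : F) * (x i : F)) = (c : F) • fun i => (x i : F) from rfl, mulVec_smul, h_smul_left K]
    ring)
  have hgadd' : ∀ v x y, g v (x + y) = g v x + g v y := fun v x y => Subtype.ext (by
    simp only [g, Subfield.coe_add, Pi.add_apply]
    rw [show (fun i => ((x i : F) + y i)) = (fun i => (x i : F)) + fun i => (y i : F) from rfl, mulVec_add,
      h_add_right K, mul_add])
  have hgsmul' : ∀ (c : F₁) v x, (g v (c • x) : F) = K.bar c * g v x := fun c v x => by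
    simp only [g, Pi.smul_apply, smul_eq_mul, Subfield.coe_mul]
    rw [show (fun i => (c : F) * (x i : F)) = (c : F) • fun i => (x i : F) from rfl, mulVec_smul, h_smul_right K]
    ring
  -- a rational anisotropic vector
  obtain ⟨u₁, hu₁⟩ : ∃ u, g u u ≠ 0 := by
    by_contra hall
    push Not at hall
    have hsw : ∀ u v, g u v + g v u = 0 := fun u v => by
      have h := hall (u + v)
      rw [hgadd, hgadd', hgadd', hall, hall] at h
      linear_combination h
    by_cases hbar : ∀ c ∈ F₁, K.bar c = c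
    · exact no_alternating (F := F₁) (hn.odd_of_ne_two hn2)
        ⟨hgadd, hgsmul, hgadd', fun c v x => Subtype.ext (by rw [hgsmul', hbar c c.2, Subfield.coe_mul])⟩ hall
        fun v hv => by
          obtain ⟨i, hi⟩ := hgnd v hv
          refine ⟨⟨_, hi⟩, Pi.single i 1, fun e => hi ?_⟩
          have := hsw (Pi.single i 1) v
          rwa [e, add_zero] at this
    · push Not at hbar
      obtain ⟨c, hc, hcm⟩ := hbar
      have hv : (Pi.single i₀ 1 : Fin n → F₁) ≠ 0 := Pi.single_ne_zero_iff.2 one_ne_zero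
      obtain ⟨i, hi⟩ := hgnd _ hv
      apply hi
      set x : Fin n → F₁ := Pi.single i 1
      set y : Fin n → F₁ := Pi.single i₀ 1
      have h1 : (g x y : F) + g y x = 0 := by
        rw [← Subfield.coe_add, hsw]; rfl
      have h2 : c * (g x y : F) + K.bar c * g y x = 0 := by
        have h := congrArg Subtype.val (hsw ((⟨c, hc⟩ : F₁) • x) y)
        rw [Subfield.coe_add, hgsmul, hgsmul', Subfield.coe_mul] at h
        exact h
      refine Subtype.ext ((mul_eq_zero.1 (show (c - K.bar c) * (g x y : F) = 0 by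
        linear_combination h2 - K.bar c * h1)).resolve_left (sub_ne_zero.2 (Ne.symm hcm)))
  -- scale to the form itself
  have hs0 : ((g u₁ u₁ : F₁) : F) ≠ 0 := fun e => hu₁ (Subtype.ext e)
  have hsfix : K.bar ((g u₁ u₁ : F) * a⁻¹) = (g u₁ u₁ : F) * a⁻¹ := (hgsymm u₁ u₁).symm
  obtain ⟨e, he⟩ := K.exists_norm ((g u₁ u₁ : F) * a⁻¹)⁻¹ (by rw [map_inv₀, hsfix])
  have he0 : e ≠ 0 := fun h => by
    rw [h, zero_mul] at he
    exact inv_ne_zero (mul_ne_zero hs0 (inv_ne_zero ha0)) he.symm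
  refine ⟨F₁, r, P * sc (Units.mk0 e he0), hr, hne, hcard, fun u v hu hv => ?_, ?_, fun h hh =>
    subfieldSubgroup_sc K _ (hle hh)⟩
  · rw [one_mul, Units.val_mul, ← mulVec_mulVec, ← mulVec_mulVec, sc_mulVec, sc_mulVec, mulVec_smul, mulVec_smul,
      h_smul_left K, h_smul_right K, Units.val_mk0, ← mul_assoc, he, mul_inv, inv_inv, mul_assoc]
    exact F₁.mul_mem (F₁.inv_mem (g u₁ u₁).2) (harat u v hu hv)
  -- the degree
  · by_cases hr2 : r = 2
    swap
    · exact Or.inl (hr.odd_of_ne_two hr2)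
    refine Or.inr ⟨hr2, ?_⟩
    by_contra hqe
    rw [Nat.not_odd_iff_even] at hqe
    haveI := Fintype.ofFinite F₁
    have hF₁q : Nat.card F₁ = q := by
      have h := K.card
      rw [Nat.card_eq_fintype_card, hcard, hr2] at h
      exact Nat.pow_left_injective two_ne_zero h
    have hbar : ∀ c ∈ F₁, K.bar c = c := fun c hc => by
      rw [K.bar_apply, ← hF₁q, Nat.card_eq_fintype_card]
      exact congrArg Subtype.val (FiniteField.pow_card (⟨c, hc⟩ : F₁))
    obtain ⟨p, hp⟩ := CharP.exists F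
    obtain ⟨m, hpp, hm⟩ := FiniteField.card F p
    have hp2 : p = 2 := by
      have h2 : 2 ∣ p ^ (m : ℕ) := by
        rw [← hm, ← Nat.card_eq_fintype_card, K.card]
        exact dvd_pow hqe.two_dvd two_ne_zero
      exact ((Nat.prime_dvd_prime_iff_eq Nat.prime_two hpp).1 (Nat.prime_two.dvd_of_dvd_pow h2)).symm
    subst hp2
    haveI : CharP F₁ 2 := (RingHom.charP_iff F₁.subtype F₁.subtype.injective 2).2 hp
    haveI : Fact (Nat.Prime 2) := ⟨Nat.prime_two⟩
    -- the form is symmetric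
    have hsymm : ∀ u v, g v u = g u v := by
      intro u v
      refine Subtype.ext ?_
      set s := ((g u₁ u₁ : F₁) : F)
      have h1 := hgsymm u v
      rw [map_mul, hbar _ (g u v).2] at h1
      have h3 : K.bar a⁻¹ = a⁻¹ := by
        rw [map_mul, hbar _ (g u₁ u₁).2] at hsfix
        exact mul_left_cancel₀ hs0 hsfix
      rw [h3] at h1
      exact mul_right_cancel₀ (inv_ne_zero ha0) h1
    choose d₁ hd₁ using fun i : Fin n => (PerfectRing.bijective_frobenius (R := F₁) (p := 2)).2 (g (Pi.single i 1) (Pi.single i 1))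
    let Φ : (Fin n → F₁) → (Fin n → F₁) := fun w i => g (Pi.single i 1) w
    have hΦ : Function.Injective Φ := by
      intro w w' e
      by_contra hne
      obtain ⟨i, hi⟩ := hgnd (w - w') (sub_ne_zero.2 hne)
      apply hi
      have h := hgadd' (Pi.single i 1) (w - w') w'
      rw [sub_add_cancel, show g (Pi.single i 1) w = g (Pi.single i 1) w' from congrFun e i] at h
      exact right_eq_add.1 h
    obtain ⟨w, hw⟩ := Finite.injective_iff_surjective.1 hΦ d₁
    have hdiag : ∀ u : Fin n → F₁, g u u = g u w ^ 2 := by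
      have hsingle' : ∀ i (c : F₁), g (Pi.single i c) (Pi.single i c) = g (Pi.single i c) w ^ 2 := by
        intro i c
        have e : (Pi.single i c : Fin n → F₁) = c • Pi.single i 1 := by rw [← Pi.single_smul, smul_eq_mul, mul_one]
        have e2 : g (c • Pi.single i 1) (c • Pi.single i 1) = c * (c * g (Pi.single i 1) (Pi.single i 1)) := by
          rw [hgsmul]
          congr 1
          exact Subtype.ext (by rw [hgsmul', hbar _ c.2, Subfield.coe_mul])
        rw [e, e2, ← hd₁ i, hgsmul, show g (Pi.single i 1) w = d₁ i from congrFun hw i]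
        dsimp only
        ring
      intro u
      have : ∀ t : Finset (Fin n), g (∑ i ∈ t, Pi.single i (u i)) (∑ i ∈ t, Pi.single i (u i)) =
          g (∑ i ∈ t, Pi.single i (u i)) w ^ 2 := by
        intro t
        induction t using Finset.induction_on with
        | empty =>
          have h0 : ∀ v, g 0 v = 0 := fun v => by simpa using hgsmul 0 0 v
          simp [h0]
        | @insert i t hi ih =>
          rw [Finset.sum_insert hi]
          simp only [hgadd, hgadd']
          rw [hsymm (Pi.single i (u i)) (∑ j ∈ t, Pi.single j (u j)), ih, hsingle', add_pow_char]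
          linear_combination (g (Pi.single i (u i)) (∑ j ∈ t, Pi.single j (u j))) * (CharTwo.two_eq_zero : (2 : F₁) = 0)
      simpa [Finset.univ_sum_single] using this Finset.univ
    have hw0 : w ≠ 0 := by
      intro e
      apply hu₁
      rw [hdiag, e]
      have : g u₁ 0 = 0 := Subtype.ext (by
        have h := hgsmul' 0 u₁ 0
        simpa using h)
      rw [this]
      ring
    set w' : Fin n → F := Pm *ᵥ fun i => (w i : F)
    have hw'0 : w' ≠ 0 := fun e => hw0 (funext fun i => by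
      have := congrFun (congrArg (fun z => (↑P⁻¹ : Matrix (Fin n) (Fin n) F) *ᵥ z) e) i
      simp only [w', Pm, inv_mulVec_cancel, mulVec_zero] at this
      exact Subtype.ext this)
    have hfixw : ∀ z ∈ N, (z : Matrix (Fin n) (Fin n) F) *ᵥ w' = w' := by
      intro z hz
      let T : GL (Fin n) F → (Fin n → F₁) → (Fin n → F₁) := fun z u i =>
        ⟨if h : z ∈ N then (((P⁻¹ * z * P : GL (Fin n) F) : Matrix (Fin n) (Fin n) F) *ᵥ fun j => (u j : F)) i else 0, by
          split
          · next h =>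
            show ∑ j, _ * (u j : F) ∈ F₁
            exact sum_mem fun j _ => F₁.mul_mem (hrat z h i j) (u j).2
          · exact F₁.zero_mem⟩
      have hT : ∀ z ∈ N, ∀ u, (Pm *ᵥ fun i => ((T z u i : F₁) : F)) =
          (z : Matrix (Fin n) (Fin n) F) *ᵥ (Pm *ᵥ fun i => (u i : F)) := by
        intro z hz u
        simp only [T, hz, dif_pos]
        rw [Units.val_mul, Units.val_mul, ← mulVec_mulVec, ← mulVec_mulVec, mulVec_inv_cancel]
      have hTg : ∀ z ∈ N, ∀ u v, g (T z u) (T z v) = g u v := fun z hz u v => Subtype.ext (by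
        simp only [g, hT z hz, gu_apply K (hH (hN.le hz))])
      have hTT : ∀ u, T z (T z⁻¹ u) = u := fun u => funext fun i => Subtype.ext (by
        have h := hT z hz (T z⁻¹ u)
        rw [hT z⁻¹ (inv_mem hz), mulVec_inv_cancel] at h
        exact congrFun (mulVec_injective P (by simpa only [Matrix.toLin'_apply] using h)) i)
      have hkey : T z w = w := by
        refine hΦ (funext fun i => ?_)
        show g (Pi.single i 1) (T z w) = g (Pi.single i 1) w
        refine (PerfectRing.bijective_frobenius (R := F₁) (p := 2)).1 ?_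
        dsimp only
        rw [← hdiag]
        conv_lhs => rw [← hTT (Pi.single i 1), hTg z hz, ← hdiag]
        rw [← hTg z hz, hTT]
      rw [← hT z hz w, hkey]
    rcases irreducible_iff.1 habs.1 (Submodule.span F {w'}) (by
      rintro _ ⟨z, hz, rfl⟩ x hx
      obtain ⟨c, rfl⟩ := Submodule.mem_span_singleton.1 hx
      rw [mulVec_smul, hfixw z hz]
      exact Submodule.smul_mem _ _ (Submodule.mem_span_singleton_self _)) with h | h
    · exact hw'0 (Submodule.span_singleton_eq_bot.1 h)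
    · have h1 := finrank_span_singleton (K := F) hw'0
      rw [h, finrank_top, Module.finrank_fin_fun] at h1
      exact hn.ne_one h1

/-- A group fixing the form and a quadratic form is realised over a proper subfield. -/
theorem realisable_of_quad (hn : 1 ≤ n) {H N : Subgroup (GL (Fin n) F)} (hH : H ≤ GU n F q) (hN : Nml H N)
    (habs : ActsAbsolutelyIrreducibly (matrixSet N)) {Q : (Fin n → F) → F}
    (hQ : Cfsg.Geo.IsNondegenerateQuadraticForm Q) (hfix : Cfsg.Geo.FixesQuadForm (matrixSet N) Q) :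
    ∃ F₀ : Subfield F, F₀ ≠ ⊤ ∧ Cfsg.Geo.RealisableOver F₀ (matrixSet N) := by
  classical
  haveI : Nonempty (Fin n) := ⟨⟨0, hn⟩⟩
  let B := QuadraticMap.polar Q
  have hB : Sesq (RingEquiv.refl F) B := Sesq.of_bilinear hQ.polar_bilinear hQ.nondegenerate
  have hBfix : ∀ z ∈ N, ∀ x y, B ((z : Matrix (Fin n) (Fin n) F) *ᵥ x) ((z : Matrix (Fin n) (Fin n) F) *ᵥ y) = B x y :=
    fun z hz x y => by simp only [B, QuadraticMap.polar, ← mulVec_add, hfix _ ⟨z, hz, rfl⟩]
  let M : (Fin n → F) → (Fin n → F) := fun y i => K.bar (B (Pi.single i 1) y)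
  have hM : ∀ x y, hermForm n F q x (M y) = B x y := by
    intro x y
    rw [Unitary.herm_apply K]
    conv_rhs => rw [pi_eq_sum_univ' x, hB.sum_left]
    exact Finset.sum_congr rfl fun i _ => by rw [hB.smul_left]; simp only [M, K.bar_bar]
  have hext : ∀ y y', (∀ x, hermForm n F q x y = hermForm n F q x y') → y = y' := fun y y' e => funext fun i => by
    have h := e (Pi.single i 1)
    rw [Unitary.herm_apply K, Unitary.herm_apply K, Finset.sum_eq_single i (fun k _ hk => by simp [hk]) (by simp),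
      Finset.sum_eq_single i (fun k _ hk => by simp [hk]) (by simp)] at h
    simpa using K.bar.injective (by simpa using h)
  have hMadd : ∀ x y, M (x + y) = M x + M y := fun x y => funext fun i => by
    simp only [M, Pi.add_apply, hB.add_right, map_add]
  have hMsmul : ∀ (c : F) x, M (c • x) = K.bar c • M x := fun c x => funext fun i => by
    simp only [M, Pi.smul_apply, smul_eq_mul, hB.smul_right, RingEquiv.refl_apply, map_mul]
  have hMN : ∀ z ∈ N, ∀ y, M ((z : Matrix (Fin n) (Fin n) F) *ᵥ y) = (z : Matrix (Fin n) (Fin n) F) *ᵥ M y := by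
    intro z hz y
    refine hext _ _ fun x => ?_
    rw [hM, ← mulVec_inv_cancel z x, hBfix z hz, gu_apply K (hH (hN.le hz)), hM]
  let L : (Fin n → F) →ₗ[F] (Fin n → F) :=
    { toFun := fun y => M (M y)
      map_add' := fun x y => by rw [hMadd, hMadd]
      map_smul' := fun c x => by rw [hMsmul, hMsmul, K.bar_bar, RingHom.id_apply] }
  obtain ⟨c, hc⟩ := habs.2 (LinearMap.toMatrix' L) (by
    rintro _ ⟨z, hz, rfl⟩
    refine Matrix.toLin'.injective (LinearMap.ext fun v => ?_)
    rw [Matrix.toLin'_mul, Matrix.toLin'_mul, Matrix.toLin'_toMatrix']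
    simp only [LinearMap.comp_apply, Matrix.toLin'_apply]
    show M (M _) = (z : Matrix (Fin n) (Fin n) F) *ᵥ M (M v)
    rw [hMN z hz, hMN z hz])
  have hMM : ∀ v, M (M v) = c • v := fun v => by
    have := congrArg (fun X : Matrix (Fin n) (Fin n) F => X *ᵥ v) hc
    simpa [LinearMap.toMatrix'_mulVec, smul_mulVec, L] using this
  have hMinj : ∀ v, M v = 0 → v = 0 := by
    intro v hv
    by_contra h0
    obtain ⟨⟨x, hx⟩, -⟩ := hB.nd v h0
    exact hx (by rw [← hM, hv, h_zero_right K])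
  obtain ⟨v₀, hv₀⟩ := exists_ne (0 : Fin n → F)
  have hc0 : c ≠ 0 := fun e => hv₀ (hMinj _ (hMinj _ (by rw [hMM, e, zero_smul])))
  have hcfix : K.bar c = c := by
    have h : M (M (M v₀)) = M (c • v₀) := by rw [hMM v₀]
    rw [hMM, hMsmul] at h
    exact (smul_left_injective F (fun e => hv₀ (hMinj _ e)) h).symm
  obtain ⟨e, he⟩ := K.exists_norm c⁻¹ (by rw [map_inv₀, hcfix])
  let Θ : (Fin n → F) → (Fin n → F) := fun v => e • M v
  have hΘ2 : ∀ v, Θ (Θ v) = v := fun v => by
    simp only [Θ, hMsmul, hMM, smul_smul]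
    rw [← mul_assoc, he, inv_mul_cancel₀ hc0, one_smul]
  have hΘadd : ∀ x y, Θ (x + y) = Θ x + Θ y := fun x y => by simp only [Θ, hMadd, smul_add]
  have hΘsmul : ∀ (a : F) x, Θ (a • x) = K.bar a • Θ x := fun a x => by
    simp only [Θ, hMsmul, smul_smul, mul_comm]
  -- fixed vectors span
  let S : Set (Fin n → F) := {v | Θ v = v}
  have hspan : Submodule.span F S = ⊤ := by
    refine eq_top_iff.2 fun v _ => ?_
    obtain ⟨a, ha⟩ := K.exists_moved
    have h1 : v + Θ v ∈ S := show Θ _ = _ by rw [hΘadd, hΘ2, add_comm]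
    have h2 : a • v + Θ (a • v) ∈ S := show Θ _ = _ by rw [hΘadd, hΘ2, add_comm]
    have e2 : v = (a - K.bar a)⁻¹ • ((a • v + Θ (a • v)) - K.bar a • (v + Θ v)) := by
      rw [hΘsmul, smul_add, add_sub_add_right_eq_sub, ← sub_smul, smul_smul,
        inv_mul_cancel₀ (sub_ne_zero.2 (Ne.symm ha)), one_smul]
    rw [e2]
    exact Submodule.smul_mem _ _ (Submodule.sub_mem _ (Submodule.subset_span h2)
      (Submodule.smul_mem _ _ (Submodule.subset_span h1)))
  obtain ⟨f, hfS, -, hfli⟩ := Submodule.exists_fun_fin_finrank_span_eq F S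
  have hdim : Module.finrank F (Submodule.span F S) = n := by rw [hspan, finrank_top, Module.finrank_fin_fun]
  let f' : Fin n → Fin n → F := f ∘ Fin.cast hdim.symm
  have hf'li : LinearIndependent F f' := hfli.comp _ (Fin.cast_injective _)
  let Bs := basisOfLinearIndependentOfCardEqFinrank hf'li (by simp)
  have hBs : ∀ i, Θ (Bs i) = Bs i := fun i => by
    simp only [Bs, coe_basisOfLinearIndependentOfCardEqFinrank]
    exact hfS _
  refine ⟨RingHom.eqLocusField (K.bar : F →+* F) (RingHom.id F), fun htop => ?_, ?_⟩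
  · obtain ⟨y, hy⟩ := K.exists_moved
    have : y ∈ RingHom.eqLocusField (K.bar : F →+* F) (RingHom.id F) := by rw [htop]; exact Subfield.mem_top y
    exact hy this
  let P₀ : Matrix (Fin n) (Fin n) F := Matrix.of fun i j => Bs j i
  obtain ⟨P, hP⟩ : IsUnit P₀ := by
    rw [← Matrix.linearIndependent_cols_iff_isUnit]
    exact Bs.linearIndependent
  refine ⟨P⁻¹, ?_⟩
  rintro _ ⟨z, hz, rfl⟩ i j
  rw [inv_inv]
  set Z : Matrix (Fin n) (Fin n) F := Matrix.of fun i j => Bs.repr ((z : Matrix (Fin n) (Fin n) F) *ᵥ Bs j) i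
  have hzP : (z : Matrix (Fin n) (Fin n) F) * P₀ = P₀ * Z := Matrix.ext_of_mulVec_single fun j => by
    rw [← mulVec_mulVec, ← mulVec_mulVec, mulVec_single_one, mulVec_single_one]
    show (z : Matrix (Fin n) (Fin n) F) *ᵥ Bs j = P₀ *ᵥ fun i => Bs.repr ((z : Matrix (Fin n) (Fin n) F) *ᵥ Bs j) i
    generalize (z : Matrix (Fin n) (Fin n) F) *ᵥ Bs j = w₀
    conv_lhs => rw [← Bs.sum_repr w₀]
    funext k
    simp only [P₀, mulVec, dotProduct, Finset.sum_apply, Pi.smul_apply, smul_eq_mul, Matrix.of_apply]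
    exact Finset.sum_congr rfl fun i _ => mul_comm _ _
  rw [mul_assoc, hP, hzP, ← hP, ← mul_assoc, Units.inv_mul, one_mul]
  show K.bar (Z i j) = Z i j
  set w := (z : Matrix (Fin n) (Fin n) F) *ᵥ Bs j with hw
  have hΘw : Θ w = w := by
    simp only [Θ, hw, hMN z hz, ← mulVec_smul]
    exact congrArg _ (hBs j)
  have hΘsum : ∀ t : Finset (Fin n), Θ (∑ k ∈ t, Bs.repr w k • Bs k) = ∑ k ∈ t, K.bar (Bs.repr w k) • Bs k := by
    intro t
    induction t using Finset.induction_on with
    | empty => simpa using hΘsmul 0 0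
    | @insert k t hk ih => rw [Finset.sum_insert hk, Finset.sum_insert hk, hΘadd, hΘsmul, hBs, ih]
  have h := hΘsum Finset.univ
  rw [Bs.sum_repr, hΘw] at h
  have h2 := congrArg (fun v => Bs.repr v i) h
  simpa [Z, hw, Finsupp.single_apply] using h2.symm

/-- Groups permuting eigenlines. -/
theorem eigen_unitary (hn : Odd n) (hn2 : 2 ≤ n) {H : Subgroup (GL (Fin n) F)} (hH : H ≤ GU n F q)
    (hirr : ActsIrreducibly (matrixSet H)) (hE : EigenCase H) :
    ∃ D : Fin n → Submodule F (Fin n → F), Cfsg.Geo.IsNondegenerateMDecomposition (hermForm n F q) 1 D ∧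
      H ≤ Cfsg.Geo.decompositionStabilizer D := by
  classical
  obtain ⟨N, χ, hN, hχ, hD, hle⟩ := hE
  have hd : ∀ i, ∃ v ∈ eig N (χ i), v ≠ 0 := fun i => Submodule.exists_mem_ne_zero_of_ne_bot fun e => by
    have := hD.finrank_eq i
    rw [e, finrank_bot] at this
    exact zero_ne_one this
  choose v hv hv0 using hd
  have hli : LinearIndependent F v := iSupIndep.linearIndependent _ hD.indep hv hv0
  haveI : Nonempty (Fin n) := ⟨⟨0, by omega⟩⟩
  let B := basisOfLinearIndependentOfCardEqFinrank hli (by simp)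
  have hB : ∀ i, B i = v i := fun i => by simp [B]
  have hline : ∀ i, ∀ w ∈ eig N (χ i), ∃ a : F, a • v i = w := by
    intro i w hw
    obtain ⟨a, ha⟩ := (finrank_eq_one_iff_of_nonzero' (⟨v i, hv i⟩ : eig N (χ i))
      fun e => hv0 i (congrArg Subtype.val e)).1 (hD.finrank_eq i) ⟨w, hw⟩
    exact ⟨a, congrArg Subtype.val ha⟩
  let G : Fin n → Fin n → F := fun i j => hermForm n F q (v i) (v j)
  have huniq : ∀ i j j', G i j ≠ 0 → G i j' ≠ 0 → j = j' := by
    intro i j j' h h'
    have key : ∀ j, G i j ≠ 0 → ∀ x : N, χ i x * K.bar (χ j x) = 1 := by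
      intro j h x
      have e := gu_apply K (hH (hN.le x.2)) (v i) (v j)
      rw [hv i x, hv j x, h_smul_left K, h_smul_right K, ← mul_assoc] at e
      exact mul_right_cancel₀ h (e.trans (one_mul _).symm)
    refine hχ (funext fun x => K.bar.injective ?_)
    have h1 := key j h x
    have h2 := key j' h' x
    exact mul_left_cancel₀ (fun e => by rw [e, zero_mul] at h1; exact zero_ne_one h1) (h1.trans h2.symm)
  have hex : ∀ i, ∃ j, G i j ≠ 0 := by
    intro i
    by_contra hall
    push Not at hall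
    obtain ⟨⟨x, hx⟩, -⟩ := (herm_sesq K).nd (v i) (hv0 i)
    apply hx
    rw [← B.sum_repr x, (herm_sesq K).sum_left]
    exact Finset.sum_eq_zero fun j _ => by
      rw [h_smul_left K, hB, h_eq_zero_symm K (hall j), mul_zero]
  choose π hπ using hex
  have hinv : ∀ i, π (π i) = i := fun i => huniq (π i) _ _ (hπ (π i)) (h_ne_zero_symm K (hπ i))
  obtain ⟨i₀, hi₀⟩ : ∃ i, π i = i := by
    by_contra hall
    push Not at hall
    have h : (∑ _i : Fin n, (1 : ZMod 2)) = 0 :=
      Finset.sum_involution (fun i _ => π i) (fun i _ => by decide) (fun i _ _ => hall i)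
        (fun i _ => Finset.mem_univ _) fun i _ => hinv i
    rw [Finset.sum_const, Finset.card_univ, Fintype.card_fin, nsmul_eq_mul, mul_one,
      ZMod.natCast_eq_zero_iff] at h
    exact Nat.not_even_iff_odd.2 hn (even_iff_two_dvd.2 h)
  have hall : ∀ i, π i = i := by
    let U : Submodule F (Fin n → F) := Submodule.span F (v '' {i | π i = i})
    have hU : Inv (matrixSet H) U := by
      rintro _ ⟨g, hg, rfl⟩ x hx
      obtain ⟨σ, hσ⟩ := hle hg
      have : U.map (Matrix.toLin' (g : Matrix (Fin n) (Fin n) F)) ≤ U := by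
        rw [Submodule.map_span, Submodule.span_le]
        rintro _ ⟨_, ⟨i, hi, rfl⟩, rfl⟩
        have hm : Matrix.toLin' (g : Matrix (Fin n) (Fin n) F) (v i) ∈ eig N (χ (σ i)) := by
          have h1 := hσ i
          simp only at h1
          rw [← h1]
          exact ⟨v i, hv i, rfl⟩
        obtain ⟨a, ha⟩ := hline _ _ hm
        have hσi : π (σ i) = σ i := by
          refine huniq (σ i) _ _ (hπ (σ i)) ?_
          intro e
          apply hπ i
          rw [show π i = i from hi]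
          have h2 := gu_apply K (hH hg) (v i) (v i)
          rw [← Matrix.toLin'_apply, ← ha, h_smul_left K, h_smul_right K] at h2
          simp only [G] at e ⊢
          rw [← h2, e, mul_zero, mul_zero]
        rw [← ha]
        exact Submodule.smul_mem _ _ (Submodule.subset_span ⟨σ i, hσi, rfl⟩)
      exact this ⟨x, hx, Matrix.toLin'_apply _ _⟩
    rcases irreducible_iff.1 hirr U hU with h | h
    · exact absurd ((Submodule.mem_bot F).1 (h ▸ Submodule.subset_span ⟨i₀, hi₀, rfl⟩)) (hv0 i₀)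
    · intro i
      by_contra hne
      exact hli.notMem_span_image (s := {j | π j = j}) hne (h ▸ Submodule.mem_top : v i ∈ U)
  refine ⟨fun i => eig N (χ i), ⟨hD, fun i w hw hw0 => ?_, fun i j hij x hx y hy => ?_⟩, hle⟩
  · obtain ⟨a, rfl⟩ := hline i w hw
    have hG : G i i ≠ 0 := by have := hπ i; rwa [hall i] at this
    have ha : a ≠ 0 := fun e => hw0 (by rw [e, zero_smul])
    exact ⟨⟨v i, hv i, by rw [h_smul_right K]; exact mul_ne_zero ((map_ne_zero _).2 ha) hG⟩,
      ⟨v i, hv i, by rw [h_smul_left K]; exact mul_ne_zero ha hG⟩⟩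
  · obtain ⟨a, rfl⟩ := hline i x hx
    obtain ⟨b, rfl⟩ := hline j y hy
    have hG : G i j = 0 := by
      by_contra h
      exact hij (((hall i).symm.trans (huniq i _ _ (hπ i) h)))
    simp only [G] at hG
    rw [h_smul_left K, h_smul_right K, hG, mul_zero, mul_zero]

/-- The centraliser of a group of isometries is closed under adjoints. -/
theorem cent_adjoint {H N : Subgroup (GL (Fin n) F)} (hN : Nml H N) (hH : H ≤ GU n F q) :
    Cfsg.Geo.IsAdjointClosedFor (hermForm n F q) (cent (matrixSet N)) := by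
  intro k hk
  let k' : Matrix (Fin n) (Fin n) F := kᵀ.map K.bar
  have hadj : ∀ u v, hermForm n F q (k *ᵥ u) v = hermForm n F q u (k' *ᵥ v) := by
    intro u v
    rw [Unitary.herm_apply K, Unitary.herm_apply K]
    simp only [k', mulVec, dotProduct, map_sum, map_mul, Matrix.map_apply, Matrix.transpose_apply, K.bar_bar,
      Finset.sum_mul, Finset.mul_sum]
    rw [Finset.sum_comm]
    exact Finset.sum_congr rfl fun i _ => Finset.sum_congr rfl fun j _ => by ring
  refine ⟨k', mem_cent.2 ?_, hadj⟩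
  rintro _ ⟨z, hz, rfl⟩
  refine Matrix.toLin'.injective (LinearMap.ext fun v => ?_)
  simp only [Matrix.toLin'_apply, ← mulVec_mulVec]
  refine sub_eq_zero.1 (h_nondeg K fun u => ?_)
  have h := gu_apply K (hH (hN.le hz))
  have hx : ∀ x, hermForm n F q x ((z : Matrix (Fin n) (Fin n) F) *ᵥ (k' *ᵥ v)) =
      hermForm n F q x (k' *ᵥ ((z : Matrix (Fin n) (Fin n) F) *ᵥ v)) := by
    intro x
    rw [← mulVec_inv_cancel z x, h, ← hadj, ← hadj, mulVec_mulVec _ k (z : Matrix (Fin n) (Fin n) F),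
      ← mem_cent.1 hk _ ⟨z, hz, rfl⟩, ← mulVec_mulVec, h]
  apply h_eq_zero_symm K
  rw [CfsgLib.Classical.Herm.h_sub_right K, hx u, sub_self]

/-- The arithmetic of the field of a normal Heisenberg group, in the unitary case. -/
def UFieldData (n p m : ℕ) (F : Type*) [Field F] (q : ℕ) : Prop :=
  p.Prime ∧ CharP F p ∧ q = p ^ m ∧ 0 < m ∧ 2 * m < n ∧ p ^ (2 * m) % n = 1 ∧
    ∀ d, 0 < d → d < 2 * m → p ^ d % n ≠ 1

theorem heis_unitary (hn : n.Prime) (hn2 : n ≠ 2) {H : Subgroup (GL (Fin n) F)} (hH : H ≤ GU n F q)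
    (hHs : H ≤ specialLinear (Fin n) F) (hC : HeisCase H) :
    (∃ (F₁ : Subfield F) (r : ℕ) (P : GL (Fin n) F), r.Prime ∧ F₁ ≠ ⊤ ∧
      Fintype.card F = Nat.card F₁ ^ r ∧ Cfsg.Geo.IsFormRationalStructure (hermForm n F q) F₁ 1 P ∧
      (Odd r ∨ r = 2 ∧ Odd q) ∧ H ≤ Cfsg.Geo.subfieldSubgroup F₁ P) ∨
    (∃ (p m : ℕ) (R : Subgroup (GL (Fin n) F)), UFieldData n p m F q ∧
      Cfsg.Geo.IsSymplecticTypeGroup n R ∧ ActsAbsolutelyIrreducibly (matrixSet R) ∧
      R ≤ specialLinear (Fin n) F ∧ R ≤ GU n F q ∧ Nat.card R = n ^ 3 ∧ Nat.card (Subgroup.center R) = n ∧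
      H ≤ Cfsg.Geo.subgroupNormalizer R) := by
  classical
  obtain ⟨N, c, x, y, v, hN, habs, hprim, -, -, hyn, hli, hb, hgen, hST, hcard, hcen⟩ := hC
  haveI : NeZero n := ⟨hn.ne_zero⟩
  haveI : Fact n.Prime := ⟨hn⟩
  haveI : Nonempty (Fin n) := ⟨0⟩
  let B := basisOfLinearIndependentOfCardEqFinrank hli (by simp)
  have hB : ∀ i : Fin n, B i = ((y ^ (i : ℕ) : GL (Fin n) F) : Matrix (Fin n) (Fin n) F) *ᵥ v := fun i => by simp [B]
  set F₀ : Subfield F := Subfield.closure {(c : F)}
  by_cases hF₀ : F₀ = ⊤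
  swap
  · exact Or.inl (form_rational K hn hn2 hH hN habs hF₀
      (heis_realisable B (heis_monomial (N := N) hyn hb hgen B hB)))
  right
  have hfix : ∀ σ : F →+* F, σ c = c → ∀ a, σ a = a := by
    intro σ hσ a
    have : F₀ ≤ RingHom.eqLocusField σ (RingHom.id F) :=
      Subfield.closure_le.2 (Set.singleton_subset_iff.2 hσ)
    exact this (hF₀ ▸ Subfield.mem_top a)
  obtain ⟨p, hp⟩ := CharP.exists F
  obtain ⟨e, hpp, hq⟩ := FiniteField.card F p
  haveI : Fact p.Prime := ⟨hpp⟩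
  have hord : orderOf c = n := hprim.eq_orderOf.symm
  obtain ⟨m, -, hqm⟩ := (Nat.dvd_prime_pow hpp).1 (show q ∣ p ^ (e : ℕ) from by
    rw [← hq, ← Nat.card_eq_fintype_card, K.card]; exact dvd_pow_self q two_ne_zero)
  have hm : 0 < m := Nat.pos_of_ne_zero fun h => by
    have := K.two_le
    rw [hqm, h, pow_zero] at this
    omega
  have hcardm : Fintype.card F = p ^ (2 * m) := by
    rw [← Nat.card_eq_fintype_card, K.card, hqm, ← pow_mul, mul_comm]
  have hmod : ∀ d, n ∣ p ^ d - 1 ↔ p ^ d % n = 1 := fun d => by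
    rw [← Nat.modEq_iff_dvd' (Nat.one_le_pow d p hpp.pos), Nat.ModEq, Nat.mod_eq_of_lt hn.one_lt, eq_comm]
  have hdvd : n ∣ p ^ (2 * m) - 1 := by
    rw [← hcardm, ← hord, ← Fintype.card_units]
    exact orderOf_dvd_card
  have hmin : ∀ d, 0 < d → d < 2 * m → ¬ n ∣ p ^ d - 1 := by
    intro d hd hde hdn
    have hc : iterateFrobenius F p d c = c := by
      rw [iterateFrobenius_def, ← Nat.sub_add_cancel (Nat.one_le_pow d p hpp.pos), pow_succ,
        ← Units.val_pow_eq_pow_val]
      rw [← hord, orderOf_dvd_iff_pow_eq_one] at hdn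
      rw [hdn, Units.val_one, one_mul]
    obtain ⟨g, hg⟩ := IsCyclic.exists_generator (α := Fˣ)
    have h1 := hfix _ hc g
    rw [iterateFrobenius_def, ← Units.val_pow_eq_pow_val] at h1
    have h1' : g ^ (p ^ d - 1) = 1 := by
      have h' : g ^ p ^ d = g := Units.ext h1
      rw [← Nat.sub_add_cancel (Nat.one_le_pow d p hpp.pos), pow_succ] at h'
      exact mul_eq_right.1 h'
    have h2 := orderOf_dvd_of_pow_eq_one h1'
    rw [orderOf_eq_card_of_forall_mem_zpowers hg, Nat.card_units, Nat.card_eq_fintype_card, hcardm] at h2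
    have hlt : p ^ d < p ^ (2 * m) := Nat.pow_lt_pow_right hpp.one_lt hde
    have h3 : 1 < p ^ d := Nat.one_lt_pow hd.ne' hpp.one_lt
    have := Nat.le_of_dvd (by omega) h2
    omega
  have hnp : n ≠ p := by
    rintro rfl
    have h1 : ((c : F) - 1) ^ n = 0 := by
      rw [sub_pow_char, ← Units.val_pow_eq_pow_val, hprim.pow_eq_one, Units.val_one, one_pow, sub_self]
    have h2 : c = 1 := Units.ext (sub_eq_zero.1 (pow_eq_zero_iff hn.ne_zero |>.1 h1))
    exact hprim.ne_one hn.one_lt h2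
  have hen : 2 * m < n := by
    by_contra hge
    refine hmin (n - 1) (by have := hn.two_le; omega) (by omega) ((hmod _).2 ?_)
    have h := Nat.ModEq.pow_totient ((Nat.coprime_primes hpp hn).2 hnp.symm)
    rw [Nat.totient_prime hn, Nat.ModEq, Nat.mod_eq_of_lt hn.one_lt] at h
    exact h
  refine ⟨p, m, N, ⟨hpp, hp, hqm, hm, hen, (hmod _).1 hdvd, fun d hd hde h => hmin d hd hde ((hmod d).2 h)⟩,
    hST, habs, hN.le.trans hHs, hN.le.trans hH, hcard, hcen, fun h hh => ?_⟩
  refine Subgroup.mem_normalizer_iff.2 fun z => ⟨fun hz => hN.conj h hh z hz, fun hz => ?_⟩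
  have := hN.conj' hh hz
  simpa [mul_assoc] using this

/-- The classes of maximal subgroups of `SU(n, q)`, `n` an odd prime. -/
theorem unitary_cases (hn : n.Prime) (hn2 : n ≠ 2) (hq : 3 ≤ q ∨ 4 ≤ n) {H : Subgroup (GL (Fin n) F)}
    (hH : Cfsg.Geo.IsMaximalIn (SUGL n F q) H) :
    (∃ W : Submodule F (Fin n → F), W ≠ ⊥ ∧ Cfsg.Geo.IsTotallySingularFor (hermForm n F q) W ∧
      H = Cfsg.Geo.subspaceStabilizer W ⊓ SUGL n F q) ∨
    (∃ W : Submodule F (Fin n → F), W ≠ ⊥ ∧ Cfsg.Geo.IsNondegenerateOn (hermForm n F q) W ∧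
      2 * Module.finrank F W < n ∧ H = Cfsg.Geo.subspaceStabilizer W ⊓ SUGL n F q) ∨
    (∃ D : Fin n → Submodule F (Fin n → F), Cfsg.Geo.IsNondegenerateMDecomposition (hermForm n F q) 1 D ∧
      H = Cfsg.Geo.decompositionStabilizer D ⊓ SUGL n F q) ∨
    (∃ A : Subalgebra F (Matrix (Fin n) (Fin n) F), Cfsg.Geo.IsFieldSubalgebra n A ∧
      Cfsg.Geo.IsAdjointClosedFor (hermForm n F q) A ∧ H = Cfsg.Geo.subalgebraNormalizer A ⊓ SUGL n F q) ∨
    (∃ (F₁ : Subfield F) (r : ℕ) (P : GL (Fin n) F), r.Prime ∧ (Odd r ∨ r = 2 ∧ Odd q) ∧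
      Fintype.card F = Nat.card F₁ ^ r ∧ Cfsg.Geo.IsFormRationalStructure (hermForm n F q) F₁ 1 P ∧
      H = Cfsg.Geo.subfieldSubgroup F₁ P ⊓ SUGL n F q) ∨
    (∃ (p m : ℕ) (R : Subgroup (GL (Fin n) F)), UFieldData n p m F q ∧
      Cfsg.Geo.IsSymplecticTypeGroup n R ∧ ActsAbsolutelyIrreducibly (matrixSet R) ∧
      R ≤ GU n F q ∧ Nat.card R = n ^ 3 ∧ Nat.card (Subgroup.center R) = n ∧
      H = Cfsg.Geo.subgroupNormalizer R ⊓ SUGL n F q) ∨
    Cfsg.Geo.InUnitaryResidualClass H := by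
  classical
  have h3 : 3 ≤ n := by have := hn.two_le; omega
  have hodd := hn.odd_of_ne_two hn2
  have hHU : H ≤ GU n F q := hH.1.le.trans inf_le_left
  have hHS : H ≤ specialLinear (Fin n) F := hH.1.le.trans inf_le_right
  have key : ∀ M : Subgroup (GL (Fin n) F), H ≤ M → ¬ SUGL n F q ≤ M → H = M ⊓ SUGL n F q := by
    intro M hle hnot
    rcases hH.2 (M ⊓ SUGL n F q) (le_inf hle hH.1.le) inf_le_right with h | h
    · exact h.symm
    · exact absurd (h.symm.le.trans inf_le_left) hnot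
  by_cases hirr : ActsIrreducibly (matrixSet H)
  swap
  · rw [irreducible_iff] at hirr
    push Not at hirr
    obtain ⟨U, hU, hU0, hU1⟩ := hirr
    obtain ⟨W, hWU, hW, hW0, hWmin⟩ := exists_minimal hU hU0
    have hW1 : W ≠ ⊤ := fun e => hU1 (eq_top_iff.2 (e ▸ hWU))
    have hstab : ∀ W : Submodule F (Fin n → F), Inv (matrixSet H) W → H ≤ Cfsg.Geo.subspaceStabilizer W := by
      intro W hW g hg v
      refine ⟨fun hv => hW _ ⟨g, hg, rfl⟩ v hv, fun hv => ?_⟩
      have := hW _ ⟨g⁻¹, inv_mem hg, rfl⟩ _ hv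
      change (↑g⁻¹ : Matrix (Fin n) (Fin n) F) *ᵥ ((g : Matrix (Fin n) (Fin n) F) *ᵥ v) ∈ W at this
      rwa [inv_mulVec_cancel] at this
    have horth : Inv (matrixSet H) (orth K W) := by
      rintro _ ⟨g, hg, rfl⟩ v hv w hw
      show hermForm n F q w ((g : Matrix (Fin n) (Fin n) F) *ᵥ v) = 0
      rw [← mulVec_inv_cancel g w, gu_apply K (hHU hg)]
      exact hv _ (hW _ ⟨g⁻¹, inv_mem hg, rfl⟩ w hw)
    have hon : ∀ W : Submodule F (Fin n → F), Nondeg (q := q) W →
        Cfsg.Geo.IsNondegenerateOn (hermForm n F q) W := by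
      intro W hW w hw hw0
      obtain ⟨y, hy, h⟩ := hW w hw hw0
      exact ⟨⟨y, hy, h_ne_zero_symm K h⟩, ⟨y, hy, h⟩⟩
    rcases hWmin _ (inv_inf hW horth) inf_le_left with h | h
    · have hnd : Nondeg (q := q) W := by
        intro x hx hx0
        by_contra hc
        push Not at hc
        exact hx0 ((Submodule.eq_bot_iff _).1 h x ⟨hx, fun w hw => h_eq_zero_symm K (hc w hw)⟩)
      have hdim := finrank_orth K hnd
      refine Or.inr (Or.inl ?_)
      by_cases h2 : 2 * Module.finrank F W < n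
      · exact ⟨W, hW0, hon W hnd, h2, key _ (hstab W hW) (sugl_not_le_stab K (by omega) hW0 hW1)⟩
      · have hlt : Module.finrank F W < n := by
          have := Submodule.finrank_lt hW1
          rwa [Module.finrank_fin_fun] at this
        have ho0 : orth K W ≠ ⊥ := fun e => by rw [e, finrank_bot] at hdim; omega
        have ho1 : orth K W ≠ ⊤ := fun e => hW0 ((Submodule.eq_bot_iff _).2 fun x hx =>
          (Submodule.eq_bot_iff _).1 h x ⟨hx, e ▸ Submodule.mem_top⟩)
        refine ⟨orth K W, ho0, hon _ (nondeg_orth K hnd), ?_, key _ (hstab _ horth) (sugl_not_le_stab K (by omega) ho0 ho1)⟩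
        rcases hodd with ⟨k, hk⟩
        omega
    · refine Or.inl ⟨W, hW0, fun u hu v hv => ?_, key _ (hstab W hW) (sugl_not_le_stab K (by omega) hW0 hW1)⟩
      have hv' : v ∈ orth K W := (inf_eq_left.1 h) hv
      exact hv' u hu
  right; right
  have hsub : (∃ (F₁ : Subfield F) (r : ℕ) (P : GL (Fin n) F), r.Prime ∧ F₁ ≠ ⊤ ∧
      Fintype.card F = Nat.card F₁ ^ r ∧ Cfsg.Geo.IsFormRationalStructure (hermForm n F q) F₁ 1 P ∧
      (Odd r ∨ r = 2 ∧ Odd q) ∧ H ≤ Cfsg.Geo.subfieldSubgroup F₁ P) →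
      ∃ (F₁ : Subfield F) (r : ℕ) (P : GL (Fin n) F), r.Prime ∧ (Odd r ∨ r = 2 ∧ Odd q) ∧
        Fintype.card F = Nat.card F₁ ^ r ∧ Cfsg.Geo.IsFormRationalStructure (hermForm n F q) F₁ 1 P ∧
        H = Cfsg.Geo.subfieldSubgroup F₁ P ⊓ SUGL n F q := by
    rintro ⟨F₁, r, P, hr, hne, hcard, hrat, hpar, hle⟩
    exact ⟨F₁, r, P, hr, hpar, hcard, hrat, key _ hle (sugl_not_le_subfield K h3 hne P)⟩
  rcases structure_cases hn hn2 hHS hirr with h | ⟨N, hN, -, hA, hle⟩ | h | ⟨P, hP, habs, hperf, hsimp, hnab, hcent⟩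
  · obtain ⟨D, hD, hle⟩ := eigen_unitary K hodd hn.two_le hHU hirr h
    exact Or.inl ⟨D, hD, key _ hle (sugl_not_le_decomposition K h3 hq hD)⟩
  · exact Or.inr (Or.inl ⟨_, hA, cent_adjoint K hN hHU, key _ hle (sugl_not_le_normalizer K h3 hA)⟩)
  · rcases heis_unitary K hn hn2 hHU hHS h with h | ⟨p, m, R, hfd, hST, habs, hRS, hRU, hcard, hcen, hle⟩
    · exact Or.inr (Or.inr (Or.inl (hsub h)))
    · refine Or.inr (Or.inr (Or.inr (Or.inl ⟨p, m, R, hfd, hST, habs, hRU, hcard, hcen,
        key _ hle (sugl_not_le_subgroupNormalizer K hn hn2 ?_ hRS habs hcard hcen)⟩)))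
      obtain ⟨hp, -, hqm, hm, hlt, hmod, hmin⟩ := hfd
      rcases hodd with ⟨k, hk⟩
      by_cases h5 : 5 ≤ n
      · exact Or.inl h5
      right
      obtain rfl : n = 3 := by omega
      obtain rfl : m = 1 := by omega
      rw [pow_one] at hqm
      subst hqm
      have h1 := hmin 1 one_pos (by norm_num)
      rw [pow_one] at h1
      have h3' : 3 ≤ q := hq.resolve_right (by norm_num)
      by_contra h5'
      interval_cases q <;> simp_all (config := { decide := true })
  · by_cases h1 : ∃ F₀ : Subfield F, F₀ ≠ ⊤ ∧ Cfsg.Geo.RealisableOver F₀ (matrixSet P)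
    · obtain ⟨F₀, hne, hr⟩ := h1
      exact Or.inr (Or.inr (Or.inl (hsub (form_rational K hn hn2 hHU hP habs hne hr))))
    refine Or.inr (Or.inr (Or.inr (Or.inr ⟨P, ⟨hP.le, hP.conj, hperf, hsimp, hnab, hcent, habs,
      fun F₀ hne hr => h1 ⟨F₀, hne, hr⟩⟩, ?_, ?_⟩)))
    · rintro ⟨Q, hQ, hfix⟩
      exact h1 (realisable_of_quad K hn.pos hHU hP habs hQ hfix)
    · rintro ⟨f, hf, -⟩
      exact no_alternating hodd hf.bilinear hf.alternating hf.nondegenerate

end

end CfsgLib.PrimeDim
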