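import Cfsg.Agent.Lib.Classical.PrimeDimOrthBasic
import Cfsg.Agent.Lib.Classical.PrimeDimUnitary

set_option autoImplicit false
set_option linter.unusedSectionVars false

/-!
The maximal subgroups of the commutator subgroup of an orthogonal group of odd prime dimension.
-/

namespace CfsgLib.PrimeDim

open Matrix
open Cfsg.Geo (matrixSet scalars specialLinear ActsIrreducibly ActsAbsolutelyIrreducibly omegaGL)
open CfsgLib.Orth (Grp Nondeg b_comm b_add_left b_add_right b_sub_left b_sub_right b_smul_left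
  b_smul_right b_zero_left b_zero_right b_self b_self_zero q_add q_sub q_smul)
open scoped MatrixGroups

variable {F : Type*} [Field F] [Fintype F] {n : ℕ} {Q : QuadraticForm F (Fin n → F)}

local notation "B" => QuadraticMap.polar (DFunLike.coe Q)

theorem omega_fixed {H N : Subgroup (GL (Fin n) F)} (hN : Nml H N) (hH : H ≤ omegaGL ⇑Q) :
    Cfsg.Geo.FixesForm (matrixSet N) (QuadraticMap.polar ⇑Q) := by
  rintro _ ⟨z, hz, rfl⟩ u v
  exact omegaGL_polar (hH (hN.le hz)) u v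

theorem le_stabilizer_of_inv [Finite F] {H : Subgroup (GL (Fin n) F)} {W : Submodule F (Fin n → F)}
    (hW : Inv (matrixSet H) W) : H ≤ Cfsg.Geo.subspaceStabilizer W := by
  intro g hg v
  refine ⟨hW _ ⟨g, hg, rfl⟩ v, fun h => ?_⟩
  have h' : (↑g⁻¹ : Matrix (Fin n) (Fin n) F) *ᵥ ((g : Matrix (Fin n) (Fin n) F) *ᵥ v) ∈ W :=
    hW _ ⟨g⁻¹, inv_mem hg, rfl⟩ _ h
  rwa [inv_mulVec_cancel] at h'

theorem inv_orth {H : Subgroup (GL (Fin n) F)} (hH : H ≤ omegaGL ⇑Q) {W : Submodule F (Fin n → F)}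
    (hW : Inv (matrixSet H) W) : Inv (matrixSet H) (CfsgLib.Orth.orth Q W) := by
  rintro _ ⟨g, hg, rfl⟩ x hx
  refine CfsgLib.Orth.mem_orth.2 fun w hw => ?_
  rw [← mulVec_inv_cancel g w, omegaGL_polar (hH hg)]
  exact CfsgLib.Orth.mem_orth.1 hx _ (hW _ ⟨g⁻¹, inv_mem hg, rfl⟩ w hw)

theorem nondeg_geo {W : Submodule F (Fin n → F)} (hW : CfsgLib.Orth.NondegOn Q W) :
    Cfsg.Geo.IsNondegenerateOn (QuadraticMap.polar ⇑Q) W := by
  intro w hw hw0
  have h : ∃ y ∈ W, B w y ≠ 0 := by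
    by_contra hc
    push Not at hc
    exact hw0 (hW w hw hc)
  obtain ⟨y, hy, hwy⟩ := h
  exact ⟨⟨y, hy, by rwa [b_comm]⟩, ⟨y, hy, hwy⟩⟩

/-- A reducible group fixes a totally singular or an even-dimensional non-degenerate subspace. -/
theorem orth_reducible (hodd : Odd (Fintype.card F)) (hB : Nondeg Q) (hn : Odd n) (hn5 : 5 ≤ n)
    {H : Subgroup (GL (Fin n) F)} (hH : H ≤ omegaGL ⇑Q) (hred : ¬ ActsIrreducibly (matrixSet H)) :
    (∃ W : Submodule F (Fin n → F), W ≠ ⊥ ∧ W ≠ ⊤ ∧ Cfsg.Geo.IsTotallySingularQuad ⇑Q W ∧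
      H ≤ Cfsg.Geo.subspaceStabilizer W) ∨
    (∃ W : Submodule F (Fin n → F), W ≠ ⊥ ∧ W ≠ ⊤ ∧ Even (Module.finrank F W) ∧
      Cfsg.Geo.IsNondegenerateOn (QuadraticMap.polar ⇑Q) W ∧
      ¬ (Fintype.card F = 3 ∧ Module.finrank F W = 2 ∧ Cfsg.Geo.IsPlusTypeOn ⇑Q W) ∧
      H ≤ Cfsg.Geo.subspaceStabilizer W) := by
  classical
  rw [irreducible_iff] at hred
  push Not at hred
  obtain ⟨W, hW, hW0, hW1⟩ := hred
  have h2 : (2 : F) ≠ 0 := two_ne_zero_of_odd hodd
  by_cases hR : W ⊓ CfsgLib.Orth.orth Q W = ⊥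
  swap
  · refine Or.inl ⟨_, hR, fun e => hW1 (top_unique (e ▸ inf_le_left)), fun w hw => ?_,
      le_stabilizer_of_inv (inv_inf hW (inv_orth hH hW))⟩
    have h := CfsgLib.Orth.mem_orth.1 hw.2 w hw.1
    rw [b_self] at h
    exact (mul_eq_zero.1 h).resolve_left h2
  right
  have hnd : ∀ {W : Submodule F (Fin n → F)}, W ⊓ CfsgLib.Orth.orth Q W = ⊥ → CfsgLib.Orth.NondegOn Q W :=
    fun {W} h x hx hxy => (Submodule.mem_bot F).1 (h ▸ ⟨hx, CfsgLib.Orth.mem_orth.2 fun w hw => by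
      rw [b_comm]; exact hxy w hw⟩)
  -- an even-dimensional choice
  obtain ⟨U, hU, hUnd, hU0, hU1, hUe⟩ : ∃ U, Inv (matrixSet H) U ∧ CfsgLib.Orth.NondegOn Q U ∧ U ≠ ⊥ ∧
      U ≠ ⊤ ∧ Even (Module.finrank F U) := by
    have h := CfsgLib.Orth.finrank_orth hB W
    rw [Module.finrank_fin_fun] at h
    rcases Nat.even_or_odd (Module.finrank F W) with he | ho
    · exact ⟨W, hW, hnd hR, hW0, hW1, he⟩
    · refine ⟨_, inv_orth hH hW, CfsgLib.Orth.nondegOn_orth hB (hnd hR), fun e => hW1 ?_, fun e => hW0 ?_, ?_⟩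
      · rw [e, finrank_bot, add_zero] at h
        exact Submodule.eq_top_of_finrank_eq (by rw [h, Module.finrank_fin_fun])
      · rw [e, finrank_top, Module.finrank_fin_fun] at h
        exact Submodule.finrank_eq_zero.1 (by omega)
      · rw [← h, Nat.odd_add] at hn
        exact hn.1 ho
  by_cases hex : Fintype.card F = 3 ∧ Module.finrank F U = 2 ∧ Cfsg.Geo.IsPlusTypeOn ⇑Q U
  swap
  · exact ⟨U, hU0, hU1, hUe, nondeg_geo hUnd, hex, le_stabilizer_of_inv hU⟩
  obtain ⟨h3, hd2, T, hTU, hT, hTd⟩ := hex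
  obtain ⟨x, hx, hx0⟩ := Submodule.exists_mem_ne_zero_of_ne_bot (show T ≠ ⊥ from fun e => by
    rw [e, finrank_bot, hd2] at hTd
    omega)
  have hxU : x ∈ U := hTU hx
  have hxq : Q x = 0 := hT x hx
  obtain ⟨z, hz, hxz⟩ : ∃ z ∈ U, B x z ≠ 0 := by
    by_contra hc
    push Not at hc
    exact hx0 (hUnd x hxU hc)
  obtain ⟨y, hyU, hyq, hxy⟩ : ∃ y ∈ U, Q y = 0 ∧ B x y = 1 := by
    obtain ⟨z', hz'⟩ : ∃ z', z' = (B x z)⁻¹ • z := ⟨_, rfl⟩
    have hzu : B x z' = 1 := by rw [hz', b_smul_right, inv_mul_cancel₀ hxz]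
    refine ⟨z' - Q z' • x, U.sub_mem (hz' ▸ U.smul_mem _ hz) (U.smul_mem _ hxU), ?_, ?_⟩
    · rw [q_sub, q_smul, hxq, mul_zero, add_zero, b_smul_right, b_comm z' x, hzu, mul_one, sub_self]
    · rw [b_sub_right, b_smul_right, hzu, b_self_zero hxq, mul_zero, sub_zero]
  have hspan : Submodule.span F ({x, y} : Set (Fin n → F)) = U := by
    refine Submodule.eq_of_le_of_finrank_le (Submodule.span_le.2 ?_) ?_
    · rintro w (rfl | rfl) <;> assumption
    · have hli : LinearIndependent F ![x, y] := by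
        rw [LinearIndependent.pair_iff]
        intro s t hst
        have e1 := congrArg (fun w => B x w) hst
        have e2 := congrArg (fun w => B y w) hst
        simp only [b_add_right, b_smul_right, b_zero_right, b_self_zero hxq, b_self_zero hyq, b_comm y x,
          hxy, mul_zero, mul_one, zero_add, add_zero] at e1 e2
        exact ⟨e2, e1⟩
      have h := finrank_span_eq_card hli
      rw [Matrix.range_cons_cons_empty, Fintype.card_fin] at h
      rw [hd2, h]
  -- the line of x + y is fixed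
  have hL : Inv (matrixSet H) (Submodule.span F {x + y}) := by
    rintro _ ⟨g, hg, rfl⟩ w hw
    obtain ⟨c, rfl⟩ := Submodule.mem_span_singleton.1 hw
    rw [mulVec_smul]
    refine Submodule.smul_mem _ _ ?_
    obtain ⟨a, b, hab⟩ := Submodule.mem_span_pair.1 (hspan.symm ▸ hU _ ⟨g, hg, rfl⟩ _ (U.add_mem hxU hyU) :
      (g : Matrix (Fin n) (Fin n) F) *ᵥ (x + y) ∈ Submodule.span F ({x, y} : Set (Fin n → F)))
    have h := omegaGL_apply (hH hg) (x + y)
    rw [← hab, q_add, q_add, q_smul, q_smul, b_smul_left, b_smul_right, hxq, hyq, hxy] at h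
    simp only [mul_zero, zero_add, mul_one] at h
    have hsq : ∀ d : F, d ≠ 0 → d * d = 1 := fun d hd => by
      have := FiniteField.pow_card_sub_one_eq_one d hd
      rw [h3] at this
      rw [← pow_two]
      exact this
    have hb : b = a := by
      have ha : a ≠ 0 := fun e => by rw [e, zero_mul] at h; exact one_ne_zero h.symm
      calc b = (a * a) * b := by rw [hsq a ha, one_mul]
        _ = a := by rw [mul_assoc, h, mul_one]
    rw [← hab, hb, ← smul_add]
    exact Submodule.smul_mem _ _ (Submodule.mem_span_singleton_self _)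
  have hqs : Q (x + y) = 1 := by rw [q_add, hxq, hyq, hxy, zero_add, zero_add]
  have hs0 : x + y ≠ 0 := fun e => by
    rw [e, QuadraticMap.map_zero] at hqs
    exact zero_ne_one hqs
  have hLnd : CfsgLib.Orth.NondegOn Q (Submodule.span F {x + y}) := by
    intro w hw hwy
    obtain ⟨c, rfl⟩ := Submodule.mem_span_singleton.1 hw
    have := hwy _ (Submodule.mem_span_singleton_self _)
    rw [b_smul_left, b_self, hqs, mul_one] at this
    rw [(mul_eq_zero.1 this).resolve_right h2, zero_smul]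
  have hrank := CfsgLib.Orth.finrank_orth hB (Submodule.span F {x + y})
  rw [finrank_span_singleton hs0, Module.finrank_fin_fun] at hrank
  refine ⟨_, fun e => ?_, fun e => ?_, ?_, nondeg_geo (CfsgLib.Orth.nondegOn_orth hB hLnd), fun e => ?_,
    le_stabilizer_of_inv (inv_orth hH hL)⟩
  · rw [e, finrank_bot] at hrank; omega
  · rw [e, finrank_top, Module.finrank_fin_fun] at hrank; omega
  · rw [← hrank, Nat.odd_add] at hn
    exact hn.1 odd_one
  · omega

/-- Groups permuting eigenlines fix an orthogonal frame of isometric lines, or lie in a subfield group. -/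
theorem orth_eigen (hodd : Odd (Fintype.card F)) (hB : Nondeg Q) (hn : Odd n) (hn5 : 5 ≤ n)
    (hgram : ∀ (F₁ : Subfield F) i j, B (Pi.single i 1) (Pi.single j 1) ∈ F₁)
    {H : Subgroup (GL (Fin n) F)} (hH : H ≤ omegaGL ⇑Q) (hirr : ActsIrreducibly (matrixSet H))
    (hE : EigenCase H) :
    ((Fintype.card F).Prime ∧ ∃ D : Fin n → Submodule F (Fin n → F),
      Cfsg.Geo.IsOrthogonalMDecomposition ⇑Q 1 D ∧ H ≤ Cfsg.Geo.decompositionStabilizer D) ∨
    (∃ (F₁ : Subfield F) (r : ℕ) (P : GL (Fin n) F), r.Prime ∧ F₁ ≠ ⊤ ∧ Fintype.card F = Nat.card F₁ ^ r ∧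
      Cfsg.Geo.IsQuadFormRationalStructure ⇑Q F₁ P ∧ H ≤ Cfsg.Geo.subfieldSubgroup F₁ P) := by
  classical
  have h2 : (2 : F) ≠ 0 := two_ne_zero_of_odd hodd
  obtain ⟨N, χ, hN, hχ, hD, hle⟩ := hE
  have hd : ∀ i, ∃ v ∈ eig N (χ i), v ≠ 0 := fun i => Submodule.exists_mem_ne_zero_of_ne_bot fun e => by
    have := hD.finrank_eq i
    rw [e, finrank_bot] at this
    exact zero_ne_one this
  choose v hv hv0 using hd
  have hli : LinearIndependent F v := iSupIndep.linearIndependent _ hD.indep hv hv0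
  haveI : Nonempty (Fin n) := ⟨⟨0, by omega⟩⟩
  let C := basisOfLinearIndependentOfCardEqFinrank hli (by simp)
  have hC : ∀ i, C i = v i := fun i => by simp [C]
  have hline : ∀ i, ∀ w ∈ eig N (χ i), ∃ a : F, a • v i = w := by
    intro i w hw
    obtain ⟨a, ha⟩ := (finrank_eq_one_iff_of_nonzero' (⟨v i, hv i⟩ : eig N (χ i))
      fun e => hv0 i (congrArg Subtype.val e)).1 (hD.finrank_eq i) ⟨w, hw⟩
    exact ⟨a, congrArg Subtype.val ha⟩
  let G : Fin n → Fin n → F := fun i j => B (v i) (v j)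
  have huniq : ∀ i j j', G i j ≠ 0 → G i j' ≠ 0 → j = j' := by
    intro i j j' h h'
    have key : ∀ j, G i j ≠ 0 → ∀ x : N, χ i x * χ j x = 1 := by
      intro j h x
      have e := omegaGL_polar (hH (hN.le x.2)) (v i) (v j)
      rw [hv i x, hv j x, b_smul_left, b_smul_right, ← mul_assoc] at e
      exact mul_right_cancel₀ h (e.trans (one_mul _).symm)
    refine hχ (funext fun x => ?_)
    have h1 := key j h x
    have h2 := key j' h' x
    exact mul_left_cancel₀ (fun e => by rw [e, zero_mul] at h1; exact zero_ne_one h1) (h1.trans h2.symm)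
  have hex : ∀ i, ∃ j, G i j ≠ 0 := by
    intro i
    by_contra hall
    push Not at hall
    obtain ⟨⟨x, hx⟩, -⟩ := (polar_sesq hB).nd (v i) (hv0 i)
    apply hx
    rw [← C.sum_repr x, (polar_sesq hB).sum_left]
    exact Finset.sum_eq_zero fun j _ => by
      rw [b_smul_left, hC, b_comm, show B (v i) (v j) = 0 from hall j, mul_zero]
  choose π hπ using hex
  have hinv : ∀ i, π (π i) = i := fun i => huniq (π i) _ _ (hπ (π i)) (by
    show B (v (π i)) (v i) ≠ 0
    rw [b_comm]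
    exact hπ i)
  obtain ⟨i₀, hi₀⟩ : ∃ i, π i = i := by
    by_contra hall
    push Not at hall
    have h : (∑ _i : Fin n, (1 : ZMod 2)) = 0 :=
      Finset.sum_involution (fun i _ => π i) (fun i _ => by decide) (fun i _ _ => hall i)
        (fun i _ => Finset.mem_univ _) fun i _ => hinv i
    rw [Finset.sum_const, Finset.card_univ, Fintype.card_fin, nsmul_eq_mul, mul_one,
      ZMod.natCast_eq_zero_iff] at h
    exact Nat.not_even_iff_odd.2 hn (even_iff_two_dvd.2 h)
  have hmono : ∀ g ∈ H, ∃ σ : Equiv.Perm (Fin n), ∀ i, ∃ a : F, a ≠ 0 ∧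
      (g : Matrix (Fin n) (Fin n) F) *ᵥ v i = a • v (σ i) := by
    intro g hg
    obtain ⟨σ, hσ⟩ := hle hg
    refine ⟨σ, fun i => ?_⟩
    have hm : Matrix.toLin' (g : Matrix (Fin n) (Fin n) F) (v i) ∈ eig N (χ (σ i)) := by
      have h1 := hσ i
      simp only at h1
      rw [← h1]
      exact ⟨v i, hv i, rfl⟩
    obtain ⟨a, ha⟩ := hline _ _ hm
    rw [Matrix.toLin'_apply] at ha
    refine ⟨a, fun e => hv0 i ?_, ha.symm⟩
    rw [e, zero_smul] at ha
    rw [← inv_mulVec_cancel g (v i), ← ha, mulVec_zero]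
  -- invariant sets of lines
  have hwhole : ∀ p : Fin n → Prop, (∃ i, p i) →
      (∀ g ∈ H, ∀ i, p i → ∀ j (a : F), a ≠ 0 → (g : Matrix (Fin n) (Fin n) F) *ᵥ v i = a • v j → p j) →
      ∀ i, p i := by
    intro p ⟨i₁, hi₁⟩ hp
    let U : Submodule F (Fin n → F) := Submodule.span F (v '' {i | p i})
    have hU : Inv (matrixSet H) U := by
      rintro _ ⟨g, hg, rfl⟩ x hx
      obtain ⟨σ, hσ⟩ := hmono g hg
      have : U.map (Matrix.toLin' (g : Matrix (Fin n) (Fin n) F)) ≤ U := by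
        rw [Submodule.map_span, Submodule.span_le]
        rintro _ ⟨_, ⟨i, hi, rfl⟩, rfl⟩
        obtain ⟨a, ha0, ha⟩ := hσ i
        rw [Matrix.toLin'_apply, ha]
        exact Submodule.smul_mem _ _ (Submodule.subset_span ⟨σ i, hp g hg i hi _ a ha0 ha, rfl⟩)
      exact this ⟨x, hx, Matrix.toLin'_apply _ _⟩
    rcases irreducible_iff.1 hirr U hU with h | h
    · exact absurd ((Submodule.mem_bot F).1 (h ▸ Submodule.subset_span ⟨i₁, hi₁, rfl⟩)) (hv0 i₁)
    · intro i
      by_contra hne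
      exact hli.notMem_span_image (s := {j | p j}) hne (h ▸ Submodule.mem_top : v i ∈ U)
  have hall : ∀ i, π i = i := hwhole (fun i => π i = i) ⟨i₀, hi₀⟩ fun g hg i hi j a ha0 ha => by
    refine huniq j _ _ (hπ j) fun e => hπ i ?_
    rw [hi]
    have h := omegaGL_polar (hH hg) (v i) (v i)
    rw [ha, b_smul_left, b_smul_right, show B (v j) (v j) = 0 from e, mul_zero, mul_zero] at h
    exact h.symm
  have hQ0 : ∀ i, Q (v i) ≠ 0 := fun i e => hπ i (by
    rw [hall i]
    show B (v i) (v i) = 0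
    rw [b_self, e, mul_zero])
  have horth : ∀ i j, i ≠ j → B (v i) (v j) = 0 := fun i j hij => by
    by_contra h
    exact hij ((hall i).symm.trans (huniq i _ _ (hπ i) h))
  -- the norms are in one square class
  have hsq : ∀ i, ∃ b : F, b ≠ 0 ∧ Q (v i) = b * b * Q (v i₀) :=
    hwhole _ ⟨i₀, 1, one_ne_zero, by rw [one_mul, one_mul]⟩ fun g hg i ⟨b, hb0, hb⟩ j a ha0 ha => by
      refine ⟨b / a, div_ne_zero hb0 ha0, ?_⟩
      have h := omegaGL_apply (hH hg) (v i)
      rw [ha, q_smul, hb] at h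
      field_simp
      linear_combination h
  choose b hb0 hb using hsq
  by_cases hprime : (Fintype.card F).Prime
  · refine Or.inl ⟨hprime, fun i => eig N (χ i), ⟨⟨hD, fun i w hw hw0 => ?_, fun i j hij x hx y hy => ?_⟩,
      fun i j => ?_⟩, hle⟩
    · obtain ⟨a, rfl⟩ := hline i w hw
      have ha : a ≠ 0 := fun e => hw0 (by rw [e, zero_smul])
      have hne : B (v i) (v i) ≠ 0 := by rw [b_self]; exact mul_ne_zero h2 (hQ0 i)
      exact ⟨⟨v i, hv i, by rw [b_smul_right]; exact mul_ne_zero ha hne⟩,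
        ⟨v i, hv i, by rw [b_smul_left]; exact mul_ne_zero ha hne⟩⟩
    · obtain ⟨a, rfl⟩ := hline i x hx
      obtain ⟨c, rfl⟩ := hline j y hy
      rw [b_smul_left, b_smul_right, horth i j hij, mul_zero, mul_zero]
    · have hspan : ∀ k, eig N (χ k) = F ∙ v k := fun k => le_antisymm
        (fun w hw => by
          obtain ⟨a, rfl⟩ := hline k w hw
          exact Submodule.smul_mem _ _ (Submodule.mem_span_singleton_self _))
        ((Submodule.span_singleton_le_iff_mem _ _).2 (hv k))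
      rw [hspan i, hspan j]
      have hji : (b i / b j) • v j ≠ 0 := smul_ne_zero (div_ne_zero (hb0 i) (hb0 j)) (hv0 j)
      refine ⟨(LinearEquiv.toSpanNonzeroSingleton F _ _ (hv0 i)).symm.trans
        ((LinearEquiv.toSpanNonzeroSingleton F _ _ hji).trans (LinearEquiv.ofEq _ _
          (Submodule.span_singleton_smul_eq (div_ne_zero (hb0 i) (hb0 j)).isUnit (v j)))), fun w => ?_⟩
      obtain ⟨c, rfl⟩ := (LinearEquiv.toSpanNonzeroSingleton F _ _ (hv0 i)).surjective w
      rw [LinearEquiv.trans_apply, LinearEquiv.symm_apply_apply]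
      simp only [LinearEquiv.trans_apply, LinearEquiv.toSpanNonzeroSingleton_apply, LinearEquiv.coe_ofEq_apply]
      rw [q_smul, q_smul, q_smul, hb i, hb j]
      field_simp [hb0 j]
  right
  obtain ⟨p, hp⟩ := CharP.exists F
  obtain ⟨k, hpp, -⟩ := FiniteField.card F p
  haveI : Fact p.Prime := ⟨hpp⟩
  have hne : (ZMod.castHom (dvd_refl p) F).fieldRange ≠ ⊤ := by
    intro h
    apply hprime
    have hbij : Function.Bijective (ZMod.castHom (dvd_refl p) F) :=
      ⟨(ZMod.castHom (dvd_refl p) F).injective, RingHom.fieldRange_eq_top_iff.1 h⟩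
    rw [← Fintype.card_of_bijective hbij, ZMod.card]
    exact hpp
  obtain ⟨F₁, r, τ, hr, -, hne₁, hcard, -⟩ := exists_maximal_subfield hne
  -- normalised basis
  let w : Fin n → Fin n → F := fun i => (b i)⁻¹ • v i
  have hwli : LinearIndependent F w := by
    refine Fintype.linearIndependent_iff.2 fun c hc i => ?_
    have := Fintype.linearIndependent_iff.1 hli (fun i => c i * (b i)⁻¹) (by simpa [w, smul_smul] using hc) i
    exact (mul_eq_zero.1 this).resolve_right (inv_ne_zero (hb0 i))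
  have hwq : ∀ i, Q (w i) = Q (v i₀) := fun i => by
    simp only [w, q_smul, hb i]
    field_simp [hb0 i]
  let P₀ : Matrix (Fin n) (Fin n) F := Matrix.of fun i j => w j i
  obtain ⟨P, hP⟩ : IsUnit P₀ := by
    rw [← Matrix.linearIndependent_cols_iff_isUnit]
    exact hwli
  have hPu : ∀ u : Fin n → F, (P : Matrix (Fin n) (Fin n) F) *ᵥ u = ∑ i, u i • w i := fun u => by
    funext k
    simp only [hP, P₀, mulVec, dotProduct, Finset.sum_apply, Pi.smul_apply, smul_eq_mul, Matrix.of_apply]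
    exact Finset.sum_congr rfl fun i _ => mul_comm _ _
  have hq : ∀ u : Fin n → F, (Q (v i₀))⁻¹ * Q (∑ i, u i • w i) = ∑ i, u i * u i := by
    intro u
    have hs : ∀ s : Finset (Fin n), Q (∑ i ∈ s, u i • w i) = Q (v i₀) * ∑ i ∈ s, u i * u i := by
      intro s
      induction s using Finset.induction_on with
      | empty => simp
      | @insert i t hi ih =>
        have h0 : B (∑ j ∈ t, u j • w j) (u i • w i) = 0 := by
          rw [(polar_sesq hB).sum_left]
          refine Finset.sum_eq_zero fun j hj => ?_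
          simp only [w, b_smul_left, b_smul_right, horth j i (fun e => hi (e ▸ hj)), mul_zero]
        rw [Finset.sum_insert hi, Finset.sum_insert hi, q_add, ih, q_smul, hwq, b_comm, h0]
        ring
    rw [hs, inv_mul_cancel_left₀ (hQ0 i₀)]
  obtain ⟨e, he⟩ := rescale hodd hB hn hgram hr hcard (P := P) (inv_ne_zero (hQ0 i₀)) fun u hu => by
    rw [hPu, hq]
    exact F₁.sum_mem fun i _ => F₁.mul_mem (hu i) (hu i)
  refine ⟨F₁, r, P * sc e, hr, hne₁, hcard, he, fun g hg => mem_subfieldSubgroup.2 ⟨1, one_ne_zero, fun i j => ?_⟩⟩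
  have hconj : (P * sc e)⁻¹ * g * (P * sc e) = P⁻¹ * g * P := by
    rw [_root_.mul_inv_rev]
    calc (sc e)⁻¹ * P⁻¹ * g * (P * sc e) = (sc e)⁻¹ * ((P⁻¹ * g * P) * sc e) := by simp [mul_assoc]
      _ = _ := by rw [← sc_comm, inv_mul_cancel_left]
  obtain ⟨σ, hσ⟩ := hmono g hg
  obtain ⟨a, -, ha⟩ := hσ j
  obtain ⟨c, hc⟩ : ∃ c : F, (g : Matrix (Fin n) (Fin n) F) *ᵥ w j = c • w (σ j) :=
    ⟨(b j)⁻¹ * a * b (σ j), by
      simp only [w, mulVec_smul, ha, smul_smul]
      congr 1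
      field_simp [hb0 (σ j)]⟩
  have hc2 : c * c = 1 := by
    have h := omegaGL_apply (hH hg) (w j)
    rw [hc, q_smul, hwq, hwq] at h
    exact mul_right_cancel₀ (hQ0 i₀) (h.trans (one_mul _).symm)
  have hcol : ((P⁻¹ * g * P : GL (Fin n) F) : Matrix (Fin n) (Fin n) F) *ᵥ Pi.single j 1 =
      c • Pi.single (σ j) 1 := by
    have hw : ∀ k, (P : Matrix (Fin n) (Fin n) F) *ᵥ Pi.single k 1 = w k := fun k => by
      rw [mulVec_single_one, hP]; rfl
    rw [Units.val_mul, Units.val_mul, ← mulVec_mulVec, ← mulVec_mulVec, hw, hc, mulVec_smul, ← hw,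
      inv_mulVec_cancel]
  have hij := congrFun hcol i
  rw [mulVec_single_one, Matrix.col_apply, Pi.smul_apply, smul_eq_mul] at hij
  rw [hconj, div_one, hij]
  refine F₁.mul_mem ?_ ?_
  · rcases mul_self_eq_one_iff.1 hc2 with rfl | rfl
    exacts [F₁.one_mem, F₁.neg_mem F₁.one_mem]
  · by_cases h : i = σ j
    · subst h; simp [F₁.one_mem]
    · simp [h, F₁.zero_mem]

/-- No field of odd prime degree has its norm-one part acting irreducibly by isometries. -/
theorem orth_field_false (hodd : Odd (Fintype.card F)) (hB : Nondeg Q) (hn : Odd n) (hn2 : 2 ≤ n)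
    {H : Subgroup (GL (Fin n) F)} (hH : H ≤ omegaGL ⇑Q) (hF : FieldCase H) : False := by
  classical
  have h2 : (2 : F) ≠ 0 := two_ne_zero_of_odd hodd
  obtain ⟨N, hN, hirr, hK, -⟩ := hF
  have hfix : ∀ z ∈ N, ∀ u v, B ((z : Matrix (Fin n) (Fin n) F) *ᵥ u) ((z : Matrix (Fin n) (Fin n) F) *ᵥ v) = B u v :=
    fun z hz => omegaGL_polar (hH (hN.le hz))
  -- the field is self-adjoint
  have hself : ∀ k ∈ cent (matrixSet N), ∀ x y, B (k *ᵥ x) y = B x (k *ᵥ y) := by
    intro k hk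
    have hex : ∀ y, ∃ w, ∀ x, B x w = B (k *ᵥ x) y := fun y => by
      obtain ⟨w, hw⟩ := exists_dual hB ((QuadraticMap.polarBilin Q y).comp (Matrix.toLin' k))
      exact ⟨w, fun x => by rw [hw, LinearMap.comp_apply, Matrix.toLin'_apply, QuadraticMap.polarBilin_apply_apply, b_comm]⟩
    choose M hM using hex
    let L : (Fin n → F) →ₗ[F] (Fin n → F) :=
      { toFun := M
        map_add' := fun v w => dual_ext hB fun u => by rw [hM, b_add_right, b_add_right, hM, hM]
        map_smul' := fun c v => dual_ext hB fun u => by rw [hM, b_smul_right, RingHom.id_apply, b_smul_right, hM] }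
    have hL : ∀ y, LinearMap.toMatrix' L *ᵥ y = M y := fun y => LinearMap.toMatrix'_mulVec L y
    have hmem : LinearMap.toMatrix' L ∈ cent (matrixSet N) := by
      refine mem_cent.2 ?_
      rintro _ ⟨z, hz, rfl⟩
      refine Matrix.toLin'.injective (LinearMap.ext fun y => dual_ext hB fun x => ?_)
      simp only [Matrix.toLin'_apply, ← mulVec_mulVec, hL]
      rw [hM]
      conv_lhs => rw [← mulVec_inv_cancel z x, hfix z hz, hM]
      conv_rhs => rw [← mulVec_inv_cancel z x, mulVec_mulVec _ k, ← mem_cent.1 hk _ ⟨z, hz, rfl⟩, ← mulVec_mulVec,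
        hfix z hz]
    intro x y
    have hd : k - LinearMap.toMatrix' L = 0 := by
      by_contra hne
      obtain ⟨u, hu⟩ := isUnit_of_comm hirr (sub_mem hk hmem) hne
      refine no_alternating hn (f := fun v w => B ((u : Matrix (Fin n) (Fin n) F) *ᵥ v) w)
        ⟨fun a b c => by rw [mulVec_add, b_add_left], fun c a b => by rw [mulVec_smul, b_smul_left],
          fun a b c => b_add_right _ _ _, fun c a b => b_smul_right _ _ _⟩ (fun v => ?_) fun v hv => ?_
      · have e : B (k *ᵥ v) v = B (M v) v := by rw [b_comm (M v) v, hM]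
        rw [hu, sub_mulVec, hL, b_sub_left, e, sub_self]
      · have huv : (u : Matrix (Fin n) (Fin n) F) *ᵥ v ≠ 0 := fun e => hv (by
          rw [← inv_mulVec_cancel u v, e, mulVec_zero])
        obtain ⟨⟨x, hx⟩, ⟨y, hy⟩⟩ := (polar_sesq hB).nd _ huv
        refine ⟨⟨x, ?_⟩, ⟨y, hy⟩⟩
        intro e
        apply hx
        have hskew : ∀ a c, B ((u : Matrix (Fin n) (Fin n) F) *ᵥ a) c + B ((u : Matrix (Fin n) (Fin n) F) *ᵥ c) a = 0 := by
          intro a c
          rw [hu, sub_mulVec, sub_mulVec, hL, hL, b_sub_left, b_sub_left, b_comm (M a) c, b_comm (M c) a, hM, hM]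
          ring
        have h := hskew v x
        simp only at e
        rw [e, add_zero, b_comm] at h
        exact h
    rw [sub_eq_zero] at hd
    conv_rhs => rw [hd, hL]
    exact (hM y x).symm
  -- the group lies in the field
  haveI : Nonempty (Fin n) := ⟨⟨0, by omega⟩⟩
  obtain ⟨v, hv⟩ := exists_ne (0 : Fin n → F)
  have hN1 : ∀ z ∈ N, z ∈ scalars (Fin n) F := by
    intro z hz
    let L : cent (matrixSet N) →ₗ[F] (Fin n → F) :=
      { toFun := fun k => (k : Matrix (Fin n) (Fin n) F) *ᵥ v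
        map_add' := fun a b => add_mulVec _ _ _
        map_smul' := fun c a => smul_mulVec _ _ _ }
    have hinj : Function.Injective L := by
      rw [injective_iff_map_eq_zero]
      intro k hk
      by_contra h0
      obtain ⟨u, hu⟩ := isUnit_of_comm hirr k.2 fun e => h0 (Subtype.ext e)
      apply hv
      rw [← inv_mulVec_cancel u v, hu]
      exact (congrArg _ hk).trans (mulVec_zero _)
    have hsurj : Function.Surjective L :=
      (LinearMap.injective_iff_surjective_of_finrank_eq_finrank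
        (by rw [hK.finrank_eq, Module.finrank_fin_fun])).1 hinj
    obtain ⟨k, hk⟩ := hsurj ((z : Matrix (Fin n) (Fin n) F) *ᵥ v)
    have hzk : (z : Matrix (Fin n) (Fin n) F) = k := by
      refine Matrix.toLin'.injective (LinearMap.ext fun x => ?_)
      obtain ⟨k₂, rfl⟩ := hsurj x
      simp only [Matrix.toLin'_apply]
      show (z : Matrix (Fin n) (Fin n) F) *ᵥ ((k₂ : Matrix (Fin n) (Fin n) F) *ᵥ v) =
        (k : Matrix (Fin n) (Fin n) F) *ᵥ ((k₂ : Matrix (Fin n) (Fin n) F) *ᵥ v)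
      rw [mulVec_mulVec, mem_cent.1 k₂.2 _ ⟨z, hz, rfl⟩, ← mulVec_mulVec, ← hk]
      show (k₂ : Matrix (Fin n) (Fin n) F) *ᵥ ((k : Matrix (Fin n) (Fin n) F) *ᵥ v) = _
      rw [mulVec_mulVec, hK.comm _ k₂.2 _ k.2, ← mulVec_mulVec]
    set Z : Matrix (Fin n) (Fin n) F := (z : Matrix (Fin n) (Fin n) F) with hZ
    have hZK : Z ∈ cent (matrixSet N) := hzk ▸ k.2
    have hZ2 : Z * Z = 1 := by
      refine Matrix.toLin'.injective (LinearMap.ext fun x => dual_ext hB fun y => ?_)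
      simp only [Matrix.toLin'_apply, one_mulVec, ← mulVec_mulVec]
      rw [← hself Z hZK, hfix z hz]
    refine (Cfsg.Geo.mem_scalars_iff z).2 ?_
    by_cases h1 : Z - 1 = 0
    · exact ⟨1, by rw [Units.val_one, one_smul]; exact sub_eq_zero.1 h1⟩
    · obtain ⟨y, -, hy⟩ := hK.inv (Z - 1) (sub_mem hZK (one_mem _)) h1
      obtain ⟨u, hu⟩ := isUnit_of_comm hirr (sub_mem hZK (one_mem _)) h1
      have h : (u : Matrix (Fin n) (Fin n) F) * (Z + 1) = 0 := by
        rw [hu, sub_mul, mul_add, mul_add, hZ2]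
        simp only [mul_one, one_mul]
        abel
      rw [Units.mul_right_eq_zero] at h
      refine ⟨-1, ?_⟩
      rw [Units.val_neg, Units.val_one, neg_one_smul]
      exact eq_neg_of_add_eq_zero_left h
  rcases irreducible_iff.1 hirr (Submodule.span F {v}) (by
    rintro _ ⟨z, hz, rfl⟩ x hx
    obtain ⟨u, rfl⟩ := eq_sc_of_mem_scalars (hN1 z hz)
    rw [sc_mulVec]
    exact Submodule.smul_mem _ _ hx) with h | h
  · exact hv (Submodule.span_singleton_eq_bot.1 h)
  · have h1 := finrank_span_singleton (K := F) hv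
    rw [h, finrank_top, Module.finrank_fin_fun] at h1
    omega

/-- No Heisenberg group consists of isometries. -/
theorem orth_heis_false (hB : Nondeg Q) (hn : n.Prime) (hn2 : n ≠ 2)
    {H : Subgroup (GL (Fin n) F)} (hH : H ≤ omegaGL ⇑Q) (hC : HeisCase H) : False := by
  classical
  obtain ⟨N, c, x, y, v, hN, -, hprim, hx, hy, -, hli, hb, -, -, -, -⟩ := hC
  haveI : Nonempty (Fin n) := ⟨⟨0, hn.pos⟩⟩
  let C := basisOfLinearIndependentOfCardEqFinrank hli (by simp)
  have hC : ∀ i : Fin n, C i = ((y ^ (i : ℕ) : GL (Fin n) F) : Matrix (Fin n) (Fin n) F) *ᵥ v := fun i => by simp [C]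
  have hc : (sc c : GL (Fin n) F) ∈ N := by
    suffices h : x * y = sc c * (y * x) by
      have e : (sc c : GL (Fin n) F) = x * y * x⁻¹ * y⁻¹ := by rw [h]; simp [mul_assoc]
      rw [e]
      exact mul_mem (mul_mem (mul_mem hx hy) (inv_mem hx)) (inv_mem hy)
    refine Units.ext (Matrix.toLin'.injective (C.ext fun i => ?_))
    simp only [Matrix.toLin'_apply, Units.val_mul, ← mulVec_mulVec, sc_mulVec, hC, hb]
    rw [mulVec_mulVec v (y : Matrix (Fin n) (Fin n) F), ← Units.val_mul, ← pow_succ', hb, mulVec_smul,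
      mulVec_mulVec v (y : Matrix (Fin n) (Fin n) F), ← Units.val_mul, ← pow_succ', smul_smul, ← pow_succ']
  obtain ⟨v₀, hv₀⟩ := exists_ne (0 : Fin n → F)
  obtain ⟨⟨w, hw⟩, -⟩ := (polar_sesq hB).nd v₀ hv₀
  have h := omegaGL_polar (hH (hN.le hc)) w v₀
  rw [sc_mulVec, sc_mulVec, b_smul_left, b_smul_right, ← mul_assoc] at h
  have hc2 : c ^ 2 = 1 := Units.ext (by
    rw [pow_two, Units.val_mul]
    exact mul_right_cancel₀ hw (h.trans (one_mul _).symm))
  have := (Nat.prime_dvd_prime_iff_eq hn Nat.prime_two).1 (hprim.dvd_of_pow_eq_one 2 hc2)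
  exact hn2 this

/-- A group realised over a subfield lies in a subfield group carrying the form. -/
theorem orth_rational (hodd : Odd (Fintype.card F)) (hB : Nondeg Q) (hn : Odd n)
    (hgram : ∀ (F₁ : Subfield F) i j, B (Pi.single i 1) (Pi.single j 1) ∈ F₁)
    {H N : Subgroup (GL (Fin n) F)} (hH : H ≤ omegaGL ⇑Q) (hN : Nml H N)
    (habs : ActsAbsolutelyIrreducibly (matrixSet N)) {F₀ : Subfield F} (hF₀ : F₀ ≠ ⊤)
    (hreal : Cfsg.Geo.RealisableOver F₀ (matrixSet N)) :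
    ∃ (F₁ : Subfield F) (r : ℕ) (P : GL (Fin n) F), r.Prime ∧ F₁ ≠ ⊤ ∧ Fintype.card F = Nat.card F₁ ^ r ∧
      Cfsg.Geo.IsQuadFormRationalStructure ⇑Q F₁ P ∧ H ≤ Cfsg.Geo.subfieldSubgroup F₁ P := by
  classical
  have h2 : (2 : F) ≠ 0 := two_ne_zero_of_odd hodd
  obtain ⟨F₁, r, P, σ, hr, hne, hcard, hfix, hrat, hle⟩ := subfield_data hn.pos hN habs hF₀ hreal
  set Pm : Matrix (Fin n) (Fin n) F := (P : Matrix (Fin n) (Fin n) F)
  let Θ : (Fin n → F) → (Fin n → F) := fun x => Pm *ᵥ fun i => σ.symm (((↑P⁻¹ : Matrix (Fin n) (Fin n) F) *ᵥ x) i)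
  have hΘadd : ∀ x y, Θ (x + y) = Θ x + Θ y := fun x y => by
    simp only [Θ, ← mulVec_add]
    congr 1
    funext i
    simp [mulVec_add]
  have hΘsmul : ∀ (c : F) x, Θ (c • x) = σ.symm c • Θ x := fun c x => by
    simp only [Θ, ← mulVec_smul]
    congr 1
    funext i
    simp [mulVec_smul]
  have hΘN : ∀ z ∈ N, ∀ x, Θ ((z : Matrix (Fin n) (Fin n) F) *ᵥ x) = (z : Matrix (Fin n) (Fin n) F) *ᵥ Θ x := by
    intro z hz x
    set Z : Matrix (Fin n) (Fin n) F := ((P⁻¹ * z * P : GL (Fin n) F) : Matrix (Fin n) (Fin n) F) with hZ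
    set w := (↑P⁻¹ : Matrix (Fin n) (Fin n) F) *ᵥ x
    have e1 : (↑P⁻¹ : Matrix (Fin n) (Fin n) F) *ᵥ ((z : Matrix (Fin n) (Fin n) F) *ᵥ x) = Z *ᵥ w := by
      rw [hZ, Units.val_mul, Units.val_mul, ← mulVec_mulVec, ← mulVec_mulVec, mulVec_inv_cancel]
    have e2 : (z : Matrix (Fin n) (Fin n) F) * Pm = Pm * Z := by
      rw [hZ, Units.val_mul, Units.val_mul, ← mul_assoc, ← mul_assoc, Units.mul_inv, one_mul]
    show Pm *ᵥ _ = (z : Matrix (Fin n) (Fin n) F) *ᵥ (Pm *ᵥ _)
    rw [e1, mulVec_mulVec _ (z : Matrix (Fin n) (Fin n) F) Pm, e2, ← mulVec_mulVec]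
    congr 1
    funext i
    show σ.symm (∑ j, Z i j * w j) = ∑ j, Z i j * σ.symm (w j)
    rw [map_sum]
    refine Finset.sum_congr rfl fun j _ => ?_
    rw [map_mul]
    congr 1
    rw [RingEquiv.symm_apply_eq]
    exact ((hfix _).2 (hrat z hz i j)).symm
  have hΘP : ∀ u : Fin n → F, (∀ i, u i ∈ F₁) → Θ (Pm *ᵥ u) = Pm *ᵥ u := by
    intro u hu
    show Pm *ᵥ _ = _
    rw [inv_mulVec_cancel]
    congr 1
    funext i
    exact (RingEquiv.symm_apply_eq _).2 ((hfix _).2 (hu i)).symm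
  let f' : (Fin n → F) → (Fin n → F) → F := fun x y => σ (B (Θ x) (Θ y))
  obtain ⟨d, hd⟩ := form_unique (polar_sesq hB) (f' := f')
    (fun x y v => by simp only [f', hΘadd, b_add_left, map_add])
    (fun c x v => by simp only [f', hΘsmul, b_smul_left, map_mul, RingEquiv.apply_symm_apply])
    (fun v x y => by simp only [f', hΘadd, b_add_right, map_add])
    (fun c v x => by
      simp only [f', hΘsmul, b_smul_right, map_mul, RingEquiv.apply_symm_apply, RingEquiv.refl_apply])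
    habs (omega_fixed hN hH) (by
      rintro _ ⟨z, hz, rfl⟩ x y
      simp only [f', hΘN z hz, omegaGL_polar (hH (hN.le hz))])
  have hval : ∀ u v : Fin n → F, (∀ i, u i ∈ F₁) → (∀ i, v i ∈ F₁) →
      σ (B (Pm *ᵥ u) (Pm *ᵥ v)) = d * B (Pm *ᵥ u) (Pm *ᵥ v) := fun u v hu hv => by
    rw [← hd]
    simp only [f', hΘP u hu, hΘP v hv]
  have hsingle : ∀ j : Fin n, ∀ i, (Pi.single j (1 : F) : Fin n → F) i ∈ F₁ := fun j i => by
    by_cases h : i = j
    · subst h; simp [F₁.one_mem]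
    · simp [h, F₁.zero_mem]
  set i₀ : Fin n := ⟨0, hn.pos⟩
  have hP0 : Pm *ᵥ Pi.single i₀ 1 ≠ 0 := fun e => by
    have := congrArg (fun w => (↑P⁻¹ : Matrix (Fin n) (Fin n) F) *ᵥ w) e
    simp only [Pm, inv_mulVec_cancel, mulVec_zero] at this
    exact one_ne_zero (α := F) (by simpa using congrFun this i₀)
  obtain ⟨k, hkl⟩ : ∃ k, B (Pm *ᵥ Pi.single k 1) (Pm *ᵥ Pi.single i₀ 1) ≠ 0 := by
    by_contra hall
    push Not at hall
    obtain ⟨⟨x, hx⟩, -⟩ := (polar_sesq hB).nd _ hP0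
    apply hx
    rw [← mulVec_inv_cancel P x, pi_eq_sum_univ' ((↑P⁻¹ : Matrix (Fin n) (Fin n) F) *ᵥ x)]
    simp only [mulVec_sum, mulVec_smul]
    rw [(polar_sesq hB).sum_left]
    exact Finset.sum_eq_zero fun i _ => by rw [b_smul_left, hall, mul_zero]
  set a : F := (B (Pm *ᵥ Pi.single k 1) (Pm *ᵥ Pi.single i₀ 1))⁻¹
  have ha0 : a ≠ 0 := inv_ne_zero hkl
  have hd0 : d ≠ 0 := fun e => hkl (σ.injective (by
    rw [hval _ _ (hsingle k) (hsingle i₀), e, zero_mul, map_zero]))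
  have harat : ∀ u v : Fin n → F, (∀ i, u i ∈ F₁) → (∀ i, v i ∈ F₁) → a * B (Pm *ᵥ u) (Pm *ᵥ v) ∈ F₁ :=
    fun u v hu hv => by
      refine (hfix _).1 ?_
      rw [map_mul, hval u v hu hv, map_inv₀, hval _ _ (hsingle k) (hsingle i₀)]
      rw [mul_inv, mul_comm d⁻¹, mul_assoc, inv_mul_cancel_left₀ hd0]
  obtain ⟨e, he⟩ := rescale hodd hB hn hgram hr hcard ha0 (P := P) fun u hu => by
    have h := harat u u hu hu
    rw [b_self] at h
    have h3 := F₁.mul_mem (F₁.inv_mem (show (2 : F) ∈ F₁ from by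
      rw [← one_add_one_eq_two]; exact F₁.add_mem F₁.one_mem F₁.one_mem)) h
    convert h3 using 1
    simp only [Pm]
    field_simp
  refine ⟨F₁, r, P * sc e, hr, hne, hcard, he, fun h hh => ?_⟩
  obtain ⟨c, hc0, hc⟩ := mem_subfieldSubgroup.1 (hle hh)
  refine mem_subfieldSubgroup.2 ⟨c, hc0, ?_⟩
  have : (P * sc e)⁻¹ * h * (P * sc e) = P⁻¹ * h * P := by
    rw [_root_.mul_inv_rev]
    calc (sc e)⁻¹ * P⁻¹ * h * (P * sc e) = (sc e)⁻¹ * ((P⁻¹ * h * P) * sc e) := by simp [mul_assoc]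
      _ = _ := by rw [← sc_comm, inv_mul_cancel_left]
  rw [this]
  exact hc

/-- A group of isometries fixing a unitary form is realised over a proper subfield. -/
theorem realisable_of_unitary (hB : Nondeg Q) (hn : 1 ≤ n) {H N : Subgroup (GL (Fin n) F)}
    (hH : H ≤ omegaGL ⇑Q) (hN : Nml H N) (habs : ActsAbsolutelyIrreducibly (matrixSet N))
    {σ : F ≃+* F} {f : (Fin n → F) → (Fin n → F) → F} (hf : Cfsg.Geo.IsUnitaryForm σ f)
    (hfix : Cfsg.Geo.FixesForm (matrixSet N) f) :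
    ∃ F₀ : Subfield F, F₀ ≠ ⊤ ∧ Cfsg.Geo.RealisableOver F₀ (matrixSet N) := by
  classical
  have hS := Sesq.of_unitary hf
  have hex : ∀ y, ∃ w, ∀ x, B x w = f x y := fun y =>
    exists_dual hB { toFun := fun x => f x y
                     map_add' := fun a b => hS.add_left a b y
                     map_smul' := fun c a => hS.smul_left c a y }
  choose M hM using hex
  refine realisable_of_semilinear hn habs hf.ne_refl hf.involutive (M := M)
    (fun x y => dual_ext hB fun u => by rw [hM, b_add_right, hM, hM, hS.add_right])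
    (fun c x => dual_ext hB fun u => by rw [hM, b_smul_right, hM, hS.smul_right])
    (fun v hv => by
      by_contra h0
      obtain ⟨⟨x, hx⟩, -⟩ := hS.nd v h0
      exact hx (by rw [← hM, hv, b_zero_right]))
    fun z hz y => dual_ext hB fun x => ?_
  rw [hM]
  conv_rhs => rw [← mulVec_inv_cancel z x, omegaGL_polar (hH (hN.le hz)), hM]
  conv_lhs => rw [← mulVec_inv_cancel z x, hfix _ ⟨z, hz, rfl⟩]

/-- The maximal subgroups. -/
theorem orth_cases (hn : n.Prime) (hn6 : 6 ≤ n) (hodd : Odd (Fintype.card F)) (hB : Nondeg Q)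
    (hgram : ∀ (F₁ : Subfield F) i j, B (Pi.single i 1) (Pi.single j 1) ∈ F₁)
    {H : Subgroup (GL (Fin n) F)} (hH : Cfsg.Geo.IsMaximalIn (omegaGL ⇑Q) H) :
    (∃ W : Submodule F (Fin n → F), W ≠ ⊥ ∧ Cfsg.Geo.IsTotallySingularQuad ⇑Q W ∧
      H = Cfsg.Geo.subspaceStabilizer W ⊓ omegaGL ⇑Q) ∨
    (∃ W : Submodule F (Fin n → F), W ≠ ⊥ ∧ Even (Module.finrank F W) ∧
      Cfsg.Geo.IsNondegenerateOn (QuadraticMap.polar ⇑Q) W ∧
      ¬ (Fintype.card F = 3 ∧ Module.finrank F W = 2 ∧ Cfsg.Geo.IsPlusTypeOn ⇑Q W) ∧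
      H = Cfsg.Geo.subspaceStabilizer W ⊓ omegaGL ⇑Q) ∨
    ((Fintype.card F).Prime ∧ ∃ D : Fin n → Submodule F (Fin n → F),
      Cfsg.Geo.IsOrthogonalMDecomposition ⇑Q 1 D ∧ H = Cfsg.Geo.decompositionStabilizer D ⊓ omegaGL ⇑Q) ∨
    (∃ (F₀ : Subfield F) (r : ℕ) (P : GL (Fin n) F), r.Prime ∧ Fintype.card F = Nat.card F₀ ^ r ∧
      Cfsg.Geo.IsQuadFormRationalStructure ⇑Q F₀ P ∧ H = Cfsg.Geo.subfieldSubgroup F₀ P ⊓ omegaGL ⇑Q) ∨
    Cfsg.Geo.InOrthogonalResidualClass H := by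
  classical
  have hn2 : n ≠ 2 := by omega
  have hno : Odd n := hn.odd_of_ne_two hn2
  have key : ∀ {X : Subgroup (GL (Fin n) F)}, H ≤ X → ¬ omegaGL ⇑Q ≤ X → H = X ⊓ omegaGL ⇑Q := by
    intro X h1 h2
    rcases hH.2 (X ⊓ omegaGL ⇑Q) (le_inf h1 hH.1.le) inf_le_right with h | h
    · exact h.symm
    · exact absurd (inf_eq_right.1 h) h2
  by_cases hirr : ActsIrreducibly (matrixSet H)
  swap
  · rcases orth_reducible hodd hB hno (by omega) hH.1.le hirr with ⟨W, h0, h1, hW, hle⟩ | ⟨W, h0, h1, he, hW, hx, hle⟩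
    · exact Or.inl ⟨W, h0, hW, key hle (omega_not_le_stab hodd hB (by omega) h0 h1)⟩
    · exact Or.inr (Or.inl ⟨W, h0, he, hW, hx, key hle (omega_not_le_stab hodd hB (by omega) h0 h1)⟩)
  have hsub : (∃ (F₁ : Subfield F) (r : ℕ) (P : GL (Fin n) F), r.Prime ∧ F₁ ≠ ⊤ ∧
      Fintype.card F = Nat.card F₁ ^ r ∧ Cfsg.Geo.IsQuadFormRationalStructure ⇑Q F₁ P ∧
      H ≤ Cfsg.Geo.subfieldSubgroup F₁ P) →
      ∃ (F₀ : Subfield F) (r : ℕ) (P : GL (Fin n) F), r.Prime ∧ Fintype.card F = Nat.card F₀ ^ r ∧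
      Cfsg.Geo.IsQuadFormRationalStructure ⇑Q F₀ P ∧
      H = Cfsg.Geo.subfieldSubgroup F₀ P ⊓ omegaGL ⇑Q := by
    rintro ⟨F₁, r, P, hr, hne, hcard, hrat, hle⟩
    exact ⟨F₁, r, P, hr, hcard, hrat, key hle (omega_not_le_subfield hB (by omega) hne P)⟩
  rcases structure_cases hn hn2 (hH.1.le.trans omegaGL_le_sl) hirr with hE | hF | hC | hP
  · rcases orth_eigen hodd hB hno (by omega) hgram hH.1.le hirr hE with ⟨hp, D, hD, hle⟩ | h
    · exact Or.inr (Or.inr (Or.inl ⟨hp, D, hD, key hle (omega_not_le_decomposition hB hn6 hD.decomp)⟩))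
    · exact Or.inr (Or.inr (Or.inr (Or.inl (hsub h))))
  · exact (orth_field_false hodd hB hno (by omega) hH.1.le hF).elim
  · exact (orth_heis_false hB hn hn2 hH.1.le hC).elim
  · obtain ⟨P, hP, habs, hperf, hsimple, hnab, hcen⟩ := hP
    by_cases hreal : ∃ F₀ : Subfield F, F₀ ≠ ⊤ ∧ Cfsg.Geo.RealisableOver F₀ (matrixSet P)
    · obtain ⟨F₀, hF₀, hr⟩ := hreal
      exact Or.inr (Or.inr (Or.inr (Or.inl (hsub (orth_rational hodd hB hno hgram hH.1.le hP habs hF₀ hr)))))
    refine Or.inr (Or.inr (Or.inr (Or.inr ⟨P, ⟨hP.le, hP.conj, hperf, hsimple, hnab, hcen, habs,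
      fun F₀ h0 h1 => hreal ⟨F₀, h0, h1⟩⟩, ?_⟩)))
    rintro ⟨σ, f, hf, hfix⟩
    exact hreal (realisable_of_unitary hB hn.pos hH.1.le hP habs hf hfix)

end CfsgLib.PrimeDim
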