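import Cfsg.Agent.Lib.Classical.AschSympTensor
import Cfsg.Agent.Lib.Classical.PrimeDimOrth
import Cfsg.Agent.Lib.Classical.OrthFamily

set_option autoImplicit false
set_option linter.unusedSectionVars false

/-!
Subgroups of the commutator subgroup of an orthogonal group: the matrix of the polar form and basic facts.
-/

namespace CfsgLib.Asch

open Matrix
open Cfsg.Geo (matrixSet scalars ActsIrreducibly ActsAbsolutelyIrreducibly omegaGL gramMatrix)
open CfsgLib.Orth (Nondeg)
open CfsgLib.PrimeDim (Inv Nml Sesq)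
open scoped MatrixGroups

variable {F : Type*} [Field F] [Fintype F] {n : ℕ} {Q : QuadraticForm F (Fin n → F)}

local notation "τ₁" => RingEquiv.refl F

/-- The matrix of the polar form. -/
def ogram (Q : QuadraticForm F (Fin n → F)) : Matrix (Fin n) (Fin n) F := gramMatrix (QuadraticMap.polar ⇑Q)

theorem polar_sform (hB : Nondeg Q) (u v : Fin n → F) :
    QuadraticMap.polar ⇑Q u v = sform τ₁ (ogram Q) u v :=
  sesq_sform (PrimeDim.polar_sesq hB) u v

theorem sform_polar (hB : Nondeg Q) : sform τ₁ (ogram Q) = QuadraticMap.polar ⇑Q :=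
  funext fun u => funext fun v => (polar_sform hB u v).symm

theorem orth_data (hB : Nondeg Q) : FormData τ₁ (ogram Q) 1 := by
  refine ⟨?_, fun _ => rfl, ?_⟩
  · refine Matrix.mulVec_injective_iff_isUnit.1 fun x y e => sub_eq_zero.1 (hB _ fun u => ?_)
    rw [QuadraticMap.polar_comm, polar_sform hB, sform, show ⇑τ₁ ∘ (x - y) = x - y from rfl, mulVec_sub, e, sub_self,
      dotProduct_zero]
  · rw [bm_refl, one_smul]
    ext i j
    exact QuadraticMap.polar_comm _ _ _

theorem omega_iso (hB : Nondeg Q) {H : Subgroup (GL (Fin n) F)} (hH : H ≤ omegaGL ⇑Q) :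
    ∀ g ∈ H, Iso τ₁ (ogram Q) g.val := fun g hg => (iso_iff _ _ _).2 fun u v => by
  rw [← polar_sform hB, ← polar_sform hB, PrimeDim.omegaGL_polar (hH hg)]

theorem omega_quad {H : Subgroup (GL (Fin n) F)} (hH : H ≤ omegaGL ⇑Q) {g : GL (Fin n) F} (hg : g ∈ H)
    (v : Fin n → F) : Q (g.val *ᵥ v) = Q v :=
  PrimeDim.omegaGL_apply (hH hg) v

theorem omega_det {g : GL (Fin n) F} (hg : g ∈ omegaGL ⇑Q) : g.val.det = 1 := by
  have h := PrimeDim.omegaGL_le_sl hg
  simpa [Cfsg.Geo.specialLinear, MonoidHom.mem_ker, Units.ext_iff] using h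

theorem quad_ts (hB : Nondeg Q) (h2 : (2 : F) ≠ 0) {W : Submodule F (Fin n → F)}
    (hW : Cfsg.Geo.IsTotallySingularFor (sform τ₁ (ogram Q)) W) : Cfsg.Geo.IsTotallySingularQuad ⇑Q W :=
  fun w hw => by
    have h := hW w hw w hw
    rw [← polar_sform hB, CfsgLib.Orth.b_self] at h
    exact (mul_eq_zero.1 h).resolve_left h2

/-- A function that is additive and semilinear with respect to squaring vanishes when it is invariant under an
irreducible group. -/
theorem semilinear_zero (hn : 2 ≤ n) (h20 : (2 : F) = 0) {S : Set (Matrix (Fin n) (Fin n) F)}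
    (hirr : ActsIrreducibly S) {φ : (Fin n → F) → F} (hadd : ∀ u v, φ (u + v) = φ u + φ v)
    (hsmul : ∀ (c : F) v, φ (c • v) = c * c * φ v) (hinv : ∀ s ∈ S, ∀ v, φ (s *ᵥ v) = φ v) : ∀ v, φ v = 0 := by
  haveI : CharP F 2 := CharTwo.of_one_ne_zero_of_two_eq_zero one_ne_zero h20
  let K : Submodule F (Fin n → F) :=
    { carrier := {v | φ v = 0}
      add_mem' := fun {x y} hx hy => by
        show φ (x + y) = 0
        rw [hadd, hx, hy, add_zero]
      zero_mem' := by simpa using hsmul 0 0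
      smul_mem' := fun c x hx => by
        show φ (c • x) = 0
        rw [hsmul, hx, mul_zero] }
  rcases PrimeDim.irreducible_iff.1 hirr K (fun s hs v hv => (hinv s hs v).trans hv) with hK | hK
  swap
  · exact fun v => (hK ▸ Submodule.mem_top : v ∈ K)
  exfalso
  obtain ⟨x, hx⟩ : ∃ x : Fin n → F, x = Pi.single ⟨0, by omega⟩ 1 := ⟨_, rfl⟩
  obtain ⟨y, hy⟩ : ∃ y : Fin n → F, y = Pi.single ⟨1, by omega⟩ 1 := ⟨_, rfl⟩
  obtain ⟨a, ha⟩ : IsSquare (φ x) := FiniteField.isSquare_of_char_two (by rw [ringChar.eq F 2]) _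
  obtain ⟨b, hb⟩ : IsSquare (φ y) := FiniteField.isSquare_of_char_two (by rw [ringChar.eq F 2]) _
  have hv : b • x + a • y ∈ K := by
    show φ _ = 0
    rw [hadd, hsmul, hsmul, ha, hb]
    linear_combination (a * a * b * b) * h20
  have h0 := (Submodule.eq_bot_iff K).1 hK _ hv
  have ha0 : a = 0 := by simpa [hx, hy, Pi.single_apply, Fin.ext_iff] using congrFun h0 ⟨1, by omega⟩
  have hxK : x ∈ K := show φ x = 0 by rw [ha, ha0, mul_zero]
  simpa [hx] using congrFun ((Submodule.eq_bot_iff K).1 hK x hxK) ⟨0, by omega⟩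

/-- An invariant quadratic form with the same polar form is the form itself. -/
theorem quad_unique (hn : 2 ≤ n) (h20 : (2 : F) = 0) {S : Set (Matrix (Fin n) (Fin n) F)}
    (hirr : ActsIrreducibly S) {Q₁ Q₂ : (Fin n → F) → F} (h1 : ∀ (c : F) v, Q₁ (c • v) = c * c * Q₁ v)
    (h2 : ∀ (c : F) v, Q₂ (c • v) = c * c * Q₂ v) (hp : ∀ u v, QuadraticMap.polar Q₁ u v = QuadraticMap.polar Q₂ u v)
    (hS₁ : ∀ s ∈ S, ∀ v, Q₁ (s *ᵥ v) = Q₁ v) (hS₂ : ∀ s ∈ S, ∀ v, Q₂ (s *ᵥ v) = Q₂ v) : ∀ v, Q₁ v = Q₂ v := fun v =>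
  sub_eq_zero.1 (semilinear_zero hn h20 hirr (φ := fun v => Q₁ v - Q₂ v) (fun u v => by
      have := hp u v
      simp only [QuadraticMap.polar] at this
      linear_combination this)
    (fun c v => by simp only [h1, h2]; ring) (fun s hs v => by simp only [hS₁ s hs, hS₂ s hs]) v)

/-- A proper subfield of prime index. -/
theorem exists_prime_index (h : ¬ (Fintype.card F).Prime) :
    ∃ (F₀ : Subfield F) (r : ℕ), r.Prime ∧ Fintype.card F = Nat.card F₀ ^ r := by
  obtain ⟨p, hp⟩ := CharP.exists F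
  obtain ⟨e, hpp, hq⟩ := FiniteField.card F p
  haveI : Fact p.Prime := ⟨hpp⟩
  have hne : (⊥ : Subfield F) ≠ ⊤ := by
    intro htop
    apply h
    have hsub : RingHom.eqLocusField (frobenius F p) (RingHom.id F) = ⊤ := top_le_iff.1 (htop ▸ bot_le)
    obtain ⟨g, hg⟩ := IsCyclic.exists_generator (α := Fˣ)
    have h1 : frobenius F p g = g := by
      have : (g : F) ∈ RingHom.eqLocusField (frobenius F p) (RingHom.id F) := hsub ▸ Subfield.mem_top _
      exact this
    rw [frobenius_def] at h1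
    have h1' : g ^ (p - 1) = 1 := by
      have h' : g ^ p = g := Units.ext (by rw [Units.val_pow_eq_pow_val, h1])
      rw [← Nat.sub_add_cancel hpp.one_le, pow_succ] at h'
      exact mul_eq_right.1 h'
    have h2 := orderOf_dvd_of_pow_eq_one h1'
    rw [orderOf_eq_card_of_forall_mem_zpowers hg, Nat.card_units, Nat.card_eq_fintype_card] at h2
    have h3 : p ≤ Fintype.card F := hq ▸ Nat.le_self_pow e.ne_zero p
    have := hpp.two_le
    have := Nat.le_of_dvd (by omega) h2
    rwa [show Fintype.card F = p by omega]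
  obtain ⟨F₁, r, σ, hr, -, -, hcard, -⟩ := PrimeDim.exists_maximal_subfield hne
  exact ⟨F₁, r, hr, hcard⟩

end CfsgLib.Asch
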