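import Cfsg.Agent.Lib.Classical.AschOrthEvenMax

set_option autoImplicit false
set_option linter.unusedSectionVars false

/-!
The maximal subgroups of the commutator subgroup of the eight-dimensional orthogonal group of minus type.
-/

namespace CfsgLib.Asch.OrthEvenMax

open Matrix
open Cfsg.Geo (matrixSet IsPlusTypeOn IsTotallySingularQuad IsNondegenerateOn omegaGL subspaceStabilizer
  decompositionStabilizer subalgebraNormalizer IsOrthogonalMDecomposition)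
open CfsgLib.Orth (Nondeg NondegOn)
open CfsgLib.Asch.OrthTypes
open scoped MatrixGroups

variable {F : Type*} [Field F] [Fintype F]

theorem eight_minus_cases (Q₀ : (Fin 8 → F) → F) (hQ : Cfsg.Geo.IsNondegenerateQuadraticForm Q₀)
    (hminus : ¬ IsPlusTypeOn Q₀ ⊤) (H : Subgroup (GL (Fin 8) F))
    (hH : Cfsg.Geo.IsMaximalIn (omegaGL Q₀) H) :
    (∃ W : Submodule F (Fin 8 → F), W ≠ ⊥ ∧ IsTotallySingularQuad Q₀ W ∧
      H = subspaceStabilizer W ⊓ omegaGL Q₀) ∨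
    (Odd (Fintype.card F) ∧ ∃ W : Submodule F (Fin 8 → F), W ≠ ⊥ ∧ W ≠ ⊤ ∧ Odd (Module.finrank F W) ∧
      IsNondegenerateOn (QuadraticMap.polar Q₀) W ∧ H = subspaceStabilizer W ⊓ omegaGL Q₀) ∨
    (∃ W : Submodule F (Fin 8 → F), Module.finrank F W = 2 ∧ IsNondegenerateOn (QuadraticMap.polar Q₀) W ∧
      ¬ IsPlusTypeOn Q₀ W ∧ H = subspaceStabilizer W ⊓ omegaGL Q₀) ∨
    (4 ≤ Fintype.card F ∧ ∃ W : Submodule F (Fin 8 → F), Module.finrank F W = 2 ∧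
      IsNondegenerateOn (QuadraticMap.polar Q₀) W ∧ IsPlusTypeOn Q₀ W ∧ H = subspaceStabilizer W ⊓ omegaGL Q₀) ∨
    (∃ W : Submodule F (Fin 8 → F), Module.finrank F W = 4 ∧ IsNondegenerateOn (QuadraticMap.polar Q₀) W ∧
      H = subspaceStabilizer W ⊓ omegaGL Q₀) ∨
    (¬ Odd (Fintype.card F) ∧ ∃ v : (Fin 8 → F), Q₀ v ≠ 0 ∧
      H = subspaceStabilizer (Submodule.span F {v}) ⊓ omegaGL Q₀) ∨
    (∃ K : Subalgebra F (Matrix (Fin 8) (Fin 8) F), Cfsg.Geo.IsFieldSubalgebra 2 K ∧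
      H = subalgebraNormalizer K ⊓ omegaGL Q₀) ∨
    (∃ (F₀ : Subfield F) (r : ℕ) (P : GL (Fin 8) F) (ζ : F), r.Prime ∧ Odd r ∧
      Fintype.card F = Nat.card F₀ ^ r ∧ ζ ≠ 0 ∧
      Cfsg.Geo.IsQuadFormRationalStructure (fun v : Fin 8 → F => ζ * Q₀ v) F₀ P ∧
      H = Cfsg.Geo.subfieldSubgroup F₀ P ⊓ omegaGL Q₀) ∨
    Cfsg.Geo.InOrthogonalResidualClass H := by
  classical
  obtain ⟨Q, rfl, hB⟩ := OrthEven.exists_quad hQ
  have hn : (5 : ℕ) ≤ 8 := by norm_num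
  rcases orth_structure hB hn hH.1.le with ⟨W, h0, h1, hW, hle⟩ | ⟨hev, v, hv, hle⟩ | hnd |
    ⟨-, t, k, D, htk, hD, hle⟩ | ⟨-, k, D, hk, -, hD, hts, -⟩ | ⟨-, r, K, hr, hrn, -, -, hK, -, hle⟩ |
    ⟨-, K, hK, -, -, -, -, hle⟩ | ⟨-, n₁, n₂, d, P, J₁, J₂, -, h3, h12, hn', -⟩ |
    ⟨-, n₁, n₂, d, P, J₁, J₂, h2, h12, hn', hJ₁, hJ₂, -, hz, -⟩ | hrat | ⟨-, -, hhalf⟩ |
    ⟨-, k, t, d, P, J₀, c, -, hk3, ht, -, hn', -⟩ |
    ⟨-, k, t, d, P, J₀, c, hk2, ht, -, -, hn', hJ₀, -, hco, hz, -⟩ | h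
  · exact Or.inl ⟨W, h0, hW, stab_eq hB hn hH h0 h1 hle⟩
  · exact Or.inr (Or.inr (Or.inr (Or.inr (Or.inr (Or.inl ⟨hev, v, hv, point_eq hB hn hH hv hle⟩)))))
  · rcases nd_cases hB hn (by decide) hH hnd with h | h | h | ⟨W, -, h4, h8, hW, hE⟩ | h
    · exact Or.inr (Or.inl h)
    · exact Or.inr (Or.inr (Or.inl h))
    · exact Or.inr (Or.inr (Or.inr (Or.inl h)))
    · exact Or.inr (Or.inr (Or.inr (Or.inr (Or.inl ⟨W, by omega, hW, hE⟩))))
    · exact Or.inr (Or.inr (Or.inr (Or.inr (Or.inr (Or.inl h)))))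
  · exfalso
    have ht := hD.decomp.decomp.two_le
    have hk := hD.decomp.decomp.pos
    let i₀ : Fin t := ⟨0, by omega⟩
    have ht8 : t ≤ 8 := Nat.le_of_dvd (by norm_num) ⟨k, htk.symm⟩
    rcases Nat.even_or_odd k with hke | hko
    · refine hminus ((parts_plus_iff hD hke i₀).2 (Or.inr ?_))
      interval_cases t <;> first | decide | omega | (exfalso; obtain ⟨j, rfl⟩ := hke; omega)
    · have hodd := odd_of_odd_finrank (nondegOn_of_decomp hD i₀) (by rw [hD.decomp.decomp.finrank_eq]; exact hko)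
      have hte : Even t := by
        have h8 : Even (t * k) := by rw [htk]; decide
        exact (Nat.even_mul.1 h8).resolve_right (Nat.not_even_iff_odd.2 hko)
      exact hminus ((parts_disc hB (PrimeDim.two_ne_zero_of_odd hodd) (m := 4) rfl htk hte hD).2
        ⟨1, by norm_num⟩)
  · exact absurd (OrthEven.hasHalf_iff.1 ⟨D 0, hts 0, by rw [hD.finrank_eq, hk]⟩) hminus
  · obtain rfl : r = 2 :=
      (Nat.prime_dvd_prime_iff_eq hr Nat.prime_two).1 (hr.dvd_of_dvd_pow (show r ∣ 2 ^ 3 by simpa using hrn))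
    exact Or.inr (Or.inr (Or.inr (Or.inr (Or.inr (Or.inr (Or.inl ⟨K, hK,
      OrthNotLe.eq_inf hH hle (OrthNotLe.not_le_normalizer hB hn hr.two_le hK)⟩))))))
  · exact Or.inr (Or.inr (Or.inr (Or.inr (Or.inr (Or.inr (Or.inl ⟨K, hK,
      OrthNotLe.eq_inf hH hle (OrthNotLe.not_le_normalizer hB hn le_rfl hK)⟩))))))
  · nlinarith
  · exfalso
    obtain ⟨rfl, h4⟩ := sympTensor_dims hJ₁ hJ₂ h2 h12 (by omega)
    exact hminus (OrthEven.sympTensor_half hB (by omega) hz)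
  · obtain ⟨F₀, r, P, ζ, hr, hcard, hζ, hr', hE⟩ := rational_eq hB hn hH hrat
    exact Or.inr (Or.inr (Or.inr (Or.inr (Or.inr (Or.inr (Or.inr (Or.inl ⟨F₀, r, P, ζ, hr,
      rational_odd hB (m := 4) rfl hminus hr hcard hζ hr', hcard, hζ, hr', hE⟩)))))))
  · exact absurd (OrthEven.hasHalf_iff.1 (hhalf (by norm_num))) hminus
  · exfalso
    have : 3 ^ 2 ≤ k ^ t := (Nat.pow_le_pow_left hk3 2).trans (Nat.pow_le_pow_right (by omega) ht)
    omega
  · exfalso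
    obtain rfl : k = 2 := by
      by_contra hne
      have : 3 ^ 2 ≤ k ^ t := (Nat.pow_le_pow_left (show 3 ≤ k by omega) 2).trans
        (Nat.pow_le_pow_right (by omega) ht)
      omega
    exact hminus (OrthEven.sympPower_half hB (by omega) hn' hJ₀ hco hz)
  · exact Or.inr (Or.inr (Or.inr (Or.inr (Or.inr (Or.inr (Or.inr (Or.inr h)))))))

end CfsgLib.Asch.OrthEvenMax
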