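/-
Orthogonal frames: the central element `-1` and discriminants.
-/
import Cfsg.Agent.Lib.Classical.OrthSpinor
import Cfsg.Agent.Lib.Classical.OrthForms
import Cfsg.Agent.Lib.Classical.OrthFamily

set_option autoImplicit false

namespace CfsgLib.Orth

open Matrix

variable {F : Type*} [Field F] {ι : Type} [Fintype ι] [DecidableEq ι]
variable {Q : QuadraticForm F (ι → F)}

local notation "B" => QuadraticMap.polar (DFunLike.coe Q)

/-- The square class as a sign. -/
noncomputable def sqc (x : F) : ℤˣ := by classical exact if IsSquare x then 1 else -1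

omit [Fintype ι] [DecidableEq ι] in
theorem sqc_eq_one {x : F} : sqc x = 1 ↔ IsSquare x := by
  classical
  unfold sqc
  by_cases h : IsSquare x <;> simp [h]

omit [Fintype ι] [DecidableEq ι] in
theorem sqc_mul [Finite F] {a b : F} (ha : a ≠ 0) (hb : b ≠ 0) :
    sqc (a * b) = sqc a * sqc b := by
  classical
  have h := isSquare_mul_iff (b := b) ha
  simp only [hb, false_or] at h
  unfold sqc
  by_cases x : IsSquare a <;> by_cases y : IsSquare b <;> simp [h, x, y]

omit [Fintype ι] [DecidableEq ι] in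
theorem linearIndependent_frame {κ : Type*} [Fintype κ] (h2 : (2 : F) ≠ 0) (e : κ → ι → F)
    (he : ∀ i, Q (e i) ≠ 0) (hp : ∀ i j, i ≠ j → B (e i) (e j) = 0) : LinearIndependent F e := by
  rw [Fintype.linearIndependent_iff]
  intro g hg i
  have h : QuadraticMap.polarBilin Q (e i) (∑ j, g j • e j) = 0 := by rw [hg, map_zero]
  rw [map_sum, Finset.sum_eq_single i (fun j _ hj => by
    rw [map_smul, QuadraticMap.polarBilin_apply_apply, hp i j hj.symm, smul_zero])
    (fun h => absurd (Finset.mem_univ i) h), map_smul, QuadraticMap.polarBilin_apply_apply, b_self,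
    smul_eq_mul] at h
  exact (mul_eq_zero.1 h).resolve_right (mul_ne_zero h2 (he i))

/-- `-1` lies in `Ω` iff the discriminant is a square, in even dimension. -/
theorem neg_one_mem_omega_iff [Finite F] (hB : Nondeg Q) (h2 : (2 : F) ≠ 0)
    {κ : Type*} [Fintype κ] (hcard : Fintype.card κ = Module.finrank F (ι → F))
    (hev : Even (Fintype.card κ)) (hn : 2 ≤ Module.finrank F (ι → F)) (e : κ → ι → F)
    (he : ∀ i, Q (e i) ≠ 0) (hp : ∀ i j, i ≠ j → B (e i) (e j) = 0) :
    (∃ g : Grp Q, g ∈ Cfsg.Omega F ⇑Q ∧ ((g : GL ι F) : Matrix ι ι F) = -1) ↔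
      IsSquare (∏ i, Q (e i)) := by
  classical
  obtain ⟨h1, -, h3⟩ := omega_eq_ker_psi hB h2 hn (one_ne_zero (α := F))
  obtain ⟨v₀, hv₀⟩ := exists_aniso hB (by omega)
  obtain ⟨r₀, hr₀⟩ := exists_refl hB hv₀
  set ε := spinor Q 1 r₀ * sqc (Q v₀) with hε
  have hspin : ∀ (v : ι → F) (r : Grp Q), IsRefl v r → spinor Q 1 r = ε * sqc (Q v) := by
    intro v r hr
    have h := h3 v v₀ r r₀ hr hr₀
    rw [← sqc_eq_one, sqc_mul hr.1 hv₀] at h
    rw [hε]
    rcases Int.units_eq_one_or (spinor Q 1 r) with a | a <;>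
      rcases Int.units_eq_one_or (spinor Q 1 r₀) with b | b <;>
      rcases Int.units_eq_one_or (sqc (Q v)) with c | c <;>
      rcases Int.units_eq_one_or (sqc (Q v₀)) with d | d <;> simp [a, b, c, d] at h ⊢
  have key : ∀ s : Finset κ, ∃ g : Grp Q,
      (∀ i, ap g (e i) = if i ∈ s then -e i else e i) ∧ dickson hB g = (-1) ^ s.card ∧
      spinor Q 1 g = ε ^ s.card * sqc (∏ i ∈ s, Q (e i)) := by
    intro s
    induction s using Finset.induction_on with
    | empty =>
        refine ⟨1, fun i => by simp, by simp, ?_⟩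
        rw [map_one, Finset.card_empty, pow_zero, Finset.prod_empty, one_mul, sqc_eq_one.2 IsSquare.one]
    | insert j s hj ih =>
        obtain ⟨g, hg1, hg2, hg3⟩ := ih
        obtain ⟨r, hr⟩ := exists_refl hB (he j)
        refine ⟨r * g, fun i => ?_, ?_, ?_⟩
        · rw [ap_mul, hg1]
          by_cases hij : i = j
          · subst hij
            rw [if_neg hj, if_pos (Finset.mem_insert_self i s), refl_self hr]
          · have hfix : ap r (e i) = e i := refl_fix hr (hp j i (Ne.symm hij))
            by_cases his : i ∈ s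
            · rw [if_pos his, if_pos (Finset.mem_insert_of_mem his), ← neg_one_smul F (e i),
                ap_smul, hfix]
            · rw [if_neg his, if_neg (by simp [hij, his]), hfix]
        · rw [map_mul, hg2, dickson_refl hB hr, Finset.card_insert_of_notMem hj, pow_succ']
        · rw [map_mul, hg3, hspin _ _ hr, Finset.card_insert_of_notMem hj,
            Finset.prod_insert hj, sqc_mul (he j) (Finset.prod_ne_zero_iff.2 fun i _ => he i), pow_succ']
          exact mul_mul_mul_comm _ _ _ _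
  obtain ⟨g, hg1, hg2, hg3⟩ := key Finset.univ
  have : Nonempty κ := Fintype.card_pos_iff.1 (by omega)
  let bb := basisOfLinearIndependentOfCardEqFinrank (linearIndependent_frame h2 e he hp) hcard
  have hneg : ((g : GL ι F) : Matrix ι ι F) = -1 := by
    refine Matrix.ext_iff_mulVec.mpr fun x => ?_
    have hlin : Matrix.toLin' ((g : GL ι F) : Matrix ι ι F) = -LinearMap.id := bb.ext fun i => by
      rw [Matrix.toLin'_apply, LinearMap.neg_apply, LinearMap.id_apply,
        coe_basisOfLinearIndependentOfCardEqFinrank]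
      exact (hg1 i).trans (if_pos (Finset.mem_univ i))
    rw [← Matrix.toLin'_apply, hlin, Matrix.neg_mulVec, Matrix.one_mulVec]
    rfl
  have hε2 : ε ^ Fintype.card κ = 1 := by
    obtain ⟨k, hk⟩ := hev
    rw [hk, ← two_mul, pow_mul, Int.units_sq, one_pow]
  rw [Finset.card_univ] at hg2 hg3
  rw [hε2, one_mul] at hg3
  rw [hev.neg_one_pow] at hg2
  rw [← sqc_eq_one, ← hg3]
  constructor
  · rintro ⟨g', hg', hm⟩
    have e' : g' = g := Subtype.ext (Units.ext (hm.trans hneg.symm))
    rw [e', h1] at hg'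
    exact congrArg Prod.snd (MonoidHom.mem_ker.1 hg')
  · intro h
    exact ⟨g, by rw [h1]; exact MonoidHom.mem_ker.2 (Prod.ext hg2 h), hneg⟩

omit [Fintype ι] [DecidableEq ι] in
/-- The discriminant in any basis has the class of the product over an orthogonal frame. -/
theorem isSquare_det_gram [Finite F] (h2 : (2 : F) ≠ 0) {κ : Type*} [Fintype κ] [Nonempty κ]
    (hcard : Fintype.card κ = Module.finrank F (ι → F)) (hev : Even (Fintype.card κ))
    (e : κ → ι → F) (he : ∀ i, Q (e i) ≠ 0) (hp : ∀ i j, i ≠ j → B (e i) (e j) = 0)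
    {μ : Type*} [Fintype μ] [DecidableEq μ] (b : Module.Basis μ F (ι → F)) :
    IsSquare (Matrix.of fun i j : μ => B (b i) (b j)).det ↔ IsSquare (∏ i, Q (e i)) := by
  classical
  let bb := basisOfLinearIndependentOfCardEqFinrank (linearIndependent_frame h2 e he hp) hcard
  let σ : κ ≃ μ := bb.indexEquiv b
  let c := bb.reindex σ
  have hc : ∀ i, c i = e (σ.symm i) := fun i => by
    rw [Module.Basis.reindex_apply, coe_basisOfLinearIndependentOfCardEqFinrank]
  have h1 : (Matrix.of fun i j : μ => B (b i) (b j)) =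
      (c.toMatrix b)ᵀ * (Matrix.diagonal fun i => 2 * Q (c i)) * c.toMatrix b := by
    ext i j
    rw [Matrix.mul_apply]
    simp only [Matrix.mul_diagonal, Matrix.transpose_apply, Module.Basis.toMatrix_apply,
      Matrix.of_apply]
    have hij : B (b i) (b j) = ∑ k, c.repr (b j) k * B (b i) (c k) := by
      conv_lhs => rw [← c.sum_repr (b j)]
      rw [← QuadraticMap.polarBilin_apply_apply, map_sum]
      exact Finset.sum_congr rfl fun k _ => by
        rw [map_smul, QuadraticMap.polarBilin_apply_apply, smul_eq_mul]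
    rw [hij]
    refine Finset.sum_congr rfl fun k _ => ?_
    have hik : B (b i) (c k) = c.repr (b i) k * (2 * Q (c k)) := by
      conv_lhs => rw [← c.sum_repr (b i)]
      rw [b_comm, ← QuadraticMap.polarBilin_apply_apply, map_sum, Finset.sum_eq_single k
        (fun l _ hl => by
          rw [map_smul, QuadraticMap.polarBilin_apply_apply, hc, hc,
            hp _ _ (fun h => hl (σ.symm.injective h).symm), smul_zero])
        (fun h => absurd (Finset.mem_univ k) h), map_smul, QuadraticMap.polarBilin_apply_apply,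
        b_self, smul_eq_mul]
    rw [hik]
    ring
  have hdet : (c.toMatrix b).det ≠ 0 := fun h => by
    have := congrArg Matrix.det (c.toMatrix_mul_toMatrix_flip b)
    rw [Matrix.det_mul, h, zero_mul, Matrix.det_one] at this
    exact zero_ne_one this
  have hprod : ∏ i, 2 * Q (c i) = 2 ^ Fintype.card κ * ∏ i, Q (e i) := by
    simp only [hc]
    rw [Equiv.prod_comp σ.symm (fun i => 2 * Q (e i)), Finset.prod_mul_distrib, Finset.prod_const,
      Finset.card_univ]
  rw [h1, Matrix.det_mul, Matrix.det_mul, Matrix.det_transpose, Matrix.det_diagonal, hprod]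
  obtain ⟨k, hk⟩ := hev
  rw [hk, pow_add,
    show (c.toMatrix b).det * (2 ^ k * 2 ^ k * ∏ i, Q (e i)) * (c.toMatrix b).det =
      ((c.toMatrix b).det * 2 ^ k) * ((c.toMatrix b).det * 2 ^ k) * ∏ i, Q (e i) by ring]
  have hz : (c.toMatrix b).det * 2 ^ k ≠ 0 := mul_ne_zero hdet (pow_ne_zero _ h2)
  rw [isSquare_mul_iff (mul_ne_zero hz hz)]
  simp [Finset.prod_ne_zero_iff.2 fun i _ => he i]

/-- The frame of the hyperbolic form. -/
theorem frame_plus (h2 : (2 : F) ≠ 0) (m : ℕ) {Q : QuadraticForm F (Fin m ⊕ Fin m → F)}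
    (hQ : ⇑Q = Cfsg.quadFormPlus m F) :
    ∃ e : Fin m ⊕ Fin m → (Fin m ⊕ Fin m → F), (∀ i, Q (e i) ≠ 0) ∧
      (∀ i j, i ≠ j → QuadraticMap.polar ⇑Q (e i) (e j) = 0) ∧ ∏ i, Q (e i) = (-1) ^ m := by
  refine ⟨Sum.elim (fun i => Pi.single (.inl i) 1 + Pi.single (.inr i) 1)
    (fun i => Pi.single (.inl i) 1 + Pi.single (.inr i) (-1)), ?_, ?_, ?_⟩
  · rw [hQ]
    rintro (i | i) <;> simp [Cfsg.quadFormPlus, Pi.single_apply]
  · rw [hQ]
    rintro (i | i) (j | j) hij
    · have : i ≠ j := fun h => hij (by rw [h])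
      simp [polar_plus, Pi.single_apply, Finset.sum_add_distrib, this, Ne.symm this]
    · by_cases h : i = j <;>
        simp [polar_plus, Pi.single_apply, Finset.sum_add_distrib, h, Ne.symm, eq_comm]
    · by_cases h : i = j <;>
        simp [polar_plus, Pi.single_apply, Finset.sum_add_distrib, h, Ne.symm, eq_comm]
    · have : i ≠ j := fun h => hij (by rw [h])
      simp [polar_plus, Pi.single_apply, Finset.sum_add_distrib, this, Ne.symm this]
  · rw [hQ]
    simp [Cfsg.quadFormPlus, Fintype.prod_sum_type, Pi.single_apply]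

/-- The frame of the elliptic form. -/
theorem frame_minus [Finite F] (h2 : (2 : F) ≠ 0) (k : ℕ) {a b : F}
    (hab : ∀ z₁ z₂ : F, z₁ ^ 2 + a * z₁ * z₂ + b * z₂ ^ 2 = 0 → z₁ = 0 ∧ z₂ = 0)
    {Q : QuadraticForm F ((Fin k ⊕ Fin k) ⊕ Fin 2 → F)}
    (hQ : ⇑Q = Cfsg.quadFormMinus k F a b) :
    ∃ e : (Fin k ⊕ Fin k) ⊕ Fin 2 → ((Fin k ⊕ Fin k) ⊕ Fin 2 → F), (∀ i, Q (e i) ≠ 0) ∧
      (∀ i j, i ≠ j → QuadraticMap.polar ⇑Q (e i) (e j) = 0) ∧
      ∏ i, Q (e i) = (-1) ^ k * (4 * b - a ^ 2) := by
  have hd := aniso_disc hab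
  refine ⟨Sum.elim (Sum.elim (fun i => Pi.single (.inl (.inl i)) 1 + Pi.single (.inl (.inr i)) 1)
    (fun i => Pi.single (.inl (.inl i)) 1 + Pi.single (.inl (.inr i)) (-1)))
    ![Pi.single (.inr 0) 1, Pi.single (.inr 0) (-a) + Pi.single (.inr 1) 2], ?_, ?_, ?_⟩
  · rw [hQ]
    rintro ((i | i) | i)
    · simp [Cfsg.quadFormMinus, Pi.single_apply]
    · simp [Cfsg.quadFormMinus, Pi.single_apply]
    · fin_cases i
      · simp [Cfsg.quadFormMinus, Pi.single_apply]
      · simp [Cfsg.quadFormMinus, Pi.single_apply]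
        intro h; exact hd (by linear_combination h)
  · rw [hQ]
    rintro ((i | i) | i) ((j | j) | j) hij
    · have : i ≠ j := fun h => hij (by rw [h])
      simp [polar_minus, Pi.single_apply, Finset.sum_add_distrib, this, Ne.symm this]
    · by_cases h : i = j <;>
        simp [polar_minus, Pi.single_apply, Finset.sum_add_distrib, h, Ne.symm, eq_comm]
    · fin_cases j <;> simp [polar_minus, Pi.single_apply, Finset.sum_add_distrib]
    · by_cases h : i = j <;>
        simp [polar_minus, Pi.single_apply, Finset.sum_add_distrib, h, Ne.symm, eq_comm]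
    · have : i ≠ j := fun h => hij (by rw [h])
      simp [polar_minus, Pi.single_apply, Finset.sum_add_distrib, this, Ne.symm this]
    · fin_cases j <;> simp [polar_minus, Pi.single_apply, Finset.sum_add_distrib]
    · fin_cases i <;> simp [polar_minus, Pi.single_apply, Finset.sum_add_distrib]
    · fin_cases i <;> simp [polar_minus, Pi.single_apply, Finset.sum_add_distrib]
    · fin_cases i <;> fin_cases j <;>
        first
          | exact absurd rfl hij
          | (simp [polar_minus, Pi.single_apply, Finset.sum_add_distrib]; ring)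
  · rw [hQ]
    simp [Cfsg.quadFormMinus, Fintype.prod_sum_type, Pi.single_apply, Fin.prod_univ_two]
    ring

/-- The elliptic form has no half subspace. -/
theorem minus_no_half [Finite F] (k : ℕ) {a b : F}
    (hab : ∀ z₁ z₂ : F, z₁ ^ 2 + a * z₁ * z₂ + b * z₂ ^ 2 = 0 → z₁ = 0 ∧ z₂ = 0)
    {Q : QuadraticForm F ((Fin k ⊕ Fin k) ⊕ Fin 2 → F)}
    (hQ : ⇑Q = Cfsg.quadFormMinus k F a b) (hB : Nondeg Q)
    (U : Submodule F ((Fin k ⊕ Fin k) ⊕ Fin 2 → F)) : ¬ IsHalf Q U := by
  intro hU
  let f : (Fin k → F) →ₗ[F] ((Fin k ⊕ Fin k) ⊕ Fin 2 → F) :=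
    { toFun := fun x => Sum.elim (Sum.elim x 0) 0
      map_add' := fun x y => funext fun j => by rcases j with (j | j) | j <;> simp
      map_smul' := fun c x => funext fun j => by rcases j with (j | j) | j <;> simp }
  have hfi : Function.Injective f := fun x y h => funext fun i => congrFun h (.inl (.inl i))
  have hX : ∀ x ∈ LinearMap.range f, Q x = 0 := by
    rintro x ⟨y, rfl⟩
    simp [hQ, f, Cfsg.quadFormMinus]
  obtain ⟨W, hW, hle⟩ := exists_half_ge hB hU hX
  obtain ⟨w, hw, hwX⟩ := SetLike.not_le_iff_exists.1 (show ¬ W ≤ LinearMap.range f from fun h => by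
    have h1 := Submodule.finrank_mono h
    rw [LinearMap.finrank_range_of_inj hfi, Module.finrank_fin_fun] at h1
    have h2' := hW.2
    rw [Module.finrank_pi, Fintype.card_sum, Fintype.card_sum, Fintype.card_fin, Fintype.card_fin]
      at h2'
    omega)
  have hy : ∀ i, w (.inl (.inr i)) = 0 := fun i => by
    have h := mem_orth.1 (le_orth_of_singular hW.1 hw) _ (hle ⟨Pi.single i 1, rfl⟩)
    simpa [hQ, polar_minus, f, Pi.single_apply] using h
  have hz : w (.inr 0) ^ 2 + a * w (.inr 0) * w (.inr 1) + b * w (.inr 1) ^ 2 = 0 := by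
    have h := hW.1 w hw
    simpa [hQ, Cfsg.quadFormMinus, hy] using h
  obtain ⟨z0, z1⟩ := hab _ _ hz
  refine hwX ⟨fun i => w (.inl (.inl i)), funext fun j => ?_⟩
  rcases j with (j | j) | j
  · rfl
  · exact (hy j).symm
  · fin_cases j
    · exact z0.symm
    · exact z1.symm

end CfsgLib.Orth
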