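/-
Non-degenerate subspaces of orthogonal spaces.
-/
import Cfsg.Agent.Lib.Classical.OrthFamily
import Cfsg.Agent.Lib.Classical.OrthReflect

set_option autoImplicit false

namespace CfsgLib.Orth

open Matrix

variable {F : Type*} [Field F] {ι : Type} [Fintype ι] [DecidableEq ι]
variable {Q : QuadraticForm F (ι → F)}

local notation "B" => QuadraticMap.polar (DFunLike.coe Q)

/-- The polar form is non-degenerate on `W`. -/
def NondegOn (Q : QuadraticForm F (ι → F)) (W : Submodule F (ι → F)) : Prop :=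
  ∀ x ∈ W, (∀ y ∈ W, QuadraticMap.polar ⇑Q x y = 0) → x = 0

section

omit [Fintype ι] [DecidableEq ι]

theorem nondeg_inf {W : Submodule F (ι → F)} (hW : NondegOn Q W) {x : ι → F} (hx : x ∈ W)
    (hx' : x ∈ orth Q W) : x = 0 :=
  hW x hx fun y hy => by rw [b_comm]; exact hx' y hy

theorem sup_orth_eq_top [Finite ι] (hB : Nondeg Q) {W : Submodule F (ι → F)} (hW : NondegOn Q W) :
    W ⊔ orth Q W = ⊤ := by
  refine Submodule.eq_top_of_finrank_eq ?_
  have h1 := Submodule.finrank_sup_add_finrank_inf_eq W (orth Q W)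
  have e : W ⊓ orth Q W = ⊥ := (Submodule.eq_bot_iff _).2 fun x hx => nondeg_inf hW hx.1 hx.2
  rw [e, finrank_bot] at h1
  have := finrank_orth hB W
  omega

theorem exists_decomp [Finite ι] (hB : Nondeg Q) {W : Submodule F (ι → F)} (hW : NondegOn Q W)
    (x : ι → F) : ∃ w ∈ W, ∃ z ∈ orth Q W, x = w + z := by
  have h : x ∈ W ⊔ orth Q W := by rw [sup_orth_eq_top hB hW]; trivial
  obtain ⟨w, hw, z, hz, e⟩ := Submodule.mem_sup.1 h
  exact ⟨w, hw, z, hz, e.symm⟩

theorem nondegOn_orth [Finite ι] (hB : Nondeg Q) {W : Submodule F (ι → F)} (hW : NondegOn Q W) :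
    NondegOn Q (orth Q W) := by
  intro x hx h
  refine hB x fun y => ?_
  obtain ⟨w, hw, z, hz, rfl⟩ := exists_decomp hB hW y
  rw [b_add_right, h z hz, b_comm x w, mem_orth.1 hx w hw, add_zero]

/-- Vectors of `U` orthogonal to `P`. -/
def relOrth (Q : QuadraticForm F (ι → F)) (U P : Submodule F (ι → F)) : Submodule F (ι → F) :=
  U ⊓ orth Q P

theorem mem_relOrth {U P : Submodule F (ι → F)} {x : ι → F} :
    x ∈ relOrth Q U P ↔ x ∈ U ∧ ∀ p ∈ P, B p x = 0 := Iff.rfl

theorem finrank_relOrth [Finite ι] (hB : Nondeg Q) (U P : Submodule F (ι → F)) :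
    Module.finrank F U ≤ Module.finrank F (relOrth Q U P) + Module.finrank F P := by
  have h1 := Submodule.finrank_sup_add_finrank_inf_eq U (orth Q P)
  have h2 := finrank_orth hB P
  have h3 := Submodule.finrank_le (U ⊔ orth Q P)
  unfold relOrth
  omega

/-- A singular partner inside `U ∩ P⊥`. -/
theorem exists_partner_in [Finite ι] (hB : Nondeg Q) {U P : Submodule F (ι → F)}
    (hU : NondegOn Q U) (hP : P ≤ U) {s : ι → F} (hs : s ∈ relOrth Q U P) (hsP : s ∉ P)
    (hsq : Q s = 0) : ∃ f ∈ relOrth Q U P, Q f = 0 ∧ B s f = 1 := by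
  have hsW : s ∉ orth Q U ⊔ P := fun h => by
    obtain ⟨w, hw, p, hp, e⟩ := Submodule.mem_sup.1 h
    have : w ∈ U := by
      rw [show w = s - p by rw [← e]; abel]; exact U.sub_mem hs.1 (hP hp)
    rw [nondeg_inf hU this hw, zero_add] at e
    exact hsP (e ▸ hp)
  obtain ⟨y, hy, hsy⟩ := exists_orth_one hB hsW
  have hyU : y ∈ U := by
    have := orth_le (Q := Q) (le_sup_left : orth Q U ≤ orth Q U ⊔ P) hy
    rwa [orth_orth hB] at this
  refine ⟨y - Q y • s, ⟨U.sub_mem hyU (U.smul_mem _ hs.1), Submodule.sub_mem _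
    (orth_le le_sup_right hy) (Submodule.smul_mem _ _ hs.2)⟩, ?_, ?_⟩
  · rw [q_sub, q_smul, hsq, mul_zero, add_zero, b_smul_right, b_comm y s, hsy, mul_one, sub_self]
  · rw [b_sub_right, b_smul_right, hsy, b_self_zero hsq, mul_zero, sub_zero]

/-- Hyperbolic pairs orthogonal to a small subspace. -/
theorem exists_pair_in [Finite F] [Finite ι] (hB : Nondeg Q) {U P : Submodule F (ι → F)}
    (hU : NondegOn Q U) (hP : P ≤ U)
    (hd : 2 * Module.finrank F P + 3 ≤ Module.finrank F U) :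
    ∃ s f, s ∈ relOrth Q U P ∧ f ∈ relOrth Q U P ∧ s ∉ P ∧ Q s = 0 ∧ Q f = 0 ∧ B s f = 1 := by
  obtain ⟨T, hT⟩ := (Submodule.comap (relOrth Q U P).subtype P).exists_isCompl
  have h1 := Submodule.finrank_add_eq_of_isCompl hT
  have h2 := finrank_relOrth hB U P
  have h3 : Module.finrank F (Submodule.comap (relOrth Q U P).subtype P) ≤ Module.finrank F P := by
    rw [← Submodule.finrank_map_subtype_eq, Submodule.map_comap_subtype]
    exact Submodule.finrank_mono inf_le_right
  obtain ⟨s, hs, hs0, hsq⟩ := exists_singular (Q := Q) (U := T.map (relOrth Q U P).subtype) (by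
    rw [Submodule.finrank_map_subtype_eq]; omega)
  obtain ⟨t, ht, rfl⟩ := hs
  have hsP : (t : ι → F) ∉ P := fun h => hs0 (by
    have : t ∈ Submodule.comap (relOrth Q U P).subtype P ⊓ T := ⟨h, ht⟩
    rw [hT.inf_eq_bot, Submodule.mem_bot] at this
    rw [this]; rfl)
  obtain ⟨f, hf, hfq, hsf⟩ := exists_partner_in hB hU hP t.2 hsP hsq
  exact ⟨t, f, t.2, hf, hsP, hsq, hfq, hsf⟩

/-- A subspace containing a hyperbolic pair is spanned by its singular vectors. -/
theorem le_span_singular_in {S : Submodule F (ι → F)} {s f : ι → F} (hs : s ∈ S) (hf : f ∈ S)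
    (hsq : Q s = 0) (hfq : Q f = 0) (hsf : B s f = 1) :
    S ≤ Submodule.span F {y | y ∈ S ∧ Q y = 0} := by
  intro x hx
  obtain ⟨x₀, hx₀⟩ : ∃ x₀, x₀ = x - B x f • s - B x s • f := ⟨_, rfl⟩
  have h₁ : B x₀ s = 0 := by
    rw [hx₀, b_sub_left, b_sub_left, b_smul_left, b_smul_left, b_self_zero hsq, b_comm f s, hsf]
    ring
  have h₂ : B x₀ f = 0 := by
    rw [hx₀, b_sub_left, b_sub_left, b_smul_left, b_smul_left, b_self_zero hfq, hsf]
    ring
  have hmem : x₀ ∈ S := hx₀ ▸ S.sub_mem (S.sub_mem hx (S.smul_mem _ hs)) (S.smul_mem _ hf)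
  have e : x = (x₀ + (-Q x₀) • s + f) + (B x f + Q x₀) • s + (B x s - 1) • f := by
    rw [hx₀]; module
  rw [e]
  refine add_mem (add_mem (Submodule.subset_span ⟨S.add_mem (S.add_mem hmem (S.smul_mem _ hs)) hf, ?_⟩)
    (Submodule.smul_mem _ _ (Submodule.subset_span ⟨hs, hsq⟩)))
    (Submodule.smul_mem _ _ (Submodule.subset_span ⟨hf, hfq⟩))
  rw [q_add, q_add, q_smul, hsq, hfq, b_smul_right, h₁, b_add_left, h₂, b_smul_left, hsf]
  ring

/-- If a singular vector of `S` escapes a subspace, say so. -/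
theorem exists_singular_not_mem {S T : Submodule F (ι → F)}
    (hS : S ≤ Submodule.span F {y | y ∈ S ∧ Q y = 0}) (h : ¬ S ≤ T) :
    ∃ y ∈ S, Q y = 0 ∧ y ∉ T := by
  by_contra hc
  push Not at hc
  exact h (hS.trans (Submodule.span_le.2 fun y hy => hc y hy.1 hy.2))

end

theorem siegel_fix_orth {W : Submodule F (ι → F)} {u v : ι → F} {g : Grp Q} (hg : IsSiegel u v g)
    (hu : u ∈ W) (hv : v ∈ W) {x : ι → F} (hx : x ∈ orth Q W) : ap g x = x :=
  siegel_fix hg (by rw [b_comm]; exact hx u hu) (by rw [b_comm]; exact hx v hv)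

theorem siegel_mem_stab_sub {W : Submodule F (ι → F)} {u v : ι → F} {g : Grp Q}
    (hg : IsSiegel u v g) (hu : u ∈ W) (hv : v ∈ W) : g ∈ stab Q W ⊓ El Q := by
  refine ⟨mem_stab_of_le fun x hx => ?_, siegel_mem_El hg⟩
  rw [hg.2.2]
  exact W.sub_mem (W.sub_mem (W.add_mem hx (W.smul_mem _ hv)) (W.smul_mem _ hu)) (W.smul_mem _ hu)

theorem stab_le_stab_orth (hB : Nondeg Q) {W : Submodule F (ι → F)} :
    stab Q W ≤ stab Q (orth Q W) := fun g hg => mem_stab_of_le fun x hx => fun w hw => by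
  show B w (ap g x) = 0
  rw [← ap_ap_inv g w, ap_b]
  exact hx _ ((mem_stab.1 hg (ap g⁻¹ w)).2 (by rwa [ap_ap_inv]))

theorem stab_orth_eq (hB : Nondeg Q) (W : Submodule F (ι → F)) :
    stab Q (orth Q W) = stab Q W :=
  le_antisymm (by
    have h := stab_le_stab_orth hB (W := orth Q W)
    rwa [orth_orth hB] at h) (stab_le_stab_orth hB)

theorem mem_img_of_stab {W : Submodule F (ι → F)} {g : Grp Q}
    (h : img g W ≤ W) : g ∈ stab Q W :=
  mem_stab_of_le fun _ hx => h (ap_mem_img g hx)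

theorem nondegOn_img {W : Submodule F (ι → F)} (hW : NondegOn Q W) (g : Grp Q) :
    NondegOn Q (img g W) := fun x hx h => by
  have := hW _ (mem_img.1 hx) fun y hy => by
    rw [← ap_b g, ap_ap_inv]; exact h _ (ap_mem_img g hy)
  rw [← ap_ap_inv g x, this, ap_zero]

/-- Orthogonal independent singular vectors of a non-degenerate subspace are conjugate inside it. -/
theorem exists_move_orth_in (hB : Nondeg Q) {U : Submodule F (ι → F)} (hU : NondegOn Q U)
    {u w : ι → F} (hu : u ∈ U) (hw : w ∈ U) (hqu : Q u = 0) (hqw : Q w = 0) (huw : B u w = 0)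
    (hi : u ∉ Submodule.span F {w - u}) :
    ∃ z ∈ U, ∃ e : Grp Q, IsSiegel z (w - u) e ∧ ap e u = w := by
  have hu' : u ∉ orth Q U ⊔ Submodule.span F {w - u} := fun h => by
    obtain ⟨p, hp, y, hy, e⟩ := Submodule.mem_sup.1 h
    obtain ⟨c, rfl⟩ := Submodule.mem_span_singleton.1 hy
    have : p ∈ U := by
      rw [show p = u - c • (w - u) by conv_rhs => arg 1; rw [← e]
                                      abel]
      exact U.sub_mem hu (U.smul_mem _ (U.sub_mem hw hu))
    rw [nondeg_inf hU this hp, zero_add] at e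
    exact hi (Submodule.mem_span_singleton.2 ⟨c, e⟩)
  obtain ⟨z₀, hz₀, hz1⟩ := exists_orth_one hB hu'
  have hz₀U : z₀ ∈ U := by
    have := orth_le (Q := Q) (le_sup_left : orth Q U ≤ orth Q U ⊔ Submodule.span F {w - u}) hz₀
    rwa [orth_orth hB] at this
  have hz2 : B w z₀ = 1 := by
    have h := hz₀ (w - u) (Submodule.mem_sup_right (Submodule.mem_span_singleton_self _))
    change B (w - u) z₀ = 0 at h
    rw [b_sub_left, hz1, sub_eq_zero] at h
    exact h
  obtain ⟨z, hz⟩ : ∃ z, z = z₀ - Q z₀ • u := ⟨_, rfl⟩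
  have hqz : Q z = 0 := by
    rw [hz, q_sub, q_smul, hqu, mul_zero, add_zero, b_smul_right, b_comm z₀ u, hz1, mul_one,
      sub_self]
  have huz : B u z = 1 := by
    rw [hz, b_sub_right, b_smul_right, hz1, b_self_zero hqu, mul_zero, sub_zero]
  have hwz : B w z = 1 := by
    rw [hz, b_sub_right, b_smul_right, hz2, b_comm w u, huw, mul_zero, sub_zero]
  obtain ⟨e, he⟩ := exists_siegel hB hqz (v := w - u)
    (by rw [b_sub_right, b_comm z w, b_comm z u, huz, hwz, sub_self])
  refine ⟨z, hz ▸ U.sub_mem hz₀U (U.smul_mem _ hu), e, he, ?_⟩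
  rw [he.2.2, huz, q_sub, hqw, hqu, b_sub_right, huw, b_self_zero hqu, b_comm w u, huw]
  module

variable [Finite F]

/-- Transitivity on singular vectors inside a subspace of dimension at least five. -/
theorem exists_move_in (hB : Nondeg Q) {U : Submodule F (ι → F)} (hU : NondegOn Q U)
    (hd : 5 ≤ Module.finrank F U) {u w : ι → F} (hu : u ∈ U) (hw : w ∈ U) (hqu : Q u = 0)
    (hqw : Q w = 0) (hu0 : u ≠ 0) (hw0 : w ≠ 0) :
    ∃ e ∈ Subgroup.closure {g : Grp Q | ∃ a ∈ U, ∃ b ∈ U, IsSiegel a b g}, ap e u = w := by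
  have step : ∀ a b, a ∈ U → b ∈ U → Q a = 0 → Q b = 0 → B a b = 0 →
      a ∉ Submodule.span F {b - a} →
      ∃ e ∈ Subgroup.closure {g : Grp Q | ∃ a ∈ U, ∃ b ∈ U, IsSiegel a b g}, ap e a = b := by
    intro a b ha hb hqa hqb hab hi
    obtain ⟨z, hz, e, he, hea⟩ := exists_move_orth_in hB hU ha hb hqa hqb hab hi
    exact ⟨e, Subgroup.subset_closure ⟨z, hz, _, U.sub_mem hb ha, he⟩, hea⟩
  have indep : ∀ a b : ι → F, a ≠ 0 → b ∉ Submodule.span F {a} → a ∉ Submodule.span F {b - a} := by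
    intro a b ha0 hb h
    obtain ⟨c, hc⟩ := Submodule.mem_span_singleton.1 h
    by_cases hc0 : c = 0
    · rw [hc0, zero_smul] at hc; exact ha0 hc.symm
    · refine hb (Submodule.mem_span_singleton.2 ⟨(1 + c) / c, ?_⟩)
      rw [div_eq_mul_inv, mul_comm, mul_smul,
        show (1 + c) • a = c • b by linear_combination (norm := module) -hc,
        smul_smul, inv_mul_cancel₀ hc0, one_smul]
  -- generic intermediate vectors
  have mid : ∀ a b, a ∈ U → b ∈ U → ∃ y ∈ U, Q y = 0 ∧ y ≠ 0 ∧ B a y = 0 ∧ B b y = 0 := by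
    intro a b ha hb
    classical
    have h1 := finrank_relOrth hB U (Submodule.span F ({a, b} : Set (ι → F)))
    have h2 : Module.finrank F (Submodule.span F ({a, b} : Set (ι → F))) ≤ 2 := by
      have h := finrank_span_finset_le_card (R := F) ({a, b} : Finset (ι → F))
      rw [Set.finrank, Finset.coe_pair] at h
      exact h.trans Finset.card_le_two
    obtain ⟨y, hy, hy0, hyq⟩ := exists_singular (Q := Q)
      (U := relOrth Q U (Submodule.span F ({a, b} : Set (ι → F)))) (by omega)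
    exact ⟨y, hy.1, hyq, hy0, hy.2 a (Submodule.subset_span (Set.mem_insert _ _)),
      hy.2 b (Submodule.subset_span (Set.mem_insert_of_mem _ rfl))⟩
  have go : ∀ a b, a ∈ U → b ∈ U → Q a = 0 → Q b = 0 → a ≠ 0 → b ≠ 0 → B a b ≠ 0 →
      ∃ e ∈ Subgroup.closure {g : Grp Q | ∃ a ∈ U, ∃ b ∈ U, IsSiegel a b g}, ap e a = b := by
    intro a b ha hb hqa hqb ha0 hb0 hab
    obtain ⟨y, hy, hqy, hy0, hay, hby⟩ := mid a b ha hb
    have h1 : y ∉ Submodule.span F {a} := fun h => by
      obtain ⟨c, rfl⟩ := Submodule.mem_span_singleton.1 h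
      rw [b_smul_right, b_comm b a] at hby
      exact hy0 (by rw [(mul_eq_zero.1 hby).resolve_right hab, zero_smul])
    have h2 : b ∉ Submodule.span F {y} := fun h => by
      obtain ⟨c, rfl⟩ := Submodule.mem_span_singleton.1 h
      exact hab (by rw [b_smul_right, hay, mul_zero])
    obtain ⟨e₁, he₁, hea⟩ := step a y ha hy hqa hqy hay (indep a y ha0 h1)
    obtain ⟨e₂, he₂, heb⟩ := step y b hy hb hqy hqb (by rw [b_comm]; exact hby) (indep y b hy0 h2)
    exact ⟨e₂ * e₁, mul_mem he₂ he₁, by rw [ap_mul, hea, heb]⟩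
  by_cases huw : B u w = 0
  swap
  · exact go u w hu hw hqu hqw hu0 hw0 huw
  by_cases hi : w ∈ Submodule.span F {u}
  · obtain ⟨f, hf, hfq, huf⟩ := exists_partner_in hB hU (P := ⊥) bot_le (s := u)
      ⟨hu, fun p hp => by rw [(Submodule.mem_bot F).1 hp]; exact b_zero_left u⟩
      (fun h => hu0 ((Submodule.mem_bot F).1 h)) hqu
    have hf0 : f ≠ 0 := fun e => by rw [e, b_zero_right] at huf; exact zero_ne_one huf
    obtain ⟨c, rfl⟩ := Submodule.mem_span_singleton.1 hi
    obtain ⟨e₁, he₁, h₁⟩ := go u f hu hf.1 hqu hfq hu0 hf0 (by rw [huf]; exact one_ne_zero)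
    obtain ⟨e₂, he₂, h₂⟩ := go f (c • u) hf.1 hw hfq hqw hf0 hw0 (by
      rw [b_smul_right, b_comm f u, huf, mul_one]
      exact fun e => hw0 (by rw [e, zero_smul]))
    exact ⟨e₂ * e₁, mul_mem he₂ he₁, by rw [ap_mul, h₁, h₂]⟩
  · exact step u w hu hw hqu hqw huw (indep u w hu0 hi)

/-- The isometries of `W` act irreducibly. -/
theorem irreducible (hB : Nondeg Q) {W : Submodule F (ι → F)} (hW : NondegOn Q W)
    (hbad : ¬ (Nat.card F ≤ 3 ∧ Module.finrank F W = 2 ∧ ∃ s ∈ W, s ≠ 0 ∧ Q s = 0))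
    {X : Submodule F (ι → F)} (hXW : X ≤ W) (hX0 : X ≠ ⊥)
    (hrefl : ∀ a ∈ W, Q a ≠ 0 → ∀ x ∈ X, x - ((Q a)⁻¹ * B a x) • a ∈ X)
    (hsie : ∀ s ∈ W, ∀ v ∈ W, Q s = 0 → B s v = 0 → ∀ x ∈ X,
      x + B x s • v - B x v • s - (Q v * B x s) • s ∈ X) : X = W := by
  have hbot : ∀ x ∈ W, x ≠ 0 → ∃ y ∈ W, B x y ≠ 0 := fun x hx hx0 => by
    by_contra hc
    push Not at hc
    exact hx0 (hW x hx hc)
  have caseA : ∀ s ∈ X, s ≠ 0 → Q s = 0 → X = W := by
    intro s hs hs0 hqs
    have hsW := hXW hs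
    obtain ⟨f, hf, hfq, hsf⟩ := exists_partner_in hB hW (P := ⊥) bot_le
      ⟨hsW, fun p hp => by rw [(Submodule.mem_bot F).1 hp]; exact b_zero_left s⟩
      (fun h => hs0 ((Submodule.mem_bot F).1 h)) hqs
    refine le_antisymm hXW ((le_span_singular_in hsW hf.1 hqs hfq hsf).trans (Submodule.span_le.2 ?_))
    rintro w ⟨hw, hqw⟩
    by_cases hsw : B s w = 0
    swap
    · have hq : Q (s - w) ≠ 0 := by rw [q_sub, hqs, hqw, zero_add, zero_sub, neg_ne_zero]; exact hsw
      have h := hrefl (s - w) (W.sub_mem hsW hw) hq s hs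
      rwa [show B (s - w) s = Q (s - w) by
        rw [b_sub_left, b_self_zero hqs, q_sub, hqs, hqw, b_comm w s]; ring,
        inv_mul_cancel₀ hq, one_smul, sub_sub_cancel] at h
    by_cases hi : s ∈ Submodule.span F {w - s}
    · obtain ⟨c, hc⟩ := Submodule.mem_span_singleton.1 hi
      by_cases hc0 : c = 0
      · rw [hc0, zero_smul] at hc; exact absurd hc.symm hs0
      rw [show w = ((1 + c) / c) • s by
        rw [div_eq_mul_inv, mul_comm, mul_smul,
          show (1 + c) • s = c • w by linear_combination (norm := module) -hc,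
          smul_smul, inv_mul_cancel₀ hc0, one_smul]]
      exact X.smul_mem _ hs
    · obtain ⟨z, hz, e, he, hes⟩ := exists_move_orth_in hB hW hsW hw hqs hqw hsw hi
      have h := hsie z hz (w - s) (W.sub_mem hw hsW) he.1 he.2.1 s hs
      rwa [← he.2.2 s, hes] at h
  by_contra hne
  have haniso : ∀ s ∈ X, Q s = 0 → s = 0 := fun s hs hqs => by
    by_contra h; exact hne (caseA s hs h hqs)
  obtain ⟨x, hx, hx0⟩ := Submodule.exists_mem_ne_zero_of_ne_bot hX0
  have hxW := hXW hx
  by_cases hiso : ∃ s ∈ W, s ≠ 0 ∧ Q s = 0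
  swap
  · -- an anisotropic space
    push Not at hiso
    have hle : Module.finrank F W ≤ 2 := by
      by_contra h
      obtain ⟨v, hv, hv0, hqv⟩ := exists_singular (Q := Q) (U := W) (by omega)
      exact hiso v hv hv0 hqv
    obtain ⟨y, hy, hyX⟩ := SetLike.not_le_iff_exists.1 fun h => hne (le_antisymm hXW h)
    obtain ⟨a, ha, haX, hax⟩ : ∃ a ∈ W, a ∉ X ∧ B a x ≠ 0 := by
      by_cases h1 : B y x = 0
      swap
      · exact ⟨y, hy, hyX, h1⟩
      by_cases h2 : B (y + x) x = 0
      swap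
      · exact ⟨y + x, W.add_mem hy hxW, fun h => hyX ((Submodule.add_mem_iff_left _ hx).1 h), h2⟩
      exfalso
      rw [b_add_left, h1, zero_add] at h2
      have hspan : Submodule.span F ({x, y} : Set (ι → F)) = W := by
        classical
        refine Submodule.eq_of_le_of_finrank_le (Submodule.span_le.2 fun z hz => ?_) ?_
        · rcases hz with rfl | hz
          · exact hxW
          · rw [Set.mem_singleton_iff.1 hz]; exact hy
        · have hlt : Submodule.span F {x} < Submodule.span F ({x, y} : Set (ι → F)) := by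
            refine lt_of_le_of_ne (Submodule.span_mono (by simp)) fun e => hyX ?_
            have hmem : y ∈ Submodule.span F {x} := e ▸ Submodule.subset_span (Set.mem_insert_of_mem x rfl)
            exact (Submodule.span_singleton_le_iff_mem _ _).2 hx hmem
          have h3 := Submodule.finrank_lt_finrank_of_lt hlt
          rw [finrank_span_singleton hx0] at h3
          omega
      refine hx0 (hW x hxW fun z hz => ?_)
      rw [← hspan] at hz
      obtain ⟨α, β, rfl⟩ := Submodule.mem_span_pair.1 hz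
      rw [b_add_right, b_smul_right, b_smul_right, h2, b_comm x y, h1]
      ring
    have hqa : Q a ≠ 0 := fun h => haX (by rw [hiso a ha |> fun f => not_imp_not.1 f h]; exact X.zero_mem)
    have h := hrefl a ha hqa x hx
    rw [Submodule.sub_mem_iff_right _ hx] at h
    exact haX ((Submodule.smul_mem_iff _ (mul_ne_zero (inv_ne_zero hqa) hax)).1 h)
  obtain ⟨s₀, hs₀, hs₀0, hqs₀⟩ := hiso
  obtain ⟨f₀, hf₀, hf₀q, hs₀f⟩ := exists_partner_in hB hW (P := ⊥) bot_le
    ⟨hs₀, fun p hp => by rw [(Submodule.mem_bot F).1 hp]; exact b_zero_left s₀⟩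
    (fun h => hs₀0 ((Submodule.mem_bot F).1 h)) hqs₀
  obtain ⟨s₁, hs₁, hqs₁, hxs₁⟩ : ∃ s ∈ W, Q s = 0 ∧ B x s ≠ 0 := by
    by_contra hc
    push Not at hc
    obtain ⟨y, hy, hxy⟩ := hbot x hxW hx0
    refine hxy ?_
    have : y ∈ LinearMap.ker (QuadraticMap.polarBilin Q x) :=
      (Submodule.span_le (p := LinearMap.ker (QuadraticMap.polarBilin Q x))).2
        (fun z hz => hc z hz.1 hz.2)
        (le_span_singular_in hs₀ hf₀.1 hqs₀ hf₀q hs₀f hy)
    exact this
  obtain ⟨s, hs⟩ : ∃ s, s = (B x s₁)⁻¹ • s₁ := ⟨_, rfl⟩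
  have hsW : s ∈ W := hs ▸ W.smul_mem _ hs₁
  have hqs : Q s = 0 := by rw [hs, q_smul, hqs₁, mul_zero]
  have hxs : B x s = 1 := by rw [hs, b_smul_right, inv_mul_cancel₀ hxs₁]
  have hs0 : s ≠ 0 := fun e => by rw [e, b_zero_right] at hxs; exact zero_ne_one hxs
  have hxne : Q x ≠ 0 := fun e => hx0 (haniso x hx e)
  obtain ⟨f, hf⟩ : ∃ f, f = x - Q x • s := ⟨_, rfl⟩
  have hfW : f ∈ W := hf ▸ W.sub_mem hxW (W.smul_mem _ hsW)
  have hxe : x = f + Q x • s := by rw [hf]; abel
  have hqf : Q f = 0 := by rw [hf, q_sub, q_smul, hqs, b_smul_right, hxs]; ring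
  have hsf : B s f = 1 := by
    rw [hf, b_sub_right, b_smul_right, b_comm s x, hxs, b_self_zero hqs]; ring
  have hs' : ∀ v ∈ W, B s v = 0 → B f v = 0 → v - Q v • s ∈ X := by
    intro v hv hsv hfv
    have h := hsie s hsW v hv hqs hsv x hx
    have hxv : B x v = 0 := by rw [hxe, b_add_left, b_smul_left, hfv, hsv]; ring
    rw [hxs, hxv, zero_smul, sub_zero, mul_one, one_smul, add_sub_assoc,
      Submodule.add_mem_iff_right _ hx] at h
    exact h
  have hsX : s ∉ X := fun h => hs0 (haniso s h hqs)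
  obtain ⟨S, hS⟩ : ∃ S, S = relOrth Q W (Submodule.span F ({s, f} : Set (ι → F))) := ⟨_, rfl⟩
  have memS : ∀ v, v ∈ S ↔ v ∈ W ∧ B s v = 0 ∧ B f v = 0 := fun v => by
    rw [hS, mem_relOrth]
    refine ⟨fun ⟨h1, h2⟩ => ⟨h1, h2 s (Submodule.subset_span (Set.mem_insert _ _)),
      h2 f (Submodule.subset_span (Set.mem_insert_of_mem _ rfl))⟩, fun ⟨h1, h2, h3⟩ => ⟨h1, ?_⟩⟩
    intro p hp
    obtain ⟨α, β, rfl⟩ := Submodule.mem_span_pair.1 hp
    rw [b_add_left, b_smul_left, b_smul_left, h2, h3]; ring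
  by_cases hS0 : S = ⊥
  · -- a hyperbolic plane over a field with more than three elements
    have hW2 : Module.finrank F W = 2 := by
      classical
      have h1 := finrank_relOrth hB W (Submodule.span F ({s, f} : Set (ι → F)))
      have h2 := finrank_span_finset_le_card (R := F) ({s, f} : Finset (ι → F))
      rw [Set.finrank, Finset.coe_pair] at h2
      have h3 : ({s, f} : Finset (ι → F)).card ≤ 2 := Finset.card_le_two
      rw [← hS, hS0, finrank_bot] at h1
      have hlt : Submodule.span F {s} < W := lt_of_le_of_ne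
        ((Submodule.span_singleton_le_iff_mem _ _).2 hsW) fun e => by
        obtain ⟨c, hc⟩ := Submodule.mem_span_singleton.1 (e.ge hfW)
        rw [← hc, b_smul_right, b_self_zero hqs, mul_zero] at hsf
        exact zero_ne_one hsf
      have h4 := Submodule.finrank_lt_finrank_of_lt hlt
      rw [finrank_span_singleton hs0] at h4
      omega
    have hq : 3 < Nat.card F := by
      by_contra h
      exact hbad ⟨by omega, hW2, s, hsW, hs0, hqs⟩
    cases nonempty_fintype F
    classical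
    obtain ⟨μ, -, hμ⟩ := Finset.exists_mem_notMem_of_card_lt_card
      (s := ({0, (Q x)⁻¹, -(Q x)⁻¹} : Finset F)) (t := Finset.univ) (by
        rw [Finset.card_univ, ← Nat.card_eq_fintype_card]
        exact Finset.card_le_three.trans_lt hq)
    simp only [Finset.mem_insert, Finset.mem_singleton, not_or] at hμ
    have hqa : Q (s + μ • f) = μ := by
      rw [q_add, q_smul, hqs, hqf, b_smul_right, hsf]; ring
    have h := hrefl (s + μ • f) (W.add_mem hsW (W.smul_mem _ hfW)) (by rw [hqa]; exact hμ.1) x hx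
    have hbax : B (s + μ • f) x = 1 + μ * Q x := by
      rw [b_add_left, b_smul_left, b_comm s x, hxs, hxe, b_add_right, b_self_zero hqf, b_smul_right,
        b_comm f s, hsf, ← hxe]; ring
    rw [hqa, hbax] at h
    have h2 := X.add_mem h (X.smul_mem (μ * Q x) hx)
    have h3 : x - (μ⁻¹ * (1 + μ * Q x)) • (s + μ • f) + (μ * Q x) • x =
        (μ * Q x * Q x - μ⁻¹) • s := by
      rw [hf]
      match_scalars <;> field_simp [hμ.1] <;> ring
    rw [h3] at h2
    refine hsX ((Submodule.smul_mem_iff _ ?_).1 h2)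
    intro e
    have e' : (μ * Q x - 1) * (μ * Q x + 1) = 0 := by
      have := hμ.1
      field_simp at e
      linear_combination e
    rcases mul_eq_zero.1 e' with h4 | h4
    · exact hμ.2.1 (eq_inv_of_mul_eq_one_left (sub_eq_zero.1 h4))
    · refine hμ.2.2 ?_
      rw [← inv_neg]
      exact eq_inv_of_mul_eq_one_left (by linear_combination -h4)
  obtain ⟨v, hv, hv0⟩ := Submodule.exists_mem_ne_zero_of_ne_bot hS0
  obtain ⟨hvW, hsv, hfv⟩ := (memS v).1 hv
  have hvX := hs' v hvW hsv hfv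
  have hqv : Q v ≠ 0 := fun e => hv0 (haniso v (by rwa [e, zero_smul, sub_zero] at hvX) e)
  by_cases h2 : (2 : F) = 0
  swap
  · have h := hs' (-v) (W.neg_mem hvW) (by rw [← neg_one_smul F v, b_smul_right, hsv, mul_zero])
      (by rw [← neg_one_smul F v, b_smul_right, hfv, mul_zero])
    rw [QuadraticMap.map_neg] at h
    have h' := X.add_mem h hvX
    rw [show -v - Q v • s + (v - Q v • s) = (-(2 * Q v)) • s by module] at h'
    exact hsX ((Submodule.smul_mem_iff _ (neg_ne_zero.2 (mul_ne_zero h2 hqv))).1 h')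
  by_cases hq2 : Nat.card F = 2
  swap
  · cases nonempty_fintype F
    classical
    obtain ⟨t, -, ht⟩ := Finset.exists_mem_notMem_of_card_lt_card
      (s := ({0, 1} : Finset F)) (t := Finset.univ) (by
        rw [Finset.card_univ, ← Nat.card_eq_fintype_card]
        have := Finite.one_lt_card (α := F)
        exact Finset.card_le_two.trans_lt (by omega))
    simp only [Finset.mem_insert, Finset.mem_singleton, not_or] at ht
    have h := hs' (t • v) (W.smul_mem _ hvW) (by rw [b_smul_right, hsv, mul_zero])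
      (by rw [b_smul_right, hfv, mul_zero])
    rw [q_smul] at h
    have h' := X.sub_mem h (X.smul_mem t hvX)
    rw [show t • v - (t * t * Q v) • s - t • (v - Q v • s) = (t * Q v * (1 - t)) • s by module] at h'
    exact hsX ((Submodule.smul_mem_iff _ (mul_ne_zero (mul_ne_zero ht.1 hqv)
      (sub_ne_zero.2 (Ne.symm ht.2)))).1 h')
  -- two elements
  obtain ⟨y, hy, hvy⟩ := hbot v hvW hv0
  obtain ⟨w, hw⟩ : ∃ w, w = y - B y f • s - B y s • f := ⟨_, rfl⟩
  have hwS : w ∈ S := by
    rw [memS, hw]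
    refine ⟨W.sub_mem (W.sub_mem hy (W.smul_mem _ hsW)) (W.smul_mem _ hfW), ?_, ?_⟩
    · rw [b_sub_right, b_sub_right, b_smul_right, b_smul_right, b_self_zero hqs, hsf, b_comm s y]
      ring
    · rw [b_sub_right, b_sub_right, b_smul_right, b_smul_right, b_self_zero hqf, b_comm f s, hsf,
        b_comm f y]
      ring
  have hvw : B v w ≠ 0 := by
    rw [hw, b_sub_right, b_sub_right, b_smul_right, b_smul_right, b_comm v s, hsv, b_comm v f, hfv]
    simpa using hvy
  obtain ⟨hwW, hsw, hfw⟩ := (memS w).1 hwS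
  have hone : ∀ c : F, c ≠ 0 → c = 1 := by
    cases nonempty_fintype F
    classical
    intro c hc
    by_contra h
    rw [Nat.card_eq_fintype_card] at hq2
    have h3 : ({0, 1, c} : Finset F).card ≤ 2 := hq2 ▸ Finset.card_le_univ _
    rw [Finset.card_insert_of_notMem (by simp [Ne.symm hc]),
      Finset.card_pair (Ne.symm h)] at h3
    omega
  have hwX := hs' w hwW hsw hfw
  have hqw : Q w ≠ 0 := fun e => by
    have : w = 0 := haniso w (by rwa [e, zero_smul, sub_zero] at hwX) e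
    exact hvw (by rw [this, b_zero_right])
  have hsum := hs' (v + w) (W.add_mem hvW hwW) (by rw [b_add_right, hsv, hsw, add_zero])
    (by rw [b_add_right, hfv, hfw, add_zero])
  have h' := X.sub_mem (X.sub_mem hsum hvX) hwX
  rw [q_add, show v + w - (Q v + Q w + B v w) • s - (v - Q v • s) - (w - Q w • s) =
    (-B v w) • s by module] at h'
  exact hsX ((Submodule.smul_mem_iff _ (neg_ne_zero.2 hvw)).1 h')

end CfsgLib.Orth
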