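/-
Maximality of stabilisers of non-degenerate subspaces.
-/
import Cfsg.Agent.Lib.Classical.OrthSub
import Cfsg.Agent.Lib.Classical.OrthStab

set_option autoImplicit false

namespace CfsgLib.Orth

open Matrix

variable {F : Type*} [Field F] [Finite F] {ι : Type} [Fintype ι] [DecidableEq ι]
variable {Q : QuadraticForm F (ι → F)}

local notation "B" => QuadraticMap.polar (DFunLike.coe Q)

omit [Finite F] in
/-- Conjugating a root element. -/
theorem siegel_conj_mem {M : Subgroup (Grp Q)} {u v : ι → F} {g s : Grp Q} (hg : IsSiegel u v g)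
    (hs : s ∈ M) (h : ∀ k, IsSiegel (ap s⁻¹ u) (ap s⁻¹ v) k → k ∈ M) : g ∈ M := by
  have h1 := siegel_conj hg s⁻¹
  have h2 := mul_mem (mul_mem hs (h _ h1)) (inv_mem hs)
  simpa only [mul_assoc, inv_inv, mul_inv_cancel, mul_one, mul_inv_cancel_left] using h2

omit [Finite F] in
theorem siegel_add_mem {M : Subgroup (Grp Q)} (hB : Nondeg Q) {u v w : ι → F} {g : Grp Q}
    (hg : IsSiegel u (v + w) g) (hw : B u w = 0) (h1 : ∀ k, IsSiegel u v k → k ∈ M)
    (h2 : ∀ k, IsSiegel u w k → k ∈ M) : g ∈ M := by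
  have hv : B u v = 0 := by
    have := hg.2.1
    rw [b_add_right, hw, add_zero] at this
    exact this
  obtain ⟨a, ha⟩ := exists_siegel hB hg.1 hv
  obtain ⟨b, hb⟩ := exists_siegel hB hg.1 hw
  rw [siegel_unique hg (siegel_mul ha hb)]
  exact mul_mem (h1 a ha) (h2 b hb)

/-- Singular pairs of `U` have singular vectors in their orthogonal. -/
structure Rich (Q : QuadraticForm F (ι → F)) (U : Submodule F (ι → F)) : Prop where
  four : 4 ≤ Module.finrank F U
  perp : ∀ a ∈ U, ∀ b ∈ U, Q a = 0 → Q b = 0 → QuadraticMap.polar ⇑Q a b = 1 →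
    ∃ y ∈ U, y ≠ 0 ∧ Q y = 0 ∧ QuadraticMap.polar ⇑Q a y = 0 ∧ QuadraticMap.polar ⇑Q b y = 0

/-- A singular vector of `U` orthogonal to two vectors. -/
def Corner (Q : QuadraticForm F (ι → F)) (U : Submodule F (ι → F)) (p q : ι → F) : Prop :=
  ∃ c ∈ U, c ≠ 0 ∧ Q c = 0 ∧ QuadraticMap.polar ⇑Q p c = 0 ∧ QuadraticMap.polar ⇑Q q c = 0 ∧
    (p = 0 → c ∉ Submodule.span F {q})

/-- Every line crossing `U` and its orthogonal has a corner on one side. -/
def Cross (Q : QuadraticForm F (ι → F)) (U : Submodule F (ι → F)) : Prop :=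
  ∀ p ∈ U, ∀ q ∈ U, q ∉ Submodule.span F {p} → ∀ z ∈ orth Q U, ∀ w ∈ orth Q U,
    Q p + Q z = 0 → Q q + Q w = 0 →
    QuadraticMap.polar ⇑Q p q + QuadraticMap.polar ⇑Q z w = 0 →
    Corner Q U p q ∨ (p ≠ 0 ∧ w ∉ Submodule.span F {z} ∧ Corner Q (orth Q U) z w)

theorem rich_of_five (hB : Nondeg Q) {U : Submodule F (ι → F)} (hd : 5 ≤ Module.finrank F U) :
    Rich Q U := by
  refine ⟨by omega, fun a _ b _ _ _ _ => ?_⟩
  classical
  have h1 := finrank_relOrth hB U (Submodule.span F ({a, b} : Set (ι → F)))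
  have h2 := finrank_span_finset_le_card (R := F) ({a, b} : Finset (ι → F))
  rw [Set.finrank, Finset.coe_pair] at h2
  have h3 : ({a, b} : Finset (ι → F)).card ≤ 2 := Finset.card_le_two
  obtain ⟨y, hy, hy0, hyq⟩ := exists_singular (Q := Q)
    (U := relOrth Q U (Submodule.span F ({a, b} : Set (ι → F)))) (by omega)
  exact ⟨y, hy.1, hy0, hyq, hy.2 a (Submodule.subset_span (Set.mem_insert _ _)),
    hy.2 b (Submodule.subset_span (Set.mem_insert_of_mem _ rfl))⟩

omit [Finite F] in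
theorem Rich.img {U : Submodule F (ι → F)} (hR : Rich Q U) (g : Grp Q) : Rich Q (img g U) := by
  refine ⟨by rw [finrank_img]; exact hR.four, fun a ha b hb hqa hqb hab => ?_⟩
  obtain ⟨y, hy, hy0, hyq, hay, hby⟩ := hR.perp _ (mem_img.1 ha) _ (mem_img.1 hb)
    (by rw [ap_q, hqa]) (by rw [ap_q, hqb]) (by rw [ap_b, hab])
  refine ⟨ap g y, ap_mem_img g hy, fun e => hy0 (ap_inj g (by rw [e, ap_zero])), by rw [ap_q, hyq],
    ?_, ?_⟩
  · rw [← ap_ap_inv g a, ap_b, hay]
  · rw [← ap_ap_inv g b, ap_b, hby]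

/-- A hyperbolic pair orthogonal to a singular vector of a rich space. -/
theorem Rich.pair (hB : Nondeg Q) {U : Submodule F (ι → F)} (hU : NondegOn Q U) (hR : Rich Q U)
    {a : ι → F} (ha : a ∈ U) (ha0 : a ≠ 0) (haq : Q a = 0) :
    ∃ s f, s ∈ relOrth Q U (Submodule.span F {a}) ∧ f ∈ relOrth Q U (Submodule.span F {a}) ∧
      s ∉ Submodule.span F {a} ∧ Q s = 0 ∧ Q f = 0 ∧ B s f = 1 := by
  obtain ⟨b, hb, hbq, hab⟩ := exists_partner_in hB hU (P := ⊥) bot_le (s := a)
    ⟨ha, fun p hp => by rw [(Submodule.mem_bot F).1 hp]; exact b_zero_left a⟩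
    (fun h => ha0 ((Submodule.mem_bot F).1 h)) haq
  obtain ⟨y, hy, hy0, hyq, hay, hby⟩ := hR.perp a ha b hb.1 haq hbq hab
  have hyS : y ∈ relOrth Q U (Submodule.span F {a}) := ⟨hy, fun p hp => by
    obtain ⟨c, rfl⟩ := Submodule.mem_span_singleton.1 hp
    show B (c • a) y = 0
    rw [b_smul_left, hay, mul_zero]⟩
  have hya : y ∉ Submodule.span F {a} := fun h => by
    obtain ⟨c, rfl⟩ := Submodule.mem_span_singleton.1 h
    rw [b_smul_right, b_comm b a, hab, mul_one] at hby
    exact hy0 (by rw [hby, zero_smul])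
  obtain ⟨f, hf, hfq, hyf⟩ := exists_partner_in hB hU
    ((Submodule.span_singleton_le_iff_mem _ _).2 ha) hyS hya hyq
  exact ⟨y, f, hyS, hf, hya, hyq, hfq, hyf⟩

/-- Transitivity on singular vectors inside a subspace of a rich subspace. -/
theorem exists_move_rich (hB : Nondeg Q) {U : Submodule F (ι → F)} (hU : NondegOn Q U)
    (hR : Rich Q U) {u w : ι → F} (hu : u ∈ U) (hw : w ∈ U) (hqu : Q u = 0)
    (hqw : Q w = 0) (hu0 : u ≠ 0) (hw0 : w ≠ 0) :
    ∃ e ∈ Subgroup.closure {g : Grp Q | ∃ a ∈ U, ∃ b ∈ U, IsSiegel a b g}, ap e u = w := by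
  have step : ∀ a b, a ∈ U → b ∈ U → Q a = 0 → Q b = 0 → B a b = 0 →
      a ∉ Submodule.span F {b - a} →
      ∃ e ∈ Subgroup.closure {g : Grp Q | ∃ a ∈ U, ∃ b ∈ U, IsSiegel a b g}, ap e a = b := by
    intro a b ha hb hqa hqb hab hi
    obtain ⟨z, hz, e, he, hea⟩ := exists_move_orth_in hB hU ha hb hqa hqb hab hi
    exact ⟨e, Subgroup.subset_closure ⟨z, hz, _, U.sub_mem hb ha, he⟩, hea⟩
  have indep : ∀ a b : ι → F, a ≠ 0 → b ∉ Submodule.span F {a} → a ∉ Submodule.span F {b - a} := by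
    intro a b ha0 hb h
    obtain ⟨c, hc⟩ := Submodule.mem_span_singleton.1 h
    by_cases hc0 : c = 0
    · rw [hc0, zero_smul] at hc; exact ha0 hc.symm
    · refine hb (Submodule.mem_span_singleton.2 ⟨(1 + c) / c, ?_⟩)
      rw [div_eq_mul_inv, mul_comm, mul_smul,
        show (1 + c) • a = c • b by linear_combination (norm := module) -hc,
        smul_smul, inv_mul_cancel₀ hc0, one_smul]
  have go : ∀ a b, a ∈ U → b ∈ U → Q a = 0 → Q b = 0 → a ≠ 0 → b ≠ 0 → B a b ≠ 0 →
      ∃ e ∈ Subgroup.closure {g : Grp Q | ∃ a ∈ U, ∃ b ∈ U, IsSiegel a b g}, ap e a = b := by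
    intro a b ha hb hqa hqb ha0 hb0 hab
    obtain ⟨y, hy, hy0, hqy, hay, hby'⟩ := hR.perp a ha ((B a b)⁻¹ • b) (U.smul_mem _ hb) hqa
      (by rw [q_smul, hqb, mul_zero]) (by rw [b_smul_right, inv_mul_cancel₀ hab])
    have hby : B b y = 0 := by
      rw [b_smul_left] at hby'
      exact (mul_eq_zero.1 hby').resolve_left (inv_ne_zero hab)
    have h1 : y ∉ Submodule.span F {a} := fun h => by
      obtain ⟨c, rfl⟩ := Submodule.mem_span_singleton.1 h
      rw [b_smul_right, b_comm b a] at hby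
      exact hy0 (by rw [(mul_eq_zero.1 hby).resolve_right hab, zero_smul])
    have h2 : b ∉ Submodule.span F {y} := fun h => by
      obtain ⟨c, rfl⟩ := Submodule.mem_span_singleton.1 h
      exact hab (by rw [b_smul_right, hay, mul_zero])
    obtain ⟨e₁, he₁, hea⟩ := step a y ha hy hqa hqy hay (indep a y ha0 h1)
    obtain ⟨e₂, he₂, heb⟩ := step y b hy hb hqy hqb (by rw [b_comm]; exact hby) (indep y b hy0 h2)
    exact ⟨e₂ * e₁, mul_mem he₂ he₁, by rw [ap_mul, hea, heb]⟩
  by_cases huw : B u w = 0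
  swap
  · exact go u w hu hw hqu hqw hu0 hw0 huw
  by_cases hi : w ∈ Submodule.span F {u}
  · obtain ⟨f, hf, hfq, huf⟩ := exists_partner_in hB hU (P := ⊥) bot_le (s := u)
      ⟨hu, fun p hp => by rw [(Submodule.mem_bot F).1 hp]; exact b_zero_left u⟩
      (fun h => hu0 ((Submodule.mem_bot F).1 h)) hqu
    have hf0 : f ≠ 0 := fun e => by rw [e, b_zero_right] at huf; exact zero_ne_one huf
    obtain ⟨c, rfl⟩ := Submodule.mem_span_singleton.1 hi
    obtain ⟨e₁, he₁, h₁⟩ := go u f hu hf.1 hqu hfq hu0 hf0 (by rw [huf]; exact one_ne_zero)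
    obtain ⟨e₂, he₂, h₂⟩ := go f (c • u) hf.1 hw hfq hqw hf0 hw0 (by
      rw [b_smul_right, b_comm f u, huf, mul_one]
      exact fun e => hw0 (by rw [e, zero_smul]))
    exact ⟨e₂ * e₁, mul_mem he₂ he₁, by rw [ap_mul, h₁, h₂]⟩
  · exact step u w hu hw hqu hqw huw (indep u w hu0 hi)

/-- Once a root element joins `U` with its orthogonal, everything is generated. -/
theorem El_le_of_mixed {M : Subgroup (Grp Q)} (hB : Nondeg Q) {U : Submodule F (ι → F)}
    (hU : NondegOn Q U) (hR : Rich Q U) (hn : 5 ≤ Module.finrank F (ι → F))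
    (hbad : ¬ (Nat.card F ≤ 3 ∧ Module.finrank F (orth Q U) = 2 ∧
      ∃ s ∈ orth Q U, s ≠ 0 ∧ Q s = 0))
    (hle : stab Q U ⊓ El Q ≤ M) {u w : ι → F} (hu : u ∈ U) (hu0 : u ≠ 0) (hqu : Q u = 0)
    (hw : w ∈ orth Q U) (hw0 : w ≠ 0) (hM : ∀ k, IsSiegel u w k → k ∈ M) : El Q ≤ M := by
  have hW := nondegOn_orth hB hU
  have hUW : ∀ a ∈ U, ∀ b ∈ orth Q U, B a b = 0 := fun a ha b hb => hb a ha
  have hinU : ∀ a ∈ U, ∀ b ∈ U, ∀ k, IsSiegel a b k → k ∈ M := fun a ha b hb k hk =>
    hle (siegel_mem_stab_sub hk ha hb)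
  have hclos : Subgroup.closure {g : Grp Q | ∃ a ∈ U, ∃ b ∈ U, IsSiegel a b g} ≤ M :=
    (Subgroup.closure_le _).2 fun g ⟨a, ha, b, hb, hg⟩ => hinU a ha b hb g hg
  have hclosW : ∀ e ∈ Subgroup.closure {g : Grp Q | ∃ a ∈ U, ∃ b ∈ U, IsSiegel a b g},
      ∀ x ∈ orth Q U, ap e x = x := by
    intro e he x hx
    induction he using Subgroup.closure_induction with
    | mem g hg =>
        obtain ⟨a, ha, b, hb, hg⟩ := hg
        exact siegel_fix_orth hg ha hb hx
    | one => exact ap_one x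
    | mul p q _ _ hp hq => rw [ap_mul, hq, hp]
    | inv p _ hp => conv_lhs => rw [← hp, ap_inv_ap]
  -- the parameters available at `u`
  let X : Submodule F (ι → F) :=
    { carrier := {x | x ∈ orth Q U ∧ ∀ k, IsSiegel u x k → k ∈ M}
      add_mem' := fun {a b} ⟨ha, ha'⟩ ⟨hb, hb'⟩ => ⟨add_mem ha hb, fun k hk =>
        siegel_add_mem hB hk (hUW u hu b hb) ha' hb'⟩
      zero_mem' := ⟨zero_mem _, fun k hk => by
        rw [siegel_unique hk (siegel_one hqu)]; exact one_mem M⟩
      smul_mem' := fun c x ⟨hx, hx'⟩ => ⟨Submodule.smul_mem _ c hx, fun k hk => by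
        by_cases hc : c = 0
        · subst hc
          rw [zero_smul] at hk
          rw [siegel_unique hk (siegel_one hqu)]; exact one_mem M
        obtain ⟨e, he, heu⟩ := exists_move_rich hB hU hR hu (U.smul_mem c hu) hqu
          (by rw [q_smul, hqu, mul_zero]) hu0 (smul_ne_zero hc hu0)
        obtain ⟨g, hg⟩ := exists_siegel hB hqu (hUW u hu x hx)
        have h1 := siegel_conj hg e
        rw [heu, hclosW e he x hx] at h1
        rw [siegel_unique hk (siegel_smul hg c h1)]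
        exact mul_mem (mul_mem (hclos he) (hx' g hg)) (inv_mem (hclos he))⟩ }
  have hX : X = orth Q U := by
    refine irreducible hB hW hbad (fun x hx => hx.1) ?_ ?_ ?_
    · exact fun e => hw0 ((Submodule.eq_bot_iff _).1 e w ⟨hw, hM⟩)
    · intro a ha hqa x hx
      refine ⟨Submodule.sub_mem _ hx.1 (Submodule.smul_mem _ _ ha), fun k hk => ?_⟩
      -- pair with a reflection of `U` fixing `u`
      obtain ⟨s, f, hs, hf, -, hsq, hfq, hsf⟩ := hR.pair hB hU hu hu0 hqu
      obtain ⟨y, hy⟩ : ∃ y, y = Q a • s + f := ⟨_, rfl⟩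
      have hyU : y ∈ U := hy ▸ U.add_mem (U.smul_mem _ hs.1) hf.1
      have huy : B u y = 0 := by
        rw [hy, b_add_right, b_smul_right, mem_orth.1 hs.2 u (Submodule.mem_span_singleton_self u),
          mem_orth.1 hf.2 u (Submodule.mem_span_singleton_self u), mul_zero, add_zero]
      have hqy : Q y = Q a := by
        rw [hy, q_add, q_smul, hsq, hfq, b_smul_left, hsf]; ring
      obtain ⟨r₁, hr₁⟩ := exists_refl hB hqa
      obtain ⟨r₂, hr₂⟩ := exists_refl hB (v := y) (by rw [hqy]; exact hqa)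
      have hrmem : r₁ * r₂ ∈ stab Q U ⊓ El Q := by
        refine ⟨mul_mem (mem_stab_of_le fun z hz => ?_) (mem_stab_of_le fun z hz => ?_), ?_⟩
        · rw [refl_fix hr₁ (by rw [b_comm]; exact hUW z hz a ha)]; exact hz
        · rw [hr₂.2]; exact U.sub_mem hz (U.smul_mem _ hyU)
        · obtain ⟨e, he, hea⟩ := exists_move_vec hB hn (v := a) (w := y)
            (fun h => hqa (by rw [h, QuadraticMap.map_zero]))
            (fun h => hqa (by rw [← hqy, h, QuadraticMap.map_zero])) hqy.symm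
          have h1 := refl_conj hr₁ e
          rw [hea] at h1
          rw [← refl_unique h1 hr₂, show r₁ * (e * r₁ * e⁻¹) = r₁ * e * r₁⁻¹ * e⁻¹ by
            rw [refl_inv hr₁]; group]
          exact (El Q).mul_mem (El_normal.conj_mem e he r₁) ((El Q).inv_mem he)
      refine siegel_conj_mem hk (hle hrmem) fun k' hk' => ?_
      rw [_root_.mul_inv_rev, refl_inv hr₁, refl_inv hr₂, ap_mul, ap_mul,
        refl_fix hr₁ (by rw [b_comm]; exact hUW u hu a ha), refl_fix hr₂ (by rw [b_comm]; exact huy)]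
        at hk'
      have e1 : ap r₁ (x - ((Q a)⁻¹ * B a x) • a) = x := by
        rw [← hr₁.2 x, ← ap_mul, refl_mul_self hr₁, ap_one]
      rw [e1, refl_fix hr₂ (hUW y hyU x hx.1)] at hk'
      exact hx.2 k' hk'
    · intro s hs v hv hqs hsv x hx
      obtain ⟨e, he⟩ := exists_siegel hB hqs hsv
      have hem : e ∈ stab Q U ⊓ El Q := by
        refine ⟨mem_stab_of_le fun z hz => ?_, siegel_mem_El he⟩
        rw [siegel_fix he (hUW z hz s hs) (hUW z hz v hv)]; exact hz
      rw [← he.2.2 x]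
      refine ⟨?_, fun k hk => ?_⟩
      · rw [he.2.2 x]
        exact Submodule.sub_mem _ (Submodule.sub_mem _ (Submodule.add_mem _ hx.1
          (Submodule.smul_mem _ _ hv)) (Submodule.smul_mem _ _ hs)) (Submodule.smul_mem _ _ hs)
      · refine siegel_conj_mem hk (hle hem) fun k' hk' => ?_
        rw [ap_inv_ap] at hk'
        have e1 : ap e⁻¹ u = u := by
          conv_lhs => rw [← siegel_fix he (hUW u hu s hs) (hUW u hu v hv), ap_inv_ap]
        rw [e1] at hk'
        exact hx.2 k' hk'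
  have hroot : ∀ v k, IsSiegel u v k → k ∈ M := by
    intro v k hk
    obtain ⟨p, hp, z, hz, rfl⟩ := exists_decomp hB hU v
    refine siegel_add_mem hB hk (hUW u hu z hz) (fun k' hk' => hinU u hu p hp k' hk') fun k' hk' => ?_
    have : z ∈ X := hX.symm ▸ hz
    exact this.2 k' hk'
  obtain ⟨f, hf, hfq, huf⟩ := exists_partner_in hB hU (P := ⊥) bot_le (s := u)
    ⟨hu, fun p hp => by rw [(Submodule.mem_bot F).1 hp]; exact b_zero_left u⟩
    (fun h => hu0 ((Submodule.mem_bot F).1 h)) hqu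
  obtain ⟨e, he, hef⟩ := exists_move_rich hB hU hR hu hf.1 hqu hfq hu0
    (fun h => by rw [h, b_zero_right] at huf; exact zero_ne_one huf)
  refine El_le_of_two hB hqu hfq (by rw [huf]; exact one_ne_zero) hroot fun v k hk => ?_
  refine siegel_conj_mem hk (hclos he) fun k' hk' => hroot (ap e⁻¹ v) k' ?_
  have e1 : ap e⁻¹ f = u := by rw [← hef, ap_inv_ap]
  rwa [e1] at hk'

omit [Fintype ι] [DecidableEq ι] in
/-- A singular vector of `S = U' ∩ P⊥` outside `T`. -/
theorem singular_escape [Finite ι] (hB : Nondeg Q) {U P T : Submodule F (ι → F)} (hU : NondegOn Q U)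
    (hP : P ≤ U) (hd : 2 * Module.finrank F P + 3 ≤ Module.finrank F U)
    (h : ¬ relOrth Q U P ≤ T) : ∃ y ∈ relOrth Q U P, Q y = 0 ∧ y ∉ T := by
  obtain ⟨s, f, hs, hf, -, hsq, hfq, hsf⟩ := exists_pair_in hB hU hP hd
  exact exists_singular_not_mem (le_span_singular_in hs hf hsq hfq hsf) h

/-- A line of `U' = g U` meeting `S` and leaving it gives a root element joining `S` to `S⊥`. -/
theorem exists_mixed_of_meet (hB : Nondeg Q) {M : Subgroup (Grp Q)}
    {U' S : Submodule F (ι → F)} (hU' : NondegOn Q U') (hS : NondegOn Q S)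
    (hR : Rich Q U')
    (hlines : ∀ a ∈ U', ∀ b ∈ U', ∀ k, IsSiegel a b k → k ∈ M)
    (hinS : ∀ a ∈ S, ∀ b ∈ S, ∀ k, IsSiegel a b k → k ∈ M)
    {K : Submodule F (ι → F)} (hK : K ≤ U' ⊓ S) {s₁ t : ι → F} (hs₁K : s₁ ∈ K) (ht : t ∈ K)
    (hs₁q : Q s₁ = 0) (hs₂q : Q t = 0) (hs₁0 : s₁ ≠ 0) (hind : t ∉ Submodule.span F {s₁})
    (hne : ¬ U' ≤ S) :
    ∃ u w, u ∈ S ∧ u ≠ 0 ∧ Q u = 0 ∧ w ∈ orth Q S ∧ w ≠ 0 ∧ ∀ k, IsSiegel u w k → k ∈ M := by
  have hs₂0 : t ≠ 0 := fun e => hind (by rw [e]; exact Submodule.zero_mem _)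
  -- one of the two hyperplanes leaves `S`
  have hsome : ∃ s ∈ K, s ≠ 0 ∧ Q s = 0 ∧ ¬ relOrth Q U' (Submodule.span F {s}) ≤ S := by
    by_contra hc
    push Not at hc
    have h1 := hc s₁ hs₁K hs₁0 hs₁q
    have h2 := hc t ht hs₂0 hs₂q
    obtain ⟨y, hy, hy'⟩ : ∃ y ∈ relOrth Q U' (Submodule.span F {t}), B s₁ y ≠ 0 := by
      by_contra hc'
      push Not at hc'
      refine hind ?_
      have h3 : s₁ ∈ orth Q U' ⊔ Submodule.span F {t} := by
        rw [← orth_orth hB (orth Q U' ⊔ Submodule.span F {t})]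
        intro y hy
        have hyU : y ∈ U' := by
          have := orth_le (Q := Q)
            (le_sup_left : orth Q U' ≤ orth Q U' ⊔ Submodule.span F {t}) hy
          rwa [orth_orth hB] at this
        show B y s₁ = 0
        rw [b_comm]
        exact hc' y ⟨hyU, orth_le le_sup_right hy⟩
      obtain ⟨p, hp, q, hq, e⟩ := Submodule.mem_sup.1 h3
      have hpU : p ∈ U' := by
        rw [show p = s₁ - q by rw [← e]; abel]
        exact U'.sub_mem (hK hs₁K).1 ((Submodule.span_singleton_le_iff_mem _ _).2 (hK ht).1 hq)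
      rw [nondeg_inf hU' hpU hp, zero_add] at e
      rw [e] at hq
      obtain ⟨c, hc⟩ := Submodule.mem_span_singleton.1 hq
      exact Submodule.mem_span_singleton.2 ⟨c⁻¹, by
        rw [← hc, smul_smul, inv_mul_cancel₀ (fun e' => hs₁0 (by rw [← hc, e', zero_smul])), one_smul]⟩
    refine hne fun x hx => ?_
    have hx1 : x - (B s₁ x / B s₁ y) • y ∈ relOrth Q U' (Submodule.span F {s₁}) := by
      refine ⟨U'.sub_mem hx (U'.smul_mem _ hy.1), fun p hp => ?_⟩
      obtain ⟨c, rfl⟩ := Submodule.mem_span_singleton.1 hp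
      show B (c • s₁) (x - (B s₁ x / B s₁ y) • y) = 0
      rw [b_smul_left, b_sub_right, b_smul_right, div_mul_cancel₀ _ hy', sub_self, mul_zero]
    have := S.add_mem (h1 hx1) (S.smul_mem (B s₁ x / B s₁ y) (h2 hy))
    rwa [sub_add_cancel] at this
  obtain ⟨s, hsK, hs0, hsq, hesc⟩ := hsome
  obtain ⟨s', f', hs', hf', -, hs'q, hf'q, hs'f⟩ := hR.pair hB hU' (hK hsK).1 hs0 hsq
  obtain ⟨x, hx, hxq, hxS⟩ :=
    exists_singular_not_mem (le_span_singular_in hs' hf' hs'q hf'q hs'f) hesc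
  have hsx : B s x = 0 := mem_orth.1 hx.2 s (Submodule.mem_span_singleton_self s)
  obtain ⟨p, hp, z, hz, rfl⟩ := exists_decomp hB hS x
  have hsz : B s z = 0 := hz s (hK hsK).2
  have hsp : B s p = 0 := by rw [b_add_right, hsz, add_zero] at hsx; exact hsx
  refine ⟨s, z, (hK hsK).2, hs0, hsq, hz, fun e => hxS (by rw [e, add_zero]; exact hp), fun k hk => ?_⟩
  obtain ⟨g₁, hg₁⟩ := exists_siegel hB hsq hsx
  obtain ⟨g₂, hg₂⟩ := exists_siegel hB hsq hsp
  rw [show k = g₂⁻¹ * g₁ by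
    rw [siegel_unique hg₁ (siegel_mul hg₂ hk), inv_mul_cancel_left]]
  exact mul_mem (inv_mem (hinS s (hK hsK).2 p hp g₂ hg₂)) (hlines s (hK hsK).1 _ hx.1 g₁ hg₁)

omit [Fintype ι] [DecidableEq ι] in
/-- Hyperbolic pairs orthogonal to a subspace with few singular vectors in its radical. -/
theorem exists_pair_in' [Finite ι] (hB : Nondeg Q) {U P R : Submodule F (ι → F)}
    (hU : NondegOn Q U) (hP : P ≤ U) (hR : ∀ x ∈ relOrth Q U P, x ∈ P → Q x = 0 → x ∈ R)
    (hd : Module.finrank F P + Module.finrank F R + 3 ≤ Module.finrank F U) :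
    ∃ s f, s ∈ relOrth Q U P ∧ f ∈ relOrth Q U P ∧ s ∉ P ∧ Q s = 0 ∧ Q f = 0 ∧ B s f = 1 := by
  obtain ⟨T, hT⟩ := (Submodule.comap (relOrth Q U P).subtype R).exists_isCompl
  have h1 := Submodule.finrank_add_eq_of_isCompl hT
  have h2 := finrank_relOrth hB U P
  have h3 : Module.finrank F (Submodule.comap (relOrth Q U P).subtype R) ≤ Module.finrank F R := by
    rw [← Submodule.finrank_map_subtype_eq, Submodule.map_comap_subtype]
    exact Submodule.finrank_mono inf_le_right
  obtain ⟨s, hs, hs0, hsq⟩ := exists_singular (Q := Q) (U := T.map (relOrth Q U P).subtype) (by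
    rw [Submodule.finrank_map_subtype_eq]; omega)
  obtain ⟨t, ht, rfl⟩ := hs
  have hsP : (t : ι → F) ∉ P := fun h => hs0 (by
    have : t ∈ Submodule.comap (relOrth Q U P).subtype R ⊓ T := ⟨hR t t.2 h hsq, ht⟩
    rw [hT.inf_eq_bot, Submodule.mem_bot] at this
    rw [this]; rfl)
  obtain ⟨f, hf, hfq, hsf⟩ := exists_partner_in hB hU hP t.2 hsP hsq
  exact ⟨t, f, t.2, hf, hsP, hsq, hfq, hsf⟩

omit [Fintype ι] [DecidableEq ι] in
/-- Two independent vectors have a corner in dimension five. -/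
theorem corner_of_five [Finite ι] (hB : Nondeg Q) {U : Submodule F (ι → F)} (hU : NondegOn Q U)
    (hd : 5 ≤ Module.finrank F U) {p q : ι → F} (hq : q ∈ U)
    (hind : q ∉ Submodule.span F {p}) : Corner Q U p q := by
  classical
  by_cases hp0 : p = 0
  · have hq1 : Module.finrank F (Submodule.span F {q}) ≤ 1 :=
      (finrank_span_singleton (fun e : q = 0 => hind (by rw [e]; exact Submodule.zero_mem _))).le
    obtain ⟨c, -, hc, -, hcP, hcq, -, -⟩ := exists_pair_in hB hU
      (P := Submodule.span F {q}) ((Submodule.span_singleton_le_iff_mem _ _).2 hq) (by omega)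
    exact ⟨c, hc.1, fun h => hcP (h ▸ Submodule.zero_mem _), hcq, by rw [hp0, b_zero_left],
      mem_orth.1 hc.2 q (Submodule.mem_span_singleton_self q), fun _ => hcP⟩
  · obtain ⟨c, hc, hc0, hcq⟩ := exists_singular (Q := Q)
      (U := relOrth Q U (Submodule.span F ({p, q} : Set (ι → F)))) (by
        have h1 := finrank_relOrth hB U (Submodule.span F ({p, q} : Set (ι → F)))
        have h := finrank_span_finset_le_card (R := F) ({p, q} : Finset (ι → F))
        rw [Set.finrank, Finset.coe_pair] at h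
        have h3 : ({p, q} : Finset (ι → F)).card ≤ 2 := Finset.card_le_two
        omega)
    exact ⟨c, hc.1, hc0, hcq, hc.2 p (Submodule.subset_span (Set.mem_insert _ _)),
      hc.2 q (Submodule.subset_span (Set.mem_insert_of_mem _ rfl)), fun h => absurd h hp0⟩

omit [Fintype ι] [DecidableEq ι] [Finite F] in
/-- A corner and a vector orthogonal to it but not to both. -/
theorem exists_corners [Finite ι] (hB : Nondeg Q) {U : Submodule F (ι → F)} (hU : NondegOn Q U)
    {p q : ι → F} (hp : p ∈ U) (hq : q ∈ U)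
    (hind : q ∉ Submodule.span F {p}) (hcor : Corner Q U p q) :
    ∃ c, c ∈ U ∧ c ≠ 0 ∧ Q c = 0 ∧ B p c = 0 ∧ B q c = 0 ∧
      ∃ e, e ∈ U ∧ B c e = 0 ∧ (B p e = 0 → B q e ≠ 0) := by
  obtain ⟨c, hc, hc0, hcq, hpc, hqc, hcp⟩ := hcor
  refine ⟨c, hc, hc0, hcq, hpc, hqc, ?_⟩
  have hcU : Submodule.span F {c} ≤ U := (Submodule.span_singleton_le_iff_mem _ _).2 hc
  by_contra hno
  push Not at hno
  have hin : ∀ w ∈ U, (∀ y ∈ relOrth Q U (Submodule.span F {c}), B w y = 0) →
      w ∈ Submodule.span F {c} := by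
    intro w hw hwy
    have h3 : w ∈ orth Q U ⊔ Submodule.span F {c} := by
      rw [← orth_orth hB (orth Q U ⊔ Submodule.span F {c})]
      intro y hy
      have hyU : y ∈ U := by
        have := orth_le (Q := Q) (le_sup_left : orth Q U ≤ orth Q U ⊔ Submodule.span F {c}) hy
        rwa [orth_orth hB] at this
      show B y w = 0
      rw [b_comm]
      exact hwy y ⟨hyU, orth_le le_sup_right hy⟩
    obtain ⟨x, hx, y, hy, e'⟩ := Submodule.mem_sup.1 h3
    have hxU : x ∈ U := by
      rw [show x = w - y by rw [← e']; abel]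
      exact U.sub_mem hw (hcU hy)
    rw [nondeg_inf hU hxU hx, zero_add] at e'
    exact e' ▸ hy
  have hall : ∀ y ∈ relOrth Q U (Submodule.span F {c}), B p y = 0 ∧ B q y = 0 := fun y hy =>
    hno y hy.1 (mem_orth.1 hy.2 c (Submodule.mem_span_singleton_self c))
  obtain ⟨k, hk⟩ := Submodule.mem_span_singleton.1 (hin p hp fun y hy => (hall y hy).1)
  obtain ⟨l, hl⟩ := Submodule.mem_span_singleton.1 (hin q hq fun y hy => (hall y hy).2)
  by_cases hk0 : k = 0
  · rw [hk0, zero_smul] at hk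
    refine hcp hk.symm (Submodule.mem_span_singleton.2 ⟨l⁻¹, ?_⟩)
    have hl0 : l ≠ 0 := fun e => hind (by
      rw [← hl, e, zero_smul]; exact Submodule.zero_mem _)
    rw [← hl, smul_smul, inv_mul_cancel₀ hl0, one_smul]
  · exact hind (Submodule.mem_span_singleton.2 ⟨l / k, by
      rw [← hk, smul_smul, div_mul_cancel₀ _ hk0, hl]⟩)

/-- Two crossing lines give a mixed root element. -/
theorem exists_mixed_of_cross (hB : Nondeg Q) {M : Subgroup (Grp Q)} {U : Submodule F (ι → F)}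
    (hU : NondegOn Q U)
    (hinU : ∀ a ∈ U, ∀ b ∈ U, ∀ k, IsSiegel a b k → k ∈ M)
    {a b : ι → F} (ha : Q a = 0) (hb : Q b = 0) (hab : B a b = 0)
    (hline : ∀ x ∈ Submodule.span F ({a, b} : Set (ι → F)),
      ∀ y ∈ Submodule.span F ({a, b} : Set (ι → F)), ∀ k, IsSiegel x y k → k ∈ M)
    {p q za zb : ι → F} (hp : p ∈ U) (hza : za ∈ orth Q U) (hea : a = p + za)
    (hq : q ∈ U) (hzb : zb ∈ orth Q U) (heb : b = q + zb)
    (haU : a ∉ U) (hind : q ∉ Submodule.span F {p}) (hcor : Corner Q U p q) :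
    ∃ u w, u ∈ U ∧ u ≠ 0 ∧ Q u = 0 ∧ w ∈ orth Q U ∧ w ≠ 0 ∧ ∀ k, IsSiegel u w k → k ∈ M := by
  classical
  obtain ⟨c, hcU, hc0, hcq, hpc, hqc, e, heU, hce, hne⟩ :=
    exists_corners hB hU hp hq hind hcor
  have hzU : ∀ z ∈ orth Q U, ∀ x ∈ U, B z x = 0 := fun z hz x hx => by
    rw [b_comm]; exact hz x hx
  obtain ⟨α, hα⟩ : ∃ α, α = B q e := ⟨_, rfl⟩
  obtain ⟨β, hβ⟩ : ∃ β, β = B p e := ⟨_, rfl⟩
  -- the point of the line orthogonal to `e`, and a second one which is not
  obtain ⟨a', ha'⟩ : ∃ a', a' = α • a - β • b := ⟨_, rfl⟩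
  obtain ⟨p', hp'⟩ : ∃ p', p' = α • p - β • q := ⟨_, rfl⟩
  obtain ⟨z', hz'⟩ : ∃ z', z' = α • za - β • zb := ⟨_, rfl⟩
  have hamem : a ∈ Submodule.span F ({a, b} : Set (ι → F)) :=
    Submodule.subset_span (Set.mem_insert _ _)
  have hbmem : b ∈ Submodule.span F ({a, b} : Set (ι → F)) :=
    Submodule.subset_span (Set.mem_insert_of_mem _ rfl)
  have ha'mem : a' ∈ Submodule.span F ({a, b} : Set (ι → F)) :=
    ha' ▸ sub_mem (Submodule.smul_mem _ _ hamem) (Submodule.smul_mem _ _ hbmem)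
  have hp'U : p' ∈ U := hp' ▸ U.sub_mem (U.smul_mem _ hp) (U.smul_mem _ hq)
  have hz'U : z' ∈ orth Q U := hz' ▸ sub_mem (Submodule.smul_mem _ _ hza) (Submodule.smul_mem _ _ hzb)
  have he' : a' = p' + z' := by rw [ha', hp', hz', hea, heb]; module
  have hQa' : Q a' = 0 := by
    rw [ha', q_sub, q_smul, q_smul, ha, hb, b_smul_left, b_smul_right, hab]; ring
  have hαβ : ¬ (α = 0 ∧ β = 0) := fun h => hne (hβ ▸ h.2) (hα ▸ h.1)
  have hza0 : za ≠ 0 := fun h => haU (by rw [hea, h, add_zero]; exact hp)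
  by_cases hz0 : z' = 0
  · -- the line meets the subspace
    rw [hz0, add_zero] at he'
    have hp'0 : p' ≠ 0 := fun h => by
      rw [hp', sub_eq_zero] at h
      by_cases hβ0 : β = 0
      · have hα0 : α ≠ 0 := fun h' => hαβ ⟨h', hβ0⟩
        rw [hz', hβ0, zero_smul, sub_zero, smul_eq_zero] at hz0
        exact hza0 (hz0.resolve_left hα0)
      · exact hind (Submodule.mem_span_singleton.2 ⟨α / β, by
          rw [div_eq_inv_mul, ← smul_smul, h, smul_smul, inv_mul_cancel₀ hβ0, one_smul]⟩)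
    refine ⟨p', za, hp'U, hp'0, by rw [← he']; exact hQa', hza, hza0, fun k hk => ?_⟩
    have hpa : B p' a = 0 := by
      rw [← he', ha', b_sub_left, b_smul_left, b_smul_left, b_self_zero ha, b_comm b a, hab]; ring
    have hpp : B p' p = 0 := by
      rw [hea, b_add_right] at hpa
      rwa [show B p' za = 0 from hza p' hp'U, add_zero] at hpa
    obtain ⟨g₁, hg₁⟩ := exists_siegel hB hk.1 hpa
    obtain ⟨g₅, hg₅⟩ := exists_siegel hB hk.1 hpp
    rw [show k = g₅⁻¹ * g₁ by
      have h := siegel_mul hg₅ hk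
      rw [← hea] at h
      rw [siegel_unique hg₁ h, inv_mul_cancel_left]]
    exact mul_mem (inv_mem (hinU p' hp'U p hp g₅ hg₅))
      (hline p' (he' ▸ ha'mem) a hamem g₁ hg₁)
  have hp'c : B p' c = 0 := by rw [hp', b_sub_left, b_smul_left, b_smul_left, hpc, hqc]; ring
  have hp'e : B p' e = 0 := by rw [hp', b_sub_left, b_smul_left, b_smul_left, ← hα, ← hβ]; ring
  have hac : B a' c = 0 := by rw [he', b_add_left, hp'c, hzU z' hz'U c hcU, add_zero]
  have hae : B a' e = 0 := by rw [he', b_add_left, hp'e, hzU z' hz'U e heU, add_zero]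
  obtain ⟨b', hb'mem, hb'c, hb'e, hb'a⟩ : ∃ b' ∈ Submodule.span F ({a, b} : Set (ι → F)),
      B b' c = 0 ∧ B b' e ≠ 0 ∧ B a' b' = 0 := by
    by_cases hβ0 : β = 0
    · refine ⟨b, hbmem, ?_, ?_, ?_⟩
      · rw [heb, b_add_left, hqc, hzU zb hzb c hcU, add_zero]
      · rw [heb, b_add_left, hzU zb hzb e heU, add_zero, ← hα]; exact fun h => hαβ ⟨h, hβ0⟩
      · rw [ha', b_sub_left, b_smul_left, b_smul_left, hab, b_self_zero hb]; ring
    · refine ⟨a, hamem, ?_, ?_, ?_⟩
      · rw [hea, b_add_left, hpc, hzU za hza c hcU, add_zero]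
      · rw [hea, b_add_left, hzU za hza e heU, add_zero, ← hβ]; exact hβ0
      · rw [ha', b_sub_left, b_smul_left, b_smul_left, b_self_zero ha, b_comm b a, hab]; ring
  refine ⟨c, z', hcU, hc0, hcq, hz'U, hz0, fun k hk => ?_⟩
  obtain ⟨g₁, hg₁⟩ := exists_siegel hB hQa' (v := (B b' e)⁻¹ • b')
    (by rw [b_smul_right, hb'a, mul_zero])
  obtain ⟨g₂, hg₂⟩ := exists_siegel hB hcq hce
  have hg₁M := hline a' ha'mem _ (Submodule.smul_mem _ _ hb'mem) g₁ hg₁
  have hg₂M := hinU c hcU e heU g₂ hg₂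
  -- the commutator is `E(c, a')` up to sign
  have h1 := siegel_conj hg₂ g₁
  have hc' : ap g₁ c = c := siegel_fix hg₁ (by rw [b_comm]; exact hac)
    (by rw [b_smul_right, b_comm c b', hb'c, mul_zero])
  have hge : ap g₁ e = e - a' := by
    rw [hg₁.2.2, b_comm e a', hae, zero_smul, mul_zero, zero_smul, add_zero, sub_zero, b_smul_right,
      b_comm e b', inv_mul_cancel₀ hb'e, one_smul]
  rw [hc', hge] at h1
  have hca : B c a' = 0 := by rw [b_comm]; exact hac
  obtain ⟨g₃, hg₃⟩ := exists_siegel hB hcq hca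
  obtain ⟨g₅, hg₅⟩ := exists_siegel hB hcq (v := p') (by rw [b_comm]; exact hp'c)
  have hsum := siegel_mul h1 hg₃
  rw [sub_add_cancel] at hsum
  have e3 : g₃ = (g₁ * g₂ * g₁⁻¹)⁻¹ * g₂ := by
    exact eq_inv_mul_of_mul_eq (siegel_unique hsum hg₂)
  have hg₃M : g₃ ∈ M := by
    rw [e3]; exact mul_mem (inv_mem (mul_mem (mul_mem hg₁M hg₂M) (inv_mem hg₁M))) hg₂M
  rw [show k = g₅⁻¹ * g₃ by
    have h := siegel_mul hg₅ hk
    rw [← he'] at h
    rw [siegel_unique hg₃ h, inv_mul_cancel_left]]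
  exact mul_mem (inv_mem (hinU c hcU p' hp'U g₅ hg₅)) hg₃M

/-- A mixed root element at a vector of the orthogonal gives one at a vector of the subspace. -/
theorem exists_mixed_flip (hB : Nondeg Q) {M : Subgroup (Grp Q)} {U : Submodule F (ι → F)}
    (hU : NondegOn Q U) (hR : Rich Q U)
    (hinU : ∀ a ∈ U, ∀ b ∈ U, ∀ k, IsSiegel a b k → k ∈ M)
    {u w : ι → F} (hu : u ∈ orth Q U) (hu0 : u ≠ 0) (hqu : Q u = 0) (hw : w ∈ U) (hw0 : w ≠ 0)
    (hM : ∀ k, IsSiegel u w k → k ∈ M) :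
    ∃ u' w', u' ∈ U ∧ u' ≠ 0 ∧ Q u' = 0 ∧ w' ∈ orth Q U ∧ w' ≠ 0 ∧
      ∀ k, IsSiegel u' w' k → k ∈ M := by
  classical
  have hxu : ∀ x ∈ U, B u x = 0 := fun x hx => by rw [b_comm]; exact hu x hx
  obtain ⟨s₀, f₀, hs₀, hf₀, -, hs₀q, hf₀q, hs₀f⟩ := exists_pair_in hB hU (P := ⊥) bot_le
    (by rw [finrank_bot]; have := hR.four; omega)
  obtain ⟨s₁, hs₁, hs₁q, hs₁w⟩ : ∃ s ∈ U, Q s = 0 ∧ B w s ≠ 0 := by
    by_contra hc
    push Not at hc
    refine hw0 (hU w hw fun y hy => ?_)
    exact (Submodule.span_le (p := LinearMap.ker (QuadraticMap.polarBilin Q w))).2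
      (fun z hz => hc z hz.1 hz.2) (le_span_singular_in hs₀.1 hf₀.1 hs₀q hf₀q hs₀f hy)
  obtain ⟨s, hs⟩ : ∃ s, s = (B w s₁)⁻¹ • s₁ := ⟨_, rfl⟩
  have hsU : s ∈ U := hs ▸ U.smul_mem _ hs₁
  have hsq : Q s = 0 := by rw [hs, q_smul, hs₁q, mul_zero]
  have hws : B w s = 1 := by rw [hs, b_smul_right, inv_mul_cancel₀ hs₁w]
  obtain ⟨w', hw'⟩ : ∃ w', w' = w - Q w • s := ⟨_, rfl⟩
  obtain ⟨v, hvU, hv0, hvq, hw'v, hsv⟩ := hR.perp w' (hw' ▸ U.sub_mem hw (U.smul_mem _ hsU)) s hsU
    (by rw [hw', q_sub, q_smul, hsq, b_smul_right, hws]; ring) hsq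
    (by rw [hw', b_sub_left, b_smul_left, hws, b_self_zero hsq]; ring)
  have hwv : B w v = 0 := by
    rw [hw', b_sub_left, b_smul_left, hsv] at hw'v
    simpa using hw'v
  have hv : v ∈ U ∧ True := ⟨hvU, trivial⟩
  obtain ⟨g, hg⟩ := exists_siegel hB hsq hsv
  have hgM := hinU s hsU v hv.1 g hg
  obtain ⟨g₁, hg₁⟩ := exists_siegel hB hqu (hxu w hw)
  have h2 := siegel_conj hg₁ g
  have hgu : ap g u = u := siegel_fix hg (hxu s hsU) (hxu v hv.1)
  have hgw : ap g w = v + w := by
    rw [hg.2.2, hws, hwv, hvq, one_smul, zero_smul, sub_zero, zero_mul, zero_smul, sub_zero,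
      add_comm]
  rw [hgu, hgw] at h2
  refine ⟨v, -u, hv.1, hv0, hvq, neg_mem hu, neg_ne_zero.2 hu0, fun k hk => ?_⟩
  have hk' : IsSiegel u v k := by
    refine ⟨hqu, hxu v hv.1, fun x => ?_⟩
    rw [hk.2.2, QuadraticMap.map_neg, hqu, hvq, ← neg_one_smul F u, b_smul_right]
    module
  have h3 := siegel_mul hk' hg₁
  rw [show k = (g * g₁ * g⁻¹) * g₁⁻¹ by rw [siegel_unique h2 h3, mul_inv_cancel_right]]
  exact mul_mem (mul_mem (mul_mem hgM (hM g₁ hg₁)) (inv_mem hgM)) (inv_mem (hM g₁ hg₁))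

/-- An element moving `U` neither onto itself nor onto its orthogonal generates `Ω` with the stabiliser. -/
theorem El_le_of_moved' {M : Subgroup (Grp Q)} (hB : Nondeg Q) {U : Submodule F (ι → F)} (hU : NondegOn Q U)
    (hR : Rich Q U) (hX : Cross Q U) (hn : 5 ≤ Module.finrank F (ι → F)) (hbig : Module.finrank F (orth Q U) ≤ Module.finrank F U)
    (hbad : ¬ (Nat.card F ≤ 3 ∧ Module.finrank F (orth Q U) = 2 ∧
      ∃ s ∈ orth Q U, s ≠ 0 ∧ Q s = 0))
    (hle : stab Q U ⊓ El Q ≤ M) {g : Grp Q} (hg : g ∈ M) (hgs : g ∉ stab Q U)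
    (hswap : img g U ≠ orth Q U) : El Q ≤ M := by
  obtain ⟨U', hU'⟩ : ∃ U', U' = img g U := ⟨_, rfl⟩
  have hU'n : NondegOn Q U' := hU' ▸ nondegOn_img hU g
  have hd' : Module.finrank F U' = Module.finrank F U := by rw [hU', finrank_img]
  have hR' : Rich Q U' := hU' ▸ hR.img g
  have hd : 4 ≤ Module.finrank F U' := hR'.four
  have hinU : ∀ a ∈ U, ∀ b ∈ U, ∀ k, IsSiegel a b k → k ∈ M := fun a ha b hb k hk =>
    hle (siegel_mem_stab_sub hk ha hb)
  have hinW : ∀ a ∈ orth Q U, ∀ b ∈ orth Q U, ∀ k, IsSiegel a b k → k ∈ M := fun a ha b hb k hk =>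
    hle ⟨by rw [← stab_orth_eq hB U]; exact (siegel_mem_stab_sub hk ha hb).1, siegel_mem_El hk⟩
  have hlines : ∀ a ∈ U', ∀ b ∈ U', ∀ k, IsSiegel a b k → k ∈ M := fun a ha b hb k hk =>
    siegel_conj_mem hk hg fun k' hk' =>
      hinU _ (mem_img.1 (hU' ▸ ha)) _ (mem_img.1 (hU' ▸ hb)) k' hk'
  -- a singular vector of `U'` outside `U`
  obtain ⟨s, f, hs, hf, -, hsq, hfq, hsf⟩ := exists_pair_in hB hU'n (P := ⊥) bot_le
    (by rw [finrank_bot]; omega)
  obtain ⟨a, haU', haq, haU⟩ : ∃ a ∈ U', Q a = 0 ∧ a ∉ U :=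
    exists_singular_not_mem (le_span_singular_in hs.1 hf.1 hsq hfq hsf) fun h =>
      hgs (mem_img_of_stab (hU' ▸ h))
  obtain ⟨pa, hpa, za, hza, hea⟩ := exists_decomp hB hU a
  have ha0 : a ≠ 0 := fun e => haU (e ▸ U.zero_mem)
  by_cases hex : ∃ b ∈ relOrth Q U' (Submodule.span F {a}), Q b = 0 ∧
      ∃ pb ∈ U, ∃ zb ∈ orth Q U, b = pb + zb ∧ pb ∉ Submodule.span F {pa}
  · obtain ⟨b, hb, hbq, pb, hpb, zb, hzb, heb, hind⟩ := hex
    have hline2 : ∀ {x}, x ∈ Submodule.span F ({a, b} : Set (ι → F)) → x ∈ U' := fun {x} hx => by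
      obtain ⟨k, l, rfl⟩ := Submodule.mem_span_pair.1 hx
      exact U'.add_mem (U'.smul_mem _ haU') (U'.smul_mem _ hb.1)
    have hab : B a b = 0 := mem_orth.1 hb.2 a (Submodule.mem_span_singleton_self a)
    have hlin : ∀ x ∈ Submodule.span F ({a, b} : Set (ι → F)),
        ∀ y ∈ Submodule.span F ({a, b} : Set (ι → F)), ∀ k, IsSiegel x y k → k ∈ M :=
      fun x hx y hy => hlines x (hline2 hx) y (hline2 hy)
    have hzB : ∀ {x y : ι → F}, x ∈ U → y ∈ orth Q U → B x y = 0 := fun hx hy => hy _ hx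
    rcases hX pa hpa pb hpb hind za hza zb hzb
        (by rw [← haq, hea, q_add, hzB hpa hza, add_zero])
        (by rw [← hbq, heb, q_add, hzB hpb hzb, add_zero])
        (by rw [← hab, hea, heb, b_add_left, b_add_right, b_add_right, hzB hpa hzb,
              b_comm za pb, hzB hpb hza]; ring) with hc | ⟨hpa0, hzi, hc⟩
    · obtain ⟨u, w, hu, hu0, huq, hw, hw0, hM'⟩ := exists_mixed_of_cross hB hU hinU haq hbq hab
        hlin hpa hza hea hpb hzb heb haU hind hc
      exact El_le_of_mixed hB hU hR hn hbad hle hu hu0 huq hw hw0 hM'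
    · have haW : a ∉ orth Q U := fun h => hpa0 (nondeg_inf hU hpa (by
        rw [show pa = a - za by rw [hea]; abel]; exact sub_mem h hza))
      obtain ⟨u, w, hu, hu0, huq, hw, hw0, hM'⟩ := exists_mixed_of_cross hB (nondegOn_orth hB hU)
        hinW haq hbq hab hlin hza (by rw [orth_orth hB]; exact hpa) (hea.trans (add_comm _ _))
        hzb (by rw [orth_orth hB]; exact hpb) (heb.trans (add_comm _ _)) haW hzi hc
      rw [orth_orth hB] at hw
      obtain ⟨u', w', hu', hu'0, hu'q, hw', hw'0, hM''⟩ :=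
        exists_mixed_flip hB hU hR hinU hu hu0 huq hw hw0 hM'
      exact El_le_of_mixed hB hU hR hn hbad hle hu' hu'0 hu'q hw' hw'0 hM''
  push Not at hex
  obtain ⟨S, hS⟩ : ∃ S, S = relOrth Q U' (Submodule.span F {a}) := ⟨_, rfl⟩
  have hsub : S ≤ orth Q U ⊔ Submodule.span F {pa} := by
    obtain ⟨s', f', hs', hf', -, hsq', hfq', hsf'⟩ := hR'.pair hB hU'n haU' ha0 haq
    rw [hS]
    refine (le_span_singular_in hs' hf' hsq' hfq' hsf').trans (Submodule.span_le.2 ?_)
    rintro b ⟨hb, hbq⟩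
    obtain ⟨pb, hpb, zb, hzb, heb⟩ := exists_decomp hB hU b
    rw [SetLike.mem_coe, heb]
    exact add_mem (Submodule.mem_sup_right (hex b hb hbq pb hpb zb hzb heb))
      (Submodule.mem_sup_left hzb)
  obtain ⟨k₁, k₂, hk₁, hk₂, hk₁q, hk₂q, hk₁0, hkind⟩ : ∃ k₁ k₂, k₁ ∈ U' ⊓ orth Q U ∧
      k₂ ∈ U' ⊓ orth Q U ∧ Q k₁ = 0 ∧ Q k₂ = 0 ∧ k₁ ≠ 0 ∧ k₂ ∉ Submodule.span F {k₁} := by
    have hsr : ∀ {x}, x ∈ S → x ∈ U' := fun {x} hx => (hS ▸ hx : x ∈ relOrth Q U' _).1
    have haS : a ∈ S := by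
      rw [hS]
      exact ⟨haU', mem_orth_span.2 fun x hx => by
        rw [Set.mem_singleton_iff.1 hx]; exact b_self_zero haq⟩
    obtain ⟨s', f', hs', hf', hs'a, hsq', hfq', hsf'⟩ := hR'.pair hB hU'n haU' ha0 haq
    by_cases hpa0 : pa = 0
    · have hSW : ∀ x ∈ S, x ∈ U' ⊓ orth Q U := fun x hx => ⟨hsr hx, by
        have := hsub hx
        rwa [hpa0, Submodule.span_zero_singleton, sup_bot_eq] at this⟩
      refine ⟨s', f', hSW _ (hS ▸ hs'), hSW _ (hS ▸ hf'), hsq', hfq',
        fun e => hs'a (e ▸ Submodule.zero_mem _), fun h => ?_⟩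
      obtain ⟨c, hc⟩ := Submodule.mem_span_singleton.1 h
      rw [← hc, b_smul_right, b_self_zero hsq', mul_zero] at hsf'
      exact zero_ne_one hsf'
    -- push the pair along the point into the orthogonal
    have hpush : ∀ x ∈ S, ∃ r : F, x - r • a ∈ U' ⊓ orth Q U := fun x hx => by
      obtain ⟨z, hz, w, hw, e⟩ := Submodule.mem_sup.1 (hsub hx)
      obtain ⟨r, rfl⟩ := Submodule.mem_span_singleton.1 hw
      refine ⟨r, U'.sub_mem (hsr hx) (U'.smul_mem _ haU'), ?_⟩
      rw [← e, hea, show z + r • pa - r • (pa + za) = z - r • za by module]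
      exact sub_mem hz (Submodule.smul_mem _ _ hza)
    obtain ⟨r₁, hr₁⟩ := hpush s' (hS ▸ hs')
    obtain ⟨r₂, hr₂⟩ := hpush f' (hS ▸ hf')
    have hsa : B s' a = 0 := by
      rw [b_comm]; exact mem_orth.1 hs'.2 a (Submodule.mem_span_singleton_self a)
    have hfa : B f' a = 0 := by
      rw [b_comm]; exact mem_orth.1 hf'.2 a (Submodule.mem_span_singleton_self a)
    have hpair : B (s' - r₁ • a) (f' - r₂ • a) = 1 := by
      rw [b_sub_left, b_sub_right, b_sub_right, b_smul_left, b_smul_left, b_smul_right, b_smul_right,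
        hsf', hsa, b_comm a f', hfa, b_self_zero haq]
      ring
    have hq1 : Q (s' - r₁ • a) = 0 := by
      rw [q_sub, q_smul, haq, hsq', b_smul_right, hsa]; ring
    refine ⟨_, _, hr₁, hr₂, hq1, by rw [q_sub, q_smul, haq, hfq', b_smul_right, hfa]; ring,
      fun e => ?_, fun h => ?_⟩
    · rw [e, b_zero_left] at hpair
      exact zero_ne_one hpair
    · obtain ⟨c, hc⟩ := Submodule.mem_span_singleton.1 h
      rw [← hc, b_smul_right, b_self_zero hq1, mul_zero] at hpair
      exact zero_ne_one hpair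
  have hneW : ¬ U' ≤ orth Q U := fun h => hswap
    (hU' ▸ Submodule.eq_of_le_of_finrank_le h (by omega))
  obtain ⟨u, w, hu, hu0, huq, hw, hw0, hM'⟩ := exists_mixed_of_meet hB hU'n (nondegOn_orth hB hU)
    hR' hlines hinW le_rfl hk₁ hk₂ hk₁q hk₂q hk₁0 hkind hneW
  rw [orth_orth hB] at hw
  obtain ⟨u', w', hu', hu'0, hu'q, hw', hw'0, hM''⟩ :=
    exists_mixed_flip hB hU hR hinU hu hu0 huq hw hw0 hM'
  exact El_le_of_mixed hB hU hR hn hbad hle hu' hu'0 hu'q hw' hw'0 hM''

/-- The same for a subspace of dimension at least five. -/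
theorem El_le_of_moved {M : Subgroup (Grp Q)} (hB : Nondeg Q) {U : Submodule F (ι → F)} (hU : NondegOn Q U)
    (hd : 5 ≤ Module.finrank F U) (hbig : Module.finrank F (orth Q U) ≤ Module.finrank F U)
    (hbad : ¬ (Nat.card F ≤ 3 ∧ Module.finrank F (orth Q U) = 2 ∧
      ∃ s ∈ orth Q U, s ≠ 0 ∧ Q s = 0))
    (hle : stab Q U ⊓ El Q ≤ M) {g : Grp Q} (hg : g ∈ M) (hgs : g ∉ stab Q U)
    (hswap : img g U ≠ orth Q U) : El Q ≤ M :=
  El_le_of_moved' hB hU (rich_of_five hB hd)
    (fun _ _ q hq hind _ _ _ _ _ _ _ => Or.inl (corner_of_five hB hU hd hq hind))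
    (hd.trans (Submodule.finrank_le U)) hbig hbad hle hg hgs hswap

/-- The stabiliser of a non-degenerate subspace is maximal in `Ω`. -/
theorem stab_nondeg_maximal' (hB : Nondeg Q) {U : Submodule F (ι → F)} (hU : NondegOn Q U)
    (hR : Rich Q U) (hX : Cross Q U) (hn : 5 ≤ Module.finrank F (ι → F)) (hbig : Module.finrank F (orth Q U) ≤ Module.finrank F U)
    (hW0 : orth Q U ≠ ⊥)
    (hbad : ¬ (Nat.card F ≤ 3 ∧ Module.finrank F (orth Q U) = 2 ∧
      ∃ s ∈ orth Q U, s ≠ 0 ∧ Q s = 0))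
    (hswap : ∀ g : Grp Q, img g U ≠ orth Q U) :
    stab Q U ⊓ El Q < El Q ∧
      ∀ M, stab Q U ⊓ El Q ≤ M → M ≤ El Q → M = stab Q U ⊓ El Q ∨ M = El Q := by
  have hd := hR.four
  constructor
  · refine lt_of_le_of_ne inf_le_right fun h => ?_
    obtain ⟨w, hw, hw0⟩ := Submodule.exists_mem_ne_zero_of_ne_bot hW0
    obtain ⟨s, f, hs, hf, hsP, hsq, hfq, hsf⟩ := exists_pair_in hB hU (P := ⊥) bot_le
      (by rw [finrank_bot]; omega)
    obtain ⟨e, he⟩ := exists_siegel hB hsq (v := w) (hw s hs.1)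
    have h1 := (mem_stab.1 (h.symm ▸ siegel_mem_El he : e ∈ stab Q U ⊓ El Q).1 f).1 hf.1
    rw [he.2.2, b_comm f s, hsf, show B f w = 0 from hw f hf.1, one_smul, zero_smul,
      sub_zero, mul_one] at h1
    have h2 : w ∈ U := by
      have := U.sub_mem (U.add_mem h1 (U.smul_mem (Q w) hs.1)) hf.1
      rwa [sub_add_cancel, add_sub_cancel_left] at this
    exact hw0 (nondeg_inf hU h2 hw)
  intro M hle hM
  by_cases hMs : M ≤ stab Q U
  · exact Or.inl (le_antisymm (le_inf hMs hM) hle)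
  refine Or.inr (le_antisymm hM ?_)
  obtain ⟨g, hg, hgs⟩ := SetLike.not_le_iff_exists.1 hMs
  exact El_le_of_moved' hB hU hR hX hn hbig hbad hle hg hgs (hswap g)

/-- The stabiliser of a non-degenerate subspace of dimension at least five. -/
theorem stab_nondeg_maximal (hB : Nondeg Q) {U : Submodule F (ι → F)} (hU : NondegOn Q U)
    (hd : 5 ≤ Module.finrank F U) (hbig : Module.finrank F (orth Q U) ≤ Module.finrank F U)
    (hW0 : orth Q U ≠ ⊥)
    (hbad : ¬ (Nat.card F ≤ 3 ∧ Module.finrank F (orth Q U) = 2 ∧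
      ∃ s ∈ orth Q U, s ≠ 0 ∧ Q s = 0))
    (hswap : ∀ g : Grp Q, img g U ≠ orth Q U) :
    stab Q U ⊓ El Q < El Q ∧
      ∀ M, stab Q U ⊓ El Q ≤ M → M ≤ El Q → M = stab Q U ⊓ El Q ∨ M = El Q :=
  stab_nondeg_maximal' hB hU (rich_of_five hB hd)
    (fun _ _ q hq hind _ _ _ _ _ _ _ => Or.inl (corner_of_five hB hU hd hq hind))
    (hd.trans (Submodule.finrank_le U)) hbig hW0 hbad hswap

/-- Two copies of an even dimensional space form a space of plus type. -/
theorem swap_half (hB : Nondeg Q) {U : Submodule F (ι → F)} (hU : NondegOn Q U)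
    (hev : Even (Module.finrank F U)) {g : Grp Q} (hg : img g U = orth Q U) :
    ∃ H, IsHalf Q H := by
  classical
  have hd : 2 * Module.finrank F U = Module.finrank F (ι → F) := by
    have := finrank_orth hB U
    rw [← hg, finrank_img] at this
    omega
  have hgW : ∀ x ∈ U, ap g x ∈ orth Q U := fun x hx => hg ▸ ap_mem_img g hx
  by_cases h2 : (2 : F) = 0
  · let f : U →ₗ[F] (ι → F) :=
      { toFun := fun x => (x : ι → F) + ap g x
        map_add' := fun a b => by rw [Submodule.coe_add, ap_add]; abel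
        map_smul' := fun c a => by rw [Submodule.coe_smul, ap_smul, smul_add]; rfl }
    have hf : Function.Injective f := (injective_iff_map_eq_zero f).2 fun x hx => by
      refine Subtype.ext (nondeg_inf hU x.2 ?_)
      rw [show (x : ι → F) = -ap g (x : ι → F) from eq_neg_of_add_eq_zero_left hx]
      exact Submodule.neg_mem _ (hgW x x.2)
    refine ⟨LinearMap.range f, ?_, ?_⟩
    · rintro y ⟨x, rfl⟩
      show Q ((x : ι → F) + ap g (x : ι → F)) = 0
      rw [q_add, ap_q, mem_orth.1 (hgW x x.2) x x.2, add_zero, ← two_mul, h2, zero_mul]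
    · rw [LinearMap.finrank_range_of_inj hf]; exact hd
  -- odd characteristic: pair up an orthogonal basis
  let Bf : LinearMap.BilinForm F U := LinearMap.BilinForm.restrict (QuadraticMap.polarBilin Q) U
  have hsym : LinearMap.IsSymm Bf := ⟨fun a b => b_comm (a : ι → F) b⟩
  haveI : Invertible (2 : F) := invertibleOfNonzero h2
  obtain ⟨v, hv⟩ := LinearMap.BilinForm.exists_orthogonal_basis hsym
  obtain ⟨j, hj⟩ := hev
  have horth : ∀ i l, i ≠ l → B (v i : ι → F) (v l : ι → F) = 0 := fun i l h => hv h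
  have hne : ∀ i, Q (v i : ι → F) ≠ 0 := by
    intro i h
    refine v.ne_zero i (Subtype.ext (hU _ (v i).2 fun y hy => ?_))
    have hrep := congrArg (fun x : U => (x : ι → F)) (v.sum_repr ⟨y, hy⟩)
    simp only [Submodule.coe_sum, Submodule.coe_smul] at hrep
    rw [← hrep, ← QuadraticMap.polarBilin_apply_apply, map_sum]
    refine Finset.sum_eq_zero fun l _ => ?_
    rw [map_smul, QuadraticMap.polarBilin_apply_apply]
    by_cases hil : i = l
    · subst hil; rw [b_self_zero h, smul_zero]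
    · rw [horth i l hil, smul_zero]
  -- index pairs
  let ia : Fin j → Fin (Module.finrank F U) := fun i => ⟨i, by have := i.2; omega⟩
  let ib : Fin j → Fin (Module.finrank F U) := fun i => ⟨j + i, by have := i.2; omega⟩
  have hab : ∀ i l, ia i ≠ ib l := fun i l h => by
    have := congrArg Fin.val h
    simp only [ia, ib] at this
    have := i.2
    omega
  have haa : ∀ i l, ia i = ia l → i = l := fun i l h => Fin.ext (congrArg Fin.val h :)
  have hbb : ∀ i l, ib i = ib l → i = l := fun i l h => by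
    have := congrArg Fin.val h
    simp only [ib] at this
    exact Fin.ext (by omega)
  cases nonempty_fintype F
  have hsol : ∀ i : Fin j, ∃ x y : F,
      (x * x + y * y) * Q (v (ia i) : ι → F) = -Q (v (ib i) : ι → F) := by
    intro i
    obtain ⟨x, y, hxy⟩ := FiniteField.exists_root_sum_quadratic
      (f := Polynomial.C (Q (v (ia i) : ι → F)) * Polynomial.X ^ 2 +
        Polynomial.C (Q (v (ib i) : ι → F)))
      (g := Polynomial.C (Q (v (ia i) : ι → F)) * Polynomial.X ^ 2)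
      (by compute_degree!; exact hne _) (by compute_degree!; exact hne _)
      (FiniteField.odd_card_of_char_ne_two fun e => h2 (by
        have := CharP.cast_eq_zero F (ringChar F)
        rwa [e, Nat.cast_ofNat] at this))
    simp only [Polynomial.eval_add, Polynomial.eval_mul, Polynomial.eval_C, Polynomial.eval_pow,
      Polynomial.eval_X] at hxy
    exact ⟨x, y, by linear_combination hxy⟩
  choose X Y hXY using hsol
  let hvec : Fin j ⊕ Fin j → ι → F := Sum.elim
    (fun i => X i • (v (ia i) : ι → F) + Y i • ap g (v (ia i) : ι → F) + (v (ib i) : ι → F))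
    (fun i => (-Y i) • (v (ia i) : ι → F) + X i • ap g (v (ia i) : ι → F) + ap g (v (ib i) : ι → F))
  have hcross : ∀ s t, B (v s : ι → F) (ap g (v t : ι → F)) = 0 := fun s t =>
    mem_orth.1 (hgW _ (v t).2) _ (v s).2
  have hcross' : ∀ s t, B (ap g (v s : ι → F)) (v t : ι → F) = 0 := fun s t => by
    rw [b_comm]; exact hcross t s
  refine ⟨Submodule.span F (Set.range hvec), ?_, ?_⟩
  · have hq0 : ∀ s, Q (hvec s) = 0 := by
      rintro (i | i) <;>
        simp only [hvec, Sum.elim_inl, Sum.elim_inr, q_add, q_smul, b_add_left, b_smul_left,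
          b_smul_right, hcross, hcross', ap_q, ap_b, horth _ _ (hab i i)] <;>
        linear_combination hXY i
    have hb0 : ∀ s t, B (hvec s) (hvec t) = 0 := by
      intro s t
      by_cases hst : s = t
      · rw [hst, b_self, hq0, mul_zero]
      rcases s with i | i <;> rcases t with l | l
      · have hil : i ≠ l := fun h => hst (by rw [h])
        simp [hvec, b_add_left, b_add_right, b_smul_left, b_smul_right, hcross, hcross', ap_b,
          horth _ _ (hab i l), horth _ _ (hab l i).symm, horth _ _ (fun h => hil (haa i l h)),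
          horth _ _ (fun h => hil (hbb i l h))]
      · by_cases hil : i = l
        · subst hil
          simp only [hvec, Sum.elim_inl, Sum.elim_inr, b_add_left, b_add_right, b_smul_left,
            b_smul_right, hcross, hcross', ap_b, horth _ _ (hab i i), horth _ _ (hab i i).symm]
          ring
        · simp [hvec, b_add_left, b_add_right, b_smul_left, b_smul_right, hcross, hcross', ap_b,
            horth _ _ (hab i l), horth _ _ (hab l i).symm, horth _ _ (fun h => hil (haa i l h))]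
      · by_cases hil : i = l
        · subst hil
          simp only [hvec, Sum.elim_inl, Sum.elim_inr, b_add_left, b_add_right, b_smul_left,
            b_smul_right, hcross, hcross', ap_b, horth _ _ (hab i i), horth _ _ (hab i i).symm]
          ring
        · simp [hvec, b_add_left, b_add_right, b_smul_left, b_smul_right, hcross, hcross', ap_b,
            horth _ _ (hab i l), horth _ _ (hab l i).symm, horth _ _ (fun h => hil (haa i l h))]
      · have hil : i ≠ l := fun h => hst (by rw [h])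
        simp [hvec, b_add_left, b_add_right, b_smul_left, b_smul_right, hcross, hcross', ap_b,
          horth _ _ (hab i l), horth _ _ (hab l i).symm, horth _ _ (fun h => hil (haa i l h)),
          horth _ _ (fun h => hil (hbb i l h))]
    intro x hx
    have key : Q x = 0 ∧ ∀ t, B x (hvec t) = 0 := by
      induction hx using Submodule.span_induction with
      | mem y hy => obtain ⟨s, rfl⟩ := hy; exact ⟨hq0 s, hb0 s⟩
      | zero => exact ⟨QuadraticMap.map_zero _, fun t => b_zero_left _⟩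
      | add y z hy hz hy' hz' =>
          refine ⟨?_, fun t => by rw [b_add_left, hy'.2, hz'.2, add_zero]⟩
          have : B y z = 0 :=
            (Submodule.span_le (p := LinearMap.ker (QuadraticMap.polarBilin Q y))).2
              (by rintro _ ⟨t, rfl⟩; exact hy'.2 t) hz
          rw [q_add, hy'.1, hz'.1, this, add_zero, add_zero]
      | smul c y _ hy' => exact ⟨by rw [q_smul, hy'.1, mul_zero],
          fun t => by rw [b_smul_left, hy'.2, mul_zero]⟩
    exact key.1
  · -- independence by pairing with the second coordinates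
    have hli : LinearIndependent F hvec := by
      rw [Fintype.linearIndependent_iff]
      intro c hc
      have pick : ∀ z, B z (∑ s, c s • hvec s) = 0 := fun z => by rw [hc, b_zero_right]
      have hsum : ∀ z, ∑ s, c s * B z (hvec s) = 0 := fun z => by
        rw [← pick z, ← QuadraticMap.polarBilin_apply_apply, map_sum]
        exact Finset.sum_congr rfl fun s _ => by
          rw [map_smul, QuadraticMap.polarBilin_apply_apply, smul_eq_mul]
      rintro (l | l)
      · have h := hsum (v (ib l) : ι → F)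
        rw [Finset.sum_eq_single (Sum.inl l)] at h
        · simp only [hvec, Sum.elim_inl, b_add_right, b_smul_right, hcross,
            horth _ _ (hab l l).symm, b_self, mul_zero, zero_add] at h
          exact (mul_eq_zero.1 h).resolve_right (mul_ne_zero h2 (hne _))
        · rintro (i | i) - hs
          · have hil : l ≠ i := fun h => hs (by rw [h])
            simp [hvec, b_add_right, b_smul_right, hcross, horth _ _ (hab i l).symm,
              horth _ _ (fun h => hil (hbb l i h))]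
          · simp [hvec, b_add_right, b_smul_right, hcross, horth _ _ (hab i l).symm]
        · simp
      · have h := hsum (ap g (v (ib l) : ι → F))
        rw [Finset.sum_eq_single (Sum.inr l)] at h
        · simp only [hvec, Sum.elim_inr, b_add_right, b_smul_right, hcross', ap_b,
            horth _ _ (hab l l).symm, b_self, ap_q, mul_zero, zero_add] at h
          exact (mul_eq_zero.1 h).resolve_right (mul_ne_zero h2 (hne _))
        · rintro (i | i) - hs
          · simp [hvec, b_add_right, b_smul_right, hcross', ap_b, horth _ _ (hab i l).symm]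
          · have hil : l ≠ i := fun h => hs (by rw [h])
            simp [hvec, b_add_right, b_smul_right, hcross', ap_b, horth _ _ (hab i l).symm,
              horth _ _ (fun h => hil (hbb l i h))]
        · simp
    rw [finrank_span_eq_card hli, Fintype.card_sum, Fintype.card_fin]
    omega

end CfsgLib.Orth
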