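/-
Maximality of non-degenerate subspace stabilisers, matrix form.
-/
import Cfsg.Agent.Lib.Classical.OrthNondeg

set_option autoImplicit false

namespace CfsgLib.Orth

open Matrix

variable {F : Type*} [Field F] [Finite F] {ι : Type} [Fintype ι] [DecidableEq ι]
variable {Q : QuadraticForm F (ι → F)}

omit [Finite F] [Fintype ι] [DecidableEq ι] in
theorem nondegOn_of {W : Submodule F (ι → F)}
    (hW : Cfsg.Geo.IsNondegenerateOn (QuadraticMap.polar ⇑Q) W) : NondegOn Q W := by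
  intro x hx h
  by_contra h0
  obtain ⟨-, y, hy, hne⟩ := hW x hx h0
  exact hne (h y hy)

omit [Finite F] [Fintype ι] [DecidableEq ι] in
theorem isPlusTypeOn_of_singular {X : Submodule F (ι → F)} (h2 : Module.finrank F X = 2)
    {s : ι → F} (hs : s ∈ X) (hs0 : s ≠ 0) (hq : Q s = 0) : Cfsg.Geo.IsPlusTypeOn ⇑Q X := by
  refine ⟨Submodule.span F {s}, (Submodule.span_singleton_le_iff_mem _ _).2 hs, fun x hx => ?_, ?_⟩
  · obtain ⟨c, rfl⟩ := Submodule.mem_span_singleton.1 hx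
    rw [q_smul, hq, mul_zero]
  · rw [finrank_span_singleton hs0, h2]

theorem isMaximalIn_stab_nondeg' (hB : Nondeg Q)
    {W : Submodule F (ι → F)} (hd : 5 ≤ Module.finrank F W ∨ 5 ≤ Module.finrank F (orth Q W))
    (hW : NondegOn Q W) (hW0 : W ≠ ⊥) (hW1 : orth Q W ≠ ⊥)
    (hbad : ∀ X, X = W ∨ X = orth Q W → ∀ s ∈ X, Nat.card F ≤ 3 → Module.finrank F X = 2 →
      s ≠ 0 → Q s ≠ 0)
    (hswap : 2 * Module.finrank F W = Module.finrank F (ι → F) →
      Even (Module.finrank F W) ∧ ∀ H, ¬ IsHalf Q H) :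
    Cfsg.Geo.IsMaximalIn (Cfsg.Geo.omegaGL ⇑Q)
      (Cfsg.Geo.subspaceStabilizer W ⊓ Cfsg.Geo.omegaGL ⇑Q) := by
  have hsum := finrank_orth hB W
  refine isMaximalIn_omegaGL (H := stab Q W) (fun _ => Iff.rfl) ?_
  rw [omega_eq_El hB (by omega)]
  rcases le_total (Module.finrank F (orth Q W)) (Module.finrank F W) with h | h
  · refine stab_nondeg_maximal hB hW (by omega) h hW1
      (fun ⟨hq, h2, s, hs, hs0, hqs⟩ => hbad _ (Or.inr rfl) s hs hq h2 hs0 hqs) fun g hg => ?_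
    have he := finrank_img g W
    rw [hg] at he
    obtain ⟨hev, hno⟩ := hswap (by omega)
    obtain ⟨H, hH⟩ := swap_half hB hW hev hg
    exact hno H hH
  · rw [← stab_orth_eq hB W]
    have hU := nondegOn_orth hB hW
    refine stab_nondeg_maximal hB hU (by omega) (by rw [orth_orth hB]; exact h)
      (by rw [orth_orth hB]; exact hW0) (fun ⟨hq, h2, s, hs, hs0, hqs⟩ => ?_) fun g hg => ?_
    · rw [orth_orth hB] at h2 hs
      exact hbad _ (Or.inl rfl) s hs hq h2 hs0 hqs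
    · have he := finrank_img g (orth Q W)
      rw [hg] at he
      rw [orth_orth hB] at he
      obtain ⟨hev, hno⟩ := hswap (by omega)
      obtain ⟨H, hH⟩ := swap_half hB hU (by rw [← he]; exact hev) hg
      exact hno H hH

theorem isMaximalIn_stab_nondeg (hB : Nondeg Q) (hn : 9 ≤ Module.finrank F (ι → F))
    {W : Submodule F (ι → F)} (hW : NondegOn Q W) (hW0 : W ≠ ⊥) (hW1 : orth Q W ≠ ⊥)
    (hbad : ∀ X, X = W ∨ X = orth Q W → ∀ s ∈ X, Nat.card F ≤ 3 → Module.finrank F X = 2 →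
      s ≠ 0 → Q s ≠ 0)
    (hswap : 2 * Module.finrank F W = Module.finrank F (ι → F) →
      Even (Module.finrank F W) ∧ ∀ H, ¬ IsHalf Q H) :
    Cfsg.Geo.IsMaximalIn (Cfsg.Geo.omegaGL ⇑Q)
      (Cfsg.Geo.subspaceStabilizer W ⊓ Cfsg.Geo.omegaGL ⇑Q) :=
  isMaximalIn_stab_nondeg' hB (by have := finrank_orth hB W; omega) hW hW0 hW1 hbad hswap

/-- A half-dimensional subspace not isometric to its perpendicular. -/
theorem isMaximalIn_stab_half (hB : Nondeg Q) {W : Submodule F (ι → F)}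
    (hd : 5 ≤ Module.finrank F W) (hW : NondegOn Q W)
    (hhalf : Module.finrank F (orth Q W) = Module.finrank F W)
    (hswap : ∀ g : Grp Q, img g W ≠ orth Q W) :
    Cfsg.Geo.IsMaximalIn (Cfsg.Geo.omegaGL ⇑Q)
      (Cfsg.Geo.subspaceStabilizer W ⊓ Cfsg.Geo.omegaGL ⇑Q) := by
  have hsum := finrank_orth hB W
  refine isMaximalIn_omegaGL (H := stab Q W) (fun _ => Iff.rfl) ?_
  rw [omega_eq_El hB (by omega)]
  refine stab_nondeg_maximal hB hW hd hhalf.le (fun e => ?_) (fun ⟨_, h2, _⟩ => by omega) hswap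
  rw [e, finrank_bot] at hhalf
  omega

end CfsgLib.Orth
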