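import Mathlib

set_option autoImplicit false

/-!
Totally isotropic half subspaces for the sum of squares, and similarity of odd dimensional forms.
-/

namespace CfsgLib.Classical.SumSquares

open Matrix

variable {F : Type*} [Field F]

theorem neg_one_pow_isSquare_of_half (h2 : (2 : F) ≠ 0) {ι : Type*} [Fintype ι] (m : ℕ)
    (hι : Fintype.card ι = 2 * m) (W : Submodule F (ι → F)) (hW : Module.finrank F W = m)
    (h0 : ∀ w ∈ W, ∑ i, w i ^ 2 = 0) : IsSquare ((-1 : F) ^ m) := by
  classical
  obtain ⟨U, hU⟩ := W.exists_isCompl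
  have hUm : Module.finrank F U = m := by
    have := Submodule.finrank_add_eq_of_isCompl hU
    rw [hW, Module.finrank_pi, hι] at this
    omega
  let b : Module.Basis (Fin m ⊕ Fin m) F (ι → F) :=
    ((Module.finBasisOfFinrankEq F W hW).prod (Module.finBasisOfFinrankEq F U hUm)).map
      (W.prodEquivOfIsCompl U hU)
  let e : Fin m ⊕ Fin m ≃ ι := Fintype.equivOfCardEq (by simp [hι]; omega)
  let P : Matrix ι (Fin m ⊕ Fin m) F := Matrix.of fun i j => b j i
  let Q : Matrix (Fin m ⊕ Fin m) (Fin m ⊕ Fin m) F := P.submatrix e id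
  have hG : Qᵀ * Q = Pᵀ * P := by
    ext i j
    simp only [Matrix.mul_apply, Q, Matrix.transpose_apply, Matrix.submatrix_apply, id]
    exact e.sum_comp (fun k => P k i * P k j)
  have hQ : Q.det ≠ 0 := by
    have : IsUnit Q := by
      rw [← Matrix.linearIndependent_cols_iff_isUnit]
      have hl : LinearIndependent F fun j => (LinearMap.funLeft F F e) (b j) :=
        b.linearIndependent.map' _ (LinearMap.ker_eq_bot.2
          (LinearMap.funLeft_injective_of_surjective F F e e.surjective))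
      exact hl
    exact ((Matrix.isUnit_iff_isUnit_det Q).1 this).ne_zero
  have hbW : ∀ j, b (Sum.inl j) ∈ W := fun j => by simp [b]
  have hiso : ∀ i j, (Pᵀ * P) (Sum.inl i) (Sum.inl j) = 0 := by
    intro i j
    have h1 := h0 _ (W.add_mem (hbW i) (hbW j))
    simp only [Pi.add_apply, add_sq, Finset.sum_add_distrib, h0 _ (hbW i), h0 _ (hbW j), zero_add,
      add_zero, mul_assoc, ← Finset.mul_sum] at h1
    simpa [Matrix.mul_apply, P] using (mul_eq_zero.1 h1).resolve_left h2
  have hsym : (Pᵀ * P)ᵀ = Pᵀ * P := by rw [Matrix.transpose_mul, Matrix.transpose_transpose]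
  set A := (Pᵀ * P).toBlocks₁₂
  set C := (Pᵀ * P).toBlocks₂₂
  have hblk : Pᵀ * P = Matrix.fromBlocks 0 A Aᵀ C := by
    conv_lhs => rw [← Matrix.fromBlocks_toBlocks (Pᵀ * P)]
    have h11 : (Pᵀ * P).toBlocks₁₁ = 0 := Matrix.ext fun i j => hiso i j
    have h21 : (Pᵀ * P).toBlocks₂₁ = Aᵀ := Matrix.ext fun i j => by
      have := congrFun (congrFun hsym (Sum.inr i)) (Sum.inl j)
      exact this.symm
    rw [h11, h21]
  let J : Matrix (Fin m ⊕ Fin m) (Fin m ⊕ Fin m) F := Matrix.fromBlocks 0 1 1 0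
  have hJ : J.det = (-1) ^ m := by
    have hT : J * Matrix.fromBlocks 1 0 1 1 =
        Matrix.fromBlocks (1 : Matrix (Fin m) (Fin m) F) 1 1 0 := by
      simp [J, Matrix.fromBlocks_multiply]
    have h := congrArg Matrix.det hT
    rw [Matrix.det_mul, Matrix.det_fromBlocks_zero₁₂, Matrix.det_one, mul_one, mul_one,
      Matrix.det_fromBlocks_one₁₁] at h
    simpa [Matrix.det_neg] using h
  have hdet : (Pᵀ * P * J).det = A.det * A.det := by
    rw [hblk, Matrix.fromBlocks_multiply]
    simp only [Matrix.mul_zero, Matrix.mul_one, zero_add, add_zero]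
    rw [Matrix.det_fromBlocks_zero₁₂, Matrix.det_transpose]
  rw [Matrix.det_mul, hJ, ← hG, Matrix.det_mul, Matrix.det_transpose] at hdet
  exact ⟨A.det / Q.det, by field_simp; linear_combination hdet⟩

theorem exists_half_of_sqrt {ι : Type*} [Fintype ι] (m : ℕ) (hι : Fintype.card ι = 2 * m) {i : F}
    (hi : i * i = -1) :
    ∃ W : Submodule F (ι → F), Module.finrank F W = m ∧ ∀ w ∈ W, ∑ k, w k ^ 2 = 0 := by
  classical
  let e : ι ≃ Fin m × Fin 2 := Fintype.equivOfCardEq (by simp [hι]; omega)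
  let f : (Fin m → F) →ₗ[F] (ι → F) :=
    { toFun := fun x k => ![1, i] (e k).2 * x (e k).1
      map_add' := fun x y => funext fun k => by simp [mul_add]
      map_smul' := fun c x => funext fun k => by simp [mul_left_comm] }
  refine ⟨LinearMap.range f, ?_, ?_⟩
  · rw [LinearMap.finrank_range_of_inj, Module.finrank_fin_fun]
    intro x y h
    funext j
    have := congrFun h (e.symm (j, 0))
    simpa [f] using this
  · rintro _ ⟨x, rfl⟩
    rw [← e.symm.sum_comp, Fintype.sum_prod_type]
    refine Finset.sum_eq_zero fun j _ => ?_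
    simp [f, Fin.sum_univ_two]
    linear_combination (x j) ^ 2 * hi

theorem exists_half_of_sum_two {ι : Type*} [Fintype ι] (r : ℕ) (hι : Fintype.card ι = 4 * r) {a b : F}
    (hab : a * a + b * b = -1) :
    ∃ W : Submodule F (ι → F), Module.finrank F W = 2 * r ∧ ∀ w ∈ W, ∑ k, w k ^ 2 = 0 := by
  classical
  let e : ι ≃ Fin r × Fin 4 := Fintype.equivOfCardEq (by simp [hι]; omega)
  let f : (Fin r × Fin 2 → F) →ₗ[F] (ι → F) :=
    { toFun := fun x k => ![x ((e k).1, 0), x ((e k).1, 1), a * x ((e k).1, 0) - b * x ((e k).1, 1),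
        b * x ((e k).1, 0) + a * x ((e k).1, 1)] (e k).2
      map_add' := fun x y => funext fun k => by
        rw [Pi.add_apply]
        obtain h | h | h | h : (e k).2 = 0 ∨ (e k).2 = 1 ∨ (e k).2 = 2 ∨ (e k).2 = 3 := by omega
        all_goals simp [h] <;> ring
      map_smul' := fun c x => funext fun k => by
        obtain h | h | h | h : (e k).2 = 0 ∨ (e k).2 = 1 ∨ (e k).2 = 2 ∨ (e k).2 = 3 := by omega
        all_goals simp [h] <;> ring }
  refine ⟨LinearMap.range f, ?_, ?_⟩
  · rw [LinearMap.finrank_range_of_inj]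
    · simp [mul_comm]
    intro x y h
    funext ⟨j, l⟩
    have h0 := congrFun h (e.symm (j, 0))
    have h1 := congrFun h (e.symm (j, 1))
    obtain rfl | rfl : l = 0 ∨ l = 1 := by omega
    · simpa [f] using h0
    · simpa [f] using h1
  · rintro _ ⟨x, rfl⟩
    rw [← e.symm.sum_comp, Fintype.sum_prod_type]
    refine Finset.sum_eq_zero fun j _ => ?_
    simp [f, Fin.sum_univ_four]
    linear_combination (x (j, 0) ^ 2 + x (j, 1) ^ 2) * hab

theorem exists_half_iff [Fintype F] (h2 : (2 : F) ≠ 0) (m : ℕ) :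
    (∃ W : Submodule F (Fin (2 * m) → F), Module.finrank F W = m ∧ ∀ w ∈ W, ∑ i, w i ^ 2 = 0) ↔
      ¬(Fintype.card F % 4 = 3 ∧ Odd m) := by
  constructor
  · rintro ⟨W, hW, h0⟩ ⟨hq, hm⟩
    have h := neg_one_pow_isSquare_of_half h2 m (Fintype.card_fin _) W hW h0
    rw [hm.neg_one_pow, FiniteField.isSquare_neg_one_iff] at h
    exact h hq
  · intro h
    by_cases hq : Fintype.card F % 4 = 3
    · obtain ⟨r, rfl⟩ := Nat.not_odd_iff_even.1 fun hm => h ⟨hq, hm⟩
      obtain ⟨p, hp⟩ := CharP.exists F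
      have : Fact p.Prime := ⟨CharP.char_is_prime F p⟩
      obtain ⟨a, b, hab⟩ := CharP.sq_add_sq F p (-1)
      have hab' : (a : F) * a + (b : F) * b = -1 := by
        push_cast at hab
        linear_combination hab
      obtain ⟨W, hW, h0⟩ := exists_half_of_sum_two (ι := Fin (2 * (r + r))) r (by simp; omega) hab'
      exact ⟨W, by omega, h0⟩
    · obtain ⟨i, hi⟩ := FiniteField.isSquare_neg_one_iff.2 hq
      exact exists_half_of_sqrt m (Fintype.card_fin _) hi.symm

end CfsgLib.Classical.SumSquares
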