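import Cfsg.Agent.Lib.Classical.Forms

set_option autoImplicit false

/-!
A symmetric form of dimension `2m` over a finite field of odd order has a totally isotropic subspace
of dimension `m` iff `(-1)^m` times its discriminant is a square; tensor products.
-/

namespace CfsgLib.Classical.SymmDisc

open Matrix Module
open scoped TensorProduct Kronecker

universe u v

variable {F : Type u} [Field F] {V : Type v} [AddCommGroup V] [Module F V]

theorem toMatrix_change {κ κ' : Type*} [Fintype κ] [DecidableEq κ] [Fintype κ'] [DecidableEq κ']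
    (B : LinearMap.BilinForm F V) (b : Basis κ F V) (c : Basis κ' F V) (e : κ ≃ κ') :
    ∃ d : F, d ≠ 0 ∧ (LinearMap.toMatrix₂ b b B).det = d * d * (LinearMap.toMatrix₂ c c B).det := by
  let c' := c.reindex e.symm
  have h1 : (LinearMap.toMatrix₂ c c B).det = (LinearMap.toMatrix₂ c' c' B).det := by
    rw [← Matrix.det_submatrix_equiv_self e]
    congr 1
    ext i j
    simp [c', LinearMap.toMatrix₂_apply]
  have h2 : (c'.toMatrix b)ᵀ * LinearMap.toMatrix₂ c' c' B * c'.toMatrix b =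
      LinearMap.toMatrix₂ b b B :=
    LinearMap.toMatrix₂_mul_basis_toMatrix c' c' b b B
  refine ⟨(c'.toMatrix b).det, ?_, ?_⟩
  · intro h0
    have := congrArg Matrix.det (c'.toMatrix_mul_toMatrix_flip b)
    rw [Matrix.det_mul, h0, zero_mul, Matrix.det_one] at this
    exact one_ne_zero this.symm
  · rw [h1, ← h2, Matrix.det_mul, Matrix.det_mul, Matrix.det_transpose]
    ring

theorem det_ne_zero {κ : Type*} [Fintype κ] [DecidableEq κ] (B : LinearMap.BilinForm F V)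
    (hB : ∀ v, (∀ w, B v w = 0) → v = 0) (b : Basis κ F V) : (LinearMap.toMatrix₂ b b B).det ≠ 0 :=
  LinearMap.separatingLeft_iff_det_ne_zero b |>.1 hB

/-- The hyperbolic symmetric form. -/
noncomputable def hyp (m : ℕ) : LinearMap.BilinForm F (Fin m ⊕ Fin m → F) :=
  LinearMap.mk₂ F (fun u v => ∑ i, (u (Sum.inl i) * v (Sum.inr i) + u (Sum.inr i) * v (Sum.inl i)))
    (fun a b v => by simp [add_mul, Finset.sum_add_distrib]; ring)
    (fun c a v => by simp [Finset.mul_sum, mul_assoc, mul_add])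
    (fun a b v => by simp [mul_add, Finset.sum_add_distrib]; ring)
    (fun c a v => by simp [Finset.mul_sum, mul_left_comm, mul_add])

theorem hyp_apply (m : ℕ) (u v : Fin m ⊕ Fin m → F) : hyp m u v =
    ∑ i, (u (Sum.inl i) * v (Sum.inr i) + u (Sum.inr i) * v (Sum.inl i)) := rfl

theorem hyp_det (m : ℕ) : (LinearMap.toMatrix₂ (Pi.basisFun F (Fin m ⊕ Fin m))
    (Pi.basisFun F (Fin m ⊕ Fin m)) (hyp (F := F) m)).det = (-1) ^ m := by
  classical
  have e : LinearMap.toMatrix₂ (Pi.basisFun F (Fin m ⊕ Fin m)) (Pi.basisFun F (Fin m ⊕ Fin m))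
      (hyp (F := F) m) = Matrix.fromBlocks 0 1 1 0 := by
    ext i j
    rcases i with i | i <;> rcases j with j | j <;>
      simp [LinearMap.toMatrix₂_apply, hyp_apply, Pi.single_apply, Matrix.one_apply, eq_comm]
  have hT : (Matrix.fromBlocks 0 1 1 0 : Matrix (Fin m ⊕ Fin m) (Fin m ⊕ Fin m) F) *
      Matrix.fromBlocks 1 0 1 1 = Matrix.fromBlocks (1 : Matrix (Fin m) (Fin m) F) 1 1 0 := by
    simp [Matrix.fromBlocks_multiply]
  have h := congrArg Matrix.det hT
  rw [Matrix.det_mul, Matrix.det_fromBlocks_zero₁₂, Matrix.det_one, mul_one, mul_one,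
    Matrix.det_fromBlocks_one₁₁] at h
  rw [e]
  simpa [Matrix.det_neg] using h

theorem isSquare_of_half (h2 : (2 : F) ≠ 0) [FiniteDimensional F V] (B : LinearMap.BilinForm F V)
    (hS : ∀ x y, B x y = B y x) (m : ℕ) (hV : finrank F V = 2 * m)
    {κ : Type*} [Fintype κ] [DecidableEq κ] (b : Basis κ F V) {X : Submodule F V}
    (hX : finrank F X = m) (h0 : ∀ x ∈ X, ∀ y ∈ X, B x y = 0) :
    IsSquare ((-1 : F) ^ m * (LinearMap.toMatrix₂ b b B).det) := by
  classical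
  obtain ⟨U, hU⟩ := X.exists_isCompl
  have hUm : finrank F U = m := by
    have := Submodule.finrank_add_eq_of_isCompl hU
    omega
  let c : Basis (Fin m ⊕ Fin m) F V :=
    ((finBasisOfFinrankEq F X hX).prod (finBasisOfFinrankEq F U hUm)).map
      (X.prodEquivOfIsCompl U hU)
  have hcX : ∀ j, c (Sum.inl j) ∈ X := fun j => by simp [c]
  set M := LinearMap.toMatrix₂ c c B
  have h11 : M.toBlocks₁₁ = 0 := Matrix.ext fun i j => by
    simp [Matrix.toBlocks₁₁, M, LinearMap.toMatrix₂_apply, h0 _ (hcX i) _ (hcX j)]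
  have h21 : M.toBlocks₂₁ = M.toBlocks₁₂ᵀ := Matrix.ext fun i j => by
    simp [Matrix.toBlocks₂₁, Matrix.toBlocks₁₂, M, LinearMap.toMatrix₂_apply, hS (c (Sum.inr i))]
  have hJ : (Matrix.fromBlocks 0 1 1 0 : Matrix (Fin m ⊕ Fin m) (Fin m ⊕ Fin m) F).det = (-1) ^ m := by
    have := hyp_det (F := F) m
    rwa [show LinearMap.toMatrix₂ (Pi.basisFun F (Fin m ⊕ Fin m)) (Pi.basisFun F (Fin m ⊕ Fin m))
      (hyp (F := F) m) = Matrix.fromBlocks 0 1 1 0 by
        ext i j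
        rcases i with i | i <;> rcases j with j | j <;>
          simp [LinearMap.toMatrix₂_apply, hyp_apply, Pi.single_apply, Matrix.one_apply, eq_comm]] at this
  have hdet : (M * Matrix.fromBlocks 0 1 1 0).det = M.toBlocks₁₂.det * M.toBlocks₁₂.det := by
    conv_lhs => rw [← Matrix.fromBlocks_toBlocks M, h11, h21, Matrix.fromBlocks_multiply]
    simp only [Matrix.mul_zero, Matrix.mul_one, zero_add, add_zero]
    rw [Matrix.det_fromBlocks_zero₁₂, Matrix.det_transpose]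
  rw [Matrix.det_mul, hJ] at hdet
  have hκ : Fintype.card κ = Fintype.card (Fin m ⊕ Fin m) := by
    rw [← finrank_eq_card_basis b, ← finrank_eq_card_basis c]
  obtain ⟨d, -, hd⟩ := toMatrix_change B b c (Fintype.equivOfCardEq hκ)
  exact ⟨d * M.toBlocks₁₂.det, by rw [hd]; linear_combination (d * d) * hdet⟩

theorem class_eq [Finite F] (B : LinearMap.BilinForm F V)
    {n : ℕ} (b : Basis (Fin (n + 1)) F V) (ho : ∀ i j, i ≠ j → B (b i) (b j) = 0)
    (h1 : ∀ i, i ≠ Fin.last n → B (b i) (b i) = 1) :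
    (LinearMap.toMatrix₂ b b B).det = B (b (Fin.last n)) (b (Fin.last n)) := by
  have e : LinearMap.toMatrix₂ b b B = Matrix.diagonal fun i => B (b i) (b i) := by
    ext i j
    rcases eq_or_ne i j with rfl | h
    · simp [LinearMap.toMatrix₂_apply]
    · simp [LinearMap.toMatrix₂_apply, Matrix.diagonal_apply_ne _ h, ho i j h]
  rw [e, Matrix.det_diagonal]
  exact Finset.prod_eq_single _ (fun i _ hi => h1 i hi) (fun h => absurd (Finset.mem_univ _) h)

theorem half_iff [Finite F] (h2 : (2 : F) ≠ 0) [FiniteDimensional F V] (B : LinearMap.BilinForm F V)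
    (hS : ∀ x y, B x y = B y x) (hB : ∀ v, (∀ w, B v w = 0) → v = 0) (m : ℕ)
    (hV : finrank F V = 2 * m) {κ : Type*} [Fintype κ] [DecidableEq κ] (b : Basis κ F V) :
    (∃ X : Submodule F V, finrank F X = m ∧ ∀ x ∈ X, ∀ y ∈ X, B x y = 0) ↔
      IsSquare ((-1 : F) ^ m * (LinearMap.toMatrix₂ b b B).det) := by
  classical
  refine ⟨fun ⟨X, hX, h0⟩ => isSquare_of_half h2 B hS m hV b hX h0, fun hsq => ?_⟩
  rcases Nat.eq_zero_or_pos m with rfl | hm
  · exact ⟨⊥, by simp, by simp⟩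
  obtain ⟨n, hn⟩ : ∃ n, 2 * m = n + 1 := ⟨2 * m - 1, by omega⟩
  have : Fintype F := Fintype.ofFinite F
  obtain ⟨α, hα⟩ := FiniteField.exists_nonsquare (F := F) (fun h => by
    have := ringChar.Nat.cast_ringChar (R := F)
    rw [h] at this
    exact h2 (by exact_mod_cast this))
  obtain ⟨c, co, cu, cl⟩ := CfsgLib.Forms.exists_orthogonal_basis_one h2 α hα n B hS hB (hV.trans hn)
  let Bh := hyp (F := F) m
  have hSh : ∀ x y, Bh x y = Bh y x := fun x y => by
    simp only [Bh, hyp_apply]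
    exact Finset.sum_congr rfl fun i _ => by ring
  have hBh : ∀ v, (∀ w, Bh v w = 0) → v = 0 := by
    refine (LinearMap.separatingLeft_iff_det_ne_zero (Pi.basisFun F (Fin m ⊕ Fin m))).2 ?_
    rw [show LinearMap.toMatrix₂ (Pi.basisFun F (Fin m ⊕ Fin m)) (Pi.basisFun F (Fin m ⊕ Fin m)) Bh =
      LinearMap.toMatrix₂ (Pi.basisFun F (Fin m ⊕ Fin m)) (Pi.basisFun F (Fin m ⊕ Fin m)) (hyp m) from rfl,
      hyp_det]
    exact pow_ne_zero _ (neg_ne_zero.2 one_ne_zero)
  obtain ⟨d, dO, du, dl⟩ := CfsgLib.Forms.exists_orthogonal_basis_one h2 α hα n Bh hSh hBh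
    (by simp [← hn]; omega)
  obtain ⟨p, hp, hp'⟩ := toMatrix_change B b c (Fintype.equivOfCardEq (by
    rw [← finrank_eq_card_basis b, ← finrank_eq_card_basis c]))
  obtain ⟨r, hr, hr'⟩ := toMatrix_change Bh (Pi.basisFun F (Fin m ⊕ Fin m)) d (Fintype.equivOfCardEq (by
    simp [← hn]; omega))
  rw [class_eq B c co cu] at hp'
  rw [hyp_det, class_eq Bh d dO du] at hr'
  rw [hp', hr'] at hsq
  obtain ⟨s, hs⟩ := hsq
  have hα0 : α ≠ 0 := fun h => hα (h ▸ IsSquare.zero)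
  have hee : IsSquare (Bh (d (Fin.last n)) (d (Fin.last n)) * B (c (Fin.last n)) (c (Fin.last n))) :=
    ⟨s / (r * p), by field_simp; linear_combination hs⟩
  have heq : Bh (d (Fin.last n)) (d (Fin.last n)) = B (c (Fin.last n)) (c (Fin.last n)) := by
    rcases cl with a | a <;> rcases dl with e | e <;> rw [a, e] at hee ⊢ <;>
      first
        | exact absurd (by simpa using hee) hα
        | rfl
  let f : (Fin m ⊕ Fin m → F) ≃ₗ[F] V := d.equiv c (Equiv.refl _)
  have hf : B.compl₁₂ f.toLinearMap f.toLinearMap = Bh := by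
    refine LinearMap.ext_basis d d fun i j => ?_
    simp only [LinearMap.compl₁₂_apply, LinearEquiv.coe_coe, f, Module.Basis.equiv_apply,
      Equiv.refl_apply]
    rcases eq_or_ne i j with rfl | hij
    · rcases eq_or_ne i (Fin.last n) with rfl | hi
      · exact heq.symm
      · rw [cu i hi, du i hi]
    · rw [co i j hij, dO i j hij]
  let g : (Fin m → F) →ₗ[F] V := f.toLinearMap ∘ₗ
    { toFun := fun x => Sum.elim x 0
      map_add' := fun x y => funext fun i => by cases i <;> simp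
      map_smul' := fun a x => funext fun i => by cases i <;> simp }
  refine ⟨LinearMap.range g, ?_, ?_⟩
  · rw [LinearMap.finrank_range_of_inj, finrank_fin_fun]
    intro x y h
    funext i
    exact congrFun (f.injective h) (Sum.inl i)
  · rintro _ ⟨x, rfl⟩ _ ⟨y, rfl⟩
    have := LinearMap.congr_fun₂ hf (Sum.elim x 0) (Sum.elim y 0)
    simp only [LinearMap.compl₁₂_apply] at this
    exact this.trans (by simp [Bh, hyp_apply])

section Tensor

variable {U : Type*} {W : Type*} [AddCommGroup U] [Module F U] [FiniteDimensional F U]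
  [AddCommGroup W] [Module F W] [FiniteDimensional F W]

theorem tensor_det (B₁ : LinearMap.BilinForm F U) (B₂ : LinearMap.BilinForm F W) {a b : ℕ}
    (u : Basis (Fin a) F U) (w : Basis (Fin b) F W) :
    (LinearMap.toMatrix₂ (u.tensorProduct w) (u.tensorProduct w) (B₁.tmul B₂)).det =
      (LinearMap.toMatrix₂ u u B₁).det ^ b * (LinearMap.toMatrix₂ w w B₂).det ^ a := by
  have e : LinearMap.toMatrix₂ (u.tensorProduct w) (u.tensorProduct w) (B₁.tmul B₂) =
      LinearMap.toMatrix₂ u u B₁ ⊗ₖ LinearMap.toMatrix₂ w w B₂ := by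
    ext ⟨i, j⟩ ⟨i', j'⟩
    simp [LinearMap.toMatrix₂_apply, Matrix.kroneckerMap_apply, mul_comm]
  rw [e, Matrix.det_kronecker, Fintype.card_fin, Fintype.card_fin]

theorem tensor_setup (B₁ : LinearMap.BilinForm F U) (B₂ : LinearMap.BilinForm F W)
    (h₁ : B₁.Nondegenerate) (h₂ : B₂.Nondegenerate) (hS₁ : B₁.IsSymm) (hS₂ : B₂.IsSymm) :
    (∀ x y, B₁.tmul B₂ x y = B₁.tmul B₂ y x) ∧ ∀ v, (∀ w, B₁.tmul B₂ v w = 0) → v = 0 := by
  refine ⟨(LinearMap.IsSymm.tmul (B₁ := B₁) (B₂ := B₂) ⟨hS₁.eq⟩ ⟨hS₂.eq⟩).eq, (LinearMap.separatingLeft_iff_det_ne_zero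
    ((finBasis F U).tensorProduct (finBasis F W))).2 ?_⟩
  rw [tensor_det]
  exact mul_ne_zero (pow_ne_zero _ (det_ne_zero B₁ h₁.1 _)) (pow_ne_zero _ (det_ne_zero B₂ h₂.1 _))

theorem tensor_even [Finite F] (h2 : (2 : F) ≠ 0) (B₁ : LinearMap.BilinForm F U)
    (B₂ : LinearMap.BilinForm F W) (h₁ : B₁.Nondegenerate) (h₂ : B₂.Nondegenerate) (hS₁ : B₁.IsSymm)
    (hS₂ : B₂.IsSymm) (k l : ℕ) (hU : finrank F U = 2 * k) (hW : finrank F W = 2 * l) :
    ∃ X : Submodule F (U ⊗[F] W), finrank F X = 2 * k * l ∧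
      ∀ x ∈ X, ∀ y ∈ X, B₁.tmul B₂ x y = 0 := by
  obtain ⟨hS, hB⟩ := tensor_setup B₁ B₂ h₁ h₂ hS₁ hS₂
  refine (half_iff h2 _ hS hB (2 * k * l) (by rw [finrank_tensorProduct, hU, hW]; ring)
    ((finBasisOfFinrankEq F U hU).tensorProduct (finBasisOfFinrankEq F W hW))).2 ?_
  rw [tensor_det]
  refine IsSquare.mul ?_ (IsSquare.mul ?_ ?_) <;> refine Even.isSquare_pow ?_ _
  · exact ⟨k * l, by ring⟩
  · exact ⟨l, by ring⟩
  · exact ⟨k, by ring⟩

theorem tensor_odd [Finite F] (h2 : (2 : F) ≠ 0) (B₁ : LinearMap.BilinForm F U)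
    (B₂ : LinearMap.BilinForm F W) (h₁ : B₁.Nondegenerate) (h₂ : B₂.Nondegenerate) (hS₁ : B₁.IsSymm)
    (hS₂ : B₂.IsSymm) (k l : ℕ) (hU : finrank F U = 2 * k) (hW : finrank F W = 2 * l + 1)
    (hm₁ : ¬∃ X : Submodule F U, finrank F X = k ∧ ∀ x ∈ X, ∀ y ∈ X, B₁ x y = 0) :
    ¬∃ X : Submodule F (U ⊗[F] W), finrank F X = k * (2 * l + 1) ∧
      ∀ x ∈ X, ∀ y ∈ X, B₁.tmul B₂ x y = 0 := by
  obtain ⟨hS, hB⟩ := tensor_setup B₁ B₂ h₁ h₂ hS₁ hS₂
  rw [half_iff h2 B₁ hS₁.eq h₁.1 k hU (finBasisOfFinrankEq F U hU)] at hm₁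
  rw [half_iff h2 _ hS hB (k * (2 * l + 1)) (by rw [finrank_tensorProduct, hU, hW]; ring)
    ((finBasisOfFinrankEq F U hU).tensorProduct (finBasisOfFinrankEq F W hW)), tensor_det]
  intro h
  apply hm₁
  set D₁ := (LinearMap.toMatrix₂ (finBasisOfFinrankEq F U hU) (finBasisOfFinrankEq F U hU) B₁).det
  set D₂ := (LinearMap.toMatrix₂ (finBasisOfFinrankEq F W hW) (finBasisOfFinrankEq F W hW) B₂).det
  have hD₁ : D₁ ≠ 0 := det_ne_zero B₁ h₁.1 _
  have hD₂ : D₂ ≠ 0 := det_ne_zero B₂ h₂.1 _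
  obtain ⟨s, hs⟩ := h
  refine ⟨s / ((((-1 : F) ^ k) * D₁) ^ l * D₂ ^ k), ?_⟩
  have hne : ((-1 : F) ^ k * D₁) ^ l * D₂ ^ k ≠ 0 :=
    mul_ne_zero (pow_ne_zero _ (mul_ne_zero (pow_ne_zero _ (neg_ne_zero.2 one_ne_zero)) hD₁))
      (pow_ne_zero _ hD₂)
  rw [div_mul_div_comm, eq_div_iff (mul_ne_zero hne hne), ← hs]
  ring

end Tensor

end CfsgLib.Classical.SymmDisc
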