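import Cfsg.Agent.Lib.Classical.OrthModels
import Cfsg.Agent.Lib.Classical.OrthDisc
import Cfsg.Agent.Lib.Classical.OrthNondegMax
import Cfsg.Agent.Lib.Classical.SymmDisc
import Cfsg.Agent.Lib.Classical.SumSquares

set_option autoImplicit false
set_option linter.unusedSectionVars false

/-!
Plus and minus type: orthogonal sums, frames and discriminants.
-/

namespace CfsgLib.Asch.OrthTypes

open Cfsg.Geo (IsPlusTypeOn IsTotallySingularQuad AreIsometricFor IsOrthogonalMDecomposition)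
open CfsgLib.Orth (Nondeg NondegOn b_comm b_add_left b_add_right b_smul_left b_smul_right q_add q_smul)
open CfsgLib.Classical.OrthModels (Iso add)

variable {F : Type*} [Field F] [Fintype F] {n : ℕ} {Q : QuadraticForm F (Fin n → F)}

local notation "B" => QuadraticMap.polar (DFunLike.coe Q)

/-- The restriction of the form. -/
def rest (Q : QuadraticForm F (Fin n → F)) (W : Submodule F (Fin n → F)) : W → F := fun w => Q (w : Fin n → F)

theorem rest_eq (W : Submodule F (Fin n → F)) : ⇑(Q.comp W.subtype) = rest Q W := rfl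

theorem rest_nondeg {W : Submodule F (Fin n → F)} (hW : NondegOn Q W) :
    (QuadraticMap.polarBilin (Q.comp W.subtype)).Nondegenerate := by
  have h : ∀ x : W, (∀ y : W, QuadraticMap.polarBilin (Q.comp W.subtype) x y = 0) → x = 0 := fun x hx =>
    Subtype.ext (hW x x.2 fun y hy => by
      have := hx ⟨y, hy⟩
      simpa [QuadraticMap.polar] using this)
  refine ⟨h, fun x hx => h x fun y => ?_⟩
  have := hx y
  simpa [QuadraticMap.polar_comm] using this

/-- A non-degenerate subspace of odd dimension forces odd characteristic. -/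
theorem two_ne_zero_of_odd_finrank {W : Submodule F (Fin n → F)} (hW : NondegOn Q W)
    (ho : Odd (Module.finrank F W)) : (2 : F) ≠ 0 := by
  intro h2
  obtain ⟨m, b, -⟩ := CfsgLib.Forms.exists_symplectic_basis_nondeg (QuadraticMap.polarBilin (Q.comp W.subtype))
    (fun x => by
      show QuadraticMap.polar (⇑(Q.comp W.subtype)) x x = 0
      rw [QuadraticMap.polar_self, nsmul_eq_mul, Nat.cast_ofNat, h2, zero_mul])
    (rest_nondeg hW).1
  rw [Module.finrank_eq_card_basis b, Fintype.card_sum, Fintype.card_fin] at ho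
  exact (Nat.not_even_iff_odd.2 ho) ⟨m, rfl⟩

theorem plus_iff_exists {W : Submodule F (Fin n → F)} :
    IsPlusTypeOn ⇑Q W ↔ ∃ X : Submodule F W, (∀ x ∈ X, rest Q W x = 0) ∧
      2 * Module.finrank F X = Module.finrank F W := by
  constructor
  · rintro ⟨U, hUW, hU, hd⟩
    refine ⟨U.comap W.subtype, fun x hx => hU _ hx, ?_⟩
    rw [(Submodule.comapSubtypeEquivOfLe hUW).finrank_eq, hd]
  · rintro ⟨X, hX, hd⟩
    refine ⟨X.map W.subtype, Submodule.map_subtype_le W X, ?_, ?_⟩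
    · rintro _ ⟨x, hx, rfl⟩
      exact hX x hx
    · rw [Submodule.finrank_map_subtype_eq, hd]

/-- The plus model has plus type. -/
theorem plus_of_iso {W : Submodule F (Fin n → F)} {k : ℕ} (h : Iso (rest Q W) (Cfsg.quadFormPlus k F)) :
    IsPlusTypeOn ⇑Q W := by
  obtain ⟨e, he⟩ := h
  have hd : Module.finrank F W = k + k := by
    rw [e.finrank_eq, Module.finrank_pi, Fintype.card_sum, Fintype.card_fin]
  let f : (Fin k → F) →ₗ[F] W :=
    e.symm.toLinearMap ∘ₗ
      { toFun := fun x => Sum.elim x 0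
        map_add' := fun x y => funext fun j => by rcases j with j | j <;> simp
        map_smul' := fun c x => funext fun j => by rcases j with j | j <;> simp }
  have hf : Function.Injective f := fun x y hxy => funext fun i => congrFun (e.symm.injective hxy) (.inl i)
  refine plus_iff_exists.2 ⟨LinearMap.range f, ?_, ?_⟩
  · rintro _ ⟨x, rfl⟩
    rw [← he]
    simp [f, Cfsg.quadFormPlus]
  · rw [LinearMap.finrank_range_of_inj hf, Module.finrank_fin_fun, hd, two_mul]

/-- The minus model does not have plus type. -/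
theorem not_plus_of_iso {W : Submodule F (Fin n → F)} {k : ℕ} {a b : F}
    (hab : ∀ z₁ z₂ : F, z₁ ^ 2 + a * z₁ * z₂ + b * z₂ ^ 2 = 0 → z₁ = 0 ∧ z₂ = 0)
    (h : Iso (rest Q W) (Cfsg.quadFormMinus k F a b)) : ¬ IsPlusTypeOn ⇑Q W := by
  classical
  intro hp
  obtain ⟨X, hX, hd⟩ := plus_iff_exists.1 hp
  obtain ⟨e, he⟩ := h
  obtain ⟨Qm, hQm, hBm⟩ := CfsgLib.Orth.exists_quadForm_minus k hab
  refine CfsgLib.Orth.minus_no_half k hab hQm hBm (X.map e.toLinearMap) ⟨?_, ?_⟩
  · rintro _ ⟨x, hx, rfl⟩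
    rw [hQm]
    exact (he x).trans (hX x hx)
  · rw [LinearEquiv.finrank_map_eq, hd, e.finrank_eq]

/-- The two types. -/
theorem type_cases {W : Submodule F (Fin n → F)} (hW : NondegOn Q W) {k : ℕ} (hd : Module.finrank F W = 2 * k)
    {a b : F} (hab : ∀ z₁ z₂ : F, z₁ ^ 2 + a * z₁ * z₂ + b * z₂ ^ 2 = 0 → z₁ = 0 ∧ z₂ = 0) :
    (IsPlusTypeOn ⇑Q W ∧ Iso (rest Q W) (Cfsg.quadFormPlus k F)) ∨
      (¬ IsPlusTypeOn ⇑Q W ∧ ∃ j, k = j + 1 ∧ Iso (rest Q W) (Cfsg.quadFormMinus j F a b)) := by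
  rcases CfsgLib.Classical.OrthModels.classify_even (Q.comp W.subtype) (rest_nondeg hW) hd a b hab with h | ⟨j, hj, h⟩
  · exact Or.inl ⟨plus_of_iso (rest_eq W ▸ h), rest_eq W ▸ h⟩
  · exact Or.inr ⟨not_plus_of_iso hab (rest_eq W ▸ h), j, hj, rest_eq W ▸ h⟩

theorem finrank_sup {U W : Submodule F (Fin n → F)} (hU : NondegOn Q U)
    (hperp : ∀ u ∈ U, ∀ w ∈ W, B u w = 0) :
    Module.finrank F ↥(U ⊔ W) = Module.finrank F U + Module.finrank F W := by
  have h := Submodule.finrank_sup_add_finrank_inf_eq U W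
  rwa [(Submodule.eq_bot_iff (U ⊓ W)).2 fun x hx => hU x hx.1 fun y hy => by rw [b_comm]; exact hperp y hy x hx.2,
    finrank_bot, add_zero] at h

theorem nondegOn_sup {U W : Submodule F (Fin n → F)} (hU : NondegOn Q U) (hW : NondegOn Q W)
    (hperp : ∀ u ∈ U, ∀ w ∈ W, B u w = 0) : NondegOn Q (U ⊔ W) := by
  intro x hx h
  obtain ⟨u, hu, w, hw, rfl⟩ := Submodule.mem_sup.1 hx
  have hu0 : u = 0 := hU u hu fun y hy => by
    have := h y (Submodule.mem_sup_left hy)
    rwa [b_add_left, b_comm w, hperp y hy w hw, add_zero] at this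
  have hw0 : w = 0 := hW w hw fun y hy => by
    have := h y (Submodule.mem_sup_right hy)
    rwa [b_add_left, hperp u hu y hy, zero_add] at this
  rw [hu0, hw0, add_zero]

theorem iso_sup {U W : Submodule F (Fin n → F)} (hU : NondegOn Q U) (hperp : ∀ u ∈ U, ∀ w ∈ W, B u w = 0) :
    Iso (add (rest Q U) (rest Q W)) (rest Q (U ⊔ W)) := by
  let l : U × W →ₗ[F] ↥(U ⊔ W) :=
    { toFun := fun x => ⟨x.1 + x.2, Submodule.add_mem_sup x.1.2 x.2.2⟩
      map_add' := fun x y => Subtype.ext (by simp; abel)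
      map_smul' := fun c x => Subtype.ext (by simp) }
  refine CfsgLib.Classical.OrthModels.iso_of_injective l (fun x hx => ?_)
    (by rw [Module.finrank_prod, finrank_sup hU hperp]) (fun x => ?_)
  · have e : (x.1 : Fin n → F) + x.2 = 0 := congrArg Subtype.val hx
    have h1 : (x.1 : Fin n → F) = 0 := hU _ x.1.2 fun y hy => by
      rw [eq_neg_of_add_eq_zero_left e, b_comm, ← neg_one_smul F (x.2 : Fin n → F), b_smul_right,
        hperp y hy _ x.2.2, mul_zero]
    rw [h1, zero_add] at e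
    exact Prod.ext (Subtype.ext h1) (Subtype.ext e)
  · show Q ((x.1 : Fin n → F) + x.2) = Q x.1 + Q x.2
    rw [q_add, hperp _ x.1.2 _ x.2.2, add_zero]

/-- The type of an orthogonal sum. -/
theorem plus_sup_iff {U W : Submodule F (Fin n → F)} (hU : NondegOn Q U) (hW : NondegOn Q W)
    (hperp : ∀ u ∈ U, ∀ w ∈ W, B u w = 0) (heU : Even (Module.finrank F U)) (heW : Even (Module.finrank F W)) :
    IsPlusTypeOn ⇑Q (U ⊔ W) ↔ (IsPlusTypeOn ⇑Q U ↔ IsPlusTypeOn ⇑Q W) := by
  obtain ⟨a, b, hab⟩ := CfsgLib.Classical.RestrictScalars.exists_ab (F := F)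
  obtain ⟨k, hk⟩ := even_iff_two_dvd.1 heU
  obtain ⟨l, hl⟩ := even_iff_two_dvd.1 heW
  have h := (iso_sup hU hperp).symm
  rcases type_cases hU hk hab with ⟨hp, iU⟩ | ⟨hp, j, -, iU⟩ <;>
    rcases type_cases hW hl hab with ⟨hq, iW⟩ | ⟨hq, j', -, iW⟩
  · exact iff_of_true (plus_of_iso (h.trans ((iU.sum iW).trans (CfsgLib.Classical.OrthModels.plus_plus k l))))
      (iff_of_true hp hq)
  · exact iff_of_false (not_plus_of_iso hab
      (h.trans ((iU.sum iW).trans (CfsgLib.Classical.OrthModels.plus_minus k j' a b)))) fun e => hq (e.1 hp)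
  · exact iff_of_false (not_plus_of_iso hab (h.trans ((iU.sum iW).trans
      ((CfsgLib.Classical.OrthModels.Iso.sum_comm _ _).trans
        (CfsgLib.Classical.OrthModels.plus_minus l j a b))))) fun e => hp (e.2 hq)
  · exact iff_of_true (plus_of_iso (h.trans ((iU.sum iW).trans
      (CfsgLib.Classical.OrthModels.minus_minus j j' a b hab)))) (iff_of_false hp hq)

/-- The type of the whole space from a non-degenerate subspace and its perpendicular. -/
theorem plus_top_iff (hB : Nondeg Q) {W : Submodule F (Fin n → F)} (hW : NondegOn Q W)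
    (hn : Even n) (he : Even (Module.finrank F W)) :
    IsPlusTypeOn ⇑Q ⊤ ↔ (IsPlusTypeOn ⇑Q W ↔ IsPlusTypeOn ⇑Q (CfsgLib.Orth.orth Q W)) := by
  have h := CfsgLib.Orth.finrank_orth hB W
  rw [Module.finrank_fin_fun] at h
  rw [← CfsgLib.Orth.sup_orth_eq_top hB hW]
  refine plus_sup_iff hW (CfsgLib.Orth.nondegOn_orth hB hW)
    (fun u hu w hw => CfsgLib.Orth.mem_orth.1 hw u hu) he ?_
  rw [← h, Nat.even_add] at hn
  exact hn.1 he

theorem plus_bot : IsPlusTypeOn ⇑Q (⊥ : Submodule F (Fin n → F)) :=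
  ⟨⊥, le_rfl, fun w hw => by rw [(Submodule.mem_bot F).1 hw, QuadraticMap.map_zero], by simp⟩

theorem plus_isometric {U W : Submodule F (Fin n → F)} (h : AreIsometricFor ⇑Q U W) (hp : IsPlusTypeOn ⇑Q U) :
    IsPlusTypeOn ⇑Q W := by
  obtain ⟨e, he⟩ := h
  obtain ⟨X, hX, hd⟩ := plus_iff_exists.1 hp
  refine plus_iff_exists.2 ⟨X.map e.toLinearMap, ?_, by rw [LinearEquiv.finrank_map_eq, hd, e.finrank_eq]⟩
  rintro _ ⟨x, hx, rfl⟩
  exact (he x).trans (hX x hx)

theorem nondegOn_of_decomp {t k : ℕ} {D : Fin t → Submodule F (Fin n → F)}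
    (hD : IsOrthogonalMDecomposition ⇑Q k D) (i : Fin t) : NondegOn Q (D i) :=
  CfsgLib.Orth.nondegOn_of (hD.decomp.nondegenerate i)

/-- The type of a sum of isometric parts of even dimension. -/
theorem parts_plus_iff {t k : ℕ} {D : Fin t → Submodule F (Fin n → F)} (hD : IsOrthogonalMDecomposition ⇑Q k D)
    (hk : Even k) (i₀ : Fin t) :
    IsPlusTypeOn ⇑Q ⊤ ↔ (IsPlusTypeOn ⇑Q (D i₀) ∨ Even t) := by
  classical
  have key : ∀ s : Finset (Fin t), NondegOn Q (⨆ i ∈ s, D i) ∧ Even (Module.finrank F ↥(⨆ i ∈ s, D i)) ∧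
      (IsPlusTypeOn ⇑Q (⨆ i ∈ s, D i) ↔ (IsPlusTypeOn ⇑Q (D i₀) ∨ Even s.card)) := by
    intro s
    induction s using Finset.induction_on with
    | empty =>
      have e : (⨆ i ∈ (∅ : Finset (Fin t)), D i) = ⊥ := by simp
      rw [e]
      refine ⟨fun x hx _ => (Submodule.mem_bot F).1 hx, by simp, iff_of_true plus_bot (Or.inr (by simp))⟩
    | @insert a s ha ih =>
      obtain ⟨h1, h2, h3⟩ := ih
      rw [Finset.iSup_insert]
      have hperp : ∀ u ∈ D a, ∀ w ∈ ⨆ i ∈ s, D i, B u w = 0 := fun u hu w hw => by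
        have hle : (⨆ i ∈ s, D i) ≤ LinearMap.ker (QuadraticMap.polarBilin Q u) :=
          iSup₂_le fun i hi v hv => LinearMap.mem_ker.2 (by
            show B u v = 0
            exact hD.decomp.orthogonal a i (fun e => ha (e ▸ hi)) u hu v hv)
        exact LinearMap.mem_ker.1 (hle hw)
      have hka : Even (Module.finrank F (D a)) := by rw [hD.decomp.decomp.finrank_eq]; exact hk
      refine ⟨nondegOn_sup (nondegOn_of_decomp hD a) h1 hperp, ?_, ?_⟩
      · rw [finrank_sup (nondegOn_of_decomp hD a) hperp]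
        exact hka.add h2
      · rw [plus_sup_iff (nondegOn_of_decomp hD a) h1 hperp hka h2, Finset.card_insert_of_notMem ha,
          Nat.even_add_one, h3]
        have hi : IsPlusTypeOn ⇑Q (D a) ↔ IsPlusTypeOn ⇑Q (D i₀) :=
          ⟨plus_isometric (hD.isometric a i₀), plus_isometric (hD.isometric i₀ a)⟩
        rw [hi]
        tauto
  have h := (key Finset.univ).2.2
  rw [show (⨆ i ∈ (Finset.univ : Finset (Fin t)), D i) = ⊤ by simp [hD.decomp.decomp.iSup_eq_top],
    Finset.card_univ, Fintype.card_fin] at h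
  exact h

/-! ### Frames -/

/-- Plus type in odd characteristic from an orthogonal frame. -/
theorem plus_iff_frame (hB : Nondeg Q) (h2 : (2 : F) ≠ 0) {m : ℕ} (hn : n = 2 * m) {κ : Type*} [Fintype κ]
    [Nonempty κ] (hcard : Fintype.card κ = n) (e : κ → Fin n → F) (he : ∀ i, Q (e i) ≠ 0)
    (hp : ∀ i j, i ≠ j → B (e i) (e j) = 0) :
    IsPlusTypeOn ⇑Q ⊤ ↔ IsSquare ((-1 : F) ^ m * ∏ i, Q (e i)) := by
  classical
  have hfin : Module.finrank F (Fin n → F) = n := Module.finrank_fin_fun F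
  have hhalf := CfsgLib.Classical.SymmDisc.half_iff h2 (QuadraticMap.polarBilin Q)
    (fun x y => QuadraticMap.polar_comm _ x y) hB m (by rw [hfin, hn]) (Pi.basisFun F (Fin n))
  have hdet : LinearMap.toMatrix₂ (Pi.basisFun F (Fin n)) (Pi.basisFun F (Fin n)) (QuadraticMap.polarBilin Q) =
      Matrix.of fun i j => B (Pi.basisFun F (Fin n) i) (Pi.basisFun F (Fin n) j) := by
    ext i j
    simp [LinearMap.toMatrix₂_apply]
  have hd0 := CfsgLib.Classical.SymmDisc.det_ne_zero (QuadraticMap.polarBilin Q) hB (Pi.basisFun F (Fin n))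
  have hsq := CfsgLib.Orth.isSquare_det_gram h2 (hcard.trans hfin.symm) (by rw [hcard, hn]; exact even_two_mul m)
    e he hp (Pi.basisFun F (Fin n))
  rw [← hdet] at hsq
  have hprod : (∏ i, Q (e i)) ≠ 0 := Finset.prod_ne_zero_iff.2 fun i _ => he i
  have hone : ((-1 : F) ^ m) ≠ 0 := pow_ne_zero _ (neg_ne_zero.2 one_ne_zero)
  have key : IsPlusTypeOn ⇑Q ⊤ ↔
      ∃ X : Submodule F (Fin n → F), Module.finrank F X = m ∧ ∀ x ∈ X, ∀ y ∈ X, B x y = 0 := by
    constructor
    · rintro ⟨U, -, hU, hd⟩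
      rw [finrank_top, hfin] at hd
      exact ⟨U, by omega, fun x hx y hy => CfsgLib.Orth.mem_orth.1 (CfsgLib.Orth.le_orth_of_singular hU hy) x hx⟩
    · rintro ⟨X, hd, hX⟩
      refine ⟨X, le_top, fun x hx => ?_, by rw [finrank_top, hfin]; omega⟩
      have := hX x hx x hx
      rw [CfsgLib.Orth.b_self] at this
      exact (mul_eq_zero.1 this).resolve_left h2
  rw [key]
  refine hhalf.trans ?_
  have hc : ∀ a b : F, a ≠ 0 → b ≠ 0 → (IsSquare (a * b) ↔ (IsSquare a ↔ IsSquare b)) := fun a b ha hb => by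
    constructor
    · intro h
      exact ⟨fun h' => by
          have := h.mul (isSquare_inv.2 h')
          rwa [mul_comm a b, mul_inv_cancel_right₀ ha] at this,
        fun h' => by
          have := h.mul (isSquare_inv.2 h')
          rwa [mul_inv_cancel_right₀ hb] at this⟩
    · intro h
      by_cases hs : IsSquare a
      · exact hs.mul (h.1 hs)
      · exact CfsgLib.Forms.isSquare_mul_of_not hs fun hb' => hs (h.2 hb')
  rw [hc _ _ hone hd0, hc _ _ hone hprod, hsq]

theorem exists_frame (h2 : (2 : F) ≠ 0) {W : Submodule F (Fin n → F)} (hW : NondegOn Q W) {k : ℕ}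
    (hk : Module.finrank F W = k) :
    ∃ v : Fin k → Fin n → F, (∀ i, v i ∈ W) ∧ (∀ i, Q (v i) ≠ 0) ∧ ∀ i j, i ≠ j → B (v i) (v j) = 0 := by
  haveI : Invertible (2 : F) := invertibleOfNonzero h2
  let Bl : LinearMap.BilinForm F W := QuadraticMap.polarBilin (Q.comp W.subtype)
  have hs : LinearMap.IsSymm Bl := ⟨fun x y => by simp [Bl, QuadraticMap.polar_comm]⟩
  obtain ⟨v, hv⟩ := LinearMap.BilinForm.exists_orthogonal_basis hs
  let v' := v.reindex (finCongr hk)
  have hperp : ∀ i j, i ≠ j → B (v' i : Fin n → F) (v' j) = 0 := fun i j hij => by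
    have := hv ((finCongr hk).symm.injective.ne hij)
    simpa [Function.onFun, LinearMap.IsOrtho, QuadraticMap.polar, v', Bl] using this
  refine ⟨fun i => (v' i : Fin n → F), fun i => (v' i).2, fun i h0 => v'.ne_zero i (Subtype.ext ?_), hperp⟩
  refine hW _ (v' i).2 fun y hy => ?_
  rw [← Subtype.coe_mk (p := (· ∈ W)) y hy, ← v'.sum_repr ⟨y, hy⟩, Submodule.coe_sum,
    ← QuadraticMap.polarBilin_apply_apply, map_sum]
  refine Finset.sum_eq_zero fun j _ => ?_
  rw [Submodule.coe_smul, map_smul, QuadraticMap.polarBilin_apply_apply]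
  by_cases hij : i = j
  · subst hij
    rw [CfsgLib.Orth.b_self, h0, mul_zero, smul_zero]
  · rw [hperp i j hij, smul_zero]

/-- An even number of isometric parts in odd characteristic. -/
theorem parts_disc (hB : Nondeg Q) (h2 : (2 : F) ≠ 0) {m : ℕ} (hn : n = 2 * m) {t k : ℕ}
    {D : Fin t → Submodule F (Fin n → F)} (htk : t * k = n) (ht : Even t)
    (hD : IsOrthogonalMDecomposition ⇑Q k D) :
    IsPlusTypeOn ⇑Q ⊤ ↔ IsSquare ((-1 : F) ^ m) := by
  classical
  have ht2 := hD.decomp.decomp.two_le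
  have hk0 := hD.decomp.decomp.pos
  let i₀ : Fin t := ⟨0, by omega⟩
  obtain ⟨v, hv, hv0, hvp⟩ := exists_frame h2 (nondegOn_of_decomp hD i₀) (hD.decomp.decomp.finrank_eq i₀)
  choose f hf using fun i => hD.isometric i₀ i
  let e : Fin t × Fin k → Fin n → F := fun p => (f p.1 ⟨v p.2, hv p.2⟩ : Fin n → F)
  have heq : ∀ p, Q (e p) = Q (v p.2) := fun p => hf p.1 ⟨v p.2, hv p.2⟩
  haveI : Nonempty (Fin t × Fin k) := ⟨(i₀, ⟨0, hk0⟩)⟩
  rw [plus_iff_frame hB h2 hn (by simp [htk]) e (fun p => by rw [heq]; exact hv0 p.2) ?_]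
  swap
  · rintro ⟨i, l⟩ ⟨i', l'⟩ hne
    by_cases hi : i = i'
    · subst hi
      have hl : l ≠ l' := fun h => hne (by rw [h])
      show B (f i ⟨v l, hv l⟩ : Fin n → F) (f i ⟨v l', hv l'⟩) = 0
      refine Eq.trans ?_ (hvp l l' hl)
      unfold QuadraticMap.polar
      rw [hf, hf, ← Submodule.coe_add, ← map_add, hf]
      rfl
    · exact hD.decomp.orthogonal i i' hi _ (f i _).2 _ (f i' _).2
  have hP : ∏ p : Fin t × Fin k, Q (e p) = (∏ l, Q (v l)) ^ t := by
    rw [Fintype.prod_prod_type]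
    simp [heq]
  rw [hP]
  obtain ⟨s, rfl⟩ := ht
  have hne : (∏ l, Q (v l)) ^ (s + s) ≠ 0 := pow_ne_zero _ (Finset.prod_ne_zero_iff.2 fun i _ => hv0 i)
  refine ⟨fun h => ?_, fun h => h.mul ⟨(∏ l, Q (v l)) ^ s, pow_add _ _ _⟩⟩
  simpa [hne] using h.mul (isSquare_inv.2 (⟨(∏ l, Q (v l)) ^ s, pow_add _ _ _⟩ : IsSquare ((∏ l, Q (v l)) ^ (s + s))))

end CfsgLib.Asch.OrthTypes
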