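import Cfsg.Agent.Lib.Classical.AschOrth
import Cfsg.Agent.Lib.Classical.OrthTypes

set_option autoImplicit false
set_option linter.unusedSectionVars false

/-!
Orthogonal spaces of even dimension: the type and the classes that force it.
-/

namespace CfsgLib.Asch.OrthEven

open Matrix
open Cfsg.Geo (IsPlusTypeOn IsTotallySingularQuad IsFieldSubalgebra omegaGL subspaceStabilizer)
open CfsgLib.Orth (Nondeg NondegOn b_comm b_add_left b_add_right b_smul_left b_smul_right b_zero_left b_zero_right
  b_self q_add q_smul)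
open CfsgLib.Asch.OrthTypes
open scoped MatrixGroups Kronecker

variable {F : Type*} [Field F] [Fintype F] {n : ℕ} {Q : QuadraticForm F (Fin n → F)}

local notation "B" => QuadraticMap.polar (DFunLike.coe Q)
local notation "τ₁" => RingEquiv.refl F

theorem hasHalf_iff : HasHalf Q ↔ IsPlusTypeOn ⇑Q ⊤ := by
  unfold HasHalf IsPlusTypeOn
  simp [finrank_top]

/-- A form as in the statements is a quadratic map. -/
theorem exists_quad {Q : (Fin n → F) → F} (hQ : Cfsg.Geo.IsNondegenerateQuadraticForm Q) :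
    ∃ Q' : QuadraticForm F (Fin n → F), ⇑Q' = Q ∧ Nondeg Q' := by
  refine ⟨QuadraticMap.ofPolar Q (fun c x => by rw [hQ.smul, smul_eq_mul, pow_two])
    (fun x y z => hQ.polar_bilinear.add_left x y z)
    (fun c x y => hQ.polar_bilinear.smul_left c x y), rfl, fun x hx => ?_⟩
  by_contra h0
  obtain ⟨y, hy⟩ := (hQ.nondegenerate x h0).2
  exact hy (hx y)

/-- The stabiliser of a subspace one short of a half fixes a half, in plus type. -/
theorem submax (hB : Nondeg Q) (hn : 5 ≤ n) (hplus : IsPlusTypeOn ⇑Q ⊤) {H : Subgroup (GL (Fin n) F)}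
    (hH : H ≤ omegaGL ⇑Q) {W : Submodule F (Fin n → F)} (hW : IsTotallySingularQuad ⇑Q W)
    (hd : 2 * (Module.finrank F W + 1) = n) (hle : H ≤ subspaceStabilizer W) :
    ∃ U : Submodule F (Fin n → F), IsTotallySingularQuad ⇑Q U ∧ 2 * Module.finrank F U = n ∧
      H ≤ subspaceStabilizer U := by
  obtain ⟨U₀, -, hU₀, hU₀d⟩ := hplus
  rw [finrank_top] at hU₀d
  obtain ⟨U, hU, hWU⟩ := CfsgLib.Orth.exists_half_ge hB (U₀ := U₀) ⟨hU₀, hU₀d⟩ hW
  have hUd : 2 * Module.finrank F U = n := hU.2.trans (Module.finrank_fin_fun F)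
  refine ⟨U, hU.1, hUd, fun g hg => ?_⟩
  obtain ⟨g', hg', rfl⟩ := hH hg
  have hfin : 5 ≤ Module.finrank F (Fin n → F) := by rwa [Module.finrank_fin_fun]
  have hgE : g' ∈ CfsgLib.Orth.El Q := CfsgLib.Orth.omega_eq_El hB hfin ▸ hg'
  have hle' : W ≤ U ⊓ CfsgLib.Orth.img g' U := fun x hx => ⟨hWU hx, CfsgLib.Orth.mem_img.2 (hWU (by
    have := ((hle hg) (CfsgLib.Orth.ap g'⁻¹ x)).2 (by
      show CfsgLib.Orth.ap g' (CfsgLib.Orth.ap g'⁻¹ x) ∈ W
      rwa [CfsgLib.Orth.ap_ap_inv])
    exact this))⟩
  have h1 := Submodule.finrank_mono hle'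
  have h2 := Submodule.finrank_mono (inf_le_left : U ⊓ CfsgLib.Orth.img g' U ≤ U)
  obtain ⟨k, hk⟩ := CfsgLib.Orth.even_inf_img hB hU hgE
  have heq := Submodule.eq_of_le_of_finrank_eq (inf_le_left : U ⊓ CfsgLib.Orth.img g' U ≤ U) (by omega)
  have h3 : CfsgLib.Orth.img g' U = U :=
    (Submodule.eq_of_le_of_finrank_eq (inf_eq_left.1 heq) (CfsgLib.Orth.finrank_img g' U).symm).symm
  exact CfsgLib.Orth.mem_stab.2 fun x => ⟨fun hx => h3 ▸ CfsgLib.Orth.ap_mem_img g' hx,
    fun hx => by
      rw [← h3, CfsgLib.Orth.mem_img, CfsgLib.Orth.ap_inv_ap] at hx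
      exact hx⟩

/-! ### Quadratic fields of similitudes -/

/-- A non-degenerate subspace invariant under a quadratic field of similitudes has plus type exactly when half its
dimension is even. -/
theorem conj_plus_iff (hB : Nondeg Q) {K : Subalgebra F (Matrix (Fin n) (Fin n) F)} (hK : IsFieldSubalgebra 2 K)
    (hsim : ∀ k ∈ K, ∃ c : F, ∀ v, Q (k *ᵥ v) = c * Q v) :
    ∀ (j : ℕ) (W : Submodule F (Fin n → F)), NondegOn Q W → Module.finrank F W = 2 * j →
      (∀ k ∈ K, ∀ w ∈ W, k *ᵥ w ∈ W) → (IsPlusTypeOn ⇑Q W ↔ Even j) := by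
  classical
  intro j
  induction j with
  | zero =>
    intro W _ hd _
    obtain rfl : W = ⊥ := Submodule.finrank_eq_zero.1 (by simpa using hd)
    exact iff_of_true plus_bot ⟨0, rfl⟩
  | succ j ih =>
    intro W hW hd hinv
    obtain ⟨v, hv, hQv⟩ : ∃ v ∈ W, Q v ≠ 0 := by
      by_contra hc
      push Not at hc
      have : W = ⊥ := (Submodule.eq_bot_iff W).2 fun x hx => hW x hx fun y hy => by
        rw [QuadraticMap.polar, hc _ (W.add_mem hx hy), hc x hx, hc y hy]; simp
      rw [this, finrank_bot] at hd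
      omega
    choose c hc using hsim
    have hv0 : v ≠ 0 := fun e => hQv (by rw [e, QuadraticMap.map_zero])
    -- the multipliers
    have hc1 : ∀ k (hk : k ∈ K), k ≠ 0 → c k hk ≠ 0 := by
      intro k hk hk0 e
      obtain ⟨y, hy, hky⟩ := hK.inv k hk hk0
      have h := hc k hk (y *ᵥ v)
      rw [mulVec_mulVec, hky, one_mulVec, e, zero_mul] at h
      exact hQv h
    have hpol : ∀ k (hk : k ∈ K) x y, B (k *ᵥ x) (k *ᵥ y) = c k hk * B x y := fun k hk x y => by
      simp only [QuadraticMap.polar, ← mulVec_add, hc k hk]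
      ring
    let f : K →ₗ[F] (Fin n → F) :=
      { toFun := fun k => k.1 *ᵥ v
        map_add' := fun a b => add_mulVec _ _ _
        map_smul' := fun r a => smul_mulVec _ _ _ }
    have hf : Function.Injective f := by
      rw [injective_iff_map_eq_zero]
      intro k hk
      by_contra h0
      have h := hc k.1 k.2 v
      rw [show k.1 *ᵥ v = 0 from hk, QuadraticMap.map_zero] at h
      exact mul_ne_zero (hc1 _ k.2 fun e => h0 (Subtype.ext e)) hQv h.symm
    let P := LinearMap.range f
    have hPd : Module.finrank F P = 2 := by rw [LinearMap.finrank_range_of_inj hf, hK.finrank_eq]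
    have hPW : P ≤ W := by
      rintro _ ⟨k, rfl⟩
      exact hinv _ k.2 v hv
    -- the plane is non-degenerate
    obtain ⟨k₀, hk₀, hk₀v⟩ : ∃ k ∈ K, B v (k *ᵥ v) ≠ 0 := by
      by_contra hcon
      push Not at hcon
      have hadd : ∀ a (ha : a ∈ K) b (hb : b ∈ K), c (a + b) (add_mem ha hb) = c a ha + c b hb := by
        intro a ha b hb
        refine mul_right_cancel₀ hQv ?_
        rw [← hc, add_mulVec, q_add, hc a ha, hc b hb, add_mul]
        by_cases ha0 : a = 0
        · have e : a *ᵥ v = 0 := by simp [ha0]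
          rw [e, b_zero_left, add_zero]
        obtain ⟨y, hy, hay⟩ := hK.inv a ha ha0
        have e : b *ᵥ v = a *ᵥ ((y * b) *ᵥ v) := by rw [mulVec_mulVec, ← mul_assoc, hay, one_mul]
        rw [e, hpol a ha, hcon _ (mul_mem hy hb), mul_zero, add_zero]
      have hmul : ∀ a (ha : a ∈ K) b (hb : b ∈ K), c (a * b) (mul_mem ha hb) = c a ha * c b hb := by
        intro a ha b hb
        refine mul_right_cancel₀ hQv ?_
        rw [← hc, ← mulVec_mulVec, hc a ha, hc b hb, mul_assoc]
      let χ : K → F := fun k => c k.1 k.2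
      have hχ : Function.Injective χ := by
        intro a b hab
        by_contra hne
        have h := hadd (a - b : K).1 (a - b).2 b.1 b.2
        have e : ((a - b : K) : Matrix (Fin n) (Fin n) F) + b = a := by simp
        have hne' : ((a - b : K) : Matrix (Fin n) (Fin n) F) ≠ 0 := fun e0 =>
          hne (sub_eq_zero.1 (Subtype.ext e0))
        refine hc1 _ (a - b).2 hne' ?_
        have h' : χ a = c _ (a - b).2 + χ b := by
          simp only [χ]
          rw [← h]
          congr 1
          exact e.symm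
        rw [hab] at h'
        simpa using h'
      haveI : Finite K := Finite.of_injective _ Subtype.val_injective
      have h1 := Nat.card_le_card_of_injective χ hχ
      rw [Module.natCard_eq_pow_finrank (K := F) (V := K), hK.finrank_eq, Nat.card_eq_fintype_card] at h1
      have h2 := Fintype.one_lt_card (α := F)
      nlinarith
    have hPnd : NondegOn Q P := by
      rintro _ ⟨k, rfl⟩ hperp
      by_contra hne
      have hk0 : k.1 ≠ 0 := fun e => hne (by show k.1 *ᵥ v = 0; rw [e, zero_mulVec])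
      have h := hperp _ ⟨⟨k.1 * k₀, mul_mem k.2 hk₀⟩, rfl⟩
      change B (k.1 *ᵥ v) ((k.1 * k₀) *ᵥ v) = 0 at h
      rw [← mulVec_mulVec, hpol _ k.2] at h
      exact hk₀v ((mul_eq_zero.1 h).resolve_left (hc1 _ k.2 hk0))
    have hPaniso : ¬ IsPlusTypeOn ⇑Q P := by
      rintro ⟨U, hUP, hU, hUd⟩
      rw [hPd] at hUd
      obtain ⟨x, hx, hx0⟩ := Submodule.exists_mem_ne_zero_of_ne_bot (p := U) fun e => by
        rw [e, finrank_bot] at hUd; omega
      obtain ⟨k, rfl⟩ := hUP hx
      have hk0 : k.1 ≠ 0 := fun e => hx0 (by show k.1 *ᵥ v = 0; rw [e, zero_mulVec])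
      have h : Q (k.1 *ᵥ v) = 0 := hU _ hx
      rw [hc _ k.2] at h
      exact mul_ne_zero (hc1 _ k.2 hk0) hQv h
    let W' := W ⊓ CfsgLib.Orth.orth Q P
    have hperp : ∀ p ∈ P, ∀ w ∈ W', B p w = 0 := fun p hp w hw => CfsgLib.Orth.mem_orth.1 hw.2 p hp
    have hsup : P ⊔ W' = W := by
      refine le_antisymm (sup_le hPW inf_le_left) fun x hx => ?_
      obtain ⟨p, hp, z, hz, rfl⟩ := CfsgLib.Orth.exists_decomp hB hPnd x
      refine Submodule.add_mem_sup hp ⟨?_, hz⟩
      simpa using W.sub_mem hx (hPW hp)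
    have hW'nd : NondegOn Q W' := fun x hx h => by
      refine hW x hx.1 fun y hy => ?_
      obtain ⟨p, hp, w, hw, rfl⟩ := Submodule.mem_sup.1 (hsup.symm ▸ hy : y ∈ P ⊔ W')
      rw [b_add_right, h w hw, b_comm, hperp p hp x hx, add_zero]
    have hW'd : Module.finrank F W' = 2 * j := by
      have h := finrank_sup hPnd hperp
      rw [hsup, hd, hPd] at h
      omega
    have hW'inv : ∀ k ∈ K, ∀ w ∈ W', k *ᵥ w ∈ W' := by
      intro k hk w hw
      refine ⟨hinv k hk w hw.1, CfsgLib.Orth.mem_orth.2 ?_⟩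
      rintro _ ⟨a, rfl⟩
      show B (a.1 *ᵥ v) (k *ᵥ w) = 0
      by_cases hk0 : k = 0
      · rw [hk0, zero_mulVec, b_zero_right]
      obtain ⟨y, hy, hky⟩ := hK.inv k hk hk0
      have h0 : B ((y * a.1) *ᵥ v) w = 0 := hperp _ ⟨⟨y * a.1, mul_mem hy a.2⟩, rfl⟩ w hw
      rw [show a.1 *ᵥ v = k *ᵥ ((y * a.1) *ᵥ v) by rw [mulVec_mulVec, ← mul_assoc, hky, one_mul], hpol k hk,
        h0, mul_zero]
    have hs := plus_sup_iff hPnd hW'nd hperp (by rw [hPd]; exact even_two) (by rw [hW'd]; exact even_two_mul j)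
    rw [hsup] at hs
    rw [hs, ih W' hW'nd hW'd hW'inv, Nat.even_add_one]
    exact ⟨fun h he => hPaniso (h.2 he), fun h => iff_of_false hPaniso h⟩

theorem conj_top_iff (hB : Nondeg Q) {K : Subalgebra F (Matrix (Fin n) (Fin n) F)} (hK : IsFieldSubalgebra 2 K)
    (hsim : ∀ k ∈ K, ∃ c : F, ∀ v, Q (k *ᵥ v) = c * Q v) {j : ℕ} (hn : n = 2 * j) :
    IsPlusTypeOn ⇑Q ⊤ ↔ Even j :=
  conj_plus_iff hB hK hsim j ⊤ (fun x _ h => hB x fun y => h y Submodule.mem_top)
    (by rw [finrank_top, Module.finrank_fin_fun, hn]) fun _ _ _ _ => Submodule.mem_top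

/-! ### Tensor products of alternating forms -/

theorem sympData_even {k : ℕ} {J : Matrix (Fin k) (Fin k) F} (hJ : SympData J) : Even k := by
  classical
  have hnd : ∀ v : Fin k → F, (∀ w : Fin k → F, Matrix.toLinearMap₂' F J v w = (0 : F)) → v = 0 := by
    refine (LinearMap.separatingLeft_iff_det_ne_zero (Pi.basisFun F (Fin k))).2 ?_
    have : LinearMap.toMatrix₂ (Pi.basisFun F (Fin k)) (Pi.basisFun F (Fin k)) (Matrix.toLinearMap₂' F J) = J := by
      ext i j
      simp [LinearMap.toMatrix₂_apply, Matrix.toLinearMap₂'_apply', mulVec_single_one]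
    rw [this]
    exact ((Matrix.isUnit_iff_isUnit_det J).1 hJ.data.unit).ne_zero
  obtain ⟨m, b, -⟩ := CfsgLib.Forms.exists_symplectic_basis_nondeg (Matrix.toLinearMap₂' F J)
    (fun (v : Fin k → F) => by
      have := hJ.alt v
      simpa [Matrix.toLinearMap₂'_apply', sform, Function.comp_def] using this) hnd
  have h := Module.finrank_eq_card_basis b
  rw [Module.finrank_fin_fun, Fintype.card_sum, Fintype.card_fin] at h
  exact ⟨m, h⟩

/-- Pure tensors with a fixed first factor span a half. -/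
theorem sympTensor_half (hB : Nondeg Q) {n₂ : ℕ} (hn : 2 * n₂ = n) {e : Fin n ≃ Fin 2 × Fin n₂} {P : GL (Fin n) F}
    (hz : ∀ u v, Q (ten e P u v) = 0) : IsPlusTypeOn ⇑Q ⊤ := by
  classical
  let f : (Fin n₂ → F) →ₗ[F] (Fin n → F) :=
    { toFun := fun y => ten e P (Pi.single 0 1) y
      map_add' := fun x y => by
        simp only [ten, ← mulVec_add]
        congr 1
        funext i
        simp [mul_add]
      map_smul' := fun c y => by
        simp only [ten, RingHom.id_apply, ← mulVec_smul]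
        congr 1
        funext i
        simp [mul_left_comm] }
  have hf : Function.Injective f := fun x y h => ten_injective_right e P 0 h
  refine ⟨LinearMap.range f, le_top, ?_, ?_⟩
  · rintro _ ⟨y, rfl⟩
    exact hz _ _
  · rw [LinearMap.finrank_range_of_inj hf, finrank_top, Module.finrank_fin_fun, Module.finrank_fin_fun, hn]

/-- A cube of alternating planes has a half. -/
theorem sympPower_half (hB : Nondeg Q) {t : ℕ} (ht : 1 ≤ t) (hn : 2 ^ t = n) {e : Fin n ≃ (Fin t → Fin 2)}
    {P : GL (Fin n) F} {J₀ : Matrix (Fin 2) (Fin 2) F} {c : F} (hJ : SympData J₀)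
    (hF : fcoord τ₁ (ogram Q) e P = c • pureMat (fun _ : Fin t => J₀))
    (hz : ∀ u : Fin t → Fin 2 → F, Q (P.val *ᵥ ((fun x => ∏ i, u i (x i)) ∘ e)) = 0) : IsPlusTypeOn ⇑Q ⊤ := by
  classical
  let i₀ : Fin t := ⟨0, ht⟩
  let S : Finset (Fin t → Fin 2) := Finset.univ.filter fun x => x i₀ = 0
  let w : S → (Fin n → F) := fun x => P.val *ᵥ ((Pi.single x.1 (1 : F) : (Fin t → Fin 2) → F) ∘ e)
  have hpure : ∀ x : Fin t → Fin 2, (Pi.single x (1 : F) : (Fin t → Fin 2) → F) =
      fun y => ∏ i, (Pi.single (x i) (1 : F) : Fin 2 → F) (y i) := fun x => funext fun y => by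
    by_cases h : y = x
    · subst h; simp
    · rw [Pi.single_eq_of_ne h]
      obtain ⟨i, hi⟩ := Function.ne_iff.1 h
      exact (Finset.prod_eq_zero (Finset.mem_univ i) (Pi.single_eq_of_ne hi _)).symm
  have hJ0 : J₀ 0 0 = 0 := by
    have := hJ.alt (Pi.single 0 1)
    rwa [sform_single] at this
  have hq : ∀ x : S, Q (w x) = 0 := fun x => by
    simp only [w, hpure]
    exact hz _
  have hb : ∀ x y : S, B (w x) (w y) = 0 := fun x y => by
    simp only [w]
    rw [polar_sform hB, sform_fcoord, hF, sform_smul_matrix, sform_single, pureMat_apply,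
      Finset.prod_eq_zero (Finset.mem_univ i₀) (by
        rw [(Finset.mem_filter.1 x.2).2, (Finset.mem_filter.1 y.2).2, hJ0]), mul_zero]
  have hwi : LinearIndependent F w := by
    rw [Fintype.linearIndependent_iff]
    intro a ha x
    have h := congrArg (fun z => ((P⁻¹).val *ᵥ z) (e.symm x.1)) ha
    simp only [mulVec_sum, mulVec_smul, w, PrimeDim.inv_mulVec_cancel, Finset.sum_apply, Pi.smul_apply,
      Function.comp_apply, Equiv.apply_symm_apply, smul_eq_mul, mulVec_zero, Pi.zero_apply] at h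
    rw [Finset.sum_eq_single x (fun y _ hy => by
      rw [Pi.single_eq_of_ne (fun e0 => hy (Subtype.ext e0.symm)), mul_zero]) (by simp)] at h
    simpa using h
  have hS : 2 * S.card = n := by
    have h : (2 * S.card) = Fintype.card (Fin t → Fin 2) := by
      have h1 : (Finset.univ.filter fun x : Fin t → Fin 2 => ¬ x i₀ = 0).card = S.card := by
        refine Finset.card_bij (fun x _ => Function.update x i₀ 0) (fun x _ => by simp [S]) ?_ ?_
        · intro x hx y hy hxy
          simp at hx hy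
          funext i
          by_cases hi : i = i₀
          · subst hi; omega
          · have := congrFun hxy i
            rwa [Function.update_of_ne hi, Function.update_of_ne hi] at this
        · intro y hy
          simp [S] at hy
          refine ⟨Function.update y i₀ 1, by simp, ?_⟩
          simp [← hy]
      have h2 := Finset.card_filter_add_card_filter_not (s := Finset.univ) (fun x : Fin t → Fin 2 => x i₀ = 0)
      rw [h1, Finset.card_univ] at h2
      simp only [S] at h2 ⊢
      omega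
    rw [h, Fintype.card_fun, Fintype.card_fin, Fintype.card_fin, hn]
  refine ⟨Submodule.span F (Set.range w), le_top, ?_, ?_⟩
  · intro v hv
    have key : ∀ v ∈ Submodule.span F (Set.range w), Q v = 0 ∧ ∀ x, B v (w x) = 0 := by
      intro v hv
      induction hv using Submodule.span_induction with
      | mem v hv => obtain ⟨x, rfl⟩ := hv; exact ⟨hq x, hb x⟩
      | zero => exact ⟨QuadraticMap.map_zero _, fun x => b_zero_left _⟩
      | add a b _ hb' iha ihb =>
        refine ⟨?_, fun x => by rw [b_add_left, iha.2 x, ihb.2 x, add_zero]⟩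
        have hab : B a b = 0 := by
          have hle : Submodule.span F (Set.range w) ≤ LinearMap.ker (QuadraticMap.polarBilin Q a) :=
            Submodule.span_le.2 (by rintro _ ⟨x, rfl⟩; exact LinearMap.mem_ker.2 (iha.2 x))
          exact LinearMap.mem_ker.1 (hle hb')
        rw [q_add, iha.1, ihb.1, hab, add_zero, add_zero]
      | smul a v _ ih =>
        exact ⟨by rw [q_smul, ih.1, mul_zero], fun x => by rw [b_smul_left, ih.2 x, mul_zero]⟩
    exact (key v hv).1
  · rw [finrank_span_eq_card hwi, Fintype.card_coe, finrank_top, Module.finrank_fin_fun, hS]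

/-! ### Two parts of odd dimension -/

theorem two_odd_parts (hB : Nondeg Q) {m : ℕ} (hn : n = 2 * (2 * m + 1)) {D : Fin 2 → Submodule F (Fin n → F)}
    (hD : Cfsg.Geo.IsNondegenerateMDecomposition (QuadraticMap.polar ⇑Q) (2 * m + 1) D)
    (hne : ¬ Cfsg.Geo.AreIsometricFor ⇑Q (D 0) (D 1)) :
    IsPlusTypeOn ⇑Q ⊤ ↔ ¬ IsSquare (-1 : F) := by
  classical
  have hnd := fun i => CfsgLib.Orth.nondegOn_of (hD.nondegenerate i)
  have h2 : (2 : F) ≠ 0 := two_ne_zero_of_odd_finrank (hnd 0) (by
    rw [hD.decomp.finrank_eq]; exact odd_two_mul_add_one m)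
  obtain ⟨l₀, hl₀, e₀, he₀⟩ := CfsgLib.Classical.OrthModels.classify_odd (Q.comp (D 0).subtype) (rest_nondeg (hnd 0))
    (hD.decomp.finrank_eq 0)
  obtain ⟨l₁, hl₁, e₁, he₁⟩ := CfsgLib.Classical.OrthModels.classify_odd (Q.comp (D 1).subtype) (rest_nondeg (hnd 1))
    (hD.decomp.finrank_eq 1)
  let f : D 0 ≃ₗ[F] D 1 := e₀.trans e₁.symm
  have hf : ∀ x : D 0, Q (f x : Fin n → F) = l₁ / l₀ * Q (x : Fin n → F) := fun x => by
    have a := he₀ x
    have b := he₁ (f x)
    simp only [f, LinearEquiv.trans_apply, LinearEquiv.apply_symm_apply] at a b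
    simp only [QuadraticMap.comp_apply, Submodule.coe_subtype] at a b
    rw [show Q (f x : Fin n → F) = _ from b.symm, ← a]
    field_simp
  have hρ0 : l₁ / l₀ ≠ 0 := div_ne_zero hl₁ hl₀
  have hρ : ¬ IsSquare (l₁ / l₀) := by
    rintro ⟨s, hs⟩
    have hs0 : s ≠ 0 := fun e => hρ0 (by rw [hs, e, mul_zero])
    refine hne ⟨(LinearEquiv.smulOfUnit (Units.mk0 s⁻¹ (inv_ne_zero hs0))).trans f, fun x => ?_⟩
    show Q (f (s⁻¹ • x) : Fin n → F) = _
    rw [hf, Submodule.coe_smul, q_smul, hs]
    field_simp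
  obtain ⟨v, hv, hv0, hvp⟩ := exists_frame h2 (hnd 0) (hD.decomp.finrank_eq 0)
  let g : Fin (2 * m + 1) ⊕ Fin (2 * m + 1) → Fin n → F := Sum.elim v fun i => (f ⟨v i, hv i⟩ : Fin n → F)
  have hg1 : ∀ i, g (.inr i) ∈ D 1 := fun i => (f _).2
  rw [plus_iff_frame hB h2 hn (by simp; omega) g (by
    rintro (i | i)
    · exact hv0 i
    · simp only [g, Sum.elim_inr, hf]
      exact mul_ne_zero hρ0 (hv0 i)) ?_]
  swap
  · rintro (i | i) (j | j) hij
    · exact hvp i j fun h => hij (by rw [h])
    · exact hD.orthogonal 0 1 (by decide) _ (hv i) _ (hg1 j)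
    · exact hD.orthogonal 1 0 (by decide) _ (hg1 i) _ (hv j)
    · show B (f ⟨v i, hv i⟩ : Fin n → F) (f ⟨v j, hv j⟩) = 0
      unfold QuadraticMap.polar
      rw [← Submodule.coe_add, ← map_add, hf, hf, hf, Submodule.coe_add]
      have := hvp i j fun h => hij (by rw [h])
      unfold QuadraticMap.polar at this
      linear_combination (l₁ / l₀) * this
  rw [Fintype.prod_sum_type]
  simp only [g, Sum.elim_inl, Sum.elim_inr, hf, Finset.prod_mul_distrib, Finset.prod_const, Finset.card_univ,
    Fintype.card_fin]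
  obtain ⟨T, hT⟩ : ∃ T, T = (∏ i, Q (v i)) * (l₁ / l₀) ^ m := ⟨_, rfl⟩
  have hT0 : T ≠ 0 := hT ▸ mul_ne_zero (Finset.prod_ne_zero_iff.2 fun i _ => hv0 i) (pow_ne_zero _ hρ0)
  rw [show (-1 : F) ^ (2 * m + 1) * ((∏ i, Q (v i)) * ((l₁ / l₀) ^ (2 * m + 1) * ∏ i, Q (v i))) =
    (T * T) * (-1 * (l₁ / l₀)) by rw [hT, (odd_two_mul_add_one m).neg_one_pow]; ring]
  constructor
  · intro h hsq
    have h' := h.mul (isSquare_inv.2 (IsSquare.mul_self T))
    rw [mul_comm (T * T), mul_inv_cancel_right₀ (mul_ne_zero hT0 hT0)] at h'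
    refine hρ ?_
    have := h'.mul (isSquare_inv.2 hsq)
    simpa using this
  · intro hsq
    exact (IsSquare.mul_self T).mul (CfsgLib.Forms.isSquare_mul_of_not hsq hρ)

/-! ### Quadratic subfields -/

/-- Over a quadratic extension every form rational over the smaller field has plus type. -/
theorem rational_two_plus (hB : Nondeg Q) {m : ℕ} (hn : n = 2 * m) {F₀ : Subfield F}
    (hcard : Fintype.card F = Nat.card F₀ ^ 2) {P : GL (Fin n) F} {ζ : F} (hζ : ζ ≠ 0)
    (hrat : Cfsg.Geo.IsQuadFormRationalStructure (fun v => ζ * Q v) F₀ P) : IsPlusTypeOn ⇑Q ⊤ := by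
  classical
  letI : Fintype F₀ := Fintype.ofFinite F₀
  let φ : (Fin n → F₀) → (Fin n → F) := fun u => P.val *ᵥ fun i => (u i : F)
  have hφadd : ∀ u v, φ (u + v) = φ u + φ v := fun u v => by
    simp only [φ, ← mulVec_add]
    congr 1
  have hφsmul : ∀ (c : F₀) u, φ (c • u) = (c : F) • φ u := fun c u => by
    simp only [φ, ← mulVec_smul]
    congr 1
  have hmem : ∀ u, ζ * Q (φ u) ∈ F₀ := fun u => hrat _ fun i => (u i).2
  let q₀ : (Fin n → F₀) → F₀ := fun u => ⟨ζ * Q (φ u), hmem u⟩
  have hpol : ∀ u v, ((QuadraticMap.polar q₀ u v : F₀) : F) = ζ * B (φ u) (φ v) := fun u v => by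
    simp only [QuadraticMap.polar, q₀, Subfield.coe_sub, hφadd]
    ring
  let Q₀ : QuadraticForm F₀ (Fin n → F₀) := QuadraticMap.ofPolar q₀
    (fun c x => Subtype.ext (by
      simp only [q₀, hφsmul, q_smul, smul_eq_mul, Subfield.coe_mul]
      ring))
    (fun x y z => Subtype.ext (by
      simp only [Subfield.coe_add, hpol, hφadd, b_add_left, mul_add]))
    (fun c x y => Subtype.ext (by
      simp only [smul_eq_mul, Subfield.coe_mul, hpol, hφsmul, b_smul_left]
      ring))
  have hspan : ∀ (b : Module.Basis (Fin n) F₀ (Fin n → F₀)), ⊤ ≤ Submodule.span F (Set.range fun i => φ (b i)) := by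
    intro b z _
    have hall : ∀ u, φ u ∈ Submodule.span F (Set.range fun i => φ (b i)) := by
      intro u
      rw [← b.sum_repr u]
      have hsum : ∀ s : Finset (Fin n), φ (∑ i ∈ s, b.repr u i • b i) ∈ Submodule.span F (Set.range fun i => φ (b i)) := by
        intro s
        induction s using Finset.induction_on with
        | empty =>
          rw [Finset.sum_empty, show φ 0 = 0 by
            funext i; simp [φ, mulVec, dotProduct]]
          exact zero_mem _
        | @insert a s ha ih =>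
          rw [Finset.sum_insert ha, hφadd, hφsmul]
          exact add_mem (Submodule.smul_mem _ _ (Submodule.subset_span ⟨a, rfl⟩)) ih
      exact hsum _
    have e : z = ∑ j, ((P⁻¹).val *ᵥ z) j • φ (Pi.single j 1) := by
      conv_lhs => rw [← PrimeDim.mulVec_inv_cancel P z, ← Finset.univ_sum_single ((P⁻¹).val *ᵥ z), mulVec_sum]
      refine Finset.sum_congr rfl fun j _ => ?_
      simp only [φ, ← mulVec_smul]
      congr 1
      funext i
      by_cases h : i = j
      · subst h; simp
      · simp [Pi.single_eq_of_ne h]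
    rw [e]
    exact Submodule.sum_mem _ fun j _ => Submodule.smul_mem _ _ (hall _)
  have hnd₀ : ∀ u, (∀ v, QuadraticMap.polar q₀ u v = 0) → u = 0 := fun u hu => by
    have h0 : φ u = 0 := hB _ fun y => by
      have hle : (⊤ : Submodule F (Fin n → F)) ≤ LinearMap.ker (QuadraticMap.polarBilin Q (φ u)) :=
        (hspan (Pi.basisFun F₀ (Fin n))).trans (Submodule.span_le.2 (by
          rintro _ ⟨i, rfl⟩
          refine LinearMap.mem_ker.2 ((mul_eq_zero.1 (?_ : ζ * B (φ u) _ = 0)).resolve_left hζ)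
          rw [← hpol, hu]
          rfl))
      exact LinearMap.mem_ker.1 (hle (Submodule.mem_top (x := y)))
    funext i
    have := congrFun (congrArg ((P⁻¹).val *ᵥ ·) h0) i
    simpa [φ, PrimeDim.inv_mulVec_cancel] using this
  have hnd' : (QuadraticMap.polarBilin Q₀).Nondegenerate :=
    ⟨fun u hu => hnd₀ u hu, fun u hu => hnd₀ u fun v => by rw [QuadraticMap.polar_comm]; exact hu v⟩
  -- a family spanning a half
  suffices h : ∃ w : Fin m → Fin n → F, LinearIndependent F w ∧ (∀ i, Q (w i) = 0) ∧ ∀ i j, B (w i) (w j) = 0 by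
    obtain ⟨w, hw, hq, hb⟩ := h
    refine ⟨Submodule.span F (Set.range w), le_top, fun v hv => ?_, ?_⟩
    · have key : Q v = 0 ∧ ∀ i, B v (w i) = 0 := by
        induction hv using Submodule.span_induction with
        | mem v hv => obtain ⟨i, rfl⟩ := hv; exact ⟨hq i, hb i⟩
        | zero => exact ⟨QuadraticMap.map_zero _, fun i => b_zero_left _⟩
        | add a b _ hb' iha ihb =>
          refine ⟨?_, fun i => by rw [b_add_left, iha.2 i, ihb.2 i, add_zero]⟩
          have hle : Submodule.span F (Set.range w) ≤ LinearMap.ker (QuadraticMap.polarBilin Q a) :=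
            Submodule.span_le.2 (by rintro _ ⟨i, rfl⟩; exact LinearMap.mem_ker.2 (iha.2 i))
          have hab : B a b = 0 := LinearMap.mem_ker.1 (hle hb')
          rw [q_add, iha.1, ihb.1, hab, add_zero, add_zero]
        | smul a v _ ih => exact ⟨by rw [q_smul, ih.1, mul_zero], fun i => by rw [b_smul_left, ih.2 i, mul_zero]⟩
      exact key.1
    · rw [finrank_span_eq_card hw, Fintype.card_fin, finrank_top, Module.finrank_fin_fun, hn]
  have hq0 : ∀ u, Q₀ u = 0 → Q (φ u) = 0 := fun u h =>
    (mul_eq_zero.1 (congrArg Subtype.val h : ζ * Q (φ u) = 0)).resolve_left hζ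
  have hb0 : ∀ u v, QuadraticMap.polar ⇑Q₀ u v = 0 → B (φ u) (φ v) = 0 := fun u v h => by
    have := hpol u v
    rw [show QuadraticMap.polar q₀ u v = 0 from h, Subfield.coe_zero] at this
    exact (mul_eq_zero.1 this.symm).resolve_left hζ
  have hli : ∀ {κ : Type} [Fintype κ] (b : Module.Basis κ F₀ (Fin n → F₀)), LinearIndependent F fun i => φ (b i) := by
    intro κ _ b
    let σ : κ ≃ Fin n := b.indexEquiv (Pi.basisFun F₀ (Fin n))
    have h1 : LinearIndependent F fun i => φ (b.reindex σ i) :=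
      linearIndependent_of_top_le_span_of_card_eq_finrank (hspan _) (by simp)
    refine (linearIndependent_equiv' σ ?_).2 h1
    funext i
    simp [Module.Basis.reindex_apply]
  rcases m with _ | k
  · exact ⟨Fin.elim0, linearIndependent_empty_type, fun i => i.elim0, fun i => i.elim0⟩
  have hfin : Module.finrank F₀ (Fin n → F₀) = 2 * (k + 1) := by rw [Module.finrank_fin_fun, hn]
  rcases CfsgLib.Classical.WittBasis.even_basis Q₀ hnd' hfin with
    ⟨e, f, h, b, hb⟩ | ⟨e, f, a, c, h, ha, hc, hqa, hac, -, b, hb⟩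
  · refine ⟨fun i => φ (e i), ?_, fun i => hq0 _ (h.qe i), fun i j => hb0 _ _ (h.ee i j)⟩
    have := (hli b).comp Sum.inl Sum.inl_injective
    simpa [hb, Function.comp_def] using this
  -- a root in the larger field
  obtain ⟨t, ht⟩ : ∃ t : F, t ^ 2 + t + (Q₀ c : F) = 0 := by
    by_cases hroot : ∃ s : F₀, s ^ 2 + s + Q₀ c = 0
    · obtain ⟨s, hs⟩ := hroot
      exact ⟨s, by simpa using congrArg Subtype.val hs⟩
    push Not at hroot
    let p : Polynomial F₀ := Polynomial.X ^ 2 + Polynomial.X + Polynomial.C (Q₀ c)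
    have hdeg : p.natDegree = 2 := by simp only [p]; compute_degree!
    have hirr : Irreducible p := by
      refine Polynomial.irreducible_of_degree_le_three_of_not_isRoot (by rw [hdeg]; decide) fun s hs => ?_
      simp only [p, Polynomial.IsRoot.def, Polynomial.eval_add, Polynomial.eval_pow, Polynomial.eval_X,
        Polynomial.eval_C] at hs
      exact hroot s hs
    haveI := Fact.mk hirr
    haveI : Module.Finite F₀ (AdjoinRoot p) := (AdjoinRoot.powerBasis hirr.ne_zero).finite
    haveI : Finite (AdjoinRoot p) := Module.finite_of_finite F₀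
    have h2 : Module.finrank F₀ F = 2 := by
      have := Module.natCard_eq_pow_finrank (K := F₀) (V := F)
      rw [Nat.card_eq_fintype_card, hcard] at this
      refine (Nat.pow_right_injective ?_ this).symm
      rw [Nat.card_eq_fintype_card]
      exact Fintype.one_lt_card
    obtain ⟨g⟩ := FiniteField.nonempty_algHom_of_finrank_dvd (F := F₀) (K := AdjoinRoot p) (L := F)
      (by rw [(AdjoinRoot.powerBasis hirr.ne_zero).finrank, AdjoinRoot.powerBasis_dim, hdeg, h2])
    refine ⟨g (AdjoinRoot.root p), ?_⟩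
    have h0 := congrArg g (AdjoinRoot.eval₂_root p)
    have hC : g (AdjoinRoot.of p (Q₀ c)) = ((Q₀ c : F₀) : F) := g.commutes (Q₀ c)
    simp only [p] at h0 hC ⊢
    simp only [Polynomial.eval₂_add, Polynomial.eval₂_pow, Polynomial.eval₂_X, Polynomial.eval₂_C, map_add, map_pow,
      map_zero, hC] at h0
    exact h0
  have hqaF : ζ * Q (φ a) = 1 := congrArg Subtype.val hqa
  have hqcF : ζ * Q (φ c) = (Q₀ c : F) := rfl
  have hacF : ζ * B (φ a) (φ c) = 1 := by
    rw [← hpol]
    exact congrArg Subtype.val hac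
  let w : Fin (k + 1) → Fin n → F := Fin.snoc (fun i => φ (e i)) (t • φ a + φ c)
  have hlast : Q (t • φ a + φ c) = 0 := by
    refine (mul_eq_zero.1 (?_ : ζ * _ = 0)).resolve_left hζ
    rw [q_add, q_smul, b_smul_left]
    linear_combination ht + t * t * hqaF + hqcF + t * hacF
  have hperp : ∀ i, B (φ (e i)) (t • φ a + φ c) = 0 := fun i => by
    rw [b_add_right, b_smul_right, hb0 _ _ (((CfsgLib.Classical.WittBasis.mem_perp Q₀ e f a).1 ha).1 i),
      hb0 _ _ (((CfsgLib.Classical.WittBasis.mem_perp Q₀ e f c).1 hc).1 i), mul_zero, add_zero]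
  refine ⟨w, ?_, fun i => ?_, fun i j => ?_⟩
  · have hi := hli b
    rw [hb] at hi
    rw [Fintype.linearIndependent_iff] at hi ⊢
    intro l hl
    let L : (Fin k ⊕ Fin k) ⊕ Fin 2 → F :=
      Sum.elim (Sum.elim (fun i => l i.castSucc) fun _ => 0) ![t * l (Fin.last k), l (Fin.last k)]
    have hsum : ∑ s, L s • φ ((Sum.elim (Sum.elim e f) ![a, c]) s) = 0 := by
      rw [← hl]
      simp [L, w, Fintype.sum_sum_type, Fin.sum_univ_castSucc, smul_add, smul_smul, mul_comm t]
    intro i
    induction i using Fin.lastCases with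
    | last => simpa [L] using hi L hsum (.inr 1)
    | cast i => simpa [L] using hi L hsum (.inl (.inl i))
  · induction i using Fin.lastCases with
    | last => simpa [w] using hlast
    | cast i => simpa [w] using hq0 _ (h.qe i)
  · induction i using Fin.lastCases with
    | last =>
      induction j using Fin.lastCases with
      | last => simp [w, hlast]
      | cast j => simpa [w, b_comm (t • φ a + φ c)] using hperp j
    | cast i =>
      induction j using Fin.lastCases with
      | last => simpa [w] using hperp i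
      | cast j => simpa [w] using hb0 _ _ (h.ee i j)

end CfsgLib.Asch.OrthEven
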