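import Mathlib

/-!
An anisotropic binary quadratic form over a finite field represents every unit modulo every
polynomial.
-/

set_option autoImplicit false

namespace CfsgLib.Classical.BinaryNorm

open Polynomial

variable {F : Type*} [Field F] [Fintype F]

/-- The binary form. -/
def bq {R : Type*} [CommRing R] (a b u v : R) : R := u ^ 2 + a * u * v + b * v ^ 2

theorem bq_congr {R : Type*} [CommRing R] {a b u v u' v' m : R} (hu : m ∣ u - u') (hv : m ∣ v - v') :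
    m ∣ bq a b u v - bq a b u' v' := by
  obtain ⟨x, hx⟩ := hu
  obtain ⟨y, hy⟩ := hv
  refine ⟨x * (u + u') + a * x * v + a * u' * y + b * y * (v + v'), ?_⟩
  obtain rfl : u = u' + m * x := by linear_combination hx
  obtain rfl : v = v' + m * y := by linear_combination hy
  simp only [bq]; ring

theorem a_ne_zero_of_char_two (a b : F) (hab : ∀ z₁ z₂ : F, z₁ ^ 2 + a * z₁ * z₂ + b * z₂ ^ 2 = 0 → z₁ = 0 ∧ z₂ = 0)
    (h2 : ringChar F = 2) : a ≠ 0 := by
  intro ha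
  haveI := ringChar.of_eq h2
  obtain ⟨s, hs⟩ := FiniteField.isSquare_of_char_two h2 b
  have h20 : (2 : F) = 0 := by exact_mod_cast CharP.cast_eq_zero F 2
  exact one_ne_zero (α := F) (hab s 1 (by rw [ha, hs]; linear_combination (s * s) * h20)).2

theorem disc_ne_zero (a b : F) (hab : ∀ z₁ z₂ : F, z₁ ^ 2 + a * z₁ * z₂ + b * z₂ ^ 2 = 0 → z₁ = 0 ∧ z₂ = 0)
    (h2 : ringChar F ≠ 2) : 4 * b - a ^ 2 ≠ 0 := by
  intro h
  have h20 : (2 : F) ≠ 0 := Ring.two_ne_zero h2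
  exact h20 (hab (-a) 2 (by linear_combination h)).2

theorem exists_trace_one (a b : F) (hab : ∀ z₁ z₂ : F, z₁ ^ 2 + a * z₁ * z₂ + b * z₂ ^ 2 = 0 → z₁ = 0 ∧ z₂ = 0) :
    ∃ c₁ c₂ : F, 2 * c₁ + a * c₂ = 1 := by
  by_cases h2 : ringChar F = 2
  · exact ⟨0, a⁻¹, by rw [mul_zero, zero_add, mul_inv_cancel₀ (a_ne_zero_of_char_two a b hab h2)]⟩
  · exact ⟨2⁻¹, 0, by rw [mul_inv_cancel₀ (Ring.two_ne_zero h2), mul_zero, add_zero]⟩

theorem surjective_ext {E : Type*} [Field E] [Finite E] [Algebra F E] (a b : F)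
    (hab : ∀ z₁ z₂ : F, z₁ ^ 2 + a * z₁ * z₂ + b * z₂ ^ 2 = 0 → z₁ = 0 ∧ z₂ = 0) (c : E) :
    ∃ u v : E, bq (algebraMap F E a) (algebraMap F E b) u v = c := by
  cases nonempty_fintype E
  set a' := algebraMap F E a
  set b' := algebraMap F E b
  have hchar : ringChar E = ringChar F := (Algebra.ringChar_eq F E).symm
  by_cases h2 : ringChar F = 2
  · obtain ⟨u, hu⟩ := FiniteField.isSquare_of_char_two (hchar.trans h2) c
    exact ⟨u, 0, by simp [bq, hu, pow_two]⟩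
  · have h2E : (2 : E) ≠ 0 := Ring.two_ne_zero (hchar ▸ h2)
    have hd : 4 * b' - a' ^ 2 ≠ 0 := by
      have := (map_ne_zero (algebraMap F E)).mpr (disc_ne_zero a b hab h2)
      simpa [map_sub, map_mul, map_pow, map_ofNat] using this
    obtain ⟨x, y, h⟩ := FiniteField.exists_root_sum_quadratic (R := E) (f := X ^ 2)
      (g := C (4 * b' - a' ^ 2) * X ^ 2 + C 0 * X + C (-(4 * c))) (degree_X_pow 2)
      (degree_quadratic hd)
      (FiniteField.odd_card_of_char_ne_two (hchar ▸ h2))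
    simp at h
    refine ⟨(x - a' * y) / 2, y, ?_⟩
    simp only [bq]
    field_simp
    linear_combination h

theorem exists_rep_prime_pow (a b : F) (hab : ∀ z₁ z₂ : F, z₁ ^ 2 + a * z₁ * z₂ + b * z₂ ^ 2 = 0 → z₁ = 0 ∧ z₂ = 0)
    {P g : F[X]} (hP : Irreducible P) (hg : ¬ P ∣ g) :
    ∀ i : ℕ, ∃ u v : F[X], P ^ (i + 1) ∣ bq (C a) (C b) u v - g := by
  intro i
  induction i with
  | zero =>
    haveI := Fact.mk hP
    haveI : Module.Finite F (AdjoinRoot P) := (AdjoinRoot.powerBasis hP.ne_zero).finite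
    haveI : Finite (AdjoinRoot P) := Module.finite_of_finite F
    obtain ⟨x, y, h⟩ := surjective_ext (E := AdjoinRoot P) a b hab (AdjoinRoot.mk P g)
    obtain ⟨u, rfl⟩ := AdjoinRoot.mk_surjective x
    obtain ⟨v, rfl⟩ := AdjoinRoot.mk_surjective y
    refine ⟨u, v, ?_⟩
    rw [zero_add, pow_one, ← AdjoinRoot.mk_eq_mk, ← h]
    simp [bq, AdjoinRoot.algebraMap_eq]
  | succ i ih =>
    obtain ⟨u, v, e, he⟩ := ih
    obtain ⟨c₁, c₂, hc⟩ := exists_trace_one a b hab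
    obtain ⟨s, t, hst⟩ := (hP.coprime_iff_not_dvd.mpr hg).symm
    -- `s * g + t * P = 1`
    set z := - (P ^ (i + 1) * (e * s))
    refine ⟨u + z * (C c₁ * u - C b * C c₂ * v), v + z * (C c₁ * v + C c₂ * u + C a * C c₂ * v), ?_⟩
    have key : bq (C a) (C b) (u + z * (C c₁ * u - C b * C c₂ * v)) (v + z * (C c₁ * v + C c₂ * u + C a * C c₂ * v)) =
        bq (C a) (C b) u v * (1 + z * (2 * C c₁ + C a * C c₂) + z ^ 2 * bq (C a) (C b) (C c₁) (C c₂)) := by
      simp only [bq]; ring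
    have hc' : 2 * C c₁ + C a * C c₂ = (1 : F[X]) := by
      rw [← C_mul, ← map_ofNat C, ← C_mul, ← C_add, hc, C_1]
    rw [key, hc']
    set q := bq (C a) (C b) u v with hq
    refine ⟨e * t - e * e * s * P ^ i + q * (e * s) ^ 2 * P ^ i * bq (C a) (C b) (C c₁) (C c₂), ?_⟩
    have hq' : q = g + P ^ (i + 1) * e := by linear_combination he
    simp only [z]
    rw [hq']
    linear_combination (-(P ^ (i + 1) * e)) * hst

theorem exists_rep (a b : F) (hab : ∀ z₁ z₂ : F, z₁ ^ 2 + a * z₁ * z₂ + b * z₂ ^ 2 = 0 → z₁ = 0 ∧ z₂ = 0)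
    {f g : F[X]} (hf : f ≠ 0) (hfg : IsCoprime f g) : ∃ u v : F[X], f ∣ bq (C a) (C b) u v - g := by
  classical
  suffices h : f ≠ 0 → IsCoprime f g → ∃ u v : F[X], f ∣ bq (C a) (C b) u v - g from h hf hfg
  refine UniqueFactorizationMonoid.induction_on_coprime f (fun h => absurd rfl h) ?_ ?_ ?_
  · intro x hx _ _
    exact ⟨0, 0, hx.dvd⟩
  · intro P i hP _ hco
    rcases Nat.eq_zero_or_pos i with rfl | hi
    · exact ⟨0, 0, by simp⟩
    have hPg : ¬ P ∣ g := fun h => hP.not_unit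
      ((IsCoprime.pow_left_iff hi).mp hco |>.isUnit_of_dvd' dvd_rfl h)
    obtain ⟨u, v, h⟩ := exists_rep_prime_pow a b hab hP.irreducible hPg (i - 1)
    rw [Nat.sub_add_cancel hi] at h
    exact ⟨u, v, h⟩
  · intro x y hxy ihx ihy hne hco
    obtain ⟨u₁, v₁, h₁⟩ := ihx (left_ne_zero_of_mul hne) (hco.of_mul_left_left)
    obtain ⟨u₂, v₂, h₂⟩ := ihy (right_ne_zero_of_mul hne) (hco.of_mul_left_right)
    have hc : IsCoprime x y := hxy.isCoprime
    obtain ⟨s, t, hst⟩ := hc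
    refine ⟨u₁ * (t * y) + u₂ * (s * x), v₁ * (t * y) + v₂ * (s * x),
      IsCoprime.mul_dvd ⟨s, t, hst⟩ ?_ ?_⟩
    · rw [← sub_add_sub_cancel _ (bq (C a) (C b) u₁ v₁) g]
      refine dvd_add (bq_congr ⟨s * (u₂ - u₁), ?_⟩ ⟨s * (v₂ - v₁), ?_⟩) h₁
      · linear_combination u₁ * hst
      · linear_combination v₁ * hst
    · rw [← sub_add_sub_cancel _ (bq (C a) (C b) u₂ v₂) g]
      refine dvd_add (bq_congr ⟨t * (u₁ - u₂), ?_⟩ ⟨t * (v₁ - v₂), ?_⟩) h₂
      · linear_combination u₂ * hst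
      · linear_combination v₂ * hst

end CfsgLib.Classical.BinaryNorm
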