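import Cfsg.Agent.Lib.Classical.AschOrthEven
import Cfsg.Agent.Lib.Classical.BinaryNorm

set_option autoImplicit false
set_option linter.unusedSectionVars false
set_option maxHeartbeats 1000000

/-!
Self-adjoint fields over which the space is a plane.
-/

namespace CfsgLib.Asch.OrthFieldTwo

open Matrix
open Cfsg.Geo (matrixSet ActsIrreducibly IsFieldSubalgebra omegaGL subalgebraNormalizer IsTotallySingularQuad)
open CfsgLib.Orth (Nondeg b_comm b_add_left b_add_right b_smul_left b_smul_right b_zero_left b_zero_right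
  b_self q_add q_smul)
open CfsgLib.Classical.OrthModels (bin)
open CfsgLib.PrimeDim (Inv)
open scoped MatrixGroups

variable {F : Type*} [Field F] [Fintype F] {n : ℕ} {Q : QuadraticForm F (Fin n → F)}

local notation "B" => QuadraticMap.polar (DFunLike.coe Q)
local notation "τ₁" => RingEquiv.refl F

/-- A singular line over the field is fixed by an irreducible group only in dimensions two. -/
theorem no_singular_line (hB : Nondeg Q) (hn : 5 ≤ n) {H : Subgroup (GL (Fin n) F)} (hH : H ≤ omegaGL ⇑Q)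
    (hirr : ActsIrreducibly (matrixSet H)) {r : ℕ} (hr : Odd r) (hnr : n = 2 * r)
    {K : Subalgebra F (Matrix (Fin n) (Fin n) F)} (hK : IsFieldSubalgebra r K)
    (hle : H ≤ subalgebraNormalizer K) {v : Fin n → F} (hv : v ≠ 0) : ∃ k ∈ K, Q (k *ᵥ v) ≠ 0 := by
  by_contra hc
  push Not at hc
  let f : K →ₗ[F] (Fin n → F) :=
    { toFun := fun k => k.1 *ᵥ v
      map_add' := fun a b => add_mulVec _ _ _
      map_smul' := fun r a => smul_mulVec _ _ _ }
  have hf : Function.Injective f := by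
    rw [injective_iff_map_eq_zero]
    intro k hk
    by_contra h0
    obtain ⟨y, hy, hky⟩ := hK.inv k.1 k.2 fun e => h0 (Subtype.ext e)
    refine hv ?_
    rw [← one_mulVec v, ← hky, hK.comm _ k.2 _ hy, ← mulVec_mulVec]
    exact (congrArg _ hk).trans (mulVec_zero _)
  let U := LinearMap.range f
  have hUd : Module.finrank F U = r := by rw [LinearMap.finrank_range_of_inj hf, hK.finrank_eq]
  have hUts : IsTotallySingularQuad ⇑Q U := by rintro _ ⟨k, rfl⟩; exact hc _ k.2
  have hUK : ∀ k ∈ K, ∀ u ∈ U, k *ᵥ u ∈ U := by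
    rintro k hk _ ⟨a, rfl⟩
    exact ⟨⟨k * a.1, mul_mem hk a.2⟩, by simp [f, mulVec_mulVec]⟩
  have hinv : Inv (matrixSet H) U := by
    rintro _ ⟨g, hg, rfl⟩ u hu
    by_contra hgu
    refine half_no_swap hB hn hH hUts (by rw [hUd, hnr]) (hUd ▸ hr) (W := U.map (Matrix.toLin' g.val)) ?_ hg rfl
    by_contra hne
    obtain ⟨x, hx, hx0⟩ := Submodule.exists_mem_ne_zero_of_ne_bot hne
    obtain ⟨hxU, ⟨y, hy, hxy⟩⟩ := hx
    obtain ⟨a, ha⟩ := hy
    have hy0 : a.1 ≠ 0 := fun e => hx0 (by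
      rw [← hxy, ← ha, show f a = 0 by show a.1 *ᵥ v = 0; rw [e, zero_mulVec], map_zero])
    obtain ⟨z, hz, haz⟩ := hK.inv _ a.2 hy0
    obtain ⟨b, hb⟩ := hu
    -- g u is a multiple of g y over the field
    have hu' : u = (b.1 * z) *ᵥ y := by
      rw [← ha, ← hb]
      show b.1 *ᵥ v = (b.1 * z) *ᵥ (a.1 *ᵥ v)
      rw [mulVec_mulVec, mul_assoc, hK.comm z hz _ a.2, haz, mul_one]
    refine hgu ?_
    have hk' := ((hle hg) (b.1 * z)).1 (mul_mem b.2 hz)
    have h := hUK _ hk' _ hxU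
    rw [← hxy, Matrix.toLin'_apply, mulVec_mulVec, mul_assoc, Units.inv_mul, mul_one, ← mulVec_mulVec,
      ← hu'] at h
    exact h
  rcases PrimeDim.irreducible_iff.1 hirr U hinv with e | e
  · rw [e, finrank_bot] at hUd
    exact (Nat.not_even_iff_odd.2 hr) (hUd ▸ ⟨0, rfl⟩)
  · rw [e, finrank_top, Module.finrank_fin_fun] at hUd
    omega

/-- Without singular lines the group normalises a quadratic field of similitudes. -/
theorem conj_of_plane (hB : Nondeg Q) {H : Subgroup (GL (Fin n) F)} (hH : H ≤ omegaGL ⇑Q)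
    (hirr : ActsIrreducibly (matrixSet H)) {r : ℕ} (hr : Odd r) (hnr : n = 2 * r)
    {K : Subalgebra F (Matrix (Fin n) (Fin n) F)} (hK : IsFieldSubalgebra r K)
    (hsa : ∀ k ∈ K, ∀ u v, B (k *ᵥ u) v = B u (k *ᵥ v)) (hle : H ≤ subalgebraNormalizer K)
    (haniso : ∀ v : Fin n → F, v ≠ 0 → ∃ k ∈ K, Q (k *ᵥ v) ≠ 0) : OConjFieldCase Q H := by
  classical
  have hr0 : 0 < r := hr.pos
  haveI : Nonempty (Fin n) := ⟨⟨0, by omega⟩⟩
  haveI hnt : Nontrivial K := Module.finrank_pos_iff.1 (by rw [hK.finrank_eq]; exact hr0)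
  have hF : IsField K := ⟨hnt.exists_pair_ne, fun a b => Subtype.ext (hK.comm a a.2 b b.2), fun {a} ha => by
    obtain ⟨b, hb, hab⟩ := hK.inv a a.2 fun e => ha (Subtype.ext e)
    exact ⟨⟨b, hb⟩, Subtype.ext hab⟩⟩
  letI : Field K := hF.toField
  haveI : Finite K := Finite.of_injective _ Subtype.val_injective
  letI : Fintype K := Fintype.ofFinite K
  -- a functional and its translates
  obtain ⟨l, hl⟩ : ∃ l : K →ₗ[F] F, l 1 ≠ 0 := by
    obtain ⟨l, hl⟩ := Module.Projective.exists_dual_ne_zero F (one_ne_zero : (1 : K) ≠ 0)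
    exact ⟨l, hl⟩
  have hdual : ∀ μ : K →ₗ[F] F, ∃ p : K, ∀ t, μ t = l (t * p) := by
    intro μ
    let T : K →ₗ[F] (K →ₗ[F] F) :=
      { toFun := fun p => l.comp (LinearMap.mulRight F p)
        map_add' := fun a b => by ext t; simp [mul_add]
        map_smul' := fun c a => by ext t; simp }
    have hT : Function.Injective T := by
      rw [injective_iff_map_eq_zero]
      intro p hp
      by_contra h0
      have h := LinearMap.congr_fun hp p⁻¹
      simp [T, h0] at h
      exact hl h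
    obtain ⟨p, hp⟩ := (LinearMap.injective_iff_surjective_of_finrank_eq_finrank
      (by rw [Module.finrank_linearMap_self])).1 hT μ
    exact ⟨p, fun t => (LinearMap.congr_fun hp t).symm⟩
  -- squares span
  have hext : ∀ μ ν : K →ₗ[F] F, (∀ k : K, μ (k * k) = ν (k * k)) → ∀ t, μ t = ν t := by
    intro μ ν h t
    by_cases hodd : Odd (Fintype.card F)
    · have h2 : (2 : F) ≠ 0 := PrimeDim.two_ne_zero_of_odd hodd
      have e : (2 : F) • ((2 : F) • t) = (t + 1) * (t + 1) - (t - 1) * (t - 1) := by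
        simp only [two_smul]
        ring
      have h4 : μ ((2 : F) • ((2 : F) • t)) = ν ((2 : F) • ((2 : F) • t)) := by rw [e, map_sub, map_sub, h, h]
      simp only [map_smul, smul_eq_mul] at h4
      exact mul_left_cancel₀ h2 (mul_left_cancel₀ h2 h4)
    · have h20 := two_eq_zero_of_not_odd hodd
      haveI : CharP F 2 := CharTwo.of_one_ne_zero_of_two_eq_zero one_ne_zero h20
      haveI : CharP K 2 := charP_of_injective_algebraMap (algebraMap F K).injective 2
      obtain ⟨s, hs⟩ : IsSquare t := FiniteField.isSquare_of_char_two (by rw [ringChar.eq K 2]) t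
      rw [hs, h]
  have hφex : ∀ v : Fin n → F, ∃ p : K, ∀ k : K, Q (k.1 *ᵥ v) = l (k * k * p) := by
    intro v
    suffices h : ∃ μ : K →ₗ[F] F, ∀ k : K, μ (k * k) = Q (k.1 *ᵥ v) by
      obtain ⟨μ, hμ⟩ := h
      obtain ⟨p, hp⟩ := hdual μ
      exact ⟨p, fun k => by rw [← hμ, hp]⟩
    by_cases hodd : Odd (Fintype.card F)
    · have h2 : (2 : F) ≠ 0 := PrimeDim.two_ne_zero_of_odd hodd
      refine ⟨{ toFun := fun t => B (t.1 *ᵥ v) v / 2
                map_add' := fun a b => by simp [add_mulVec, b_add_left, add_div]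
                map_smul' := fun c a => by simp [smul_mulVec, b_smul_left, mul_div_assoc] }, fun k => ?_⟩
      show B ((k * k : K).1 *ᵥ v) v / 2 = _
      rw [div_eq_iff h2, Subalgebra.coe_mul, ← mulVec_mulVec, hsa k k.2, b_self, mul_comm]
    · have h20 := two_eq_zero_of_not_odd hodd
      haveI : CharP F 2 := CharTwo.of_one_ne_zero_of_two_eq_zero one_ne_zero h20
      haveI : CharP K 2 := charP_of_injective_algebraMap (algebraMap F K).injective 2
      let sq := (frobeniusEquiv K 2).symm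
      have hsq : ∀ t : K, sq t * sq t = t := fun t => by
        rw [← pow_two, ← frobeniusEquiv_def, RingEquiv.apply_symm_apply]
      have hs' : ∀ s : K, sq (s * s) = s := fun s => by
        rw [← pow_two, RingEquiv.symm_apply_eq, frobeniusEquiv_def]
      refine ⟨{ toFun := fun t => Q ((sq t).1 *ᵥ v)
                map_add' := fun a b => ?_
                map_smul' := fun c a => ?_ }, fun k => ?_⟩
      · rw [map_add, Subalgebra.coe_add, add_mulVec, q_add]
        have e : B ((sq a).1 *ᵥ v) ((sq b).1 *ᵥ v) = 0 := by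
          obtain ⟨s, hs⟩ : ∃ s : K, s * s = sq a * sq b := ⟨sq (sq a * sq b), hsq _⟩
          have h := b_self (Q := Q) (s.1 *ᵥ v)
          rw [h20, zero_mul, hsa s s.2, mulVec_mulVec, ← Subalgebra.coe_mul, hs, Subalgebra.coe_mul,
            ← mulVec_mulVec, ← hsa _ (sq a).2] at h
          exact h
        rw [e, add_zero]
      · obtain ⟨d, hd⟩ : IsSquare c := FiniteField.isSquare_of_char_two (by rw [ringChar.eq F 2]) c
        have e : sq (c • a) = d • sq a := by
          conv_lhs => rw [hd, ← hsq a, ← smul_mul_smul_comm]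
          exact hs' _
        rw [e, Subalgebra.coe_smul, smul_mulVec, q_smul, ← hd]
        rfl
      · show Q ((sq (k * k)).1 *ᵥ v) = _
        rw [hs']
  choose φ hφ using hφex
  have huniq : ∀ (v : Fin n → F) (p : K), (∀ k : K, Q (k.1 *ᵥ v) = l (k * k * p)) → p = φ v := by
    intro v p hp
    by_contra hne
    have h := hext (l.comp (LinearMap.mulRight F (p - φ v))) 0
      (fun k => by simp [mul_sub, ← hp, ← hφ]) (p - φ v)⁻¹
    simp [inv_mul_cancel₀ (sub_ne_zero.2 hne)] at h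
    exact hl h
  have hφsmul : ∀ (a : K) v, φ (a.1 *ᵥ v) = a * a * φ v := fun a v => by
    refine (huniq _ _ fun k => ?_).symm
    rw [mulVec_mulVec, ← Subalgebra.coe_mul, hφ]
    congr 1
    ring
  -- the bilinear form
  have hpol : ∀ u v (t : K), B (t.1 *ᵥ u) v = l (t * (φ (u + v) - φ u - φ v)) := by
    intro u v
    let μ : K →ₗ[F] F :=
      { toFun := fun t => B (t.1 *ᵥ u) v
        map_add' := fun a b => by simp [add_mulVec, b_add_left]
        map_smul' := fun c a => by simp [smul_mulVec, b_smul_left] }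
    refine fun t => hext μ (l.comp (LinearMap.mulRight F (φ (u + v) - φ u - φ v))) (fun k => ?_) t
    show B ((k * k : K).1 *ᵥ u) v = l (k * k * _)
    rw [Subalgebra.coe_mul, ← mulVec_mulVec, hsa k k.2, mul_sub, mul_sub, map_sub, map_sub, ← hφ, ← hφ, ← hφ,
      mulVec_add, QuadraticMap.polar]
  let β : (Fin n → F) → (Fin n → F) → K := fun u v => φ (u + v) - φ u - φ v
  have hβuniq : ∀ u v (p : K), (∀ t : K, B (t.1 *ᵥ u) v = l (t * p)) → p = β u v := by
    intro u v p hp
    by_contra hne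
    have h := hp (p - β u v)⁻¹
    rw [hpol u v, ← sub_eq_zero, ← map_sub, ← mul_sub, show (φ (u + v) - φ u - φ v) - p = -(p - β u v) by
      simp [β], mul_neg, inv_mul_cancel₀ (sub_ne_zero.2 hne), map_neg, neg_eq_zero] at h
    exact hl h
  have hβsmul : ∀ (a b : K) u v, β (a.1 *ᵥ u) (b.1 *ᵥ v) = a * b * β u v := fun a b u v => by
    refine (hβuniq _ _ _ fun t => ?_).symm
    rw [mulVec_mulVec, ← hsa b b.2, mulVec_mulVec, ← Subalgebra.coe_mul, ← Subalgebra.coe_mul, hpol]
    congr 1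
    ring
  have hφadd : ∀ u v, φ (u + v) = φ u + φ v + β u v := fun u v => by simp [β]
  -- a first basis
  have hφ0 : ∀ v : Fin n → F, v ≠ 0 → φ v ≠ 0 := fun v hv h => by
    obtain ⟨k, hk, hkv⟩ := haniso v hv
    exact hkv (by rw [hφ v ⟨k, hk⟩, h, mul_zero, map_zero])
  obtain ⟨v, hv⟩ := exists_ne (0 : Fin n → F)
  have hinj : ∀ (a : K) (u : Fin n → F), a.1 *ᵥ u = 0 → a = 0 ∨ u = 0 := fun a u h => by
    by_cases ha : a = 0
    · exact Or.inl ha
    · right
      rw [← one_mulVec u, show (1 : Matrix (Fin n) (Fin n) F) = (a⁻¹ * a : K).1 by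
        rw [inv_mul_cancel₀ ha]; rfl, Subalgebra.coe_mul, ← mulVec_mulVec, h, mulVec_zero]
  let f : K →ₗ[F] (Fin n → F) :=
    { toFun := fun k => k.1 *ᵥ v
      map_add' := fun a b => by simp [add_mulVec]
      map_smul' := fun r a => by simp [smul_mulVec] }
  obtain ⟨w, hw⟩ : ∃ w, w ∉ LinearMap.range f := by
    by_contra hc
    push Not at hc
    have h := LinearMap.finrank_range_le f
    rw [Submodule.eq_top_iff'.2 hc, finrank_top, Module.finrank_fin_fun, hK.finrank_eq] at h
    omega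
  have hcoord : ∀ x y : K, φ (x.1 *ᵥ v + y.1 *ᵥ w) = φ v * x ^ 2 + β v w * x * y + φ w * y ^ 2 := fun x y => by
    rw [hφadd, hφsmul, hφsmul, hβsmul]
    ring
  have hindep : ∀ x y : K, x.1 *ᵥ v + y.1 *ᵥ w = 0 → x = 0 ∧ y = 0 := by
    intro x y h
    by_cases hy : y = 0
    · subst hy
      exact ⟨(hinj x v (by simpa using h)).resolve_right hv, rfl⟩
    · exfalso
      refine hw ⟨-(y⁻¹ * x), ?_⟩
      show (-(y⁻¹ * x) : K).1 *ᵥ v = w
      have e := congrArg (fun z => (y⁻¹ : K).1 *ᵥ z) h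
      simp only [mulVec_add, mulVec_mulVec, ← Subalgebra.coe_mul, inv_mul_cancel₀ hy, mulVec_zero] at e
      rw [show ((1 : K) : Matrix (Fin n) (Fin n) F) = 1 from rfl, one_mulVec] at e
      rw [Subalgebra.coe_neg, neg_mulVec, eq_neg_of_add_eq_zero_left e, neg_neg]
  have hp := hφ0 v hv
  have hMS : ∀ z₁ z₂ : K, z₁ ^ 2 + β v w / φ v * z₁ * z₂ + φ w / φ v * z₂ ^ 2 = 0 → z₁ = 0 ∧ z₂ = 0 := by
    intro z₁ z₂ h
    by_contra hne
    refine hφ0 _ (fun e => hne (hindep z₁ z₂ e)) ?_
    rw [hcoord]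
    field_simp at h
    linear_combination h
  obtain ⟨a₀, b₀, hab⟩ := CfsgLib.Classical.RestrictScalars.exists_ab (F := F)
  -- no root in the field of odd degree
  have habK : ∀ z₁ z₂ : K, z₁ ^ 2 + algebraMap F K a₀ * z₁ * z₂ + algebraMap F K b₀ * z₂ ^ 2 = 0 →
      z₁ = 0 ∧ z₂ = 0 := by
    intro z₁ z₂ h
    by_cases hz : z₂ = 0
    · subst hz
      exact ⟨by simpa using h, rfl⟩
    exfalso
    obtain ⟨t, ht⟩ : ∃ t : K, t ^ 2 + algebraMap F K a₀ * t + algebraMap F K b₀ = 0 :=
      ⟨z₁ / z₂, by field_simp; linear_combination h⟩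
    let p : Polynomial F := Polynomial.X ^ 2 + Polynomial.C a₀ * Polynomial.X + Polynomial.C b₀
    have hdeg : p.natDegree = 2 := by simp only [p]; compute_degree!
    have hirr' : Irreducible p := by
      refine Polynomial.irreducible_of_degree_le_three_of_not_isRoot (by rw [hdeg]; decide) fun s hs => ?_
      simp only [p, Polynomial.IsRoot.def, Polynomial.eval_add, Polynomial.eval_pow, Polynomial.eval_X,
        Polynomial.eval_mul, Polynomial.eval_C] at hs
      exact one_ne_zero (hab s 1 (by linear_combination hs)).2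
    have hmon : p.Monic := by simp only [p]; monicity!
    have hmin : p = minpoly F t := minpoly.eq_of_irreducible_of_monic hirr' (by simp [p, ht]) hmon
    have hd := minpoly.degree_dvd (K := F) (L := K) (x := t) (IsIntegral.of_finite F t)
    rw [← hmin, hdeg, hK.finrank_eq] at hd
    exact (Nat.not_even_iff_odd.2 hr) (even_iff_two_dvd.2 hd)
  obtain ⟨e, he⟩ := CfsgLib.Classical.OrthModels.bin_bin (β v w / φ v) (φ w / φ v) (algebraMap F K a₀)
    (algebraMap F K b₀) hMS habK
  -- the second basis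
  let e₁ : Fin 2 → K := e.symm ![1, 0]
  let e₂ : Fin 2 → K := e.symm ![0, 1]
  let v' := (e₁ 0).1 *ᵥ v + (e₁ 1).1 *ᵥ w
  let w' := (e₂ 0).1 *ᵥ v + (e₂ 1).1 *ᵥ w
  let E₀ : K × K →ₗ[F] (Fin n → F) :=
    { toFun := fun z => z.1.1 *ᵥ v' + z.2.1 *ᵥ w'
      map_add' := fun a b => by simp [add_mulVec]; abel
      map_smul' := fun c a => by simp [smul_mulVec, smul_add] }
  have hlin : ∀ x y : K, e.symm ![x, y] = x • e₁ + y • e₂ := fun x y => by
    rw [← map_smul, ← map_smul, ← map_add]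
    congr 1
    funext i
    fin_cases i <;> simp
  have hE : ∀ x y : K, E₀ (x, y) = (e.symm ![x, y] 0).1 *ᵥ v + (e.symm ![x, y] 1).1 *ᵥ w := fun x y => by
    rw [hlin]
    simp only [E₀, v', w', LinearMap.coe_mk, AddHom.coe_mk, Pi.add_apply, Pi.smul_apply, smul_eq_mul,
      Subalgebra.coe_add, Subalgebra.coe_mul, add_mulVec, mulVec_add, mulVec_mulVec]
    abel
  have hφE : ∀ x y : K, φ (E₀ (x, y)) = φ v * (x ^ 2 + algebraMap F K a₀ * x * y + algebraMap F K b₀ * y ^ 2) := by
    intro x y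
    have h := he (e.symm ![x, y])
    rw [e.apply_symm_apply] at h
    simp only [bin, Matrix.cons_val_zero, Matrix.cons_val_one] at h
    rw [hE, hcoord, h]
    field_simp
  have hEinj : Function.Injective E₀ := by
    rw [injective_iff_map_eq_zero]
    rintro ⟨x, y⟩ h
    rw [hE] at h
    obtain ⟨h0, h1⟩ := hindep _ _ h
    have h' : e.symm ![x, y] = 0 := funext fun i => by fin_cases i <;> assumption
    have := e.symm.map_eq_zero_iff.1 h'
    exact Prod.ext (by simpa using congrFun this 0) (by simpa using congrFun this 1)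
  let E : (K × K) ≃ₗ[F] (Fin n → F) := LinearMap.linearEquivOfInjective E₀ hEinj
    (by rw [Module.finrank_prod, hK.finrank_eq, Module.finrank_fin_fun, hnr, two_mul])
  have hEE : ∀ z, E z = E₀ z := fun z => rfl
  let J : K × K →ₗ[F] K × K :=
    { toFun := fun z => (-(b₀ • z.2), z.1 + a₀ • z.2)
      map_add' := fun a b => by ext <;> simp [smul_add] <;> abel
      map_smul' := fun c a => by ext <;> simp [smul_comm c] }
  obtain ⟨Y, hY⟩ : ∃ Y : Matrix (Fin n) (Fin n) F, ∀ z, Y *ᵥ E z = E (J z) := by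
    refine ⟨LinearMap.toMatrix' (E.toLinearMap ∘ₗ J ∘ₗ E.symm.toLinearMap), fun z => ?_⟩
    rw [← Matrix.toLin'_apply, Matrix.toLin'_toMatrix']
    simp
  have hk_E : ∀ (k : K) z, k.1 *ᵥ E z = E (k * z.1, k * z.2) := fun k z => by
    simp [hEE, E₀, mulVec_add, mulVec_mulVec]
  have hYK : ∀ k ∈ K, Y * k = k * Y := by
    intro k hk
    refine Matrix.toLin'.injective (LinearMap.ext fun u => ?_)
    obtain ⟨z, rfl⟩ := E.surjective u
    simp only [Matrix.toLin'_mul, LinearMap.comp_apply, Matrix.toLin'_apply]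
    rw [hk_E ⟨k, hk⟩, hY, hY, hk_E ⟨k, hk⟩]
    congr 1
    ext <;> simp [J, mul_add]
  have hsmulK : ∀ (c : F) (x : K), c • x = algebraMap F K c * x := fun c x => Algebra.smul_def c x
  have hφY : ∀ (c d : F) u, φ ((c • 1 + d • Y) *ᵥ u) =
      algebraMap F K (c * c + a₀ * c * d + b₀ * (d * d)) * φ u := by
    intro c d u
    obtain ⟨⟨x, y⟩, rfl⟩ := E.surjective u
    rw [add_mulVec, smul_mulVec, smul_mulVec, one_mulVec, hY, ← map_smul, ← map_smul, ← map_add]
    simp only [hEE, J, LinearMap.coe_mk, AddHom.coe_mk, Prod.smul_mk, Prod.mk_add_mk, hφE, hsmulK, map_add, map_mul]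
    ring
  have hQY : ∀ (c d : F) u, Q ((c • 1 + d • Y) *ᵥ u) = (c * c + a₀ * c * d + b₀ * (d * d)) * Q u := by
    intro c d u
    have h1 : ∀ u, Q u = l (φ u) := fun u => by
      have := hφ u 1
      rwa [one_mul, one_mul, show ((1 : K) : Matrix (Fin n) (Fin n) F) = 1 from rfl, one_mulVec] at this
    rw [h1, h1 u, hφY, ← Algebra.smul_def, map_smul, smul_eq_mul]
  have hY2 : Y * Y = a₀ • Y - b₀ • 1 := by
    refine Matrix.toLin'.injective (LinearMap.ext fun u => ?_)
    obtain ⟨⟨x, y⟩, rfl⟩ := E.surjective u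
    simp only [Matrix.toLin'_apply, sub_mulVec, smul_mulVec, one_mulVec, ← mulVec_mulVec, hY, ← map_smul, ← map_sub]
    congr 1
    refine Prod.ext ?_ ?_ <;> simp [J, smul_add, smul_sub, smul_comm a₀ b₀] <;> abel
  have hBY : ∀ u, B (Y *ᵥ u) u = a₀ * Q u := fun u => by
    have h1 := hQY 1 1 u
    have h2 := hQY 0 1 u
    simp only [zero_smul, zero_add, one_smul, zero_mul, mul_zero, mul_one, one_mul] at h1 h2
    rw [add_mulVec, one_mulVec, q_add, h2, b_comm] at h1
    linear_combination h1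
  have hd := orth_data hB
  have hadjY : adj τ₁ (ogram Q) Y = a₀ • 1 - Y := by
    refine (adj_unique hd fun u w => ?_).symm
    rw [← polar_sform hB, ← polar_sform hB, sub_mulVec, smul_mulVec, one_mulVec, CfsgLib.Orth.b_sub_right,
      b_smul_right]
    have h := hBY (u + w)
    rw [mulVec_add, b_add_left, b_add_right, b_add_right, hBY, hBY, q_add] at h
    have e : B (Y *ᵥ w) u = B u (Y *ᵥ w) := b_comm _ _
    linear_combination h - e
  -- the field
  have hnorm : ∀ c d : F, (c, d) ≠ (0, 0) → c * c + a₀ * c * d + b₀ * (d * d) ≠ 0 := fun c d hne h => by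
    obtain ⟨rfl, rfl⟩ := hab c d (by linear_combination h)
    exact hne rfl
  have hmulY : ∀ c d c' d' : F, (c • (1 : Matrix (Fin n) (Fin n) F) + d • Y) * (c' • 1 + d' • Y) =
      (c * c' - b₀ * (d * d')) • 1 + (c * d' + d * c' + a₀ * (d * d')) • Y := by
    intro c d c' d'
    simp only [add_mul, mul_add, smul_mul_assoc, mul_smul_comm, one_mul, mul_one, hY2, smul_sub, smul_smul,
      add_smul, sub_smul]
    module
  let L : Subalgebra F (Matrix (Fin n) (Fin n) F) :=
    { carrier := {X | ∃ c d : F, X = c • 1 + d • Y}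
      mul_mem' := by rintro _ _ ⟨c, d, rfl⟩ ⟨c', d', rfl⟩; exact ⟨_, _, hmulY c d c' d'⟩
      add_mem' := by rintro _ _ ⟨c, d, rfl⟩ ⟨c', d', rfl⟩; exact ⟨c + c', d + d', by module⟩
      algebraMap_mem' := fun c => ⟨c, 0, by simp [Algebra.algebraMap_eq_smul_one]⟩ }
  have hindep2 : ∀ c d : F, c • (1 : Matrix (Fin n) (Fin n) F) + d • Y = 0 → c = 0 ∧ d = 0 := by
    intro c d h
    by_contra hne
    obtain ⟨u, hu⟩ := exists_ne (0 : Fin n → F)
    refine hφ0 u hu ?_
    have h' := hφY c d u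
    rw [h, zero_mulVec] at h'
    have h0 : φ (0 : Fin n → F) = 0 := (huniq 0 0 fun k => by simp).symm
    rw [h0] at h'
    refine (mul_eq_zero.1 h'.symm).resolve_left ?_
    rw [map_eq_zero_iff _ (FaithfulSMul.algebraMap_injective F K)]
    exact hnorm c d (by simpa using hne)
  have hinvL : ∀ X ∈ L, X ≠ 0 → ∃ Z ∈ L, X * Z = 1 := by
    rintro _ ⟨c, d, rfl⟩ hne
    have hN := hnorm c d (fun e => hne (by obtain ⟨rfl, rfl⟩ := Prod.mk.injEq .. ▸ e; simp))
    obtain ⟨N, hNdef⟩ : ∃ N, N = c * c + a₀ * c * d + b₀ * (d * d) := ⟨_, rfl⟩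
    refine ⟨_, ⟨(c + a₀ * d) / N, -d / N, rfl⟩, ?_⟩
    rw [hmulY]
    have e1 : c * ((c + a₀ * d) / N) - b₀ * (d * (-d / N)) = 1 := by
      rw [← hNdef] at hN
      field_simp
      rw [hNdef]
      ring
    have e2 : c * (-d / N) + d * ((c + a₀ * d) / N) + a₀ * (d * (-d / N)) = 0 := by
      rw [← hNdef] at hN
      field_simp
      ring
    rw [e1, e2, one_smul, zero_smul, add_zero]
  have hLd : Module.finrank F L = 2 := by
    let g : (Fin 2 → F) →ₗ[F] L :=
      { toFun := fun z => ⟨z 0 • 1 + z 1 • Y, _, _, rfl⟩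
        map_add' := fun a b => Subtype.ext (by simp [add_smul]; abel)
        map_smul' := fun c a => Subtype.ext (by simp [smul_smul]) }
    have hg : Function.Bijective g := by
      refine ⟨(injective_iff_map_eq_zero g).2 fun z hz => ?_, fun ⟨X, c, d, hX⟩ => ⟨![c, d], Subtype.ext ?_⟩⟩
      · obtain ⟨h0, h1⟩ := hindep2 _ _ (congrArg Subtype.val hz)
        funext i
        fin_cases i <;> assumption
      · simp [g, hX]
    rw [← (LinearEquiv.ofBijective g hg).finrank_eq, Module.finrank_fin_fun]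
  have hL : IsFieldSubalgebra 2 L := ⟨by
    rintro _ ⟨c, d, rfl⟩ _ ⟨c', d', rfl⟩
    rw [hmulY, hmulY]
    congr 2 <;> ring, hinvL, hLd⟩
  have hadjL : ∀ c d : F, adj τ₁ (ogram Q) (c • 1 + d • Y) = (c + d * a₀) • 1 + (-d) • Y := by
    intro c d
    refine (adj_unique hd fun u w => ?_).symm
    have h : ∀ u w, B (Y *ᵥ u) w = B u ((a₀ • 1 - Y) *ᵥ w) := fun u w => by
      rw [polar_sform hB, polar_sform hB, sform_adj hd, hadjY]
    rw [← polar_sform hB, ← polar_sform hB]
    simp only [add_mulVec, smul_mulVec, one_mulVec, b_add_left, b_add_right, b_smul_left, b_smul_right, h,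
      sub_mulVec, CfsgLib.Orth.b_sub_right]
    ring
  refine ⟨hirr, L, hL, ?_, ?_, ?_, ?_, fun g hg => ?_⟩
  · rintro _ ⟨c, d, rfl⟩
    exact ⟨_, _, hadjL c d⟩
  · intro h
    have h' := h (0 • 1 + (1 : F) • Y) ⟨0, 1, rfl⟩
    rw [hadjL, ← sub_eq_zero] at h'
    have h'' : a₀ • (1 : Matrix (Fin n) (Fin n) F) + (-2 : F) • Y = 0 := by rw [← h']; module
    obtain ⟨ha, h2⟩ := hindep2 _ _ h''
    exact CfsgLib.Classical.BinaryNorm.a_ne_zero_of_char_two a₀ b₀ hab
      ((CharP.ringChar_of_prime_eq_zero Nat.prime_two (by simpa using h2))) ha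
  · rintro _ ⟨c, d, rfl⟩ h
    rw [hadjL, ← sub_eq_zero] at h
    have h'' : (d * a₀) • (1 : Matrix (Fin n) (Fin n) F) + (-2 * d) • Y = 0 := by rw [← h]; module
    obtain ⟨ha, h2⟩ := hindep2 _ _ h''
    refine ⟨c, ?_⟩
    by_cases hd0 : d = 0
    · rw [hd0, zero_smul, add_zero]
    exfalso
    exact CfsgLib.Classical.BinaryNorm.a_ne_zero_of_char_two a₀ b₀ hab
      ((CharP.ringChar_of_prime_eq_zero Nat.prime_two (by simpa [hd0] using h2)))
      ((mul_eq_zero.1 ha).resolve_left hd0)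
  · rintro _ ⟨c, d, rfl⟩
    exact ⟨_, hQY c d⟩
  -- invariance
  have key : ∀ g ∈ H, g.val * Y * (g⁻¹).val ∈ L := by
    intro g hg
    obtain ⟨X, hXdef⟩ : ∃ X, X = g.val * Y * (g⁻¹).val := ⟨_, rfl⟩
    rw [← hXdef]
    have hXK : ∀ k ∈ K, X * k = k * X := by
      intro k hk
      have hk' := (hle (inv_mem hg) k).1 hk
      rw [inv_inv] at hk'
      have e := hYK _ hk'
      have e' := congrArg (fun Z => g.val * Z * (g⁻¹).val) e
      simp only [mul_assoc, Units.mul_inv, mul_one, Units.mul_inv_cancel_left] at e'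
      rw [hXdef]
      simp only [mul_assoc]
      exact e'
    have hX2 : X * X = a₀ • X - b₀ • 1 := by
      rw [hXdef, show g.val * Y * (g⁻¹).val * (g.val * Y * (g⁻¹).val) = g.val * (Y * Y) * (g⁻¹).val by
        simp [mul_assoc], hY2]
      simp [mul_sub, sub_mul, mul_assoc]
    have hBX : ∀ u, B (X *ᵥ u) u = a₀ * Q u := fun u => by
      obtain ⟨u', rfl⟩ : ∃ u', u = g.val *ᵥ u' := ⟨(g⁻¹).val *ᵥ u, (PrimeDim.mulVec_inv_cancel g u).symm⟩
      rw [hXdef, mulVec_mulVec, mul_assoc _ (g⁻¹).val, Units.inv_mul, mul_one, ← mulVec_mulVec,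
        PrimeDim.omegaGL_polar (hH hg), hBY, omega_quad hH hg]
    -- X is a combination over the field
    have hβX : ∀ z, β (X *ᵥ z) z = algebraMap F K a₀ * φ z := by
      intro z
      refine (hβuniq _ _ _ fun t => ?_).symm
      have hsq : ∀ k : K, B ((k * k : K).1 *ᵥ (X *ᵥ z)) z = l (k * k * (algebraMap F K a₀ * φ z)) := fun k => by
        rw [Subalgebra.coe_mul, ← mulVec_mulVec, hsa k k.2, mulVec_mulVec, ← hXK k k.2, ← mulVec_mulVec, hBX, hφ,
          mul_left_comm, ← Algebra.smul_def, map_smul, smul_eq_mul]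
      exact hext
        { toFun := fun t => B (t.1 *ᵥ (X *ᵥ z)) z
          map_add' := fun a b => by simp [add_mulVec, add_mul, b_add_left]
          map_smul' := fun c a => by simp [smul_mulVec, b_smul_left] }
        (l.comp (LinearMap.mulRight F (algebraMap F K a₀ * φ z))) hsq t
    obtain ⟨⟨a, b⟩, hab'⟩ := E.surjective (X *ᵥ E (1, 0))
    obtain ⟨⟨c, d⟩, hcd⟩ := E.surjective (X *ᵥ E (0, 1))
    have hXE : ∀ x y : K, X *ᵥ E (x, y) = E (x * a + y * c, x * b + y * d) := by
      intro x y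
      have e : E (x, y) = x.1 *ᵥ E (1, 0) + y.1 *ᵥ E (0, 1) := by rw [hk_E, hk_E, ← map_add]; simp
      rw [e, mulVec_add, mulVec_mulVec, hXK _ x.2, mulVec_mulVec, hXK _ y.2, ← mulVec_mulVec, ← mulVec_mulVec,
        ← hab', ← hcd, hk_E, hk_E, ← map_add]
      simp
    obtain ⟨A, hA⟩ : ∃ A, A = algebraMap F K a₀ := ⟨_, rfl⟩
    obtain ⟨C, hC⟩ : ∃ C, C = algebraMap F K b₀ := ⟨_, rfl⟩
    have heq : ∀ x y : K, 2 * (x * a + y * c) * x + A * ((x * a + y * c) * y + x * (x * b + y * d)) +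
        2 * C * (x * b + y * d) * y = A * (x ^ 2 + A * x * y + C * y ^ 2) := by
      intro x y
      have h := hβX (E (x, y))
      rw [hXE] at h
      simp only [β, hEE, ← map_add, Prod.mk_add_mk] at h
      rw [hφE, hφE, hφE, ← hA, ← hC] at h
      refine mul_left_cancel₀ hp ?_
      linear_combination h
    have h1 := heq 1 0
    have h2 := heq 0 1
    have h3 := heq 1 1
    have hdisc : A * A - 4 * C ≠ 0 := by
      have h4 := CfsgLib.Orth.aniso_disc hab
      rw [hA, hC, ← map_mul, show (4 : K) = algebraMap F K 4 from (map_ofNat _ 4).symm, ← map_mul, ← map_sub,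
        map_ne_zero_iff _ (FaithfulSMul.algebraMap_injective F K)]
      intro e0
      exact h4 (by linear_combination -e0)
    have hc' : c + C * b = 0 := (mul_eq_zero.1 (show (A * A - 4 * C) * (c + C * b) = 0 by
      linear_combination A * (h2 - C * h1) - 2 * C * (h3 - h1 - h2 - A * h1))).resolve_left hdisc
    have hd' : d - a - A * b = 0 := (mul_eq_zero.1 (show (A * A - 4 * C) * (d - a - A * b) = 0 by
      linear_combination A * (h3 - h1 - h2 - A * h1) - 2 * (h2 - C * h1))).resolve_left hdisc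
    -- two roots of one quadratic in a field
    have hXval : X = a.1 + b.1 * Y := by
      refine Matrix.toLin'.injective (LinearMap.ext fun u => ?_)
      obtain ⟨⟨x, y⟩, rfl⟩ := E.surjective u
      simp only [Matrix.toLin'_apply, add_mulVec, ← mulVec_mulVec]
      rw [hXE, hY, hk_E, hk_E, ← map_add]
      congr 1
      refine Prod.ext ?_ ?_
      · simp only [J, LinearMap.coe_mk, AddHom.coe_mk, Prod.mk_add_mk, hsmulK, ← hC]
        linear_combination y * hc'
      · simp only [J, LinearMap.coe_mk, AddHom.coe_mk, Prod.mk_add_mk, hsmulK, ← hA]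
        linear_combination y * hd'
    have hXY : X * Y = Y * X := by
      rw [hXval, add_mul, mul_add, hYK _ a.2, ← mul_assoc Y, hYK _ b.2]
    have hprod : (X - Y) * (X - (a₀ • 1 - Y)) = 0 := by
      simp only [sub_mul, mul_sub, mul_smul_comm, mul_one, hXY, hX2, hY2]
      module
    by_cases hne : X = Y
    · exact ⟨0, 1, by simp [hne]⟩
    obtain ⟨a', ha'⟩ : ∃ a' : K, a' = a := ⟨_, rfl⟩
    obtain ⟨b', hb'⟩ : ∃ b' : K, b' = b - 1 := ⟨_, rfl⟩
    have hdiff : X - Y = a'.1 + b'.1 * Y := by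
      rw [hXval, ha', hb', Subalgebra.coe_sub, sub_mul, show ((1 : K) : Matrix (Fin n) (Fin n) F) = 1 from rfl,
        one_mul, add_sub_assoc]
    have hN : a' ^ 2 + A * a' * b' + C * b' ^ 2 ≠ 0 := fun h0 => by
      obtain ⟨e1, e2⟩ := habK a' b' (by rw [← hA, ← hC]; exact h0)
      refine hne (sub_eq_zero.1 ?_)
      rw [hdiff, e1, e2]
      simp
    have hunit : ((a' + A * b' : K).1 - b'.1 * Y) * (a'.1 + b'.1 * Y) = (a' ^ 2 + A * a' * b' + C * b' ^ 2 : K).1 := by
      have hA' : A.1 = a₀ • (1 : Matrix (Fin n) (Fin n) F) := by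
        rw [hA]; exact Algebra.algebraMap_eq_smul_one (R := F) (A := Matrix (Fin n) (Fin n) F) a₀
      have hC' : C.1 = b₀ • (1 : Matrix (Fin n) (Fin n) F) := by
        rw [hC]; exact Algebra.algebraMap_eq_smul_one (R := F) (A := Matrix (Fin n) (Fin n) F) b₀
      simp only [Subalgebra.coe_add, Subalgebra.coe_mul, SubmonoidClass.coe_pow, hA', hC', pow_two, sub_mul,
        add_mul, mul_add, smul_mul_assoc, one_mul, mul_assoc]
      rw [show Y * (b'.1 * Y) = b'.1 * (Y * Y) by rw [← mul_assoc, hYK _ b'.2, mul_assoc],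
        show Y * a'.1 = a'.1 * Y from hYK _ a'.2, hY2]
      simp only [mul_sub, mul_smul_comm, mul_one, ← mul_assoc, hK.comm _ b'.2 _ a'.2]
      abel
    have hzero : X - (a₀ • 1 - Y) = 0 := by
      have h := congrArg (fun Z => ((a' ^ 2 + A * a' * b' + C * b' ^ 2)⁻¹ : K).1 *
        (((a' + A * b' : K).1 - b'.1 * Y) * Z)) hprod
      simp only [mul_zero] at h
      rw [hdiff, ← mul_assoc _ (a'.1 + b'.1 * Y), hunit, ← mul_assoc, ← Subalgebra.coe_mul, inv_mul_cancel₀ hN,
        show ((1 : K) : Matrix (Fin n) (Fin n) F) = 1 from rfl, one_mul] at h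
      exact h
    rw [sub_eq_zero.1 hzero]
    exact ⟨a₀, -1, by module⟩
  have hfwd : ∀ g ∈ H, ∀ Z ∈ L, g.val * Z * (g⁻¹).val ∈ L := by
    rintro g hg _ ⟨c, d, rfl⟩
    rw [show g.val * (c • 1 + d • Y) * (g⁻¹).val = c • 1 + d • (g.val * Y * (g⁻¹).val) by
      simp [mul_add, add_mul]]
    exact add_mem (L.smul_mem (one_mem L) c) (L.smul_mem (key g hg) d)
  intro Z
  refine ⟨hfwd g hg Z, fun hZ => ?_⟩
  have h := hfwd _ (inv_mem hg) _ hZ
  simpa [mul_assoc] using h

end CfsgLib.Asch.OrthFieldTwo
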