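import Cfsg.Agent.Lib.Classical.AschOrth
import Cfsg.Agent.Lib.Classical.AschNotLe

set_option autoImplicit false
set_option linter.unusedSectionVars false

/-!
What does not contain the commutator subgroup of an orthogonal group.
-/

namespace CfsgLib.Asch.OrthNotLe

open Matrix
open Cfsg.Geo (omegaGL subspaceStabilizer decompositionStabilizer subalgebraNormalizer IsFieldSubalgebra
  tensorProductSubgroup tensorWreathSubgroup glReindex)
open CfsgLib.Orth (Grp Nondeg El ap IsSiegel b_comm b_add_left b_add_right b_smul_left b_smul_right b_zero_left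
  b_zero_right b_self b_self_zero q_add q_smul)
open scoped MatrixGroups Kronecker

variable {F : Type*} [Field F] [Fintype F] {n : ℕ} {Q : QuadraticForm F (Fin n → F)}

local notation "B" => QuadraticMap.polar (DFunLike.coe Q)
local notation "τ₁" => RingEquiv.refl F

theorem siegel_mem (hB : Nondeg Q) (hn : 5 ≤ n) {u v : Fin n → F} {g : Grp Q} (h : IsSiegel u v g) :
    (g : GL (Fin n) F) ∈ omegaGL ⇑Q :=
  PrimeDim.El_mem_omegaGL hB hn (CfsgLib.Orth.siegel_mem_El h)

theorem exists_singular_move (hB : Nondeg Q) (hn : 5 ≤ n) {u w : Fin n → F} (hu : Q u = 0) (hw : Q w = 0)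
    (hu0 : u ≠ 0) (hw0 : w ≠ 0) : ∃ g ∈ omegaGL ⇑Q, g.val *ᵥ u = w := by
  obtain ⟨e, he, hexy⟩ := CfsgLib.Orth.exists_move_singular hB (by rw [Module.finrank_fin_fun]; exact hn) hu hw hu0 hw0
  exact ⟨_, PrimeDim.El_mem_omegaGL hB hn he, hexy⟩

/-- Two orthogonal vectors perpendicular to `u` cannot be all that is perpendicular to `u`. -/
theorem exists_pair_perp (hB : Nondeg Q) (hn : 5 ≤ n) (u : Fin n → F) :
    ∃ v w, B u v = 0 ∧ B u w = 0 ∧ B v w ≠ 0 := by
  by_contra hc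
  push Not at hc
  let U := LinearMap.ker (QuadraticMap.polarBilin Q u)
  have hU : ∀ {v}, v ∈ U ↔ B u v = 0 := fun {v} => LinearMap.mem_ker
  have hle : U ≤ CfsgLib.Orth.orth Q U := fun v hv =>
    CfsgLib.Orth.mem_orth.2 fun w hw => hc w v (hU.1 hw) (hU.1 hv)
  have h1 := CfsgLib.Orth.two_mul_finrank_le hB (W := U) hle
  have h2 := (QuadraticMap.polarBilin Q u).finrank_range_add_finrank_ker
  have h3 : Module.finrank F (LinearMap.range (QuadraticMap.polarBilin Q u)) ≤ 1 :=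
    (Submodule.finrank_le _).trans_eq (Module.finrank_self F)
  rw [Module.finrank_fin_fun] at h1 h2
  change _ + Module.finrank F U = n at h2
  omega

theorem not_le_stab (hB : Nondeg Q) (hn : 5 ≤ n) {W : Submodule F (Fin n → F)} (hW0 : W ≠ ⊥) (hW1 : W ≠ ⊤) :
    ¬ omegaGL ⇑Q ≤ subspaceStabilizer W := by
  classical
  intro hle
  have hd : 5 ≤ Module.finrank F (Fin n → F) := by rw [Module.finrank_fin_fun]; exact hn
  obtain ⟨x, hx, hx0⟩ := Submodule.exists_mem_ne_zero_of_ne_bot hW0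
  obtain ⟨y₀, hy₀, hy₀0⟩ := CfsgLib.Orth.exists_nonzero_singular (Q := Q) hd
  obtain ⟨u, hu, hux⟩ := CfsgLib.Orth.exists_nonorth_singular hB hy₀ hy₀0 hx0
  have hxu : B x u ≠ 0 := by rwa [b_comm]
  have key : ∀ v, B u v = 0 → B x u • v - B x v • u - (Q v * B x u) • u ∈ W := by
    intro v hv
    obtain ⟨g, hg⟩ := CfsgLib.Orth.exists_siegel hB hu hv
    have h : ap g x ∈ W := ((hle (siegel_mem hB hn hg)) x).1 hx
    rw [hg.2.2] at h
    have e : B x u • v - B x v • u - (Q v * B x u) • u =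
        x + B x u • v - B x v • u - (Q v * B x u) • u - x := by abel
    rw [e]
    exact W.sub_mem h hx
  obtain ⟨v, w, hv, hw, hvw⟩ := exists_pair_perp hB hn u
  have huW : u ∈ W := by
    have h3 := key (v + w) (by rw [b_add_right, hv, hw, add_zero])
    have h4 := W.sub_mem (W.sub_mem h3 (key v hv)) (key w hw)
    rw [q_add, b_add_right] at h4
    have e : B x u • (v + w) - (B x v + B x w) • u - ((Q v + Q w + B v w) * B x u) • u -
        (B x u • v - B x v • u - (Q v * B x u) • u) - (B x u • w - B x w • u - (Q w * B x u) • u) =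
        (-(B v w * B x u)) • u := by module
    rw [e] at h4
    exact (W.smul_mem_iff (neg_ne_zero.2 (mul_ne_zero hvw hxu))).1 h4
  have hle' : ∀ z, B u z = 0 → z ∈ W := by
    intro z hz
    have h3 : B x u • z ∈ W := by
      have := W.add_mem (W.add_mem (key z hz) (W.smul_mem (B x z) huW)) (W.smul_mem (Q z * B x u) huW)
      convert this using 1
      module
    exact (W.smul_mem_iff hxu).1 h3
  apply hW1
  refine eq_top_iff.2 fun z _ => ?_
  have hux' : B u x ≠ 0 := hux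
  have h := W.add_mem (hle' (z - (B u z / B u x) • x) (by
    rw [CfsgLib.Orth.b_sub_right, b_smul_right, div_mul_cancel₀ _ hux', sub_self])) (W.smul_mem (B u z / B u x) hx)
  simpa using h

/-- A decomposition whose blocks, or pairs of blocks, contain singular vectors is not invariant. -/
theorem not_le_decomp (hB : Nondeg Q) (hn : 5 ≤ n) {t k : ℕ} {D : Fin t → Submodule F (Fin n → F)}
    (hD : Cfsg.Geo.IsMDecomposition k D)
    (h : ((∀ i j, i ≠ j → ∀ u ∈ D i, ∀ v ∈ D j, B u v = 0) ∧ (3 ≤ k ∨ (k = 2 ∧ 4 ≤ t) ∨ (k = 1 ∧ 6 ≤ t))) ∨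
      (3 ≤ k ∧ ∀ i, Cfsg.Geo.IsTotallySingularQuad ⇑Q (D i))) :
    ¬ omegaGL ⇑Q ≤ decompositionStabilizer D := by
  classical
  intro hle
  let b := fun i => Module.finBasisOfFinrankEq F (D i) (hD.finrank_eq i)
  have hint : DirectSum.IsInternal D :=
    (DirectSum.isInternal_submodule_iff_iSupIndep_and_iSup_eq_top D).2 ⟨hD.indep, hD.iSup_eq_top⟩
  let C := hint.collectedBasis b
  let supp : (Fin n → F) → Finset (Fin t) := fun x => Finset.univ.filter fun i => ∃ a, C.repr x ⟨i, a⟩ ≠ 0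
  have hzero : ∀ (s : Finset (Fin t)) x, x ∈ (⨆ i ∈ s, D i) → ∀ i ∉ s, ∀ a, C.repr x ⟨i, a⟩ = 0 := by
    intro s x hx i hi a
    have hle : (⨆ j ∈ s, D j) ≤ LinearMap.ker ((Finsupp.lapply (⟨i, a⟩ : Σ i, Fin k)).comp C.repr.toLinearMap) := by
      refine iSup₂_le fun j hj y hy => ?_
      simp only [LinearMap.mem_ker, LinearMap.comp_apply, LinearEquiv.coe_coe, Finsupp.lapply_apply]
      exact hint.collectedBasis_repr_of_mem_ne b (show j ≠ i from fun h => hi (h ▸ hj)) hy
    simpa using hle hx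
  have hin : ∀ x (s : Finset (Fin t)), supp x ⊆ s → x ∈ ⨆ i ∈ s, D i := by
    intro x s hs
    rw [← C.sum_repr x]
    refine Submodule.sum_mem _ fun p _ => ?_
    by_cases hp : C.repr x p = 0
    · rw [hp, zero_smul]
      exact zero_mem _
    · exact Submodule.smul_mem _ _ (Submodule.mem_iSup_of_mem p.1 (Submodule.mem_iSup_of_mem
        (hs (Finset.mem_filter.2 ⟨Finset.mem_univ _, p.2, hp⟩)) (hint.collectedBasis_mem b p)))
  have hsub : ∀ (s : Finset (Fin t)) x, x ∈ (⨆ i ∈ s, D i) → supp x ⊆ s := fun s x hx i hi => by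
    obtain ⟨a, ha⟩ := (Finset.mem_filter.1 hi).2
    by_contra h'
    exact ha (hzero s x hx i h' a)
  have hmap : ∀ g ∈ omegaGL ⇑Q, ∀ x, (supp (g.val *ᵥ x)).card ≤ (supp x).card := by
    intro g hg x
    obtain ⟨π, hπ⟩ := hle hg
    refine (Finset.card_le_card (hsub ((supp x).image π) _ ?_)).trans Finset.card_image_le
    have hm : Matrix.toLin' g.val x ∈ (⨆ i ∈ supp x, D i).map (Matrix.toLin' g.val) :=
      Submodule.mem_map_of_mem (hin x _ (Finset.Subset.refl _))
    simp only [Submodule.map_iSup, hπ] at hm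
    rw [Matrix.toLin'_apply] at hm
    exact (iSup₂_le fun i hi => le_iSup₂_of_le (π i) (Finset.mem_image_of_mem π hi) le_rfl : (⨆ i ∈ supp x,
      D (π i)) ≤ ⨆ i ∈ (supp x).image π, D i) hm
  -- two groups of blocks
  have ht := hD.two_le
  obtain ⟨c, hc2, hc3, hcase⟩ : ∃ c, 2 * c ≤ t ∧ 3 ≤ c * k ∧ ((∀ i j, i ≠ j → ∀ u ∈ D i, ∀ v ∈ D j, B u v = 0) ∨
      (c = 1 ∧ ∀ i, Cfsg.Geo.IsTotallySingularQuad ⇑Q (D i))) := by
    rcases h with ⟨ho, h | ⟨rfl, h⟩ | ⟨rfl, h⟩⟩ | ⟨h, hts⟩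
    · exact ⟨1, by omega, by omega, Or.inl ho⟩
    · exact ⟨2, by omega, by omega, Or.inl ho⟩
    · exact ⟨3, by omega, by omega, Or.inl ho⟩
    · exact ⟨1, by omega, by omega, Or.inr ⟨rfl, hts⟩⟩
  let s₁ : Finset (Fin t) := Finset.univ.filter fun i => (i : ℕ) < c
  let s₂ : Finset (Fin t) := Finset.univ.filter fun i => c ≤ (i : ℕ) ∧ (i : ℕ) < 2 * c
  have hdisj : Disjoint s₁ s₂ := Finset.disjoint_left.2 fun i h1 h2 => by
    simp [s₁, s₂] at h1 h2
    omega
  have hfin : ∀ (f : Fin c → Fin t), Function.Injective f → ∀ s : Finset (Fin t), (∀ i, f i ∈ s) →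
      c * k ≤ Module.finrank F ↥(⨆ i ∈ s, D i) := by
    intro f hf s hfs
    have hli : LinearIndependent F fun p : Fin c × Fin k => C ⟨f p.1, p.2⟩ :=
      C.linearIndependent.comp _ fun p q e => by
        rw [Sigma.mk.injEq] at e
        exact Prod.ext (hf e.1) (eq_of_heq e.2)
    have h1 := finrank_span_eq_card hli
    rw [Fintype.card_prod, Fintype.card_fin, Fintype.card_fin] at h1
    refine h1 ▸ Submodule.finrank_mono (Submodule.span_le.2 ?_)
    rintro _ ⟨p, rfl⟩
    exact Submodule.mem_iSup_of_mem (f p.1) (Submodule.mem_iSup_of_mem (hfs p.1)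
      (hint.collectedBasis_mem b (⟨f p.1, p.2⟩ : Σ _ : Fin t, Fin k)))
  obtain ⟨x, hx, hx0, hxq⟩ := CfsgLib.Orth.exists_singular (Q := Q) (U := ⨆ i ∈ s₁, D i)
    (hc3.trans (hfin (fun i => ⟨i, by omega⟩) (fun i j e => Fin.ext (by simpa using congrArg Fin.val e)) s₁
      fun i => by simp [s₁]))
  obtain ⟨y, hy, hy0, hyq, hxy⟩ : ∃ y, y ∈ (⨆ i ∈ s₂, D i) ∧ y ≠ 0 ∧ Q y = 0 ∧ B x y = 0 := by
    rcases hcase with ho | ⟨hc1, hts⟩
    · obtain ⟨y, hy, hy0, hyq⟩ := CfsgLib.Orth.exists_singular (Q := Q) (U := ⨆ i ∈ s₂, D i)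
        (hc3.trans (hfin (fun i => ⟨i + c, by omega⟩) (fun i j e => Fin.ext (by simpa using congrArg Fin.val e)) s₂
          fun i => by simp [s₂]; omega))
      refine ⟨y, hy, hy0, hyq, ?_⟩
      have h1 : (⨆ i ∈ s₂, D i) ≤ LinearMap.ker (QuadraticMap.polarBilin Q x) :=
        iSup₂_le fun j hj v hv => LinearMap.mem_ker.2 (by
          show B x v = 0
          have h2 : (⨆ i ∈ s₁, D i) ≤ LinearMap.ker (QuadraticMap.polarBilin Q v) :=
            iSup₂_le fun i hi w hw => LinearMap.mem_ker.2 (by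
              show B v w = 0
              exact ho j i (fun e => Finset.disjoint_left.1 hdisj (e ▸ hi) hj) v hv w hw)
          rw [b_comm]
          exact LinearMap.mem_ker.1 (h2 hx))
      exact LinearMap.mem_ker.1 (h1 hy)
    · subst hc1
      let j : Fin t := ⟨1, by omega⟩
      let φ := (QuadraticMap.polarBilin Q x).comp (D j).subtype
      have h1 := φ.finrank_range_add_finrank_ker
      have h2 : Module.finrank F (LinearMap.range φ) ≤ 1 :=
        (Submodule.finrank_le _).trans_eq (Module.finrank_self F)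
      rw [hD.finrank_eq] at h1
      obtain ⟨y, hy, hy0⟩ := Submodule.exists_mem_ne_zero_of_ne_bot (p := LinearMap.ker φ) fun e => by
        rw [e, finrank_bot] at h1; omega
      exact ⟨y, Submodule.mem_iSup_of_mem j (Submodule.mem_iSup_of_mem (by simp [s₂, j]) y.2),
        fun e => hy0 (Subtype.ext e), hts j y y.2, LinearMap.mem_ker.1 hy⟩
  have hne : ∀ z, z ≠ 0 → 0 < (supp z).card := fun z hz => by
    refine Finset.card_pos.2 (Finset.nonempty_iff_ne_empty.2 fun e => hz ?_)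
    have := hin z ∅ (by rw [e])
    simpa using this
  have hunion : supp x ∪ supp y ⊆ supp (x + y) := by
    intro i hi
    refine Finset.mem_filter.2 ⟨Finset.mem_univ _, ?_⟩
    rcases Finset.mem_union.1 hi with hi | hi
    · obtain ⟨a, ha⟩ := (Finset.mem_filter.1 hi).2
      refine ⟨a, ?_⟩
      rw [map_add, Finsupp.add_apply, hzero s₂ y hy i (Finset.disjoint_left.1 hdisj (hsub s₁ x hx hi)) a, add_zero]
      exact ha
    · obtain ⟨a, ha⟩ := (Finset.mem_filter.1 hi).2
      refine ⟨a, ?_⟩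
      rw [map_add, Finsupp.add_apply, hzero s₁ x hx i (Finset.disjoint_right.1 hdisj (hsub s₂ y hy hi)) a, zero_add]
      exact ha
  have hcard : (supp x).card + (supp y).card ≤ (supp (x + y)).card := by
    rw [← Finset.card_union_of_disjoint (hdisj.mono (hsub s₁ x hx) (hsub s₂ y hy))]
    exact Finset.card_le_card hunion
  have hxy0 : x + y ≠ 0 := fun e => by
    have := hne x hx0
    have h0 : supp (x + y) = ∅ := by simp [supp, e]
    rw [h0, Finset.card_empty] at hcard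
    omega
  obtain ⟨g, hg, hgxy⟩ := exists_singular_move hB hn hxq
    (show Q (x + y) = 0 by rw [q_add, hxq, hyq, hxy, add_zero, add_zero]) hx0 hxy0
  have := hmap g hg x
  rw [hgxy] at this
  have := hne y hy0
  omega

/-- The normaliser of a proper field extension does not contain the group. -/
theorem not_le_normalizer (hB : Nondeg Q) (hn : 5 ≤ n) {r : ℕ} (hr : 2 ≤ r)
    {K : Subalgebra F (Matrix (Fin n) (Fin n) F)} (hK : IsFieldSubalgebra r K) :
    ¬ omegaGL ⇑Q ≤ subalgebraNormalizer K := by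
  classical
  intro hle
  haveI : Nonempty (Fin n) := ⟨⟨0, by omega⟩⟩
  have hd : 5 ≤ Module.finrank F (Fin n → F) := by rw [Module.finrank_fin_fun]; exact hn
  have hcomm : ∀ k ∈ K, ∀ (g : Grp Q) (u v : Fin n → F), IsSiegel u v g →
      (g : GL (Fin n) F).val * k = k * (g : GL (Fin n) F).val := by
    intro k hk g u v hg
    obtain ⟨G, hG⟩ : ∃ G : GL (Fin n) F, G = (g : GL (Fin n) F) := ⟨_, rfl⟩
    rw [← hG]
    have hGx : ∀ x, G.val *ᵥ x = x + B x u • v - B x v • u - (Q v * B x u) • u := fun x => by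
      rw [hG]; exact hg.2.2 x
    have hX : G.val * k * (G⁻¹).val - k ∈ K := sub_mem ((hle (hG ▸ siegel_mem hB hn hg) k).1 hk) hk
    obtain ⟨X, hXdef⟩ : ∃ X, X = G.val * k * (G⁻¹).val - k := ⟨_, rfl⟩
    rw [← hXdef] at hX
    by_cases hX0 : X = 0
    · have e : G.val * k * (G⁻¹).val = k := sub_eq_zero.1 (hXdef.symm.trans hX0)
      conv_rhs => rw [← e]
      rw [mul_assoc, Units.inv_mul, mul_one]
    exfalso
    obtain ⟨Y, -, hY⟩ := hK.inv X hX hX0
    let L := Submodule.span F (Set.range ![u, v, k *ᵥ u, k *ᵥ v])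
    have hu' : u ∈ L := Submodule.subset_span ⟨0, rfl⟩
    have hv' : v ∈ L := Submodule.subset_span ⟨1, rfl⟩
    have hku : k *ᵥ u ∈ L := Submodule.subset_span ⟨2, rfl⟩
    have hkv : k *ᵥ v ∈ L := Submodule.subset_span ⟨3, rfl⟩
    have himg : ∀ z, X *ᵥ z ∈ L := by
      intro z
      obtain ⟨w, rfl⟩ : ∃ w, z = G.val *ᵥ w := ⟨(G⁻¹).val *ᵥ z, (PrimeDim.mulVec_inv_cancel G z).symm⟩
      have e : X *ᵥ (G.val *ᵥ w) = G.val *ᵥ (k *ᵥ w) - k *ᵥ (G.val *ᵥ w) := by
        rw [hXdef, sub_mulVec, mulVec_mulVec, mul_assoc _ (G⁻¹).val, Units.inv_mul, mul_one, ← mulVec_mulVec]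
      rw [e, hGx, hGx]
      simp only [mulVec_sub, mulVec_add, mulVec_smul]
      have e2 : ∀ a b c d e f g : Fin n → F, a + b - c - d - (a + e - f - g) = (b - c - d) - (e - f - g) :=
        fun a b c d e f g => by abel
      rw [e2]
      exact L.sub_mem (L.sub_mem (L.sub_mem (L.smul_mem _ hv') (L.smul_mem _ hu')) (L.smul_mem _ hu'))
        (L.sub_mem (L.sub_mem (L.smul_mem _ hkv) (L.smul_mem _ hku)) (L.smul_mem _ hku))
    have htop : L = ⊤ := eq_top_iff.2 fun z _ => by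
      have := himg (Y *ᵥ z)
      rwa [mulVec_mulVec, hY, one_mulVec] at this
    have h1 := finrank_range_le_card (R := F) ![u, v, k *ᵥ u, k *ᵥ v]
    rw [Set.finrank, show Submodule.span F (Set.range ![u, v, k *ᵥ u, k *ᵥ v]) = ⊤ from htop, finrank_top,
      Module.finrank_fin_fun, Fintype.card_fin] at h1
    omega
  obtain ⟨u, hu, hu0⟩ := CfsgLib.Orth.exists_nonzero_singular (Q := Q) hd
  have hker : ∀ s : Finset (Fin n → F), s.card ≤ 2 → ∃ z, B u z = 0 ∧ z ∉ Submodule.span F (s : Set (Fin n → F)) := by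
    intro s hs
    by_contra hc
    push Not at hc
    let U := LinearMap.ker (QuadraticMap.polarBilin Q u)
    have h1 : Module.finrank F U ≤ 2 :=
      ((Submodule.finrank_mono (fun z hz => hc z (LinearMap.mem_ker.1 hz))).trans (finrank_span_finset_le_card s)).trans hs
    have h2 := (QuadraticMap.polarBilin Q u).finrank_range_add_finrank_ker
    have h3 : Module.finrank F (LinearMap.range (QuadraticMap.polarBilin Q u)) ≤ 1 :=
      (Submodule.finrank_le _).trans_eq (Module.finrank_self F)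
    change _ + Module.finrank F U = Module.finrank F (Fin n → F) at h2
    omega
  have key : ∀ k ∈ K, ∃ c : F, k = c • 1 := by
    intro k hk
    obtain ⟨v, hv, hvu⟩ := hker {u} (by simp)
    rw [Finset.coe_singleton] at hvu
    obtain ⟨v', hv', hv'u⟩ := hker {u, v} Finset.card_le_two
    rw [Finset.coe_pair] at hv'u
    have hmem : ∀ w, B u w = 0 → w ∉ Submodule.span F {u} → k *ᵥ u ∈ Submodule.span F ({u, w} : Set (Fin n → F)) := by
      intro w hw hwu
      obtain ⟨x, hxu, hxw⟩ : ∃ x, B x u = 0 ∧ B x w = 1 := by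
        obtain ⟨z, hz, hz1⟩ := CfsgLib.Orth.exists_orth_one hB hwu
        refine ⟨z, ?_, by rw [b_comm]; exact hz1⟩
        rw [b_comm]
        exact CfsgLib.Orth.mem_orth_span.1 hz u rfl
      obtain ⟨g, hg⟩ := CfsgLib.Orth.exists_siegel hB hu hw
      have h := congrArg (fun Z => Z *ᵥ x) (hcomm k hk g u w hg)
      simp only [← mulVec_mulVec] at h
      rw [show (g : GL (Fin n) F).val *ᵥ (k *ᵥ x) = _ from hg.2.2 (k *ᵥ x),
        show (g : GL (Fin n) F).val *ᵥ x = _ from hg.2.2 x, hxu, hxw] at h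
      simp only [zero_smul, add_zero, mul_zero, sub_zero, one_smul, mulVec_sub] at h
      have e : k *ᵥ u = B (k *ᵥ x) w • u + (Q w * B (k *ᵥ x) u) • u - B (k *ᵥ x) u • w := by
        have e2 : k *ᵥ u = k *ᵥ x - (k *ᵥ x - k *ᵥ u) := by abel
        rw [e2, ← h]
        abel
      rw [e]
      have hu' : u ∈ Submodule.span F ({u, w} : Set (Fin n → F)) := Submodule.subset_span (Set.mem_insert _ _)
      exact sub_mem (add_mem (Submodule.smul_mem _ _ hu') (Submodule.smul_mem _ _ hu'))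
        (Submodule.smul_mem _ _ (Submodule.subset_span (Set.mem_insert_of_mem _ rfl)))
    obtain ⟨a, b, hab⟩ := Submodule.mem_span_pair.1 (hmem v hv hvu)
    obtain ⟨a', b', hab'⟩ := Submodule.mem_span_pair.1 (hmem v' hv' fun h => hv'u
      (Submodule.span_mono (Set.singleton_subset_iff.2 (Set.mem_insert _ _)) h))
    have hb' : b' = 0 := by
      by_contra hne
      refine hv'u (Submodule.mem_span_pair.2 ⟨(a - a') / b', b / b', ?_⟩)
      have e : b' • v' = (a - a') • u + b • v := by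
        have := hab'.trans hab.symm
        linear_combination (norm := module) this
      rw [← inv_smul_smul₀ hne v', e]
      match_scalars <;> field_simp
    rw [hb', zero_smul, add_zero] at hab'
    refine ⟨a', sub_eq_zero.1 ?_⟩
    by_contra h0
    obtain ⟨Y, hYK, hY⟩ := hK.inv _ (sub_mem hk (K.smul_mem K.one_mem _)) h0
    apply hu0
    rw [← one_mulVec u, ← hY, ← hK.comm Y hYK _ (sub_mem hk (K.smul_mem K.one_mem _)), ← mulVec_mulVec,
      sub_mulVec, smul_mulVec, one_mulVec, hab', sub_self, mulVec_zero]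
  have h1 : K = ⊥ := by
    refine eq_bot_iff.2 fun k hk => ?_
    obtain ⟨c, rfl⟩ := key k hk
    exact Algebra.mem_bot.2 ⟨c, Algebra.algebraMap_eq_smul_one c⟩
  have := hK.finrank_eq
  rw [h1, Subalgebra.finrank_bot] at this
  omega

theorem not_le_subfield (hB : Nondeg Q) (hn : 5 ≤ n) {F₀ : Subfield F} {r : ℕ} (hr : r.Prime)
    (hcard : Fintype.card F = Nat.card F₀ ^ r) (P : GL (Fin n) F) :
    ¬ omegaGL ⇑Q ≤ Cfsg.Geo.subfieldSubgroup F₀ P := by
  refine PrimeDim.omega_not_le_subfield hB hn ?_ P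
  intro e
  subst e
  rw [Nat.card_congr Subfield.topEquiv.toEquiv, Nat.card_eq_fintype_card] at hcard
  have h1 := Fintype.one_lt_card (α := F)
  have h2 : Fintype.card F ^ 1 < Fintype.card F ^ r := Nat.pow_lt_pow_right h1 hr.one_lt
  rw [pow_one] at h2
  omega

/-! ### Tensor decompositions -/

theorem not_le_of_set (hB : Nondeg Q) (hn : 5 ≤ n) {M : Subgroup (GL (Fin n) F)} (S : Set (Fin n → F))
    (hS : ∀ g ∈ M, ∀ p ∈ S, g.val *ᵥ p ∈ S) {p w : Fin n → F} (hp : p ∈ S) (hp0 : p ≠ 0) (hpq : Q p = 0)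
    (hw : w ∉ S) (hw0 : w ≠ 0) (hwq : Q w = 0) : ¬ omegaGL ⇑Q ≤ M := by
  intro hle
  obtain ⟨g, hg, hgp⟩ := exists_singular_move hB hn hpq hwq hp0 hw0
  exact hw (hgp ▸ hS g (hle hg) p hp)

theorem rank_two {α β : Type*} {u x : α → F} {y z : β → F} (hux : LinearIndependent F ![u, x])
    (hyz : LinearIndependent F ![y, z]) {a : α → F} {b : β → F} (h : ∀ i j, a i * b j = u i * y j + x i * z j) :
    False := by
  have hu : u ≠ 0 := hux.ne_zero 0
  have hco : ∀ i i', a i' * u i = a i * u i' ∧ a i' * x i = a i * x i' := by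
    intro i i'
    have e : (a i' * u i - a i * u i') • y + (a i' * x i - a i * x i') • z = 0 := funext fun j => by
      simp only [Pi.add_apply, Pi.smul_apply, smul_eq_mul, Pi.zero_apply]
      linear_combination a i * h i' j - a i' * h i j
    obtain ⟨e1, e2⟩ := LinearIndependent.pair_iff.1 hyz _ _ e
    exact ⟨sub_eq_zero.1 e1, sub_eq_zero.1 e2⟩
  obtain ⟨i₀, hi₀⟩ : ∃ i, a i ≠ 0 := by
    by_contra hc
    push Not at hc
    obtain ⟨i, hi⟩ := Function.ne_iff.1 hu
    refine hi (LinearIndependent.pair_iff.1 hyz (u i) (x i) (funext fun j => ?_)).1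
    simp only [Pi.add_apply, Pi.smul_apply, smul_eq_mul, Pi.zero_apply]
    rw [← h, hc, zero_mul]
  have e : (x i₀) • u + (-u i₀) • x = 0 := funext fun i => by
    simp only [Pi.add_apply, Pi.smul_apply, smul_eq_mul, Pi.zero_apply]
    refine mul_left_cancel₀ hi₀ ?_
    linear_combination (x i₀) * (hco i i₀).1 - (u i₀) * (hco i i₀).2
  obtain ⟨-, e2⟩ := LinearIndependent.pair_iff.1 hux _ _ e
  refine hi₀ ?_
  obtain ⟨i, hi⟩ := Function.ne_iff.1 hu
  have := (hco i i₀).1
  rw [neg_eq_zero.1 e2, mul_zero] at this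
  exact (mul_eq_zero.1 this).resolve_right hi

theorem q_sum_pair {v w : Fin n → F} (hv : Q v = 0) (hw : Q w = 0) (hvw : B v w = 0) : Q (v + w) = 0 := by
  rw [q_add, hv, hw, hvw, add_zero, add_zero]

theorem not_le_tensor (hB : Nondeg Q) (hn : 5 ≤ n) {n₁ n₂ : ℕ} {e : Fin n ≃ Fin n₁ × Fin n₂} {P : GL (Fin n) F}
    {u x : Fin n₁ → F} {y z : Fin n₂ → F} (hux : LinearIndependent F ![u, x]) (hyz : LinearIndependent F ![y, z])
    (h1 : Q (ten e P u y) = 0) (h2 : Q (ten e P x z) = 0) (h3 : B (ten e P u y) (ten e P x z) = 0) :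
    ¬ omegaGL ⇑Q ≤ tensorProductSubgroup n₁ n₂ e P := by
  classical
  obtain ⟨i, hi⟩ := Function.ne_iff.1 (hux.ne_zero 0)
  obtain ⟨j, hj⟩ := Function.ne_iff.1 (hyz.ne_zero 0)
  have hcoord : ∀ a b q, ((P⁻¹).val *ᵥ ten e P a b) (e.symm q) = a q.1 * b q.2 := fun a b q => by
    simp [ten, PrimeDim.inv_mulVec_cancel]
  refine not_le_of_set hB hn {v | ∃ a b, v = ten e P a b} ?_ ⟨u, y, rfl⟩ ?_ h1 ?_ ?_ (q_sum_pair h1 h2 h3)
  · rintro g hg _ ⟨a, b, rfl⟩
    obtain ⟨_, ⟨w, ⟨A, C, hw⟩, rfl⟩, hgw⟩ := hg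
    refine ⟨A.val *ᵥ a, C.val *ᵥ b, mulVec_ten ?_ a b⟩
    rw [← hw, ← hgw]
    ext p q
    simp [coord, glReindex, mul_assoc]
  · intro h0
    have := hcoord u y (i, j)
    rw [h0] at this
    simp at this
    rcases this with h | h
    · exact hi h
    · exact hj h
  · rintro ⟨a, b, hab⟩
    refine rank_two hux hyz (a := a) (b := b) fun i j => ?_
    have := congrArg (fun v => ((P⁻¹).val *ᵥ v) (e.symm (i, j))) hab
    simp only [mulVec_add, Pi.add_apply, hcoord] at this
    exact this.symm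
  · intro h0
    refine rank_two hux hyz (a := 0) (b := 0) fun i j => ?_
    have := congrArg (fun v => ((P⁻¹).val *ᵥ v) (e.symm (i, j))) h0
    simp only [mulVec_add, Pi.add_apply, hcoord, mulVec_zero, Pi.zero_apply] at this
    rw [this]
    simp

theorem not_le_wreath (hB : Nondeg Q) (hn : 5 ≤ n) {k t : ℕ} {e : Fin n ≃ (Fin t → Fin k)} {P : GL (Fin n) F}
    {i₁ i₂ : Fin t} (hi : i₁ ≠ i₂) {v w : Fin t → Fin k → F} (hrest : ∀ i, i ≠ i₁ → i ≠ i₂ → w i = v i)
    (hne : ∀ i, v i ≠ 0) (hux : LinearIndependent F ![v i₁, w i₁]) (hyz : LinearIndependent F ![v i₂, w i₂])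
    (h1 : Q (P.val *ᵥ ((fun x => ∏ i, v i (x i)) ∘ e)) = 0)
    (h2 : Q (P.val *ᵥ ((fun x => ∏ i, w i (x i)) ∘ e)) = 0)
    (h3 : B (P.val *ᵥ ((fun x => ∏ i, v i (x i)) ∘ e)) (P.val *ᵥ ((fun x => ∏ i, w i (x i)) ∘ e)) = 0) :
    ¬ omegaGL ⇑Q ≤ tensorWreathSubgroup k t e P := by
  classical
  let S : Set (Fin n → F) := {z | ∃ u : Fin t → Fin k → F, z = P.val *ᵥ ((fun x => ∏ i, u i (x i)) ∘ e)}
  have hcoord : ∀ (f : (Fin t → Fin k) → F) x, ((P⁻¹).val *ᵥ (P.val *ᵥ (f ∘ e))) (e.symm x) = f x := fun f x => by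
    simp [PrimeDim.inv_mulVec_cancel]
  choose a₀ ha₀ using fun i => Function.ne_iff.1 (hne i)
  -- the value on the two chosen slots
  let pt : Fin k → Fin k → Fin t → Fin k := fun a b => Function.update (Function.update a₀ i₁ a) i₂ b
  have hprod : ∀ (u : Fin t → Fin k → F) a b, ∏ i, u i (pt a b i) =
      u i₁ a * (u i₂ b * ∏ i ∈ (Finset.univ.erase i₁).erase i₂, u i (a₀ i)) := fun u a b => by
    rw [← Finset.mul_prod_erase _ _ (Finset.mem_univ i₁),
      ← Finset.mul_prod_erase _ _ (Finset.mem_erase.2 ⟨hi.symm, Finset.mem_univ i₂⟩)]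
    simp only [pt, Function.update_self, Function.update_of_ne hi]
    congr 2
    refine Finset.prod_congr rfl fun i hi' => ?_
    simp only [Finset.mem_erase] at hi'
    rw [Function.update_of_ne hi'.1, Function.update_of_ne hi'.2.1]
  obtain ⟨c, hc0, hcv⟩ : ∃ c, c ≠ 0 ∧ ∀ u : Fin t → Fin k → F, (∀ i, i ≠ i₁ → i ≠ i₂ → u i = v i) →
      ∀ a b, ∏ i, u i (pt a b i) = u i₁ a * u i₂ b * c := by
    refine ⟨∏ i ∈ (Finset.univ.erase i₁).erase i₂, v i (a₀ i), Finset.prod_ne_zero_iff.2 fun i _ => ha₀ i,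
      fun u hu a b => ?_⟩
    rw [hprod, ← mul_assoc]
    congr 1
    refine Finset.prod_congr rfl fun i hi' => ?_
    simp only [Finset.mem_erase] at hi'
    rw [hu i hi'.2.1 hi'.1]
  refine not_le_of_set hB hn S ?_ ⟨v, rfl⟩ ?_ h1 ?_ ?_ (q_sum_pair h1 h2 h3)
  · rintro g hg _ ⟨u, rfl⟩
    obtain ⟨_, ⟨x, hx, rfl⟩, hgx⟩ := hg
    obtain ⟨u', hu'⟩ := wreathStandard_pure hx (fun x => ∏ i, u i (x i)) ⟨u, fun _ => rfl⟩
    refine ⟨u', ?_⟩
    rw [← hgx]
    simp only [MulEquiv.coe_toMonoidHom, MulAut.conj_apply, Units.val_mul, ← mulVec_mulVec,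
      PrimeDim.inv_mulVec_cancel]
    congr 1
    funext j
    have := hu' (e j)
    rw [Function.comp_apply, ← this]
    simp only [glReindex, mulVec, dotProduct, Function.comp_apply]
    exact Fintype.sum_equiv e _ _ fun i => by simp
  · intro h0
    have := hcoord (fun x => ∏ i, v i (x i)) a₀
    rw [h0, mulVec_zero, Pi.zero_apply] at this
    exact Finset.prod_ne_zero_iff.2 (fun i _ => ha₀ i) this.symm
  · rintro ⟨u, hu⟩
    refine rank_two hux hyz (a := fun a => u i₁ a * (∏ i ∈ (Finset.univ.erase i₁).erase i₂, u i (a₀ i)) / c)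
      (b := u i₂) fun a b => ?_
    have := congrArg (fun z => ((P⁻¹).val *ᵥ z) (e.symm (pt a b))) hu
    simp only [mulVec_add, Pi.add_apply, hcoord] at this
    rw [hcv v (fun _ _ _ => rfl), hcv w hrest, hprod u] at this
    field_simp
    linear_combination -this
  · intro h0
    refine rank_two hux hyz (a := 0) (b := 0) fun a b => ?_
    have := congrArg (fun z => ((P⁻¹).val *ᵥ z) (e.symm (pt a b))) h0
    simp only [mulVec_add, Pi.add_apply, hcoord, mulVec_zero, Pi.zero_apply] at this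
    rw [hcv v (fun _ _ _ => rfl), hcv w hrest] at this
    have h' : c * (v i₁ a * v i₂ b + w i₁ a * w i₂ b) = 0 := by linear_combination this
    rw [(mul_eq_zero.1 h').resolve_left hc0]
    simp

/-- A maximal subgroup is the intersection with any overgroup not containing the whole group. -/
theorem eq_inf {H X : Subgroup (GL (Fin n) F)} (hH : Cfsg.Geo.IsMaximalIn (omegaGL ⇑Q) H) (h1 : H ≤ X)
    (h2 : ¬ omegaGL ⇑Q ≤ X) : H = X ⊓ omegaGL ⇑Q := by
  rcases hH.2 (X ⊓ omegaGL ⇑Q) (le_inf h1 hH.1.le) inf_le_right with h | h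
  · exact h.symm
  · exact absurd (inf_eq_right.1 h) h2

end CfsgLib.Asch.OrthNotLe
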