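import Cfsg.Agent.Lib.Classical.AschOrthNotLe

set_option autoImplicit false
set_option linter.unusedSectionVars false

/-!
Wreathed tensor products of a symmetric form do not contain the commutator subgroup of the orthogonal group.
-/

namespace CfsgLib.Asch.OrthNotLe

open Matrix
open Cfsg.Geo (omegaGL tensorWreathSubgroup)
open CfsgLib.Orth (Nondeg)
open scoped MatrixGroups Kronecker

variable {F : Type*} [Field F] [Fintype F] {n : ℕ} {Q : QuadraticForm F (Fin n → F)}

local notation "B" => QuadraticMap.polar (DFunLike.coe Q)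
local notation "τ₁" => RingEquiv.refl F

/-- The value of a tensor power of a form on pure tensors. -/
theorem sform_pure {m k : ℕ} (gs : Fin k → Matrix (Fin m) (Fin m) F) (u u' : Fin k → Fin m → F) :
    sform τ₁ (pureMat gs) (fun x => ∏ i, u i (x i)) (fun x => ∏ i, u' i (x i)) =
      ∏ i, sform τ₁ (gs i) (u i) (u' i) := by
  simp only [sform, dotProduct, mulVec, Function.comp_apply, RingEquiv.refl_apply, pureMat_apply]
  rw [Fintype.prod_sum]
  refine Finset.sum_congr rfl fun x _ => ?_
  rw [Finset.prod_mul_distrib, Fintype.prod_sum]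
  congr 1
  exact Finset.sum_congr rfl fun y _ => Finset.prod_mul_distrib.symm

/-- A symmetric form in dimension at least three has an isotropic vector. -/
theorem exists_isotropic {k : ℕ} (hk : 3 ≤ k) (h2 : (2 : F) ≠ 0) (J : Matrix (Fin k) (Fin k) F) :
    ∃ u : Fin k → F, u ≠ 0 ∧ sform τ₁ J u u = 0 := by
  obtain ⟨u, -, hu, hq⟩ := CfsgLib.Orth.exists_singular (Q := Matrix.toQuadraticForm' J) (U := ⊤)
    (by rw [finrank_top, Module.finrank_fin_fun]; exact hk)
  refine ⟨u, hu, ?_⟩
  rw [← hq]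
  simp [Matrix.toQuadraticForm', Matrix.toLinearMap₂'_apply', sform]

/-- In dimension at least three there is a vector perpendicular to and independent of a given one. -/
theorem exists_perp_indep {k : ℕ} (hk : 3 ≤ k) (J : Matrix (Fin k) (Fin k) F) {u : Fin k → F} (hu : u ≠ 0) :
    ∃ x, LinearIndependent F ![u, x] ∧ sform τ₁ J u x = 0 := by
  let φ : (Fin k → F) →ₗ[F] F :=
    { toFun := fun x => sform τ₁ J u x
      map_add' := fun x y => sform_add_right τ₁ J u x y
      map_smul' := fun c x => by simp [sform, Function.comp_def, mulVec_smul, dotProduct_smul] }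
  obtain ⟨x, hx, hxu⟩ : ∃ x ∈ LinearMap.ker φ, x ∉ Submodule.span F {u} := by
    by_contra hc
    push Not at hc
    have h1 := φ.finrank_range_add_finrank_ker
    have h2 : Module.finrank F (LinearMap.range φ) ≤ 1 :=
      (Submodule.finrank_le _).trans_eq (Module.finrank_self F)
    have h3 := Submodule.finrank_mono (show LinearMap.ker φ ≤ Submodule.span F {u} from hc)
    rw [finrank_span_singleton hu] at h3
    rw [Module.finrank_fin_fun] at h1
    omega
  refine ⟨x, (LinearIndependent.pair_iff' hu).2 fun a e => hxu ?_, hx⟩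
  exact Submodule.mem_span_singleton.2 ⟨a, e⟩

theorem not_le_symPower (hB : Nondeg Q) (hn : 5 ≤ n) (hodd : Odd (Fintype.card F)) {k t : ℕ} (hk : 3 ≤ k)
    (ht : 2 ≤ t) {e : Fin n ≃ (Fin t → Fin k)} {P : GL (Fin n) F} {J : Matrix (Fin k) (Fin k) F} {c : F}
    (hF : fcoord τ₁ (ogram Q) e P = c • pureMat (fun _ : Fin t => J)) :
    ¬ omegaGL ⇑Q ≤ tensorWreathSubgroup k t e P := by
  classical
  have h2 := PrimeDim.two_ne_zero_of_odd hodd
  obtain ⟨u, hu0, hu⟩ := exists_isotropic hk h2 J
  obtain ⟨x, hux, hJux⟩ := exists_perp_indep hk J hu0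
  obtain ⟨y, hyu, -⟩ := exists_perp_indep hk J hu0
  let i₁ : Fin t := ⟨0, by omega⟩
  let i₂ : Fin t := ⟨1, by omega⟩
  have hi : i₁ ≠ i₂ := by simp [i₁, i₂]
  let v : Fin t → Fin k → F := fun i => if i = i₂ then y else u
  let w : Fin t → Fin k → F := fun i => if i = i₁ then x else u
  have hne : ∀ i, v i ≠ 0 := fun i => by
    simp only [v]
    split
    exacts [hyu.ne_zero 1, hu0]
  have hB' : ∀ a b : Fin t → Fin k → F,
      B (P.val *ᵥ ((fun x => ∏ i, a i (x i)) ∘ e)) (P.val *ᵥ ((fun x => ∏ i, b i (x i)) ∘ e)) =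
        c * ∏ i, sform τ₁ J (a i) (b i) := fun a b => by
    rw [polar_sform hB, sform_fcoord, hF, sform_smul_matrix, sform_pure]
  have hQ' : ∀ a : Fin t → Fin k → F, (∃ i, sform τ₁ J (a i) (a i) = 0) →
      Q (P.val *ᵥ ((fun x => ∏ i, a i (x i)) ∘ e)) = 0 := fun a ⟨i, ha⟩ => by
    have h := hB' a a
    rw [Finset.prod_eq_zero (Finset.mem_univ i) ha, mul_zero, CfsgLib.Orth.b_self] at h
    exact (mul_eq_zero.1 h).resolve_left h2
  refine not_le_wreath hB hn hi (v := v) (w := w) (fun i h1 h2 => by simp [v, w, h1, h2]) hne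
    (by simpa [v, w, hi] using hux) ?_ (hQ' v ⟨i₁, by simpa [v, hi] using hu⟩)
    (hQ' w ⟨i₂, by simpa [w, hi.symm] using hu⟩) ?_
  · have : LinearIndependent F ![y, u] := LinearIndependent.pair_symm_iff.1 hyu
    simpa [v, w, hi.symm] using this
  · rw [hB', Finset.prod_eq_zero (Finset.mem_univ i₁) (by simpa [v, w, hi] using hJux), mul_zero]

end CfsgLib.Asch.OrthNotLe
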