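import Cfsg.Agent.Lib.Classical.AschSympCoord

set_option autoImplicit false
set_option linter.unusedSectionVars false

/-!
A symplectic plane times a four-dimensional orthogonal space of plus type is a tensor cube of planes.
-/

namespace CfsgLib.Asch.SympPlus

open Matrix
open Cfsg (sympForm spGL)
open Cfsg.Geo (gramMatrix glReindex tensorProductSubgroup tensorWreathSubgroup)
open CfsgLib.Asch.SympMax
open scoped MatrixGroups Kronecker

variable {F : Type*} [Field F] {m : ℕ}

/-- The bracket of two vectors in the plane. -/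
def br (a c : Fin 2 → F) : F := a 0 * c 1 - a 1 * c 0

/-- The product of two vectors. -/
def ot (a b : Fin 2 → F) : Fin 2 × Fin 2 → F := fun p => a p.1 * b p.2

theorem ot_smul_left (s : F) (a b : Fin 2 → F) : ot (s • a) b = s • ot a b := by
  funext p; simp [ot, mul_assoc]

theorem ot_smul_right (s : F) (a b : Fin 2 → F) : ot a (s • b) = s • ot a b := by
  funext p; simp [ot, mul_left_comm]

theorem plus_form (a b c d : Fin 2 → F) :
    ot a b ⬝ᵥ (jTwo F ⊗ₖ jTwo F) *ᵥ ot c d = br a c * br b d := by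
  simp [ot, br, jTwo, dotProduct, mulVec, Fintype.sum_prod_type, Fin.sum_univ_two]
  ring

theorem exists_ot [Fintype F] (h2 : (2 : F) ≠ 0) {x : Fin 2 × Fin 2 → F} (hx : x ⬝ᵥ (jTwo F ⊗ₖ jTwo F) *ᵥ x = 0) :
    ∃ a b, x = ot a b := by
  have hq : x (0, 0) * x (1, 1) = x (0, 1) * x (1, 0) := by
    simp [jTwo, dotProduct, mulVec, Fintype.sum_prod_type, Fin.sum_univ_two] at hx
    refine mul_left_cancel₀ h2 ?_
    linear_combination hx
  by_cases h0 : x (0, 0) = 0
  · rw [h0, zero_mul] at hq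
    rcases mul_eq_zero.1 hq.symm with h | h
    · refine ⟨![0, 1], ![x (1, 0), x (1, 1)], funext fun ⟨i, j⟩ => ?_⟩
      fin_cases i <;> fin_cases j <;> simp [ot, h0, h]
    · refine ⟨![x (0, 1), x (1, 1)], ![0, 1], funext fun ⟨i, j⟩ => ?_⟩
      fin_cases i <;> fin_cases j <;> simp [ot, h0, h]
  · refine ⟨![1, x (1, 0) / x (0, 0)], ![x (0, 0), x (0, 1)], funext fun ⟨i, j⟩ => ?_⟩
    fin_cases i <;> fin_cases j <;> simp [ot, h0]
    field_simp
    linear_combination hq

theorem expand {a c : Fin 2 → F} (h : br a c ≠ 0) (p : Fin 2 → F) :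
    p = ((br p c / br a c) • a + (br a p / br a c) • c) := by
  funext i
  simp only [Pi.add_apply, Pi.smul_apply, smul_eq_mul, div_mul_eq_mul_div, ← add_div, eq_div_iff h]
  fin_cases i <;> simp [br] <;> ring

/-- The exchange of the two factors. -/
def swapMat (F : Type*) [Field F] : Matrix (Fin 2 × Fin 2) (Fin 2 × Fin 2) F :=
  Matrix.of fun p q => if q = Prod.swap p then 1 else 0

/-- The similitudes of the product of two planes. -/
theorem sim_plus [Fintype F] (h2 : (2 : F) ≠ 0) {G : Matrix (Fin 2 × Fin 2) (Fin 2 × Fin 2) F} {μ : F} (hμ : μ ≠ 0)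
    (hG : Gᵀ * (jTwo F ⊗ₖ jTwo F) * G = μ • (jTwo F ⊗ₖ jTwo F)) :
    ∃ C D : Matrix (Fin 2) (Fin 2) F, G = C ⊗ₖ D ∨ G = (C ⊗ₖ D) * swapMat F := by
  set K := jTwo F ⊗ₖ jTwo F with hK
  have hcol : ∀ p q, G.col p ⬝ᵥ K *ᵥ G.col q = μ * K p q := by
    intro p q
    have e := congr_forms G K (Pi.single p 1) (Pi.single q 1)
    rw [mulVec_single_one, mulVec_single_one, hG] at e
    rw [e, mulVec_single_one, single_dotProduct, Matrix.col_apply, one_mul, Matrix.smul_apply, smul_eq_mul]
  have hsing : ∀ p, ∃ a b, G.col p = ot a b := fun p => exists_ot h2 (by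
    rw [← hK, hcol, hK]
    obtain ⟨i, j⟩ := p
    fin_cases i <;> fin_cases j <;> simp [jTwo])
  obtain ⟨a, b, hab⟩ := hsing (0, 0)
  obtain ⟨c, d, hcd⟩ := hsing (1, 1)
  have hAB : br a c * br b d = μ := by
    rw [← plus_form, ← hab, ← hcd, ← hK, hcol]
    simp [hK, jTwo]
  have hA : br a c ≠ 0 := fun e => hμ (by rw [← hAB, e, zero_mul])
  have hB : br b d ≠ 0 := fun e => hμ (by rw [← hAB, e, mul_zero])
  have key : ∀ q, q = (0, 1) ∨ q = (1, 0) → ∃ k : F, G.col q = k • ot a d ∨ G.col q = k • ot c b := by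
    intro q hq
    obtain ⟨p, r, hpr⟩ := hsing q
    have e1 : br a p * br b r = 0 := by
      rw [← plus_form, ← hab, ← hpr, ← hK, hcol]
      rcases hq with rfl | rfl <;> simp [hK, jTwo]
    have e2 : br p c * br r d = 0 := by
      rw [← plus_form, ← hcd, ← hpr, ← hK, hcol]
      rcases hq with rfl | rfl <;> simp [hK, jTwo]
    rw [hpr]
    rcases mul_eq_zero.1 e1 with h | h <;> rcases mul_eq_zero.1 e2 with h' | h'
    · refine ⟨0, Or.inl ?_⟩
      rw [zero_smul, expand hA p, h, h']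
      funext p'
      simp [ot]
    · refine ⟨br p c / br a c * (br b r / br b d), Or.inl ?_⟩
      rw [← smul_smul, ← ot_smul_right, ← ot_smul_left]
      congr 1
      · conv_lhs => rw [expand hA p, h, zero_div, zero_smul, add_zero]
      · conv_lhs => rw [expand hB r, h', zero_div, zero_smul, zero_add]
    · refine ⟨br a p / br a c * (br r d / br b d), Or.inr ?_⟩
      rw [← smul_smul, ← ot_smul_right, ← ot_smul_left]
      congr 1
      · conv_lhs => rw [expand hA p, h', zero_div, zero_smul, zero_add]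
      · conv_lhs => rw [expand hB r, h, zero_div, zero_smul, add_zero]
    · refine ⟨0, Or.inl ?_⟩
      rw [zero_smul, expand hB r, h, h']
      funext p'
      simp [ot]
  obtain ⟨k, hk⟩ := key (0, 1) (Or.inl rfl)
  obtain ⟨l, hl⟩ := key (1, 0) (Or.inr rfl)
  have hmix := hcol (0, 1) (1, 0)
  have hKmix : K (0, 1) (1, 0) = -1 := by simp [hK, jTwo]
  have hself : ∀ u v : Fin 2 → F, br u u = 0 ∧ br v v = 0 := fun u v => ⟨by simp [br]; ring, by simp [br]; ring⟩
  have hanti : ∀ u v : Fin 2 → F, br u v = -br v u := fun u v => by simp [br]; ring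
  rw [hKmix] at hmix
  rcases hk with hk | hk <;> rcases hl with hl | hl <;>
    rw [hk, hl, mulVec_smul, dotProduct_smul, smul_dotProduct, hK, plus_form] at hmix
  · simp [(hself a a).1] at hmix
    exact absurd hmix hμ
  · have hkl : k * l = 1 := by
      have : k * l * μ = μ := by
        rw [hanti d b] at hmix
        simp only [smul_eq_mul] at hmix
        linear_combination -hmix - k * l * hAB
      exact (mul_eq_right₀ hμ).1 this
    refine ⟨Matrix.of fun i j => ![a i, l * c i] j, Matrix.of fun i j => ![b i, k * d i] j, Or.inl ?_⟩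
    ext ⟨i, i'⟩ ⟨j, j'⟩
    have e1 := congrFun hab (i, i')
    have e2 := congrFun hcd (i, i')
    have e3 := congrFun hk (i, i')
    have e4 := congrFun hl (i, i')
    simp [ot] at e1 e2 e3 e4
    fin_cases j <;> fin_cases j' <;> simp
    · exact e1
    · rw [e3]; ring
    · rw [e4]; ring
    · rw [e2]
      linear_combination -(c i * d i') * hkl
  · have hkl : k * l = 1 := by
      have : k * l * μ = μ := by
        rw [hanti c a] at hmix
        simp only [smul_eq_mul] at hmix
        linear_combination -hmix - k * l * hAB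
      exact (mul_eq_right₀ hμ).1 this
    refine ⟨Matrix.of fun i j => ![a i, k * c i] j, Matrix.of fun i j => ![b i, l * d i] j, Or.inr ?_⟩
    ext ⟨i, i'⟩ ⟨j, j'⟩
    have e1 := congrFun hab (i, i')
    have e2 := congrFun hcd (i, i')
    have e3 := congrFun hk (i, i')
    have e4 := congrFun hl (i, i')
    simp [ot] at e1 e2 e3 e4
    fin_cases j <;> fin_cases j' <;> simp [Matrix.mul_apply, swapMat, Fintype.sum_prod_type, Fin.sum_univ_two]
    · exact e1
    · rw [e3]; ring
    · rw [e4]; ring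
    · rw [e2]
      linear_combination -(c i * d i') * hkl
  · simp [(hself c b).1] at hmix
    exact absurd hmix hμ

/-- A basis in which a form of plus type is the product of two planes. -/
theorem plus_basis [Fintype F] (h2 : (2 : F) ≠ 0) {f : (Fin 4 → F) → (Fin 4 → F) → F}
    (hf : Cfsg.Geo.IsSymmetricForm f) (hplus : Cfsg.Geo.IsPlusTypeOn (fun v : Fin 4 → F => f v v) ⊤) :
    ∃ (ε : Fin 4 ≃ Fin 2 × Fin 2) (U : GL (Fin 4) F),
      (U : Matrix (Fin 4) (Fin 4) F)ᵀ * gramMatrix f * (U : Matrix (Fin 4) (Fin 4) F) =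
        (jTwo F ⊗ₖ jTwo F).submatrix ε ε := by
  classical
  obtain ⟨W, -, hWs, hWd⟩ := hplus
  rw [finrank_top, Module.finrank_fin_fun] at hWd
  let B : LinearMap.BilinForm F (Fin 4 → F) :=
    LinearMap.mk₂ F f hf.bilinear.add_left (fun c x v => by rw [hf.bilinear.smul_left]; rfl)
      hf.bilinear.add_right (fun c v x => by rw [hf.bilinear.smul_right]; rfl)
  have hBf : ∀ x y, B x y = f x y := fun x y => rfl
  let bW : Module.Basis (Fin 2) F W := Module.finBasisOfFinrankEq F W (by omega)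
  set a : Fin 4 → F := (bW 0 : Fin 4 → F) with ha
  set b : Fin 4 → F := (bW 1 : Fin 4 → F) with hb
  have hW0 : ∀ w ∈ W, f w w = 0 := hWs
  have hab : f a b = 0 := by
    have h := hW0 _ (add_mem (bW 0).2 (bW 1).2)
    rw [hf.bilinear.add_left, hf.bilinear.add_right, hf.bilinear.add_right, hW0 _ (bW 0).2, hW0 _ (bW 1).2,
      hf.symm (bW 1 : Fin 4 → F)] at h
    exact (mul_eq_zero.1 (show 2 * f a b = 0 by rw [ha, hb]; linear_combination h)).resolve_left h2
  have haa : f a a = 0 := hW0 _ (bW 0).2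
  have hbb : f b b = 0 := hW0 _ (bW 1).2
  let L : (Fin 4 → F) →ₗ[F] (Fin 2 → F) :=
    { toFun := fun z => ![f a z, f b z]
      map_add' := fun x y => by funext i; fin_cases i <;> simp [hf.bilinear.add_right]
      map_smul' := fun c x => by funext i; fin_cases i <;> simp [hf.bilinear.smul_right] }
  have hsurj : Function.Surjective L := by
    have hker : Module.finrank F (LinearMap.ker L) ≤ 2 := by
      by_contra hlt
      have h1 := LinearMap.finrank_range_add_finrank_ker L
      have h1' : Module.finrank F (LinearMap.range L) ≤ 1 := by rw [Module.finrank_fin_fun] at h1; omega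
      obtain ⟨v, hv⟩ : ∃ v : Fin 2 → F, v ≠ 0 ∧ ∀ z, v 0 * f a z + v 1 * f b z = 0 := by
        by_cases hr : LinearMap.range L = ⊥
        · refine ⟨![1, 0], fun e => one_ne_zero (α := F) (by simpa using congrFun e 0), fun z => ?_⟩
          have : L z = 0 := (Submodule.eq_bot_iff _).1 hr _ ⟨z, rfl⟩
          simpa [L] using congrFun this 0
        · obtain ⟨_, ⟨z0, rfl⟩, hne⟩ := Submodule.exists_mem_ne_zero_of_ne_bot hr
          have hspan : Submodule.span F {L z0} = LinearMap.range L := by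
            refine Submodule.eq_of_le_of_finrank_le ?_ ?_
            · exact Submodule.span_le.2 fun _ e => by rw [Set.mem_singleton_iff.1 e]; exact ⟨z0, rfl⟩
            · rwa [finrank_span_singleton hne]
          refine ⟨![f b z0, -f a z0], fun e => hne ?_, fun z => ?_⟩
          · have e0 := congrFun e 0
            have e1 := congrFun e 1
            simp at e0 e1
            funext i
            fin_cases i <;> simp [L, e0, e1]
          · have hmem : L z ∈ Submodule.span F {L z0} := by rw [hspan]; exact ⟨z, rfl⟩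
            obtain ⟨s, hs⟩ := Submodule.mem_span_singleton.1 hmem
            have s0 := congrFun hs 0
            have s1 := congrFun hs 1
            simp [L] at s0 s1 ⊢
            rw [← s0, ← s1]
            ring
      have hzero : v 0 • a + v 1 • b = 0 := by
        by_contra hne
        obtain ⟨x, hx⟩ := (hf.nondegenerate _ hne).2
        exact hx (by rw [hf.bilinear.add_left, hf.bilinear.smul_left, hf.bilinear.smul_left, hv.2])
      have hrep : v 0 • bW 0 + v 1 • bW 1 = 0 := Subtype.ext hzero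
      have := Fintype.linearIndependent_iff.1 bW.linearIndependent v (by rwa [Fin.sum_univ_two])
      exact hv.1 (funext this)
    have h1 := LinearMap.finrank_range_add_finrank_ker L
    rw [Module.finrank_fin_fun] at h1
    refine LinearMap.range_eq_top.1 (Submodule.eq_top_of_finrank_eq ?_)
    have := Submodule.finrank_le (LinearMap.range L)
    rw [Module.finrank_fin_fun] at this ⊢
    omega
  obtain ⟨z₁, hz₁⟩ := hsurj ![1, 0]
  obtain ⟨z₂, hz₂⟩ := hsurj ![0, -1]
  have a1 : f a z₁ = 1 := congrFun hz₁ 0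
  have b1 : f b z₁ = 0 := congrFun hz₁ 1
  have a2 : f a z₂ = 0 := congrFun hz₂ 0
  have b2 : f b z₂ = -1 := congrFun hz₂ 1
  set c := z₁ + (-(f z₁ z₁) / 2) • a with hc
  set d := z₂ + (f z₂ z₂ / 2) • b + (-(f z₁ z₂)) • a with hd
  let ε : Fin 4 ≃ Fin 2 × Fin 2 := (finProdFinEquiv : Fin 2 × Fin 2 ≃ Fin (2 * 2)).symm
  let vec : Fin 2 × Fin 2 → (Fin 4 → F) := fun p => ![![a, b], ![d, c]] p.1 p.2
  let U₀ : Matrix (Fin 4) (Fin 4) F := Matrix.of fun i j => vec (ε j) i
  have hgram : U₀ᵀ * gramMatrix f * U₀ = (jTwo F ⊗ₖ jTwo F).submatrix ε ε := by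
    ext i j
    have h1 : (U₀ᵀ * gramMatrix f * U₀) i j = f (vec (ε i)) (vec (ε j)) := by
      have hx : ∀ x : Fin 4 → F, x = ∑ l, x l • (Pi.single l 1 : Fin 4 → F) := fun x => by
        conv_lhs => rw [← Finset.univ_sum_single x]
        exact Finset.sum_congr rfl fun l _ => by rw [← Pi.single_smul, smul_eq_mul, mul_one]
      conv_rhs => rw [← hBf, hx (vec (ε i)), hx (vec (ε j))]
      simp only [map_sum, map_smul, LinearMap.sum_apply, LinearMap.smul_apply, smul_eq_mul, Matrix.mul_apply,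
        Matrix.transpose_apply, U₀, Matrix.of_apply, gramMatrix, Finset.mul_sum, Finset.sum_mul, hBf]
      exact Finset.sum_congr rfl fun _ _ => Finset.sum_congr rfl fun _ _ => by ring
    rw [h1, Matrix.submatrix_apply]
    have fnl : ∀ x y, f (-x) y = -f x y := fun x y => by rw [← hBf, ← hBf, map_neg, LinearMap.neg_apply]
    have fnr : ∀ x y, f x (-y) = -f x y := fun x y => by rw [← hBf, ← hBf, map_neg]
    generalize ε i = p
    generalize ε j = q
    obtain ⟨p1, p2⟩ := p
    obtain ⟨q1, q2⟩ := q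
    fin_cases p1 <;> fin_cases p2 <;> fin_cases q1 <;> fin_cases q2 <;>
      simp [vec, jTwo, hc, hd, fnl, fnr, hf.bilinear.add_left, hf.bilinear.add_right, hf.bilinear.smul_left,
        hf.bilinear.smul_right, haa, hbb, hab, hf.symm b a, hf.symm z₁ a, hf.symm z₁ b, hf.symm z₂ a, hf.symm z₂ b,
        hf.symm z₂ z₁, a1, b1, a2, b2] <;>
      (try field_simp) <;> ring
  have hdet : U₀.det ≠ 0 := fun h0 => by
    have e := congrArg Matrix.det hgram
    rw [Matrix.det_mul, h0, mul_zero, Matrix.det_submatrix_equiv_self, Matrix.det_kronecker] at e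
    simp [jTwo, Matrix.det_fin_two] at e
  exact ⟨ε, Matrix.GeneralLinearGroup.mkOfDetNeZero U₀ hdet, hgram⟩

/-- The index change. -/
def eta (ε : Fin 4 ≃ Fin 2 × Fin 2) : Fin 2 × Fin 4 ≃ (Fin 3 → Fin 2) where
  toFun p := ![p.1, (ε p.2).1, (ε p.2).2]
  invFun x := (x 0, ε.symm (x 1, x 2))
  left_inv p := by simp
  right_inv x := by funext i; fin_cases i <;> simp

theorem gram_two {f : (Fin 2 → F) → (Fin 2 → F) → F} (hf : Cfsg.Geo.IsSymplecticForm f) :
    gramMatrix f = gramMatrix f 0 1 • jTwo F := by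
  ext i j
  fin_cases i <;> fin_cases j <;> simp [gramMatrix, jTwo]
  · exact hf.alternating _
  · exact hf.skew _ _
  · exact hf.alternating _

/-- The tensor product is inside a tensor wreath product. -/
theorem tensor_plus [Fintype F] (h2 : (2 : F) ≠ 0) {e : (Fin m ⊕ Fin m) ≃ Fin 2 × Fin 4}
    {P : GL (Fin m ⊕ Fin m) F} {f₁ : (Fin 2 → F) → (Fin 2 → F) → F} {f₂ : (Fin 4 → F) → (Fin 4 → F) → F}
    (hf₁ : Cfsg.Geo.IsSymplecticForm f₁) (hf₂ : Cfsg.Geo.IsSymmetricForm f₂)
    (hplus : Cfsg.Geo.IsPlusTypeOn (fun v : Fin 4 → F => f₂ v v) ⊤)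
    (hs : Cfsg.Geo.IsTensorFormStructure id (sympForm m F) f₁ f₂ e P) :
    ∃ (e' : (Fin m ⊕ Fin m) ≃ (Fin 3 → Fin 2)) (P' : GL (Fin m ⊕ Fin m) F) (c : F),
      c ≠ 0 ∧ Coord e' P' (c • pureMat fun _ : Fin 3 => jTwo F) ∧
      Cfsg.Geo.IsTensorPowerFormStructure id (sympForm m F) (sform (RingEquiv.refl F) (jTwo F)) e' P' ∧
      tensorProductSubgroup 2 4 e P ⊓ spGL m F ≤ tensorWreathSubgroup 2 3 e' P' := by
  classical
  obtain ⟨c, hc, hco⟩ := coord_of_tensor hs
  obtain ⟨ε, U, hU⟩ := plus_basis h2 hf₂ hplus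
  have h1ne := gram_ne_zero (by norm_num) hf₁.bilinear hf₁.nondegenerate
  have h2ne := gram_ne_zero (by norm_num) hf₂.bilinear hf₂.nondegenerate
  set a := gramMatrix f₁ 0 1 with ha
  have ha0 : a ≠ 0 := fun e0 => h1ne (by rw [gram_two hf₁, ← ha, e0, zero_smul])
  let Q : GL (Fin 2 × Fin 4) F :=
    ⟨(1 : Matrix (Fin 2) (Fin 2) F) ⊗ₖ (U : Matrix (Fin 4) (Fin 4) F),
      (1 : Matrix (Fin 2) (Fin 2) F) ⊗ₖ (↑U⁻¹ : Matrix (Fin 4) (Fin 4) F),
      by rw [← Matrix.mul_kronecker_mul, one_mul, Units.mul_inv, Matrix.one_kronecker_one],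
      by rw [← Matrix.mul_kronecker_mul, one_mul, Units.inv_mul, Matrix.one_kronecker_one]⟩
  let η := eta ε
  let e' := e.trans η
  let P' := P * glReindex e.symm Q
  have hQT : (Q : Matrix (Fin 2 × Fin 4) (Fin 2 × Fin 4) F)ᵀ =
      (1 : Matrix (Fin 2) (Fin 2) F) ⊗ₖ (U : Matrix (Fin 4) (Fin 4) F)ᵀ := by
    show ((1 : Matrix (Fin 2) (Fin 2) F) ⊗ₖ (U : Matrix (Fin 4) (Fin 4) F))ᵀ = _
    rw [← Matrix.kroneckerMap_transpose, Matrix.transpose_one]
  have hG : (Q : Matrix (Fin 2 × Fin 4) (Fin 2 × Fin 4) F)ᵀ * (c • (gramMatrix f₁ ⊗ₖ gramMatrix f₂)) *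
      (Q : Matrix (Fin 2 × Fin 4) (Fin 2 × Fin 4) F) =
      ((c * a) • pureMat fun _ : Fin 3 => jTwo F).submatrix η η := by
    rw [hQT, show (Q : Matrix (Fin 2 × Fin 4) (Fin 2 × Fin 4) F) =
      (1 : Matrix (Fin 2) (Fin 2) F) ⊗ₖ (U : Matrix (Fin 4) (Fin 4) F) from rfl, mul_smul_comm, smul_mul_assoc,
      ← Matrix.mul_kronecker_mul, ← Matrix.mul_kronecker_mul, one_mul, mul_one, hU, gram_two hf₁, ← ha]
    ext p q
    simp [η, eta, pureMat_apply, Fin.prod_univ_three]
    ring
  have hco1 := hco.change Q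
  rw [hG] at hco1
  have hcvec : ∀ x, cvec e' P' x = cvec e P' (x ∘ η) := fun x => by rw [cvec_apply, cvec_apply]; rfl
  have hco' : Coord e' P' ((c * a) • pureMat fun _ : Fin 3 => jTwo F) := by
    intro x y
    rw [hcvec, hcvec, hco1, Matrix.submatrix_mulVec_equiv]
    simp only [dotProduct, Function.comp_apply]
    exact Fintype.sum_equiv η _ _ fun i => by simp [Function.comp_assoc]
  refine ⟨e', P', c * a, mul_ne_zero hc ha0, hco', ⟨c * a, mul_ne_zero hc ha0, fun x y => ?_⟩, ?_⟩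
  · rw [← cvec_apply, ← cvec_apply, hco', smul_mulVec, dotProduct_smul, smul_eq_mul, sform_gram, ← formOfGram_dot]
    rfl
  rintro g ⟨hg, hgs⟩
  obtain ⟨w, A, B, d, rfl, hd, hw, hA, hB⟩ := kron_sim hc hco h1ne h2ne hg hgs
  set B' : Matrix (Fin 4) (Fin 4) F :=
    (↑U⁻¹ : Matrix (Fin 4) (Fin 4) F) * (B : Matrix (Fin 4) (Fin 4) F) * (U : Matrix (Fin 4) (Fin 4) F)
  set K := jTwo F ⊗ₖ jTwo F with hK
  have hB' : B'ᵀ * K.submatrix ε ε * B' = d⁻¹ • K.submatrix ε ε := by
    rw [← hU]
    simp only [B', Matrix.transpose_mul, mul_assoc, Units.mul_inv_cancel_left]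
    have e1 : ∀ X : Matrix (Fin 4) (Fin 4) F,
        (↑U⁻¹ : Matrix (Fin 4) (Fin 4) F)ᵀ * ((U : Matrix (Fin 4) (Fin 4) F)ᵀ * X) = X := fun X => by
      rw [← mul_assoc, ← Matrix.transpose_mul, Units.mul_inv, Matrix.transpose_one, one_mul]
    simp only [e1]
    simp only [← mul_assoc]
    rw [mul_assoc (U : Matrix (Fin 4) (Fin 4) F)ᵀ, mul_assoc (U : Matrix (Fin 4) (Fin 4) F)ᵀ, hB, mul_smul_comm,
      smul_mul_assoc]
  set G := B'.submatrix ε.symm ε.symm with hGdef
  have hG' : Gᵀ * K * G = d⁻¹ • K := by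
    have := congrArg (fun X : Matrix (Fin 4) (Fin 4) F => X.submatrix ε.symm ε.symm) hB'
    simp only [← Matrix.submatrix_mul_equiv (e₂ := ε.symm), Matrix.submatrix_submatrix, Equiv.self_comp_symm,
      Matrix.submatrix_id_id, Matrix.submatrix_smul, Pi.smul_apply] at this
    rw [hGdef, Matrix.transpose_submatrix]
    exact this
  obtain ⟨C, D, hCD⟩ := sim_plus h2 (inv_ne_zero hd) hG'
  have hBdet : G.det ≠ 0 := by
    intro h0
    have e := congrArg Matrix.det hG'
    rw [Matrix.det_mul, h0, mul_zero, Matrix.det_smul, hK, Matrix.det_kronecker] at e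
    simp [jTwo, Matrix.det_fin_two] at e
    exact pow_ne_zero _ hd e.symm
  have hCdet : C.det ≠ 0 ∧ D.det ≠ 0 := by
    rcases hCD with e | e <;> rw [e] at hBdet <;>
      simp only [Matrix.det_mul, Matrix.det_kronecker, Fintype.card_fin, mul_ne_zero_iff, pow_ne_zero_iff
        (two_ne_zero (α := ℕ))] at hBdet <;> tauto
  rw [wreath_eq, show w = Q * (Q⁻¹ * w * Q) * Q⁻¹ by group, ← cmap_change]
  set w' := Q⁻¹ * w * Q with hw'
  have hw'val : (w' : Matrix (Fin 2 × Fin 4) (Fin 2 × Fin 4) F) = (A : Matrix (Fin 2) (Fin 2) F) ⊗ₖ B' := by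
    rw [hw', Units.val_mul, Units.val_mul, hw]
    show ((1 : Matrix (Fin 2) (Fin 2) F) ⊗ₖ (↑U⁻¹ : Matrix (Fin 4) (Fin 4) F)) * _ *
      ((1 : Matrix (Fin 2) (Fin 2) F) ⊗ₖ (U : Matrix (Fin 4) (Fin 4) F)) = _
    rw [← Matrix.mul_kronecker_mul, ← Matrix.mul_kronecker_mul, one_mul, mul_one]
  refine ⟨glReindex η w', ?_, ?_⟩
  swap
  · show MulAut.conj P' (glReindex e'.symm (glReindex η w')) = MulAut.conj P' (glReindex e.symm w')
    congr 1
    exact Units.ext (Matrix.ext fun i j => by simp [glReindex, e'])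
  let gsA : Fin 3 → GL (Fin 2) F :=
    ![A, Matrix.GeneralLinearGroup.mkOfDetNeZero C hCdet.1, Matrix.GeneralLinearGroup.mkOfDetNeZero D hCdet.2]
  let pu : GL (Fin 3 → Fin 2) F :=
    ⟨pureMat fun i => (gsA i : Matrix (Fin 2) (Fin 2) F), pureMat fun i => (↑(gsA i)⁻¹ : Matrix (Fin 2) (Fin 2) F),
      by simp only [pureMat_mul, Units.mul_inv]; exact pureMat_one,
      by simp only [pureMat_mul, Units.inv_mul]; exact pureMat_one⟩
  have hpu : pu ∈ Cfsg.Geo.tensorWreathStandard 2 3 F :=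
    Subgroup.subset_closure (Or.inl ⟨gsA, fun x y => rfl⟩)
  let σ : Equiv.Perm (Fin 3) := Equiv.swap 1 2
  have hperm : (permMat σ : Matrix (Fin 3 → Fin 2) (Fin 3 → Fin 2) F) * permMat σ = 1 := by
    ext x y
    simp only [Matrix.mul_apply, permMat, Matrix.of_apply, ite_mul, one_mul, zero_mul, Finset.sum_ite_eq',
      Finset.mem_univ, if_true, Matrix.one_apply]
    have : (x ∘ σ) ∘ σ = x := by funext i; simp [σ]
    rw [this]
    simp [eq_comm]
  let pe : GL (Fin 3 → Fin 2) F := ⟨permMat σ, permMat σ, hperm, hperm⟩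
  have hpe : pe ∈ Cfsg.Geo.tensorWreathStandard 2 3 F :=
    Subgroup.subset_closure (Or.inr ⟨σ, fun x y => rfl⟩)
  have hval : ∀ x y : Fin 3 → Fin 2, (glReindex η w' : Matrix (Fin 3 → Fin 2) (Fin 3 → Fin 2) F) x y =
      (A : Matrix (Fin 2) (Fin 2) F) (x 0) (y 0) * G (x 1, x 2) (y 1, y 2) := by
    intro x y
    show (w' : Matrix (Fin 2 × Fin 4) (Fin 2 × Fin 4) F) (η.symm x) (η.symm y) = _
    rw [hw'val]
    rfl
  rcases hCD with e0 | e0
  · have : glReindex η w' = pu := by
      ext x y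
      rw [hval, e0]
      show _ = ∏ i, (gsA i : Matrix (Fin 2) (Fin 2) F) (x i) (y i)
      rw [Fin.prod_univ_three]
      simp [gsA, mul_assoc]
    rw [this]
    exact hpu
  · have : glReindex η w' = pu * pe := by
      ext x y
      rw [hval, e0]
      show _ = ((pureMat fun i => (gsA i : Matrix (Fin 2) (Fin 2) F)) * permMat σ :
        Matrix (Fin 3 → Fin 2) (Fin 3 → Fin 2) F) x y
      rw [pureMat_mul_permMat, Fin.prod_univ_three, Matrix.mul_apply, Finset.sum_eq_single (y 2, y 1)]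
      · have h0 : σ 0 = 0 := by decide
        have h1 : σ 1 = 2 := by decide
        have h2' : σ 2 = 1 := by decide
        simp [gsA, h0, h1, h2', swapMat]
        ring
      · intro b _ hb
        simp only [swapMat, Matrix.of_apply]
        rw [if_neg, mul_zero]
        intro e1
        exact hb (by rw [← Prod.swap_swap b, ← e1]; rfl)
      · simp
    rw [this]
    exact mul_mem hpu hpe

end CfsgLib.Asch.SympPlus
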