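import Cfsg.Agent.Lib.Classical.OrthSpinor
import Cfsg.Agent.Lib.Classical.OrthNondegMax

set_option autoImplicit false
set_option linter.unusedSectionVars false

/-!
Over the field of three elements a decomposition into isometric three-dimensional subspaces refines to
an orthogonal frame, so its stabiliser is not maximal.
-/

namespace CfsgLib.Orth.DecompNotMax

open Matrix

variable {F : Type*} [Field F] [Finite F] {ι : Type} [Fintype ι] [DecidableEq ι]
variable {Q : QuadraticForm F (ι → F)} {t : ℕ} {D : Fin t → Submodule F (ι → F)}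

theorem three_zero (hq : Nat.card F = 3) : (3 : F) = 0 := by
  haveI : Fintype F := Fintype.ofFinite F
  have h := Nat.cast_card_eq_zero F
  rw [← Nat.card_eq_fintype_card, hq] at h
  exact_mod_cast h

theorem sq_eq_one (hq : Nat.card F = 3) {x : F} (hx : x ≠ 0) : x * x = 1 := by
  haveI : Fintype F := Fintype.ofFinite F
  have h := FiniteField.pow_card_sub_one_eq_one x hx
  rw [← Nat.card_eq_fintype_card, hq] at h
  rw [← h]; ring

/-- An orthogonal triple of equal norm. -/
def IsTriple (Q : QuadraticForm F (ι → F)) (W : Submodule F (ι → F)) (δ : F) (a : Fin 3 → ι → F) : Prop :=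
  (∀ k, a k ∈ W ∧ Q (a k) = δ) ∧ ∀ k l, k ≠ l → QuadraticMap.polar ⇑Q (a k) (a l) = 0

theorem exists_triple (hq : Nat.card F = 3) {W : Submodule F (ι → F)} (hW : NondegOn Q W)
    (h3 : Module.finrank F W = 3) : ∃ δ a, δ ≠ 0 ∧ IsTriple Q W δ a := by
  have three := three_zero hq
  have h2 : (2 : F) ≠ 0 := fun e => one_ne_zero (α := F) (by linear_combination three - e)
  haveI : Invertible (2 : F) := invertibleOfNonzero h2
  let Bf : LinearMap.BilinForm F W :=
    (QuadraticMap.polarBilin Q).compl₁₂ W.subtype W.subtype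
  have hsymm : LinearMap.IsSymm Bf := ⟨fun x y => by
    show QuadraticMap.polar ⇑Q _ _ = QuadraticMap.polar ⇑Q _ _
    exact b_comm _ _⟩
  obtain ⟨b, hb⟩ := LinearMap.BilinForm.exists_orthogonal_basis hsymm
  rw [LinearMap.isOrthoᵢ_def] at hb
  let e : Fin (Module.finrank F W) ≃ Fin 3 := finCongr h3
  let b' := b.reindex e
  have horth : ∀ k l, k ≠ l → QuadraticMap.polar ⇑Q (b' k : ι → F) (b' l : ι → F) = 0 := by
    intro k l hkl
    simp only [b', Module.Basis.reindex_apply]
    exact hb _ _ (e.symm.injective.ne hkl)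
  have hne : ∀ k, Q (b' k : ι → F) ≠ 0 := by
    intro k h0
    refine b'.ne_zero k (Subtype.ext (hW _ (b' k).2 fun y hy => ?_))
    have hy' : (⟨y, hy⟩ : W) = ∑ l, b'.repr ⟨y, hy⟩ l • b' l := (b'.sum_repr _).symm
    have hy'' : y = ∑ l, b'.repr ⟨y, hy⟩ l • (b' l : ι → F) := by
      have := congrArg Subtype.val hy'
      rw [Submodule.coe_sum] at this
      exact this
    rw [hy'', show QuadraticMap.polar ⇑Q (b' k : ι → F) (∑ l, b'.repr ⟨y, hy⟩ l • (b' l : ι → F)) =
      ∑ l, b'.repr ⟨y, hy⟩ l * QuadraticMap.polar ⇑Q (b' k : ι → F) (b' l : ι → F) from by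
        rw [← QuadraticMap.polarBilin_apply_apply, map_sum]
        simp [b_smul_right]]
    refine Finset.sum_eq_zero fun l _ => ?_
    rcases eq_or_ne k l with rfl | hkl
    · rw [b_self, h0, mul_zero, mul_zero]
    · rw [horth k l hkl, mul_zero]
  -- two of the three values agree
  have hval : ∀ x y : F, x ≠ 0 → y ≠ 0 → x ≠ y → y = -x := by
    intro x y hx hy hxy
    have h : (y - x) * (y + x) = 0 := by linear_combination (sq_eq_one hq hy) - (sq_eq_one hq hx)
    rcases mul_eq_zero.1 h with h | h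
    · exact absurd (sub_eq_zero.1 h).symm hxy
    · exact eq_neg_of_add_eq_zero_left h
  obtain ⟨i, j, k, hij, hik, hjk, hQij⟩ : ∃ i j k : Fin 3, i ≠ j ∧ i ≠ k ∧ j ≠ k ∧
      Q (b' i : ι → F) = Q (b' j : ι → F) := by
    by_cases h01 : Q (b' 0 : ι → F) = Q (b' 1 : ι → F)
    · exact ⟨0, 1, 2, by decide, by decide, by decide, h01⟩
    by_cases h02 : Q (b' 0 : ι → F) = Q (b' 2 : ι → F)
    · exact ⟨0, 2, 1, by decide, by decide, by decide, h02⟩
    refine ⟨1, 2, 0, by decide, by decide, by decide, ?_⟩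
    rw [hval _ _ (hne 0) (hne 1) h01, hval _ _ (hne 0) (hne 2) h02]
  set δ := Q (b' i : ι → F)
  by_cases hk : Q (b' k : ι → F) = δ
  · refine ⟨δ, ![(b' i : ι → F), b' j, b' k], hne i, fun l => ?_, fun l l' hl => ?_⟩
    · fin_cases l
      · exact ⟨(b' i).2, rfl⟩
      · exact ⟨(b' j).2, hQij.symm⟩
      · exact ⟨(b' k).2, hk⟩
    · fin_cases l <;> fin_cases l' <;>
        first
          | exact absurd rfl hl
          | exact horth _ _ hij | exact horth _ _ hik | exact horth _ _ hjk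
          | exact horth _ _ hij.symm | exact horth _ _ hik.symm | exact horth _ _ hjk.symm
  · have hk' : Q (b' k : ι → F) = -δ := hval _ _ (hne i) (hne k) (Ne.symm hk)
    refine ⟨-δ, ![(b' i : ι → F) + b' j, (b' i : ι → F) - b' j, b' k], neg_ne_zero.2 (hne i),
      fun l => ?_, fun l l' hl => ?_⟩
    · fin_cases l
      · refine ⟨W.add_mem (b' i).2 (b' j).2, ?_⟩
        show Q ((b' i : ι → F) + b' j) = -δ
        rw [q_add, horth _ _ hij, ← hQij]; linear_combination δ * three
      · refine ⟨W.sub_mem (b' i).2 (b' j).2, ?_⟩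
        show Q ((b' i : ι → F) - b' j) = -δ
        rw [q_sub, horth _ _ hij, ← hQij]; linear_combination δ * three
      · exact ⟨(b' k).2, hk'⟩
    · have e1 : QuadraticMap.polar ⇑Q ((b' i : ι → F) + b' j) ((b' i : ι → F) - b' j) = 0 := by
        rw [b_add_left, b_sub_right, b_sub_right, b_self, b_self, horth _ _ hij, horth _ _ hij.symm,
          show Q (b' j : ι → F) = Q (b' i : ι → F) from hQij.symm]
        ring
      have e2 : QuadraticMap.polar ⇑Q ((b' i : ι → F) + b' j) (b' k : ι → F) = 0 := by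
        rw [b_add_left, horth _ _ hik, horth _ _ hjk, add_zero]
      have e3 : QuadraticMap.polar ⇑Q ((b' i : ι → F) - b' j) (b' k : ι → F) = 0 := by
        rw [b_sub_left, horth _ _ hik, horth _ _ hjk, sub_zero]
      fin_cases l <;> fin_cases l' <;>
        first
          | exact absurd rfl hl
          | exact e1 | exact e2 | exact e3
          | exact (b_comm _ _).trans e1 | exact (b_comm _ _).trans e2 | exact (b_comm _ _).trans e3

theorem triple_cases (hq : Nat.card F = 3) {W : Submodule F (ι → F)}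
    (h3 : Module.finrank F W = 3) {δ : F} (hδ : δ ≠ 0) {a : Fin 3 → ι → F} (ha : IsTriple Q W δ a)
    {v : ι → F} (hv : v ∈ W) (hvδ : Q v = δ) (k : Fin 3) :
    QuadraticMap.polar ⇑Q v (a k) = 0 ∨ v = a k ∨ v = -(a k) := by
  have three := three_zero hq
  have h2δ : 2 * δ ≠ 0 := mul_ne_zero (fun e => one_ne_zero (α := F) (by linear_combination three - e)) hδ
  have hli : LinearIndependent F (fun l => (⟨a l, (ha.1 l).1⟩ : W)) := by
    rw [Fintype.linearIndependent_iff]
    intro c hc l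
    have hc' : ∑ i, c i • a i = 0 := by
      have := congrArg Subtype.val hc
      simpa using this
    have := congrArg (fun z => QuadraticMap.polarBilin Q (a l) z) hc'
    simp only [map_sum, map_zero, QuadraticMap.polarBilin_apply_apply, map_smul, smul_eq_mul] at this
    rw [Finset.sum_eq_single l (fun m _ hm => by rw [ha.2 l m (Ne.symm hm), mul_zero]) (by simp),
      b_self, (ha.1 l).2] at this
    exact (mul_eq_zero.1 this).resolve_right h2δ
  have hspan := hli.span_eq_top_of_card_eq_finrank (by rw [h3]; simp)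
  obtain ⟨c, hc⟩ := (Submodule.mem_span_range_iff_exists_fun F).1
    (hspan ▸ Submodule.mem_top : (⟨v, hv⟩ : W) ∈ Submodule.span F (Set.range _))
  have hc' : ∑ l, c l • a l = v := by
    have := congrArg Subtype.val hc
    simpa using this
  rw [Fin.sum_univ_three] at hc'
  have hQv : δ * (c 0 * c 0 + c 1 * c 1 + c 2 * c 2) = δ := by
    conv_rhs => rw [← hvδ, ← hc']
    simp only [q_add, q_smul, b_add_left, b_smul_left, b_smul_right, (ha.1 _).2,
      ha.2 0 1 (by decide), ha.2 0 2 (by decide), ha.2 1 2 (by decide)]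
    ring
  have hone : c 0 * c 0 + c 1 * c 1 + c 2 * c 2 = 1 :=
    mul_left_cancel₀ hδ (hQv.trans (mul_one δ).symm)
  by_cases hk : c k = 0
  · left
    rw [← hc', b_add_left, b_add_left, b_smul_left, b_smul_left, b_smul_left]
    fin_cases k <;>
      simp [ha.2 1 0 (by decide), ha.2 2 0 (by decide), ha.2 0 1 (by decide), ha.2 2 1 (by decide),
        ha.2 0 2 (by decide), ha.2 1 2 (by decide)] at hk ⊢ <;> simp [hk]
  right
  have hck : c k = 1 ∨ c k = -1 := mul_self_eq_one_iff.1 (sq_eq_one hq hk)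
  have hzero : ∀ l, l ≠ k → c l = 0 := by
    intro l hl
    by_contra hcl
    obtain ⟨r, hrk, hrl⟩ := (by decide : ∀ k l : Fin 3, ∃ r : Fin 3, r ≠ k ∧ r ≠ l) k l
    have hsum : c k * c k + c l * c l + c r * c r = 1 := by
      rw [← hone]
      fin_cases k <;> fin_cases l <;> fin_cases r <;>
        first | exact absurd rfl hl | exact absurd rfl hrk | exact absurd rfl hrl | (simp only [Fin.mk_zero, Fin.mk_one, Fin.reduceFinMk] <;> ring)
    by_cases hcr : c r = 0
    · rw [sq_eq_one hq hk, sq_eq_one hq hcl, hcr] at hsum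
      exact one_ne_zero (α := F) (by linear_combination hsum)
    · rw [sq_eq_one hq hk, sq_eq_one hq hcl, sq_eq_one hq hcr] at hsum
      exact h2δ (by linear_combination δ * hsum + (0 : F) * three)
  have hv' : v = c k • a k := by
    rw [← hc']
    fin_cases k <;> simp [hzero 0, hzero 1, hzero 2]
  rcases hck with h | h <;> rw [h] at hv'
  · left; rw [hv', one_smul]
  · right; rw [hv', neg_one_smul]

/-- The vectors of norm `δ` in the members. -/
def frame (Q : QuadraticForm F (ι → F)) (D : Fin t → Submodule F (ι → F)) (δ : F) : Set (ι → F) :=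
  {v | ∃ i, v ∈ D i ∧ Q v = δ}

/-- The stabiliser of the frame. -/
def fixer (Q : QuadraticForm F (ι → F)) (D : Fin t → Submodule F (ι → F)) (δ : F) : Subgroup (Grp Q) where
  carrier := {g | ∀ v, v ∈ frame Q D δ ↔ ap g v ∈ frame Q D δ}
  one_mem' v := by rw [ap_one]
  mul_mem' {a b} ha hb v := by rw [ap_mul, ← ha, ← hb]
  inv_mem' {a} ha v := by rw [ha (ap a⁻¹ v), ap_ap_inv]

theorem exists_between (hB : Nondeg Q) (hq : Nat.card F = 3) (ht : 5 ≤ t)
    (hD : Cfsg.Geo.IsOrthogonalMDecomposition ⇑Q 3 D) :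
    ∃ K : Subgroup (GL ι F), Cfsg.Geo.decompositionStabilizer D ⊓ Cfsg.Geo.omegaGL ⇑Q < K ∧
      K < Cfsg.Geo.omegaGL ⇑Q := by
  classical
  have three := three_zero hq
  have h2 : (2 : F) ≠ 0 := fun e => one_ne_zero (α := F) (by linear_combination three - e)
  let c : Fin 5 → Fin t := fun i => ⟨i, by omega⟩
  have hc : Function.Injective c := fun i j h => Fin.ext (congrArg Fin.val h : _)
  obtain ⟨δ, a0, hδ, ha0⟩ := exists_triple hq (nondegOn_of (hD.decomp.nondegenerate (c 0)))
    (hD.decomp.decomp.finrank_eq (c 0))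
  have htr : ∀ i, ∃ a, IsTriple Q (D i) δ a := by
    intro i
    obtain ⟨e, he⟩ := hD.isometric (c 0) i
    have he' : ∀ x (hx : x ∈ D (c 0)), Q (e ⟨x, hx⟩ : ι → F) = Q x := fun x hx => he ⟨x, hx⟩
    refine ⟨fun k => (e ⟨a0 k, (ha0.1 k).1⟩ : ι → F),
      fun k => ⟨(e _).2, (he' _ _).trans (ha0.1 k).2⟩, fun k l hkl => ?_⟩
    show QuadraticMap.polar ⇑Q _ _ = 0
    refine Eq.trans ?_ (ha0.2 k l hkl)
    unfold QuadraticMap.polar
    rw [he', he', ← Submodule.coe_add, ← map_add]
    exact congrArg (· - _ - _) (he' _ _)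
  choose a ha using htr
  have h3 : ∀ i, Module.finrank F (D i) = 3 := hD.decomp.decomp.finrank_eq
  have horth : ∀ i j, i ≠ j → ∀ x ∈ D i, ∀ y ∈ D j, QuadraticMap.polar ⇑Q x y = 0 :=
    hD.decomp.orthogonal
  have hQd : ∀ i j, i ≠ j → ∀ k l, Q (a i k - a j l) = 2 * δ := fun i j hij k l => by
    rw [q_sub, ((ha i).1 k).2, ((ha j).1 l).2, horth i j hij _ ((ha i).1 k).1 _ ((ha j).1 l).1]
    ring
  have h2δ : 2 * δ ≠ 0 := mul_ne_zero h2 hδ
  have hinj := (Cfsg.isometryGroup F ⇑Q).subtype_injective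
  have hfin : ∀ {v w : ι → F} {r s : Grp Q}, IsRefl v r → IsRefl w s → Q v = 2 * δ → Q w = 2 * δ →
      r⁻¹ * s ∈ Cfsg.Omega F ⇑Q := by
    intro v w r s hr hs hv hw
    exact QuotientGroup.eq.1 (mk_refl_of_square hB h2 hr hs ⟨2 * δ, by rw [hv, hw]⟩)
  have hinv : ∀ {v : ι → F} {r : Grp Q}, IsRefl v r → ∀ x, ap r⁻¹ x = ap r x := by
    intro v r hr x
    apply ap_inj r
    rw [ap_ap_inv, hr.2, hr.2 x, b_sub_right, b_smul_right, b_self]
    match_scalars
    · ring
    · field_simp [hr.1]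
      ring
  refine ⟨(fixer Q D δ ⊓ Cfsg.Omega F ⇑Q).map (Cfsg.isometryGroup F ⇑Q).subtype,
    lt_of_le_not_ge ?_ fun hge => ?_, ?_⟩
  · intro g hg
    obtain ⟨hg1, s, hs, rfl⟩ := hg
    obtain ⟨σ, hσ⟩ := hg1
    refine ⟨s, ⟨fun v => ?_, hs⟩, rfl⟩
    constructor
    · rintro ⟨i, hi, hv⟩
      exact ⟨σ i, hσ i ▸ ⟨v, hi, rfl⟩, by rw [ap_q]; exact hv⟩
    · rintro ⟨i, hi, hv⟩
      rw [ap_q] at hv
      have h := hσ (σ.symm i)
      rw [Equiv.apply_symm_apply] at h
      obtain ⟨w, hw, e⟩ := (h.symm ▸ hi : ap s v ∈ _)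
      exact ⟨σ.symm i, ap_inj s e ▸ hw, hv⟩
  · -- exchange two frame vectors in different members, twice
    obtain ⟨r, hr⟩ := exists_refl hB (v := a (c 0) 0 - a (c 1) 0)
      (by rw [hQd _ _ (by simp [hc.eq_iff])]; exact h2δ)
    obtain ⟨s, hs⟩ := exists_refl hB (v := a (c 2) 0 - a (c 3) 0)
      (by rw [hQd _ _ (by simp [hc.eq_iff])]; exact h2δ)
    have hpres : ∀ (i j : Fin t) (u : Grp Q), i ≠ j → IsRefl (a i 0 - a j 0) u →
        ∀ v ∈ frame Q D δ, ap u v ∈ frame Q D δ := by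
      intro i j u hij hu v hv
      obtain ⟨l, hl, hvδ⟩ := hv
      rw [hu.2, hQd i j hij, b_sub_left]
      by_cases hli : l = i
      · subst hli
        rw [b_comm (a j 0), horth l j hij v hl _ ((ha j).1 0).1, sub_zero, b_comm]
        rcases triple_cases hq (h3 l) hδ (ha l) hl hvδ 0 with h | rfl | rfl
        · rw [h, mul_zero, zero_smul, sub_zero]; exact ⟨l, hl, hvδ⟩
        · rw [b_self, ((ha l).1 0).2, inv_mul_cancel₀ h2δ, one_smul, sub_sub_cancel]
          exact ⟨j, ((ha j).1 0).1, ((ha j).1 0).2⟩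
        · rw [← neg_one_smul F (a l 0), b_smul_left, b_self, ((ha l).1 0).2, mul_left_comm,
            inv_mul_cancel₀ h2δ, mul_one, neg_one_smul, neg_one_smul,
            show -a l 0 - -(a l 0 - a j 0) = -a j 0 by abel]
          exact ⟨j, (D j).neg_mem ((ha j).1 0).1, by rw [QuadraticMap.map_neg]; exact ((ha j).1 0).2⟩
      by_cases hlj : l = j
      · subst hlj
        rw [b_comm (a i 0), horth l i hij.symm v hl _ ((ha i).1 0).1, zero_sub, b_comm]
        rcases triple_cases hq (h3 l) hδ (ha l) hl hvδ 0 with h | rfl | rfl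
        · rw [h, neg_zero, mul_zero, zero_smul, sub_zero]; exact ⟨l, hl, hvδ⟩
        · rw [b_self, ((ha l).1 0).2, mul_neg, inv_mul_cancel₀ h2δ, neg_one_smul, sub_neg_eq_add,
            add_sub_cancel]
          exact ⟨i, ((ha i).1 0).1, ((ha i).1 0).2⟩
        · rw [← neg_one_smul F (a l 0), b_smul_left, b_self, ((ha l).1 0).2, neg_one_mul, neg_neg,
            inv_mul_cancel₀ h2δ, one_smul, neg_one_smul,
            show -a l 0 - (a i 0 - a l 0) = -a i 0 by abel]
          exact ⟨i, (D i).neg_mem ((ha i).1 0).1, by rw [QuadraticMap.map_neg]; exact ((ha i).1 0).2⟩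
      rw [b_comm, horth l i hli v hl _ ((ha i).1 0).1, b_comm, horth l j hlj v hl _ ((ha j).1 0).1,
        sub_zero, mul_zero, zero_smul, sub_zero]
      exact ⟨l, hl, hvδ⟩
    have hrs : r⁻¹ * s ∈ fixer Q D δ := by
      have hmem : ∀ {i j : Fin t} {u : Grp Q}, i ≠ j → IsRefl (a i 0 - a j 0) u → u ∈ fixer Q D δ := by
        intro i j u hij hu v
        refine ⟨hpres i j u hij hu v, fun h => ?_⟩
        have h' := hpres i j u hij hu _ h
        rwa [← hinv hu, ap_inv_ap] at h'
      exact Subgroup.mul_mem _ (Subgroup.inv_mem _ (hmem (by simp [hc.eq_iff]) hr))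
        (hmem (by simp [hc.eq_iff]) hs)
    obtain ⟨σ, hσ⟩ := (hge ⟨r⁻¹ * s, ⟨hrs, hfin hr hs (hQd _ _ (by simp [hc.eq_iff]) _ _)
      (hQd _ _ (by simp [hc.eq_iff]) _ _)⟩, rfl⟩).1
    have hmap : ∀ x ∈ D (c 0), ap (r⁻¹ * s) x ∈ D (σ (c 0)) := fun x hx => hσ (c 0) ▸ ⟨x, hx, rfl⟩
    have hs0 : ∀ x ∈ D (c 0), ap s x = x := fun x hx => by
      rw [hs.2, b_sub_left, b_comm, horth (c 0) (c 2) (by simp [hc.eq_iff]) x hx _ ((ha _).1 0).1,
        b_comm, horth (c 0) (c 3) (by simp [hc.eq_iff]) x hx _ ((ha _).1 0).1, sub_zero, mul_zero,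
        zero_smul, sub_zero]
    have h01 : c 0 ≠ c 1 := by simp [hc.eq_iff]
    have e0 := hmap _ ((ha (c 0)).1 0).1
    rw [ap_mul, hs0 _ ((ha (c 0)).1 0).1, hinv hr, hr.2, b_sub_left, b_self,
      ((ha (c 0)).1 0).2, b_comm, horth _ _ h01 _ ((ha (c 0)).1 0).1 _ ((ha (c 1)).1 0).1, sub_zero,
      hQd _ _ h01, inv_mul_cancel₀ h2δ, one_smul, sub_sub_cancel] at e0
    have e1 := hmap _ ((ha (c 0)).1 1).1
    rw [ap_mul, hs0 _ ((ha (c 0)).1 1).1, hinv hr, hr.2, b_sub_left, (ha (c 0)).2 0 1 (by decide),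
      b_comm, horth _ _ h01 _ ((ha (c 0)).1 1).1 _ ((ha (c 1)).1 0).1, sub_zero, mul_zero,
      zero_smul, sub_zero] at e1
    have key : ∀ i, ∀ x ∈ D i, Q x = δ → x ∈ D (σ (c 0)) → σ (c 0) = i := by
      intro i x hx hQx hx'
      by_contra hne
      have := horth _ _ hne x hx' x hx
      rw [b_self, hQx] at this
      exact h2δ this
    exact h01 ((key _ _ ((ha (c 0)).1 1).1 ((ha (c 0)).1 1).2 e1).symm.trans
      (key _ _ ((ha (c 1)).1 0).1 ((ha (c 1)).1 0).2 e0))
  · refine (Subgroup.map_lt_map_iff_of_injective hinj).2 (lt_of_le_not_ge inf_le_right fun hge => ?_)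
    set w := a (c 0) 0 + a (c 1) 0 + a (c 2) 0 + a (c 3) 0 + a (c 4) 0
    have hau : ∀ i j : Fin 5, QuadraticMap.polar ⇑Q (a (c i) 0) (a (c j) 0) =
        if i = j then 2 * δ else 0 := by
      intro i j
      split_ifs with h
      · subst h; rw [b_self, ((ha _).1 0).2]
      · exact horth _ _ (hc.ne h) _ ((ha _).1 0).1 _ ((ha _).1 0).1
    have hw : Q w = 2 * δ := by
      simp only [w, q_add, b_add_left, ((ha _).1 0).2, hau]
      simp
      linear_combination δ * three
    obtain ⟨r, hr⟩ := exists_refl hB (v := w) (by rw [hw]; exact h2δ)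
    obtain ⟨s, hs⟩ := exists_refl hB (v := a (c 1) 1 - a (c 2) 1)
      (by rw [hQd _ _ (by simp [hc.eq_iff])]; exact h2δ)
    obtain ⟨l, hl, -⟩ := ((hge (hfin hr hs hw (hQd _ _ (by simp [hc.eq_iff]) _ _))).1 (a (c 0) 0)).1
      ⟨c 0, ((ha _).1 0).1, ((ha _).1 0).2⟩
    rw [ap_mul, hs.2, b_sub_left, horth (c 1) (c 0) (by simp [hc.eq_iff]) _ ((ha _).1 1).1 _ ((ha _).1 0).1,
      horth (c 2) (c 0) (by simp [hc.eq_iff]) _ ((ha _).1 1).1 _ ((ha _).1 0).1, sub_zero, mul_zero,
      zero_smul, sub_zero, hinv hr, hr.2, hw] at hl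
    have hb : QuadraticMap.polar ⇑Q w (a (c 0) 0) = 2 * δ := by
      simp only [w, b_add_left, hau]; simp
    rw [hb, inv_mul_cancel₀ h2δ, one_smul] at hl
    have hl' : ∀ j : Fin 5, j ≠ 0 → l = c j := by
      intro j hj
      by_contra hne
      have h := horth _ _ hne _ hl _ ((ha (c j)).1 0).1
      simp only [w, b_sub_left, b_add_left, hau] at h
      fin_cases j <;> simp at h hj
      all_goals exact h2δ (by simpa using h)
    exact absurd (hc ((hl' 1 (by decide)).symm.trans (hl' 2 (by decide)))) (by decide)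

end CfsgLib.Orth.DecompNotMax
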