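import Cfsg.Agent.Lib.Classical.AschOrthEven
import Cfsg.Agent.Lib.Classical.AschOrthNotLe
import Cfsg.Agent.Lib.Classical.AschOrthPure
import Cfsg.Agent.Lib.Classical.AschSympPlus
import Cfsg.Agent.Lib.Classical.OrthDecompNotMax

set_option autoImplicit false
set_option linter.unusedSectionVars false

/-!
Twelve dimensions: planes over two elements and the product of a three- and a four-dimensional space.
-/

namespace CfsgLib.Asch.OrthTwelve

open Matrix
open Cfsg.Geo (matrixSet ActsIrreducibly IsPlusTypeOn IsTotallySingularQuad omegaGL decompositionStabilizer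
  tensorProductSubgroup IsOrthogonalMDecomposition)
open CfsgLib.Orth (Nondeg NondegOn b_comm b_add_left b_add_right b_smul_left b_smul_right b_zero_left b_zero_right
  b_self q_add q_smul)
open CfsgLib.Asch.OrthTypes
open CfsgLib.Orth.DecompNotMax (IsTriple exists_triple triple_cases)
open scoped MatrixGroups Kronecker

variable {F : Type*} [Field F] [Fintype F] {n : ℕ} {Q : QuadraticForm F (Fin n → F)}

local notation "B" => QuadraticMap.polar (DFunLike.coe Q)
local notation "τ₁" => RingEquiv.refl F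

/-- Members of a decomposition permuted up to inclusion. -/
theorem le_decomp {t k : ℕ} {D : Fin t → Submodule F (Fin n → F)} (hD : Cfsg.Geo.IsMDecomposition k D)
    {H : Subgroup (GL (Fin n) F)}
    (h : ∀ g ∈ H, ∀ i, ∃ j, ∀ w ∈ D i, g.val *ᵥ w ∈ D j) : H ≤ decompositionStabilizer D := by
  intro g hg
  choose f hf using h g hg
  have hinjg : Function.Injective (Matrix.toLin' g.val) := fun x y hxy => by
    simpa [Matrix.toLin'_apply, mulVec_mulVec] using congrArg (fun z => (g⁻¹).val *ᵥ z) hxy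
  have hmap : ∀ i, (D i).map (Matrix.toLin' g.val) = D (f i) := fun i => by
    refine Submodule.eq_of_le_of_finrank_eq ?_ ?_
    · rintro _ ⟨w, hw, rfl⟩
      rw [Matrix.toLin'_apply]
      exact hf i w hw
    · rw [← (Submodule.equivMapOfInjective _ hinjg (D i)).finrank_eq, hD.finrank_eq, hD.finrank_eq]
  have hinjD : Function.Injective D := fun i j hij => by
    by_contra hne
    have h0 := hD.indep.pairwiseDisjoint hne
    simp only [Function.onFun, hij, disjoint_self] at h0
    have := hD.finrank_eq j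
    rw [h0, finrank_bot] at this
    exact hD.pos.ne this
  have hfinj : Function.Injective f := fun i j hij => by
    apply hinjD
    apply Submodule.map_injective_of_injective hinjg
    rw [hmap, hmap, hij]
  exact ⟨Equiv.ofBijective f ⟨hfinj, (Finite.injective_iff_surjective.1 hfinj)⟩, hmap⟩

/-- Over two elements four-dimensional members of plus type split into minus planes. -/
theorem six_minus_planes (hB : Nondeg Q) (hq : Fintype.card F = 2) {H : Subgroup (GL (Fin n) F)}
    (hH : H ≤ omegaGL ⇑Q) (hirr : ActsIrreducibly (matrixSet H)) {t : ℕ} (ht : 1 ≤ t)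
    {D : Fin t → Submodule F (Fin n → F)} (hD : IsOrthogonalMDecomposition ⇑Q 4 D)
    (hp : ∀ i, IsPlusTypeOn ⇑Q (D i)) (hle : H ≤ decompositionStabilizer D) :
    ∃ D' : Fin (t * 2) → Submodule F (Fin n → F), IsOrthogonalMDecomposition ⇑Q 2 D' ∧
      (∀ i, ¬ IsPlusTypeOn ⇑Q (D' i)) ∧ H ≤ decompositionStabilizer D' := by
  classical
  have hone : ∀ d : F, d ≠ 0 → d = 1 := fun d hd => by
    simpa [hq] using FiniteField.pow_card_sub_one_eq_one d hd
  have h2 : (2 : F) = 0 := by
    have := Nat.cast_card_eq_zero F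
    rwa [hq, Nat.cast_ofNat] at this
  have hsplit : ∀ i, ∃ P : Fin 2 → Submodule F (Fin n → F), (∀ l, P l ≤ D i) ∧ (∀ l, Module.finrank F (P l) = 2) ∧
      (∀ l, ¬ IsPlusTypeOn ⇑Q (P l)) ∧ (∀ u ∈ P 0, ∀ w ∈ P 1, B u w = 0) ∧ P 0 ⊔ P 1 = D i := by
    intro i
    have hW := nondegOn_of_decomp hD i
    obtain ⟨a, b, hab⟩ := CfsgLib.Classical.RestrictScalars.exists_ab (F := F)
    rcases type_cases hW (k := 2) (by rw [hD.decomp.decomp.finrank_eq]) hab with ⟨-, e, he⟩ | ⟨h, -⟩
    swap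
    · exact absurd (hp i) h
    have hval : ∀ z, Q ((e.symm z : D i) : Fin n → F) = z (.inl 0) * z (.inr 0) + z (.inl 1) * z (.inr 1) := fun z => by
      have := he (e.symm z)
      rw [LinearEquiv.apply_symm_apply] at this
      rw [show Q ((e.symm z : D i) : Fin n → F) = _ from this.symm]
      simp [Cfsg.quadFormPlus, Fin.sum_univ_two]
    obtain ⟨zu, hzu⟩ : ∃ z : Fin 2 ⊕ Fin 2 → F, z = Sum.elim ![1, 0] ![1, 0] := ⟨_, rfl⟩
    obtain ⟨zv, hzv⟩ : ∃ z : Fin 2 ⊕ Fin 2 → F, z = Sum.elim ![1, 1] ![0, 1] := ⟨_, rfl⟩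
    set u := ((e.symm zu : D i) : Fin n → F) with hu
    set v := ((e.symm zv : D i) : Fin n → F) with hv
    have hqu : Q u = 1 := by rw [hu, hval, hzu]; simp
    have hqv : Q v = 1 := by rw [hv, hval, hzv]; simp
    have hquv : B u v = 1 := by
      unfold QuadraticMap.polar
      rw [hqu, hqv, hu, hv, ← Submodule.coe_add, ← map_add, hval, hzu, hzv]
      simp
    have hall : ∀ a b : F, (a, b) ≠ (0, 0) → Q (a • u + b • v) = 1 := by
      intro a b hne
      rw [q_add, q_smul, q_smul, b_smul_left, b_smul_right, hqu, hqv, hquv]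
      by_cases ha : a = 0 <;> by_cases hb : b = 0
      · exact absurd (by rw [ha, hb]) hne
      · rw [ha, hone b hb]; ring
      · rw [hb, hone a ha]; ring
      · rw [hone a ha, hone b hb]; linear_combination h2
    have hli : LinearIndependent F ![u, v] := by
      rw [LinearIndependent.pair_iff]
      intro a b hab
      by_contra hne
      have := hall a b (fun e0 => hne (by simpa using e0))
      rw [hab, QuadraticMap.map_zero] at this
      exact zero_ne_one this
    let P₁ := Submodule.span F ({u, v} : Set (Fin n → F))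
    have hP₁d : Module.finrank F P₁ = 2 := by
      have h := finrank_span_eq_card hli
      rwa [Matrix.range_cons_cons_empty, Fintype.card_fin] at h
    have hP₁le : P₁ ≤ D i := Submodule.span_le.2 (by
      rintro w (rfl | rfl)
      exacts [(e.symm zu).2, (e.symm zv).2])
    have hP₁q : ∀ x ∈ P₁, x ≠ 0 → Q x = 1 := by
      intro x hx hx0
      obtain ⟨a, b, rfl⟩ := Submodule.mem_span_pair.1 hx
      exact hall a b fun e0 => hx0 (by simp [(Prod.mk.injEq .. ▸ e0 : a = 0 ∧ b = 0).1,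
        (Prod.mk.injEq .. ▸ e0 : a = 0 ∧ b = 0).2])
    have hP₁np : ¬ IsPlusTypeOn ⇑Q P₁ := by
      rintro ⟨U, hU, hUq, hUd⟩
      obtain ⟨x, hx, hx0⟩ := Submodule.exists_mem_ne_zero_of_ne_bot (p := U) fun e0 => by
        rw [e0, finrank_bot, hP₁d] at hUd; omega
      exact one_ne_zero ((hP₁q x (hU hx) hx0).symm.trans (hUq x hx))
    have hP₁nd : NondegOn Q P₁ := by
      intro x hx h
      obtain ⟨a, b, rfl⟩ := Submodule.mem_span_pair.1 hx
      have h1 := h u (Submodule.subset_span (Or.inl rfl))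
      have h2' := h v (Submodule.subset_span (Or.inr rfl))
      simp only [b_add_left, b_smul_left, b_self, hqu, hqv, hquv, b_comm v u, h2, zero_mul, mul_zero, zero_add,
        add_zero, mul_one] at h1 h2'
      rw [h1, h2', zero_smul, zero_smul, add_zero]
    let P₂ := D i ⊓ CfsgLib.Orth.orth Q P₁
    have hperp : ∀ p ∈ P₁, ∀ w ∈ P₂, B p w = 0 := fun p hp w hw => CfsgLib.Orth.mem_orth.1 hw.2 p hp
    have hsup : P₁ ⊔ P₂ = D i := by
      refine le_antisymm (sup_le hP₁le inf_le_left) fun x hx => ?_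
      obtain ⟨p, hp, z, hz, rfl⟩ := CfsgLib.Orth.exists_decomp hB hP₁nd x
      refine Submodule.add_mem_sup hp ⟨?_, hz⟩
      simpa using (D i).sub_mem hx (hP₁le hp)
    have hP₂d : Module.finrank F P₂ = 2 := by
      have h := finrank_sup hP₁nd hperp
      rw [hsup, hD.decomp.decomp.finrank_eq, hP₁d] at h
      omega
    have hP₂nd : NondegOn Q P₂ := fun x hx h => by
      refine hW x hx.1 fun y hy => ?_
      obtain ⟨p, hp, w, hw, rfl⟩ := Submodule.mem_sup.1 (hsup.symm ▸ hy : y ∈ P₁ ⊔ P₂)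
      rw [b_add_right, h w hw, b_comm, hperp p hp x hx, add_zero]
    have hs := plus_sup_iff hP₁nd hP₂nd hperp (by rw [hP₁d]; exact even_two) (by rw [hP₂d]; exact even_two)
    rw [hsup] at hs
    have hP₂np : ¬ IsPlusTypeOn ⇑Q P₂ := fun h => hP₁np ((hs.1 (hp i)).2 h)
    refine ⟨![P₁, P₂], fun l => ?_, fun l => ?_, fun l => ?_, hperp, hsup⟩
    all_goals fin_cases l
    exacts [hP₁le, inf_le_left, hP₁d, hP₂d, hP₁np, hP₂np]
  choose P hPle hPd hPnp hPperp hPsup using hsplit
  have hpos : ∀ i l, ∀ x ∈ P i l, x ≠ 0 → Q x = 1 := fun i l x hx hx0 =>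
    hone _ fun e => hPnp i l (CfsgLib.Orth.isPlusTypeOn_of_singular (hPd i l) hx hx0 e)
  let D' : Fin (t * 2) → Submodule F (Fin n → F) := fun j => P (finProdFinEquiv.symm j).1 (finProdFinEquiv.symm j).2
  have hperp' : ∀ i l i' l', (i, l) ≠ (i', l') → ∀ u ∈ P i l, ∀ w ∈ P i' l', B u w = 0 := by
    intro i l i' l' hne u hu w hw
    by_cases hi : i = i'
    · subst hi
      have hl : l ≠ l' := fun e => hne (by rw [e])
      obtain rfl | rfl : l = 0 ∨ l = 1 := Fin.exists_fin_two.1 ⟨l, rfl⟩ <;>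
        obtain rfl | rfl : l' = 0 ∨ l' = 1 := Fin.exists_fin_two.1 ⟨l', rfl⟩
      · exact absurd rfl hl
      · exact hPperp i u hu w hw
      · rw [b_comm]; exact hPperp i w hw u hu
      · exact absurd rfl hl
    · exact hD.decomp.orthogonal i i' hi u (hPle i l hu) w (hPle i' l' hw)
  have hnd := nondegDecomp_mk (orth_data hB) (D := D') (k := 2) (by omega) two_pos (fun j => hPd _ _)
    (fun j j' hjj' => by
      intro x hx y hy
      rw [← polar_sform hB]
      exact hperp' _ _ _ _ (fun e => hjj' (finProdFinEquiv.symm.injective e)) x hx y hy)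
    (eq_top_iff.2 (hD.decomp.decomp.iSup_eq_top ▸ iSup_le fun i => (hPsup i).symm.le.trans (sup_le
      (le_iSup_of_le (finProdFinEquiv (i, 0)) (by simp only [D', Equiv.symm_apply_apply]; exact le_rfl))
      (le_iSup_of_le (finProdFinEquiv (i, 1)) (by simp only [D', Equiv.symm_apply_apply]; exact le_rfl)))))
  rw [sform_polar hB] at hnd
  have hle' : H ≤ decompositionStabilizer D' := by
    refine le_decomp hnd.decomp fun g hg j => ?_
    obtain ⟨σ, hσ⟩ := hle hg
    obtain ⟨i, l⟩ : ∃ i l, finProdFinEquiv.symm j = (i, l) := ⟨_, _, rfl⟩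
    obtain ⟨l, hl⟩ := l
    simp only [D', hl]
    have himg : ∀ w ∈ P i l, w ≠ 0 → g.val *ᵥ w ∈ P (σ i) 0 ∨ g.val *ᵥ w ∈ P (σ i) 1 := by
      intro w hw hw0
      have hmem : g.val *ᵥ w ∈ D (σ i) := hσ i ▸ ⟨w, hPle i l hw, Matrix.toLin'_apply _ _⟩
      rw [← hPsup] at hmem
      obtain ⟨a, ha, b, hb, hab⟩ := Submodule.mem_sup.1 hmem
      by_cases ha0 : a = 0
      · right; rw [← hab, ha0, zero_add]; exact hb
      by_cases hb0 : b = 0
      · left; rw [← hab, hb0, add_zero]; exact ha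
      exfalso
      have h := omega_quad hH hg w
      rw [hpos i l w hw hw0, ← hab, q_add, hpos _ _ a ha ha0, hpos _ _ b hb hb0, hPperp _ a ha b hb] at h
      exact one_ne_zero (α := F) (by linear_combination h2 - h)
    by_cases hall : ∀ w ∈ P i l, g.val *ᵥ w ∈ P (σ i) 0
    · exact ⟨finProdFinEquiv (σ i, 0), fun w hw => by simpa using hall w hw⟩
    push Not at hall
    obtain ⟨w₀, hw₀, hw₀'⟩ := hall
    have hw₀ne : w₀ ≠ 0 := fun e => hw₀' (by rw [e, mulVec_zero]; exact zero_mem _)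
    have h1 := (himg w₀ hw₀ hw₀ne).resolve_left hw₀'
    refine ⟨finProdFinEquiv (σ i, 1), fun w hw => ?_⟩
    simp only [Equiv.symm_apply_apply]
    by_cases hw0 : w = 0
    · rw [hw0, mulVec_zero]; exact zero_mem _
    rcases himg w hw hw0 with h | h
    swap
    · exact h
    by_cases hs : w₀ + w = 0
    · rw [eq_neg_of_add_eq_zero_right hs, mulVec_neg]
      exact neg_mem h1
    rcases himg (w₀ + w) (add_mem hw₀ hw) hs with h' | h' <;> rw [mulVec_add] at h'
    · exact absurd (by simpa using sub_mem h' h) hw₀'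
    · simpa using sub_mem h' h1
  exact ⟨D', decomp_isometric hH hirr hnd hle', fun j => hPnp _ _, hle'⟩

/-! ### Products of a three- and a four-dimensional space -/

/-- The type of the product is the type of the four-dimensional factor. -/
theorem symTensor_type (hB : Nondeg Q) (hodd : Odd (Fintype.card F)) {e : Fin n ≃ Fin 3 × Fin 4} {P : GL (Fin n) F}
    {J₁ : Matrix (Fin 3) (Fin 3) F} {J₂ : Matrix (Fin 4) (Fin 4) F} (h₁ : FormData τ₁ J₁ 1) (h₂ : FormData τ₁ J₂ 1)
    (hF : fcoord τ₁ (ogram Q) e P = J₁ ⊗ₖ J₂) :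
    IsPlusTypeOn ⇑Q ⊤ ↔ IsPlusTypeOn (fun v : Fin 4 → F => sform τ₁ J₂ v v) ⊤ := by
  classical
  have h2 := PrimeDim.two_ne_zero_of_odd hodd
  have hn : n = 2 * 6 := by simpa using Fintype.card_congr e
  have hfin : Module.finrank F (Fin n → F) = n := Module.finrank_fin_fun F
  let b₂ : LinearMap.BilinForm F (Fin 4 → F) := Matrix.toLinearMap₂' F J₂
  have hb₂ : ∀ x y, b₂ x y = sform τ₁ J₂ x y := fun x y => by
    simp [b₂, Matrix.toLinearMap₂'_apply', sform, Function.comp_def]
  have hM₂ : LinearMap.toMatrix₂ (Pi.basisFun F (Fin 4)) (Pi.basisFun F (Fin 4)) b₂ = J₂ := by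
    ext i j
    simp [LinearMap.toMatrix₂_apply, hb₂, sform_single]
  have hM : LinearMap.toMatrix₂ (Pi.basisFun F (Fin n)) (Pi.basisFun F (Fin n)) (QuadraticMap.polarBilin Q) =
      ogram Q := by
    ext i j
    simp [LinearMap.toMatrix₂_apply, ogram, Cfsg.Geo.gramMatrix]
  have hd₂ : J₂.det ≠ 0 := ((Matrix.isUnit_iff_isUnit_det J₂).1 h₂.unit).ne_zero
  have hd₁ : J₁.det ≠ 0 := ((Matrix.isUnit_iff_isUnit_det J₁).1 h₁.unit).ne_zero
  have key₂ : IsPlusTypeOn (fun v : Fin 4 → F => sform τ₁ J₂ v v) ⊤ ↔ IsSquare ((-1 : F) ^ 2 * J₂.det) := by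
    have hhalf := CfsgLib.Classical.SymmDisc.half_iff h2 b₂ (fun x y => by
      rw [hb₂, hb₂]
      have := h₂.swap y x
      simpa using this.symm) ((LinearMap.separatingLeft_iff_det_ne_zero (Pi.basisFun F (Fin 4))).2 (by rwa [hM₂]))
      2 (by rw [Module.finrank_fin_fun]) (Pi.basisFun F (Fin 4))
    rw [hM₂] at hhalf
    refine Iff.trans ?_ hhalf
    constructor
    · rintro ⟨U, -, hU, hd⟩
      rw [finrank_top, Module.finrank_fin_fun] at hd
      refine ⟨U, by omega, fun x hx y hy => ?_⟩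
      have a : sform τ₁ J₂ (x + y) (x + y) = 0 := hU _ (add_mem hx hy)
      have bx : sform τ₁ J₂ x x = 0 := hU x hx
      have by' : sform τ₁ J₂ y y = 0 := hU y hy
      rw [sform_add_left, sform_add_right, sform_add_right, bx, by',
        show sform τ₁ J₂ y x = sform τ₁ J₂ x y by simpa using (h₂.swap x y).symm] at a
      rw [hb₂]
      exact (mul_eq_zero.1 (show (2 : F) * _ = 0 by linear_combination a)).resolve_left h2
    · rintro ⟨X, hd, hX⟩
      refine ⟨X, le_top, fun x hx => ?_, by rw [finrank_top, Module.finrank_fin_fun]; omega⟩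
      show sform τ₁ J₂ x x = 0
      rw [← hb₂]
      exact hX x hx x hx
  have key : IsPlusTypeOn ⇑Q ⊤ ↔ IsSquare ((-1 : F) ^ 6 * (ogram Q).det) := by
    rw [← hM]
    refine Iff.trans ?_ (CfsgLib.Classical.SymmDisc.half_iff h2 (QuadraticMap.polarBilin Q)
      (fun x y => QuadraticMap.polar_comm _ x y) hB 6 (by rw [hfin, hn]) (Pi.basisFun F (Fin n)))
    constructor
    · rintro ⟨U, -, hU, hd⟩
      rw [finrank_top, hfin] at hd
      exact ⟨U, by omega, fun x hx y hy => CfsgLib.Orth.mem_orth.1 (CfsgLib.Orth.le_orth_of_singular hU hy) x hx⟩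
    · rintro ⟨X, hd, hX⟩
      refine ⟨X, le_top, fun x hx => ?_, by rw [finrank_top, hfin]; omega⟩
      have := hX x hx x hx
      rw [QuadraticMap.polarBilin_apply_apply, b_self] at this
      exact (mul_eq_zero.1 this).resolve_left h2
  have hdet := congrArg Matrix.det hF
  rw [fcoord, Matrix.det_submatrix_equiv_self, bm_refl, Matrix.det_mul, Matrix.det_mul, Matrix.det_transpose,
    Matrix.det_kronecker, Fintype.card_fin, Fintype.card_fin] at hdet
  have hP0 : P.val.det ≠ 0 := ((Matrix.isUnit_iff_isUnit_det _).1 P.isUnit).ne_zero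
  rw [key, key₂, show (-1 : F) ^ 6 = 1 by norm_num, show (-1 : F) ^ 2 = 1 by norm_num, one_mul, one_mul]
  constructor
  · intro h
    have h' : IsSquare (J₁.det ^ 4 * J₂.det ^ 3) := by
      rw [← hdet]
      obtain ⟨s, hs⟩ := h
      exact ⟨P.val.det * s, by rw [hs]; ring⟩
    obtain ⟨s, hs⟩ := h'
    refine ⟨s / (J₁.det ^ 2 * J₂.det), ?_⟩
    field_simp
    linear_combination hs
  · rintro ⟨s, hs⟩
    refine ⟨J₁.det ^ 2 * J₂.det * s / P.val.det, ?_⟩
    field_simp
    linear_combination hdet + J₁.det ^ 4 * J₂.det ^ 2 * hs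

theorem tensor_similar (hB : Nondeg Q) {H : Subgroup (GL (Fin n) F)} (hH : H ≤ omegaGL ⇑Q) {a b : ℕ}
    {e : Fin n ≃ Fin a × Fin b} {P : GL (Fin n) F} {J₁ : Matrix (Fin a) (Fin a) F} {J₂ : Matrix (Fin b) (Fin b) F}
    (h₁ : J₁ ≠ 0) (h₂ : J₂ ≠ 0) (hF : fcoord τ₁ (ogram Q) e P = J₁ ⊗ₖ J₂) (hle : H ≤ tensorProductSubgroup a b e P)
    {g : GL (Fin n) F} (hg : g ∈ H) :
    ∃ (A : GL (Fin a) F) (C : GL (Fin b) F) (μ : F), μ ≠ 0 ∧ coord e P g.val = A.val ⊗ₖ C.val ∧
      A.valᵀ * J₁ * A.val = μ • J₁ ∧ C.valᵀ * J₂ * C.val = μ⁻¹ • J₂ ∧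
      A.val.det ^ b * C.val.det ^ a = 1 := by
  obtain ⟨_, ⟨w, ⟨A, C, hw⟩, rfl⟩, hgw⟩ := hle hg
  have hAC : coord e P g.val = A.val ⊗ₖ C.val := by
    rw [← hw, ← hgw]
    ext p q
    simp [coord, Cfsg.Geo.glReindex, mul_assoc]
  have hiso := fcoord_iso (e := e) (P := P) (omega_iso hB hH g hg)
  rw [hF, show tcoord e P g.val = coord e P g.val from rfl, hAC, bm_refl, ← Matrix.kroneckerMap_transpose,
    ← Matrix.mul_kronecker_mul, ← Matrix.mul_kronecker_mul] at hiso
  obtain ⟨μ, hμ, e1, e2⟩ := kron_factor hiso h₁ h₂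
  refine ⟨A, C, μ, hμ, hAC, e1, e2, ?_⟩
  have h := congrArg Matrix.det hAC
  rw [coord, Matrix.det_submatrix_equiv_self, Matrix.det_mul, Matrix.det_mul, omega_det (hH hg), mul_one,
    ← Matrix.det_mul, Units.inv_mul, Matrix.det_one, Matrix.det_kronecker, Fintype.card_fin, Fintype.card_fin] at h
  exact h.symm

/-- Over three elements the product splits into three four-dimensional members. -/
theorem symTensor_three (hB : Nondeg Q) (hq : Fintype.card F = 3) {H : Subgroup (GL (Fin n) F)}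
    (hH : H ≤ omegaGL ⇑Q) (hirr : ActsIrreducibly (matrixSet H)) {e : Fin n ≃ Fin 3 × Fin 4} {P : GL (Fin n) F}
    {J₁ : Matrix (Fin 3) (Fin 3) F} {J₂ : Matrix (Fin 4) (Fin 4) F} (h₁ : FormData τ₁ J₁ 1) (h₂ : FormData τ₁ J₂ 1)
    (hF : fcoord τ₁ (ogram Q) e P = J₁ ⊗ₖ J₂) (hle : H ≤ tensorProductSubgroup 3 4 e P) :
    ∃ D : Fin 3 → Submodule F (Fin n → F), IsOrthogonalMDecomposition ⇑Q 4 D ∧ H ≤ decompositionStabilizer D := by
  classical
  have hq' : Nat.card F = 3 := by rw [Nat.card_eq_fintype_card, hq]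
  have h3 := CfsgLib.Orth.DecompNotMax.three_zero hq'
  have h2 : (2 : F) ≠ 0 := fun e => one_ne_zero (α := F) (by linear_combination h3 - e)
  let Q₀ : QuadraticForm F (Fin 3 → F) := Matrix.toQuadraticForm' J₁
  have hQ₀ : ∀ u, Q₀ u = sform τ₁ J₁ u u := fun u => by
    simp [Q₀, Matrix.toQuadraticForm', Matrix.toLinearMap₂'_apply', sform, Function.comp_def]
  have hsymm : ∀ u v, sform τ₁ J₁ u v = sform τ₁ J₁ v u := fun u v => by simpa using (h₁.swap v u).symm
  have hB₀ : ∀ u v, QuadraticMap.polar ⇑Q₀ u v = 2 * sform τ₁ J₁ u v := fun u v => by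
    simp only [QuadraticMap.polar, hQ₀, sform_add_left, sform_add_right, hsymm v u]
    ring
  have hnd₀ : NondegOn Q₀ ⊤ := fun x _ h => by
    by_contra hx
    obtain ⟨y, hy⟩ := ((symmetric_form h₁).nondegenerate x hx).2
    have := h y Submodule.mem_top
    rw [hB₀] at this
    exact hy ((mul_eq_zero.1 this).resolve_left h2)
  obtain ⟨δ, a, hδ, ha⟩ := exists_triple hq' hnd₀ (by rw [finrank_top, Module.finrank_fin_fun])
  have haperp : ∀ k l, k ≠ l → sform τ₁ J₁ (a k) (a l) = 0 := fun k l h => by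
    have := ha.2 k l h
    rw [hB₀] at this
    exact (mul_eq_zero.1 this).resolve_left h2
  have hane : ∀ k, a k ≠ 0 := fun k h0 => hδ (by
    rw [← (ha.1 k).2, h0, QuadraticMap.map_zero])
  have hali : LinearIndependent F a := by
    rw [Fintype.linearIndependent_iff]
    intro c hc l
    have h := congrArg (fun z => QuadraticMap.polarBilin Q₀ (a l) z) hc
    simp only [map_sum, map_zero, map_smul, QuadraticMap.polarBilin_apply_apply, smul_eq_mul] at h
    rw [Finset.sum_eq_single l (fun i _ hi => by rw [ha.2 l i hi.symm, mul_zero]) (by simp),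
      CfsgLib.Orth.b_self, (ha.1 l).2] at h
    exact (mul_eq_zero.1 h).resolve_right (mul_ne_zero h2 hδ)
  have hspan : Submodule.span F (Set.range a) = ⊤ :=
    hali.span_eq_top_of_card_eq_finrank' (by rw [Module.finrank_fin_fun, Fintype.card_fin])
  let f : (Fin 3 → F) → (Fin 4 → F) →ₗ[F] (Fin n → F) := fun u =>
    { toFun := fun y => ten e P u y
      map_add' := fun x y => by
        simp only [ten, ← mulVec_add]
        congr 1
        funext i
        simp [mul_add]
      map_smul' := fun c y => by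
        simp only [ten, RingHom.id_apply, ← mulVec_smul]
        congr 1
        funext i
        simp [mul_left_comm] }
  have hfinj : ∀ u, u ≠ 0 → Function.Injective (f u) := by
    intro u hu
    obtain ⟨i, hi⟩ := Function.ne_iff.1 hu
    rw [injective_iff_map_eq_zero]
    intro y hy
    funext j
    have := congrArg (fun z => ((P⁻¹).val *ᵥ z) (e.symm (i, j))) (show ten e P u y = 0 from hy)
    simp only [ten, PrimeDim.inv_mulVec_cancel, Equiv.apply_symm_apply, mulVec_zero, Pi.zero_apply] at this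
    exact (mul_eq_zero.1 this).resolve_left hi
  let D : Fin 3 → Submodule F (Fin n → F) := fun k => LinearMap.range (f (a k))
  have hD := nondegDecomp_mk (orth_data hB) (D := D) (k := 4) (by norm_num) (by norm_num)
    (fun k => by rw [LinearMap.finrank_range_of_inj (hfinj _ (hane k)), Module.finrank_fin_fun])
    (fun k l hkl => by
      rintro _ ⟨x, rfl⟩ _ ⟨y, rfl⟩
      show sform τ₁ (ogram Q) (ten e P _ _) (ten e P _ _) = 0
      rw [sform_ten hF, haperp _ _ hkl, zero_mul])
    (by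
      refine eq_top_iff.2 fun z _ => ?_
      have hle' : ∀ u, LinearMap.range (f u) ≤ iSup D := by
        intro u
        have hu : u ∈ Submodule.span F (Set.range a) := hspan ▸ Submodule.mem_top
        rintro _ ⟨y, rfl⟩
        induction hu using Submodule.span_induction with
        | mem u hu => obtain ⟨k, rfl⟩ := hu; exact Submodule.mem_iSup_of_mem k ⟨y, rfl⟩
        | zero =>
          rw [show f 0 y = 0 by funext i; simp [f, ten, mulVec, dotProduct]]
          exact zero_mem _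
        | add u v _ _ hu hv =>
          rw [show f (u + v) y = f u y + f v y by
            show ten e P (u + v) y = ten e P u y + ten e P v y
            simp only [ten, ← mulVec_add]; congr 1; funext i; simp [add_mul]]
          exact add_mem hu hv
        | smul c u _ hu =>
          rw [show f (c • u) y = c • f u y by
            show ten e P (c • u) y = c • ten e P u y
            simp only [ten, ← mulVec_smul]; congr 1; funext i; simp [mul_assoc]]
          exact Submodule.smul_mem _ _ hu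
      rw [← PrimeDim.mulVec_inv_cancel P z, ← Finset.univ_sum_single ((P⁻¹).val *ᵥ z), mulVec_sum]
      refine Submodule.sum_mem _ fun i _ => ?_
      refine hle' (Pi.single (e i).1 (((P⁻¹).val *ᵥ z) i)) ⟨Pi.single (e i).2 1, ?_⟩
      show ten e P _ _ = _
      simp only [ten]
      congr 1
      funext j
      by_cases h : j = i
      · subst h; simp
      · rw [Pi.single_eq_of_ne h]
        by_cases h1 : (e j).1 = (e i).1
        · rw [Pi.single_eq_of_ne (M := fun _ => F) (fun h2' => h (e.injective (Prod.ext h1 h2'))), mul_zero]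
        · rw [Pi.single_eq_of_ne (M := fun _ => F) h1, zero_mul])
  rw [sform_polar hB] at hD
  have hle' : H ≤ decompositionStabilizer D := by
    refine le_decomp hD.decomp fun g hg k => ?_
    obtain ⟨A, C, μ, hμ, hAC, hA, -, -⟩ :=
      tensor_similar hB hH h₁.unit.ne_zero h₂.unit.ne_zero hF hle hg
    have hμ1 : μ = 1 := by
      have hdet := congrArg Matrix.det hA
      rw [Matrix.det_mul, Matrix.det_mul, Matrix.det_transpose, Matrix.det_smul, Fintype.card_fin] at hdet
      have hJ : J₁.det ≠ 0 := ((Matrix.isUnit_iff_isUnit_det J₁).1 h₁.unit).ne_zero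
      have hA0 : A.val.det ≠ 0 := ((Matrix.isUnit_iff_isUnit_det _).1 A.isUnit).ne_zero
      have h' : A.val.det * A.val.det = μ ^ 3 := mul_right_cancel₀ hJ (by linear_combination hdet)
      have hsq := CfsgLib.Orth.DecompNotMax.sq_eq_one hq' hμ
      rw [CfsgLib.Orth.DecompNotMax.sq_eq_one hq' hA0] at h'
      linear_combination -h' - μ * hsq
    have hQA : Q₀ (A.val *ᵥ a k) = δ := by
      rw [hQ₀, sform_mulVec, bm_refl, hA, hμ1, one_smul, ← hQ₀, (ha.1 k).2]
    obtain ⟨l, c, hl⟩ : ∃ (l : Fin 3) (c : F), A.val *ᵥ a k = c • a l := by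
      by_contra hc
      push Not at hc
      have hperp : ∀ l, QuadraticMap.polar ⇑Q₀ (A.val *ᵥ a k) (a l) = 0 := fun l => by
        rcases triple_cases hq' (by rw [finrank_top, Module.finrank_fin_fun]) hδ ha Submodule.mem_top hQA l with
          h | h | h
        · exact h
        · exact absurd (h.trans (one_smul F _).symm) (hc l 1)
        · exact absurd (h.trans (neg_one_smul F _).symm) (hc l (-1))
      have h0 : A.val *ᵥ a k = 0 := hnd₀ _ Submodule.mem_top fun y _ => by
        have hle'' : Submodule.span F (Set.range a) ≤ LinearMap.ker (QuadraticMap.polarBilin Q₀ (A.val *ᵥ a k)) :=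
          Submodule.span_le.2 (by rintro _ ⟨l, rfl⟩; exact LinearMap.mem_ker.2 (hperp l))
        exact LinearMap.mem_ker.1 (hle'' (hspan ▸ Submodule.mem_top))
      rw [h0, QuadraticMap.map_zero] at hQA
      exact hδ hQA.symm
    refine ⟨l, ?_⟩
    rintro _ ⟨y, rfl⟩
    refine ⟨c • (C.val *ᵥ y), ?_⟩
    show ten e P (a l) (c • (C.val *ᵥ y)) = g.val *ᵥ ten e P (a k) y
    rw [mulVec_ten hAC, hl]
    simp only [ten]
    congr 1
    funext i
    simp only [Pi.smul_apply, smul_eq_mul]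
    ring
  exact ⟨D, decomp_isometric hH hirr hD hle', hle'⟩

/-- A four-dimensional factor of plus type gives a product of alternating forms in dimensions two and six. -/
theorem symTensor_plus (hB : Nondeg Q) (hodd : Odd (Fintype.card F)) {H : Subgroup (GL (Fin n) F)}
    (hH : H ≤ omegaGL ⇑Q) {e : Fin n ≃ Fin 3 × Fin 4} {P : GL (Fin n) F}
    {J₁ : Matrix (Fin 3) (Fin 3) F} {J₂ : Matrix (Fin 4) (Fin 4) F} (h₁ : FormData τ₁ J₁ 1) (h₂ : FormData τ₁ J₂ 1)
    (hF : fcoord τ₁ (ogram Q) e P = J₁ ⊗ₖ J₂) (hle : H ≤ tensorProductSubgroup 3 4 e P)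
    (hplus : IsPlusTypeOn (fun v : Fin 4 → F => sform τ₁ J₂ v v) ⊤) :
    ∃ (e' : Fin n ≃ Fin 2 × Fin 6) (P' : GL (Fin n) F) (J₁' : Matrix (Fin 2) (Fin 2) F)
      (J₂' : Matrix (Fin 6) (Fin 6) F), SympData J₁' ∧ SympData J₂' ∧
      fcoord τ₁ (ogram Q) e' P' = J₁' ⊗ₖ J₂' ∧ (∀ u v, Q (ten e' P' u v) = 0) ∧
      H ≤ tensorProductSubgroup 2 6 e' P' := by
  classical
  have h2 := PrimeDim.two_ne_zero_of_odd hodd
  obtain ⟨ε, U, hU⟩ := SympPlus.plus_basis h2 (symmetric_form h₂) hplus
  rw [sform_gram] at hU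
  let φ : Fin 2 × Fin 3 ≃ Fin 6 := finProdFinEquiv
  let η : Fin 3 × Fin 4 ≃ Fin 2 × Fin 6 :=
    { toFun := fun q => ((ε q.2).1, φ ((ε q.2).2, q.1))
      invFun := fun q => ((φ.symm q.2).2, ε.symm (q.1, (φ.symm q.2).1))
      left_inv := fun q => by simp
      right_inv := fun q => by simp }
  let R : GL (Fin 3 × Fin 4) F :=
    ⟨(1 : Matrix (Fin 3) (Fin 3) F) ⊗ₖ U.val, (1 : Matrix (Fin 3) (Fin 3) F) ⊗ₖ (U⁻¹).val,
      by rw [← Matrix.mul_kronecker_mul, one_mul, Units.mul_inv, Matrix.one_kronecker_one],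
      by rw [← Matrix.mul_kronecker_mul, one_mul, Units.inv_mul, Matrix.one_kronecker_one]⟩
  let e' := e.trans η
  let P' := P * Cfsg.Geo.glReindex e.symm R
  let J₂' : Matrix (Fin 6) (Fin 6) F := (jTwo F ⊗ₖ J₁).submatrix φ.symm φ.symm
  have hcoord' : ∀ x, coord e' P' x = ((R⁻¹).val * coord e P x * R.val).submatrix η.symm η.symm := by
    intro x
    have hR : ∀ S : GL (Fin 3 × Fin 4) F, ((Cfsg.Geo.glReindex e.symm S : GL (Fin n) F) : Matrix (Fin n) (Fin n) F) =
        S.val.submatrix e e := fun S => by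
      ext i j; simp [Cfsg.Geo.glReindex]
    simp only [coord, e', P', _root_.mul_inv_rev, Units.val_mul, ← map_inv, hR]
    conv_rhs =>
      rw [show (R⁻¹).val = ((R⁻¹).val.submatrix e e).submatrix e.symm e.symm by simp,
        show R.val = (R.val.submatrix e e).submatrix e.symm e.symm by simp,
        Matrix.submatrix_mul_equiv, Matrix.submatrix_mul_equiv, Matrix.submatrix_submatrix]
    simp [mul_assoc, Function.comp_def]
  have hfc : fcoord τ₁ (ogram Q) e' P' = jTwo F ⊗ₖ J₂' := by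
    have h : fcoord τ₁ (ogram Q) e' P' = (R.valᵀ * fcoord τ₁ (ogram Q) e P * R.val).submatrix η.symm η.symm := by
      simp only [fcoord, bm_refl, e', P', Units.val_mul, Matrix.transpose_mul]
      rw [show ((Cfsg.Geo.glReindex e.symm R : GL (Fin n) F) : Matrix (Fin n) (Fin n) F) = R.val.submatrix e e by
        ext i j; simp [Cfsg.Geo.glReindex]]
      conv_rhs =>
        rw [show R.val = (R.val.submatrix e e).submatrix e.symm e.symm by simp, Matrix.transpose_submatrix,
          Matrix.submatrix_mul_equiv, Matrix.submatrix_mul_equiv, Matrix.submatrix_submatrix]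
      simp [mul_assoc, Function.comp_def]
    rw [h, hF, show R.val = (1 : Matrix (Fin 3) (Fin 3) F) ⊗ₖ U.val from rfl, ← Matrix.kroneckerMap_transpose,
      Matrix.transpose_one, ← Matrix.mul_kronecker_mul, ← Matrix.mul_kronecker_mul, one_mul, mul_one, hU]
    ext p q
    simp [η, J₂']
    ring
  have hs₁ : SympData (jTwo F) := by
    refine SympData.of_skew ⟨?_, fun a => rfl, by rw [bm_refl, jTwo_transpose]⟩ h2
    rw [Matrix.isUnit_iff_isUnit_det]
    simp [jTwo, Matrix.det_fin_two]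
  have hs₂ : SympData J₂' := by
    refine SympData.of_skew ⟨?_, fun a => rfl, ?_⟩ h2
    · rw [Matrix.isUnit_iff_isUnit_det, Matrix.det_submatrix_equiv_self, Matrix.det_kronecker]
      refine IsUnit.mul (IsUnit.pow _ ?_) (IsUnit.pow _ ((Matrix.isUnit_iff_isUnit_det J₁).1 h₁.unit))
      simp [jTwo, Matrix.det_fin_two]
    · have hJ₁ : J₁ᵀ = J₁ := by
        have := h₁.herm
        rwa [bm_refl, one_smul] at this
      rw [bm_refl]
      show J₂'ᵀ = _
      rw [Matrix.transpose_submatrix, ← Matrix.kroneckerMap_transpose, jTwo_transpose, hJ₁]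
      ext p q
      simp [J₂']
  refine ⟨e', P', jTwo F, J₂', hs₁, hs₂, hfc, fun u v => ?_, fun g hg => ?_⟩
  · have h := b_self (Q := Q) (ten e' P' u v)
    rw [polar_sform hB, sform_ten hfc, hs₁.alt, zero_mul] at h
    exact (mul_eq_zero.1 h.symm).resolve_left h2
  obtain ⟨A, C, μ, hμ, hAC, hA, hC, hdet⟩ := tensor_similar hB hH h₁.unit.ne_zero h₂.unit.ne_zero hF hle hg
  obtain ⟨C', hC'⟩ : ∃ C' : Matrix (Fin 4) (Fin 4) F, C' = (U⁻¹).val * C.val * U.val := ⟨_, rfl⟩
  have hUdet : (U⁻¹).val.det * U.val.det = 1 := by rw [← Matrix.det_mul, Units.inv_mul, Matrix.det_one]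
  have hC'det : C'.det = C.val.det := by
    rw [hC', Matrix.det_mul, Matrix.det_mul, mul_right_comm, hUdet, one_mul]
  set K := jTwo F ⊗ₖ jTwo F with hK
  have hC'K : C'ᵀ * K.submatrix ε ε * C' = μ⁻¹ • K.submatrix ε ε := by
    rw [← hU, hC']
    have e1 : ∀ X : Matrix (Fin 4) (Fin 4) F, (U⁻¹).valᵀ * (U.valᵀ * X) = X := fun X => by
      rw [← mul_assoc, ← Matrix.transpose_mul, Units.mul_inv, Matrix.transpose_one, one_mul]
    simp only [Matrix.transpose_mul, mul_assoc, Units.mul_inv_cancel_left, e1]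
    simp only [← mul_assoc]
    rw [mul_assoc U.valᵀ, mul_assoc U.valᵀ, hC, mul_smul_comm, smul_mul_assoc]
  set G := C'.submatrix ε.symm ε.symm with hG
  have hG' : Gᵀ * K * G = μ⁻¹ • K := by
    have := congrArg (fun X : Matrix (Fin 4) (Fin 4) F => X.submatrix ε.symm ε.symm) hC'K
    simp only [← Matrix.submatrix_mul_equiv (e₂ := ε.symm), Matrix.submatrix_submatrix, Equiv.self_comp_symm,
      Matrix.submatrix_id_id, Matrix.submatrix_smul, Pi.smul_apply] at this
    rw [hG, Matrix.transpose_submatrix]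
    exact this
  have hA0 : A.val.det ≠ 0 := ((Matrix.isUnit_iff_isUnit_det _).1 A.isUnit).ne_zero
  have hAdet : A.val.det * A.val.det = μ ^ 3 := by
    have h := congrArg Matrix.det hA
    rw [Matrix.det_mul, Matrix.det_mul, Matrix.det_transpose, Matrix.det_smul, Fintype.card_fin] at h
    exact mul_right_cancel₀ ((Matrix.isUnit_iff_isUnit_det J₁).1 h₁.unit).ne_zero (by linear_combination h)
  obtain ⟨C₁, D₁, hCD | hCD⟩ := SympPlus.sim_plus h2 (inv_ne_zero hμ) hG'
  swap
  · exfalso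
    have hsw : (SympPlus.swapMat F).det = -1 := by
      have : SympPlus.swapMat F = (Equiv.prodComm (Fin 2) (Fin 2)).toPEquiv.toMatrix := by
        ext p q
        simp [SympPlus.swapMat, PEquiv.toMatrix_apply, Equiv.toPEquiv_apply, eq_comm]
      rw [this, Matrix.det_permutation]
      have hsign : Equiv.Perm.sign (Equiv.prodComm (Fin 2) (Fin 2)) = -1 := by decide
      rw [hsign]; simp
    have hswK : (SympPlus.swapMat F)ᵀ * K * SympPlus.swapMat F = K := by
      ext ⟨i, j⟩ ⟨i', j'⟩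
      fin_cases i <;> fin_cases j <;> fin_cases i' <;> fin_cases j' <;>
        simp [SympPlus.swapMat, hK, jTwo, Matrix.mul_apply, Fintype.sum_prod_type, Fin.sum_univ_two]
    have hGdet : G.det = -((C₁.det * D₁.det) ^ 2) := by
      rw [hCD, Matrix.det_mul, Matrix.det_kronecker, hsw, Fintype.card_fin]
      ring
    have hscal : C₁.det * D₁.det = μ⁻¹ := by
      have e1 : Gᵀ * K * G = (C₁.det * D₁.det) • K := by
        rw [hCD, Matrix.transpose_mul, ← Matrix.kroneckerMap_transpose,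
          show (SympPlus.swapMat F)ᵀ * (C₁ᵀ ⊗ₖ D₁ᵀ) * K * ((C₁ ⊗ₖ D₁) * SympPlus.swapMat F) =
            (SympPlus.swapMat F)ᵀ * ((C₁ᵀ ⊗ₖ D₁ᵀ) * K * (C₁ ⊗ₖ D₁)) * SympPlus.swapMat F by simp [mul_assoc],
          hK, ← Matrix.mul_kronecker_mul, ← Matrix.mul_kronecker_mul, jTwo_congr, jTwo_congr,
          Matrix.smul_kronecker, Matrix.kronecker_smul, smul_smul, mul_smul_comm, smul_mul_assoc, ← hK, hswK]
      have h := congrFun (congrFun (e1.symm.trans hG') (0, 0)) (1, 1)
      simpa [hK, jTwo] using h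
    have hC4 : C.val.det = -(μ⁻¹ ^ 2) := by
      rw [← hC'det, ← Matrix.det_submatrix_equiv_self ε.symm, ← hG, hGdet, hscal]
    rw [hC4, show A.val.det ^ 4 = (A.val.det * A.val.det) ^ 2 by ring, hAdet] at hdet
    refine h2 ?_
    field_simp at hdet
    linear_combination -hdet
  have hC1D1 : C₁.det ≠ 0 ∧ D₁.det ≠ 0 := by
    have hGdet : G.det ≠ 0 := by
      rw [hG, Matrix.det_submatrix_equiv_self, hC'det]
      exact ((Matrix.isUnit_iff_isUnit_det _).1 C.isUnit).ne_zero
    rw [hCD, Matrix.det_kronecker] at hGdet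
    simpa using hGdet
  let DA : Matrix (Fin 6) (Fin 6) F := (D₁ ⊗ₖ A.val).submatrix φ.symm φ.symm
  have hDA : DA.det ≠ 0 := by
    rw [Matrix.det_submatrix_equiv_self, Matrix.det_kronecker]
    exact mul_ne_zero (pow_ne_zero _ hC1D1.2) (pow_ne_zero _ hA0)
  refine mem_tensor (A := Matrix.GeneralLinearGroup.mkOfDetNeZero C₁ hC1D1.1)
    (C := Matrix.GeneralLinearGroup.mkOfDetNeZero DA hDA) ?_
  rw [hcoord', hAC]
  show ((1 : Matrix (Fin 3) (Fin 3) F) ⊗ₖ (U⁻¹).val * (A.val ⊗ₖ C.val) *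
    ((1 : Matrix (Fin 3) (Fin 3) F) ⊗ₖ U.val)).submatrix η.symm η.symm = C₁ ⊗ₖ DA
  rw [← Matrix.mul_kronecker_mul, ← Matrix.mul_kronecker_mul, one_mul, mul_one, ← hC']
  ext p q
  have hC'e : ∀ i j, C' (ε.symm i) (ε.symm j) = C₁ i.1 j.1 * D₁ i.2 j.2 := fun i j => by
    have := congrFun (congrFun hCD i) j
    simpa [hG] using this
  simp [η, DA, hC'e, mul_comm, mul_assoc, mul_left_comm]

/-! ### Witnesses -/

theorem not_le_symp (hB : Nondeg Q) (hn : 5 ≤ n) {b : ℕ} (hb : 3 ≤ b) {e : Fin n ≃ Fin 2 × Fin b} {P : GL (Fin n) F}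
    {J₁ : Matrix (Fin 2) (Fin 2) F} {J₂ : Matrix (Fin b) (Fin b) F}
    (hF : fcoord τ₁ (ogram Q) e P = J₁ ⊗ₖ J₂) (hz : ∀ u v, Q (ten e P u v) = 0) :
    ¬ omegaGL ⇑Q ≤ tensorProductSubgroup 2 b e P := by
  obtain ⟨i₀⟩ : Nonempty (Fin b) := ⟨⟨0, by omega⟩⟩
  obtain ⟨z, hyz, hJ⟩ := OrthNotLe.exists_perp_indep hb J₂ (u := Pi.single i₀ 1) (by simp)
  refine OrthNotLe.not_le_tensor hB hn (u := Pi.single 0 1) (x := Pi.single 1 1) ?_ hyz (hz _ _) (hz _ _) ?_
  · rw [LinearIndependent.pair_iff]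
    intro s t h
    exact ⟨by simpa using congrFun h 0, by simpa using congrFun h 1⟩
  · rw [polar_sform hB, sform_ten hF, hJ, mul_zero]

theorem not_le_sym (hB : Nondeg Q) (hn : 5 ≤ n) (hodd : Odd (Fintype.card F)) {a b : ℕ} (ha : 3 ≤ a) (hb : 3 ≤ b)
    {e : Fin n ≃ Fin a × Fin b} {P : GL (Fin n) F} {J₁ : Matrix (Fin a) (Fin a) F} {J₂ : Matrix (Fin b) (Fin b) F}
    (hF : fcoord τ₁ (ogram Q) e P = J₁ ⊗ₖ J₂) : ¬ omegaGL ⇑Q ≤ tensorProductSubgroup a b e P := by
  have h2 := PrimeDim.two_ne_zero_of_odd hodd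
  obtain ⟨u, hu0, hu⟩ := OrthNotLe.exists_isotropic ha h2 J₁
  obtain ⟨x, hux, hJux⟩ := OrthNotLe.exists_perp_indep ha J₁ hu0
  obtain ⟨z, hz0, hz⟩ := OrthNotLe.exists_isotropic hb h2 J₂
  obtain ⟨y, hzy, -⟩ := OrthNotLe.exists_perp_indep hb J₂ hz0
  have hq : ∀ a' b', sform τ₁ J₁ a' a' * sform τ₁ J₂ b' b' = 0 → Q (ten e P a' b') = 0 := fun a' b' h => by
    have h' := b_self (Q := Q) (ten e P a' b')
    rw [polar_sform hB, sform_ten hF, h] at h'
    exact (mul_eq_zero.1 h'.symm).resolve_left h2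
  refine OrthNotLe.not_le_tensor hB hn hux (LinearIndependent.pair_symm_iff.1 hzy)
    (hq _ _ (by rw [hu, zero_mul])) (hq _ _ (by rw [hz, mul_zero])) ?_
  rw [polar_sform hB, sform_ten hF, hJux, zero_mul]

end CfsgLib.Asch.OrthTwelve
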