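import Cfsg.Agent.Lib.Classical.AschOrthPlanes
import Cfsg.Agent.Lib.Classical.AschOrthFieldTwo
import Cfsg.Agent.Lib.Classical.AschOrthNotLe
import Cfsg.Agent.Lib.Classical.AschOrthTwelve

set_option autoImplicit false
set_option linter.unusedSectionVars false

/-!
Maximal subgroups of the commutator subgroup of an orthogonal group of even dimension: shared steps.
-/

namespace CfsgLib.Asch.OrthEvenMax

open Matrix
open Cfsg.Geo (matrixSet ActsIrreducibly IsPlusTypeOn IsTotallySingularQuad IsNondegenerateOn omegaGL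
  subspaceStabilizer decompositionStabilizer subalgebraNormalizer IsOrthogonalMDecomposition)
open CfsgLib.Orth (Nondeg NondegOn)
open CfsgLib.Asch.OrthTypes
open scoped MatrixGroups

variable {F : Type*} [Field F] [Fintype F] {n : ℕ} {Q : QuadraticForm F (Fin n → F)}

local notation "B" => QuadraticMap.polar (DFunLike.coe Q)

theorem odd_of_odd_finrank {W : Submodule F (Fin n → F)} (hW : NondegOn Q W) (ho : Odd (Module.finrank F W)) :
    Odd (Fintype.card F) := by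
  by_contra h
  exact two_ne_zero_of_odd_finrank hW ho (two_eq_zero_of_not_odd h)

theorem geo_nd {W : Submodule F (Fin n → F)} (hW : NondegOn Q W) :
    IsNondegenerateOn (QuadraticMap.polar ⇑Q) W := PrimeDim.nondeg_geo hW

theorem five_le_of_large (h : Fintype.card F ≠ 2) (h3 : Fintype.card F ≠ 3) : 4 ≤ Fintype.card F := by
  have := Fintype.one_lt_card (α := F)
  omega

theorem seven_le (h2 : Fintype.card F ≠ 2) (h3 : Fintype.card F ≠ 3) (h4 : Fintype.card F ≠ 4)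
    (h5 : Fintype.card F ≠ 5) : 7 ≤ Fintype.card F := by
  have h1 := Fintype.one_lt_card (α := F)
  obtain ⟨p, hp⟩ := CharP.exists F
  obtain ⟨e, hpp, hq⟩ := FiniteField.card F p
  have h6 : Fintype.card F ≠ 6 := by
    intro h
    have h2' : p ∣ 6 := h ▸ hq ▸ dvd_pow_self p e.pos.ne'
    have h3' : (2 : ℕ) ∣ p ^ (e : ℕ) := hq ▸ h.symm ▸ (by norm_num)
    have h4' : (3 : ℕ) ∣ p ^ (e : ℕ) := hq ▸ h.symm ▸ (by norm_num)
    have e2 := (Nat.prime_dvd_prime_iff_eq Nat.prime_two hpp).1 (Nat.prime_two.dvd_of_dvd_pow h3')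
    have e3 := (Nat.prime_dvd_prime_iff_eq Nat.prime_three hpp).1 (Nat.prime_three.dvd_of_dvd_pow h4')
    omega
  omega

/-- Stabilisers of proper subspaces. -/
theorem stab_eq (hB : Nondeg Q) (hn : 5 ≤ n) {H : Subgroup (GL (Fin n) F)}
    (hH : Cfsg.Geo.IsMaximalIn (omegaGL ⇑Q) H) {W : Submodule F (Fin n → F)} (h0 : W ≠ ⊥) (h1 : W ≠ ⊤)
    (hle : H ≤ subspaceStabilizer W) : H = subspaceStabilizer W ⊓ omegaGL ⇑Q :=
  OrthNotLe.eq_inf hH hle (OrthNotLe.not_le_stab hB hn h0 h1)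

theorem ne_bot_top (hn : 1 ≤ n) {W : Submodule F (Fin n → F)} (h0 : 1 ≤ Module.finrank F W)
    (h1 : Module.finrank F W < n) : W ≠ ⊥ ∧ W ≠ ⊤ :=
  ⟨fun e => by rw [e, finrank_bot] at h0; omega, fun e => by
    rw [e, finrank_top, Module.finrank_fin_fun] at h1; omega⟩

theorem point_eq (hB : Nondeg Q) (hn : 5 ≤ n) {H : Subgroup (GL (Fin n) F)}
    (hH : Cfsg.Geo.IsMaximalIn (omegaGL ⇑Q) H) {v : Fin n → F} (hv : Q v ≠ 0)
    (hle : H ≤ subspaceStabilizer (Submodule.span F {v})) :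
    H = subspaceStabilizer (Submodule.span F {v}) ⊓ omegaGL ⇑Q := by
  have hv0 : v ≠ 0 := fun e => hv (by rw [e, QuadraticMap.map_zero])
  obtain ⟨h0, h1⟩ := ne_bot_top (n := n) (by omega) (W := Submodule.span F {v})
    (by rw [finrank_span_singleton hv0]) (by rw [finrank_span_singleton hv0]; omega)
  exact stab_eq hB hn hH h0 h1 hle

/-- The non-degenerate subspaces fixed by a maximal subgroup, in even dimension. -/
theorem nd_cases (hB : Nondeg Q) (hn : 5 ≤ n) (hev : Even n) {H : Subgroup (GL (Fin n) F)}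
    (hH : Cfsg.Geo.IsMaximalIn (omegaGL ⇑Q) H) (h : ONDCase Q H) :
    (Odd (Fintype.card F) ∧ ∃ W : Submodule F (Fin n → F), W ≠ ⊥ ∧ W ≠ ⊤ ∧ Odd (Module.finrank F W) ∧
      IsNondegenerateOn (QuadraticMap.polar ⇑Q) W ∧ H = subspaceStabilizer W ⊓ omegaGL ⇑Q) ∨
    (∃ W : Submodule F (Fin n → F), Module.finrank F W = 2 ∧ IsNondegenerateOn (QuadraticMap.polar ⇑Q) W ∧
      ¬ IsPlusTypeOn ⇑Q W ∧ H = subspaceStabilizer W ⊓ omegaGL ⇑Q) ∨
    (4 ≤ Fintype.card F ∧ ∃ W : Submodule F (Fin n → F), Module.finrank F W = 2 ∧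
      IsNondegenerateOn (QuadraticMap.polar ⇑Q) W ∧ IsPlusTypeOn ⇑Q W ∧ H = subspaceStabilizer W ⊓ omegaGL ⇑Q) ∨
    (∃ W : Submodule F (Fin n → F), Even (Module.finrank F W) ∧ 4 ≤ Module.finrank F W ∧
      2 * Module.finrank F W ≤ n ∧ IsNondegenerateOn (QuadraticMap.polar ⇑Q) W ∧
      H = subspaceStabilizer W ⊓ omegaGL ⇑Q) ∨
    (¬ Odd (Fintype.card F) ∧ ∃ v : Fin n → F, Q v ≠ 0 ∧
      H = subspaceStabilizer (Submodule.span F {v}) ⊓ omegaGL ⇑Q) := by
  obtain ⟨W, h0, h1, hW, hle⟩ := h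
  have hWn := CfsgLib.Orth.nondegOn_of hW
  rcases Nat.even_or_odd (Module.finrank F W) with he | ho
  swap
  · exact Or.inl ⟨odd_of_odd_finrank hWn ho, W, h0, h1, ho, hW, stab_eq hB hn hH h0 h1 hle⟩
  -- the smaller of the subspace and its perpendicular
  obtain ⟨U, hU, hUd, hUe, hU0, hleU⟩ : ∃ U : Submodule F (Fin n → F), NondegOn Q U ∧
      2 * Module.finrank F U ≤ n ∧ Even (Module.finrank F U) ∧ 2 ≤ Module.finrank F U ∧ H ≤ subspaceStabilizer U := by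
    have hd := CfsgLib.Orth.finrank_orth hB W
    rw [Module.finrank_fin_fun] at hd
    have hpos : Module.finrank F W ≠ 0 := fun e => h0 (Submodule.finrank_eq_zero.1 e)
    have hlt : Module.finrank F W < n := by
      have := Submodule.finrank_lt h1
      rwa [Module.finrank_fin_fun] at this
    obtain ⟨a, ha⟩ := he
    obtain ⟨c, hc⟩ := hev
    by_cases hle2 : 2 * Module.finrank F W ≤ n
    · exact ⟨W, hWn, hle2, ⟨a, ha⟩, by omega, hle⟩
    · refine ⟨_, CfsgLib.Orth.nondegOn_orth hB hWn, by omega, ⟨c - a, by omega⟩, by omega, le_stab_of_inv ?_⟩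
      exact PrimeDim.inv_orth hH.1.le fun s ⟨g, hg, hgs⟩ w hw => hgs ▸ ((hle hg) w).1 hw
  obtain ⟨hb, ht⟩ := ne_bot_top (n := n) (by omega) (W := U) (by omega) (by omega)
  rcases Nat.lt_or_ge (Module.finrank F U) 4 with h4 | h4
  swap
  · exact Or.inr (Or.inr (Or.inr (Or.inl ⟨U, hUe, h4, hUd, geo_nd hU, stab_eq hB hn hH hb ht hleU⟩)))
  have hU2 : Module.finrank F U = 2 := by obtain ⟨a, ha⟩ := hUe; omega
  by_cases hp : IsPlusTypeOn ⇑Q U
  swap
  · exact Or.inr (Or.inl ⟨U, hU2, geo_nd hU, hp, stab_eq hB hn hH hb ht hleU⟩)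
  by_cases hq4 : 4 ≤ Fintype.card F
  · exact Or.inr (Or.inr (Or.inl ⟨hq4, U, hU2, geo_nd hU, hp, stab_eq hB hn hH hb ht hleU⟩))
  have hq1 := Fintype.one_lt_card (α := F)
  obtain hq | hq : Fintype.card F = 2 ∨ Fintype.card F = 3 := by omega
  · obtain ⟨v, hv, hlev⟩ := OrthPlanes.plane_two hq hH.1.le hU hU2 hp hleU
    exact Or.inr (Or.inr (Or.inr (Or.inr ⟨by rw [hq]; decide, v, hv, point_eq hB hn hH hv hlev⟩)))
  · obtain ⟨L, hL1, hL, hleL⟩ := OrthPlanes.plane_three hq hH.1.le hU hU2 hp hleU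
    obtain ⟨hb', ht'⟩ := ne_bot_top (n := n) (by omega) (W := L) (by omega) (by omega)
    exact Or.inl ⟨by rw [hq]; decide, L, hb', ht', hL1 ▸ odd_one, geo_nd hL, stab_eq hB hn hH hb' ht' hleL⟩

theorem rational_eq (hB : Nondeg Q) (hn : 5 ≤ n) {H : Subgroup (GL (Fin n) F)}
    (hH : Cfsg.Geo.IsMaximalIn (omegaGL ⇑Q) H) (h : ORationalCase Q H) :
    ∃ (F₀ : Subfield F) (r : ℕ) (P : GL (Fin n) F) (ζ : F), r.Prime ∧ Fintype.card F = Nat.card F₀ ^ r ∧ ζ ≠ 0 ∧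
      Cfsg.Geo.IsQuadFormRationalStructure (fun v => ζ * Q v) F₀ P ∧
      H = Cfsg.Geo.subfieldSubgroup F₀ P ⊓ omegaGL ⇑Q := by
  obtain ⟨F₀, r, P, ζ, hr, hcard, hζ, hrat, hle⟩ := h
  exact ⟨F₀, r, P, ζ, hr, hcard, hζ, hrat, OrthNotLe.eq_inf hH hle (OrthNotLe.not_le_subfield hB hn hr hcard P)⟩

/-- Without a half the degree of a rational structure is odd. -/
theorem rational_odd (hB : Nondeg Q) {m : ℕ} (hn : n = 2 * m) (hminus : ¬ IsPlusTypeOn ⇑Q ⊤) {F₀ : Subfield F}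
    {r : ℕ} (hr : r.Prime) (hcard : Fintype.card F = Nat.card F₀ ^ r) {P : GL (Fin n) F} {ζ : F} (hζ : ζ ≠ 0)
    (hrat : Cfsg.Geo.IsQuadFormRationalStructure (fun v => ζ * Q v) F₀ P) : Odd r :=
  hr.odd_of_ne_two fun e => hminus (OrthEven.rational_two_plus hB hn (e ▸ hcard) hζ hrat)

/-- Frames of lines. -/
theorem lines_eq (hB : Nondeg Q) (hn : 6 ≤ n) {H : Subgroup (GL (Fin n) F)}
    (hH : Cfsg.Geo.IsMaximalIn (omegaGL ⇑Q) H) {D : Fin n → Submodule F (Fin n → F)}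
    (hD : IsOrthogonalMDecomposition ⇑Q 1 D) (hle : H ≤ decompositionStabilizer D) :
    ((Fintype.card F).Prime ∧ Odd (Fintype.card F) ∧ H = decompositionStabilizer D ⊓ omegaGL ⇑Q) ∨
      ORationalCase Q H := by
  have hodd : Odd (Fintype.card F) := odd_of_odd_finrank (nondegOn_of_decomp hD ⟨0, by omega⟩)
    (by rw [hD.decomp.decomp.finrank_eq]; exact odd_one)
  by_cases hp : (Fintype.card F).Prime
  · exact Or.inl ⟨hp, hodd, OrthNotLe.eq_inf hH hle (OrthNotLe.not_le_decomp hB (by omega) hD.decomp.decomp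
      (Or.inl ⟨hD.decomp.orthogonal, Or.inr (Or.inr ⟨rfl, by omega⟩)⟩))⟩
  obtain ⟨F₀, r, hr, hcard⟩ := exists_prime_index hp
  obtain ⟨P, ζ, hζ, hP⟩ := lines_rational (by omega) (PrimeDim.two_ne_zero_of_odd hodd) hH.1.le hD hle
  exact Or.inr ⟨F₀, r, P, ζ, hr, hcard, hζ, (hP F₀).1, (hP F₀).2⟩

theorem decomp_eq (hB : Nondeg Q) (hn : 5 ≤ n) {H : Subgroup (GL (Fin n) F)}
    (hH : Cfsg.Geo.IsMaximalIn (omegaGL ⇑Q) H) {t k : ℕ} {D : Fin t → Submodule F (Fin n → F)}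
    (hD : Cfsg.Geo.IsNondegenerateMDecomposition (QuadraticMap.polar ⇑Q) k D)
    (htk : 3 ≤ k ∨ (k = 2 ∧ 4 ≤ t)) (hle : H ≤ decompositionStabilizer D) :
    H = decompositionStabilizer D ⊓ omegaGL ⇑Q :=
  OrthNotLe.eq_inf hH hle (OrthNotLe.not_le_decomp hB hn hD.decomp (Or.inl ⟨hD.orthogonal, by
    rcases htk with h | h
    exacts [Or.inl h, Or.inr (Or.inl h)]⟩))

/-- A subspace of half the dimension with its perpendicular. -/
theorem half_decomp (hB : Nondeg Q) {k : ℕ} (hn : n = 2 * k) (hk : 0 < k) {H : Subgroup (GL (Fin n) F)}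
    (hH : H ≤ omegaGL ⇑Q) {W : Submodule F (Fin n → F)} (hW : NondegOn Q W) (hd : Module.finrank F W = k)
    (hle : H ≤ subspaceStabilizer W) :
    ∃ D : Fin 2 → Submodule F (Fin n → F), Cfsg.Geo.IsNondegenerateMDecomposition (QuadraticMap.polar ⇑Q) k D ∧
      D 0 = W ∧ D 1 = CfsgLib.Orth.orth Q W ∧ H ≤ decompositionStabilizer D := by
  have hdo := CfsgLib.Orth.finrank_orth hB W
  rw [Module.finrank_fin_fun] at hdo
  let D : Fin 2 → Submodule F (Fin n → F) := ![W, CfsgLib.Orth.orth Q W]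
  have hnd := nondegDecomp_mk (orth_data hB) (D := D) (k := k) le_rfl hk
    (fun i => by fin_cases i; exacts [hd, (by show Module.finrank F (CfsgLib.Orth.orth Q W) = k; omega)])
    (fun i j hij => by
      intro x hx y hy
      rw [← polar_sform hB]
      fin_cases i <;> fin_cases j
      · exact absurd rfl hij
      · exact CfsgLib.Orth.mem_orth.1 hy x hx
      · rw [CfsgLib.Orth.b_comm]; exact CfsgLib.Orth.mem_orth.1 hx y hy
      · exact absurd rfl hij)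
    (eq_top_iff.2 ((CfsgLib.Orth.sup_orth_eq_top hB hW).symm.le.trans
      (sup_le (le_iSup D 0) (le_iSup D 1))))
  rw [sform_polar hB] at hnd
  refine ⟨D, hnd, rfl, rfl, fun g hg => ?_⟩
  have hinv : PrimeDim.Inv (matrixSet H) W := fun s ⟨g, hg, hgs⟩ w hw => hgs ▸ ((hle hg) w).1 hw
  have hle' : H ≤ subspaceStabilizer (CfsgLib.Orth.orth Q W) := le_stab_of_inv (PrimeDim.inv_orth hH hinv)
  have key : ∀ U : Submodule F (Fin n → F), g ∈ subspaceStabilizer U → U.map (Matrix.toLin' g.val) = U := by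
    intro U hU
    refine le_antisymm ?_ fun v hv => ⟨(g⁻¹).val *ᵥ v, ?_, ?_⟩
    · rintro _ ⟨u, hu, rfl⟩
      rw [Matrix.toLin'_apply]
      exact (hU u).1 hu
    · exact (hU _).2 (by show g.val *ᵥ _ ∈ U; rwa [PrimeDim.mulVec_inv_cancel])
    · rw [Matrix.toLin'_apply, PrimeDim.mulVec_inv_cancel]
  exact ⟨1, fun i => by fin_cases i; exacts [key _ (hle hg), key _ (hle' hg)]⟩

theorem orth_two {D : Fin 2 → Submodule F (Fin n → F)} {k : ℕ}
    (hD : Cfsg.Geo.IsNondegenerateMDecomposition (QuadraticMap.polar ⇑Q) k D)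
    (h : Cfsg.Geo.AreIsometricFor ⇑Q (D 0) (D 1)) : IsOrthogonalMDecomposition ⇑Q k D := by
  refine ⟨hD, fun i j => ?_⟩
  have hr : ∀ l, Cfsg.Geo.AreIsometricFor ⇑Q (D l) (D l) := fun l => ⟨LinearEquiv.refl F _, fun w => rfl⟩
  obtain ⟨e, he⟩ := h
  have hs : Cfsg.Geo.AreIsometricFor ⇑Q (D 1) (D 0) := ⟨e.symm, fun w => by
    have := he (e.symm w)
    rw [LinearEquiv.apply_symm_apply] at this
    exact this.symm⟩
  fin_cases i <;> fin_cases j
  exacts [hr 0, ⟨e, he⟩, hs, hr 1]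

theorem isometric_of_type {U W : Submodule F (Fin n → F)} (hU : NondegOn Q U) (hW : NondegOn Q W) {k : ℕ}
    (hdU : Module.finrank F U = 2 * k) (hdW : Module.finrank F W = 2 * k)
    (h : IsPlusTypeOn ⇑Q U ↔ IsPlusTypeOn ⇑Q W) : Cfsg.Geo.AreIsometricFor ⇑Q U W := by
  obtain ⟨a, b, hab⟩ := CfsgLib.Classical.RestrictScalars.exists_ab (F := F)
  have key : CfsgLib.Classical.OrthModels.Iso (rest Q U) (rest Q W) := by
    rcases type_cases hU hdU hab with ⟨hp, iU⟩ | ⟨hp, j, hj, iU⟩ <;>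
      rcases type_cases hW hdW hab with ⟨hq, iW⟩ | ⟨hq, j', hj', iW⟩
    · exact iU.trans iW.symm
    · exact absurd (h.1 hp) hq
    · exact absurd (h.2 hq) hp
    · obtain rfl : j = j' := by omega
      exact iU.trans iW.symm
  obtain ⟨e, he⟩ := key
  exact ⟨e, he⟩

theorem neg_one_pow_odd_square {m : ℕ} (hm : Odd m) :
    IsSquare ((-1 : F) ^ m) ↔ Fintype.card F % 4 ≠ 3 := by
  rw [hm.neg_one_pow, FiniteField.isSquare_neg_one_iff]

theorem tensorForm_of (hB : Nondeg Q) {a b : ℕ} {e : Fin n ≃ Fin a × Fin b} {P : GL (Fin n) F}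
    {J₁ : Matrix (Fin a) (Fin a) F} {J₂ : Matrix (Fin b) (Fin b) F}
    (hF : fcoord (RingEquiv.refl F) (ogram Q) e P = Matrix.kronecker J₁ J₂) :
    Cfsg.Geo.IsTensorFormStructure id (QuadraticMap.polar ⇑Q) (sform (RingEquiv.refl F) J₁)
      (sform (RingEquiv.refl F) J₂) e P :=
  ⟨1, one_ne_zero, fun x y => by
    rw [polar_sform hB, sform_gram, sform_gram, one_mul, sform_fcoord, hF]
    exact (formOfGram_eq (RingEquiv.refl F) _ x y).symm⟩

/-- The possible symplectic tensor splittings. -/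
theorem sympTensor_dims {n₁ n₂ : ℕ} {J₁ : Matrix (Fin n₁) (Fin n₁) F} {J₂ : Matrix (Fin n₂) (Fin n₂) F}
    (h₁ : SympData J₁) (h₂ : SympData J₂) (h2 : 2 ≤ n₁) (hle : n₁ ≤ n₂) (hn : n₁ * n₂ ≤ 12) :
    n₁ = 2 ∧ (n₂ = 2 ∨ n₂ = 4 ∨ n₂ = 6) := by
  obtain ⟨a, rfl⟩ := OrthEven.sympData_even h₁
  obtain ⟨c, rfl⟩ := OrthEven.sympData_even h₂
  have : a = 1 := by
    by_contra h
    have : 4 * 4 ≤ (a + a) * (c + c) := Nat.mul_le_mul (by omega) (by omega)
    omega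
  subst this
  refine ⟨rfl, ?_⟩
  omega

end CfsgLib.Asch.OrthEvenMax
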