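import Cfsg.Agent.Lib.Classical.AschSympTensor

set_option autoImplicit false
set_option linter.unusedSectionVars false

/-!
Aschbacher's theorem for subgroups of the symplectic group in dimension at least four.
-/

namespace CfsgLib.Asch

open Matrix
open Cfsg.Geo (matrixSet scalars ActsIrreducibly ActsAbsolutelyIrreducibly)
open CfsgLib.PrimeDim (Inv Nml)
open scoped MatrixGroups Kronecker

variable {F : Type*} [Field F] {n : ℕ} {J : Matrix (Fin n) (Fin n) F}

local notation "τ₁" => RingEquiv.refl F

/-- The union of the symplectic classes and the residual class. -/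
inductive SympCases [Fintype F] (J : Matrix (Fin n) (Fin n) F) (H : Subgroup (GL (Fin n) F)) : Prop
  | ts : TSCase (RingEquiv.refl F) J H → SympCases J H
  | nd : NDCase (RingEquiv.refl F) J H → SympCases J H
  | ndDecomp : NDDecompCase (RingEquiv.refl F) J H → SympCases J H
  | tsPair : Odd (Fintype.card F) → TSPairCase (RingEquiv.refl F) J H → SympCases J H
  | saField : SAFieldCase (RingEquiv.refl F) J H → SympCases J H
  | conjField : Odd (Fintype.card F) → ConjFieldCase (RingEquiv.refl F) J H → SympCases J H
  | tensor : STensorCase J H → SympCases J H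
  | rational : RationalCase J H → SympCases J H
  | heis : SympHeisCase J H → SympCases J H
  | power : SPowerCase J H → SympCases J H
  | quad : SQuadCase J H → SympCases J H
  | residual : SResidual H → SympCases J H

theorem SympCases.of_tsPair [Fintype F] (hJ : SympData J) {H : Subgroup (GL (Fin n) F)}
    (hH : ∀ g ∈ H, Iso (RingEquiv.refl F) J g.val) (h : TSPairCase (RingEquiv.refl F) J H) : SympCases J H :=
  if hodd : Odd (Fintype.card F) then .tsPair hodd h else .quad (quad_of_tsPair hJ hodd hH h)

theorem SympCases.of_conjField [Fintype F] (hJ : SympData J) {H : Subgroup (GL (Fin n) F)}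
    (hH : ∀ g ∈ H, Iso (RingEquiv.refl F) J g.val) (h : ConjFieldCase (RingEquiv.refl F) J H) : SympCases J H :=
  if hodd : Odd (Fintype.card F) then .conjField hodd h else .quad (quad_of_conjField hJ hodd hH h)

/-- Aschbacher's theorem for the symplectic group. -/
theorem symp_structure [Fintype F] (hJ : SympData J) (hn : 4 ≤ n) {H : Subgroup (GL (Fin n) F)}
    (hH : ∀ g ∈ H, Iso (RingEquiv.refl F) J g.val) : SympCases J H := by
  classical
  haveI : Finite (GL (Fin n) F) := Finite.of_injective _ Units.val_injective
  by_cases hirr : ActsIrreducibly (matrixSet H)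
  swap
  · rcases reducible_form hJ.data hH hirr with h | h | h
    · exact .ts h
    · exact .nd h
    · exact .ndDecomp h
  by_cases hall : ∀ K, Nml H K → K ≤ scalars (Fin n) F ∨ ActsAbsolutelyIrreducibly (matrixSet K)
  swap
  · push Not at hall
    obtain ⟨K, hK, hKs, hKa⟩ := hall
    rcases clifford_cases (by omega) hirr hK with h | h | ⟨d, L, hd, hL⟩ | ⟨m, t, ρ, e, P, hm, ht, hT⟩ | h
    · exact absurd h hKs
    · rcases split_form hJ.data hirr hH hK h with h | h
      · exact .ndDecomp h
      · exact .of_tsPair hJ hH h
    · rcases field_bilinear hJ.data hH hK hd hL with h | h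
      · exact .saField h
      · exact .of_conjField hJ hH h
    · rcases symp_tensor hJ hH hirr hK hm ht hT with h | h | h | h
      · exact .tensor h
      · exact .of_tsPair hJ hH h
      · exact .of_conjField hJ hH h
      · exact .quad h
    · exact absurd h hKa
  obtain ⟨N, ⟨hN, hNns⟩, hmin⟩ := (wellFounded_lt (α := Subgroup (GL (Fin n) F))).has_min
    {K | Nml H K ∧ ¬ K ≤ scalars (Fin n) F} ⟨H, Nml.self H, not_le_scalars (by omega) hirr⟩
  have hmin' : ∀ K, Nml H K → K ≤ N → K ≤ scalars (Fin n) F ∨ K = N := fun K hK hle => by
    by_cases hs : K ≤ scalars (Fin n) F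
    · exact Or.inl hs
    · exact Or.inr (eq_of_le_of_not_lt hle fun hlt => hmin K ⟨hK, hs⟩ hlt)
  have habs := (hall N hN).resolve_left hNns
  rcases hmin' _ (nml_commutator hN) (commutator_le_self N) with h | h
  · obtain ⟨r, hd⟩ := exists_heisData (by omega) hN habs hNns hmin' h
    rcases symp_heis hJ.data hJ.alt (by omega) hH hd with h | h
    · exact .rational h
    · exact .heis h
  · rcases perfect_split (by omega) hN habs hNns hmin' h with
      ⟨hsimp, hnab, hcent⟩ | ⟨m, k, Mf, ρ, e, P, hm, hk, hcard, hirr', hrep, habs', hMH, hperf, hperm, htrans⟩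
    · rcases symp_simple hJ (by omega) hH hN habs h hsimp hnab hcent with h | h | h
      · exact .rational h
      · exact .quad h
      · exact .residual h
    · rcases symp_power hJ (by omega) hH hN hm hk hcard hirr' hrep habs' hMH hperf hperm htrans with h | h
      · exact .power h
      · exact .quad h

end CfsgLib.Asch
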