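import Cfsg.Agent.Lib.Classical.Forms

/-!
Fitting decompositions inside a symplectic space, for endomorphisms satisfying a bilinear identity.
-/

set_option autoImplicit false

namespace CfsgLib.SympCount

open Module Polynomial

/-- Counting a saturated set through a slice. -/
theorem card_slice {G α : Type*} [Group G] [Finite G] [Finite α] (act : G → α → α)
    (hone : ∀ a, act 1 a = a) (hmul : ∀ g h a, act (g * h) a = act g (act h a))
    (X S : Set α) (H : Subgroup G) (hSX : S ⊆ X) (hX : ∀ g, ∀ x ∈ X, act g x ∈ X)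
    (hsur : ∀ x ∈ X, ∃ g, ∃ s ∈ S, act g s = x) (hH : ∀ h ∈ H, ∀ s ∈ S, act h s ∈ S)
    (hint : ∀ g, ∀ s ∈ S, act g s ∈ S → g ∈ H) :
    Nat.card X * Nat.card H = Nat.card G * Nat.card S := by
  classical
  have : Fintype X := Fintype.ofFinite _
  let φ : G × S → X := fun p => ⟨act p.1 p.2, hX _ _ (hSX p.2.2)⟩
  have hfib : ∀ x, Nat.card {p // φ p = x} = Nat.card H := by
    intro x
    obtain ⟨g, s, hs, hgs⟩ := hsur x.1 x.2
    refine (Nat.card_eq_of_bijective (fun h : H =>
      (⟨(g * h, ⟨act (h⁻¹ : H) s, hH _ (h⁻¹).2 s hs⟩), Subtype.ext (by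
        show act (g * h) (act (h⁻¹ : H) s) = x.1
        rw [hmul, ← hmul (h : G), Subgroup.coe_inv, mul_inv_cancel, hone, hgs])⟩ : {p // φ p = x}))
      ⟨?_, ?_⟩).symm
    · intro h h' e
      exact Subtype.ext (mul_left_cancel (congrArg (fun p => p.1.1) e))
    · rintro ⟨⟨g', s', hs'⟩, hp⟩
      have hp' : act g' s' = act g s := (congrArg Subtype.val hp).trans hgs.symm
      have h1 : act (g⁻¹ * g') s' = s := by rw [hmul, hp', ← hmul, inv_mul_cancel, hone]
      have hh := hint _ s' hs' (h1.symm ▸ hs)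
      refine ⟨⟨_, hh⟩, Subtype.ext (Prod.ext (mul_inv_cancel_left g g') (Subtype.ext ?_))⟩
      show act ((g⁻¹ * g')⁻¹) s = s'
      rw [← h1, ← hmul, inv_mul_cancel, hone]
  have := Nat.card_prod G S
  rw [← Nat.card_congr (Equiv.sigmaFiberEquiv φ), Nat.card_sigma] at this
  simp only [hfib, Finset.sum_const, Finset.card_univ, smul_eq_mul] at this
  rw [← this, Nat.card_eq_fintype_card]

universe u

variable {F : Type u} [Field F]

section Defs

variable {V : Type u} [AddCommGroup V] [Module F V]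

/-- A nondegenerate alternating form. -/
structure Symp (B : LinearMap.BilinForm F V) : Prop where
  alt : B.IsAlt
  nd : ∀ v, (∀ w, B v w = 0) → v = 0

/-- A bilinear identity on an endomorphism. -/
def Cond (a b c : F) (B : LinearMap.BilinForm F V) (f : End F V) : Prop :=
  ∀ x y, a * B (f x) (f y) + b * (B (f x) y + B x (f y)) + c * B x y = 0

/-- The isometries of a form. -/
def isoGrp (B : LinearMap.BilinForm F V) : Subgroup (V ≃ₗ[F] V) where
  carrier := {g | ∀ x y, B (g x) (g y) = B x y}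
  mul_mem' {g h} hg hh x y := by rw [LinearEquiv.mul_apply, LinearEquiv.mul_apply, hg, hh]
  one_mem' _ _ := rfl
  inv_mem' {g} hg x y := by
    conv_rhs => rw [← g.apply_symm_apply x, ← g.apply_symm_apply y, hg]
    rfl

end Defs

variable {V V₁ V₂ : Type u} [AddCommGroup V] [Module F V] [AddCommGroup V₁] [Module F V₁]
  [AddCommGroup V₂] [Module F V₂]

/-- The orthogonal sum of two forms. -/
noncomputable def prodForm (B₁ : LinearMap.BilinForm F V₁) (B₂ : LinearMap.BilinForm F V₂) :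
    LinearMap.BilinForm F (V₁ × V₂) :=
  B₁.compl₁₂ (LinearMap.fst F V₁ V₂) (LinearMap.fst F V₁ V₂) +
    B₂.compl₁₂ (LinearMap.snd F V₁ V₂) (LinearMap.snd F V₁ V₂)

@[simp] theorem prodForm_apply (B₁ : LinearMap.BilinForm F V₁) (B₂ : LinearMap.BilinForm F V₂)
    (x y : V₁ × V₂) : prodForm B₁ B₂ x y = B₁ x.1 y.1 + B₂ x.2 y.2 := rfl

theorem Symp.prod {B₁ : LinearMap.BilinForm F V₁} {B₂ : LinearMap.BilinForm F V₂} (h₁ : Symp B₁)
    (h₂ : Symp B₂) : Symp (prodForm B₁ B₂) where
  alt x := by simp [h₁.alt x.1, h₂.alt x.2]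
  nd v hv := Prod.ext (h₁.nd _ fun w => by simpa using hv (w, 0))
    (h₂.nd _ fun w => by simpa using hv (0, w))

/-- The form is preserved by an equivalence. -/
def IsIsometry (B : LinearMap.BilinForm F V) (B₁ : LinearMap.BilinForm F V₁) (e : V₁ ≃ₗ[F] V) :
    Prop :=
  ∀ x y, B (e x) (e y) = B₁ x y

theorem Cond.conj_iff {a b c : F} {B : LinearMap.BilinForm F V} {B₁ : LinearMap.BilinForm F V₁}
    {e : V₁ ≃ₗ[F] V} (he : IsIsometry B B₁ e) (f : End F V₁) :
    Cond a b c B (e.conj f) ↔ Cond a b c B₁ f := by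
  constructor
  · intro h x y
    have := h (e x) (e y)
    simpa [LinearEquiv.conj_apply, he _ _] using this
  · intro h x y
    obtain ⟨x, rfl⟩ := e.surjective x
    obtain ⟨y, rfl⟩ := e.surjective y
    simpa [LinearEquiv.conj_apply, he _ _] using h x y

theorem conj_aeval (e : V₁ ≃ₗ[F] V) (f : End F V₁) (π : F[X]) :
    aeval (e.conj f) π = e.conj (aeval f π) :=
  aeval_algHom_apply (e.conjAlgEquiv F).toAlgHom f π

theorem conj_pow' (e : V₁ ≃ₗ[F] V) (f : End F V₁) (n : ℕ) : e.conj f ^ n = e.conj (f ^ n) :=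
  (map_pow (e.conjAlgEquiv F) f n).symm

theorem conj_mul' (g h : V ≃ₗ[F] V) (f : End F V) : (g * h).conj f = g.conj (h.conj f) := by
  ext x; simp [LinearEquiv.conj_apply]; rfl

/-- Powers of a split endomorphism. -/
theorem prodMap_aeval (f₁ : End F V₁) (f₂ : End F V₂) (π : F[X]) :
    aeval (LinearMap.prodMap f₁ f₂) π = LinearMap.prodMap (aeval f₁ π) (aeval f₂ π) := by
  rw [show LinearMap.prodMap f₁ f₂ = LinearMap.prodMapAlgHom F V₁ V₂ (f₁, f₂) from rfl,
    aeval_algHom_apply, aeval_prod_apply]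
  rfl

theorem prodMap_pow' (f₁ : End F V₁) (f₂ : End F V₂) (n : ℕ) :
    LinearMap.prodMap f₁ f₂ ^ n = LinearMap.prodMap (f₁ ^ n) (f₂ ^ n) :=
  (map_pow (LinearMap.prodMapAlgHom F V₁ V₂) (f₁, f₂) n).symm

/-- Intertwiners of split endomorphisms, nilpotent on one side and injective on the other, split. -/
theorem intertwine_split [FiniteDimensional F V₂] {t₁ t₁' : End F V₁} {t₂ t₂' : End F V₂} {N : ℕ}
    (h₁ : t₁ ^ N = 0) (h₁' : t₁' ^ N = 0) (h₂ : Function.Injective t₂)
    (h₂' : Function.Injective t₂') (e : End F (V₁ × V₂))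
    (he : e * LinearMap.prodMap t₁ t₂ = LinearMap.prodMap t₁' t₂' * e) :
    (∀ x, (e (x, 0)).2 = 0) ∧ ∀ y, (e (0, y)).1 = 0 := by
  have hN : e * LinearMap.prodMap t₁ t₂ ^ N = LinearMap.prodMap t₁' t₂' ^ N * e :=
    (SemiconjBy.pow_right (show SemiconjBy e (LinearMap.prodMap t₁ t₂) (LinearMap.prodMap t₁' t₂')
      from he) N)
  rw [prodMap_pow', prodMap_pow', h₁, h₁'] at hN
  have hi : Function.Injective ⇑(t₂' ^ N) := by rw [End.coe_pow]; exact h₂'.iterate N
  have hs : Function.Surjective ⇑(t₂ ^ N) := by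
    rw [← LinearMap.injective_iff_surjective, End.coe_pow]; exact h₂.iterate N
  refine ⟨fun x => hi ?_, fun y => ?_⟩
  · have := congrArg Prod.snd (LinearMap.congr_fun hN (x, 0))
    simp only [End.mul_apply, LinearMap.prodMap_apply, LinearMap.zero_apply, map_zero] at this
    rw [map_zero, ← this, show ((0 : V₁), (0 : V₂)) = 0 from rfl, map_zero]
    rfl
  · obtain ⟨y', rfl⟩ := hs y
    have := congrArg Prod.fst (LinearMap.congr_fun hN (0, y'))
    simp only [End.mul_apply, LinearMap.prodMap_apply, LinearMap.zero_apply] at this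
    exact this

/-- Two symplectic spaces of the same dimension are isometric, and the dimension is even. -/
theorem exists_isometry [FiniteDimensional F V] [FiniteDimensional F V₁]
    {B : LinearMap.BilinForm F V} {B₁ : LinearMap.BilinForm F V₁} (h : Symp B) (h₁ : Symp B₁)
    (hd : finrank F V₁ = finrank F V) : ∃ e : V₁ ≃ₗ[F] V, IsIsometry B B₁ e := by
  obtain ⟨m, b, b1, b2, b3⟩ := Forms.exists_symplectic_basis_nondeg B h.alt h.nd
  obtain ⟨m', d, d1, d2, d3⟩ := Forms.exists_symplectic_basis_nondeg B₁ h₁.alt h₁.nd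
  have hm : m' = m := by
    rw [finrank_eq_card_basis d, finrank_eq_card_basis b] at hd
    simp only [Fintype.card_sum, Fintype.card_fin] at hd
    omega
  subst hm
  refine ⟨d.equiv b (Equiv.refl _), ?_⟩
  have key : B.compl₁₂ (d.equiv b (Equiv.refl _) : V₁ →ₗ[F] V) (d.equiv b (Equiv.refl _) : V₁ →ₗ[F] V) = B₁ := by
    refine LinearMap.BilinForm.ext_basis d fun i j => ?_
    simp only [LinearMap.compl₁₂_apply, LinearEquiv.coe_coe, Basis.equiv_apply, Equiv.refl_apply]
    rcases i with i | i <;> rcases j with j | j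
    · rw [b2, d2]
    · rw [b1, d1]
    · rw [← h.alt.neg_eq, ← h₁.alt.neg_eq, b1, d1]
    · rw [b3, d3]
  intro x y
  exact LinearMap.congr_fun₂ key x y

theorem even_finrank [FiniteDimensional F V] {B : LinearMap.BilinForm F V} (h : Symp B) :
    ∃ k, finrank F V = 2 * k := by
  obtain ⟨m, b, -⟩ := Forms.exists_symplectic_basis_nondeg B h.alt h.nd
  exact ⟨m, by rw [finrank_eq_card_basis b]; simp; ring⟩

/-- The isometries, as endomorphisms. -/
theorem card_isoGrp [FiniteDimensional F V] {B : LinearMap.BilinForm F V} (h : Symp B) :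
    Nat.card (isoGrp B) = Nat.card {f : End F V // Cond 1 0 (-1) B f} := by
  have hc : ∀ f : End F V, Cond 1 0 (-1) B f ↔ ∀ x y, B (f x) (f y) = B x y := fun f =>
    forall₂_congr fun x y => by rw [one_mul, zero_mul, add_zero, neg_one_mul, ← sub_eq_add_neg, sub_eq_zero]
  refine Nat.card_eq_of_bijective (fun g => ⟨(g.1 : End F V), (hc _).2 g.2⟩) ⟨?_, ?_⟩
  · intro g g' e
    exact Subtype.ext (LinearEquiv.toLinearMap_injective (congrArg Subtype.val e))
  · rintro ⟨f, hf⟩
    have hinj : Function.Injective f := (injective_iff_map_eq_zero f).2 fun v hv =>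
      h.nd v fun w => by rw [← (hc f).1 hf, hv, map_zero, LinearMap.zero_apply]
    exact ⟨⟨LinearEquiv.ofInjectiveEndo f hinj, fun x y => (hc f).1 hf x y⟩,
      Subtype.ext (LinearMap.ext fun _ => rfl)⟩

/-- Endomorphisms with the identity and with `π` nilpotent. -/
noncomputable def cntNil (a b c : F) (π : F[X]) (B : LinearMap.BilinForm F V) : ℕ :=
  Nat.card {f : End F V // Cond a b c B f ∧ IsNilpotent (aeval f π)}

/-- Endomorphisms with the identity and with `π` injective. -/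
noncomputable def cntInj (a b c : F) (π : F[X]) (B : LinearMap.BilinForm F V) : ℕ :=
  Nat.card {f : End F V // Cond a b c B f ∧ Function.Injective (aeval f π)}

theorem cnt_congr {a b c : F} {π : F[X]} {B : LinearMap.BilinForm F V}
    {B₁ : LinearMap.BilinForm F V₁} {e : V₁ ≃ₗ[F] V} (he : IsIsometry B B₁ e) :
    cntNil a b c π B₁ = cntNil a b c π B ∧ cntInj a b c π B₁ = cntInj a b c π B ∧
      Nat.card {f : End F V₁ // Cond a b c B₁ f} = Nat.card {f : End F V // Cond a b c B f} := by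
  refine ⟨Nat.card_congr (e.conj.toEquiv.subtypeEquiv fun f => and_congr (Cond.conj_iff he f).symm ?_),
    Nat.card_congr (e.conj.toEquiv.subtypeEquiv fun f => and_congr (Cond.conj_iff he f).symm ?_),
    Nat.card_congr (e.conj.toEquiv.subtypeEquiv fun f => (Cond.conj_iff he f).symm)⟩
  · show _ ↔ IsNilpotent (aeval (e.conj f) π)
    rw [conj_aeval]
    exact (IsNilpotent.map_iff (f := e.conjAlgEquiv F) (e.conjAlgEquiv F).injective).symm
  · show _ ↔ Function.Injective ⇑(aeval (e.conj f) π)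
    rw [conj_aeval, LinearEquiv.conj_apply]
    simp only [LinearMap.coe_comp, LinearEquiv.coe_coe]
    rw [EquivLike.injective_comp, EquivLike.comp_injective]

variable [Finite F] [FiniteDimensional F V] [FiniteDimensional F V₁] [FiniteDimensional F V₂]

instance : Finite (End F V) := Module.finite_of_finite F

instance : Finite (V ≃ₗ[F] V) :=
  Finite.of_injective (fun e => (e : End F V)) LinearEquiv.toLinearMap_injective

/-- The stratum with a given kernel dimension. -/
def stratum (a b c : F) (π : F[X]) (B : LinearMap.BilinForm F V) (d : ℕ) : Set (End F V) :=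
  {f | Cond a b c B f ∧ finrank F ↥(LinearMap.ker (aeval f π ^ finrank F V)) = d}

omit [Finite F] in
theorem fitting (t : End F V) :
    IsCompl (LinearMap.ker (t ^ finrank F V)) (LinearMap.range (t ^ finrank F V)) := by
  have hdisj : LinearMap.ker (t ^ finrank F V) ⊓ LinearMap.range (t ^ finrank F V) = ⊥ := by
    rw [eq_bot_iff]
    rintro x ⟨hx, y, rfl⟩
    rw [Submodule.mem_bot]
    have hy : y ∈ LinearMap.ker (t ^ (finrank F V + finrank F V)) := by
      rw [LinearMap.mem_ker, pow_add]; exact hx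
    rw [Module.End.ker_pow_eq_ker_pow_finrank_of_le (Nat.le_add_left _ _)] at hy
    exact hy
  refine ⟨disjoint_iff.2 hdisj, codisjoint_iff.2 (Submodule.eq_top_of_finrank_eq ?_)⟩
  have := Submodule.finrank_sup_add_finrank_inf_eq (LinearMap.ker (t ^ finrank F V))
    (LinearMap.range (t ^ finrank F V))
  rw [hdisj, finrank_bot] at this
  have := LinearMap.finrank_range_add_finrank_ker (t ^ finrank F V)
  omega

omit [Finite F] [FiniteDimensional F V] in
/-- The parts of an orthogonal decomposition are nondegenerate. -/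
theorem Symp.restrict {B : LinearMap.BilinForm F V} (h : Symp B) {K I : Submodule F V}
    (hc : IsCompl K I) (horth : ∀ k ∈ K, ∀ i ∈ I, B i k = 0) :
    Symp (B.restrict K) ∧ Symp (B.restrict I) := by
  have hsplit : ∀ w : V, ∃ k ∈ K, ∃ i ∈ I, k + i = w := fun w =>
    Submodule.mem_sup.1 (hc.sup_eq_top ▸ Submodule.mem_top)
  refine ⟨⟨fun v => h.alt _, fun v hv => Subtype.ext (h.nd _ fun w => ?_)⟩,
    ⟨fun v => h.alt _, fun v hv => Subtype.ext (h.nd _ fun w => ?_)⟩⟩
  · obtain ⟨k, hk, i, hi, rfl⟩ := hsplit w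
    rw [map_add, ← h.alt.neg_eq i (v : V), horth _ v.2 i hi, neg_zero, add_zero]
    exact hv ⟨k, hk⟩
  · obtain ⟨k, hk, i, hi, rfl⟩ := hsplit w
    rw [map_add, horth k hk _ v.2, zero_add]
    exact hv ⟨i, hi⟩

/-- One Fitting stratum. -/
theorem card_stratum {a b c : F} {π : F[X]} {B₁ : LinearMap.BilinForm F V₁}
    {B₂ : LinearMap.BilinForm F V₂} (h₁ : Symp B₁) (h₂ : Symp B₂)
    (horth : ∀ f, Cond a b c (prodForm B₁ B₂) f →
      ∀ k ∈ LinearMap.ker (aeval f π ^ finrank F (V₁ × V₂)),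
      ∀ i ∈ LinearMap.range (aeval f π ^ finrank F (V₁ × V₂)), prodForm B₁ B₂ i k = 0) :
    Nat.card (stratum a b c π (prodForm B₁ B₂) (finrank F V₁)) *
        (Nat.card (isoGrp B₁) * Nat.card (isoGrp B₂)) =
      Nat.card (isoGrp (prodForm B₁ B₂)) * (cntNil a b c π B₁ * cntInj a b c π B₂) := by
  classical
  set B := prodForm B₁ B₂ with hB
  have hS : Symp B := h₁.prod h₂
  set N := finrank F (V₁ × V₂) with hN
  let S : Set (End F (V₁ × V₂)) :=
    Set.range fun p : {f : End F V₁ // Cond a b c B₁ f ∧ IsNilpotent (aeval f π)} ×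
      {f : End F V₂ // Cond a b c B₂ f ∧ Function.Injective (aeval f π)} =>
      LinearMap.prodMap p.1.1 p.2.1
  have hScard : Nat.card S = cntNil a b c π B₁ * cntInj a b c π B₂ := by
    rw [cntNil, cntInj, ← Nat.card_prod]
    refine Nat.card_range_of_injective ?_
    rintro ⟨⟨f₁, hf₁⟩, ⟨f₂, hf₂⟩⟩ ⟨⟨g₁, hg₁⟩, ⟨g₂, hg₂⟩⟩ e
    refine Prod.ext (Subtype.ext (LinearMap.ext fun x => ?_)) (Subtype.ext (LinearMap.ext fun y => ?_))
    · simpa using congrArg Prod.fst (LinearMap.congr_fun e (x, 0))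
    · simpa using congrArg Prod.snd (LinearMap.congr_fun e (0, y))
  have hcondprod : ∀ (f₁ : End F V₁) (f₂ : End F V₂),
      Cond a b c B (LinearMap.prodMap f₁ f₂) ↔ Cond a b c B₁ f₁ ∧ Cond a b c B₂ f₂ := by
    intro f₁ f₂
    refine ⟨fun h => ⟨fun x y => ?_, fun x y => ?_⟩, fun h x y => ?_⟩
    · simpa [hB] using h (x, 0) (y, 0)
    · simpa [hB] using h (0, x) (0, y)
    · simp only [hB, prodForm_apply, LinearMap.prodMap_apply]
      linear_combination h.1 x.1 y.1 + h.2 x.2 y.2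
  have hnilpow : ∀ {t : End F V₁}, IsNilpotent t → t ^ N = 0 := by
    intro t ht
    have h1 : t ^ finrank F V₁ = 0 := by
      have h := (LinearMap.charpoly_nilpotent_tfae t).out 0 1
      rw [← LinearMap.aeval_self_charpoly t, h.1 ht, map_pow, aeval_X]
    exact pow_eq_zero_of_le (by rw [hN, finrank_prod]; omega) h1
  let H : Subgroup (isoGrp B) :=
    { carrier := {g | (∀ x, (g.1 (x, 0)).2 = 0) ∧ ∀ y, (g.1 (0, y)).1 = 0}
      mul_mem' := fun {g g'} hg hg' => by
        refine ⟨fun x => ?_, fun y => ?_⟩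
        · show (g.1 (g'.1 (x, 0))).2 = 0
          rw [show g'.1 (x, 0) = ((g'.1 (x, 0)).1, (0 : V₂)) from Prod.ext rfl (hg'.1 x)]
          exact hg.1 _
        · show (g.1 (g'.1 (0, y))).1 = 0
          rw [show g'.1 (0, y) = ((0 : V₁), (g'.1 (0, y)).2) from Prod.ext (hg'.2 y) rfl]
          exact hg.2 _
      one_mem' := ⟨fun _ => rfl, fun _ => rfl⟩
      inv_mem' := fun {g} hg => by
        refine ⟨fun x => ?_, fun y => ?_⟩
        · show (g.1.symm (x, 0)).2 = 0
          set z := g.1.symm (x, 0) with hz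
          have hgz : g.1 z = (x, 0) := by rw [hz, LinearEquiv.apply_symm_apply]
          have h1 : g.1 (0, z.2) = 0 := by
            refine Prod.ext (hg.2 _) ?_
            have : g.1 z = g.1 (z.1, 0) + g.1 (0, z.2) := by rw [← map_add]; congr 1; simp
            rw [hgz] at this
            have h2 := congrArg Prod.snd this
            rw [Prod.snd_add, hg.1, zero_add] at h2
            exact h2.symm
          exact congrArg Prod.snd ((LinearEquiv.map_eq_zero_iff g.1).1 h1)
        · show (g.1.symm (0, y)).1 = 0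
          set z := g.1.symm (0, y) with hz
          have hgz : g.1 z = (0, y) := by rw [hz, LinearEquiv.apply_symm_apply]
          have h1 : g.1 (z.1, 0) = 0 := by
            refine Prod.ext ?_ (hg.1 _)
            have : g.1 z = g.1 (z.1, 0) + g.1 (0, z.2) := by rw [← map_add]; congr 1; simp
            rw [hgz] at this
            have h2 := congrArg Prod.fst this
            rw [Prod.fst_add, hg.2, add_zero] at h2
            exact h2.symm
          exact congrArg Prod.fst ((LinearEquiv.map_eq_zero_iff g.1).1 h1) }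
  have hHcard : Nat.card H = Nat.card (isoGrp B₁) * Nat.card (isoGrp B₂) := by
    rw [← Nat.card_prod]
    refine (Nat.card_eq_of_bijective (fun p : isoGrp B₁ × isoGrp B₂ =>
      (⟨⟨p.1.1.prodCongr p.2.1, fun x y => by
        show B₁ (p.1.1 x.1) (p.1.1 y.1) + B₂ (p.2.1 x.2) (p.2.1 y.2) = B₁ x.1 y.1 + B₂ x.2 y.2
        rw [p.1.2, p.2.2]⟩, fun x => map_zero p.2.1, fun y => map_zero p.1.1⟩ : H)) ⟨?_, ?_⟩).symm
    · intro p p' e
      have e' : ∀ z, p.1.1.prodCongr p.2.1 z = p'.1.1.prodCongr p'.2.1 z := fun z =>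
        congrArg (fun g : H => (g.1.1 : (V₁ × V₂) ≃ₗ[F] (V₁ × V₂)) z) e
      exact Prod.ext (Subtype.ext (LinearEquiv.ext fun x => congrArg Prod.fst (e' (x, 0))))
        (Subtype.ext (LinearEquiv.ext fun y => congrArg Prod.snd (e' (0, y))))
    · rintro ⟨⟨g, hg⟩, hl, hr⟩
      let g₁ : End F V₁ := LinearMap.fst F V₁ V₂ ∘ₗ (g : End F (V₁ × V₂)) ∘ₗ LinearMap.inl F V₁ V₂
      let g₂ : End F V₂ := LinearMap.snd F V₁ V₂ ∘ₗ (g : End F (V₁ × V₂)) ∘ₗ LinearMap.inr F V₁ V₂
      have e₁ : ∀ x, g (x, 0) = (g₁ x, 0) := fun x => Prod.ext rfl (hl x)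
      have e₂ : ∀ y, g (0, y) = (0, g₂ y) := fun y => Prod.ext (hr y) rfl
      have i₁ : Function.Injective g₁ := fun x x' e => congrArg Prod.fst
        (g.injective ((e₁ x).trans ((congrArg (fun w => (w, (0 : V₂))) e).trans (e₁ x').symm)))
      have i₂ : Function.Injective g₂ := fun x x' e => congrArg Prod.snd
        (g.injective ((e₂ x).trans ((congrArg (fun w => ((0 : V₁), w)) e).trans (e₂ x').symm)))
      have p₁ : ∀ x y, B₁ (g₁ x) (g₁ y) = B₁ x y := fun x y => by
        have := hg (x, 0) (y, 0)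
        simpa [hB, e₁] using this
      have p₂ : ∀ x y, B₂ (g₂ x) (g₂ y) = B₂ x y := fun x y => by
        have := hg (0, x) (0, y)
        simpa [hB, e₂] using this
      refine ⟨(⟨LinearEquiv.ofInjectiveEndo g₁ i₁, p₁⟩, ⟨LinearEquiv.ofInjectiveEndo g₂ i₂, p₂⟩),
        Subtype.ext (Subtype.ext (LinearEquiv.ext fun z => ?_))⟩
      show (g₁ z.1, g₂ z.2) = g z
      have hz : z = (z.1, 0) + (0, z.2) := by simp
      conv_rhs => rw [hz, map_add, e₁, e₂]
      simp
  rw [← hHcard, ← hScard]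
  refine card_slice (fun g f => g.1.conj f) (fun f => LinearMap.ext fun z => rfl)
    (fun g g' f => conj_mul' g.1 g'.1 f) _ S H ?_ ?_ ?_ ?_ ?_
  · rintro _ ⟨⟨⟨f₁, hc₁, hn₁⟩, ⟨f₂, hc₂, hi₂⟩⟩, rfl⟩
    refine ⟨(hcondprod _ _).2 ⟨hc₁, hc₂⟩, ?_⟩
    show finrank F ↥(LinearMap.ker (aeval (LinearMap.prodMap f₁ f₂) π ^ N)) = finrank F V₁
    rw [prodMap_aeval, prodMap_pow', hnilpow hn₁]
    have hi : Function.Injective ⇑(aeval f₂ π ^ N) := by rw [End.coe_pow]; exact hi₂.iterate N
    have : LinearMap.ker (LinearMap.prodMap (0 : End F V₁) (aeval f₂ π ^ N)) =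
        LinearMap.range (LinearMap.inl F V₁ V₂) := by
      ext ⟨x, y⟩
      simp only [LinearMap.mem_ker, LinearMap.prodMap_apply, LinearMap.zero_apply, Prod.mk_eq_zero,
        true_and, LinearMap.mem_range, LinearMap.inl_apply, Prod.mk.injEq, exists_eq_left]
      exact ⟨fun h => (hi (h.trans (map_zero _).symm)).symm, fun h => by rw [← h, map_zero]⟩
    rw [this, LinearMap.finrank_range_of_inj LinearMap.inl_injective]
  · rintro g f ⟨hc, hd⟩
    refine ⟨(Cond.conj_iff (fun x y => g.2 x y) f).2 hc, ?_⟩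
    rw [conj_aeval, conj_pow']
    conv_rhs => rw [← hd]
    refine (LinearEquiv.finrank_eq ((g.1.submoduleMap _).trans (LinearEquiv.ofEq _ _ ?_))).symm
    ext x
    simp only [Submodule.mem_map_equiv, LinearMap.mem_ker, LinearEquiv.conj_apply_apply,
      LinearEquiv.map_eq_zero_iff]
  · rintro f ⟨hc, hd⟩
    have hC := fitting (aeval f π)
    obtain ⟨hK, hI⟩ := hS.restrict hC (horth f hc)
    set K := LinearMap.ker (aeval f π ^ N) with hKdef
    set I := LinearMap.range (aeval f π ^ N) with hIdef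
    have hdI : finrank F V₂ = finrank F ↥I := by
      have h0 := LinearMap.finrank_range_add_finrank_ker (aeval f π ^ N)
      rw [← hKdef, ← hIdef, hd, finrank_prod] at h0
      omega
    obtain ⟨e₁, he₁⟩ := exists_isometry hK h₁ hd.symm
    obtain ⟨e₂, he₂⟩ := exists_isometry hI h₂ hdI
    let e : (V₁ × V₂) ≃ₗ[F] (V₁ × V₂) := (e₁.prodCongr e₂).trans (Submodule.prodEquivOfIsCompl K I hC)
    have hev : ∀ x y, e (x, y) = (e₁ x : V₁ × V₂) + (e₂ y : V₁ × V₂) := fun x y => by simp [e]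
    have he : ∀ z w, B (e z) (e w) = B z w := by
      rintro ⟨x, y⟩ ⟨x', y'⟩
      have o1 : B (e₂ y : V₁ × V₂) (e₁ x' : V₁ × V₂) = 0 := horth f hc _ (e₁ x').2 _ (e₂ y).2
      have o2 : B (e₂ y' : V₁ × V₂) (e₁ x : V₁ × V₂) = 0 := horth f hc _ (e₁ x).2 _ (e₂ y').2
      have o3 : B (e₁ x : V₁ × V₂) (e₂ y' : V₁ × V₂) = 0 := by rw [← hS.alt.neg_eq, o2, neg_zero]
      have q1 : B (e₁ x : V₁ × V₂) (e₁ x' : V₁ × V₂) = B₁ x x' := he₁ x x'
      have q2 : B (e₂ y : V₁ × V₂) (e₂ y' : V₁ × V₂) = B₂ y y' := he₂ y y'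
      rw [hev, hev, map_add, map_add, LinearMap.add_apply, LinearMap.add_apply, o1, o3, q1, q2]
      simp [hB]
    have hcomm : Commute f (aeval f π ^ N) := by
      refine Commute.pow_right ?_ N
      have := (Commute.all X π).map (aeval f : F[X] →ₐ[F] End F (V₁ × V₂))
      rwa [aeval_X] at this
    have hfK : ∀ z ∈ K, f z ∈ K := fun z hz => by
      rw [LinearMap.mem_ker] at hz ⊢
      rw [← End.mul_apply, ← hcomm.eq, End.mul_apply, hz, map_zero]
    have hfI : ∀ z ∈ I, f z ∈ I := by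
      rintro _ ⟨w, rfl⟩
      exact ⟨f w, by rw [← End.mul_apply, ← hcomm.eq, End.mul_apply]⟩
    set f' := e.symm.conj f with hf'
    have hfe : ∀ z, f' z = e.symm (f (e z)) := fun z => rfl
    have hinl : ∀ z ∈ K, (e.symm z).2 = 0 := fun z hz => by
      have hzz : e (e₁.symm ⟨z, hz⟩, 0) = z := by simp [hev]
      conv_lhs => rw [← hzz, LinearEquiv.symm_apply_apply]
    have hinr : ∀ z ∈ I, (e.symm z).1 = 0 := fun z hz => by
      have hzz : e (0, e₂.symm ⟨z, hz⟩) = z := by simp [hev]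
      conv_lhs => rw [← hzz, LinearEquiv.symm_apply_apply]
    let f₁ : End F V₁ := LinearMap.fst F V₁ V₂ ∘ₗ f' ∘ₗ LinearMap.inl F V₁ V₂
    let f₂ : End F V₂ := LinearMap.snd F V₁ V₂ ∘ₗ f' ∘ₗ LinearMap.inr F V₁ V₂
    have hsplit : f' = LinearMap.prodMap f₁ f₂ := by
      refine LinearMap.prod_ext (LinearMap.ext fun x => ?_) (LinearMap.ext fun y => ?_)
      · show f' (x, 0) = (f₁ x, f₂ 0)
        rw [map_zero]
        refine Prod.ext rfl ?_
        rw [hfe]
        exact hinl _ (hfK _ (by rw [hev, map_zero]; simp))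
      · show f' (0, y) = (f₁ 0, f₂ y)
        rw [map_zero]
        refine Prod.ext ?_ rfl
        rw [hfe]
        exact hinr _ (hfI _ (by rw [hev, map_zero]; simp))
    have hc' : Cond a b c B₁ f₁ ∧ Cond a b c B₂ f₂ := by
      rw [← hcondprod, ← hsplit, hf', Cond.conj_iff (B₁ := B)]
      · exact hc
      · intro x y
        rw [← he (e.symm x) (e.symm y), e.apply_symm_apply, e.apply_symm_apply]
    have ht : LinearMap.prodMap (aeval f₁ π) (aeval f₂ π) = e.symm.conj (aeval f π) := by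
      rw [← prodMap_aeval, ← hsplit, hf', conj_aeval]
    have hn₁ : IsNilpotent (aeval f₁ π) := by
      refine ⟨N, LinearMap.ext fun x => ?_⟩
      have h1 := congrArg (fun t : End F (V₁ × V₂) => ((t ^ N) (x, 0)).1) ht
      simp only [prodMap_pow', conj_pow', LinearMap.prodMap_apply, LinearEquiv.conj_apply_apply] at h1
      rw [h1, show e.symm.symm (x, 0) = e (x, 0) from rfl, hev, map_zero, Submodule.coe_zero,
        add_zero, LinearMap.mem_ker.1 (e₁ x).2, map_zero]
      rfl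
    have hi₂ : Function.Injective (aeval f₂ π) := by
      refine (injective_iff_map_eq_zero _).2 fun y hy => ?_
      have h1 := LinearMap.congr_fun ht (0, y)
      simp only [LinearMap.prodMap_apply, hy, map_zero, LinearEquiv.conj_apply_apply] at h1
      have h2 : aeval f π (e (0, y)) = 0 := by
        have := congrArg e h1
        rw [show e.symm.symm (0, y) = e (0, y) from rfl, e.apply_symm_apply,
          show ((0 : V₁), (0 : V₂)) = 0 from rfl, map_zero] at this
        exact this.symm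
      have hy0 : (e₂ y : V₁ × V₂) = 0 := by
        rw [← Submodule.mem_bot F, ← hC.inf_eq_bot]
        refine ⟨?_, (e₂ y).2⟩
        rw [hev, map_zero, Submodule.coe_zero, zero_add] at h2
        rw [SetLike.mem_coe, LinearMap.mem_ker]
        rcases Nat.eq_zero_or_pos N with h0 | h0
        · have : Subsingleton (V₁ × V₂) := finrank_zero_iff.1 (hN.symm.trans h0)
          rw [Subsingleton.elim (e₂ y : V₁ × V₂) 0, map_zero]
        · obtain ⟨M, hM⟩ : ∃ M, N = M + 1 := ⟨N - 1, by omega⟩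
          rw [hM, pow_succ, End.mul_apply, h2, map_zero]
      exact e₂.map_eq_zero_iff.1 (Subtype.ext hy0)
    refine ⟨⟨e, he⟩, f', ⟨(⟨f₁, hc'.1, hn₁⟩, ⟨f₂, hc'.2, hi₂⟩), hsplit.symm⟩, ?_⟩
    show e.conj (e.symm.conj f) = f
    ext x <;> simp [LinearEquiv.conj_apply]
  · rintro g hg _ ⟨⟨⟨f₁, hc₁, hn₁⟩, ⟨f₂, hc₂, hi₂⟩⟩, rfl⟩
    obtain ⟨⟨g₁, g₂⟩, rfl⟩ : ∃ p : isoGrp B₁ × isoGrp B₂, (⟨p.1.1.prodCongr p.2.1, fun x y => by
        show B₁ (p.1.1 x.1) (p.1.1 y.1) + B₂ (p.2.1 x.2) (p.2.1 y.2) = B₁ x.1 y.1 + B₂ x.2 y.2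
        rw [p.1.2, p.2.2]⟩ : isoGrp B) = g := by
      obtain ⟨hl, hr⟩ := hg
      let h₁' : End F V₁ := LinearMap.fst F V₁ V₂ ∘ₗ (g.1 : End F (V₁ × V₂)) ∘ₗ LinearMap.inl F V₁ V₂
      let h₂' : End F V₂ := LinearMap.snd F V₁ V₂ ∘ₗ (g.1 : End F (V₁ × V₂)) ∘ₗ LinearMap.inr F V₁ V₂
      have e₁ : ∀ x, g.1 (x, 0) = (h₁' x, 0) := fun x => Prod.ext rfl (hl x)
      have e₂ : ∀ y, g.1 (0, y) = (0, h₂' y) := fun y => Prod.ext (hr y) rfl
      have i₁ : Function.Injective h₁' := fun x x' e => congrArg Prod.fst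
        (g.1.injective ((e₁ x).trans ((congrArg (fun w => (w, (0 : V₂))) e).trans (e₁ x').symm)))
      have i₂ : Function.Injective h₂' := fun x x' e => congrArg Prod.snd
        (g.1.injective ((e₂ x).trans ((congrArg (fun w => ((0 : V₁), w)) e).trans (e₂ x').symm)))
      refine ⟨(⟨LinearEquiv.ofInjectiveEndo h₁' i₁, fun x y => ?_⟩,
        ⟨LinearEquiv.ofInjectiveEndo h₂' i₂, fun x y => ?_⟩), Subtype.ext (LinearEquiv.ext fun z => ?_)⟩
      · simpa [hB, e₁] using g.2 (x, 0) (y, 0)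
      · simpa [hB, e₂] using g.2 (0, x) (0, y)
      · show (h₁' z.1, h₂' z.2) = g.1 z
        conv_rhs => rw [show z = (z.1, 0) + (0, z.2) by simp, map_add, e₁, e₂]
        simp
    refine ⟨(⟨g₁.1.conj f₁, (Cond.conj_iff g₁.2 f₁).2 hc₁, ?_⟩,
      ⟨g₂.1.conj f₂, (Cond.conj_iff g₂.2 f₂).2 hc₂, ?_⟩), ?_⟩
    · rw [conj_aeval]; exact hn₁.map (g₁.1.conjAlgEquiv F)
    · rw [conj_aeval, LinearEquiv.conj_apply]
      simp only [LinearMap.coe_comp, LinearEquiv.coe_coe]
      exact (g₂.1.injective.comp hi₂).comp g₂.1.symm.injective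
    · ext x <;> simp [LinearEquiv.conj_apply]
  · rintro g _ ⟨⟨⟨f₁, hc₁, hn₁⟩, ⟨f₂, hc₂, hi₂⟩⟩, rfl⟩ ⟨⟨⟨f₁', hc₁', hn₁'⟩, ⟨f₂', hc₂', hi₂'⟩⟩, he⟩
    refine intertwine_split (hnilpow hn₁) (hnilpow hn₁') hi₂ hi₂' (g.1 : End F (V₁ × V₂)) ?_
    have he' : g.1.conj (LinearMap.prodMap f₁ f₂) = LinearMap.prodMap f₁' f₂' := he.symm
    rw [← prodMap_aeval, ← prodMap_aeval, ← he', conj_aeval]
    ext z <;> simp [LinearEquiv.conj_apply, End.mul_apply]

end CfsgLib.SympCount
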