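import Cfsg.Agent.Lib.Classical.AschTransport
import Cfsg.Agent.Lib.Classical.AschSymp
import Cfsg.Agent.Lib.Classical.SympTrans
import Cfsg.Agent.Lib.Classical.SympFitting

set_option autoImplicit false
set_option linter.unusedSectionVars false

/-!
Subgroups of the standard symplectic group: the classes.
-/

namespace CfsgLib.Asch

open Matrix
open Cfsg.Geo (subspaceStabilizer decompositionStabilizer subalgebraNormalizer glReindex)
open CfsgLib.PrimeDim.Std (lin lin_apply mem_map)
open scoped MatrixGroups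

variable {F : Type*} [Field F] {m : ℕ}

/-- The dimension of a space with a symplectic form is even. -/
theorem even_of_symplectic {k : ℕ} {f : (Fin k → F) → (Fin k → F) → F} (hf : Cfsg.Geo.IsSymplecticForm f) :
    Even k := by
  let B : LinearMap.BilinForm F (Fin k → F) :=
    LinearMap.mk₂ F f hf.bilinear.add_left (fun c x v => by rw [hf.bilinear.smul_left]; rfl)
      hf.bilinear.add_right (fun c v x => by rw [hf.bilinear.smul_right]; rfl)
  have hB : SympCount.Symp B := ⟨fun v => hf.alternating v, fun v hv => by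
    by_contra h0
    obtain ⟨x, hx⟩ := (hf.nondegenerate v h0).2
    exact hx (hv x)⟩
  obtain ⟨j, hj⟩ := SympCount.even_finrank hB
  rw [Module.finrank_fin_fun] at hj
  exact ⟨j, by omega⟩

/-- A field of self-adjoint elements has degree dividing half the dimension. -/
theorem saField_two_dvd {n : ℕ} {J : Matrix (Fin n) (Fin n) F} {ε : F} (h : FormData (RingEquiv.refl F) J ε)
    {r : ℕ} {K : Subalgebra F (Matrix (Fin n) (Fin n) F)} (hK : Cfsg.Geo.IsFieldSubalgebra r K)
    (hsa : ∀ k ∈ K, adj (RingEquiv.refl F) J k = k)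
    (halt : ∀ k ∈ K, ∀ v, sform (RingEquiv.refl F) J (k *ᵥ v) v = 0) : 2 * r ∣ n := by
  classical
  suffices H : ∀ d, ∀ W : Submodule F (Fin n → F), Module.finrank F W = d → (∀ k ∈ K, ∀ w ∈ W, k *ᵥ w ∈ W) →
      W ⊓ perp (RingEquiv.refl F) J W = ⊥ → 2 * r ∣ d by
    refine H n ⊤ (by rw [finrank_top, Module.finrank_fin_fun]) (fun _ _ _ _ => Submodule.mem_top) ?_
    rw [top_inf_eq, Submodule.eq_bot_iff]
    exact fun v hv => h.eq_zero fun u => h.eq_zero_comm (hv u Submodule.mem_top)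
  intro d
  induction d using Nat.strong_induction_on with
  | _ d ih =>
  intro W hd hWK hW
  by_cases h0 : W = ⊥
  · subst h0
    rw [finrank_bot] at hd
    exact hd ▸ dvd_zero _
  obtain ⟨v, hv, hv0⟩ := Submodule.exists_mem_ne_zero_of_ne_bot h0
  obtain ⟨-, w, hw, hvw⟩ := (isNondegenerateOn_iff h).2 hW v hv hv0
  -- the orbit map
  let φ : (K × K) →ₗ[F] (Fin n → F) :=
    { toFun := fun p => (p.1 : Matrix (Fin n) (Fin n) F) *ᵥ v + (p.2 : Matrix (Fin n) (Fin n) F) *ᵥ w
      map_add' := fun p q => by simp [add_mulVec]; abel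
      map_smul' := fun c p => by simp [smul_mulVec, smul_add] }
  have hkl : ∀ k ∈ K, ∀ l ∈ K, ∀ x, sform (RingEquiv.refl F) J (k *ᵥ x) (l *ᵥ x) = 0 := fun k hk l hl x => by
    have := (sform_adj h l (k *ᵥ x) x)
    rw [hsa l hl] at this
    rw [← this, mulVec_mulVec]
    exact halt _ (mul_mem hl hk) x
  have hpair : ∀ k ∈ K, k ≠ 0 → ∀ x y, sform (RingEquiv.refl F) J x y ≠ 0 →
      ∃ l ∈ K, sform (RingEquiv.refl F) J (k *ᵥ x) (l *ᵥ y) ≠ 0 := fun k hk hk0 x y hxy => by
    obtain ⟨l, hl, hkl'⟩ := hK.inv k hk hk0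
    refine ⟨l, hl, ?_⟩
    have := sform_adj h l (k *ᵥ x) y
    rw [hsa l hl] at this
    rwa [← this, mulVec_mulVec, hK.comm l hl k hk, hkl', one_mulVec]
  have hker : ∀ p : K × K, φ p ∈ perp (RingEquiv.refl F) J (LinearMap.range φ) → p = 0 := by
    rintro ⟨⟨k, hk⟩, k', hk'⟩ hp
    have hp' : ∀ l ∈ K, ∀ l' ∈ K, sform (RingEquiv.refl F) J (k *ᵥ v + k' *ᵥ w) (l *ᵥ v + l' *ᵥ w) = 0 :=
      fun l hl l' hl' => hp _ ⟨(⟨l, hl⟩, ⟨l', hl'⟩), rfl⟩
    have h1 : k = 0 := by
      by_contra hk0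
      obtain ⟨l, hl, hne⟩ := hpair k hk hk0 v w hvw
      apply hne
      have := hp' 0 (zero_mem K) l hl
      rw [zero_mulVec, zero_add, sform_add_left, hkl k' hk' l hl w, add_zero] at this
      exact this
    have h2 : k' = 0 := by
      by_contra hk0
      obtain ⟨l, hl, hne⟩ := hpair k' hk' hk0 w v fun e => hvw (h.eq_zero_comm e)
      apply hne
      have := hp' l hl 0 (zero_mem K)
      rwa [h1, zero_mulVec, zero_add, zero_mulVec, add_zero] at this
    exact Prod.ext (Subtype.ext h1) (Subtype.ext h2)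
  set U := LinearMap.range φ with hU
  have hUW : U ≤ W := by
    rintro _ ⟨p, rfl⟩
    exact add_mem (hWK _ p.1.2 _ hv) (hWK _ p.2.2 _ hw)
  have hUnd : U ⊓ perp (RingEquiv.refl F) J U = ⊥ := by
    rw [Submodule.eq_bot_iff]
    rintro _ ⟨⟨p, rfl⟩, hp⟩
    rw [hker p hp, map_zero]
  have hUdim : Module.finrank F U = 2 * r := by
    rw [hU, LinearMap.finrank_range_of_inj]
    · rw [Module.finrank_prod, hK.finrank_eq, two_mul]
    · rw [← LinearMap.ker_eq_bot, LinearMap.ker_eq_bot']
      intro p hp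
      exact hker p (hp ▸ Submodule.zero_mem _)
  set W' := W ⊓ perp (RingEquiv.refl F) J U with hW'def
  have hsup : U ⊔ perp (RingEquiv.refl F) J U = ⊤ := by
    refine Submodule.eq_top_of_finrank_eq ?_
    have h1 := Submodule.finrank_sup_add_finrank_inf_eq U (perp (RingEquiv.refl F) J U)
    rw [hUnd, finrank_bot, add_zero] at h1
    have h2 := finrank_perp h U
    have h3 := Module.finrank_fin_fun F (n := n)
    simp only [Fintype.card_fin] at h2
    omega
  have hWsup : W = U ⊔ W' := by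
    rw [hW'def, inf_comm W, ← sup_inf_assoc_of_le _ hUW, hsup, top_inf_eq]
  have hdim : d = 2 * r + Module.finrank F W' := by
    have e := Submodule.finrank_sup_add_finrank_inf_eq U W'
    have : U ⊓ W' = ⊥ := le_bot_iff.1 (hUnd ▸ inf_le_inf_left U inf_le_right)
    rw [← hWsup, this, finrank_bot, add_zero, hUdim, hd] at e
    exact e
  have hW'K : ∀ k ∈ K, ∀ x ∈ W', k *ᵥ x ∈ W' := by
    rintro k hk x ⟨hx, hx'⟩
    refine ⟨hWK k hk x hx, ?_⟩
    rintro _ ⟨⟨⟨a, ha⟩, b, hb⟩, rfl⟩
    rw [sform_adj h, hsa k hk]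
    refine hx' _ ⟨(⟨k * a, mul_mem hk ha⟩, ⟨k * b, mul_mem hk hb⟩), ?_⟩
    show (k * a) *ᵥ v + (k * b) *ᵥ w = k *ᵥ (a *ᵥ v + b *ᵥ w)
    rw [mulVec_add, mulVec_mulVec, mulVec_mulVec]
  have hW'nd : W' ⊓ perp (RingEquiv.refl F) J W' = ⊥ := by
    rw [Submodule.eq_bot_iff]
    rintro x ⟨⟨hx, hx'⟩, hx''⟩
    refine (Submodule.eq_bot_iff _).1 hW x ⟨hx, fun y hy => ?_⟩
    rw [hWsup] at hy
    obtain ⟨a, ha, b, hb, rfl⟩ := Submodule.mem_sup.1 hy
    rw [sform_add_right, hx' a ha, hx'' b hb, add_zero]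
  rcases Nat.eq_zero_or_pos r with hr | hr
  · have := hdim
    have h1 : Module.finrank F U = 0 := by rw [hUdim, hr]
    have hv' : v ∈ U := ⟨(⟨1, one_mem K⟩, 0), by simp [φ]⟩
    exact absurd ((Submodule.eq_bot_iff _).1 (Submodule.finrank_eq_zero.1 h1) v hv') hv0
  exact hdim ▸ Nat.dvd_add (dvd_refl _) (ih _ (by omega) W' rfl hW'K hW'nd)

/-- The classes for the standard symplectic group. -/
inductive SympStdCases [Fintype F] (H : Subgroup (GL (Fin m ⊕ Fin m) F)) : Prop
  | ts (W : Submodule F (Fin m ⊕ Fin m → F)) : W ≠ ⊥ → Cfsg.Geo.IsTotallySingularFor (Cfsg.sympForm m F) W →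
      H ≤ subspaceStabilizer W → SympStdCases H
  | nd (W : Submodule F (Fin m ⊕ Fin m → F)) : W ≠ ⊥ → Cfsg.Geo.IsNondegenerateOn (Cfsg.sympForm m F) W →
      Module.finrank F W < m → H ≤ subspaceStabilizer W → SympStdCases H
  | ndDecomp (t k : ℕ) (D : Fin t → Submodule F (Fin m ⊕ Fin m → F)) : t * k = m + m →
      Cfsg.Geo.IsNondegenerateMDecomposition (Cfsg.sympForm m F) k D → H ≤ decompositionStabilizer D → SympStdCases H
  | tsPair (D : Fin 2 → Submodule F (Fin m ⊕ Fin m → F)) : Odd (Fintype.card F) → Cfsg.Geo.IsMDecomposition m D →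
      (∀ i, Cfsg.Geo.IsTotallySingularFor (Cfsg.sympForm m F) (D i)) → H ≤ decompositionStabilizer D → SympStdCases H
  | saField (r : ℕ) (K : Subalgebra F (Matrix (Fin m ⊕ Fin m) (Fin m ⊕ Fin m) F)) : r.Prime → r ∣ m →
      Cfsg.Geo.IsFieldSubalgebra r K → Cfsg.Geo.IsSelfAdjointFor (Cfsg.sympForm m F) K →
      (∀ k ∈ K, ∀ v, Cfsg.sympForm m F (k *ᵥ v) v = 0) → H ≤ subalgebraNormalizer K → SympStdCases H
  | conjField (K : Subalgebra F (Matrix (Fin m ⊕ Fin m) (Fin m ⊕ Fin m) F)) : Odd (Fintype.card F) →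
      Cfsg.Geo.IsFieldSubalgebra 2 K → Cfsg.Geo.IsAdjointClosedFor (Cfsg.sympForm m F) K →
      ¬ Cfsg.Geo.IsSelfAdjointFor (Cfsg.sympForm m F) K → H ≤ subalgebraNormalizer K → SympStdCases H
  | tensor (n₁ n₂ : ℕ) (e : (Fin m ⊕ Fin m) ≃ Fin n₁ × Fin n₂) (P : GL (Fin m ⊕ Fin m) F)
      (f₁ : (Fin n₁ → F) → (Fin n₁ → F) → F) (f₂ : (Fin n₂ → F) → (Fin n₂ → F) → F) :
      Odd (Fintype.card F) → 2 ≤ n₁ → Even n₁ → 3 ≤ n₂ → n₁ * n₂ = m + m → Cfsg.Geo.IsSymplecticForm f₁ →
      Cfsg.Geo.IsSymmetricForm f₂ → Cfsg.Geo.IsTensorFormStructure id (Cfsg.sympForm m F) f₁ f₂ e P →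
      H ≤ Cfsg.Geo.tensorProductSubgroup n₁ n₂ e P → SympStdCases H
  | rational (F₀ : Subfield F) (r : ℕ) (P : GL (Fin m ⊕ Fin m) F) (ζ : F) : r.Prime →
      Fintype.card F = Nat.card F₀ ^ r → ζ ≠ 0 → Cfsg.Geo.IsFormRationalStructure (Cfsg.sympForm m F) F₀ ζ P →
      H ≤ Cfsg.Geo.subfieldSubgroup F₀ P → SympStdCases H
  | heis (R : Subgroup (GL (Fin m ⊕ Fin m) F)) (p k : ℕ) : Cfsg.Geo.IsSymplecticTypeGroup 2 R →
      Cfsg.Geo.ActsAbsolutelyIrreducibly (Cfsg.Geo.matrixSet R) →
      R ≤ Cfsg.Geo.similarityGroup (Cfsg.sympForm m F) → p.Prime → Odd p → Fintype.card F = p → m + m = 2 ^ k →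
      Nat.card R = 2 ^ (1 + 2 * k) → Nat.card (Subgroup.center R) = 2 → Cfsg.Geo.IsOfMinusType k R →
      H ≤ Cfsg.Geo.subgroupNormalizer R → SympStdCases H
  | power (k t : ℕ) (e : (Fin m ⊕ Fin m) ≃ (Fin t → Fin k)) (P : GL (Fin m ⊕ Fin m) F)
      (f₁ : (Fin k → F) → (Fin k → F) → F) :
      Odd (Fintype.card F) → Odd t → 3 ≤ t → ¬ (Fintype.card F = 3 ∧ k = 2) → k ^ t = m + m → Even k →
      Cfsg.Geo.IsSymplecticForm f₁ → Cfsg.Geo.IsTensorPowerFormStructure id (Cfsg.sympForm m F) f₁ e P →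
      H ≤ Cfsg.Geo.tensorWreathSubgroup k t e P → SympStdCases H
  | quad (Q : (Fin m ⊕ Fin m → F) → F) : ¬ Odd (Fintype.card F) → Cfsg.Geo.IsNondegenerateQuadraticForm Q →
      (∀ u v, QuadraticMap.polar Q u v = Cfsg.sympForm m F u v) → H ≤ Cfsg.Geo.quadSimilarityGroup Q → SympStdCases H
  | residual : Cfsg.Geo.InSymplecticResidualClass H → SympStdCases H

/-- Aschbacher's theorem for the standard symplectic group. -/
theorem symp_std_cases [Fintype F] (hm : 2 ≤ m) {H : Subgroup (GL (Fin m ⊕ Fin m) F)} (hH : H ≤ Cfsg.spGL m F) :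
    SympStdCases H := by
  classical
  let e : Fin m ⊕ Fin m ≃ Fin (m + m) := finSumFinEquiv
  set J : Matrix (Fin (m + m)) (Fin (m + m)) F :=
    Matrix.reindexAlgEquiv F F e (Matrix.J (Fin m) F) with hJdef
  have hf : ∀ u v, sform (RingEquiv.refl F) J u v = Cfsg.sympForm m F (lin e u) (lin e v) := by
    intro u v
    simp only [Cfsg.sympForm, ← Transport.lin_mulVec_mat e, sform, dotProduct, lin_apply]
    exact (Equiv.sum_comp e fun i => u i * (J *ᵥ v) i).symm
  have hunit : IsUnit J := by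
    refine (IsUnit.of_mul_eq_one (-(Matrix.J (Fin m) F)) ?_).map _
    rw [mul_neg, Matrix.J_squared, neg_neg]
  have hherm : (bm (RingEquiv.refl F) J)ᵀ = (-1 : F) • J := by
    rw [bm_refl, hJdef, neg_one_smul, ← map_neg, ← Matrix.J_transpose]
    rfl
  have hdata : SympData J := by
    refine ⟨⟨hunit, fun a => rfl, hherm⟩, fun v => ?_⟩
    rw [hf]
    exact Classical.SympTrans.f_self _
  have hH' : ∀ g ∈ H.map (glReindex e).toMonoidHom, Iso (RingEquiv.refl F) J g.val := by
    rintro _ ⟨g, hg, rfl⟩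
    rw [iso_iff]
    intro u v
    rw [hf, hf, show (glReindex e).toMonoidHom g = glReindex e g from rfl, PrimeDim.Std.lin_mulVec,
      PrimeDim.Std.lin_mulVec]
    exact hH hg _ _
  have hd : FormData (RingEquiv.refl F) J (-1) := hdata.data
  rcases symp_structure hdata (by omega) hH' with ⟨W, h0, hW, hle⟩ | ⟨W, h0, hW, hdim, hle⟩ |
    ⟨t, k, D, htk, hD, hle⟩ | ⟨hodd, k, D, hk, hD, hts, hle⟩ | ⟨r, K, hr, hK, hsa, hle⟩ |
    ⟨hodd, K, hK, hcl, hnsa, hfix, hle⟩ | ⟨n₁, n₂, d, P, J₁, J₂, hodd, hn₁, hn₂, hn, hJ₁, hJ₂, hco, hle⟩ |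
    ⟨F₀, r, P, ζ, hr, hcard, hζ, hrat, hle⟩ | ⟨R, p, k, hR, habs, hsim, hp, hpo, hq, hn, hc, hz, hminus, hle⟩ |
    ⟨k, t, d, P, J₀, c, hodd, ht, ht3, hex, hn, hJ₀, hc, hco, hle⟩ | ⟨heven, Q, hQ, hpol, hle⟩ | h
  · exact .ts _ (fun h => h0 (Submodule.map_eq_bot_iff.1 h)) (Transport.ts_map e hf hW)
      (Transport.mem_of_map_le e (PrimeDim.Std.stab_iff e) hle)
  · exact .nd _ (fun h => h0 (Submodule.map_eq_bot_iff.1 h)) (Transport.ndOn_map e hf hW)
      (by rw [LinearEquiv.finrank_map_eq]; omega) (Transport.mem_of_map_le e (PrimeDim.Std.stab_iff e) hle)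
  · exact .ndDecomp t k _ htk (Transport.ndDecomp_map e hf hD)
      (Transport.mem_of_map_le e (PrimeDim.Std.decomp_iff e) hle)
  · obtain rfl : k = m := by omega
    exact .tsPair _ hodd (Transport.mdecomp_map e hD) (fun i => Transport.ts_map e hf (hts i))
      (Transport.mem_of_map_le e (PrimeDim.Std.decomp_iff e) hle)
  · have halt : ∀ k ∈ K, ∀ v, sform (RingEquiv.refl F) J (k *ᵥ v) v = 0 := by
      intro k hk v
      by_cases hodd : Odd (Fintype.card F)
      · have e1 := hd.swap (k *ᵥ v) v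
        rw [RingEquiv.refl_apply] at e1
        have e2 := sform_adj hd k v v
        rw [hsa k hk] at e2
        rw [← e2] at e1
        exact (mul_eq_zero.1 (show (2 : F) * sform (RingEquiv.refl F) J (k *ᵥ v) v = 0 by
          linear_combination e1)).resolve_left (PrimeDim.two_ne_zero_of_odd hodd)
      · haveI : Finite K := inferInstance
        have h20 := two_eq_zero_of_not_odd hodd
        have hinj : Function.Injective fun l : K => l * l := by
          rintro ⟨a, ha⟩ ⟨b, hb⟩ hab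
          have hab' : a * a = b * b := congrArg Subtype.val hab
          have h1 : (a - b) * (a - b) = 0 := by
            have h2 : (2 : F) • (b * b - a * b) = 0 := by rw [h20, zero_smul]
            rw [two_smul] at h2
            rw [sub_mul, mul_sub, mul_sub, hab', hK.comm b hb a ha, ← h2]
            abel
          refine Subtype.ext (sub_eq_zero.1 ?_)
          by_contra hne
          obtain ⟨y, -, hy⟩ := hK.inv _ (sub_mem ha hb) hne
          have := congrArg (· * y) h1
          simp only [zero_mul, mul_assoc, hy, mul_one] at this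
          exact hne this
        obtain ⟨⟨l, hl⟩, hll⟩ := Finite.surjective_of_injective hinj ⟨k, hk⟩
        rw [← show l * l = k from congrArg Subtype.val hll, ← mulVec_mulVec, sform_adj hd, hsa l hl]
        exact hdata.alt _
    have hdvd : r ∣ m := by
      have := saField_two_dvd hd hK hsa halt
      rw [← two_mul] at this
      exact (Nat.mul_dvd_mul_iff_left two_pos).1 this
    refine .saField r _ hr hdvd (Transport.field_map e hK) (fun k hk u v => ?_) (fun k hk v => ?_)
      (Transport.mem_of_map_le e (Transport.norm_iff e K) hle)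
    · have hk' : Matrix.reindexAlgEquiv F F e k ∈ K := hk
      have := sform_adj hd (Matrix.reindexAlgEquiv F F e k) ((lin e).symm u) ((lin e).symm v)
      rwa [hsa _ hk', hf, hf, Transport.lin_mulVec_mat, Transport.lin_mulVec_mat, LinearEquiv.apply_symm_apply,
        LinearEquiv.apply_symm_apply] at this
    · have hk' : Matrix.reindexAlgEquiv F F e k ∈ K := hk
      have := halt _ hk' ((lin e).symm v)
      rwa [hf, Transport.lin_mulVec_mat, LinearEquiv.apply_symm_apply] at this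
  · refine .conjField _ hodd (Transport.field_map e hK) (fun k hk => ?_) (fun hsa' => ?_)
      (Transport.mem_of_map_le e (Transport.norm_iff e K) hle)
    · refine ⟨(Matrix.reindexAlgEquiv F F e).symm (adj (RingEquiv.refl F) J (Matrix.reindexAlgEquiv F F e k)), ?_,
        fun u v => ?_⟩
      · rw [Transport.mem_algMap, AlgEquiv.apply_symm_apply]
        exact hcl _ hk
      · have := sform_adj hd (Matrix.reindexAlgEquiv F F e k) ((lin e).symm u) ((lin e).symm v)
        rw [← AlgEquiv.apply_symm_apply (Matrix.reindexAlgEquiv F F e)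
          (adj (RingEquiv.refl F) J (Matrix.reindexAlgEquiv F F e k))] at this
        rwa [hf, hf, Transport.lin_mulVec_mat, Transport.lin_mulVec_mat, LinearEquiv.apply_symm_apply,
          LinearEquiv.apply_symm_apply] at this
    · refine hnsa fun k hk => (adj_unique hd fun u v => ?_).symm
      rw [hf, hf, ← AlgEquiv.apply_symm_apply (Matrix.reindexAlgEquiv F F e) k, Transport.lin_mulVec_mat,
        Transport.lin_mulVec_mat]
      exact hsa' _ (by rw [Transport.mem_algMap, AlgEquiv.apply_symm_apply]; exact hk) _ _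
  · obtain ⟨P, rfl⟩ := (glReindex e (F := F)).surjective P
    refine .tensor n₁ n₂ (e.trans d) P _ _ hodd hn₁ (even_of_symplectic hJ₁.symplectic) hn₂ hn hJ₁.symplectic
      (symmetric_form hJ₂) (Transport.tensorForm_map e hf ⟨1, one_ne_zero, fun x y => ?_⟩)
      (Transport.mem_of_map_le e (Transport.tensor_iff e d P) hle)
    rw [sform_gram, sform_gram, one_mul, sform_fcoord, hco]
    exact (formOfGram_eq (RingEquiv.refl F) _ x y).symm
  · obtain ⟨P, rfl⟩ := (glReindex e (F := F)).surjective P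
    exact .rational F₀ r P ζ hr hcard hζ (Transport.rational_map e hf hrat)
      (Transport.mem_of_map_le e (Transport.subfield_iff e F₀ P) hle)
  · exact .heis _ p k (Transport.sympType_map e hR) (Transport.absIrred_map e habs) (Transport.sim_map e hf hsim) hp
      hpo hq hn ((Transport.card_grpMap e R).trans hc) ((Transport.card_center_grpMap e R).trans hz)
      (Transport.minus_map e hminus) (Transport.mem_of_map_le e (Transport.normalizer_iff e R) hle)
  · obtain ⟨P, rfl⟩ := (glReindex e (F := F)).surjective P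
    refine .power k t (e.trans d) P _ hodd ht ht3 hex hn (even_of_symplectic hJ₀.symplectic) hJ₀.symplectic
      (Transport.powerForm_map e hf ⟨c, hc, fun x y => ?_⟩)
      (Transport.mem_of_map_le e (Transport.wreath_iff e d P) hle)
    rw [sform_fcoord, hco, sform_smul_matrix, sform_gram, ← formOfGram_eq]
    rfl
  · refine .quad _ heven (Transport.quad_map e hQ) (fun u v => ?_)
      (Transport.mem_of_map_le e (Transport.quad_iff e Q) hle)
    have := hpol ((lin e).symm u) ((lin e).symm v)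
    rw [hf, LinearEquiv.apply_symm_apply, LinearEquiv.apply_symm_apply] at this
    rw [← this]
    simp [QuadraticMap.polar]
  · exact .residual (Transport.symplecticResidual_of_map e h)

end CfsgLib.Asch
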