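import Cfsg.Agent.Lib.Classical.AschOrthSplit
import Cfsg.Agent.Lib.Classical.AschSympStd

set_option autoImplicit false
set_option linter.unusedSectionVars false

/-!
Orthogonal groups: subgroups normalising a field.
-/

namespace CfsgLib.Asch

open Matrix
open Cfsg.Geo (matrixSet scalars ActsIrreducibly omegaGL IsFieldSubalgebra subalgebraNormalizer)
open CfsgLib.Orth (Nondeg)
open CfsgLib.PrimeDim (Inv Nml Sesq)
open scoped MatrixGroups

variable {F : Type*} [Field F] [Fintype F] {n : ℕ} {Q : QuadraticForm F (Fin n → F)}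

local notation "τ₁" => RingEquiv.refl F

/-- The irreducible group `H` normalises a field of self-adjoint elements. -/
def OSAFieldCase (Q : QuadraticForm F (Fin n → F)) (H : Subgroup (GL (Fin n) F)) : Prop :=
  ActsIrreducibly (matrixSet H) ∧ ∃ (r : ℕ) (K : Subalgebra F (Matrix (Fin n) (Fin n) F)), r.Prime ∧ r ∣ n ∧
    (Odd n → r ≠ n) ∧ (¬ Odd (Fintype.card F) → 2 * r ∣ n) ∧ IsFieldSubalgebra r K ∧
    (∀ k ∈ K, adj τ₁ (ogram Q) k = k) ∧ H ≤ subalgebraNormalizer K

/-- The irreducible group `H` normalises a quadratic field of similitudes. -/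
def OConjFieldCase (Q : QuadraticForm F (Fin n → F)) (H : Subgroup (GL (Fin n) F)) : Prop :=
  ActsIrreducibly (matrixSet H) ∧ ∃ K : Subalgebra F (Matrix (Fin n) (Fin n) F), IsFieldSubalgebra 2 K ∧
    (∀ k ∈ K, adj τ₁ (ogram Q) k ∈ K) ∧ ¬ (∀ k ∈ K, adj τ₁ (ogram Q) k = k) ∧
    (∀ k ∈ K, adj τ₁ (ogram Q) k = k → ∃ c : F, k = c • 1) ∧
    (∀ k ∈ K, ∃ c : F, ∀ v, Q (k *ᵥ v) = c * Q v) ∧ H ≤ subalgebraNormalizer K

theorem selfAdjoint_polar (hB : Nondeg Q) {K : Subalgebra F (Matrix (Fin n) (Fin n) F)}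
    (h : ∀ k ∈ K, adj τ₁ (ogram Q) k = k) : Cfsg.Geo.IsSelfAdjointFor (QuadraticMap.polar ⇑Q) K :=
  fun k hk u v => by rw [polar_sform hB, polar_sform hB, sform_adj (orth_data hB), h k hk]

theorem adjointClosed_polar (hB : Nondeg Q) {K : Subalgebra F (Matrix (Fin n) (Fin n) F)}
    (h : ∀ k ∈ K, adj τ₁ (ogram Q) k ∈ K) : Cfsg.Geo.IsAdjointClosedFor (QuadraticMap.polar ⇑Q) K :=
  fun k hk => ⟨_, h k hk, fun u v => by rw [polar_sform hB, polar_sform hB, sform_adj (orth_data hB)]⟩

theorem not_selfAdjoint_polar (hB : Nondeg Q) {K : Subalgebra F (Matrix (Fin n) (Fin n) F)}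
    (h : ¬ ∀ k ∈ K, adj τ₁ (ogram Q) k = k) : ¬ Cfsg.Geo.IsSelfAdjointFor (QuadraticMap.polar ⇑Q) K :=
  fun hc => h fun k hk => (adj_unique (orth_data hB) fun u v => by
    rw [← polar_sform hB, ← polar_sform hB, hc k hk]).symm

/-- A group of isometries of odd prime dimension does not normalise a field of full degree and act irreducibly. -/
theorem full_field_false (hB : Nondeg Q) (hn : n.Prime) (hodd : Odd n) {H : Subgroup (GL (Fin n) F)}
    (hH : H ≤ omegaGL ⇑Q) (hirr : ActsIrreducibly (matrixSet H)) {K : Subalgebra F (Matrix (Fin n) (Fin n) F)}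
    (hK : IsFieldSubalgebra n K) (hsa : ∀ k ∈ K, adj τ₁ (ogram Q) k = k) (hle : H ≤ subalgebraNormalizer K) :
    False := by
  classical
  have hd := orth_data hB
  haveI : Nonempty (Fin n) := ⟨⟨0, hn.pos⟩⟩
  have hnt : Nontrivial K := by
    have : 0 < Module.finrank F K := by rw [hK.finrank_eq]; exact hn.pos
    exact Module.finrank_pos_iff.1 this
  have hF : IsField K := ⟨hnt.exists_pair_ne, fun a b => Subtype.ext (hK.comm a a.2 b b.2), fun {a} ha => by
    obtain ⟨b, hb, hab⟩ := hK.inv a a.2 fun e => ha (Subtype.ext e)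
    exact ⟨⟨b, hb⟩, Subtype.ext hab⟩⟩
  letI : Field K := hF.toField
  haveI : Finite K := Finite.of_injective _ Subtype.val_injective
  let c : H → K →ₐ[F] K := fun g =>
    AlgHom.ofLinearMap
      { toFun := fun k => ⟨g.1.val * k.1 * (g.1⁻¹).val, (hle g.2 k.1).1 k.2⟩
        map_add' := fun a b => Subtype.ext (by simp [mul_add, add_mul])
        map_smul' := fun r a => Subtype.ext (by simp) }
      (Subtype.ext (by simp)) (fun a b => Subtype.ext (by simp [mul_assoc]))
  have hc : ∀ (g : H) (k : K), (c g k : Matrix (Fin n) (Fin n) F) = g.1.val * k.1 * (g.1⁻¹).val := fun g k => rfl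
  have hcmul : ∀ g h : H, c (g * h) = (c g).comp (c h) := fun g h => AlgHom.ext fun k => Subtype.ext (by
    simp [hc, mul_assoc])
  have hcone : c 1 = AlgHom.id F K := AlgHom.ext fun k => Subtype.ext (by simp [hc])
  let φ : H →* (K ≃ₐ[F] K) := MonoidHom.mk' (fun g => AlgEquiv.ofAlgHom (c g) (c g⁻¹)
      (by rw [← hcmul, mul_inv_cancel, hcone]) (by rw [← hcmul, inv_mul_cancel, hcone]))
    fun g h => AlgEquiv.ext fun k => by
      show c (g * h) k = c g (c h k)
      rw [hcmul]; rfl
  have hφ : Function.Injective φ := by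
    rw [injective_iff_map_eq_one]
    rintro ⟨g, hg⟩ hφg
    have hcomm : ∀ k ∈ K, g.val * k = k * g.val := fun k hk => by
      have h1 : g.val * k * (g⁻¹).val = k :=
        congrArg Subtype.val (DFunLike.congr_fun hφg (⟨k, hk⟩ : K))
      conv_rhs => rw [← h1]
      simp [mul_assoc]
    obtain ⟨v, hv⟩ := exists_ne (0 : Fin n → F)
    let L : K →ₗ[F] (Fin n → F) :=
      { toFun := fun k => k.1 *ᵥ v
        map_add' := fun a b => add_mulVec _ _ _
        map_smul' := fun r a => smul_mulVec _ _ _ }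
    have hinj : Function.Injective L := by
      rw [injective_iff_map_eq_zero]
      intro k hk
      by_contra h0
      obtain ⟨y, hy, hky⟩ := hK.inv k k.2 fun e => h0 (Subtype.ext e)
      apply hv
      rw [← one_mulVec v, ← hky, hK.comm _ k.2 _ hy, ← mulVec_mulVec]
      exact (congrArg _ hk).trans (mulVec_zero _)
    have hsurj : Function.Surjective L :=
      (LinearMap.injective_iff_surjective_of_finrank_eq_finrank
        (by rw [hK.finrank_eq, Module.finrank_fin_fun])).1 hinj
    obtain ⟨k, hk⟩ := hsurj (g.val *ᵥ v)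
    have hgk : g.val = k.1 := by
      refine Matrix.toLin'.injective (LinearMap.ext fun x => ?_)
      obtain ⟨y, rfl⟩ := hsurj x
      simp only [Matrix.toLin'_apply]
      show g.val *ᵥ (y.1 *ᵥ v) = k.1 *ᵥ (y.1 *ᵥ v)
      rw [mulVec_mulVec, hcomm _ y.2, ← mulVec_mulVec, ← hk]
      show y.1 *ᵥ (k.1 *ᵥ v) = _
      rw [mulVec_mulVec, hK.comm _ y.2 _ k.2, ← mulVec_mulVec]
    have hinv : (g⁻¹).val = g.val := by
      rw [← adj_iso hd (omega_iso hB hH g hg), hgk, hsa _ k.2]
    have hsq : (g.val - 1) * (g.val + 1) = 0 := by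
      have e : g.val * g.val = 1 := by conv_lhs => lhs; rw [← hinv]
                                       exact Units.inv_mul g
      rw [sub_mul, mul_add, e]; simp [add_comm]
    refine Subtype.ext (Units.ext ?_)
    show g.val = 1
    by_contra hne
    have hmem : g.val - 1 ∈ K := sub_mem (hgk ▸ k.2) (one_mem K)
    obtain ⟨y, hy, hyinv⟩ := hK.inv _ hmem (sub_ne_zero.2 hne)
    have hz : g.val + 1 = 0 := by
      have := congrArg (fun X => y * X) hsq
      simp only [mul_zero, ← mul_assoc, hK.comm y hy _ hmem, hyinv, one_mul] at this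
      exact this
    have hdet := omega_det (hH hg)
    rw [eq_neg_of_add_eq_zero_left hz, Matrix.det_neg, det_one, mul_one, Fintype.card_fin, hodd.neg_one_pow] at hdet
    apply hne
    rw [eq_neg_of_add_eq_zero_left hz, ← neg_one_smul F (1 : Matrix (Fin n) (Fin n) F), hdet, one_smul]
  haveI : FiniteDimensional F K := Module.Finite.of_finite
  haveI : IsGalois F K := inferInstance
  have hdvd : Nat.card H ∣ n := by
    have h1 := Subgroup.card_dvd_of_injective φ hφ
    rwa [IsGalois.card_aut_eq_finrank, hK.finrank_eq] at h1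
  haveI : Finite (GL (Fin n) F) := Finite.of_injective _ Units.val_injective
  obtain ⟨g, hg, hgs⟩ := SetLike.not_le_iff_exists.1 (not_le_scalars hn.two_le hirr)
  have hgen : ∀ h ∈ H, h ∈ Subgroup.zpowers g := by
    have hg1 : (⟨g, hg⟩ : H) ≠ 1 := fun e => hgs (by
      have h : g = 1 := congrArg Subtype.val e
      rw [h]; exact one_mem _)
    have hcard : Nat.card H = n := ((Nat.dvd_prime hn).1 hdvd).resolve_left fun e => by
      haveI := (Nat.card_eq_one_iff_unique.1 e).1
      exact hg1 (Subsingleton.elim _ _)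
    intro h hh
    haveI := Fact.mk hn
    obtain ⟨j, hj⟩ := Subgroup.mem_zpowers_iff.1 (mem_zpowers_of_prime_card hcard hg1 (g' := (⟨h, hh⟩ : H)))
    exact ⟨j, congrArg Subtype.val hj⟩
  have hgn : g.val ^ n = 1 := by
    have h1 : (⟨g, hg⟩ : H) ^ n = 1 := orderOf_dvd_iff_pow_eq_one.1 ((orderOf_dvd_natCard _).trans hdvd)
    rw [← Units.val_pow_eq_pow_val, show g ^ n = 1 from congrArg Subtype.val h1, Units.val_one]
  obtain ⟨v, hv⟩ := exists_ne (0 : Fin n → F)
  have hinvg : ∀ U : Submodule F (Fin n → F), (∀ x ∈ U, g.val *ᵥ x ∈ U) → Inv (matrixSet H) U := by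
    intro U hU
    rintro _ ⟨h, hh, rfl⟩ x hx
    obtain ⟨j, hj⟩ := Submonoid.mem_powers_iff _ _ |>.1
      ((IsOfFinOrder.mem_powers_iff_mem_zpowers (isOfFinOrder_of_finite g)).2 (hgen h hh))
    subst hj
    clear hh
    induction j generalizing x with
    | zero => simpa using hx
    | succ j ih =>
      show (g ^ j * g).val *ᵥ x ∈ U
      rw [Units.val_mul, ← mulVec_mulVec]
      exact ih _ (hU x hx)
  obtain ⟨S, hS⟩ : ∃ S, S = ∑ i ∈ Finset.range n, (g.val ^ i) *ᵥ v := ⟨_, rfl⟩
  by_cases hS0 : S = 0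
  · let U := Submodule.span F (Set.range fun i : Fin (n - 1) => (g.val ^ (i : ℕ)) *ᵥ v)
    have hU : ∀ x ∈ U, g.val *ᵥ x ∈ U := by
      intro x hx
      induction hx using Submodule.span_induction with
      | mem x hx =>
        obtain ⟨i, rfl⟩ := hx
        show g.val *ᵥ ((g.val ^ (i : ℕ)) *ᵥ v) ∈ U
        rw [mulVec_mulVec, ← pow_succ']
        by_cases hi : (i : ℕ) + 1 < n - 1
        · exact Submodule.subset_span ⟨⟨_, hi⟩, rfl⟩
        · have hi' : (i : ℕ) + 1 = n - 1 := by omega
          have e : (g.val ^ (n - 1)) *ᵥ v = -∑ j ∈ Finset.range (n - 1), (g.val ^ j) *ᵥ v := by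
            refine eq_neg_of_add_eq_zero_right ?_
            rw [← Finset.sum_range_succ, Nat.sub_add_cancel hn.one_le, ← hS, hS0]
          rw [hi', e]
          exact neg_mem (Submodule.sum_mem _ fun j hj => Submodule.subset_span ⟨⟨j, Finset.mem_range.1 hj⟩, rfl⟩)
      | zero => rw [mulVec_zero]; exact zero_mem _
      | add x y _ _ hx hy => rw [mulVec_add]; exact add_mem hx hy
      | smul a x _ hx => rw [mulVec_smul]; exact Submodule.smul_mem _ _ hx
    have hvU : v ∈ U := Submodule.subset_span ⟨⟨0, by have := hn.two_le; omega⟩, by simp⟩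
    rcases PrimeDim.irreducible_iff.1 hirr U (hinvg U hU) with e | e
    · exact hv ((Submodule.eq_bot_iff U).1 e v hvU)
    · have h1 := finrank_range_le_card (R := F) fun i : Fin (n - 1) => (g.val ^ (i : ℕ)) *ᵥ v
      rw [Set.finrank, show Submodule.span F (Set.range fun i : Fin (n - 1) => (g.val ^ (i : ℕ)) *ᵥ v) = ⊤ from e,
        finrank_top, Module.finrank_fin_fun, Fintype.card_fin] at h1
      have := hn.two_le
      omega
  · have hgS : g.val *ᵥ S = S := by
      rw [hS, mulVec_sum]
      simp only [mulVec_mulVec, ← pow_succ']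
      have h1 := Finset.sum_range_succ' (fun i => (g.val ^ i) *ᵥ v) n
      rw [Finset.sum_range_succ, hgn, pow_zero] at h1
      exact (add_right_cancel h1).symm
    rcases PrimeDim.irreducible_iff.1 hirr _ (hinvg (Submodule.span F {S}) fun x hx => by
      obtain ⟨a, rfl⟩ := Submodule.mem_span_singleton.1 hx
      rw [mulVec_smul, hgS]
      exact hx) with e | e
    · exact hS0 (Submodule.span_singleton_eq_bot.1 e)
    · have h1 := finrank_span_singleton (K := F) hS0
      rw [e, finrank_top, Module.finrank_fin_fun] at h1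
      exact hn.ne_one h1

/-- The two cases for a normalised field. -/
theorem orth_field (hB : Nondeg Q) (hn : 3 ≤ n) {H N : Subgroup (GL (Fin n) F)} (hH : H ≤ omegaGL ⇑Q)
    (hirr : ActsIrreducibly (matrixSet H)) (hN : Nml H N) {d : ℕ} (hd2 : 2 ≤ d)
    {K : Subalgebra F (Matrix (Fin n) (Fin n) F)} (hK : ExtData H N d K) :
    OSAFieldCase Q H ∨ OConjFieldCase Q H := by
  classical
  have hd := orth_data hB
  have hiso := omega_iso hB hH
  rcases field_bilinear hd hiso hN hd2 hK with ⟨r, L, hr, hL, hsa, hle⟩ | ⟨L, hL, hcl, hnsa, hscal, hle⟩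
  · left
    have hrn := field_degree_dvd hr.pos.ne' hL
    refine ⟨hirr, r, L, hr, hrn, fun ho e => full_field_false hB (e ▸ hr) ho hH hirr (e ▸ hL) hsa hle,
      fun he => ?_, hL, hsa, hle⟩
    have h20 := two_eq_zero_of_not_odd he
    haveI : CharP F 2 := CharTwo.of_one_ne_zero_of_two_eq_zero one_ne_zero h20
    -- v ↦ B (k v, v) vanishes
    have hadd : ∀ k ∈ L, ∀ u v, sform τ₁ (ogram Q) (k *ᵥ (u + v)) (u + v) =
        sform τ₁ (ogram Q) (k *ᵥ u) u + sform τ₁ (ogram Q) (k *ᵥ v) v := by
      intro k hk u v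
      have e : sform τ₁ (ogram Q) (k *ᵥ v) u = sform τ₁ (ogram Q) (k *ᵥ u) v := by
        rw [sform_adj hd k u, hsa k hk, ← polar_sform hB, ← polar_sform hB, QuadraticMap.polar_comm]
      rw [mulVec_add, sform_add_left, sform_add_right, sform_add_right, e]
      linear_combination sform τ₁ (ogram Q) (k *ᵥ u) v * h20
    let W : Submodule F (Fin n → F) :=
      { carrier := {v | ∀ k ∈ L, sform τ₁ (ogram Q) (k *ᵥ v) v = 0}
        add_mem' := fun {x y} hx hy k hk => by rw [hadd k hk, hx k hk, hy k hk, add_zero]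
        zero_mem' := fun k _ => by rw [mulVec_zero]; exact sform_zero_left _ _ _
        smul_mem' := fun c x hx k hk => by
          rw [mulVec_smul, sform_smul_left, sform_smul_right, hx k hk, mul_zero, mul_zero] }
    have hW : Inv (matrixSet H) W := by
      rintro _ ⟨g, hg, rfl⟩ v hv k hk
      have hk' : (g⁻¹).val * k * g.val ∈ L := by
        have h1 := (hle (inv_mem hg) k).1 hk
        rwa [inv_inv] at h1
      have e : k *ᵥ (g.val *ᵥ v) = g.val *ᵥ (((g⁻¹).val * k * g.val) *ᵥ v) := by
        simp [mulVec_mulVec, ← mul_assoc]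
      rw [e, (iso_iff _ _ _).1 (hiso g hg)]
      exact hv _ hk'
    have hall : ∀ k ∈ L, ∀ v, sform τ₁ (ogram Q) (k *ᵥ v) v = 0 := by
      rcases PrimeDim.irreducible_iff.1 hirr W hW with h0 | h0
      swap
      · exact fun k hk v => (h0 ▸ Submodule.mem_top : v ∈ W) k hk
      exfalso
      haveI : Finite L := Finite.of_injective _ Subtype.val_injective
      let b := Module.finBasisOfFinrankEq F L hL.finrank_eq
      let s := (frobeniusEquiv F 2).symm
      have hs : ∀ c x : F, s (c * c * x) = c * s x := fun c x => by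
        rw [map_mul]
        congr 1
        rw [← pow_two, RingEquiv.symm_apply_eq, frobeniusEquiv_def]
      let Φ : (Fin n → F) →ₗ[F] (Fin r → F) :=
        { toFun := fun v i => s (sform τ₁ (ogram Q) ((b i).1 *ᵥ v) v)
          map_add' := fun u v => funext fun i => by rw [Pi.add_apply, hadd _ (b i).2, map_add]
          map_smul' := fun c v => funext fun i => by
            rw [Pi.smul_apply, RingHom.id_apply, smul_eq_mul, mulVec_smul, sform_smul_left, sform_smul_right,
              RingEquiv.refl_apply, ← mul_assoc, hs] }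
      have hinj : Function.Injective Φ := by
        rw [injective_iff_map_eq_zero]
        intro v hv
        refine (Submodule.eq_bot_iff W).1 h0 v fun k hk => ?_
        have e : (k : Matrix (Fin n) (Fin n) F) = ∑ i, b.repr ⟨k, hk⟩ i • (b i).1 := by
          have := congrArg (L.val.toLinearMap) (b.sum_repr ⟨k, hk⟩).symm
          simp only [map_sum, map_smul] at this
          exact this
        have hz : ∀ i, sform τ₁ (ogram Q) ((b i).1 *ᵥ v) v = 0 := fun i =>
          (map_eq_zero_iff s s.injective).1 (congrFun hv i)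
        rw [e, ← polar_sform hB, sum_mulVec, (PrimeDim.polar_sesq hB).sum_left]
        exact Finset.sum_eq_zero fun i _ => by rw [smul_mulVec, CfsgLib.Orth.b_smul_left, polar_sform hB, hz, mul_zero]
      have h1 := LinearMap.finrank_le_finrank_of_injective hinj
      rw [Module.finrank_fin_fun, Module.finrank_fin_fun] at h1
      obtain rfl : r = n := le_antisymm (Nat.le_of_dvd (by omega) hrn) h1
      exact full_field_false hB hr (hr.odd_of_ne_two (by omega)) hH hirr hL hsa hle
    exact saField_two_dvd hd hL hsa hall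
  right
  refine ⟨hirr, L, hL, hcl, hnsa, hscal, fun k hk => ?_, hle⟩
  have hcomm : adj τ₁ (ogram Q) k * k = k * adj τ₁ (ogram Q) k := hL.comm _ (hcl k hk) _ hk
  obtain ⟨c, hc⟩ : ∃ c : F, adj τ₁ (ogram Q) k * k = c • 1 :=
    hscal _ (mul_mem (hcl k hk) hk) (by rw [adj_mul hd, adj_adj hd])
  obtain ⟨t, ht⟩ : ∃ t : F, k + adj τ₁ (ogram Q) k = t • 1 :=
    hscal _ (add_mem hk (hcl k hk)) (by rw [adj_add, adj_adj hd, add_comm])
  have hBk : ∀ u v, QuadraticMap.polar ⇑Q (k *ᵥ u) (k *ᵥ v) = c * QuadraticMap.polar ⇑Q u v := fun u v => by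
    rw [polar_sform hB, polar_sform hB, sform_adj hd, mulVec_mulVec, hc, smul_mulVec, one_mulVec, sform_smul_right]
    rfl
  refine ⟨c, fun v => ?_⟩
  by_cases hodd : Odd (Fintype.card F)
  · refine mul_left_cancel₀ (PrimeDim.two_ne_zero_of_odd hodd) ?_
    rw [mul_left_comm, ← CfsgLib.Orth.b_self, ← CfsgLib.Orth.b_self, hBk]
  have h20 := two_eq_zero_of_not_odd hodd
  haveI : CharP F 2 := CharTwo.of_one_ne_zero_of_two_eq_zero one_ne_zero h20
  by_cases ht0 : t = 0
  · have hkk : adj τ₁ (ogram Q) k = k := by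
      rw [ht0, zero_smul] at ht
      rw [eq_neg_of_add_eq_zero_right ht]
      ext i j
      exact CharTwo.neg_eq _
    obtain ⟨a, ha⟩ := hscal k hk hkk
    obtain rfl : a * a = c := by
      rw [hkk, ha, smul_mul_assoc, one_mul, smul_smul] at hc
      simpa using congrFun (congrFun hc ⟨0, by omega⟩) ⟨0, by omega⟩
    rw [ha, smul_mulVec, one_mulVec, CfsgLib.Orth.q_smul]
  -- v ↦ B (k v, v) - t Q v vanishes
  have hpsi : ∀ v, QuadraticMap.polar ⇑Q (k *ᵥ v) v = t * Q v := fun v => sub_eq_zero.1 <| by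
    refine semilinear_zero (by omega) h20 hirr
      (φ := fun v => QuadraticMap.polar ⇑Q (k *ᵥ v) v - t * Q v) (fun u v => ?_) (fun a v => ?_) ?_ v
    · have e : QuadraticMap.polar ⇑Q (k *ᵥ v) u + QuadraticMap.polar ⇑Q (k *ᵥ u) v =
          t * QuadraticMap.polar ⇑Q u v := by
        rw [QuadraticMap.polar_comm _ (k *ᵥ v), polar_sform hB u (k *ᵥ v), polar_sform hB (k *ᵥ u), sform_adj hd,
          ← sform_add_right, ← add_mulVec, ht, smul_mulVec, one_mulVec, sform_smul_right, polar_sform hB]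
        rfl
      simp only [mulVec_add, CfsgLib.Orth.b_add_left, CfsgLib.Orth.b_add_right, CfsgLib.Orth.q_add]
      linear_combination e
    · simp only [mulVec_smul, CfsgLib.Orth.b_smul_left, CfsgLib.Orth.b_smul_right, CfsgLib.Orth.q_smul]
      ring
    · rintro _ ⟨g, hg, rfl⟩ v
      have hi := hiso g hg
      have hk' : (g⁻¹).val * k * g.val ∈ L := by
        have h1 := (hle (inv_mem hg) k).1 hk
        rwa [inv_inv] at h1
      obtain ⟨k', hk'e⟩ : ∃ k', k' = (g⁻¹).val * k * g.val := ⟨_, rfl⟩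
      rw [← hk'e] at hk'
      have hgi : Iso τ₁ (ogram Q) (g⁻¹).val := hiso _ (inv_mem hg)
      have hadj' : adj τ₁ (ogram Q) k' = (g⁻¹).val * adj τ₁ (ogram Q) k * g.val := by
        have := adj_conj hd hgi k
        rwa [inv_inv, ← hk'e] at this
      have hsum : k' + adj τ₁ (ogram Q) k' = t • 1 := by
        rw [hadj', hk'e, ← add_mul, ← mul_add, ht]
        simp
      have hprod : k' * k' - t • k' + c • 1 = 0 := by
        have hp : adj τ₁ (ogram Q) k' * k' = c • 1 := by
          rw [hadj', hk'e]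
          calc _ = (g⁻¹).val * (adj τ₁ (ogram Q) k * k) * g.val := by simp [mul_assoc]
            _ = _ := by rw [hc]; simp
        rw [← hp, show t • k' = (t • 1) * k' by rw [smul_mul_assoc, one_mul], ← hsum, add_mul]
        abel
      have hroot : (k' - k) * (k' - adj τ₁ (ogram Q) k) = 0 := by
        rw [← hprod, show t • k' = k' * (t • 1) by rw [mul_smul_comm, mul_one], ← ht, ← hc]
        simp only [sub_mul, mul_sub, mul_add, hcomm, hL.comm k hk k' hk']
        abel
      have hcase : k' = k ∨ k' = adj τ₁ (ogram Q) k := by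
        by_contra hne
        push Not at hne
        obtain ⟨y, hy, hyi⟩ := hL.inv _ (sub_mem hk' hk) (sub_ne_zero.2 hne.1)
        have := congrArg (fun X => y * X) hroot
        simp only [mul_zero, ← mul_assoc, hL.comm y hy _ (sub_mem hk' hk), hyi, one_mul] at this
        exact hne.2 (sub_eq_zero.1 this)
      have e : k *ᵥ (g.val *ᵥ v) = g.val *ᵥ (k' *ᵥ v) := by rw [hk'e]; simp [mulVec_mulVec, ← mul_assoc]
      simp only [omega_quad hH hg, e, PrimeDim.omegaGL_polar (hH hg)]
      rcases hcase with h | h <;> rw [h]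
      rw [polar_sform hB, sform_adj hd, adj_adj hd, ← polar_sform hB, QuadraticMap.polar_comm]
  refine mul_left_cancel₀ ht0 ?_
  rw [← hpsi (k *ᵥ v), hBk, hpsi]
  ring

end CfsgLib.Asch
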