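import Cfsg.Agent.Lib.Classical.AschOrth
import Cfsg.Agent.Lib.Classical.OrthDecompNotMax

set_option autoImplicit false
set_option linter.unusedSectionVars false

/-!
Orthogonal frames of lines preserved by an irreducible group.
-/

namespace CfsgLib.Asch

open Matrix
open Cfsg.Geo (matrixSet ActsIrreducibly omegaGL decompositionStabilizer IsOrthogonalMDecomposition)
open CfsgLib.Orth (Nondeg)
open CfsgLib.Orth.DecompNotMax (IsTriple exists_triple triple_cases)
open scoped MatrixGroups

variable {F : Type*} [Field F] [Fintype F] {n : ℕ} {Q : QuadraticForm F (Fin n → F)}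

local notation "B" => QuadraticMap.polar (DFunLike.coe Q)
local notation "τ₁" => RingEquiv.refl F

/-- An irreducible group permuting the lines of an orthogonal frame. -/
theorem lines_decomp (hB : Nondeg Q) (hn : 2 ≤ n) {H : Subgroup (GL (Fin n) F)} (hH : H ≤ omegaGL ⇑Q)
    (hirr : ActsIrreducibly (matrixSet H)) (v : Fin n → Fin n → F)
    (hv0 : ∀ i j, i ≠ j → B (v i) (v j) = 0) (hv1 : ∀ i, B (v i) (v i) ≠ 0)
    (hstep : ∀ g ∈ H, ∀ i, ∃ (j : Fin n) (l : F), g.val *ᵥ v i = l • v j) :
    ∃ D : Fin n → Submodule F (Fin n → F), IsOrthogonalMDecomposition ⇑Q 1 D ∧ H ≤ decompositionStabilizer D := by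
  classical
  let D : Fin n → Submodule F (Fin n → F) := fun i => Submodule.span F {v i}
  have hvne : ∀ i, v i ≠ 0 := fun i h => hv1 i (by rw [h, CfsgLib.Orth.b_zero_left])
  have hli : LinearIndependent F v := by
    rw [Fintype.linearIndependent_iff]
    intro c hc l
    have h := congrArg (fun z => QuadraticMap.polarBilin Q (v l) z) hc
    simp only [map_sum, map_zero, map_smul, QuadraticMap.polarBilin_apply_apply, smul_eq_mul] at h
    rw [Finset.sum_eq_single l (fun i _ hi => by rw [hv0 l i hi.symm, mul_zero]) (by simp)] at h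
    exact (mul_eq_zero.1 h).resolve_right (hv1 l)
  have hspan : iSup D = ⊤ := by
    rw [← Submodule.span_range_eq_iSup]
    exact hli.span_eq_top_of_card_eq_finrank' (by rw [Module.finrank_fin_fun, Fintype.card_fin])
  have hD := nondegDecomp_mk (orth_data hB) (D := D) (k := 1) (by omega) one_pos
    (fun i => finrank_span_singleton (hvne i)) (fun i j hij => by
      rintro x hx y hy
      obtain ⟨r, rfl⟩ := Submodule.mem_span_singleton.1 hx
      obtain ⟨s, rfl⟩ := Submodule.mem_span_singleton.1 hy
      rw [← polar_sform hB, CfsgLib.Orth.b_smul_left, CfsgLib.Orth.b_smul_right, hv0 i j hij, mul_zero, mul_zero])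
    hspan
  have hinjD : Function.Injective D := fun i j hij => by
    by_contra hne_ij
    obtain ⟨r, hr⟩ := Submodule.mem_span_singleton.1 (hij ▸ Submodule.mem_span_singleton_self (v i) : v i ∈ D j)
    refine hv1 i ?_
    conv_lhs => arg 3; rw [← hr]
    rw [CfsgLib.Orth.b_smul_right, hv0 i j hne_ij, mul_zero]
  have hle : H ≤ decompositionStabilizer D := by
    intro g hg
    choose f l hfl using hstep g hg
    have hinjg : Function.Injective (Matrix.toLin' g.val) := fun x y hxy => by
      simpa [Matrix.toLin'_apply, mulVec_mulVec] using congrArg (fun z => (g⁻¹).val *ᵥ z) hxy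
    have hmap : ∀ i, (D i).map (Matrix.toLin' g.val) = D (f i) := fun i => by
      have hl : l i ≠ 0 := fun h0 => hvne i (hinjg (by
        rw [map_zero, Matrix.toLin'_apply, hfl, h0, zero_smul]))
      simp only [D]
      rw [Submodule.map_span, Set.image_singleton, Matrix.toLin'_apply, hfl,
        Submodule.span_singleton_smul_eq (Ne.isUnit hl)]
    have hfinj : Function.Injective f := fun i j hij => by
      apply hinjD
      apply Submodule.map_injective_of_injective hinjg
      rw [hmap, hmap, hij]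
    exact ⟨Equiv.ofBijective f ⟨hfinj, (Finite.injective_iff_surjective.1 hfinj)⟩, hmap⟩
  rw [sform_polar hB] at hD
  exact ⟨D, decomp_isometric hH hirr hD hle, hle⟩

/-- Over three elements a decomposition into three-dimensional members refines to a frame of lines. -/
theorem frame_refine (hB : Nondeg Q) (hn : 2 ≤ n) (hq : Fintype.card F = 3) {H : Subgroup (GL (Fin n) F)}
    (hH : H ≤ omegaGL ⇑Q) (hirr : ActsIrreducibly (matrixSet H)) {t : ℕ} {D : Fin t → Submodule F (Fin n → F)}
    (htn : t * 3 = n) (hD : IsOrthogonalMDecomposition ⇑Q 3 D) (hle : H ≤ decompositionStabilizer D) :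
    ∃ D' : Fin n → Submodule F (Fin n → F), IsOrthogonalMDecomposition ⇑Q 1 D' ∧ H ≤ decompositionStabilizer D' := by
  classical
  have hq' : Nat.card F = 3 := by rw [Nat.card_eq_fintype_card, hq]
  have h2 : (2 : F) ≠ 0 := fun e => one_ne_zero (α := F)
    (by linear_combination CfsgLib.Orth.DecompNotMax.three_zero hq' - e)
  have hnd : ∀ i, CfsgLib.Orth.NondegOn Q (D i) := fun i x hx h => by
    by_contra h0
    obtain ⟨-, y, hy, hxy⟩ := hD.decomp.nondegenerate i x hx h0
    exact hxy (h y hy)
  have h3 : ∀ i, Module.finrank F (D i) = 3 := hD.decomp.decomp.finrank_eq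
  let i₀ : Fin t := ⟨0, by omega⟩
  obtain ⟨δ, a0, hδ, ha0⟩ := exists_triple hq' (hnd i₀) (h3 i₀)
  have htr : ∀ i, ∃ a, IsTriple Q (D i) δ a := by
    intro i
    obtain ⟨e, he⟩ := hD.isometric i₀ i
    have he' : ∀ x (hx : x ∈ D i₀), Q (e ⟨x, hx⟩ : Fin n → F) = Q x := fun x hx => he ⟨x, hx⟩
    refine ⟨fun k => (e ⟨a0 k, (ha0.1 k).1⟩ : Fin n → F),
      fun k => ⟨(e _).2, (he' _ _).trans (ha0.1 k).2⟩, fun k l hkl => ?_⟩
    refine Eq.trans ?_ (ha0.2 k l hkl)
    unfold QuadraticMap.polar
    rw [he', he', ← Submodule.coe_add, ← map_add]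
    exact congrArg (· - _ - _) (he' _ _)
  choose a ha using htr
  let ε : Fin n ≃ Fin t × Fin 3 := (finCongr htn.symm).trans finProdFinEquiv.symm
  let v : Fin n → Fin n → F := fun i => a (ε i).1 (ε i).2
  have hv0 : ∀ i j, i ≠ j → B (v i) (v j) = 0 := fun i j hij => by
    by_cases h : (ε i).1 = (ε j).1
    · have h' : (ε i).2 ≠ (ε j).2 := fun h' => hij (ε.injective (Prod.ext h h'))
      simp only [v, h]
      exact (ha _).2 _ _ h'
    · exact hD.decomp.orthogonal _ _ h _ ((ha _).1 _).1 _ ((ha _).1 _).1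
  have hQv : ∀ i, Q (v i) = δ := fun i => ((ha _).1 _).2
  have hv1 : ∀ i, B (v i) (v i) ≠ 0 := fun i => by
    rw [CfsgLib.Orth.b_self, hQv]
    exact mul_ne_zero h2 hδ
  refine lines_decomp hB hn hH hirr v hv0 hv1 fun g hg i => ?_
  obtain ⟨σ, hσ⟩ := hle hg
  have hmem : g.val *ᵥ v i ∈ D (σ (ε i).1) := hσ _ ▸ ⟨_, ((ha _).1 _).1, Matrix.toLin'_apply _ _⟩
  have hQg : Q (g.val *ᵥ v i) = δ := (omega_quad hH hg _).trans (hQv i)
  by_contra hc
  push Not at hc
  have hperp : ∀ l, B (g.val *ᵥ v i) (a (σ (ε i).1) l) = 0 := fun l => by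
    have hl : v (ε.symm (σ (ε i).1, l)) = a (σ (ε i).1) l := by simp [v]
    rcases triple_cases hq' (h3 _) hδ (ha _) hmem hQg l with h | h | h
    · exact h
    · exact absurd (h.trans (one_smul F _).symm) (hl ▸ hc (ε.symm (σ (ε i).1, l)) 1)
    · exact absurd (h.trans (neg_one_smul F _).symm) (hl ▸ hc (ε.symm (σ (ε i).1, l)) (-1))
  have hall : ∀ j, B (g.val *ᵥ v i) (v j) = 0 := fun j => by
    by_cases h : (ε j).1 = σ (ε i).1
    · simp only [v] at hperp ⊢
      rw [h]
      exact hperp _
    · exact hD.decomp.orthogonal _ _ (Ne.symm h) _ hmem _ ((ha _).1 _).1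
  have hspan : Submodule.span F (Set.range v) = ⊤ := by
    have hli : LinearIndependent F v := by
      rw [Fintype.linearIndependent_iff]
      intro c hc' l
      have h := congrArg (fun z => QuadraticMap.polarBilin Q (v l) z) hc'
      simp only [map_sum, map_zero, map_smul, QuadraticMap.polarBilin_apply_apply, smul_eq_mul] at h
      rw [Finset.sum_eq_single l (fun i _ hi => by rw [hv0 l i hi.symm, mul_zero]) (by simp)] at h
      exact (mul_eq_zero.1 h).resolve_right (hv1 l)
    exact hli.span_eq_top_of_card_eq_finrank' (by rw [Module.finrank_fin_fun, Fintype.card_fin])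
  have hzero : g.val *ᵥ v i = 0 := hB _ fun y => by
    have hle' : Submodule.span F (Set.range v) ≤ LinearMap.ker (QuadraticMap.polarBilin Q (g.val *ᵥ v i)) :=
      Submodule.span_le.2 (Set.range_subset_iff.2 fun j => LinearMap.mem_ker.2 (hall j))
    exact LinearMap.mem_ker.1 (hle' (hspan ▸ Submodule.mem_top))
  rw [hzero, QuadraticMap.map_zero] at hQg
  exact hδ hQg.symm

end CfsgLib.Asch
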