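import Cfsg.Agent.Lib.Classical.AschOrthOdd
import Cfsg.Agent.Lib.Classical.AschOrthPure
import Cfsg.Agent.Lib.Classical.AschOrthFrame

set_option autoImplicit false
set_option linter.unusedSectionVars false

/-!
The maximal subgroups of the commutator subgroup of the nine-dimensional orthogonal group in odd characteristic.
-/

namespace CfsgLib.Asch.OrthOdd

open Matrix
open Cfsg.Geo (subspaceStabilizer decompositionStabilizer subalgebraNormalizer glReindex omegaGL)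
open CfsgLib.Orth (Nondeg)
open CfsgLib.PrimeDim.Std (lin lin_apply mem_map)
open scoped MatrixGroups Kronecker

variable {F : Type*} [Field F] [Fintype F]

local notation "τ₁" => RingEquiv.refl F

theorem orth_nine_cases (hodd : Odd (Fintype.card F)) {H : Subgroup (GL (Unit ⊕ (Fin 4 ⊕ Fin 4)) F)}
    (hH : Cfsg.Geo.IsMaximalIn (omegaGL (Cfsg.quadFormOdd 4 F)) H) :
    (∃ W : Submodule F (Unit ⊕ (Fin 4 ⊕ Fin 4) → F), W ≠ ⊥ ∧
      Cfsg.Geo.IsTotallySingularQuad (Cfsg.quadFormOdd 4 F) W ∧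
      H = subspaceStabilizer W ⊓ omegaGL (Cfsg.quadFormOdd 4 F)) ∨
    (∃ W : Submodule F (Unit ⊕ (Fin 4 ⊕ Fin 4) → F), W ≠ ⊥ ∧ Even (Module.finrank F W) ∧
      Cfsg.Geo.IsNondegenerateOn (QuadraticMap.polar (Cfsg.quadFormOdd 4 F)) W ∧
      ¬ (Fintype.card F = 3 ∧ Module.finrank F W = 2 ∧ Cfsg.Geo.IsPlusTypeOn (Cfsg.quadFormOdd 4 F) W) ∧
      H = subspaceStabilizer W ⊓ omegaGL (Cfsg.quadFormOdd 4 F)) ∨
    ((Fintype.card F).Prime ∧ ∃ D : Fin 9 → Submodule F (Unit ⊕ (Fin 4 ⊕ Fin 4) → F),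
      Cfsg.Geo.IsOrthogonalMDecomposition (Cfsg.quadFormOdd 4 F) 1 D ∧
      H = decompositionStabilizer D ⊓ omegaGL (Cfsg.quadFormOdd 4 F)) ∨
    (5 ≤ Fintype.card F ∧ ∃ D : Fin 3 → Submodule F (Unit ⊕ (Fin 4 ⊕ Fin 4) → F),
      Cfsg.Geo.IsOrthogonalMDecomposition (Cfsg.quadFormOdd 4 F) 3 D ∧
      H = decompositionStabilizer D ⊓ omegaGL (Cfsg.quadFormOdd 4 F)) ∨
    (∃ K : Subalgebra F (Matrix (Unit ⊕ (Fin 4 ⊕ Fin 4)) (Unit ⊕ (Fin 4 ⊕ Fin 4)) F),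
      Cfsg.Geo.IsFieldSubalgebra 3 K ∧
      Cfsg.Geo.IsSelfAdjointFor (QuadraticMap.polar (Cfsg.quadFormOdd 4 F)) K ∧
      H = subalgebraNormalizer K ⊓ omegaGL (Cfsg.quadFormOdd 4 F)) ∨
    (∃ (F₀ : Subfield F) (r : ℕ) (P : GL (Unit ⊕ (Fin 4 ⊕ Fin 4)) F), r.Prime ∧
      Fintype.card F = Nat.card F₀ ^ r ∧
      Cfsg.Geo.IsQuadFormRationalStructure (Cfsg.quadFormOdd 4 F) F₀ P ∧
      H = Cfsg.Geo.subfieldSubgroup F₀ P ⊓ omegaGL (Cfsg.quadFormOdd 4 F)) ∨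
    (5 ≤ Fintype.card F ∧ ∃ (e : (Unit ⊕ (Fin 4 ⊕ Fin 4)) ≃ (Fin 2 → Fin 3))
      (P : GL (Unit ⊕ (Fin 4 ⊕ Fin 4)) F) (f₁ : (Fin 3 → F) → (Fin 3 → F) → F), Cfsg.Geo.IsSymmetricForm f₁ ∧
      Cfsg.Geo.IsTensorPowerFormStructure id (QuadraticMap.polar (Cfsg.quadFormOdd 4 F)) f₁ e P ∧
      H = Cfsg.Geo.tensorWreathSubgroup 3 2 e P ⊓ omegaGL (Cfsg.quadFormOdd 4 F)) ∨
    Cfsg.Geo.InOrthogonalResidualClass H := by
  classical
  have h2 : (2 : F) ≠ 0 := PrimeDim.two_ne_zero_of_odd hodd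
  have hq5 : Fintype.card F ≠ 3 → 5 ≤ Fintype.card F := fun h => by
    have := Fintype.one_lt_card (α := F)
    obtain ⟨j, hj⟩ := hodd
    omega
  let e : Unit ⊕ (Fin 4 ⊕ Fin 4) ≃ Fin 9 := Fintype.equivFinOfCardEq (by simp)
  let pr : Unit ⊕ (Fin 4 ⊕ Fin 4) → ((Unit ⊕ (Fin 4 ⊕ Fin 4) → F) →ₗ[F] F) := fun i => LinearMap.proj i
  let Q₁ : QuadraticForm F (Unit ⊕ (Fin 4 ⊕ Fin 4) → F) :=
    QuadraticMap.linMulLin (pr (.inl ())) (pr (.inl ())) +
      ∑ i : Fin 4, QuadraticMap.linMulLin (pr (.inr (.inl i))) (pr (.inr (.inr i)))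
  have hQ₁ : ⇑Q₁ = Cfsg.quadFormOdd 4 F := funext fun v => by
    simp [Q₁, pr, Cfsg.quadFormOdd, pow_two]
  let Q' : QuadraticForm F (Fin 9 → F) := Q₁.comp (lin e).toLinearMap
  have hQ' : ⇑Q' = Cfsg.quadFormOdd 4 F ∘ lin e := funext fun v => by
    simp [Q', ← hQ₁]
  have hpol : ∀ x y : Unit ⊕ (Fin 4 ⊕ Fin 4) → F, QuadraticMap.polar (Cfsg.quadFormOdd 4 F) x y =
      2 * x (.inl ()) * y (.inl ()) +
        ∑ i : Fin 4, (x (.inr (.inl i)) * y (.inr (.inr i)) + x (.inr (.inr i)) * y (.inr (.inl i))) := by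
    intro x y
    simp only [QuadraticMap.polar, Cfsg.quadFormOdd, Pi.add_apply, add_mul, mul_add, Finset.sum_add_distrib]
    rw [show (∑ i : Fin 4, y (.inr (.inl i)) * x (.inr (.inr i))) =
      ∑ i : Fin 4, x (.inr (.inr i)) * y (.inr (.inl i)) from Finset.sum_congr rfl fun i _ => mul_comm _ _]
    ring
  have hf : ∀ u v, QuadraticMap.polar ⇑Q' u v = QuadraticMap.polar (Cfsg.quadFormOdd 4 F) (lin e u) (lin e v) := by
    intro u v
    rw [hQ', PrimeDim.Std.polar_lin]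
  have hnd : Nondeg Q' := by
    intro x hx
    have hx' : ∀ y, QuadraticMap.polar (Cfsg.quadFormOdd 4 F) (lin e x) y = 0 := fun y => by
      have := hx ((lin e).symm y)
      rwa [hf, LinearEquiv.apply_symm_apply] at this
    refine (lin e).map_eq_zero_iff.1 (funext fun i => ?_)
    rcases i with ⟨⟩ | i | i
    · have h := hx' (Pi.single (.inl ()) 1)
      rw [hpol] at h
      simp [Pi.single_apply] at h
      exact h.resolve_left h2
    · have h := hx' (Pi.single (.inr (.inr i)) 1)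
      rw [hpol] at h
      simpa [Pi.single_apply] using h
    · have h := hx' (Pi.single (.inr (.inl i)) 1)
      rw [hpol] at h
      simpa [Pi.single_apply] using h
  have hgram : ∀ (F₁ : Subfield F) i j,
      QuadraticMap.polar ⇑Q' (Pi.single i 1) (Pi.single j 1) ∈ F₁ := by
    intro F₁ i j
    have hs : ∀ (i : Fin 9) k, lin e (Pi.single i (1 : F)) k ∈ F₁ := fun i k => by
      rw [lin_apply, Pi.single_apply]
      split
      exacts [F₁.one_mem, F₁.zero_mem]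
    rw [hf, hpol]
    refine F₁.add_mem (F₁.mul_mem (F₁.mul_mem ?_ (hs _ _)) (hs _ _)) (F₁.sum_mem fun k _ => F₁.add_mem
      (F₁.mul_mem (hs _ _) (hs _ _)) (F₁.mul_mem (hs _ _) (hs _ _)))
    rw [← one_add_one_eq_two]
    exact F₁.add_mem F₁.one_mem F₁.one_mem
  have hH' : H.map (glReindex e).toMonoidHom ≤ omegaGL ⇑Q' := by
    rw [hQ', ← PrimeDim.Std.omega_map]
    exact Subgroup.map_mono hH.1.le
  have hmax : ∀ (X : Subgroup (GL (Unit ⊕ (Fin 4 ⊕ Fin 4)) F)) (X' : Subgroup (GL (Fin 9) F)),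
      (∀ g, g ∈ X ↔ glReindex e g ∈ X') → H.map (glReindex e).toMonoidHom ≤ X' → ¬ omegaGL ⇑Q' ≤ X' →
      H = X ⊓ omegaGL (Cfsg.quadFormOdd 4 F) := by
    intro X X' hX hle hnot
    rcases hH.2 (X ⊓ omegaGL (Cfsg.quadFormOdd 4 F)) (le_inf (Transport.mem_of_map_le e hX hle) hH.1.le)
      inf_le_right with h | h
    · exact h.symm
    · refine absurd ?_ hnot
      rw [hQ', ← PrimeDim.Std.omega_map]
      rintro _ ⟨g, hg, rfl⟩
      exact (hX g).1 (inf_eq_right.1 h hg)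
  -- frames of lines
  have hlines : ∀ D : Fin 9 → Submodule F (Fin 9 → F), Cfsg.Geo.IsOrthogonalMDecomposition ⇑Q' 1 D →
      H.map (glReindex e).toMonoidHom ≤ decompositionStabilizer D →
      ((Fintype.card F).Prime ∧ ∃ D : Fin 9 → Submodule F (Unit ⊕ (Fin 4 ⊕ Fin 4) → F),
        Cfsg.Geo.IsOrthogonalMDecomposition (Cfsg.quadFormOdd 4 F) 1 D ∧
        H = decompositionStabilizer D ⊓ omegaGL (Cfsg.quadFormOdd 4 F)) ∨
      (∃ (F₀ : Subfield F) (r : ℕ) (P : GL (Unit ⊕ (Fin 4 ⊕ Fin 4)) F), r.Prime ∧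
        Fintype.card F = Nat.card F₀ ^ r ∧
        Cfsg.Geo.IsQuadFormRationalStructure (Cfsg.quadFormOdd 4 F) F₀ P ∧
        H = Cfsg.Geo.subfieldSubgroup F₀ P ⊓ omegaGL (Cfsg.quadFormOdd 4 F)) := by
    intro D hD hle
    by_cases hp : (Fintype.card F).Prime
    · refine Or.inl ⟨hp, _, ?_, hmax _ _ (PrimeDim.Std.decomp_iff e) hle
        (OrthNotLe.not_le_decomp hnd (by norm_num) hD.decomp.decomp
          (Or.inl ⟨hD.decomp.orthogonal, Or.inr (Or.inr ⟨rfl, by norm_num⟩)⟩))⟩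
      rw [hQ'] at hD
      exact PrimeDim.Std.orthogonalMDecomposition_map e hD
    obtain ⟨F₀, r, hr, hcard⟩ := exists_prime_index hp
    obtain ⟨P, ζ, hζ, hP⟩ := lines_rational (by norm_num) h2 hH' hD hle
    obtain ⟨P', hrat', hle'⟩ :=
      rational_one hodd hnd ⟨4, rfl⟩ hgram hr hcard hζ (hP F₀).1 (hP F₀).2
    obtain ⟨P₀, rfl⟩ := (glReindex e (F := F)).surjective P'
    rw [hQ'] at hrat'
    exact Or.inr ⟨F₀, r, P₀, hr, hcard, PrimeDim.Std.rational_map e hrat',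
      hmax _ _ (Transport.subfield_iff e F₀ P₀) hle' (OrthNotLe.not_le_subfield hnd (by norm_num) hr hcard _)⟩
  -- symmetric squares
  have hpow : OSymPowerCase Q' (H.map (glReindex e).toMonoidHom) →
      5 ≤ Fintype.card F ∧ ∃ (d : (Unit ⊕ (Fin 4 ⊕ Fin 4)) ≃ (Fin 2 → Fin 3))
        (P : GL (Unit ⊕ (Fin 4 ⊕ Fin 4)) F) (f₁ : (Fin 3 → F) → (Fin 3 → F) → F), Cfsg.Geo.IsSymmetricForm f₁ ∧
        Cfsg.Geo.IsTensorPowerFormStructure id (QuadraticMap.polar (Cfsg.quadFormOdd 4 F)) f₁ d P ∧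
        H = Cfsg.Geo.tensorWreathSubgroup 3 2 d P ⊓ omegaGL (Cfsg.quadFormOdd 4 F) := by
    rintro ⟨-, k, t, d, P, J₀, c, -, hk3, ht, hex, hn, hJ₀, hc, hco, hle⟩
    obtain ⟨rfl, rfl⟩ : k = 3 ∧ t = 2 := by
      have ht2 : t = 2 := by
        by_contra h
        have : 3 ^ 3 ≤ k ^ t := (Nat.pow_le_pow_left hk3 3).trans (Nat.pow_le_pow_right (by omega) (by omega))
        omega
      subst ht2
      refine ⟨?_, rfl⟩
      nlinarith
    obtain ⟨P, rfl⟩ := (glReindex e (F := F)).surjective P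
    exact ⟨hq5 fun h => hex ⟨h, rfl⟩, e.trans d, P, _, symmetric_form hJ₀,
      Transport.powerForm_map e hf ⟨c, hc, fun x y => by
        rw [polar_sform hnd, sform_fcoord, hco, sform_smul_matrix, sform_gram, ← formOfGram_eq]
        rfl⟩,
      hmax _ _ (Transport.wreath_iff e d P) hle (OrthNotLe.not_le_symPower hnd (by norm_num) hodd hk3 ht hco)⟩
  have hdecomp : ODecompCase Q' (H.map (glReindex e).toMonoidHom) →
      ((Fintype.card F).Prime ∧ ∃ D : Fin 9 → Submodule F (Unit ⊕ (Fin 4 ⊕ Fin 4) → F),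
        Cfsg.Geo.IsOrthogonalMDecomposition (Cfsg.quadFormOdd 4 F) 1 D ∧
        H = decompositionStabilizer D ⊓ omegaGL (Cfsg.quadFormOdd 4 F)) ∨
      (5 ≤ Fintype.card F ∧ ∃ D : Fin 3 → Submodule F (Unit ⊕ (Fin 4 ⊕ Fin 4) → F),
        Cfsg.Geo.IsOrthogonalMDecomposition (Cfsg.quadFormOdd 4 F) 3 D ∧
        H = decompositionStabilizer D ⊓ omegaGL (Cfsg.quadFormOdd 4 F)) ∨
      (∃ (F₀ : Subfield F) (r : ℕ) (P : GL (Unit ⊕ (Fin 4 ⊕ Fin 4)) F), r.Prime ∧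
        Fintype.card F = Nat.card F₀ ^ r ∧
        Cfsg.Geo.IsQuadFormRationalStructure (Cfsg.quadFormOdd 4 F) F₀ P ∧
        H = Cfsg.Geo.subfieldSubgroup F₀ P ⊓ omegaGL (Cfsg.quadFormOdd 4 F)) := by
    rintro ⟨hirr, t, k, D, htk, hD, hle⟩
    have ht := hD.decomp.decomp.two_le
    have hk := hD.decomp.decomp.pos
    obtain ⟨rfl, rfl⟩ | ⟨rfl, rfl⟩ : t = 9 ∧ k = 1 ∨ t = 3 ∧ k = 3 := by
      have : t ∣ 9 := ⟨k, htk.symm⟩
      have : t ≤ 9 := Nat.le_of_dvd (by norm_num) this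
      interval_cases t <;> omega
    · rcases hlines D hD hle with h | h
      exacts [Or.inl h, Or.inr (Or.inr h)]
    by_cases h3 : Fintype.card F = 3
    · obtain ⟨D', hD', hle'⟩ := frame_refine hnd (by norm_num) h3 hH' hirr (by norm_num) hD hle
      rcases hlines D' hD' hle' with h | h
      exacts [Or.inl h, Or.inr (Or.inr h)]
    refine Or.inr (Or.inl ⟨hq5 h3, _, ?_, hmax _ _ (PrimeDim.Std.decomp_iff e) hle
      (OrthNotLe.not_le_decomp hnd (by norm_num) hD.decomp.decomp (Or.inl ⟨hD.decomp.orthogonal, Or.inl le_rfl⟩))⟩)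
    rw [hQ'] at hD
    exact PrimeDim.Std.orthogonalMDecomposition_map e hD
  have hred : ¬ Cfsg.Geo.ActsIrreducibly (Cfsg.Geo.matrixSet (H.map (glReindex e).toMonoidHom)) →
      (∃ W : Submodule F (Unit ⊕ (Fin 4 ⊕ Fin 4) → F), W ≠ ⊥ ∧
        Cfsg.Geo.IsTotallySingularQuad (Cfsg.quadFormOdd 4 F) W ∧
        H = subspaceStabilizer W ⊓ omegaGL (Cfsg.quadFormOdd 4 F)) ∨
      (∃ W : Submodule F (Unit ⊕ (Fin 4 ⊕ Fin 4) → F), W ≠ ⊥ ∧ Even (Module.finrank F W) ∧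
        Cfsg.Geo.IsNondegenerateOn (QuadraticMap.polar (Cfsg.quadFormOdd 4 F)) W ∧
        ¬ (Fintype.card F = 3 ∧ Module.finrank F W = 2 ∧ Cfsg.Geo.IsPlusTypeOn (Cfsg.quadFormOdd 4 F) W) ∧
        H = subspaceStabilizer W ⊓ omegaGL (Cfsg.quadFormOdd 4 F)) := by
    intro hirr
    rcases PrimeDim.orth_reducible hodd hnd ⟨4, rfl⟩ (by norm_num) hH' hirr with
      ⟨W, h0, h1, hW, hle⟩ | ⟨W, h0, h1, he, hW, hx, hle⟩
    · refine Or.inl ⟨W.map (lin e).toLinearMap, fun h => h0 (Submodule.map_eq_bot_iff.1 h), ?_,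
        hmax _ _ (PrimeDim.Std.stab_iff e) hle (OrthNotLe.not_le_stab hnd (by norm_num) h0 h1)⟩
      rintro _ ⟨w, hw, rfl⟩
      have := hW w hw
      rwa [hQ'] at this
    · have hns := OrthNotLe.not_le_stab hnd (by norm_num) h0 h1
      rw [hQ'] at hW hx
      refine Or.inr ⟨W.map (lin e).toLinearMap, fun h => h0 (Submodule.map_eq_bot_iff.1 h), ?_,
        PrimeDim.Std.nondegOn_map e hW, ?_, hmax _ _ (PrimeDim.Std.stab_iff e) hle hns⟩
      · rwa [LinearEquiv.finrank_map_eq]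
      · rintro ⟨h3, hd, hpl⟩
        rw [LinearEquiv.finrank_map_eq] at hd
        exact hx ⟨h3, hd, PrimeDim.Std.plusType_of_map e hpl⟩
  have hlift : (∃ W : Submodule F (Fin 9 → F), W ≠ ⊥ ∧ W ≠ ⊤ ∧
      H.map (glReindex e).toMonoidHom ≤ subspaceStabilizer W) →
      ¬ Cfsg.Geo.ActsIrreducibly (Cfsg.Geo.matrixSet (H.map (glReindex e).toMonoidHom)) := by
    rintro ⟨W, h0, h1, hle⟩ hirr
    rw [PrimeDim.irreducible_iff] at hirr
    rcases hirr W (by rintro _ ⟨g, hg, rfl⟩ w hw; exact ((hle hg) w).1 hw) with h | h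
    exacts [h0 h, h1 h]
  have two_dvd : ¬ 2 ∣ 9 := by norm_num
  rcases orth_structure hnd (by norm_num) hH' with ⟨W, h0, h1, -, hle⟩ | ⟨hev, -⟩ | ⟨W, h0, h1, -, hle⟩ |
    hd | ⟨-, k, D, hk, -⟩ | ⟨-, r, K, hr, hrn, hne, -, hK, hsa, hle⟩ | ⟨-, K, hK, -⟩ |
    ⟨hirr, n₁, n₂, d, P, J₁, J₂, -, h3, hle12, hn, hJ₁, hJ₂, hco, hle⟩ |
    ⟨-, n₁, n₂, d, P, J₁, J₂, -, -, hn, hJ₁, -⟩ | ⟨F₀, r, P, ζ, hr, hcard, hζ, hrat, hle⟩ | ⟨-, ⟨k, hk⟩, -⟩ |
    hp | ⟨-, k, t, d, P, J₀, c, -, ht, -, -, hn, hJ₀, -⟩ | h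
  · rcases hred (hlift ⟨W, h0, h1, hle⟩) with h | h
    exacts [Or.inl h, Or.inr (Or.inl h)]
  · exact absurd hodd hev
  · rcases hred (hlift ⟨W, h0, h1, hle⟩) with h | h
    exacts [Or.inl h, Or.inr (Or.inl h)]
  · rcases hdecomp hd with h | h | h
    exacts [Or.inr (Or.inr (Or.inl h)), Or.inr (Or.inr (Or.inr (Or.inl h))),
      Or.inr (Or.inr (Or.inr (Or.inr (Or.inr (Or.inl h)))))]
  · omega
  · obtain rfl : r = 3 := by
      have := Nat.le_of_dvd (by norm_num) hrn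
      have := hne ⟨4, rfl⟩
      have := hr.two_le
      interval_cases r <;> omega
    exact Or.inr (Or.inr (Or.inr (Or.inr (Or.inl ⟨_, Transport.field_map e hK,
      selfAdjoint_map e hf (selfAdjoint_polar hnd hsa),
      hmax _ _ (Transport.norm_iff e K) hle (OrthNotLe.not_le_normalizer hnd (by norm_num) hr.two_le hK)⟩))))
  · exact absurd (field_degree_dvd two_ne_zero hK) two_dvd
  · obtain ⟨rfl, rfl⟩ : n₁ = 3 ∧ n₂ = 3 := by
      have : n₁ ≤ 3 := by nlinarith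
      obtain rfl : n₁ = 3 := by omega
      exact ⟨rfl, by omega⟩
    rcases symTensor_square hnd hH' hirr hodd ⟨1, rfl⟩ le_rfl hJ₁ hJ₂ hco hle with h | h
    · exact Or.inr (Or.inr (Or.inr (Or.inr (Or.inr (Or.inr (Or.inl (hpow h)))))))
    · rcases hdecomp h with h | h | h
      exacts [Or.inr (Or.inr (Or.inl h)), Or.inr (Or.inr (Or.inr (Or.inl h))),
        Or.inr (Or.inr (Or.inr (Or.inr (Or.inr (Or.inl h)))))]
  · exfalso
    have := (odd_of_sympData hJ₁ h2).mul_right n₂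
    rw [hn] at this
    exact Nat.not_even_iff_odd.2 ⟨4, rfl⟩ this
  · obtain ⟨P', hrat', hle'⟩ := rational_one hodd hnd ⟨4, rfl⟩ hgram hr hcard hζ hrat hle
    obtain ⟨P₀, rfl⟩ := (glReindex e (F := F)).surjective P'
    rw [hQ'] at hrat'
    exact Or.inr (Or.inr (Or.inr (Or.inr (Or.inr (Or.inl ⟨F₀, r, P₀, hr, hcard,
      PrimeDim.Std.rational_map e hrat', hmax _ _ (Transport.subfield_iff e F₀ P₀) hle'
        (OrthNotLe.not_le_subfield hnd (by norm_num) hr hcard _)⟩)))))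
  · exfalso
    rcases k with _ | k
    · omega
    · rw [pow_succ] at hk
      omega
  · exact Or.inr (Or.inr (Or.inr (Or.inr (Or.inr (Or.inr (Or.inl (hpow hp)))))))
  · exfalso
    have := (odd_of_sympData hJ₀ h2).pow_of_ne_zero (show t ≠ 0 by omega)
    rw [hn] at this
    exact Nat.not_even_iff_odd.2 ⟨4, rfl⟩ this
  · exact Or.inr (Or.inr (Or.inr (Or.inr (Or.inr (Or.inr (Or.inr (PrimeDim.Std.residual_of_map e h)))))))

end CfsgLib.Asch.OrthOdd
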