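import Cfsg.Agent.Lib.Classical.PrimeDimOrthStd
import Cfsg.Agent.Lib.Classical.AschFormBasic

set_option autoImplicit false
set_option linter.unusedSectionVars false

/-!
Carrying structures along a bijection of index types.
-/

namespace CfsgLib.Asch.Transport

open Matrix
open Cfsg.Geo (matrixSet scalars ActsIrreducibly ActsAbsolutelyIrreducibly glReindex subspaceStabilizer
  decompositionStabilizer subalgebraNormalizer tensorProductSubgroup tensorWreathSubgroup subgroupNormalizer
  similarityGroup quadSimilarityGroup)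
open CfsgLib.PrimeDim.Std (lin lin_apply lin_symm_apply reindex_apply lin_mulVec mulVec_lin_symm mem_map scalars_iff)
open scoped MatrixGroups Kronecker

variable {F : Type*} [Field F] {ι κ : Type} [Fintype ι] [DecidableEq ι] [Fintype κ] [DecidableEq κ] (e : ι ≃ κ)

theorem lin_mulVec_mat (X : Matrix ι ι F) (v : κ → F) :
    lin e (Matrix.reindexAlgEquiv F F e X *ᵥ v) = X *ᵥ lin e v := by
  funext i
  rw [lin_apply]
  simp only [mulVec, dotProduct, lin_apply, Matrix.reindexAlgEquiv_apply, Matrix.reindex_apply,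
    Matrix.submatrix_apply, Equiv.symm_apply_apply]
  exact (Equiv.sum_comp e _).symm.trans (Finset.sum_congr rfl fun j _ => by simp)

theorem reindex_val (g : GL ι F) :
    ((glReindex e g : GL κ F) : Matrix κ κ F) = Matrix.reindexAlgEquiv F F e (g : Matrix ι ι F) := rfl

theorem mem_of_map_le {H M : Subgroup (GL ι F)} {M' : Subgroup (GL κ F)}
    (hM : ∀ g, g ∈ M ↔ glReindex e g ∈ M') (hle : H.map (glReindex e).toMonoidHom ≤ M') : H ≤ M :=
  fun g hg => (hM g).2 (hle ((mem_map e).2 hg))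

variable {f : (ι → F) → (ι → F) → F} {f' : (κ → F) → (κ → F) → F}

theorem ts_map (hf : ∀ u v, f' u v = f (lin e u) (lin e v)) {W : Submodule F (κ → F)}
    (h : Cfsg.Geo.IsTotallySingularFor f' W) : Cfsg.Geo.IsTotallySingularFor f (W.map (lin e).toLinearMap) := by
  rintro _ ⟨u, hu, rfl⟩ _ ⟨v, hv, rfl⟩
  exact (hf u v).symm.trans (h u hu v hv)

theorem ndOn_map (hf : ∀ u v, f' u v = f (lin e u) (lin e v)) {W : Submodule F (κ → F)}
    (h : Cfsg.Geo.IsNondegenerateOn f' W) : Cfsg.Geo.IsNondegenerateOn f (W.map (lin e).toLinearMap) := by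
  rintro _ ⟨w, hw, rfl⟩ hw0
  obtain ⟨⟨x, hx, hxw⟩, ⟨y, hy, hwy⟩⟩ := h w hw fun e0 => hw0 (by simp [e0])
  rw [hf] at hxw hwy
  exact ⟨⟨_, ⟨x, hx, rfl⟩, hxw⟩, ⟨_, ⟨y, hy, rfl⟩, hwy⟩⟩

theorem mdecomp_map {t k : ℕ} {D : Fin t → Submodule F (κ → F)} (h : Cfsg.Geo.IsMDecomposition k D) :
    Cfsg.Geo.IsMDecomposition k fun i => (D i).map (lin e).toLinearMap :=
  ⟨h.two_le, h.pos, fun i => by rw [LinearEquiv.finrank_map_eq, h.finrank_eq],
    h.indep.map_orderIso (Submodule.orderIsoMapComap (lin e)), by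
    rw [← Submodule.map_iSup, h.iSup_eq_top, Submodule.map_top, LinearEquiv.range]⟩

theorem ndDecomp_map (hf : ∀ u v, f' u v = f (lin e u) (lin e v)) {t k : ℕ} {D : Fin t → Submodule F (κ → F)}
    (h : Cfsg.Geo.IsNondegenerateMDecomposition f' k D) :
    Cfsg.Geo.IsNondegenerateMDecomposition f k fun i => (D i).map (lin e).toLinearMap := by
  refine ⟨mdecomp_map e h.decomp, fun i => ndOn_map e hf (h.nondegenerate i), fun i j hij => ?_⟩
  rintro _ ⟨u, hu, rfl⟩ _ ⟨v, hv, rfl⟩
  exact (hf u v).symm.trans (h.orthogonal i j hij u hu v hv)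

/-! ### Fields -/

/-- The pull-back of a subalgebra. -/
def algMap (K : Subalgebra F (Matrix κ κ F)) : Subalgebra F (Matrix ι ι F) :=
  K.comap (Matrix.reindexAlgEquiv F F e).toAlgHom

theorem mem_algMap {K : Subalgebra F (Matrix κ κ F)} {X : Matrix ι ι F} :
    X ∈ algMap e K ↔ Matrix.reindexAlgEquiv F F e X ∈ K := Iff.rfl

theorem norm_iff (K : Subalgebra F (Matrix κ κ F)) (g : GL ι F) :
    g ∈ subalgebraNormalizer (algMap e K) ↔ glReindex e g ∈ subalgebraNormalizer K := by
  have hkey : ∀ X, Matrix.reindexAlgEquiv F F e ((g : Matrix ι ι F) * X * (↑g⁻¹ : Matrix ι ι F)) =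
      ((glReindex e g : GL κ F) : Matrix κ κ F) * Matrix.reindexAlgEquiv F F e X *
        (((glReindex e g)⁻¹ : GL κ F) : Matrix κ κ F) := fun X => by
    rw [map_mul, map_mul, ← map_inv, reindex_val, reindex_val]
  constructor
  · intro h k
    have := h ((Matrix.reindexAlgEquiv F F e).symm k)
    rwa [mem_algMap, mem_algMap, hkey, AlgEquiv.apply_symm_apply] at this
  · intro h X
    rw [mem_algMap, mem_algMap, hkey]
    exact h _

theorem field_map {r : ℕ} {K : Subalgebra F (Matrix κ κ F)} (h : Cfsg.Geo.IsFieldSubalgebra r K) :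
    Cfsg.Geo.IsFieldSubalgebra r (algMap e K) := by
  refine ⟨fun x hx y hy => (Matrix.reindexAlgEquiv F F e).injective ?_, fun x hx hx0 => ?_, ?_⟩
  · rw [map_mul, map_mul]
    exact h.comm _ hx _ hy
  · obtain ⟨y, hy, hxy⟩ := h.inv _ hx (fun e0 => hx0 ((Matrix.reindexAlgEquiv F F e).injective (e0.trans (map_zero _).symm)))
    refine ⟨(Matrix.reindexAlgEquiv F F e).symm y, ?_, (Matrix.reindexAlgEquiv F F e).injective ?_⟩
    · rwa [mem_algMap, AlgEquiv.apply_symm_apply]
    · rw [map_mul, map_one, AlgEquiv.apply_symm_apply]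
      exact hxy
  · rw [← h.finrank_eq]
    have e2 : algMap e K = K.map (Matrix.reindexAlgEquiv F F e).symm.toAlgHom := by
      ext X
      rw [mem_algMap, Subalgebra.mem_map]
      constructor
      · exact fun hX => ⟨_, hX, AlgEquiv.symm_apply_apply _ _⟩
      · rintro ⟨Y, hY, rfl⟩
        simpa using hY
    rw [e2]
    exact (Subalgebra.equivMapOfInjective K _ (Matrix.reindexAlgEquiv F F e).symm.injective).toLinearEquiv.finrank_eq.symm

/-! ### Tensor products -/

theorem glReindex_comp {μ : Type} [Fintype μ] [DecidableEq μ] (d : κ ≃ μ) (g : GL ι F) :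
    glReindex d (glReindex e g) = glReindex (e.trans d) g := Units.ext (Matrix.ext fun _ _ => rfl)

theorem glReindex_symm (g : GL κ F) : glReindex e (glReindex e.symm g) = g :=
  Units.ext (Matrix.ext fun a b => by
    rw [PrimeDim.Std.reindex_apply e, PrimeDim.Std.reindex_apply e.symm]
    simp)

theorem map_conj_reindex (P : GL ι F) (X : Subgroup (GL ι F)) :
    (X.map (MulAut.conj P).toMonoidHom).map (glReindex e).toMonoidHom =
      (X.map (glReindex e).toMonoidHom).map (MulAut.conj (glReindex e P)).toMonoidHom := by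
  rw [Subgroup.map_map, Subgroup.map_map]
  congr 1
  exact MonoidHom.ext fun g => by simp

theorem map_reindex_reindex {μ : Type} [Fintype μ] [DecidableEq μ] (d : μ ≃ κ) (X : Subgroup (GL μ F)) :
    (X.map (glReindex (d.trans e.symm)).toMonoidHom).map (glReindex e).toMonoidHom =
      X.map (glReindex d).toMonoidHom := by
  rw [Subgroup.map_map]
  congr 1
  refine MonoidHom.ext fun g => ?_
  show glReindex e (glReindex (d.trans e.symm) g) = _
  rw [← glReindex_comp, glReindex_symm]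
  rfl

theorem tensor_iff {n₁ n₂ : ℕ} (d : κ ≃ Fin n₁ × Fin n₂) (P : GL ι F) (g : GL ι F) :
    g ∈ tensorProductSubgroup n₁ n₂ (e.trans d) P ↔
      glReindex e g ∈ tensorProductSubgroup n₁ n₂ d (glReindex e P) := by
  rw [← mem_map e]
  have : (tensorProductSubgroup (F := F) n₁ n₂ (e.trans d) P).map (glReindex e).toMonoidHom =
      tensorProductSubgroup n₁ n₂ d (glReindex e P) := by
    rw [tensorProductSubgroup, map_conj_reindex, show (e.trans d).symm = d.symm.trans e.symm from rfl,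
      map_reindex_reindex]
    rfl
  rw [this]

theorem wreath_iff {m t : ℕ} (d : κ ≃ (Fin t → Fin m)) (P : GL ι F) (g : GL ι F) :
    g ∈ tensorWreathSubgroup m t (e.trans d) P ↔
      glReindex e g ∈ tensorWreathSubgroup m t d (glReindex e P) := by
  rw [← mem_map e]
  have : (tensorWreathSubgroup (F := F) m t (e.trans d) P).map (glReindex e).toMonoidHom =
      tensorWreathSubgroup m t d (glReindex e P) := by
    rw [tensorWreathSubgroup, map_conj_reindex, show (e.trans d).symm = d.symm.trans e.symm from rfl,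
      map_reindex_reindex]
    rfl
  rw [this]

theorem coord_vec {μ : Type} (d : κ ≃ μ) (P : GL ι F) (x : μ → F) :
    (P : Matrix ι ι F) *ᵥ (x ∘ e.trans d) = lin e (((glReindex e P : GL κ F) : Matrix κ κ F) *ᵥ (x ∘ d)) := by
  rw [lin_mulVec]
  rfl

theorem tensorForm_map (hf : ∀ u v, f' u v = f (lin e u) (lin e v)) {σ : F → F} {n₁ n₂ : ℕ}
    {f₁ : (Fin n₁ → F) → (Fin n₁ → F) → F} {f₂ : (Fin n₂ → F) → (Fin n₂ → F) → F}
    {d : κ ≃ Fin n₁ × Fin n₂} {P : GL ι F}
    (h : Cfsg.Geo.IsTensorFormStructure σ f' f₁ f₂ d (glReindex e P)) :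
    Cfsg.Geo.IsTensorFormStructure σ f f₁ f₂ (e.trans d) P := by
  obtain ⟨c, hc, hxy⟩ := h
  exact ⟨c, hc, fun x y => by rw [coord_vec, coord_vec, ← hf, hxy]⟩

theorem powerForm_map (hf : ∀ u v, f' u v = f (lin e u) (lin e v)) {σ : F → F} {k t : ℕ}
    {f₁ : (Fin k → F) → (Fin k → F) → F} {d : κ ≃ (Fin t → Fin k)} {P : GL ι F}
    (h : Cfsg.Geo.IsTensorPowerFormStructure σ f' f₁ d (glReindex e P)) :
    Cfsg.Geo.IsTensorPowerFormStructure σ f f₁ (e.trans d) P := by
  obtain ⟨c, hc, hxy⟩ := h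
  exact ⟨c, hc, fun x y => by rw [coord_vec, coord_vec, ← hf, hxy]⟩

/-! ### Subfields -/

theorem subfield_iff (F₀ : Subfield F) (P : GL ι F) (g : GL ι F) :
    g ∈ Cfsg.Geo.subfieldSubgroup F₀ P ↔ glReindex e g ∈ Cfsg.Geo.subfieldSubgroup F₀ (glReindex e P) := by
  rw [← PrimeDim.Std.subfield_map, mem_map]

theorem rational_map (hf : ∀ u v, f' u v = f (lin e u) (lin e v)) {F₀ : Subfield F} {ζ : F} {P : GL ι F}
    (h : Cfsg.Geo.IsFormRationalStructure f' F₀ ζ (glReindex e P)) :
    Cfsg.Geo.IsFormRationalStructure f F₀ ζ P := by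
  intro u v hu hv
  have := h ((lin e).symm u) ((lin e).symm v) (fun k => hu (e.symm k)) (fun k => hv (e.symm k))
  rwa [hf, lin_mulVec, lin_mulVec, LinearEquiv.apply_symm_apply, LinearEquiv.apply_symm_apply] at this

/-! ### Groups -/

/-- The pull-back of a subgroup. -/
def grpMap (R : Subgroup (GL κ F)) : Subgroup (GL ι F) := R.comap (glReindex e).toMonoidHom

theorem mem_grpMap {R : Subgroup (GL κ F)} {g : GL ι F} : g ∈ grpMap e R ↔ glReindex e g ∈ R := Iff.rfl

/-- The pull-back is isomorphic to the group. -/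
noncomputable def grpEquiv (R : Subgroup (GL κ F)) : grpMap e R ≃* R :=
  MulEquiv.ofBijective
    ({ toFun := fun x => ⟨glReindex e x.1, x.2⟩
       map_one' := Subtype.ext (map_one _)
       map_mul' := fun _ _ => Subtype.ext (map_mul _ _ _) } : grpMap e R →* R)
    ⟨fun _ _ h => Subtype.ext ((glReindex e).injective (congrArg Subtype.val h)), fun y =>
      ⟨⟨glReindex e.symm y.1, by rw [mem_grpMap, glReindex_symm]; exact y.2⟩, Subtype.ext (glReindex_symm e _)⟩⟩

theorem normalizer_iff (R : Subgroup (GL κ F)) (g : GL ι F) :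
    g ∈ subgroupNormalizer (grpMap e R) ↔ glReindex e g ∈ subgroupNormalizer R := by
  rw [subgroupNormalizer, subgroupNormalizer, Subgroup.mem_normalizer_iff, Subgroup.mem_normalizer_iff]
  constructor
  · intro h k
    have := h (glReindex e.symm k)
    simp only [mem_grpMap, map_mul, map_inv, glReindex_symm] at this
    exact this
  · intro h k
    simp only [mem_grpMap, map_mul, map_inv]
    exact h _

theorem sympType_map {r : ℕ} {R : Subgroup (GL κ F)} (h : Cfsg.Geo.IsSymplecticTypeGroup r R) :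
    Cfsg.Geo.IsSymplecticTypeGroup r (grpMap e R) := by
  refine ⟨h.prime, h.pGroup.of_equiv (grpEquiv e R).symm, fun A hA hc => ?_, ?_⟩
  · let φ := grpEquiv e R
    haveI hA' : (A.map φ.toMonoidHom).Characteristic := by
      refine Subgroup.characteristic_iff_map_eq.2 fun ψ => ?_
      have h1 := Subgroup.characteristic_iff_map_eq.1 hA ((φ.trans ψ).trans φ.symm)
      conv_rhs => rw [← h1]
      rw [Subgroup.map_map, Subgroup.map_map]
      congr 1
      exact MonoidHom.ext fun x => by simp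
    haveI hc' : IsMulCommutative (A.map φ.toMonoidHom) := ⟨⟨by
      rintro ⟨_, a, ha, rfl⟩ ⟨_, b, hb, rfl⟩
      refine Subtype.ext ?_
      show φ a * φ b = φ b * φ a
      rw [← map_mul, ← map_mul]
      congr 1
      exact congrArg Subtype.val (hc.is_comm.comm (⟨a, ha⟩ : A) ⟨b, hb⟩)⟩⟩
    haveI := h.cyclic_of_characteristic _ hA' hc'
    let ψ : A ≃* A.map φ.toMonoidHom := A.equivMapOfInjective _ φ.injective
    exact isCyclic_of_surjective ψ.symm ψ.symm.surjective
  · rw [Monoid.exponent_eq_of_mulEquiv (grpEquiv e R), h.exponent_eq]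

theorem card_grpMap (R : Subgroup (GL κ F)) : Nat.card (grpMap e R) = Nat.card R :=
  Nat.card_congr (grpEquiv e R).toEquiv

theorem card_center_grpMap (R : Subgroup (GL κ F)) :
    Nat.card (Subgroup.center (grpMap e R)) = Nat.card (Subgroup.center R) :=
  Nat.card_congr (Subgroup.centerCongr (grpEquiv e R)).toEquiv

theorem minus_map {k : ℕ} {R : Subgroup (GL κ F)} (h : Cfsg.Geo.IsOfMinusType k R) :
    Cfsg.Geo.IsOfMinusType k (grpMap e R) := by
  intro A hc hA
  let φ := grpEquiv e R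
  have := h (A.map φ.toMonoidHom) ⟨⟨by
      rintro ⟨_, a, ha, rfl⟩ ⟨_, b, hb, rfl⟩
      refine Subtype.ext ?_
      show φ a * φ b = φ b * φ a
      rw [← map_mul, ← map_mul]
      congr 1
      exact congrArg Subtype.val (hc.is_comm.comm (⟨a, ha⟩ : A) ⟨b, hb⟩)⟩⟩ (by
    rintro _ ⟨a, ha, rfl⟩
    show φ a * φ a = 1
    rw [← map_mul, hA a ha, map_one])
  rwa [Subgroup.card_map_of_injective φ.injective] at this

theorem absIrred_map {R : Subgroup (GL κ F)} (h : ActsAbsolutelyIrreducibly (matrixSet R)) :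
    ActsAbsolutelyIrreducibly (matrixSet (grpMap e R)) := by
  have hmem : ∀ {y : GL κ F}, y ∈ R → (glReindex e.symm y : Matrix ι ι F) ∈ matrixSet (grpMap e R) :=
    fun {y} hy => ⟨glReindex e.symm y, by rw [SetLike.mem_coe, mem_grpMap, glReindex_symm]; exact hy, rfl⟩
  obtain ⟨hirr, hcomm⟩ := h
  refine ⟨fun W hW => ?_, fun M hM => ?_⟩
  · have hW' : ∀ s ∈ matrixSet R,
        (W.map (lin e).symm.toLinearMap).map (Matrix.toLin' s) ≤ W.map (lin e).symm.toLinearMap := by
      rintro _ ⟨y, hy, rfl⟩ _ ⟨_, ⟨w, hw, rfl⟩, rfl⟩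
      refine ⟨(glReindex e.symm y : Matrix ι ι F) *ᵥ w, hW _ (hmem hy) ⟨w, hw, Matrix.toLin'_apply _ _⟩, ?_⟩
      rw [LinearEquiv.coe_coe, ← mulVec_lin_symm, glReindex_symm, Matrix.toLin'_apply]
    rcases hirr _ hW' with h0 | h0
    · exact Or.inl (Submodule.map_eq_bot_iff.1 h0)
    · refine Or.inr (Submodule.map_injective_of_injective (lin e).symm.injective ?_)
      rw [h0, Submodule.map_top, LinearEquiv.range]
  · obtain ⟨c, hc⟩ := hcomm (Matrix.reindexAlgEquiv F F e M) (by
      rintro _ ⟨y, hy, rfl⟩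
      show Matrix.reindexAlgEquiv F F e M * (y : Matrix κ κ F) = (y : Matrix κ κ F) * Matrix.reindexAlgEquiv F F e M
      rw [← glReindex_symm e y, reindex_val, ← map_mul, ← map_mul, hM _ (hmem hy)])
    exact ⟨c, (Matrix.reindexAlgEquiv F F e).injective (by rw [hc, map_smul, map_one])⟩

theorem sim_map (hf : ∀ u v, f' u v = f (lin e u) (lin e v)) {R : Subgroup (GL κ F)}
    (h : R ≤ similarityGroup f') : grpMap e R ≤ similarityGroup f := by
  intro g hg
  obtain ⟨c, hc⟩ := h hg
  refine ⟨c, fun u v => ?_⟩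
  have := hc ((lin e).symm u) ((lin e).symm v)
  rwa [hf, hf, show (glReindex e).toMonoidHom g = glReindex e g from rfl, lin_mulVec, lin_mulVec,
    LinearEquiv.apply_symm_apply, LinearEquiv.apply_symm_apply] at this

/-! ### Quadratic forms -/

theorem quad_iff (Q : (κ → F) → F) (g : GL ι F) :
    g ∈ quadSimilarityGroup (Q ∘ (lin e).symm) ↔ glReindex e g ∈ quadSimilarityGroup Q := by
  constructor
  · rintro ⟨c, hc⟩
    refine ⟨c, fun v => ?_⟩
    have h := hc (lin e v)
    simp only [Function.comp_apply, LinearEquiv.symm_apply_apply] at h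
    rw [← mulVec_lin_symm, LinearEquiv.symm_apply_apply] at h
    exact h
  · rintro ⟨c, hc⟩
    refine ⟨c, fun v => ?_⟩
    simp only [Function.comp_apply]
    rw [← mulVec_lin_symm]
    exact hc _

theorem quad_map {Q : (κ → F) → F} (h : Cfsg.Geo.IsNondegenerateQuadraticForm Q) :
    Cfsg.Geo.IsNondegenerateQuadraticForm (Q ∘ (lin e).symm) := by
  have hp : ∀ u v, QuadraticMap.polar (Q ∘ (lin e).symm) u v = QuadraticMap.polar Q ((lin e).symm u) ((lin e).symm v) :=
    fun u v => by simp [QuadraticMap.polar]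
  refine ⟨fun c v => by simp [h.smul], ⟨fun x y v => ?_, fun c x v => ?_, fun v x y => ?_, fun c v x => ?_⟩,
    fun v hv => ?_⟩
  · rw [hp, hp, hp, map_add, h.polar_bilinear.add_left]
  · rw [hp, hp, map_smul, h.polar_bilinear.smul_left]
  · rw [hp, hp, hp, map_add, h.polar_bilinear.add_right]
  · rw [hp, hp, map_smul, h.polar_bilinear.smul_right]
  · obtain ⟨⟨x, hx⟩, ⟨y, hy⟩⟩ := h.nondegenerate ((lin e).symm v) fun e0 => hv ((lin e).symm.map_eq_zero_iff.1 e0)
    exact ⟨⟨lin e x, by rwa [hp, LinearEquiv.symm_apply_apply]⟩,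
      ⟨lin e y, by rwa [hp, LinearEquiv.symm_apply_apply]⟩⟩

/-! ### The residual class -/

theorem core_of_map {H : Subgroup (GL ι F)} {P' : Subgroup (GL κ F)}
    (h : Cfsg.Geo.IsResidualCore (H.map (glReindex e).toMonoidHom) P') :
    Cfsg.Geo.IsResidualCore H (grpMap e P') := by
  classical
  obtain ⟨hle, hnorm, hperf, hsimple, hnab, hcen, habs, hsub⟩ := h
  let ψ : grpMap e P' ≃* P' := grpEquiv e P'
  let qe : grpMap e P' ⧸ (scalars ι F).subgroupOf (grpMap e P') ≃* P' ⧸ (scalars κ F).subgroupOf P' :=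
    QuotientGroup.congr _ _ ψ (by
      ext x
      obtain ⟨x, rfl⟩ := ψ.surjective x
      rw [Subgroup.mem_subgroupOf]
      show _ ↔ glReindex e (x : GL ι F) ∈ scalars κ F
      rw [scalars_iff, ← Subgroup.mem_subgroupOf]
      exact Subgroup.mem_map_iff_mem ψ.injective)
  haveI := hsimple
  refine ⟨fun g hg => ?_, fun g hg x hx => ?_, ?_, ?_, ?_, fun g hg hx => ?_, absIrred_map e habs,
    fun F₀ h0 hr => hsub F₀ h0 ?_⟩
  · exact (mem_map e).1 (hle hg)
  · rw [mem_grpMap, map_mul, map_mul, map_inv]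
    exact hnorm _ ((mem_map e).2 hg) _ hx
  · apply Subgroup.map_injective (glReindex e (F := F)).injective
    show Subgroup.map (glReindex e).toMonoidHom ⁅grpMap e P', grpMap e P'⁆ = _
    have e1 : (grpMap e P').map (glReindex e).toMonoidHom = P' :=
      Subgroup.map_comap_eq_self_of_surjective (glReindex e).surjective P'
    rw [Subgroup.map_commutator, e1]
    exact hperf.trans e1.symm
  · exact qe.isSimpleGroup
  · intro hc
    exact hnab ⟨⟨fun a b => qe.symm.injective (by rw [map_mul, map_mul]; exact hc.is_comm.comm _ _)⟩⟩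
  · refine (scalars_iff e g).1 (hcen _ ((mem_map e).2 hg) ?_)
    intro x hxP
    rw [← glReindex_symm e x, ← map_mul, ← map_inv, ← map_mul, ← map_inv, ← map_mul, scalars_iff]
    exact hx _ (by rw [mem_grpMap, glReindex_symm]; exact hxP)
  · obtain ⟨C, hC⟩ := hr
    refine ⟨glReindex e C, ?_⟩
    rintro _ ⟨x, hx, rfl⟩ a b
    have h2 : (glReindex e C : Matrix κ κ F) * (x : Matrix κ κ F) * ((glReindex e C)⁻¹ : GL κ F) =
        (glReindex e (C * glReindex e.symm x * C⁻¹) : Matrix κ κ F) := by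
      rw [map_mul, map_mul, map_inv, Units.val_mul, Units.val_mul, glReindex_symm]
    rw [h2, PrimeDim.Std.reindex_apply, Units.val_mul, Units.val_mul]
    exact hC _ ⟨glReindex e.symm x, by rw [SetLike.mem_coe, mem_grpMap, glReindex_symm]; exact hx, rfl⟩ _ _

theorem fixesQuad_map {P' : Subgroup (GL κ F)}
    (h : ∃ Q, Cfsg.Geo.IsNondegenerateQuadraticForm Q ∧ Cfsg.Geo.FixesQuadForm (matrixSet (grpMap e P')) Q) :
    ∃ Q, Cfsg.Geo.IsNondegenerateQuadraticForm Q ∧ Cfsg.Geo.FixesQuadForm (matrixSet P') Q := by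
  obtain ⟨Q, hQ, hfix⟩ := h
  refine ⟨Q ∘ lin e, ?_, ?_⟩
  · have h1 : Q ∘ lin e = Q ∘ (lin e.symm).symm := funext fun v => congrArg Q (funext fun i => by
      simp [lin_apply, lin_symm_apply])
    rw [h1]
    exact quad_map e.symm hQ
  · rintro _ ⟨x, hx, rfl⟩ v
    simp only [Function.comp_apply]
    rw [← glReindex_symm e x, lin_mulVec]
    exact hfix _ ⟨_, by rw [SetLike.mem_coe, mem_grpMap, glReindex_symm]; exact hx, rfl⟩ _

theorem fixesUnitary_map {P' : Subgroup (GL κ F)}
    (h : ∃ σ f, Cfsg.Geo.IsUnitaryForm σ f ∧ Cfsg.Geo.FixesForm (matrixSet (grpMap e P')) f) :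
    ∃ σ f, Cfsg.Geo.IsUnitaryForm σ f ∧ Cfsg.Geo.FixesForm (matrixSet P') f := by
  obtain ⟨σ, f, hf, hfix⟩ := h
  refine ⟨σ, fun u v => f (lin e u) (lin e v), ⟨hf.ne_refl, hf.involutive,
    fun x y v => by rw [map_add, hf.add_left], fun c x v => by rw [map_smul, hf.smul_left],
    fun v w => hf.herm _ _, fun v hv => ?_⟩, ?_⟩
  · obtain ⟨⟨x, hx⟩, ⟨y, hy⟩⟩ := hf.nondegenerate (lin e v) fun e0 => hv ((lin e).map_eq_zero_iff.1 e0)
    exact ⟨⟨(lin e).symm x, by rwa [LinearEquiv.apply_symm_apply]⟩,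
      ⟨(lin e).symm y, by rwa [LinearEquiv.apply_symm_apply]⟩⟩
  · rintro _ ⟨x, hx, rfl⟩ u v
    rw [← glReindex_symm e x]
    simp only [lin_mulVec]
    exact hfix _ ⟨_, by rw [SetLike.mem_coe, mem_grpMap, glReindex_symm]; exact hx, rfl⟩ _ _

theorem symplecticResidual_of_map {H : Subgroup (GL ι F)}
    (h : Cfsg.Geo.InSymplecticResidualClass (H.map (glReindex e).toMonoidHom)) :
    Cfsg.Geo.InSymplecticResidualClass H := by
  obtain ⟨P', hcore, hq, hu⟩ := h
  exact ⟨grpMap e P', core_of_map e hcore, fun h => hq (fixesQuad_map e h), fun h => hu (fixesUnitary_map e h)⟩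

end CfsgLib.Asch.Transport
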