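import Cfsg.Agent.Lib.Classical.AschOrth
import Cfsg.Agent.Lib.Classical.AschTransport

set_option autoImplicit false
set_option linter.unusedSectionVars false

/-!
Subgroups of the commutator subgroup of the standard orthogonal group in odd dimension: the classes.
-/

namespace CfsgLib.Asch.OrthOdd

open Matrix
open Cfsg.Geo (subspaceStabilizer decompositionStabilizer subalgebraNormalizer glReindex omegaGL)
open CfsgLib.Orth (Nondeg)
open CfsgLib.PrimeDim (sc sc_comm)
open CfsgLib.PrimeDim.Std (lin lin_apply mem_map)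
open scoped MatrixGroups Kronecker

variable {F : Type*} [Field F] [Fintype F] {m : ℕ}

local notation "τ₁" => RingEquiv.refl F

theorem omega_le_isometry {ι : Type} [Fintype ι] [DecidableEq ι] (Q : (ι → F) → F) :
    omegaGL Q ≤ Cfsg.isometryGroup F Q := Subgroup.map_subtype_le _

theorem odd_of_sympData {k : ℕ} {J : Matrix (Fin k) (Fin k) F} (hJ : SympData J) (h2 : (2 : F) ≠ 0) : Even k := by
  by_contra hk
  have h := congrArg Matrix.det hJ.data.herm
  rw [bm_refl, Matrix.det_transpose, Matrix.det_smul, Fintype.card_fin, (Nat.not_even_iff_odd.1 hk).neg_one_pow] at h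
  exact mul_ne_zero h2 hJ.data.det.ne_zero (by linear_combination h)

/-- A subfield group for a multiple of the form is one for the form itself, in odd dimension. -/
theorem rational_one {n : ℕ} {Q : QuadraticForm F (Fin n → F)} (hodd : Odd (Fintype.card F)) (hB : Nondeg Q)
    (hn : Odd n) (hgram : ∀ (F₁ : Subfield F) i j, QuadraticMap.polar ⇑Q (Pi.single i 1) (Pi.single j 1) ∈ F₁)
    {F₁ : Subfield F} {r : ℕ} (hr : r.Prime) (hcard : Fintype.card F = Nat.card F₁ ^ r) {P : GL (Fin n) F} {ζ : F}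
    (hζ : ζ ≠ 0) (hrat : Cfsg.Geo.IsQuadFormRationalStructure (fun v => ζ * Q v) F₁ P)
    {H : Subgroup (GL (Fin n) F)} (hle : H ≤ Cfsg.Geo.subfieldSubgroup F₁ P) :
    ∃ P' : GL (Fin n) F, Cfsg.Geo.IsQuadFormRationalStructure ⇑Q F₁ P' ∧
      H ≤ Cfsg.Geo.subfieldSubgroup F₁ P' := by
  obtain ⟨e, he⟩ := PrimeDim.rescale hodd hB hn hgram hr hcard hζ hrat
  refine ⟨P * sc e, he, fun g hg => ?_⟩
  obtain ⟨x, hx, rfl⟩ := hle hg
  refine ⟨x, hx, ?_⟩
  simp only [MulEquiv.coe_toMonoidHom, MulAut.conj_apply]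
  rw [mul_assoc P (sc e) x, sc_comm, _root_.mul_inv_rev]
  simp [mul_assoc]

theorem selfAdjoint_map {ι κ : Type} [Fintype ι] [DecidableEq ι] [Fintype κ] [DecidableEq κ] (e : ι ≃ κ)
    {f : (ι → F) → (ι → F) → F} {f' : (κ → F) → (κ → F) → F} (hf : ∀ u v, f' u v = f (lin e u) (lin e v))
    {K : Subalgebra F (Matrix κ κ F)} (h : Cfsg.Geo.IsSelfAdjointFor f' K) :
    Cfsg.Geo.IsSelfAdjointFor f (Transport.algMap e K) := by
  intro k hk u v
  have hk' : Matrix.reindexAlgEquiv F F e k ∈ K := hk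
  have := h _ hk' ((lin e).symm u) ((lin e).symm v)
  simpa only [hf, Transport.lin_mulVec_mat, LinearEquiv.apply_symm_apply] using this

/-- Aschbacher's theorem for the standard orthogonal group in odd dimension. -/
theorem orth_odd_class (hodd : Odd (Fintype.card F)) (hm : 3 ≤ m)
    {H : Subgroup (GL (Unit ⊕ (Fin m ⊕ Fin m)) F)} (hH : H ≤ omegaGL (Cfsg.quadFormOdd m F)) :
    (∃ M : Subgroup (GL (Unit ⊕ (Fin m ⊕ Fin m)) F), Cfsg.Geo.InOrthogonalOddClass m F M ∧ H ≤ M) ∨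
      Cfsg.Geo.InOrthogonalResidualClass H := by
  classical
  have h2 : (2 : F) ≠ 0 := PrimeDim.two_ne_zero_of_odd hodd
  let e : Unit ⊕ (Fin m ⊕ Fin m) ≃ Fin (2 * m + 1) := Fintype.equivFinOfCardEq (by simp; omega)
  let pr : Unit ⊕ (Fin m ⊕ Fin m) → ((Unit ⊕ (Fin m ⊕ Fin m) → F) →ₗ[F] F) := fun i => LinearMap.proj i
  let Q₁ : QuadraticForm F (Unit ⊕ (Fin m ⊕ Fin m) → F) :=
    QuadraticMap.linMulLin (pr (.inl ())) (pr (.inl ())) +
      ∑ i : Fin m, QuadraticMap.linMulLin (pr (.inr (.inl i))) (pr (.inr (.inr i)))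
  have hQ₁ : ⇑Q₁ = Cfsg.quadFormOdd m F := funext fun v => by
    simp [Q₁, pr, Cfsg.quadFormOdd, pow_two]
  let Q' : QuadraticForm F (Fin (2 * m + 1) → F) := Q₁.comp (lin e).toLinearMap
  have hQ' : ⇑Q' = Cfsg.quadFormOdd m F ∘ lin e := funext fun v => by
    simp [Q', ← hQ₁]
  have hpol : ∀ x y : Unit ⊕ (Fin m ⊕ Fin m) → F, QuadraticMap.polar (Cfsg.quadFormOdd m F) x y =
      2 * x (.inl ()) * y (.inl ()) +
        ∑ i : Fin m, (x (.inr (.inl i)) * y (.inr (.inr i)) + x (.inr (.inr i)) * y (.inr (.inl i))) := by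
    intro x y
    simp only [QuadraticMap.polar, Cfsg.quadFormOdd, Pi.add_apply, add_mul, mul_add, Finset.sum_add_distrib]
    rw [show (∑ i : Fin m, y (.inr (.inl i)) * x (.inr (.inr i))) =
      ∑ i : Fin m, x (.inr (.inr i)) * y (.inr (.inl i)) from Finset.sum_congr rfl fun i _ => mul_comm _ _]
    ring
  have hf : ∀ u v, QuadraticMap.polar ⇑Q' u v = QuadraticMap.polar (Cfsg.quadFormOdd m F) (lin e u) (lin e v) := by
    intro u v
    rw [hQ', PrimeDim.Std.polar_lin]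
  have hnd : Nondeg Q' := by
    intro x hx
    have hx' : ∀ y, QuadraticMap.polar (Cfsg.quadFormOdd m F) (lin e x) y = 0 := fun y => by
      have := hx ((lin e).symm y)
      rwa [hf, LinearEquiv.apply_symm_apply] at this
    refine (lin e).map_eq_zero_iff.1 (funext fun i => ?_)
    rcases i with ⟨⟩ | i | i
    · have h := hx' (Pi.single (.inl ()) 1)
      rw [hpol] at h
      simp [Pi.single_apply] at h
      exact h.resolve_left h2
    · have h := hx' (Pi.single (.inr (.inr i)) 1)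
      rw [hpol] at h
      simpa [Pi.single_apply] using h
    · have h := hx' (Pi.single (.inr (.inl i)) 1)
      rw [hpol] at h
      simpa [Pi.single_apply] using h
  have hgram : ∀ (F₁ : Subfield F) i j,
      QuadraticMap.polar ⇑Q' (Pi.single i 1) (Pi.single j 1) ∈ F₁ := by
    intro F₁ i j
    have hs : ∀ (i : Fin (2 * m + 1)) k, lin e (Pi.single i (1 : F)) k ∈ F₁ := fun i k => by
      rw [lin_apply, Pi.single_apply]
      split
      exacts [F₁.one_mem, F₁.zero_mem]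
    rw [hf, hpol]
    refine F₁.add_mem (F₁.mul_mem (F₁.mul_mem ?_ (hs _ _)) (hs _ _)) (F₁.sum_mem fun k _ => F₁.add_mem
      (F₁.mul_mem (hs _ _) (hs _ _)) (F₁.mul_mem (hs _ _) (hs _ _)))
    rw [← one_add_one_eq_two]
    exact F₁.add_mem F₁.one_mem F₁.one_mem
  have hH' : H.map (glReindex e).toMonoidHom ≤ omegaGL ⇑Q' := by
    rw [hQ', ← PrimeDim.Std.omega_map]
    exact Subgroup.map_mono hH
  have hodd' : Odd (2 * m + 1) := odd_two_mul_add_one m
  have hI : H ≤ Cfsg.isometryGroup F (Cfsg.quadFormOdd m F) := hH.trans (omega_le_isometry _)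
  -- the subfield class
  have key : ∀ (F₀ : Subfield F) (r : ℕ) (P : GL (Fin (2 * m + 1)) F) (ζ : F), r.Prime →
      Fintype.card F = Nat.card F₀ ^ r → ζ ≠ 0 →
      Cfsg.Geo.IsQuadFormRationalStructure (fun v => ζ * Q' v) F₀ P →
      H.map (glReindex e).toMonoidHom ≤ Cfsg.Geo.subfieldSubgroup F₀ P →
      ∃ M, Cfsg.Geo.InOrthogonalOddClass m F M ∧ H ≤ M := by
    intro F₀ r P ζ hr hcard hζ hrat hle
    obtain ⟨P', hrat', hle'⟩ := rational_one hodd hnd hodd' hgram hr hcard hζ hrat hle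
    obtain ⟨P₀, rfl⟩ := (glReindex e (F := F)).surjective P'
    rw [hQ'] at hrat'
    exact ⟨_, Or.inr (Or.inr (Or.inr (Or.inr (Or.inr (Or.inr (Or.inl
      ⟨F₀, r, P₀, hr, hcard, PrimeDim.Std.rational_map e hrat', rfl⟩)))))),
      le_inf (Transport.mem_of_map_le e (Transport.subfield_iff e F₀ P₀) hle') hI⟩
  rcases orth_structure hnd (by omega) hH' with ⟨W, h0, -, hW, hle⟩ | ⟨hev, -⟩ | ⟨W, h0, h1, hW, hle⟩ |
    ⟨-, t, k, D, htk, hD, hle⟩ | ⟨-, k, D, hk, -⟩ | ⟨-, r, K, hr, hrn, hne, -, hK, hsa, hle⟩ | ⟨-, K, hK, -⟩ |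
    ⟨hirr, n₁, n₂, d, P, J₁, J₂, -, h3, hle12, hn, hJ₁, hJ₂, hco, hle⟩ |
    ⟨-, n₁, n₂, d, P, J₁, J₂, -, -, hn, hJ₁, -⟩ | ⟨F₀, r, P, ζ, hr, hcard, hζ, hrat, hle⟩ | ⟨-, ⟨k, hk⟩, -⟩ |
    ⟨-, k, t, d, P, J₀, c, -, hk3, ht, hex, hn, hJ₀, hc, hco, hle⟩ |
    ⟨-, k, t, d, P, J₀, c, -, ht, -, -, hn, hJ₀, -⟩ | h
  · rw [hQ'] at hW
    refine Or.inl ⟨_, Or.inl ⟨W.map (lin e).toLinearMap, fun h => h0 (Submodule.map_eq_bot_iff.1 h), ?_, rfl⟩,
      le_inf (Transport.mem_of_map_le e (PrimeDim.Std.stab_iff e) hle) hI⟩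
    rintro _ ⟨w, hw, rfl⟩
    exact hW w hw
  · exact absurd hodd hev
  · rw [hQ'] at hW
    exact Or.inl ⟨_, Or.inr (Or.inl ⟨W.map (lin e).toLinearMap, fun h => h0 (Submodule.map_eq_bot_iff.1 h),
      fun h => h1 (Submodule.map_injective_of_injective (lin e).injective
        (h.trans (by rw [Submodule.map_top, LinearEquiv.range]))),
      PrimeDim.Std.nondegOn_map e hW, rfl⟩), le_inf (Transport.mem_of_map_le e (PrimeDim.Std.stab_iff e) hle) hI⟩
  · left
    have hk0 := hD.decomp.decomp.pos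
    by_cases hk1 : 1 < k
    · rw [hQ'] at hD
      exact ⟨_, Or.inr (Or.inr (Or.inl ⟨t, k, _, hk1, PrimeDim.Std.orthogonalMDecomposition_map e hD, rfl⟩)),
        le_inf (Transport.mem_of_map_le e (PrimeDim.Std.decomp_iff e) hle) hI⟩
    obtain rfl : k = 1 := by omega
    obtain rfl : t = 2 * m + 1 := by omega
    by_cases hp : (Fintype.card F).Prime
    · rw [hQ'] at hD
      exact ⟨_, Or.inr (Or.inr (Or.inr (Or.inl ⟨_, _, hp, PrimeDim.Std.orthogonalMDecomposition_map e hD, rfl⟩))),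
        le_inf (Transport.mem_of_map_le e (PrimeDim.Std.decomp_iff e) hle) hI⟩
    obtain ⟨F₀, r, hr, hcard⟩ := exists_prime_index hp
    obtain ⟨P, ζ, hζ, hP⟩ := lines_rational (by omega) h2 hH' hD hle
    exact key F₀ r P ζ hr hcard hζ (hP F₀).1 (hP F₀).2
  · omega
  · exact Or.inl ⟨_, Or.inr (Or.inr (Or.inr (Or.inr (Or.inl ⟨r, _, hr, fun h => hne hodd' h.symm,
      Transport.field_map e hK, selfAdjoint_map e hf (selfAdjoint_polar hnd hsa), rfl⟩)))),
      le_inf (Transport.mem_of_map_le e (Transport.norm_iff e K) hle) hI⟩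
  · have := field_degree_dvd two_ne_zero hK
    omega
  · left
    rcases hle12.lt_or_eq with hlt | rfl
    · obtain ⟨P, rfl⟩ := (glReindex e (F := F)).surjective P
      exact ⟨_, Or.inr (Or.inr (Or.inr (Or.inr (Or.inr (Or.inl ⟨n₁, n₂, e.trans d, P, _, _, h3, hlt,
        symmetric_form hJ₁, symmetric_form hJ₂, Transport.tensorForm_map e hf ⟨1, one_ne_zero, fun x y => by
          rw [polar_sform hnd, sform_gram, sform_gram, one_mul, sform_fcoord, hco]
          exact (formOfGram_eq τ₁ _ x y).symm⟩, rfl⟩))))),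
        le_inf (Transport.mem_of_map_le e (Transport.tensor_iff e d P) hle) hI⟩
    have hodd₁ : Odd n₁ := Nat.Odd.of_mul_left (hn ▸ hodd')
    rcases symTensor_square hnd hH' hirr hodd hodd₁ h3 hJ₁ hJ₂ hco hle with
      ⟨-, k, t, d', P', J₀, c, -, hk3, ht, hex, hn', hJ₀, hc, hco', hle'⟩ | ⟨-, t, k, D, htk, hD, hle'⟩
    · obtain ⟨P', rfl⟩ := (glReindex e (F := F)).surjective P'
      exact ⟨_, Or.inr (Or.inr (Or.inr (Or.inr (Or.inr (Or.inr (Or.inr ⟨k, t, e.trans d', P', _, hk3, ht, hex,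
        symmetric_form hJ₀, Transport.powerForm_map e hf ⟨c, hc, fun x y => by
          rw [polar_sform hnd, sform_fcoord, hco', sform_smul_matrix, sform_gram, ← formOfGram_eq]
          rfl⟩, rfl⟩)))))),
        le_inf (Transport.mem_of_map_le e (Transport.wreath_iff e d' P') hle') hI⟩
    by_cases hk1 : 1 < k
    · rw [hQ'] at hD
      exact ⟨_, Or.inr (Or.inr (Or.inl ⟨t, k, _, hk1, PrimeDim.Std.orthogonalMDecomposition_map e hD, rfl⟩)),
        le_inf (Transport.mem_of_map_le e (PrimeDim.Std.decomp_iff e) hle') hI⟩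
    have hk0 := hD.decomp.decomp.pos
    obtain rfl : k = 1 := by omega
    obtain rfl : t = 2 * m + 1 := by omega
    by_cases hp : (Fintype.card F).Prime
    · rw [hQ'] at hD
      exact ⟨_, Or.inr (Or.inr (Or.inr (Or.inl ⟨_, _, hp, PrimeDim.Std.orthogonalMDecomposition_map e hD, rfl⟩))),
        le_inf (Transport.mem_of_map_le e (PrimeDim.Std.decomp_iff e) hle') hI⟩
    obtain ⟨F₀, r, hr, hcard⟩ := exists_prime_index hp
    obtain ⟨P, ζ, hζ, hP⟩ := lines_rational (by omega) h2 hH' hD hle'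
    exact key F₀ r P ζ hr hcard hζ (hP F₀).1 (hP F₀).2
  · exfalso
    have := (odd_of_sympData hJ₁ h2).mul_right n₂
    rw [hn] at this
    exact Nat.not_even_iff_odd.2 hodd' this
  · exact Or.inl (key F₀ r P ζ hr hcard hζ hrat hle)
  · exfalso
    rcases k with _ | k
    · omega
    · rw [pow_succ] at hk
      omega
  · obtain ⟨P, rfl⟩ := (glReindex e (F := F)).surjective P
    exact Or.inl ⟨_, Or.inr (Or.inr (Or.inr (Or.inr (Or.inr (Or.inr (Or.inr ⟨k, t, e.trans d, P, _, hk3, ht, hex,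
      symmetric_form hJ₀, Transport.powerForm_map e hf ⟨c, hc, fun x y => by
        rw [polar_sform hnd, sform_fcoord, hco, sform_smul_matrix, sform_gram, ← formOfGram_eq]
        rfl⟩, rfl⟩)))))),
      le_inf (Transport.mem_of_map_le e (Transport.wreath_iff e d P) hle) hI⟩
  · exfalso
    have := (odd_of_sympData hJ₀ h2).pow_of_ne_zero (show t ≠ 0 by omega)
    rw [hn] at this
    exact Nat.not_even_iff_odd.2 hodd' this
  · exact Or.inr (PrimeDim.Std.residual_of_map e h)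

end CfsgLib.Asch.OrthOdd
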