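import Cfsg.Agent.Lib.Classical.AschOrthEven
import Cfsg.Agent.Lib.Classical.AschOrthFrame

set_option autoImplicit false
set_option linter.unusedSectionVars false

/-!
Planes over very small fields.
-/

namespace CfsgLib.Asch.OrthPlanes

open Matrix
open Cfsg.Geo (matrixSet ActsIrreducibly IsPlusTypeOn IsTotallySingularQuad omegaGL subspaceStabilizer
  decompositionStabilizer IsOrthogonalMDecomposition)
open CfsgLib.Orth (Nondeg NondegOn b_comm b_add_left b_add_right b_smul_left b_smul_right b_zero_left b_zero_right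
  b_self q_add q_smul)
open CfsgLib.Asch.OrthTypes
open CfsgLib.PrimeDim (Inv)
open scoped MatrixGroups

variable {F : Type*} [Field F] [Fintype F] {n : ℕ} {Q : QuadraticForm F (Fin n → F)}

local notation "B" => QuadraticMap.polar (DFunLike.coe Q)
local notation "τ₁" => RingEquiv.refl F

theorem pow_sub_one (x : F) (hx : x ≠ 0) : x ^ (Fintype.card F - 1) = 1 := FiniteField.pow_card_sub_one_eq_one x hx

/-- A singular basis of a plane of plus type. -/
theorem hyp_pair {W : Submodule F (Fin n → F)} (hW : NondegOn Q W) (hd : Module.finrank F W = 2)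
    (hp : IsPlusTypeOn ⇑Q W) : ∃ x ∈ W, ∃ y ∈ W, Q x = 0 ∧ Q y = 0 ∧ B x y = 1 ∧
      ∀ w ∈ W, ∃ a b : F, w = a • x + b • y ∧ Q w = a * b := by
  obtain ⟨T, hTU, hT, hTd⟩ := hp
  obtain ⟨x, hx, hx0⟩ := Submodule.exists_mem_ne_zero_of_ne_bot (show T ≠ ⊥ from fun e => by
    rw [e, finrank_bot, hd] at hTd
    omega)
  have hxU : x ∈ W := hTU hx
  have hxq : Q x = 0 := hT x hx
  obtain ⟨z, hz, hxz⟩ : ∃ z ∈ W, B x z ≠ 0 := by
    by_contra hc
    push Not at hc
    exact hx0 (hW x hxU hc)
  obtain ⟨y, hyU, hyq, hxy⟩ : ∃ y ∈ W, Q y = 0 ∧ B x y = 1 := by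
    obtain ⟨z', hz'⟩ : ∃ z', z' = (B x z)⁻¹ • z := ⟨_, rfl⟩
    have hzu : B x z' = 1 := by rw [hz', b_smul_right, inv_mul_cancel₀ hxz]
    refine ⟨z' - Q z' • x, W.sub_mem (hz' ▸ W.smul_mem _ hz) (W.smul_mem _ hxU), ?_, ?_⟩
    · rw [CfsgLib.Orth.q_sub, q_smul, hxq, mul_zero, add_zero, b_smul_right, b_comm z' x, hzu, mul_one, sub_self]
    · rw [CfsgLib.Orth.b_sub_right, b_smul_right, hzu, CfsgLib.Orth.b_self_zero hxq, mul_zero, sub_zero]
  refine ⟨x, hxU, y, hyU, hxq, hyq, hxy, fun w hw => ⟨B w y, B w x, ?_, ?_⟩⟩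
  swap
  all_goals
    have hwe : w = B w y • x + B w x • y := by
      have hd' : w - B w y • x - B w x • y = 0 := by
        have hspan : Submodule.span F ({x, y} : Set (Fin n → F)) = W := by
          refine Submodule.eq_of_le_of_finrank_le (Submodule.span_le.2 ?_) ?_
          · rintro v (rfl | rfl) <;> assumption
          · have hli : LinearIndependent F ![x, y] := by
              rw [LinearIndependent.pair_iff]
              intro s t hst
              have e1 := congrArg (fun v => B x v) hst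
              have e2 := congrArg (fun v => B y v) hst
              simp only [b_add_right, b_smul_right, b_zero_right, CfsgLib.Orth.b_self_zero hxq,
                CfsgLib.Orth.b_self_zero hyq, b_comm y x, hxy, mul_zero, mul_one, zero_add, add_zero] at e1 e2
              exact ⟨e2, e1⟩
            have h := finrank_span_eq_card hli
            rw [Matrix.range_cons_cons_empty, Fintype.card_fin] at h
            rw [hd, h]
        refine hW _ (W.sub_mem (W.sub_mem hw (W.smul_mem _ hxU)) (W.smul_mem _ hyU)) fun v hv => ?_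
        obtain ⟨s, t, rfl⟩ := Submodule.mem_span_pair.1 (hspan.symm ▸ hv : v ∈ Submodule.span F ({x, y} : Set _))
        simp only [CfsgLib.Orth.b_sub_left, b_smul_left, b_add_right, b_smul_right, CfsgLib.Orth.b_self_zero hxq,
          CfsgLib.Orth.b_self_zero hyq, b_comm y x, hxy]
        ring
      rw [sub_sub, sub_eq_zero] at hd'
      exact hd'
  · conv_lhs => rw [hwe]
    rw [q_add, q_smul, q_smul, hxq, hyq, b_smul_left, b_smul_right, hxy]
    ring
  · exact hwe

/-- An invariant plane of plus type over two elements gives a fixed non-singular point. -/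
theorem plane_two (hq : Fintype.card F = 2) {H : Subgroup (GL (Fin n) F)} (hH : H ≤ omegaGL ⇑Q)
    {W : Submodule F (Fin n → F)} (hW : NondegOn Q W) (hd : Module.finrank F W = 2) (hp : IsPlusTypeOn ⇑Q W)
    (hle : H ≤ subspaceStabilizer W) :
    ∃ v, Q v ≠ 0 ∧ H ≤ subspaceStabilizer (Submodule.span F {v}) := by
  obtain ⟨x, hx, y, hy, hqx, hqy, hxy, hW'⟩ := hyp_pair hW hd hp
  have hqv : Q (x + y) = 1 := by rw [q_add, hqx, hqy, hxy, zero_add, zero_add]
  refine ⟨x + y, by rw [hqv]; exact one_ne_zero, le_stab_of_inv ?_⟩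
  rintro _ ⟨g, hg, rfl⟩ w hw
  obtain ⟨c, rfl⟩ := Submodule.mem_span_singleton.1 hw
  rw [mulVec_smul]
  refine Submodule.smul_mem _ _ ?_
  obtain ⟨a, b, hab, hQ'⟩ := hW' (g.val *ᵥ (x + y)) (((hle hg) _).1 (W.add_mem hx hy))
  show g.val *ᵥ (x + y) ∈ _
  replace hQ' : (1 : F) = a * b := by rw [← hQ']; exact (hqv.symm.trans (omega_quad hH hg (x + y)).symm)
  have hone : ∀ d : F, d ≠ 0 → d = 1 := fun d hd' => by simpa [hq] using pow_sub_one d hd'
  rw [hab, hone a (left_ne_zero_of_mul (hQ' ▸ one_ne_zero)), hone b (right_ne_zero_of_mul (hQ' ▸ one_ne_zero)),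
    one_smul, one_smul]
  exact Submodule.mem_span_singleton_self _

/-- An invariant plane of plus type over three elements contains an invariant non-degenerate line. -/
theorem plane_three (hq : Fintype.card F = 3) {H : Subgroup (GL (Fin n) F)} (hH : H ≤ omegaGL ⇑Q)
    {W : Submodule F (Fin n → F)} (hW : NondegOn Q W) (hd : Module.finrank F W = 2) (hp : IsPlusTypeOn ⇑Q W)
    (hle : H ≤ subspaceStabilizer W) :
    ∃ L : Submodule F (Fin n → F), Module.finrank F L = 1 ∧ NondegOn Q L ∧ H ≤ subspaceStabilizer L := by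
  have hq' : Nat.card F = 3 := by rw [Nat.card_eq_fintype_card, hq]
  have h3 := CfsgLib.Orth.DecompNotMax.three_zero hq'
  obtain ⟨x, hx, y, hy, hqx, hqy, hxy, hW'⟩ := hyp_pair hW hd hp
  have hqv : Q (x + y) = 1 := by rw [q_add, hqx, hqy, hxy, zero_add, zero_add]
  have hv0 : x + y ≠ 0 := fun e => by
    rw [e, QuadraticMap.map_zero] at hqv
    exact zero_ne_one hqv
  refine ⟨Submodule.span F {x + y}, finrank_span_singleton hv0, fun w hw h => ?_, le_stab_of_inv ?_⟩
  · obtain ⟨c, rfl⟩ := Submodule.mem_span_singleton.1 hw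
    have := h _ (Submodule.mem_span_singleton_self _)
    rw [b_smul_left, b_self, hqv, mul_one] at this
    rw [(mul_eq_zero.1 this).resolve_right fun e2 => one_ne_zero (α := F) (by linear_combination h3 - e2), zero_smul]
  rintro _ ⟨g, hg, rfl⟩ w hw
  obtain ⟨c, rfl⟩ := Submodule.mem_span_singleton.1 hw
  rw [mulVec_smul]
  refine Submodule.smul_mem _ _ ?_
  obtain ⟨a, b, hab, hQ'⟩ := hW' (g.val *ᵥ (x + y)) (((hle hg) _).1 (W.add_mem hx hy))
  show g.val *ᵥ (x + y) ∈ _
  replace hQ' : (1 : F) = a * b := by rw [← hQ']; exact (hqv.symm.trans (omega_quad hH hg (x + y)).symm)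
  have ha : a * a = 1 := CfsgLib.Orth.DecompNotMax.sq_eq_one hq' (left_ne_zero_of_mul (hQ' ▸ one_ne_zero))
  have hb : b = a := calc b = (a * a) * b := by rw [ha, one_mul]
    _ = a := by rw [mul_assoc, ← hQ', mul_one]
  rw [hab, hb, ← smul_add]
  exact Submodule.smul_mem _ _ (Submodule.mem_span_singleton_self _)

theorem part_image {t : ℕ} {D : Fin t → Submodule F (Fin n → F)} {g : GL (Fin n) F}
    (hg : g ∈ decompositionStabilizer D) :
    ∃ σ : Equiv.Perm (Fin t), ∀ i, ∀ w ∈ D i, g.val *ᵥ w ∈ D (σ i) := by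
  obtain ⟨σ, hσ⟩ := hg
  exact ⟨σ, fun i w hw => hσ i ▸ ⟨w, hw, Matrix.toLin'_apply _ _⟩⟩

/-- An irreducible group permuting hyperbolic planes needs more than three elements in the field. -/
theorem plus_planes_small (hq : Fintype.card F = 2 ∨ Fintype.card F = 3) (hn : 1 ≤ n)
    {H : Subgroup (GL (Fin n) F)} (hH : H ≤ omegaGL ⇑Q) (hirr : ActsIrreducibly (matrixSet H)) {t : ℕ}
    (htn : t * 2 = n) {D : Fin t → Submodule F (Fin n → F)} (hD : IsOrthogonalMDecomposition ⇑Q 2 D)
    (hp : ∀ i, IsPlusTypeOn ⇑Q (D i)) (hle : H ≤ decompositionStabilizer D) : False := by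
  classical
  choose x hx y hy hqx hqy hxy hall using fun i =>
    hyp_pair (nondegOn_of_decomp hD i) (hD.decomp.decomp.finrank_eq i) (hp i)
  let v : Fin t → Fin n → F := fun i => x i + y i
  have hqv : ∀ i, Q (v i) = 1 := fun i => by simp only [v, q_add, hqx, hqy, hxy, zero_add]
  have hsq : ∀ a : F, a ≠ 0 → a * a = 1 := fun a ha => by
    have := pow_sub_one a ha
    rcases hq with h | h <;> rw [h] at this
    · rw [show a = 1 by simpa using this, one_mul]
    · simpa [pow_two] using this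
  have hinv : Inv (matrixSet H) (Submodule.span F (Set.range v)) := by
    rintro _ ⟨g, hg, rfl⟩ w hw
    obtain ⟨σ, hσ⟩ := part_image (hle hg)
    have hle' : Submodule.span F (Set.range v) ≤ (Submodule.span F (Set.range v)).comap (Matrix.toLin' g.val) := by
      refine Submodule.span_le.2 (Set.range_subset_iff.2 fun i => ?_)
      obtain ⟨a, b, hab, hQ'⟩ := hall (σ i) _ (hσ i _ ((D i).add_mem (hx i) (hy i)))
      rw [omega_quad hH hg, show Q (x i + y i) = 1 from hqv i] at hQ'
      have hb : b = a := calc b = (a * a) * b := by rw [hsq a (left_ne_zero_of_mul (hQ' ▸ one_ne_zero)), one_mul]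
        _ = a := by rw [mul_assoc, ← hQ', mul_one]
      show Matrix.toLin' g.val (v i) ∈ Submodule.span F (Set.range v)
      rw [Matrix.toLin'_apply, show g.val *ᵥ v i = _ from hab, hb, ← smul_add]
      exact Submodule.smul_mem _ _ (Submodule.subset_span ⟨σ i, rfl⟩)
    have := hle' hw
    rwa [Submodule.mem_comap, Matrix.toLin'_apply] at this
  have ht : 0 < t := by omega
  rcases PrimeDim.irreducible_iff.1 hirr _ hinv with e | e
  · have h0 : v ⟨0, ht⟩ = 0 := (Submodule.eq_bot_iff _).1 e _ (Submodule.subset_span ⟨_, rfl⟩)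
    have := hqv ⟨0, ht⟩
    rw [h0, QuadraticMap.map_zero] at this
    exact zero_ne_one this
  · have h := finrank_range_le_card (R := F) v
    rw [Set.finrank, e, finrank_top, Module.finrank_fin_fun, Fintype.card_fin] at h
    omega

/-- Planes each containing just one orthogonal pair with a given value refine to a frame of lines. -/
theorem planes_lines (hB : Nondeg Q) (hn : 2 ≤ n) {H : Subgroup (GL (Fin n) F)} (hH : H ≤ omegaGL ⇑Q)
    (hirr : ActsIrreducibly (matrixSet H)) {t : ℕ} (htn : t * 2 = n) {D : Fin t → Submodule F (Fin n → F)}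
    (hD : IsOrthogonalMDecomposition ⇑Q 2 D) (hle : H ≤ decompositionStabilizer D) {δ : F} (hδ : δ ≠ 0)
    (h2 : (2 : F) ≠ 0)
    (hp : ∀ i, ∃ a b, a ∈ D i ∧ b ∈ D i ∧ Q a = δ ∧ Q b = δ ∧ B a b = 0 ∧
      ∀ w ∈ D i, Q w = δ → ∃ l : F, w = l • a ∨ w = l • b) :
    ∃ D' : Fin n → Submodule F (Fin n → F), IsOrthogonalMDecomposition ⇑Q 1 D' ∧ H ≤ decompositionStabilizer D' := by
  classical
  choose a b ha hb hqa hqb hab hall using hp
  let ε : Fin n ≃ Fin t × Fin 2 := (finCongr htn.symm).trans finProdFinEquiv.symm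
  let p : Fin t × Fin 2 → Fin n → F := fun i => if i.2 = 0 then a i.1 else b i.1
  have hpD : ∀ i, p i ∈ D i.1 := fun i => by simp only [p]; split <;> simp [ha, hb]
  have hpq : ∀ i, Q (p i) = δ := fun i => by simp only [p]; split <;> simp [hqa, hqb]
  refine lines_decomp hB hn hH hirr (fun i => p (ε i)) (fun i j hij => ?_) (fun i => ?_) fun g hg i => ?_
  · by_cases h : (ε i).1 = (ε j).1
    · have h' : (ε i).2 ≠ (ε j).2 := fun h' => hij (ε.injective (Prod.ext h h'))
      simp only [p, h]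
      obtain hi | hi : (ε i).2 = 0 ∨ (ε i).2 = 1 := Fin.exists_fin_two.1 ⟨_, rfl⟩ <;>
        obtain hj | hj : (ε j).2 = 0 ∨ (ε j).2 = 1 := Fin.exists_fin_two.1 ⟨_, rfl⟩ <;>
          simp_all [b_comm]
    · exact hD.decomp.orthogonal _ _ h _ (hpD _) _ (hpD _)
  · rw [b_self, hpq]
    exact mul_ne_zero h2 hδ
  · obtain ⟨σ, hσ⟩ := part_image (hle hg)
    obtain ⟨l, hl | hl⟩ := hall _ _ (hσ _ _ (hpD (ε i))) ((omega_quad hH hg _).trans (hpq _))
    · exact ⟨ε.symm (σ (ε i).1, 0), l, by simpa [p] using hl⟩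
    · exact ⟨ε.symm (σ (ε i).1, 1), l, by simpa [p] using hl⟩

/-- Hyperbolic planes over five elements. -/
theorem plus_planes_five (hB : Nondeg Q) (hn : 2 ≤ n) (hq : Fintype.card F = 5) {H : Subgroup (GL (Fin n) F)}
    (hH : H ≤ omegaGL ⇑Q) (hirr : ActsIrreducibly (matrixSet H)) {t : ℕ} (htn : t * 2 = n)
    {D : Fin t → Submodule F (Fin n → F)} (hD : IsOrthogonalMDecomposition ⇑Q 2 D)
    (hp : ∀ i, IsPlusTypeOn ⇑Q (D i)) (hle : H ≤ decompositionStabilizer D) :
    ∃ D' : Fin n → Submodule F (Fin n → F), IsOrthogonalMDecomposition ⇑Q 1 D' ∧ H ≤ decompositionStabilizer D' := by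
  have h5 : (5 : F) = 0 := by
    have := Nat.cast_card_eq_zero F
    rwa [hq, Nat.cast_ofNat] at this
  have h2 : (2 : F) ≠ 0 := fun e => one_ne_zero (α := F) (by linear_combination h5 - 2 * e)
  refine planes_lines hB hn hH hirr htn hD hle (δ := 1) one_ne_zero h2 fun i => ?_
  obtain ⟨x, hx, y, hy, hqx, hqy, hxy, hW⟩ :=
    hyp_pair (nondegOn_of_decomp hD i) (hD.decomp.decomp.finrank_eq i) (hp i)
  refine ⟨x + y, (2 : F) • x + (3 : F) • y, (D i).add_mem hx hy,
    (D i).add_mem ((D i).smul_mem _ hx) ((D i).smul_mem _ hy), ?_, ?_, ?_, fun w hw hwq => ?_⟩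
  · rw [q_add, hqx, hqy, hxy, zero_add, zero_add]
  · rw [q_add, q_smul, q_smul, hqx, hqy, b_smul_left, b_smul_right, hxy]
    linear_combination h5
  · rw [b_add_left, b_add_right, b_add_right, b_smul_right, b_smul_right, b_smul_right, b_smul_right,
      CfsgLib.Orth.b_self_zero hqx, CfsgLib.Orth.b_self_zero hqy, b_comm y x, hxy]
    linear_combination h5
  · obtain ⟨a, b, hab, hQ'⟩ := hW w hw
    rw [hwq] at hQ'
    have ha0 : a ≠ 0 := left_ne_zero_of_mul (hQ' ▸ one_ne_zero)
    have h4 : a ^ 4 = 1 := by simpa [hq] using pow_sub_one a ha0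
    have hsplit : (a * a - 1) * (a * a + 1) = 0 := by linear_combination h4
    rcases mul_eq_zero.1 hsplit with h | h
    · have hb : b = a := by linear_combination (-b) * h - a * hQ'
      exact ⟨a, Or.inl (by rw [hab, hb, smul_add])⟩
    · have hb : b = -a := by linear_combination b * h + a * hQ'
      refine ⟨3 * a, Or.inr ?_⟩
      rw [hab, hb, smul_add, smul_smul, smul_smul, show 3 * a * 2 = a by linear_combination a * h5,
        show 3 * a * 3 = -a by linear_combination 2 * a * h5]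

/-- Anisotropic planes over three elements. -/
theorem minus_planes_three (hB : Nondeg Q) (hn : 2 ≤ n) (hq : Fintype.card F = 3) {H : Subgroup (GL (Fin n) F)}
    (hH : H ≤ omegaGL ⇑Q) (hirr : ActsIrreducibly (matrixSet H)) {t : ℕ} (htn : t * 2 = n)
    {D : Fin t → Submodule F (Fin n → F)} (hD : IsOrthogonalMDecomposition ⇑Q 2 D)
    (hp : ∀ i, ¬ IsPlusTypeOn ⇑Q (D i)) (hle : H ≤ decompositionStabilizer D) :
    ∃ D' : Fin n → Submodule F (Fin n → F), IsOrthogonalMDecomposition ⇑Q 1 D' ∧ H ≤ decompositionStabilizer D' := by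
  classical
  have hq' : Nat.card F = 3 := by rw [Nat.card_eq_fintype_card, hq]
  have h3 := CfsgLib.Orth.DecompNotMax.three_zero hq'
  have h2 : (2 : F) ≠ 0 := fun e => one_ne_zero (α := F) (by linear_combination h3 - e)
  refine planes_lines hB hn hH hirr htn hD hle (δ := 1) one_ne_zero h2 fun i => ?_
  have hab : ∀ z₁ z₂ : F, z₁ ^ 2 + 0 * z₁ * z₂ + 1 * z₂ ^ 2 = 0 → z₁ = 0 ∧ z₂ = 0 := by
    intro z₁ z₂ h
    by_cases h₁ : z₁ = 0
    · subst h₁
      exact ⟨rfl, by simpa using h⟩
    · exfalso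
      have a := CfsgLib.Orth.DecompNotMax.sq_eq_one hq' h₁
      by_cases h₂ : z₂ = 0
      · subst h₂
        exact one_ne_zero (α := F) (by linear_combination h - a)
      · exact h2 (by linear_combination h - a - CfsgLib.Orth.DecompNotMax.sq_eq_one hq' h₂)
  rcases type_cases (nondegOn_of_decomp hD i) (k := 1) (by rw [hD.decomp.decomp.finrank_eq]) hab with
    ⟨h, -⟩ | ⟨-, j, hj, e, he⟩
  · exact absurd h (hp i)
  obtain rfl : j = 0 := by omega
  let s : Fin 2 → (Fin 0 ⊕ Fin 0) ⊕ Fin 2 → F := fun l => Pi.single (.inr l) 1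
  have hval : ∀ z, Q ((e.symm z : D i) : Fin n → F) = z (.inr 0) ^ 2 + z (.inr 1) ^ 2 := fun z => by
    have := he (e.symm z)
    rw [LinearEquiv.apply_symm_apply] at this
    rw [show Q ((e.symm z : D i) : Fin n → F) = _ from this.symm]
    simp [Cfsg.quadFormMinus]
  refine ⟨(e.symm (s 0) : Fin n → F), (e.symm (s 1) : Fin n → F), (e.symm _).2, (e.symm _).2, ?_, ?_, ?_,
    fun w hw hwq => ?_⟩
  · rw [hval]; simp [s]
  · rw [hval]; simp [s]
  · unfold QuadraticMap.polar
    rw [← Submodule.coe_add, ← map_add, hval, hval, hval]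
    simp [s]
  · obtain ⟨z, hz⟩ : ∃ z, e.symm z = ⟨w, hw⟩ := ⟨e ⟨w, hw⟩, e.symm_apply_apply _⟩
    have hwv : (e.symm z : Fin n → F) = w := congrArg Subtype.val hz
    rw [← hwv, hval] at hwq
    have hze : ∀ l, (∀ l', l' ≠ l → z (.inr l') = 0) → w = z (.inr l) • (e.symm (s l) : Fin n → F) := fun l hl => by
      rw [← hwv, ← Submodule.coe_smul, ← map_smul]
      congr 2
      funext j
      rcases j with (j | j) | j
      · exact j.elim0
      · exact j.elim0
      · by_cases h : j = l
        · subst h; simp [s]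
        · simp [s, hl j h, Pi.single_apply, h]
    by_cases h0 : z (.inr 0) = 0
    · exact ⟨_, Or.inr (hze 1 fun l hl => by
        obtain rfl : l = 0 := (Fin.exists_fin_two.1 ⟨l, rfl⟩).resolve_right hl
        exact h0)⟩
    · refine ⟨_, Or.inl (hze 0 fun l hl => ?_)⟩
      obtain rfl : l = 1 := (Fin.exists_fin_two.1 ⟨l, rfl⟩).resolve_left hl
      have a := CfsgLib.Orth.DecompNotMax.sq_eq_one hq' h0
      exact pow_eq_zero_iff two_ne_zero |>.1 (by linear_combination hwq - a)

/-- Hyperbolic planes over four elements are rational over two. -/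
theorem plus_planes_four (hn : 1 ≤ n) (hq : Fintype.card F = 4) {H : Subgroup (GL (Fin n) F)}
    (hH : H ≤ omegaGL ⇑Q) {t : ℕ} (htn : t * 2 = n) {D : Fin t → Submodule F (Fin n → F)}
    (hD : IsOrthogonalMDecomposition ⇑Q 2 D) (hp : ∀ i, IsPlusTypeOn ⇑Q (D i))
    (hle : H ≤ decompositionStabilizer D) :
    ∃ (F₀ : Subfield F) (r : ℕ) (P : GL (Fin n) F), r.Prime ∧ Fintype.card F = Nat.card F₀ ^ r ∧
      Cfsg.Geo.IsQuadFormRationalStructure (fun v => (1 : F) * Q v) F₀ P ∧
      H ≤ Cfsg.Geo.subfieldSubgroup F₀ P := by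
  classical
  haveI : Nonempty (Fin n) := ⟨⟨0, hn⟩⟩
  obtain ⟨F₀, r, hr, hcard⟩ := exists_prime_index (F := F) (by rw [hq]; norm_num)
  have h2 : (2 : F) = 0 := by
    have h4 := Nat.cast_card_eq_zero F
    rw [hq, Nat.cast_ofNat, show (4 : F) = 2 * 2 by norm_num] at h4
    exact mul_self_eq_zero.1 h4
  choose x hx y hy hqx hqy hxy hall using fun i =>
    hyp_pair (nondegOn_of_decomp hD i) (hD.decomp.decomp.finrank_eq i) (hp i)
  obtain ⟨w, hw0, hw1⟩ : ∃ w : F, w ≠ 0 ∧ w ≠ 1 := by
    have : ({0, 1} : Finset F) ≠ Finset.univ := fun e => by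
      have := congrArg Finset.card e
      rw [Finset.card_univ, hq, Finset.card_pair zero_ne_one] at this
      omega
    obtain ⟨w, hw⟩ : ∃ w, w ∉ ({0, 1} : Finset F) := by
      by_contra hc
      push Not at hc
      exact this (Finset.eq_univ_iff_forall.2 hc)
    simp at hw
    exact ⟨w, hw.1, hw.2⟩
  have hcube : ∀ a : F, a ≠ 0 → a ^ 3 = 1 := fun a ha => by simpa [hq] using pow_sub_one a ha
  have hw2 : w * w + w + 1 = 0 :=
    (mul_eq_zero.1 (show (w - 1) * (w * w + w + 1) = 0 by linear_combination hcube w hw0)).resolve_left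
      (sub_ne_zero.2 hw1)
  let ε : Fin n ≃ Fin t × Fin 2 := (finCongr htn.symm).trans finProdFinEquiv.symm
  let v : Fin t → Fin 2 → Fin n → F := fun i l => if l = 0 then x i + y i else w • x i + (w * w) • y i
  let b : Fin n → Fin n → F := fun j => v (ε j).1 (ε j).2
  have hbD : ∀ i l, v i l ∈ D i := fun i l => by
    simp only [v]; split
    · exact (D i).add_mem (hx i) (hy i)
    · exact (D i).add_mem ((D i).smul_mem _ (hx i)) ((D i).smul_mem _ (hy i))
  have hbq : ∀ i l, Q (v i l) = 1 := fun i l => by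
    simp only [v]; split
    · rw [q_add, hqx, hqy, hxy, zero_add, zero_add]
    · rw [q_add, q_smul, q_smul, hqx, hqy, b_smul_left, b_smul_right, hxy]
      linear_combination hcube w hw0
  have hb01 : ∀ i, B (v i 0) (v i 1) = 1 := fun i => by
    simp only [v, Fin.isValue, ↓reduceIte, one_ne_zero]
    rw [b_add_left, b_add_right, b_add_right, b_smul_right, b_smul_right, b_smul_right, b_smul_right,
      CfsgLib.Orth.b_self_zero (hqx i), CfsgLib.Orth.b_self_zero (hqy i), b_comm (y i) (x i), hxy]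
    linear_combination hw2 - h2
  -- the non-singular vectors of value one
  have hone : ∀ i, ∀ u ∈ D i, Q u = 1 → u = v i 0 ∨ u = v i 1 ∨ u = v i 0 + v i 1 := by
    intro i u hu hq'
    obtain ⟨a, c, hac, hQ'⟩ := hall i u hu
    rw [hq'] at hQ'
    have ha0 : a ≠ 0 := left_ne_zero_of_mul (hQ' ▸ one_ne_zero)
    have hc : c = a * a := by linear_combination (-c) * hcube a ha0 - a * a * hQ'
    have hroots : (a - 1) * (a - w) * (a - (w + 1)) = 0 := by
      linear_combination hcube a ha0 + (a - 1) * hw2 - (a * a * (w + 1)) * h2 + (a * w + 1) * h2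
    rcases mul_eq_zero.1 hroots with h | h
    · rcases mul_eq_zero.1 h with h | h
      · left
        obtain rfl : a = 1 := sub_eq_zero.1 h
        simp [v, hac, hc]
      · right; left
        obtain rfl : a = w := sub_eq_zero.1 h
        simp [v, hac, hc]
    · right; right
      obtain rfl : a = w + 1 := sub_eq_zero.1 h
      rw [hac, hc]
      simp only [v, Fin.isValue, ↓reduceIte, one_ne_zero]
      rw [show (w + 1) * (w + 1) = 1 + w * w by linear_combination w * h2]
      module
  have hli : LinearIndependent F b := by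
    rw [Fintype.linearIndependent_iff]
    intro c hc j
    have key : ∀ i l, c (ε.symm (i, l)) = 0 := by
      intro i
      have hB0 : ∀ l, c (ε.symm (i, 0)) * B (v i l) (v i 0) + c (ε.symm (i, 1)) * B (v i l) (v i 1) = 0 := by
        intro l
        have h := congrArg (fun z => QuadraticMap.polarBilin Q (v i l) z) hc
        simp only [map_sum, map_zero, map_smul, QuadraticMap.polarBilin_apply_apply, smul_eq_mul] at h
        rw [← Equiv.sum_comp ε.symm, Fintype.sum_prod_type, Finset.sum_eq_single i ?_ (by simp),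
          Fin.sum_univ_two] at h
        · simpa [b] using h
        · intro i' _ hi'
          refine Finset.sum_eq_zero fun l' _ => ?_
          simp only [b, Equiv.apply_symm_apply]
          rw [hD.decomp.orthogonal i i' (Ne.symm hi') _ (hbD i l) _ (hbD i' l'), mul_zero]
      have h0 := hB0 0
      have h1 := hB0 1
      rw [b_self, hbq, hb01] at h0
      rw [b_self, hbq, b_comm (v i 1) (v i 0), hb01] at h1
      intro l
      obtain rfl | rfl : l = 0 ∨ l = 1 := Fin.exists_fin_two.1 ⟨l, rfl⟩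
      · linear_combination h1 - c (ε.symm (i, 1)) * h2
      · linear_combination h0 - c (ε.symm (i, 0)) * h2
    simpa using key (ε j).1 (ε j).2
  obtain ⟨P, hP⟩ : IsUnit (Matrix.of fun i j => b j i : Matrix (Fin n) (Fin n) F) := by
    rw [← Matrix.linearIndependent_cols_iff_isUnit]
    exact hli
  have hPv : ∀ u : Fin n → F, P.val *ᵥ u = ∑ i, u i • b i := fun u => by
    rw [hP]
    funext k
    simp [mulVec, dotProduct, Finset.sum_apply, mul_comm]
  refine ⟨F₀, r, P, hr, hcard, fun u hu => ?_, fun g hg => ?_⟩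
  · have hBb : ∀ j j', B (b j) (b j') ∈ F₀ := fun j j' => by
      by_cases h : (ε j).1 = (ε j').1
      · simp only [b, h]
        obtain hl | hl : (ε j).2 = 0 ∨ (ε j).2 = 1 := Fin.exists_fin_two.1 ⟨_, rfl⟩ <;>
          obtain hl' | hl' : (ε j').2 = 0 ∨ (ε j').2 = 1 := Fin.exists_fin_two.1 ⟨_, rfl⟩ <;> rw [hl, hl']
        · rw [b_self, hbq, h2, zero_mul]; exact F₀.zero_mem
        · rw [hb01]; exact F₀.one_mem
        · rw [b_comm, hb01]; exact F₀.one_mem
        · rw [b_self, hbq, h2, zero_mul]; exact F₀.zero_mem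
      · rw [hD.decomp.orthogonal _ _ h _ (hbD _ _) _ (hbD _ _)]
        exact F₀.zero_mem
    have key : ∀ s : Finset (Fin n), Q (∑ i ∈ s, u i • b i) ∈ F₀ ∧
        ∀ j, B (∑ i ∈ s, u i • b i) (b j) ∈ F₀ := by
      intro s
      induction s using Finset.induction_on with
      | empty => exact ⟨by simp [F₀.zero_mem], fun j => by simp [F₀.zero_mem]⟩
      | @insert l s hl ih =>
        rw [Finset.sum_insert hl]
        refine ⟨?_, fun j => ?_⟩
        · rw [q_add, q_smul, b_smul_left, b_comm (b l), show Q (b l) = 1 from hbq _ _, mul_one]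
          exact F₀.add_mem (F₀.add_mem (F₀.mul_mem (hu l) (hu l)) ih.1) (F₀.mul_mem (hu l) (ih.2 l))
        · rw [b_add_left, b_smul_left]
          exact F₀.add_mem (F₀.mul_mem (hu l) (hBb l j)) (ih.2 j)
    show 1 * Q (P.val *ᵥ u) ∈ F₀
    rw [one_mul, hPv]
    exact (key Finset.univ).1
  · obtain ⟨σ, hσ⟩ := part_image (hle hg)
    refine PrimeDim.mem_subfieldSubgroup.2 ⟨1, one_ne_zero, fun i j => ?_⟩
    rw [div_one]
    have hsingle : ∀ k, P.val *ᵥ Pi.single k 1 = b k := fun k => by
      rw [hPv, Fintype.sum_eq_single k (fun x hx => by rw [Pi.single_eq_of_ne hx, zero_smul]), Pi.single_eq_same,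
        one_smul]
    obtain ⟨u, hu, huv⟩ : ∃ u : Fin n → F, (∀ k, u k ∈ F₀) ∧ P.val *ᵥ u = g.val *ᵥ b j := by
      have hs : ∀ k k', (Pi.single k (1 : F) : Fin n → F) k' ∈ F₀ := fun k k' => by
        rw [Pi.single_apply]; split
        exacts [F₀.one_mem, F₀.zero_mem]
      rcases hone _ _ (hσ _ _ (hbD (ε j).1 (ε j).2)) ((omega_quad hH hg _).trans (hbq _ _)) with h | h | h
      · exact ⟨Pi.single (ε.symm (σ (ε j).1, 0)) 1, hs _, by rw [hsingle, h]; simp [b]⟩
      · exact ⟨Pi.single (ε.symm (σ (ε j).1, 1)) 1, hs _, by rw [hsingle, h]; simp [b]⟩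
      · exact ⟨Pi.single (ε.symm (σ (ε j).1, 0)) 1 + Pi.single (ε.symm (σ (ε j).1, 1)) 1,
          fun k => F₀.add_mem (hs _ _) (hs _ _), by rw [mulVec_add, hsingle, hsingle, h]; simp [b]⟩
    have e1 : ((P⁻¹ * g * P : GL (Fin n) F) : Matrix (Fin n) (Fin n) F) *ᵥ Pi.single j 1 = u := by
      rw [Units.val_mul, Units.val_mul, ← mulVec_mulVec, ← mulVec_mulVec, hsingle, ← huv,
        PrimeDim.inv_mulVec_cancel]
    have e2 := congrFun e1 i
    rw [mulVec_single_one, Matrix.col_apply] at e2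
    rw [e2]
    exact hu i

end CfsgLib.Asch.OrthPlanes
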