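import Cfsg.Agent.Lib.Classical.AschOrthTensor
import Cfsg.Agent.Lib.Classical.SymmDisc

set_option autoImplicit false
set_option linter.unusedSectionVars false

/-!
Orthogonal groups: almost simple groups, tensor powers and normal subgroups of symplectic type.
-/

namespace CfsgLib.Asch

open Matrix
open Cfsg.Geo (matrixSet scalars mem_scalars_iff ActsIrreducibly ActsAbsolutelyIrreducibly omegaGL
  tensorWreathSubgroup glReindex)
open CfsgLib.Orth (Nondeg)
open CfsgLib.PrimeDim (Inv Nml Sesq sc sc_val sc_comm sc_mem eq_sc_of_mem_scalars scalar_of_comm)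
open scoped MatrixGroups Kronecker

variable {F : Type*} [Field F] [Fintype F] {n : ℕ} {Q : QuadraticForm F (Fin n → F)}

local notation "τ₁" => RingEquiv.refl F

/-- `H` lies in a subfield group carrying a multiple of the quadratic form. -/
def ORationalCase (Q : QuadraticForm F (Fin n → F)) (H : Subgroup (GL (Fin n) F)) : Prop :=
  ∃ (F₀ : Subfield F) (r : ℕ) (P : GL (Fin n) F) (ζ : F), r.Prime ∧ Fintype.card F = Nat.card F₀ ^ r ∧ ζ ≠ 0 ∧
    Cfsg.Geo.IsQuadFormRationalStructure (fun v => ζ * Q v) F₀ P ∧ H ≤ Cfsg.Geo.subfieldSubgroup F₀ P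

/-- `H` preserves an alternating tensor power with singular pure tensors. -/
def OSympPowerCase (Q : QuadraticForm F (Fin n → F)) (H : Subgroup (GL (Fin n) F)) : Prop :=
  ActsIrreducibly (matrixSet H) ∧ ∃ (k t : ℕ) (e : Fin n ≃ (Fin t → Fin k)) (P : GL (Fin n) F)
    (J₀ : Matrix (Fin k) (Fin k) F) (c : F),
    2 ≤ k ∧ 2 ≤ t ∧ (Odd (Fintype.card F) → Even t) ∧ ¬ (Fintype.card F ≤ 3 ∧ k = 2) ∧ k ^ t = n ∧
      SympData J₀ ∧ c ≠ 0 ∧ fcoord (RingEquiv.refl F) (ogram Q) e P = c • pureMat (fun _ : Fin t => J₀) ∧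
      (∀ u : Fin t → Fin k → F, Q (P.val *ᵥ ((fun x => ∏ i, u i (x i)) ∘ e)) = 0) ∧
      H ≤ tensorWreathSubgroup k t e P

/-- The form has a totally singular subspace of half the dimension. -/
def HasHalf (Q : QuadraticForm F (Fin n → F)) : Prop :=
  ∃ U : Submodule F (Fin n → F), Cfsg.Geo.IsTotallySingularQuad ⇑Q U ∧ 2 * Module.finrank F U = n

theorem quad_eq_of_polar (hn : 2 ≤ n) {S : Set (Matrix (Fin n) (Fin n) F)} (hirr : ActsIrreducibly S)
    {Q₁ Q₂ : (Fin n → F) → F} (h1 : ∀ (c : F) v, Q₁ (c • v) = c * c * Q₁ v)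
    (h2 : ∀ (c : F) v, Q₂ (c • v) = c * c * Q₂ v) (hp : ∀ u v, QuadraticMap.polar Q₁ u v = QuadraticMap.polar Q₂ u v)
    (hS₁ : ∀ s ∈ S, ∀ v, Q₁ (s *ᵥ v) = Q₁ v) (hS₂ : ∀ s ∈ S, ∀ v, Q₂ (s *ᵥ v) = Q₂ v) : ∀ v, Q₁ v = Q₂ v := by
  by_cases hodd : Odd (Fintype.card F)
  · intro v
    have h := hp v v
    have a := h1 2 v
    have b := h2 2 v
    simp only [QuadraticMap.polar, ← two_smul F v, a, b] at h
    refine mul_left_cancel₀ (PrimeDim.two_ne_zero_of_odd hodd) ?_
    linear_combination h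
  · exact quad_unique hn (two_eq_zero_of_not_odd hodd) hirr h1 h2 hp hS₁ hS₂

theorem sform_semilinear (σ : F ≃+* F) {J : Matrix (Fin n) (Fin n) F} (x y : Fin n → F) :
    σ (sform τ₁ J x y) = sform τ₁ (bm σ J) (⇑σ ∘ x) (⇑σ ∘ y) := by
  simp [sform, dotProduct, mulVec, map_sum, map_mul, bm_apply]

/-- Realisability over a subfield puts the group in a subfield group carrying the quadratic form. -/
theorem orth_rational (hB : Nondeg Q) (hn : 2 ≤ n) {H N : Subgroup (GL (Fin n) F)} (hH : H ≤ omegaGL ⇑Q)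
    (hN : Nml H N) (habs : ActsAbsolutelyIrreducibly (matrixSet N)) {F₀ : Subfield F} (hF₀ : F₀ ≠ ⊤)
    (hreal : Cfsg.Geo.RealisableOver F₀ (matrixSet N)) : ORationalCase Q H := by
  classical
  have hd := orth_data hB
  haveI : Nonempty (Fin n) := ⟨⟨0, by omega⟩⟩
  obtain ⟨F₁, r, P, σ, hr, -, hcard, hfix, hrat, hle⟩ := PrimeDim.subfield_data (by omega) hN habs hF₀ hreal
  let Q₂ : (Fin n → F) → F := fun v => σ (Q (P.val *ᵥ (⇑σ.symm ∘ ((P⁻¹).val *ᵥ v))))
  let B₂ : Matrix (Fin n) (Fin n) F := (P⁻¹).valᵀ * bm σ (P.valᵀ * ogram Q * P.val) * (P⁻¹).val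
  have hadd : ∀ x y : Fin n → F, ⇑σ.symm ∘ (x + y) = (⇑σ.symm ∘ x) + (⇑σ.symm ∘ y) := fun x y =>
    funext fun i => map_add σ.symm _ _
  have hsm : ∀ (c : F) v, Q₂ (c • v) = c * c * Q₂ v := fun c v => by
    have e : ⇑σ.symm ∘ ((P⁻¹).val *ᵥ (c • v)) = σ.symm c • (⇑σ.symm ∘ ((P⁻¹).val *ᵥ v)) := by
      rw [mulVec_smul]; exact funext fun i => map_mul σ.symm _ _
    show σ (Q (P.val *ᵥ (⇑σ.symm ∘ ((P⁻¹).val *ᵥ (c • v))))) = _
    rw [e, mulVec_smul, CfsgLib.Orth.q_smul]
    simp only [Q₂, map_mul, RingEquiv.apply_symm_apply]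
  have hpol : ∀ u v, QuadraticMap.polar Q₂ u v = sform τ₁ B₂ u v := fun u v => by
    have e1 : QuadraticMap.polar Q₂ u v = σ (QuadraticMap.polar ⇑Q (P.val *ᵥ (⇑σ.symm ∘ ((P⁻¹).val *ᵥ u)))
        (P.val *ᵥ (⇑σ.symm ∘ ((P⁻¹).val *ᵥ v)))) := by
      simp only [QuadraticMap.polar, Q₂, mulVec_add, hadd, map_sub]
    rw [e1, polar_sform hB, sform_mulVec, bm_refl, sform_semilinear]
    have e2 : ∀ z : Fin n → F, ⇑σ ∘ (⇑σ.symm ∘ z) = z := fun z => funext fun i => σ.apply_symm_apply _
    rw [e2, e2, sform_mulVec, bm_refl]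
  have hinv : ∀ z ∈ N, ∀ v, Q₂ (z.val *ᵥ v) = Q₂ v := fun z hz v => by
    obtain ⟨Z, hZ⟩ : ∃ Z : Matrix (Fin n) (Fin n) F, Z = ((P⁻¹ * z * P : GL (Fin n) F) : Matrix (Fin n) (Fin n) F) :=
      ⟨_, rfl⟩
    have e1 : (P⁻¹).val *ᵥ (z.val *ᵥ v) = Z *ᵥ ((P⁻¹).val *ᵥ v) := by
      simp [hZ, mulVec_mulVec, mul_assoc]
    have e2 : ∀ x : Fin n → F, ⇑σ.symm ∘ (Z *ᵥ x) = Z *ᵥ (⇑σ.symm ∘ x) := fun x => by
      funext i
      simp only [Function.comp_apply, mulVec, dotProduct, map_sum, map_mul]
      refine Finset.sum_congr rfl fun j _ => ?_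
      congr 1
      have : σ (Z i j) = Z i j := (hfix _).2 (hZ ▸ hrat z hz i j)
      conv_lhs => rw [← this]
      exact σ.symm_apply_apply _
    have e3 : ∀ x, P.val *ᵥ (Z *ᵥ x) = z.val *ᵥ (P.val *ᵥ x) := fun x => by
      simp [hZ, mulVec_mulVec, ← mul_assoc]
    simp only [Q₂, e1, e2, e3, omega_quad hH (hN.le hz)]
  obtain ⟨c, hc⟩ := invariant_unique (τ := RingEquiv.refl F) (fun _ => rfl) habs (B' := B₂) hd.unit
    (by rintro _ ⟨z, hz, rfl⟩; exact omega_iso hB hH z (hN.le hz)) (by
    rintro _ ⟨z, hz, rfl⟩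
    refine (iso_iff _ _ _).2 fun u v => ?_
    rw [← hpol, ← hpol]
    simp only [QuadraticMap.polar, ← mulVec_add, hinv z hz])
  have heq : ∀ v, Q₂ v = c * Q v := quad_eq_of_polar hn habs.1 hsm
    (fun a v => by show c * Q (a • v) = a * a * (c * Q v); rw [CfsgLib.Orth.q_smul]; ring)
    (fun u v => by
      rw [hpol, hc, sform_smul_matrix, ← polar_sform hB]
      simp only [QuadraticMap.polar]
      ring)
    (by rintro _ ⟨z, hz, rfl⟩ v; exact hinv z hz v)
    (by
      rintro _ ⟨z, hz, rfl⟩ v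
      show c * Q (z.val *ᵥ v) = c * Q v
      rw [omega_quad hH (hN.le hz)])
  have hrel : ∀ u : Fin n → F, (∀ i, u i ∈ F₁) → σ (Q (P.val *ᵥ u)) = c * Q (P.val *ᵥ u) := fun u hu => by
    have h := heq (P.val *ᵥ u)
    have e : ⇑σ.symm ∘ u = u := funext fun i => by
      have := (hfix _).2 (hu i)
      conv_lhs => rw [Function.comp_apply, ← this]
      exact σ.symm_apply_apply _
    simpa [Q₂, PrimeDim.inv_mulVec_cancel, e] using h
  have hs : ∀ i : Fin n, ∀ k, (Pi.single i (1 : F) : Fin n → F) k ∈ F₁ := fun i k => by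
    by_cases h : k = i
    · subst h; simp [F₁.one_mem]
    · simp [h, F₁.zero_mem]
  obtain ⟨u₀, hu₀, hne⟩ : ∃ u : Fin n → F, (∀ i, u i ∈ F₁) ∧ Q (P.val *ᵥ u) ≠ 0 := by
    by_contra hcon
    push Not at hcon
    have hG : P.valᵀ * ogram Q * P.val = 0 := Matrix.ext fun i j => by
      have e := sform_mulVec τ₁ (ogram Q) P.val P.val (Pi.single i 1) (Pi.single j 1)
      rw [bm_refl] at e
      rw [← sform_single τ₁ (P.valᵀ * ogram Q * P.val), ← e, ← polar_sform hB,
        QuadraticMap.polar, ← mulVec_add, hcon (Pi.single i 1 + Pi.single j 1) fun k => F₁.add_mem (hs i k) (hs j k), hcon _ (hs i), hcon _ (hs j)]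
      simp
    have hu : IsUnit (P.valᵀ * ogram Q * P.val) := by
      refine (IsUnit.mul ?_ hd.unit).mul P.isUnit
      rw [Matrix.isUnit_iff_isUnit_det, Matrix.det_transpose]
      exact (Matrix.isUnit_iff_isUnit_det _).1 P.isUnit
    exact hu.ne_zero hG
  refine ⟨F₁, r, P, (Q (P.val *ᵥ u₀))⁻¹, hr, hcard, inv_ne_zero hne, fun u hu => (hfix _).1 ?_, hle⟩
  have hc0 : c ≠ 0 := fun e => hne (by
    have := hrel u₀ hu₀
    rwa [e, zero_mul, map_eq_zero] at this)
  simp only [map_mul, map_inv₀, hrel u hu, hrel u₀ hu₀]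
  field_simp

/-- Almost simple subgroups. -/
theorem orth_simple (hB : Nondeg Q) (hn : 2 ≤ n) {H N : Subgroup (GL (Fin n) F)} (hH : H ≤ omegaGL ⇑Q)
    (hN : Nml H N) (habs : ActsAbsolutelyIrreducibly (matrixSet N))
    (hperf : ⁅N, N⁆ = N) (hsimp : IsSimpleGroup (N ⧸ (scalars (Fin n) F).subgroupOf N))
    (hnab : ¬ IsMulCommutative (N ⧸ (scalars (Fin n) F).subgroupOf N))
    (hcent : ∀ h ∈ H, (∀ x ∈ N, h * x * h⁻¹ * x⁻¹ ∈ scalars (Fin n) F) → h ∈ scalars (Fin n) F) :
    ORationalCase Q H ∨ Cfsg.Geo.InOrthogonalResidualClass H := by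
  classical
  have hd := orth_data hB
  by_cases h1 : ∃ F₀ : Subfield F, F₀ ≠ ⊤ ∧ Cfsg.Geo.RealisableOver F₀ (matrixSet N)
  · obtain ⟨F₀, hne, hr⟩ := h1
    exact Or.inl (orth_rational hB hn hH hN habs hne hr)
  refine Or.inr ⟨N, ⟨hN.le, hN.conj, hperf, hsimp, hnab, hcent, habs, fun F₀ hne hr => h1 ⟨F₀, hne, hr⟩⟩, ?_⟩
  rintro ⟨σ, f, hf, hfix⟩
  apply h1
  have hS := Sesq.of_unitary hf
  obtain ⟨B, hBf⟩ : ∃ B, B = Cfsg.Geo.gramMatrix f := ⟨_, rfl⟩
  have hfB : ∀ u v, f u v = sform σ B u v := fun u v => hBf ▸ sesq_sform hS u v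
  have hBinv : ∀ z ∈ N, z.valᵀ * B * bm σ z.val = B := fun z hz => (iso_iff σ B _).2 fun u v => by
    rw [← hfB, ← hfB]
    exact hfix _ ⟨z, hz, rfl⟩ u v
  refine PrimeDim.realisable_of_semilinear (by omega) habs hf.ne_refl hf.involutive
    (M := fun v => (ogram Q)⁻¹ *ᵥ (B *ᵥ (⇑σ ∘ v))) (fun x y => ?_) (fun c x => ?_) (fun v hv => ?_)
    fun z hz y => ?_
  · rw [show ⇑σ ∘ (x + y) = (⇑σ ∘ x) + (⇑σ ∘ y) from funext fun i => map_add σ _ _, mulVec_add, mulVec_add]
  · rw [show ⇑σ ∘ (c • x) = σ c • (⇑σ ∘ x) from funext fun i => map_mul σ _ _, mulVec_smul, mulVec_smul]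
  · by_contra h0
    obtain ⟨⟨x, hx⟩, -⟩ := hf.nondegenerate v h0
    apply hx
    have e1 : B *ᵥ (⇑σ ∘ v) = 0 := by
      have := congrArg (fun w => ogram Q *ᵥ w) hv
      simpa [mulVec_mulVec, ← mul_assoc, Matrix.mul_nonsing_inv _ hd.det] using this
    rw [hfB, sform, e1, dotProduct_zero]
  · simp only [← bm_mulVec, mulVec_mulVec]
    congr 1
    have e1 : z.valᵀ * ogram Q * z.val = ogram Q := omega_iso hB hH z (hN.le hz)
    obtain ⟨T, hT⟩ : IsUnit z.valᵀ := by
      rw [Matrix.isUnit_iff_isUnit_det, Matrix.det_transpose]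
      exact (Matrix.isUnit_iff_isUnit_det _).1 z.isUnit
    obtain ⟨Ju, hJu⟩ := hd.unit
    apply (Units.mul_right_inj Ju).1
    apply (Units.mul_right_inj T).1
    rw [hT, hJu]
    simp only [← mul_assoc]
    rw [e1, mul_assoc z.valᵀ, Matrix.mul_nonsing_inv _ hd.det, mul_one, one_mul, hBinv z hz]

/-! ### Tensor powers -/

/-- A perfect group has trivial image in a commutative set. -/
theorem perfect_comm {G K : Type*} [Group G] [Group K] {M : Subgroup G} (hperf : ⁅M, M⁆ = M) (φ : M →* K)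
    (hc : ∀ x y, φ x * φ y = φ y * φ x) : ∀ x, φ x = 1 := by
  have h2 : ⁅(⊤ : Subgroup M), (⊤ : Subgroup M)⁆ = ⊤ := by
    apply Subgroup.map_injective M.subtype_injective
    rw [Subgroup.map_commutator, ← MonoidHom.range_eq_map, Subgroup.range_subtype, hperf]
  have hle : ⁅(⊤ : Subgroup M), (⊤ : Subgroup M)⁆ ≤ φ.ker := Subgroup.commutator_le.2 fun a _ b _ => by
    rw [MonoidHom.mem_ker, commutatorElement_def]
    simp only [map_mul, map_inv, hc a b]
    group
  exact fun x => hle (h2.symm ▸ Subgroup.mem_top x)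

/-- A perfect group has trivial image in a group of six elements. -/
theorem perfect_six {G K : Type*} [Group G] [Group K] [Finite K] (hK : Nat.card K = 6) {M : Subgroup G}
    (hperf : ⁅M, M⁆ = M) (φ : M →* K) : ∀ x, φ x = 1 := by
  classical
  haveI : Group.IsSolvable K := CfsgLib.FourOrbit.isSolvable_of_two_primes Nat.prime_two Nat.prime_three
    (by norm_num) fun s hs hdvd => by
      have h' : s ∣ 2 * 3 := hdvd.trans (by rw [hK])
      rcases (Nat.Prime.dvd_mul hs).1 h' with h | h
      · exact Or.inl ((Nat.prime_dvd_prime_iff_eq hs Nat.prime_two).1 h)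
      · exact Or.inr ((Nat.prime_dvd_prime_iff_eq hs Nat.prime_three).1 h)
  obtain ⟨d, hd⟩ := Group.IsSolvable.solvable (G := K)
  have h2 : ⁅(⊤ : Subgroup M), (⊤ : Subgroup M)⁆ = ⊤ := by
    apply Subgroup.map_injective M.subtype_injective
    rw [Subgroup.map_commutator, ← MonoidHom.range_eq_map, Subgroup.range_subtype, hperf]
  have h3 : ∀ d, (⊤ : Subgroup M).map φ ≤ derivedSeries K d := fun d => by
    induction d with
    | zero => exact le_top
    | succ d ih =>
      rw [derivedSeries_succ, ← h2, Subgroup.map_commutator]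
      exact Subgroup.commutator_mono ih ih
  intro x
  have h := h3 d ⟨x, Subgroup.mem_top x, rfl⟩
  rw [hd] at h
  exact h

theorem slot_mul_slot {m k : ℕ} (i : Fin k) (A B : Matrix (Fin m) (Fin m) F) :
    slot (k := k) i (A * B) = slot i A * slot i B := by
  rw [slot, slot, slot, pureMat_mul]
  congr 1
  funext l
  by_cases hl : l = i
  · subst hl; simp
  · simp [Function.update_of_ne hl]

/-- The tensor power case. -/
theorem orth_power (hB : Nondeg Q) (hn : 2 ≤ n) {H : Subgroup (GL (Fin n) F)} (hH : H ≤ omegaGL ⇑Q)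
    (hirrH : ActsIrreducibly (matrixSet H))
    {m k : ℕ} {Mf : Fin k → Subgroup (GL (Fin n) F)} {ρ : ∀ i, Mf i → Matrix (Fin m) (Fin m) F}
    {e : Fin n ≃ (Fin k → Fin m)} {P : GL (Fin n) F} (hm : 2 ≤ m) (hk : 2 ≤ k) (hcard : m ^ k = n)
    (hirr : ∀ i, ActsIrreducibly (Set.range (ρ i)))
    (hrep : ∀ i (x : Mf i), tcoord e P ((x : GL (Fin n) F) : Matrix (Fin n) (Fin n) F) = slot i (ρ i x))
    (habs : ActsAbsolutelyIrreducibly (matrixSet (⨆ i, Mf i))) (hMH : ∀ i, Mf i ≤ H)
    (hperf : ∀ i, ⁅Mf i, Mf i⁆ = Mf i)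
    (hperm : ∀ g ∈ H, ∃ σ : Equiv.Perm (Fin k), ∀ i, ∀ x ∈ Mf i, g * x * g⁻¹ ∈ Mf (σ i))
    (htrans : ∀ i₀ l, ∃ g ∈ H, ∃ σ : Equiv.Perm (Fin k), σ i₀ = l ∧ ∀ i, ∀ x ∈ Mf i, g * x * g⁻¹ ∈ Mf (σ i)) :
    OSymPowerCase Q H ∨ OSympPowerCase Q H := by
  classical
  have hd := orth_data hB
  have hiso := omega_iso hB hH
  let i₀ : Fin k := ⟨0, by omega⟩
  obtain ⟨J₀, c₀, c, P', hc, hc₀, hd₀, hF, habs₀, hρ₀, hle⟩ :=
    wreath_form hd (by omega) hiso (by omega) hirr hrep habs hMH hperm i₀ (htrans i₀)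
  rw [RingEquiv.refl_apply] at hc₀
  haveI : Nonempty (Fin m) := ⟨⟨0, by omega⟩⟩
  have hs₀ : J₀ᵀ = c₀ • J₀ := by
    have := hd₀.herm
    rwa [bm_refl] at this
  have hck : c₀ ^ k = 1 := by
    have hFd := (fcoord_data hd e P').herm
    rw [hF, bm_refl, Matrix.transpose_smul, pureMat_transpose] at hFd
    simp only [hs₀, pureMat_smul, Finset.prod_const, Finset.card_univ, Fintype.card_fin, smul_smul] at hFd
    obtain ⟨i, j, hij⟩ : ∃ i j, J₀ i j ≠ 0 := by
      by_contra hc'
      push Not at hc'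
      exact hd₀.unit.ne_zero (Matrix.ext hc')
    have h' := congrFun (congrFun hFd (fun _ => i)) (fun _ => j)
    simp only [Matrix.smul_apply, smul_eq_mul, pureMat_apply, Finset.prod_const, Finset.card_univ,
      Fintype.card_fin] at h'
    refine mul_left_cancel₀ hc (mul_right_cancel₀ (pow_ne_zero k hij) ?_)
    linear_combination h'
  have hinjs : ∀ A B : Matrix (Fin m) (Fin m) F, slot (k := k) i₀ A = slot i₀ B → A = B := fun A B hAB => by
    ext u v
    have a₀ : Fin m := ⟨0, by omega⟩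
    have := congrFun (congrFun hAB (Function.update (fun _ => a₀) i₀ u)) (Function.update (fun _ => a₀) i₀ v)
    rw [slot_apply, slot_apply, if_pos (fun l hl => by simp [Function.update_of_ne hl]),
      if_pos (fun l hl => by simp [Function.update_of_ne hl])] at this
    simpa using this
  let φ₀ : Mf i₀ →* Matrix (Fin m) (Fin m) F :=
    { toFun := ρ i₀
      map_one' := hinjs _ _ (by
        rw [← hrep, slot]
        have e1 : (Function.update (fun _ : Fin k => (1 : Matrix (Fin m) (Fin m) F)) i₀ 1) = fun _ => 1 := by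
          funext l
          by_cases hl : l = i₀
          · subst hl; simp
          · simp [Function.update_of_ne hl]
        rw [e1, pureMat_one]
        ext p q
        simp [tcoord, Matrix.one_apply])
      map_mul' := fun x y => hinjs _ _ (by
        rw [slot_mul_slot, ← hrep, ← hrep, ← hrep, ← tcoord_mul]
        rfl) }
  let φ := φ₀.toHomUnits
  have hφ : ∀ x, (φ x).val = ρ i₀ x := fun x => rfl
  have htriv : (∀ x, φ x = 1) → False := fun h => by
    obtain ⟨s, hs⟩ := habs₀.2 (Matrix.single (⟨0, by omega⟩ : Fin m) ⟨1, by omega⟩ 1) (by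
      rintro _ ⟨x, rfl⟩
      rw [← hφ, h, Units.val_one, mul_one, one_mul])
    have := congrFun (congrFun hs ⟨0, by omega⟩) ⟨1, by omega⟩
    simp [Fin.ext_iff] at this
  have hiso₀ : ∀ x, (ρ i₀ x)ᵀ * J₀ * ρ i₀ x = J₀ := fun x => by
    have := hρ₀ x
    rwa [bm_refl] at this
  -- singular pure tensors
  let pv : (Fin k → Fin m → F) → (Fin n → F) := fun u => P'.val *ᵥ ((fun x => ∏ i, u i (x i)) ∘ e)
  have hpv : ∀ u u', sform τ₁ (ogram Q) (pv u) (pv u') = c * ∏ i, sform τ₁ J₀ (u i) (u' i) := by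
    intro u u'
    simp only [pv]
    rw [sform_fcoord, hF, sform_smul_matrix]
    congr 1
    simp only [sform, dotProduct, mulVec, Function.comp_apply, RingEquiv.refl_apply, pureMat_apply]
    rw [Fintype.prod_sum]
    refine Finset.sum_congr rfl fun x _ => ?_
    rw [Finset.prod_mul_distrib, Fintype.prod_sum]
    congr 1
    exact Finset.sum_congr rfl fun y _ => Finset.prod_mul_distrib.symm
  by_cases hodd : Odd (Fintype.card F)
  · have h2 := PrimeDim.two_ne_zero_of_odd hodd
    rcases mul_self_eq_one_iff.1 hc₀ with hc1 | hc1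
    · -- symmetric factors
      subst hc1
      have hdet : ∀ x, (φ x).val.det = 1 := fun x => by
        let d : Mf i₀ →* Fˣ := Matrix.GeneralLinearGroup.det.comp φ
        have h := congrArg Units.val (perfect_comm (hperf i₀) d (fun a b => mul_comm _ _) x)
        exact h
      by_cases hm2 : m = 2
      · exfalso
        subst hm2
        refine htriv (perfect_comm (hperf i₀) φ fun x y => Units.ext ?_)
        obtain ⟨z, hz⟩ : ∃ z, z = J₀⁻¹ * jTwo F := ⟨_, rfl⟩
        have hzJ : J₀ * z = jTwo F := by rw [hz, ← mul_assoc, Matrix.mul_nonsing_inv _ hd₀.det, one_mul]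
        have hs : J₀ᵀ = J₀ := by rw [hs₀, one_smul]
        have hcz : ∀ x, (φ x).val * z = z * (φ x).val := fun x => by
          have hC : (φ x).valᵀ * J₀ * (φ x).val = J₀ := hiso₀ x
          obtain ⟨T, hT⟩ : IsUnit (φ x).valᵀ := by
            rw [Matrix.isUnit_iff_isUnit_det, Matrix.det_transpose, hdet]
            exact isUnit_one
          obtain ⟨Ju, hJu⟩ := hd₀.unit
          apply (Units.mul_right_inj Ju).1
          apply (Units.mul_right_inj T).1
          rw [hT, hJu]
          calc (φ x).valᵀ * (J₀ * ((φ x).val * z)) = ((φ x).valᵀ * J₀ * (φ x).val) * z := by simp only [mul_assoc]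
            _ = jTwo F := by rw [hC, hzJ]
            _ = _ := by rw [← mul_assoc J₀, hzJ, ← mul_assoc, jTwo_congr, hdet, one_smul]
        -- the centraliser of a non-scalar two by two matrix
        have hpair : ∀ X, X * z = z * X → ∃ a b : F, X = a • 1 + b • z := by
          intro X hX
          obtain ⟨v, hv⟩ : ∃ v : Fin 2 → F, LinearIndependent F ![v, z *ᵥ v] := by
            by_contra hc'
            push Not at hc'
            have heig : ∀ v : Fin 2 → F, v ≠ 0 → ∃ l : F, z *ᵥ v = l • v := fun v hv => by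
              have := hc' v
              rw [LinearIndependent.pair_iff' hv] at this
              push Not at this
              obtain ⟨l, hl⟩ := this
              exact ⟨l, hl.symm⟩
            obtain ⟨l₁, h₁⟩ := heig ![1, 0] (by simp)
            obtain ⟨l₂, h₂'⟩ := heig ![0, 1] (by simp)
            obtain ⟨l₃, h₃⟩ := heig ![1, 1] (by simp)
            have a1 := congrFun h₁ 0
            have a2 := congrFun h₁ 1
            have b1 := congrFun h₂' 0
            have b2 := congrFun h₂' 1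
            have c1 := congrFun h₃ 0
            have c2 := congrFun h₃ 1
            simp [mulVec, dotProduct, Fin.sum_univ_two] at a1 a2 b1 b2 c1 c2
            have hzs : z = l₁ • 1 := by
              ext i j
              fin_cases i <;> fin_cases j <;> simp [Matrix.one_apply, a1, a2, b1]
              linear_combination c2 - c1 + a1 + b1 - a2
            have hsym := congrArg Matrix.transpose (show jTwo F = l₁ • J₀ by rw [← hzJ, hzs, mul_smul_comm, mul_one])
            rw [jTwo_transpose, Matrix.transpose_smul, hs, show l₁ • J₀ = jTwo F by rw [← hzJ, hzs, mul_smul_comm, mul_one]] at hsym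
            have := congrFun (congrFun hsym 0) 1
            simp [jTwo] at this
            exact h2 (by linear_combination -this)
          obtain ⟨a, b, hab⟩ : ∃ a b : F, X *ᵥ v = a • v + b • (z *ᵥ v) := by
            have hspan := hv.span_eq_top_of_card_eq_finrank (by simp)
            obtain ⟨cf, hcf⟩ := (Submodule.mem_span_range_iff_exists_fun F).1 (hspan ▸ Submodule.mem_top (x := X *ᵥ v))
            exact ⟨cf 0, cf 1, by simpa [Fin.sum_univ_two] using hcf.symm⟩
          refine ⟨a, b, Matrix.toLin'.injective (Module.Basis.ext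
            (basisOfLinearIndependentOfCardEqFinrank hv (by simp)) fun i => ?_)⟩
          have e0 : (a • (1 : Matrix (Fin 2) (Fin 2) F) + b • z) *ᵥ v = X *ᵥ v := by
            rw [hab, add_mulVec, smul_mulVec, smul_mulVec, one_mulVec]
          fin_cases i
          · simp only [Matrix.toLin'_apply, coe_basisOfLinearIndependentOfCardEqFinrank, Fin.zero_eta, Fin.isValue,
              Matrix.cons_val_zero]
            exact e0.symm
          · have : X *ᵥ (z *ᵥ v) = (a • (1 : Matrix (Fin 2) (Fin 2) F) + b • z) *ᵥ (z *ᵥ v) := by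
              rw [mulVec_mulVec, hX, ← mulVec_mulVec, ← e0, mulVec_mulVec, mulVec_mulVec]
              congr 1
              simp [mul_add, add_mul]
            simp only [Matrix.toLin'_apply, coe_basisOfLinearIndependentOfCardEqFinrank, Fin.mk_one, Fin.isValue,
              Matrix.cons_val_one]
            exact this
        obtain ⟨a, b, hab⟩ := hpair _ (hcz x)
        rw [Units.val_mul, Units.val_mul, hab]
        simp [add_mul, mul_add, hcz y]
      by_cases h33 : Fintype.card F = 3 ∧ m = 3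
      · exfalso
        obtain ⟨hq, rfl⟩ := h33
        have hq' : Nat.card F = 3 := by rw [Nat.card_eq_fintype_card, hq]
        obtain ⟨a, horth, hne, -, hmono⟩ :=
          CfsgLib.Classical.TensorMonoOrth.exists_frame hq' (symmetric_form hd₀)
        have hli : LinearIndependent F a := by
          rw [Fintype.linearIndependent_iff]
          intro cf hcf l
          have h := congrArg (fun z => sform τ₁ J₀ z (a l)) hcf
          simp only [Fin.sum_univ_three, sform_add_left, sform_smul_left, sform_zero_left] at h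
          fin_cases l <;> simp_all
        choose f l hfl using fun x => hmono (fun i => ρ i₀ x *ᵥ a i) 1 one_ne_zero (fun i j => by
          rw [sform_mulVec, bm_refl, hiso₀, one_mul])
        have hl0 : ∀ x i, l x i ≠ 0 := fun x i h => by
          have h' := hfl x i
          rw [h, zero_smul] at h'
          apply hne i
          have : a i = 0 := by
            rw [← one_mulVec (a i), ← Units.inv_mul (φ x), ← mulVec_mulVec, hφ, h', mulVec_zero]
          rw [this, sform_zero_left]
        have huniq : ∀ {i j : Fin 3} {s t : F}, s ≠ 0 → s • a i = t • a j → i = j := fun {i j s t} hs h => by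
          by_contra hij
          have h' := congrArg (fun z => sform τ₁ J₀ z (a i)) h
          simp only [sform_smul_left, horth j i (Ne.symm hij), mul_zero] at h'
          exact mul_ne_zero hs (hne i) h'
        have hmul : ∀ x y i, f (x * y) i = f x (f y i) := fun x y i => by
          refine @huniq (f (x * y) i) (f x (f y i)) (l (x * y) i) (l x (f y i) * l y i) (hl0 _ _) ?_
          rw [← hfl, show ρ i₀ (x * y) = ρ i₀ x * ρ i₀ y from map_mul φ₀ x y, ← mulVec_mulVec, hfl, mulVec_smul, hfl,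
            smul_smul, mul_comm]
        have hone : ∀ i, f 1 i = i := fun i => by
          refine @huniq (f 1 i) i (l 1 i) 1 (hl0 _ _) ?_
          rw [← hfl, show ρ i₀ 1 = 1 from map_one φ₀, one_mulVec, one_smul]
        let π : Mf i₀ →* Equiv.Perm (Fin 3) :=
          { toFun := fun x => ⟨f x, f x⁻¹, fun i => by rw [← hmul, inv_mul_cancel, hone],
              fun i => by rw [← hmul, mul_inv_cancel, hone]⟩
            map_one' := Equiv.ext hone
            map_mul' := fun x y => Equiv.ext (hmul x y) }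
        have hπ := perfect_six (by simp [Nat.card_eq_fintype_card, Fintype.card_perm, Nat.factorial]) (hperf i₀) π
        have hfix : ∀ x i, f x i = i := fun x i => DFunLike.congr_fun (hπ x) i
        refine htriv (perfect_comm (hperf i₀) φ fun x y => Units.ext ?_)
        refine Matrix.toLin'.injective (Module.Basis.ext (basisOfLinearIndependentOfCardEqFinrank hli (by simp))
          fun i => ?_)
        simp [hφ, ← mulVec_mulVec, hfl, hfix, mulVec_smul, smul_smul, mul_comm]
      exact Or.inl ⟨hirrH, m, k, e, P', J₀, c, hodd, by omega, hk, h33, hcard, hd₀, hc, hF, hle⟩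
    · subst hc1
      have hev : Even k := by
        by_contra h
        rw [(Nat.not_even_iff_odd.1 h).neg_one_pow] at hck
        exact h2 (by linear_combination -hck)
      have hsd : SympData J₀ := SympData.of_skew hd₀ h2
      refine Or.inr ⟨hirrH, m, k, e, P', J₀, c, hm, hk, fun _ => hev, ?_, hcard, hsd, hc, hF, fun u => ?_, hle⟩
      · rintro ⟨hq, rfl⟩
        have hq3 : Fintype.card F = 3 := by
          obtain ⟨j, hj⟩ := hodd
          have := Fintype.one_lt_card (α := F)
          omega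
        exact htriv (perfect_two_three hq3 (Mf i₀) (hperf i₀) φ)
      · have h := hpv u u
        rw [Finset.prod_eq_zero (Finset.mem_univ i₀) (hsd.alt _), mul_zero, ← polar_sform hB,
          CfsgLib.Orth.b_self] at h
        exact (mul_eq_zero.1 h).resolve_left h2
  -- characteristic two
  have h20 := two_eq_zero_of_not_odd hodd
  haveI : CharP F 2 := CharTwo.of_one_ne_zero_of_two_eq_zero one_ne_zero h20
  have hc1 : c₀ = 1 := (mul_self_eq_one_iff.1 hc₀).elim id fun e => by rw [e]; linear_combination -h20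
  have hsd : SympData J₀ := by
    refine ⟨⟨hd₀.unit, fun _ => rfl, ?_⟩, alt_of_irreducible hm h20 (by rw [hs₀, hc1, one_smul]) (hirr i₀) (by
      rintro _ ⟨x, rfl⟩
      exact ⟨1, by rw [one_smul]; exact hiso₀ x⟩)⟩
    rw [bm_refl, hs₀, hc1, CharTwo.neg_eq]
  have hS : SympData (ogram Q) := by
    refine ⟨⟨hd.unit, fun _ => rfl, ?_⟩, fun v => ?_⟩
    · rw [hd.herm, CharTwo.neg_eq]
    · rw [← polar_sform hB, CfsgLib.Orth.b_self, h20, zero_mul]
  obtain ⟨Q', hQ', hp, hQ0⟩ := exists_quad hS h20 P'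
  have hzero : ∀ (s : Finset (Fin k)) (u : Fin k → Fin m → F),
      (∀ i, i ∉ s → ∃ a, u i = Pi.single a 1) → Q' (pv u) = 0 := by
    intro s
    induction s using Finset.induction_on with
    | empty =>
      intro u hu
      choose a ha using fun i => hu i (Finset.notMem_empty i)
      have e1 : pv u = P'.val *ᵥ Pi.single (e.symm a) 1 := by
        simp only [pv]
        congr 1
        funext j
        obtain ⟨x, rfl⟩ := e.symm.surjective j
        simp only [Function.comp_apply, Equiv.apply_symm_apply, ha]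
        by_cases hx : x = a
        · subst hx; simp
        · obtain ⟨i, hi⟩ := Function.ne_iff.1 hx
          rw [Pi.single_eq_of_ne (fun h' => hx (e.symm.injective h')),
            Finset.prod_eq_zero (Finset.mem_univ i) (Pi.single_eq_of_ne hi _)]
      rw [e1]
      exact hQ0 _
    | @insert l s hl ih =>
      intro u hu
      refine quad_span hS hQ' hp (S := Set.range fun a => pv (Function.update u l (Pi.single a 1))) ?_ ?_ _ ?_
      · rintro _ ⟨a, rfl⟩
        refine ih _ fun i hi => ?_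
        by_cases hil : i = l
        · subst hil; exact ⟨a, Function.update_self _ _ _⟩
        · rw [Function.update_of_ne hil]
          exact hu i (by simp [hi, hil])
      · rintro _ ⟨a, rfl⟩ _ ⟨a', rfl⟩
        rw [hpv]
        obtain ⟨j, hj⟩ : ∃ j, j ≠ l := by
          haveI : Nontrivial (Fin k) := Fin.nontrivial_iff_two_le.2 hk
          exact exists_ne l
        refine mul_eq_zero_of_right _ (Finset.prod_eq_zero (Finset.mem_univ j) ?_)
        rw [Function.update_of_ne hj, Function.update_of_ne hj, hsd.alt]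
      · have e1 : pv u = ∑ a, u l a • pv (Function.update u l (Pi.single a 1)) := by
          simp only [pv, ← mulVec_smul, ← mulVec_sum]
          congr 1
          funext j
          simp only [Finset.sum_apply, Pi.smul_apply, Function.comp_apply, smul_eq_mul]
          rw [Finset.sum_eq_single (e j l)]
          · rw [← Finset.mul_prod_erase _ _ (Finset.mem_univ l), ← Finset.mul_prod_erase _ _ (Finset.mem_univ l),
              Function.update_self, Pi.single_eq_same, one_mul]
            congr 1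
            exact Finset.prod_congr rfl fun i hi => by rw [Function.update_of_ne (Finset.ne_of_mem_erase hi)]
          · intro a _ ha
            rw [Finset.prod_eq_zero (Finset.mem_univ l) (by rw [Function.update_self, Pi.single_eq_of_ne (Ne.symm ha)]),
              mul_zero]
          · simp
        rw [e1]
        exact Submodule.sum_mem _ fun a _ => Submodule.smul_mem _ _ (Submodule.subset_span ⟨a, rfl⟩)
  have hQpure : ∀ u, Q' (pv u) = 0 := fun u => hzero Finset.univ u fun i hi => absurd (Finset.mem_univ i) hi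
  have hinv : ∀ g ∈ H, ∀ v, Q' (g.val *ᵥ v) = Q' v := fun g hg => by
    refine quad_iso_of_basis hQ' hp (hiso g hg) (S := Set.range fun i => P'.val *ᵥ Pi.single i (1 : F)) ?_ ?_
    · refine eq_top_iff.2 fun v _ => ?_
      have hv : v = ∑ i, ((P'⁻¹).val *ᵥ v) i • (P'.val *ᵥ Pi.single i (1 : F)) := by
        conv_lhs => rw [← PrimeDim.mulVec_inv_cancel P' v, pi_eq_sum_univ' ((P'⁻¹).val *ᵥ v), mulVec_sum]
        simp only [mulVec_smul]
      rw [hv]
      exact Submodule.sum_mem _ fun i _ => Submodule.smul_mem _ _ (Submodule.subset_span ⟨i, rfl⟩)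
    · rintro _ ⟨i, rfl⟩
      obtain ⟨_, ⟨w, hw, rfl⟩, hg'⟩ := hle hg
      obtain ⟨x, rfl⟩ := e.symm.surjective i
      obtain ⟨u, hu⟩ := wreathStandard_pure hw (Pi.single x 1) ⟨fun l => Pi.single (x l) 1, fun y => by
        by_cases hy : y = x
        · subst hy; simp
        · obtain ⟨l, hl⟩ := Function.ne_iff.1 hy
          rw [Pi.single_eq_of_ne hy, Finset.prod_eq_zero (Finset.mem_univ l) (Pi.single_eq_of_ne hl _)]⟩
      have e1 : g.val *ᵥ (P'.val *ᵥ Pi.single (e.symm x) (1 : F)) = pv u := by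
        have e2 : (glReindex e.symm w).val *ᵥ Pi.single (e.symm x) (1 : F) = (w.val *ᵥ Pi.single x 1) ∘ e := by
          funext j
          simp [glReindex, mulVec_single_one]
        rw [← hg']
        simp only [MulEquiv.coe_toMonoidHom, MulAut.conj_apply, Units.val_mul, ← mulVec_mulVec,
          PrimeDim.inv_mulVec_cancel]
        rw [e2, show (w.val *ᵥ Pi.single x 1) = fun y => ∏ l, u l (y l) from funext hu]
      rw [e1, hQpure, hQ0]
  have heq : ∀ v, Q v = Q' v := quad_unique hn h20 hirrH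
    (fun a v => CfsgLib.Orth.q_smul a v) (fun a v => by rw [hQ'.smul]; ring)
    (fun u v => by rw [hp, polar_sform hB])
    (by rintro _ ⟨g, hg, rfl⟩ v; exact omega_quad hH hg v) (by rintro _ ⟨g, hg, rfl⟩ v; exact hinv g hg v)
  refine Or.inr ⟨hirrH, m, k, e, P', J₀, c, hm, hk, fun h => absurd h hodd, ?_, hcard, hsd, hc, hF,
    fun u => (heq _).trans (hQpure u), hle⟩
  rintro ⟨hq, rfl⟩
  have hq2 : Fintype.card F = 2 := by
    have := Fintype.one_lt_card (α := F)
    by_contra hne
    exact hodd ⟨1, by omega⟩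
  haveI : Finite (GL (Fin 2) F) := Finite.of_injective _ Units.val_injective
  exact htriv (perfect_six (by rw [Matrix.card_GL_field, hq2]; simp [Fin.prod_univ_two]) (hperf i₀) φ)

/-! ### Symplectic type -/

theorem heis_dim {J : Matrix (Fin n) (Fin n) F} {ε : F} (hJ : FormData (RingEquiv.refl F) J ε) (hn : 2 ≤ n)
    {H N : Subgroup (GL (Fin n) F)} (hH : ∀ g ∈ H, Iso (RingEquiv.refl F) J g.val) {r : ℕ} (h : HeisData H N r) :
    ∃ (u₀ : Fˣ) (k : ℕ), r = 2 ∧ (u₀ : F) = -1 ∧ (2 : F) ≠ 0 ∧ n = 2 ^ k ∧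
      (∀ g ∈ N, g ∈ scalars (Fin n) F → g = 1 ∨ g = sc u₀) ∧ ∃ x ∈ N, ∃ y ∈ N, x * y ≠ y * x := by
  have hne : ∃ x ∈ N, ∃ y ∈ N, x * y ≠ y * x := by
    obtain ⟨x, hx, y, hy, u, -, hu, hxy⟩ := h.noncomm
    refine ⟨x, hx, y, hy, fun e => hu ?_⟩
    have : sc u * (y * x) = 1 * (y * x) := by rw [one_mul, ← hxy, e]
    exact sc_injective (by omega) ((mul_right_cancel this).trans sc_one.symm)
  classical
  haveI : Nonempty (Fin n) := ⟨⟨0, by omega⟩⟩
  haveI : Finite (GL (Fin n) F) := Finite.of_injective _ Units.val_injective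
  haveI := Fintype.ofFinite N
  have hn1 : 1 ≤ n := by omega
  have hsc : ∀ u : Fˣ, sc u ∈ N → (u : F) * u = 1 := by
    intro u hu
    have e : (sc u : GL (Fin n) F).valᵀ * J * (sc u : GL (Fin n) F).val = J := hH _ (h.nml.le hu)
    simp only [sc_val, Matrix.transpose_smul, Matrix.transpose_one, smul_mul, one_mul, mul_smul, mul_one,
      smul_smul] at e
    obtain ⟨i, j, hij⟩ : ∃ i j, J i j ≠ 0 := by
      by_contra hc
      push Not at hc
      exact hJ.unit.ne_zero (Matrix.ext hc)
    exact (mul_eq_right₀ hij).1 (by simpa [mul_assoc] using congrFun (congrFun e i) j)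
  obtain ⟨x₀, hx₀, y₀, hy₀, u₀, hu₀, hu₁, hxy⟩ := h.noncomm
  have hu₀N : sc u₀ ∈ N := by
    have : sc u₀ = x₀ * y₀ * (y₀ * x₀)⁻¹ := by rw [hxy, mul_assoc, mul_inv_cancel, mul_one]
    rw [this]
    exact mul_mem (mul_mem hx₀ hy₀) (inv_mem (mul_mem hy₀ hx₀))
  have hu2 : u₀ ^ 2 = 1 := Units.ext (by rw [pow_two, Units.val_mul, hsc u₀ hu₀N, Units.val_one])
  obtain rfl : r = 2 := by
    have h2 : orderOf u₀ = 2 := orderOf_eq_prime hu2 hu₁
    have := orderOf_dvd_of_pow_eq_one hu₀
    rw [h2] at this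
    exact ((Nat.prime_dvd_prime_iff_eq Nat.prime_two h.prime).1 this).symm
  have hneg : (u₀ : F) = -1 := (mul_self_eq_one_iff.1 (hsc u₀ hu₀N)).resolve_left fun e => hu₁ (Units.ext e)
  have h20 : (2 : F) ≠ 0 := fun e => hu₁ (Units.ext (by
    rw [hneg, Units.val_one]
    exact neg_eq_of_add_eq_zero_right ((one_add_one_eq_two).trans e)))
  have hscal : ∀ g ∈ N, g ∈ scalars (Fin n) F → g = 1 ∨ g = sc u₀ := by
    intro g hg hgs
    obtain ⟨w, rfl⟩ := eq_sc_of_mem_scalars hgs
    rcases mul_self_eq_one_iff.1 (hsc w hg) with e | e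
    · exact Or.inl (by rw [show w = 1 from Units.ext e, sc_one])
    · exact Or.inr (by rw [show w = u₀ from Units.ext (e.trans hneg.symm)])
  have htrace : ∀ g ∈ N, g ∉ scalars (Fin n) F → Matrix.trace g.val = 0 := by
    intro g hg hgs
    by_contra ht
    refine hgs (scalar_of_comm h.abs fun y hy => ?_)
    obtain ⟨u, -, e⟩ := h.comm g hg y hy
    have e' := congrArg (fun z : GL (Fin n) F => (↑y⁻¹ : Matrix (Fin n) (Fin n) F) * (z : Matrix (Fin n) (Fin n) F)) e
    simp only [Units.val_mul, sc_val, smul_mul, one_mul, mul_smul_comm, Units.inv_mul_cancel_left] at e'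
    have e2 := congrArg Matrix.trace e'
    rw [← mul_assoc, Matrix.trace_mul_comm, ← mul_assoc, Units.mul_inv, one_mul, Matrix.trace_smul] at e2
    have hu : u = 1 := Units.ext ((mul_eq_right₀ ht).1 e2.symm)
    rwa [hu, sc_one, one_mul] at e
  have hcardN : (Fintype.card N : F) ≠ 0 := by
    haveI : Fact (Nat.Prime 2) := ⟨Nat.prime_two⟩
    obtain ⟨k, hk⟩ := IsPGroup.iff_card.1 h.pGroup
    rw [← Nat.card_eq_fintype_card, hk, Nat.cast_pow]
    exact pow_ne_zero _ (by exact_mod_cast h20)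
  -- averages
  have havg : ∀ X : Matrix (Fin n) (Fin n) F, ∃ c : F, (n : F) * c = Fintype.card N * Matrix.trace X ∧
      ∑ g : N, (g : GL (Fin n) F).val * X * ((g : GL (Fin n) F)⁻¹).val = c • 1 := by
    intro X
    obtain ⟨c, hc⟩ := h.abs.2 (∑ g : N, (g : GL (Fin n) F).val * X * ((g : GL (Fin n) F)⁻¹).val) (by
      rintro _ ⟨a, ha, rfl⟩
      simp only [Finset.sum_mul, Finset.mul_sum]
      symm
      refine Fintype.sum_equiv (Equiv.mulLeft (⟨a, ha⟩ : N)) _ _ fun g => ?_
      simp [mul_assoc])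
    refine ⟨c, ?_, hc⟩
    have ht := congrArg Matrix.trace hc
    rw [Matrix.trace_sum, Matrix.trace_smul, Matrix.trace_one, Fintype.card_fin, smul_eq_mul, mul_comm] at ht
    rw [← ht]
    have e1 : ∀ g : N, Matrix.trace ((g : GL (Fin n) F).val * X * ((g : GL (Fin n) F)⁻¹).val) = Matrix.trace X :=
      fun g => by rw [Matrix.trace_mul_comm, ← mul_assoc, Units.inv_mul, one_mul]
    rw [Finset.sum_congr rfl fun g _ => e1 g, Finset.sum_const, Finset.card_univ, nsmul_eq_mul]
  have hn0 : (n : F) ≠ 0 := by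
    intro e
    obtain ⟨c, hc, -⟩ := havg (Matrix.single ⟨0, hn1⟩ ⟨0, hn1⟩ 1)
    rw [e, zero_mul, Matrix.trace_single_eq_same, mul_one] at hc
    exact hcardN hc.symm
  have hK : (Fintype.card N : F) / n ≠ 0 := div_ne_zero hcardN hn0
  have hrec : ∀ M : Matrix (Fin n) (Fin n) F, ∑ g : N, Matrix.trace (M * ((g : GL (Fin n) F)⁻¹).val) •
      (g : GL (Fin n) F).val = ((Fintype.card N : F) / n) • M := by
    intro M
    ext a i
    have key : ∀ j b, ∑ g : N, (g : GL (Fin n) F).val a i * ((g : GL (Fin n) F)⁻¹).val j b =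
        if i = j ∧ a = b then (Fintype.card N : F) / n else 0 := by
      intro j b
      obtain ⟨c, hc, he⟩ := havg (Matrix.single i j 1)
      have e' := congrFun (congrFun he a) b
      rw [Matrix.sum_apply] at e'
      have e2 : ∀ g : N, ((g : GL (Fin n) F).val * Matrix.single i j (1 : F) * ((g : GL (Fin n) F)⁻¹).val) a b =
          (g : GL (Fin n) F).val a i * ((g : GL (Fin n) F)⁻¹).val j b := fun g => by
        simp [Matrix.mul_apply, Matrix.single, ite_and]
      rw [Finset.sum_congr rfl fun g _ => e2 g, Matrix.smul_apply, Matrix.one_apply, smul_eq_mul] at e'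
      rw [e']
      have hc' : c = Fintype.card N * Matrix.trace (Matrix.single i j (1 : F)) / n := by
        rw [← hc, mul_div_cancel_left₀ _ hn0]
      by_cases hij : i = j
      · subst hij
        rw [Matrix.trace_single_eq_same, mul_one] at hc'
        by_cases hab : a = b <;> simp [hab, hc']
      · rw [Matrix.trace_single_eq_of_ne _ _ _ hij] at hc'
        simp [hij, hc']
    simp only [Matrix.sum_apply, Matrix.smul_apply, smul_eq_mul, Matrix.trace, Matrix.diag, Matrix.mul_apply,
      Finset.sum_mul]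
    rw [Finset.sum_comm]
    have e1 : ∀ b, ∑ g : N, ∑ j, M b j * ((g : GL (Fin n) F)⁻¹).val j b * (g : GL (Fin n) F).val a i =
        ∑ j, M b j * if i = j ∧ a = b then (Fintype.card N : F) / n else 0 := fun b => by
      rw [Finset.sum_comm]
      refine Finset.sum_congr rfl fun j _ => ?_
      rw [← key j b, Finset.mul_sum]
      exact Finset.sum_congr rfl fun g _ => by ring
    rw [Finset.sum_congr rfl fun b _ => e1 b]
    simp [ite_and, mul_comm]
  have hspan : Submodule.span F (matrixSet N) = ⊤ := eq_top_iff.2 fun M _ => by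
    rw [← inv_smul_smul₀ hK M, ← hrec M]
    exact Submodule.smul_mem _ _ (Submodule.sum_mem _ fun g _ => Submodule.smul_mem _ _
      (Submodule.subset_span ⟨g, g.2, rfl⟩))
  -- the order
  let c₁ : N := ⟨sc u₀, hu₀N⟩
  let Z : Subgroup N := Subgroup.zpowers c₁
  have hc₁ : orderOf c₁ = 2 := by
    refine orderOf_eq_prime (Subtype.ext ?_) fun e => hu₁ (sc_injective hn1 ?_)
    · show (sc u₀ : GL (Fin n) F) ^ 2 = 1
      rw [← sc_pow, hu2, sc_one]
    · rw [sc_one]; exact congrArg Subtype.val e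
  have hZcard : Nat.card Z = 2 := by rw [Nat.card_zpowers, hc₁]
  have hmemZ : ∀ g : N, g ∈ Z ↔ (g : GL (Fin n) F) ∈ scalars (Fin n) F := by
    intro g
    constructor
    · rintro ⟨i, rfl⟩
      show (((c₁ ^ i : N)) : GL (Fin n) F) ∈ _
      rw [SubgroupClass.coe_zpow]
      exact zpow_mem (sc_mem _) _
    · intro hg
      rcases hscal g g.2 hg with e | e
      · rw [show g = 1 from Subtype.ext e]; exact one_mem _
      · rw [show g = c₁ from Subtype.ext e]; exact Subgroup.mem_zpowers _
  have hcenter : Subgroup.center N = Z := le_antisymm (fun g hg => (hmemZ g).2 (scalar_of_comm h.abs fun a ha =>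
    (congrArg Subtype.val (Subgroup.mem_center_iff.1 hg ⟨a, ha⟩)).symm)) (by
    rw [Subgroup.zpowers_le, Subgroup.mem_center_iff]
    exact fun a => Subtype.ext (sc_comm u₀ a.1).symm)
  haveI := Fintype.ofFinite (N ⧸ Z)
  let bq : N ⧸ Z → Matrix (Fin n) (Fin n) F := fun q => (q.out : GL (Fin n) F).val
  have hbqli : LinearIndependent F bq := by
    rw [Fintype.linearIndependent_iff]
    intro a ha q₀
    have e := congrArg (fun X => Matrix.trace (X * ((q₀.out : GL (Fin n) F)⁻¹).val)) ha
    simp only [Finset.sum_mul, Matrix.trace_sum, zero_mul, Matrix.trace_zero, smul_mul, Matrix.trace_smul] at e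
    rw [Finset.sum_eq_single q₀] at e
    · simp [bq, Matrix.trace_one, hn0] at e
      exact e
    · intro q _ hq
      have : Matrix.trace ((q.out : GL (Fin n) F).val * ((q₀.out : GL (Fin n) F)⁻¹).val) = 0 := by
        rw [← Units.val_mul]
        refine htrace _ (mul_mem q.out.2 (inv_mem q₀.out.2)) fun hs => hq ?_
        rw [← QuotientGroup.out_eq' q, ← QuotientGroup.out_eq' q₀, QuotientGroup.eq, hmemZ]
        have h' := (inferInstance : (scalars (Fin n) F).Normal).conj_mem _ hs (q.out : GL (Fin n) F)⁻¹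
        have h'' := inv_mem h'
        simpa [mul_assoc] using h''
      simp only [bq, this, smul_zero]
    · simp
  have hbqspan : Submodule.span F (Set.range bq) = ⊤ := by
    rw [eq_top_iff, ← hspan, Submodule.span_le]
    rintro _ ⟨g, hg, rfl⟩
    set q : N ⧸ Z := QuotientGroup.mk ⟨g, hg⟩ with hq
    have hz : q.out⁻¹ * ⟨g, hg⟩ ∈ Z := QuotientGroup.eq.1 (QuotientGroup.out_eq' q)
    obtain ⟨w, hw⟩ := eq_sc_of_mem_scalars ((hmemZ _).1 hz)
    simp only [Subgroup.coe_mul, Subgroup.coe_inv] at hw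
    have e : g.val = (w : F) • bq q := by
      rw [inv_mul_eq_iff_eq_mul] at hw
      rw [hw, Units.val_mul, sc_val, mul_smul_comm, mul_one]
    show g.val ∈ _
    rw [e]
    exact Submodule.smul_mem _ _ (Submodule.subset_span ⟨q, rfl⟩)
  have hcardq : Fintype.card (N ⧸ Z) = n * n := by
    have := Module.finrank_eq_card_basis (Module.Basis.mk hbqli hbqspan.ge)
    simpa [Module.finrank_matrix] using this.symm
  have hcard : Nat.card N = 2 * n ^ 2 := by
    rw [← Z.card_mul_index, hZcard, Subgroup.index, Nat.card_eq_fintype_card, hcardq, pow_two]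
  obtain ⟨k, hk⟩ : ∃ k, n = 2 ^ k := by
    haveI : Fact (Nat.Prime 2) := ⟨Nat.prime_two⟩
    obtain ⟨j, hj⟩ := IsPGroup.iff_card.1 h.pGroup
    obtain ⟨k, -, e⟩ := (Nat.dvd_prime_pow Nat.prime_two).1 (show n ∣ 2 ^ j from hj ▸ hcard ▸
      dvd_mul_of_dvd_right (dvd_pow_self n two_ne_zero) 2)
    exact ⟨k, e⟩
  exact ⟨u₀, k, rfl, hneg, h20, hk, hscal, hne⟩

/-- An alternating non-singular matrix has square determinant. -/
theorem alt_det_isSquare {J : Matrix (Fin n) (Fin n) F} (hu : IsUnit J)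
    (halt : ∀ v, sform (RingEquiv.refl F) J v v = 0) : IsSquare J.det := by
  classical
  let Bl : LinearMap.BilinForm F (Fin n → F) :=
    LinearMap.mk₂ F (sform τ₁ J) (sform_add_left _ _) (fun c x y => by rw [sform_smul_left]; rfl)
      (sform_add_right _ _) (fun c x y => by rw [sform_smul_right]; rfl)
  obtain ⟨m, b, b1, b2, b3⟩ := CfsgLib.Forms.exists_symplectic_basis_nondeg Bl (fun v => halt v) (fun v hv => by
    have hinj := Matrix.mulVec_injective_iff_isUnit.2 ((Matrix.isUnit_iff_isUnit_det _).2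
      (by rw [Matrix.det_transpose]; exact (Matrix.isUnit_iff_isUnit_det _).1 hu) : IsUnit J.transpose)
    refine hinj (funext fun i => ?_)
    have h := hv (Pi.single i 1)
    change sform τ₁ J v (Pi.single i 1) = 0 at h
    rw [sform, comp_single, dotProduct_mulVec, ← mulVec_transpose, dotProduct_single, mul_one] at h
    rw [h, mulVec_zero, Pi.zero_apply])
  have hcard : Fintype.card (Fin n) = Fintype.card (Fin m ⊕ Fin m) := by
    rw [← Module.finrank_eq_card_basis b, ← Module.finrank_eq_card_basis (Pi.basisFun F (Fin n))]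
  obtain ⟨d, -, hd⟩ := CfsgLib.Classical.SymmDisc.toMatrix_change Bl (Pi.basisFun F (Fin n)) b
    (Fintype.equivOfCardEq hcard)
  have e1 : LinearMap.toMatrix₂ (Pi.basisFun F (Fin n)) (Pi.basisFun F (Fin n)) Bl = J := by
    ext i j
    rw [LinearMap.toMatrix₂_apply, Pi.basisFun_apply, Pi.basisFun_apply]
    exact sform_single τ₁ J i j
  have hskew : ∀ x y, Bl y x = -Bl x y := fun x y => by
    have h := halt (x + y)
    rw [sform_add_left, sform_add_right, sform_add_right, halt, halt] at h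
    show sform τ₁ J y x = -sform τ₁ J x y
    linear_combination h
  have e2 : LinearMap.toMatrix₂ b b Bl = Matrix.fromBlocks 0 1 (-1) 0 := by
    ext i j
    rcases i with i | i <;> rcases j with j | j <;>
      simp [LinearMap.toMatrix₂_apply, b1, b2, b3, Matrix.one_apply, hskew (b (.inl j)), eq_comm]
  have e3 : (Matrix.fromBlocks 0 1 (-1) 0 : Matrix (Fin m ⊕ Fin m) (Fin m ⊕ Fin m) F).det = 1 := by
    have hT : (Matrix.fromBlocks 0 1 (-1) 0 : Matrix (Fin m ⊕ Fin m) (Fin m ⊕ Fin m) F) *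
        Matrix.fromBlocks 1 0 1 1 = Matrix.fromBlocks (1 : Matrix (Fin m) (Fin m) F) 1 (-1) 0 := by
      simp [Matrix.fromBlocks_multiply]
    have h := congrArg Matrix.det hT
    rw [Matrix.det_mul, Matrix.det_fromBlocks_zero₁₂, Matrix.det_one, mul_one, mul_one,
      Matrix.det_fromBlocks_one₁₁] at h
    simpa using h
  exact ⟨d, by rw [← e1, hd, e2, e3, mul_one]⟩

/-- A normal subgroup of class two in an orthogonal group. -/
theorem orth_heis (hB : Nondeg Q) (hn : 2 ≤ n) {H N : Subgroup (GL (Fin n) F)} (hH : H ≤ omegaGL ⇑Q) {r : ℕ}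
    (h : HeisData H N r) :
    Odd (Fintype.card F) ∧ (∃ k, n = 2 ^ k) ∧ (4 ∣ n → HasHalf Q) := by
  classical
  have hd := orth_data hB
  obtain ⟨u₀, k, rfl, hneg, h2, hk, hscal, x₀, hx₀, y₀, hy₀, hxy⟩ := heis_dim hd hn (omega_iso hB hH) h
  refine ⟨?_, ⟨k, hk⟩, fun h4 => ?_⟩
  · by_contra hodd
    exact h2 (two_eq_zero_of_not_odd hodd)
  obtain ⟨x, hx, hxx⟩ : ∃ x ∈ N, x * x = sc u₀ := by
    by_contra hc
    push Not at hc
    have hinv : ∀ x ∈ N, x⁻¹ = x := fun x hx => by
      rcases hscal (x * x) (mul_mem hx hx) (by simpa [pow_two] using h.pow_scalar x hx) with e | e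
      · exact inv_eq_of_mul_eq_one_right e
      · exact absurd e (hc x hx)
    apply hxy
    rw [← hinv _ (mul_mem hx₀ hy₀), _root_.mul_inv_rev, hinv _ hx₀, hinv _ hy₀]
  have hX : x.val * x.val = -1 := by
    rw [← Units.val_mul, hxx, sc_val, hneg, neg_smul, one_smul]
  have hXi : (x⁻¹).val = -x.val := by
    rw [← mul_one (x⁻¹).val, ← neg_neg (1 : Matrix (Fin n) (Fin n) F), ← hX, mul_neg, Units.inv_mul_cancel_left]
  have hxO := hH (h.nml.le hx)
  have halt : ∀ v, sform τ₁ (ogram Q * x.val) v v = 0 := fun v => by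
    have e1 : sform τ₁ (ogram Q * x.val) v v = sform τ₁ (ogram Q) v (x.val *ᵥ v) := by
      simp [sform, mulVec_mulVec]
    have e2 : sform τ₁ (ogram Q) (x.val *ᵥ v) v = -sform τ₁ (ogram Q) v (x.val *ᵥ v) := by
      rw [sform_adj hd, adj_iso hd (omega_iso hB hH x (h.nml.le hx)), hXi, neg_mulVec]
      simp [sform, mulVec_neg]
    have e3 := hd.swap v (x.val *ᵥ v)
    rw [RingEquiv.refl_apply, one_mul, e2] at e3
    rw [e1]
    exact (mul_eq_zero.1 (show (2 : F) * _ = 0 by linear_combination e3)).resolve_left h2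
  obtain ⟨s, hs⟩ := alt_det_isSquare (hd.unit.mul x.isUnit) halt
  rw [Matrix.det_mul, omega_det hxO, mul_one] at hs
  obtain ⟨m, hm⟩ : ∃ m, n = 2 * m := ⟨n / 2, by omega⟩
  have hm2 : Even m := by rw [Nat.even_iff]; omega
  let Bl : LinearMap.BilinForm F (Fin n → F) := QuadraticMap.polarBilin Q
  obtain ⟨U, hU, h0⟩ := (CfsgLib.Classical.SymmDisc.half_iff h2 Bl (fun u v => QuadraticMap.polar_comm _ u v)
    (fun v hv => hB v fun u => by simpa [Bl, QuadraticMap.polar_comm] using hv u) m
    (by rw [Module.finrank_fin_fun, hm]) (Pi.basisFun F (Fin n))).2 (by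
      have e : LinearMap.toMatrix₂ (Pi.basisFun F (Fin n)) (Pi.basisFun F (Fin n)) Bl = ogram Q := by
        ext i j
        rw [LinearMap.toMatrix₂_apply, Pi.basisFun_apply, Pi.basisFun_apply]
        rfl
      rw [e, hm2.neg_one_pow, one_mul]
      exact ⟨s, hs⟩)
  refine ⟨U, fun u hu => ?_, by omega⟩
  have h' : QuadraticMap.polar ⇑Q u u = 0 := h0 u hu u hu
  rw [CfsgLib.Orth.b_self] at h'
  exact (mul_eq_zero.1 h').resolve_left h2

end CfsgLib.Asch
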