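import Cfsg.Agent.Lib.Classical.AschOrthBasic

set_option autoImplicit false
set_option linter.unusedSectionVars false

/-!
Orthogonal groups: reducible and imprimitive subgroups.
-/

namespace CfsgLib.Asch

open Matrix
open Cfsg.Geo (matrixSet scalars ActsIrreducibly ActsAbsolutelyIrreducibly omegaGL subspaceStabilizer
  decompositionStabilizer IsTotallySingularQuad IsNondegenerateOn IsMDecomposition IsOrthogonalMDecomposition)
open CfsgLib.Orth (Nondeg)
open CfsgLib.PrimeDim (Inv Nml Sesq)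
open scoped MatrixGroups

variable {F : Type*} [Field F] [Fintype F] {n : ℕ} {Q : QuadraticForm F (Fin n → F)}

local notation "τ₁" => RingEquiv.refl F

/-- `H` fixes a non-zero totally singular subspace. -/
def OTSCase (Q : QuadraticForm F (Fin n → F)) (H : Subgroup (GL (Fin n) F)) : Prop :=
  ∃ W : Submodule F (Fin n → F), W ≠ ⊥ ∧ W ≠ ⊤ ∧ IsTotallySingularQuad ⇑Q W ∧ H ≤ subspaceStabilizer W

/-- `H` fixes a non-singular point in characteristic two. -/
def OPointCase (Q : QuadraticForm F (Fin n → F)) (H : Subgroup (GL (Fin n) F)) : Prop :=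
  ¬ Odd (Fintype.card F) ∧ ∃ v, Q v ≠ 0 ∧ H ≤ subspaceStabilizer (Submodule.span F {v})

/-- `H` fixes a proper non-degenerate subspace. -/
def ONDCase (Q : QuadraticForm F (Fin n → F)) (H : Subgroup (GL (Fin n) F)) : Prop :=
  ∃ W : Submodule F (Fin n → F), W ≠ ⊥ ∧ W ≠ ⊤ ∧ IsNondegenerateOn (QuadraticMap.polar ⇑Q) W ∧
    H ≤ subspaceStabilizer W

/-- The irreducible group `H` permutes the members of an orthogonal decomposition into isometric parts. -/
def ODecompCase (Q : QuadraticForm F (Fin n → F)) (H : Subgroup (GL (Fin n) F)) : Prop :=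
  ActsIrreducibly (matrixSet H) ∧ ∃ (t k : ℕ) (D : Fin t → Submodule F (Fin n → F)), t * k = n ∧
    IsOrthogonalMDecomposition ⇑Q k D ∧ H ≤ decompositionStabilizer D

/-- The irreducible group `H` permutes two totally singular subspaces of even dimension. -/
def OTSPairCase (Q : QuadraticForm F (Fin n → F)) (H : Subgroup (GL (Fin n) F)) : Prop :=
  ActsIrreducibly (matrixSet H) ∧ ∃ (k : ℕ) (D : Fin 2 → Submodule F (Fin n → F)), 2 * k = n ∧ Even k ∧
    IsMDecomposition k D ∧ (∀ i, IsTotallySingularQuad ⇑Q (D i)) ∧ H ≤ decompositionStabilizer D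

/-- The reducible subgroups. -/
theorem orth_reducible_cases (hB : Nondeg Q) {H : Subgroup (GL (Fin n) F)} (hH : H ≤ omegaGL ⇑Q)
    (hirr : ¬ ActsIrreducibly (matrixSet H)) : OTSCase Q H ∨ OPointCase Q H ∨ ONDCase Q H := by
  have hd := orth_data hB
  rw [PrimeDim.irreducible_iff] at hirr
  push Not at hirr
  obtain ⟨U, hU, hU0, hU1⟩ := hirr
  obtain ⟨W, hWU, hW, hW0, hWmin⟩ := PrimeDim.exists_minimal hU hU0
  have hW1 : W ≠ ⊤ := fun e => hU1 (eq_top_iff.2 (e ▸ hWU))
  have hWp := inv_perp hd (omega_iso hB hH) hW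
  rcases hWmin _ (PrimeDim.inv_inf hW hWp) inf_le_left with hb | hb
  · exact Or.inr (Or.inr ⟨W, hW0, hW1, sform_polar hB ▸ (isNondegenerateOn_iff hd).2 hb, le_stab_of_inv hW⟩)
  have hts := ts_iff_le_perp.2 (inf_eq_left.1 hb)
  by_cases hodd : Odd (Fintype.card F)
  · exact Or.inl ⟨W, hW0, hW1, quad_ts hB (PrimeDim.two_ne_zero_of_odd hodd) hts, le_stab_of_inv hW⟩
  have h20 := two_eq_zero_of_not_odd hodd
  haveI : CharP F 2 := CharTwo.of_one_ne_zero_of_two_eq_zero one_ne_zero h20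
  have hadd : ∀ u ∈ W, ∀ v ∈ W, Q (u + v) = Q u + Q v := fun u hu v hv => by
    rw [CfsgLib.Orth.q_add, polar_sform hB, hts u hu v hv, add_zero]
  let Z : Submodule F (Fin n → F) :=
    { carrier := {v | v ∈ W ∧ Q v = 0}
      add_mem' := fun {x y} hx hy => ⟨W.add_mem hx.1 hy.1, by rw [hadd x hx.1 y hy.1, hx.2, hy.2, add_zero]⟩
      zero_mem' := ⟨W.zero_mem, QuadraticMap.map_zero _⟩
      smul_mem' := fun c x hx => ⟨W.smul_mem c hx.1, by rw [CfsgLib.Orth.q_smul, hx.2, mul_zero]⟩ }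
  have hZ : Inv (matrixSet H) Z := by
    rintro _ ⟨g, hg, rfl⟩ v ⟨hv, hv0⟩
    exact ⟨hW _ ⟨g, hg, rfl⟩ v hv, (omega_quad hH hg v).trans hv0⟩
  rcases hWmin Z hZ (fun v hv => hv.1) with hz | hz
  swap
  · exact Or.inl ⟨W, hW0, hW1, fun w hw => (hz.symm ▸ hw : w ∈ Z).2, le_stab_of_inv hW⟩
  refine Or.inr (Or.inl ⟨hodd, ?_⟩)
  obtain ⟨v, hv, hv0⟩ := (Submodule.ne_bot_iff W).1 hW0
  have hQv : Q v ≠ 0 := fun e => hv0 ((Submodule.eq_bot_iff Z).1 hz v ⟨hv, e⟩)
  refine ⟨v, hQv, ?_⟩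
  have hspan : Submodule.span F {v} = W := by
    refine le_antisymm ((Submodule.span_singleton_le_iff_mem _ _).2 hv) fun w hw => ?_
    obtain ⟨a, ha⟩ : IsSquare (Q w / Q v) := FiniteField.isSquare_of_char_two (by rw [ringChar.eq F 2]) _
    rw [div_eq_iff hQv] at ha
    have hz' : w + a • v ∈ Z := ⟨W.add_mem hw (W.smul_mem a hv), by
      rw [hadd w hw _ (W.smul_mem a hv), CfsgLib.Orth.q_smul, ← ha, CharTwo.add_self_eq_zero]⟩
    rw [eq_neg_of_add_eq_zero_left ((Submodule.eq_bot_iff Z).1 hz _ hz')]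
    exact neg_mem (Submodule.smul_mem _ _ (Submodule.mem_span_singleton_self v))
  rw [hspan]
  exact le_stab_of_inv hW

/-- The permutation of an orthogonal decomposition by an irreducible group is transitive, so the parts are
isometric. -/
theorem decomp_isometric {H : Subgroup (GL (Fin n) F)} (hH : H ≤ omegaGL ⇑Q)
    (hirr : ActsIrreducibly (matrixSet H)) {t k : ℕ} {D : Fin t → Submodule F (Fin n → F)}
    (hD : Cfsg.Geo.IsNondegenerateMDecomposition (QuadraticMap.polar ⇑Q) k D) (hle : H ≤ decompositionStabilizer D) :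
    IsOrthogonalMDecomposition ⇑Q k D := by
  classical
  refine ⟨hD, fun i j => ?_⟩
  have hne : ∀ a, D a ≠ ⊥ := fun a e => by
    have := hD.decomp.finrank_eq a
    rw [e, finrank_bot] at this
    exact hD.decomp.pos.ne this
  obtain ⟨g, hg, hgi⟩ : ∃ g ∈ H, (D i).map (Matrix.toLin' g.val) = D j := by
    by_contra hc
    push Not at hc
    let O : Set (Fin t) := {l | ∃ g ∈ H, (D i).map (Matrix.toLin' g.val) = D l}
    have hiO : i ∈ O := ⟨1, one_mem H, by simp⟩
    have hinv : Inv (matrixSet H) (⨆ l ∈ O, D l) := by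
      rintro _ ⟨g, hg, rfl⟩ v hv
      obtain ⟨σ, hσ⟩ := hle hg
      have : (⨆ l ∈ O, D l).map (Matrix.toLin' g.val) ≤ ⨆ l ∈ O, D l := by
        rw [Submodule.map_iSup]
        refine iSup_le fun l => ?_
        rw [Submodule.map_iSup]
        refine iSup_le fun hl => ?_
        obtain ⟨g', hg', hl'⟩ := hl
        rw [hσ]
        refine le_iSup₂ (f := fun l (_ : l ∈ O) => D l) (σ l) ⟨g * g', mul_mem hg hg', ?_⟩
        rw [Units.val_mul, Matrix.toLin'_mul, Submodule.map_comp, hl', hσ]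
      exact this ⟨v, hv, Matrix.toLin'_apply _ _⟩
    rcases PrimeDim.irreducible_iff.1 hirr _ hinv with e | e
    · exact hne i (eq_bot_iff.2 ((le_iSup₂ (f := fun l (_ : l ∈ O) => D l) i hiO).trans e.le))
    · refine hne j (disjoint_self.1 ((hD.decomp.indep j).mono_right ((le_top.trans_eq e.symm).trans ?_)))
      refine iSup₂_le fun l hl => le_iSup₂_of_le l (fun e' => ?_) le_rfl
      obtain ⟨g, hg, hgl⟩ := hl
      exact hc g hg (hgl.trans (by rw [e']))
  refine ⟨(Submodule.equivMapOfInjective (Matrix.toLin' g.val) (fun x y e => PrimeDim.mulVec_injective g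
    ((Matrix.toLin'_apply _ x).symm.trans (e.trans (Matrix.toLin'_apply _ y)))) (D i)).trans
    (LinearEquiv.ofEq _ _ hgi), fun w => ?_⟩
  exact (congrArg Q (Matrix.toLin'_apply g.val w.1)).trans (omega_quad hH hg w.1)

/-- An element of the group mapping one half to a complementary half of odd dimension does not exist. -/
theorem half_no_swap (hB : Nondeg Q) (hn : 5 ≤ n) {H : Subgroup (GL (Fin n) F)} (hH : H ≤ omegaGL ⇑Q)
    {U W : Submodule F (Fin n → F)} (hUq : IsTotallySingularQuad ⇑Q U) (hUd : 2 * Module.finrank F U = n)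
    (hodd : Odd (Module.finrank F U)) (hd : U ⊓ W = ⊥) {g : GL (Fin n) F} (hg : g ∈ H) :
    U.map (Matrix.toLin' g.val) ≠ W := by
  obtain ⟨g', hg', rfl⟩ := hH hg
  have hfin : 5 ≤ Module.finrank F (Fin n → F) := by rwa [Module.finrank_fin_fun]
  have hgE : g' ∈ CfsgLib.Orth.El Q := CfsgLib.Orth.omega_eq_El hB hfin ▸ hg'
  exact CfsgLib.Orth.img_ne_of_odd hB (U := U) ⟨hUq, by rw [hUd, Module.finrank_fin_fun]⟩ hodd hd hgE

/-- A pair of totally singular subspaces permuted by an irreducible group. -/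
theorem tsPair_orth (hB : Nondeg Q) (hn : 5 ≤ n) {H : Subgroup (GL (Fin n) F)} (hH : H ≤ omegaGL ⇑Q)
    (hirr : ActsIrreducibly (matrixSet H)) (h : TSPairCase τ₁ (ogram Q) H) : OTSPairCase Q H := by
  classical
  obtain ⟨k, D, hk, hD, hts, hle⟩ := h
  have hk2 : 2 ≤ k := by omega
  have hq : ∀ i, IsTotallySingularQuad ⇑Q (D i) := by
    by_cases hodd : Odd (Fintype.card F)
    · exact fun i => quad_ts hB (PrimeDim.two_ne_zero_of_odd hodd) (hts i)
    have h20 := two_eq_zero_of_not_odd hodd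
    haveI : CharP F 2 := CharTwo.of_one_ne_zero_of_two_eq_zero one_ne_zero h20
    have hadd : ∀ i, ∀ u ∈ D i, ∀ v ∈ D i, Q (u + v) = Q u + Q v := fun i u hu v hv => by
      rw [CfsgLib.Orth.q_add, polar_sform hB, hts i u hu v hv, add_zero]
    let Z : Fin 2 → Submodule F (Fin n → F) := fun i =>
      { carrier := {v | v ∈ D i ∧ Q v = 0}
        add_mem' := fun {x y} hx hy => ⟨(D i).add_mem hx.1 hy.1, by rw [hadd i x hx.1 y hy.1, hx.2, hy.2, add_zero]⟩
        zero_mem' := ⟨(D i).zero_mem, QuadraticMap.map_zero _⟩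
        smul_mem' := fun c x hx => ⟨(D i).smul_mem c hx.1, by rw [CfsgLib.Orth.q_smul, hx.2, mul_zero]⟩ }
    have hZne : ∀ i, Z i ≠ ⊥ := fun i e => by
      have hle' : Module.finrank F (D i) ≤ 1 := by
        rcases eq_or_ne (D i) ⊥ with e0 | e0
        · rw [e0, finrank_bot]; omega
        obtain ⟨v, hv, hv0⟩ := (Submodule.ne_bot_iff _).1 e0
        have hQv : Q v ≠ 0 := fun hz => hv0 ((Submodule.eq_bot_iff _).1 e v ⟨hv, hz⟩)
        refine (Submodule.finrank_mono (t := Submodule.span F {v}) fun w hw => ?_).trans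
          (finrank_span_singleton hv0).le
        obtain ⟨a, ha⟩ : IsSquare (Q w / Q v) := FiniteField.isSquare_of_char_two (by rw [ringChar.eq F 2]) _
        rw [div_eq_iff hQv] at ha
        have hz' : w + a • v ∈ Z i := ⟨(D i).add_mem hw ((D i).smul_mem a hv), by
          rw [hadd i w hw _ ((D i).smul_mem a hv), CfsgLib.Orth.q_smul, ← ha, CharTwo.add_self_eq_zero]⟩
        rw [eq_neg_of_add_eq_zero_left ((Submodule.eq_bot_iff _).1 e _ hz')]
        exact neg_mem (Submodule.smul_mem _ _ (Submodule.mem_span_singleton_self v))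
      rw [hD.finrank_eq] at hle'
      omega
    have hinv : Inv (matrixSet H) (Z 0 ⊔ Z 1) := by
      rintro _ ⟨g, hg, rfl⟩ v hv
      obtain ⟨σ, hσ⟩ := hle hg
      have key : ∀ i, ∀ x ∈ Z i, g.val *ᵥ x ∈ Z 0 ⊔ Z 1 := fun i x hx => by
        have hmem : g.val *ᵥ x ∈ Z (σ i) := ⟨hσ i ▸ ⟨x, hx.1, Matrix.toLin'_apply _ _⟩,
          (omega_quad hH hg x).trans hx.2⟩
        revert hmem
        generalize σ i = j
        fin_cases j
        · exact fun h => Submodule.mem_sup_left h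
        · exact fun h => Submodule.mem_sup_right h
      obtain ⟨a, ha, b, hb, rfl⟩ := Submodule.mem_sup.1 hv
      rw [mulVec_add]
      exact add_mem (key 0 a ha) (key 1 b hb)
    have htop : Z 0 ⊔ Z 1 = ⊤ := (PrimeDim.irreducible_iff.1 hirr _ hinv).resolve_left fun e =>
      hZne 0 (eq_bot_iff.2 (le_sup_left.trans e.le))
    intro i w hw
    have hsplit : ∀ i j : Fin 2, i ≠ j → ∀ w ∈ D i, w ∈ Z i ⊔ Z j → Q w = 0 := by
      intro i j hij w hw hm
      obtain ⟨a, ha, b, hb, rfl⟩ := Submodule.mem_sup.1 hm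
      have hbi : b ∈ D i := by
        have := (D i).sub_mem hw ha.1
        rwa [add_sub_cancel_left] at this
      rw [Submodule.disjoint_def.1 (hD.indep.pairwiseDisjoint hij) b hbi hb.1, add_zero]
      exact ha.2
    fin_cases i
    · exact hsplit 0 1 (by decide) w hw (htop ▸ Submodule.mem_top)
    · exact hsplit 1 0 (by decide) w hw (sup_comm (Z 0) (Z 1) ▸ htop ▸ Submodule.mem_top)
  refine ⟨hirr, k, D, hk, ?_, hD, hq, hle⟩
  by_contra hev
  have hodd : Odd (Module.finrank F (D 0)) := by rw [hD.finrank_eq]; exact Nat.not_even_iff_odd.1 hev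
  have hfix : Inv (matrixSet H) (D 0) := by
    rintro _ ⟨g, hg, rfl⟩ v hv
    obtain ⟨σ, hσ⟩ := hle hg
    have h0 : σ 0 = 0 := by
      by_contra hne
      refine half_no_swap hB hn hH (hq 0) (by rw [hD.finrank_eq, hk]) hodd (W := D (σ 0)) ?_ hg (hσ 0)
      exact disjoint_iff.1 (hD.indep.pairwiseDisjoint (Ne.symm hne))
    have := hσ 0
    rw [h0] at this
    exact this ▸ ⟨v, hv, Matrix.toLin'_apply _ _⟩
  rcases PrimeDim.irreducible_iff.1 hirr _ hfix with e | e
  · have := hD.finrank_eq 0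
    rw [e, finrank_bot] at this
    omega
  · have := hD.finrank_eq 0
    rw [e, finrank_top, Module.finrank_fin_fun] at this
    omega

theorem ndDecomp_orth (hB : Nondeg Q) {H : Subgroup (GL (Fin n) F)} (hH : H ≤ omegaGL ⇑Q)
    (hirr : ActsIrreducibly (matrixSet H)) (h : NDDecompCase τ₁ (ogram Q) H) : ODecompCase Q H := by
  obtain ⟨t, k, D, htk, hD, hle⟩ := h
  rw [sform_polar hB] at hD
  exact ⟨hirr, t, k, D, htk, decomp_isometric hH hirr hD hle, hle⟩

/-- A group of isometries permuting isometric orthogonal lines lies in every subfield group. -/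
theorem lines_rational (hn : 1 ≤ n) (h2 : (2 : F) ≠ 0) {H : Subgroup (GL (Fin n) F)} (hH : H ≤ omegaGL ⇑Q)
    {D : Fin n → Submodule F (Fin n → F)} (hD : IsOrthogonalMDecomposition ⇑Q 1 D)
    (hle : H ≤ decompositionStabilizer D) :
    ∃ (P : GL (Fin n) F) (ζ : F), ζ ≠ 0 ∧ ∀ F₀ : Subfield F,
      Cfsg.Geo.IsQuadFormRationalStructure (fun v => ζ * Q v) F₀ P ∧ H ≤ Cfsg.Geo.subfieldSubgroup F₀ P := by
  classical
  haveI : Nonempty (Fin n) := ⟨⟨0, hn⟩⟩
  let i₀ : Fin n := ⟨0, hn⟩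
  have hb := hD.decomp.decomp
  obtain ⟨v₀, hv₀, hv₀0⟩ := (Submodule.ne_bot_iff (D i₀)).1 fun e => by
    have := hb.finrank_eq i₀
    rw [e, finrank_bot] at this
    exact zero_ne_one this
  choose e he using fun i => hD.isometric i₀ i
  obtain ⟨a, ha⟩ : ∃ a, a = Q v₀ := ⟨_, rfl⟩
  let v : Fin n → (Fin n → F) := fun i => (e i ⟨v₀, hv₀⟩ : Fin n → F)
  have hvD : ∀ i, v i ∈ D i := fun i => (e i _).2
  have hQv : ∀ i, Q (v i) = a := fun i => (he i _).trans ha.symm
  have hv0 : ∀ i, v i ≠ 0 := fun i h0 => hv₀0 (congrArg Subtype.val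
    ((e i).map_eq_zero_iff.1 (Subtype.ext h0 : e i ⟨v₀, hv₀⟩ = 0)))
  have horth : ∀ i j, i ≠ j → QuadraticMap.polar ⇑Q (v i) (v j) = 0 :=
    fun i j hij => hD.decomp.orthogonal i j hij _ (hvD i) _ (hvD j)
  have hline : ∀ i, ∀ w ∈ D i, ∃ c : F, c • v i = w := fun i w hw => by
    obtain ⟨c, hc⟩ := (finrank_eq_one_iff_of_nonzero' (⟨v i, hvD i⟩ : D i)
      fun h => hv0 i (congrArg Subtype.val h)).1 (hb.finrank_eq i) ⟨w, hw⟩
    exact ⟨c, congrArg Subtype.val hc⟩
  have hli : LinearIndependent F v := iSupIndep.linearIndependent _ hb.indep hvD hv0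
  have ha0 : a ≠ 0 := fun h0 => by
    have hnd := hD.decomp.nondegenerate i₀ (v i₀) (hvD i₀) (hv0 i₀)
    obtain ⟨⟨x, hx, hne⟩, -⟩ := hnd
    obtain ⟨c, rfl⟩ := hline i₀ x hx
    rw [CfsgLib.Orth.b_smul_left, CfsgLib.Orth.b_self, hQv, h0, mul_zero, mul_zero] at hne
    exact hne rfl
  let P₀ : Matrix (Fin n) (Fin n) F := Matrix.of fun i j => v j i
  obtain ⟨P, hP⟩ : IsUnit P₀ := by
    rw [← Matrix.linearIndependent_cols_iff_isUnit]
    exact hli
  have hPv : ∀ u : Fin n → F, P.val *ᵥ u = ∑ i, u i • v i := fun u => by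
    rw [hP]
    funext k
    simp [P₀, mulVec, dotProduct, Finset.sum_apply, mul_comm]
  refine ⟨P, a⁻¹, inv_ne_zero ha0, fun F₀ => ⟨fun u hu => ?_, fun g hg => ?_⟩⟩
  · have key : ∀ s : Finset (Fin n), a⁻¹ * Q (∑ i ∈ s, u i • v i) ∈ F₀ ∧
        ∀ j ∉ s, QuadraticMap.polar ⇑Q (∑ i ∈ s, u i • v i) (u j • v j) = 0 := by
      intro s
      induction s using Finset.induction_on with
      | empty => exact ⟨by simpa using F₀.zero_mem, fun j _ => by simp⟩
      | @insert l s hl ih =>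
        refine ⟨?_, fun j hj => ?_⟩
        · rw [Finset.sum_insert hl, CfsgLib.Orth.q_add, CfsgLib.Orth.q_smul, hQv, CfsgLib.Orth.b_comm, ih.2 l hl,
            add_zero, mul_add, mul_left_comm, inv_mul_cancel₀ ha0, mul_one]
          exact F₀.add_mem (F₀.mul_mem (hu l) (hu l)) ih.1
        · rw [Finset.mem_insert, not_or] at hj
          rw [Finset.sum_insert hl, CfsgLib.Orth.b_add_left, CfsgLib.Orth.b_smul_left, CfsgLib.Orth.b_smul_right,
            horth l j (Ne.symm hj.1), ih.2 j hj.2, mul_zero, mul_zero, add_zero]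
    rw [hPv]
    exact (key Finset.univ).1
  · obtain ⟨σ, hσ⟩ := hle hg
    have hsgn : ∀ j, ∃ c : F, (c = 1 ∨ c = -1) ∧ g.val *ᵥ v j = c • v (σ j) := fun j => by
      obtain ⟨c, hc⟩ := hline (σ j) (g.val *ᵥ v j) (hσ j ▸ ⟨v j, hvD j, Matrix.toLin'_apply _ _⟩)
      refine ⟨c, ?_, hc.symm⟩
      have h := omega_quad hH hg (v j)
      rw [← hc, CfsgLib.Orth.q_smul, hQv, hQv] at h
      exact mul_self_eq_one_iff.1 ((mul_eq_right₀ ha0).1 h)
    choose c hc hcv using hsgn
    refine PrimeDim.mem_subfieldSubgroup.2 ⟨1, one_ne_zero, fun i j => ?_⟩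
    rw [div_one]
    have e1 : ((P⁻¹ * g * P : GL (Fin n) F) : Matrix (Fin n) (Fin n) F) *ᵥ Pi.single j 1 = c j • Pi.single (σ j) 1 := by
      rw [Units.val_mul, Units.val_mul, ← mulVec_mulVec, ← mulVec_mulVec, hPv, Fintype.sum_eq_single j
        (fun x hx => by rw [Pi.single_eq_of_ne hx, zero_smul]), Pi.single_eq_same, one_smul, hcv]
      rw [show c j • v (σ j) = P.val *ᵥ (c j • Pi.single (σ j) 1) by
        rw [mulVec_smul, hPv, Fintype.sum_eq_single (σ j) (fun x hx => by rw [Pi.single_eq_of_ne hx, zero_smul]),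
          Pi.single_eq_same, one_smul], PrimeDim.inv_mulVec_cancel]
    have e2 := congrFun e1 i
    rw [mulVec_single_one, Matrix.col_apply] at e2
    rw [e2, Pi.smul_apply, Pi.single_apply, smul_eq_mul]
    split
    · rcases hc j with h | h <;> rw [h, mul_one]
      · exact F₀.one_mem
      · exact F₀.neg_mem F₀.one_mem
    · rw [mul_zero]; exact F₀.zero_mem

end CfsgLib.Asch
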