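import Cfsg.Agent.Lib.Classical.AschOrthEvenMax

set_option autoImplicit false
set_option linter.unusedSectionVars false

/-!
The maximal subgroups of the commutator subgroups of the ten-dimensional orthogonal groups.
-/

namespace CfsgLib.Asch.OrthEvenMax

open Matrix
open Cfsg.Geo (matrixSet IsPlusTypeOn IsTotallySingularQuad IsNondegenerateOn omegaGL subspaceStabilizer
  decompositionStabilizer subalgebraNormalizer IsOrthogonalMDecomposition)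
open CfsgLib.Orth (Nondeg NondegOn)
open CfsgLib.Asch.OrthTypes
open scoped MatrixGroups

variable {F : Type*} [Field F] [Fintype F] {Q : QuadraticForm F (Fin 10 → F)}

/-- The kinds of maximal subgroups in dimension ten. -/
inductive TenCases (Q : QuadraticForm F (Fin 10 → F)) (H : Subgroup (GL (Fin 10) F)) : Prop
  | ts (W : Submodule F (Fin 10 → F)) : W ≠ ⊥ → W ≠ ⊤ → IsTotallySingularQuad ⇑Q W → H ≤ subspaceStabilizer W →
      TenCases Q H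
  | odd : (Odd (Fintype.card F) ∧ ∃ W : Submodule F (Fin 10 → F), W ≠ ⊥ ∧ W ≠ ⊤ ∧ Odd (Module.finrank F W) ∧
      2 * Module.finrank F W ≠ 10 ∧ IsNondegenerateOn (QuadraticMap.polar ⇑Q) W ∧
      H = subspaceStabilizer W ⊓ omegaGL ⇑Q) → TenCases Q H
  | minusPlane : (∃ W : Submodule F (Fin 10 → F), Module.finrank F W = 2 ∧
      IsNondegenerateOn (QuadraticMap.polar ⇑Q) W ∧ ¬ IsPlusTypeOn ⇑Q W ∧
      H = subspaceStabilizer W ⊓ omegaGL ⇑Q) → TenCases Q H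
  | plusPlane : (4 ≤ Fintype.card F ∧ ∃ W : Submodule F (Fin 10 → F), Module.finrank F W = 2 ∧
      IsNondegenerateOn (QuadraticMap.polar ⇑Q) W ∧ IsPlusTypeOn ⇑Q W ∧
      H = subspaceStabilizer W ⊓ omegaGL ⇑Q) → TenCases Q H
  | four : (∃ W : Submodule F (Fin 10 → F), Module.finrank F W = 4 ∧ IsNondegenerateOn (QuadraticMap.polar ⇑Q) W ∧
      H = subspaceStabilizer W ⊓ omegaGL ⇑Q) → TenCases Q H
  | point : (¬ Odd (Fintype.card F) ∧ ∃ v : (Fin 10 → F), Q v ≠ 0 ∧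
      H = subspaceStabilizer (Submodule.span F {v}) ⊓ omegaGL ⇑Q) → TenCases Q H
  | lines (D : Fin 10 → Submodule F (Fin 10 → F)) : (Fintype.card F).Prime → Odd (Fintype.card F) →
      (IsPlusTypeOn ⇑Q ⊤ ↔ Fintype.card F % 4 ≠ 3) → IsOrthogonalMDecomposition ⇑Q 1 D →
      H = decompositionStabilizer D ⊓ omegaGL ⇑Q → TenCases Q H
  | planesPlus (D : Fin 5 → Submodule F (Fin 10 → F)) : 7 ≤ Fintype.card F → IsPlusTypeOn ⇑Q ⊤ →
      IsOrthogonalMDecomposition ⇑Q 2 D → H = decompositionStabilizer D ⊓ omegaGL ⇑Q → TenCases Q H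
  | planesMinus (D : Fin 5 → Submodule F (Fin 10 → F)) : Fintype.card F ≠ 3 → ¬ IsPlusTypeOn ⇑Q ⊤ →
      IsOrthogonalMDecomposition ⇑Q 2 D → H = decompositionStabilizer D ⊓ omegaGL ⇑Q → TenCases Q H
  | halves (D : Fin 2 → Submodule F (Fin 10 → F)) : Odd (Fintype.card F) →
      (IsPlusTypeOn ⇑Q ⊤ ↔ Fintype.card F % 4 ≠ 3) → IsOrthogonalMDecomposition ⇑Q 5 D →
      H = decompositionStabilizer D ⊓ omegaGL ⇑Q → TenCases Q H
  | mixed (D : Fin 2 → Submodule F (Fin 10 → F)) : Odd (Fintype.card F) →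
      (IsPlusTypeOn ⇑Q ⊤ ↔ Fintype.card F % 4 = 3) →
      Cfsg.Geo.IsNondegenerateMDecomposition (QuadraticMap.polar ⇑Q) 5 D →
      ¬ Cfsg.Geo.AreIsometricFor ⇑Q (D 0) (D 1) →
      H = decompositionStabilizer D ⊓ omegaGL ⇑Q → TenCases Q H
  | saField : (Odd (Fintype.card F) ∧ ∃ K : Subalgebra F (Matrix (Fin 10) (Fin 10) F),
      Cfsg.Geo.IsFieldSubalgebra 2 K ∧ Cfsg.Geo.IsSelfAdjointFor (QuadraticMap.polar ⇑Q) K ∧
      H = subalgebraNormalizer K ⊓ omegaGL ⇑Q) → TenCases Q H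
  | conjField : ¬ IsPlusTypeOn ⇑Q ⊤ → (∃ K : Subalgebra F (Matrix (Fin 10) (Fin 10) F),
      Cfsg.Geo.IsFieldSubalgebra 2 K ∧ Cfsg.Geo.IsAdjointClosedFor (QuadraticMap.polar ⇑Q) K ∧
      ¬ Cfsg.Geo.IsSelfAdjointFor (QuadraticMap.polar ⇑Q) K ∧
      (∀ k ∈ K, ∃ c : F, ∀ v : (Fin 10 → F), Q (Matrix.mulVec k v) = c * Q v) ∧
      H = subalgebraNormalizer K ⊓ omegaGL ⇑Q) → TenCases Q H
  | rational (F₀ : Subfield F) (r : ℕ) (P : GL (Fin 10) F) (ζ : F) : r.Prime →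
      Fintype.card F = Nat.card F₀ ^ r → ζ ≠ 0 →
      Cfsg.Geo.IsQuadFormRationalStructure (fun v : Fin 10 → F => ζ * Q v) F₀ P →
      H = Cfsg.Geo.subfieldSubgroup F₀ P ⊓ omegaGL ⇑Q → TenCases Q H
  | residual : Cfsg.Geo.InOrthogonalResidualClass H → TenCases Q H

theorem TenCases.of_rational (hB : Nondeg Q) {H : Subgroup (GL (Fin 10) F)}
    (hH : Cfsg.Geo.IsMaximalIn (omegaGL ⇑Q) H) (h : ORationalCase Q H) : TenCases Q H := by
  obtain ⟨F₀, r, P, ζ, hr, hcard, hζ, hrat, hE⟩ := rational_eq hB (by norm_num) hH h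
  exact .rational F₀ r P ζ hr hcard hζ hrat hE

theorem TenCases.of_lines (hB : Nondeg Q) {H : Subgroup (GL (Fin 10) F)}
    (hH : Cfsg.Geo.IsMaximalIn (omegaGL ⇑Q) H) {D : Fin 10 → Submodule F (Fin 10 → F)}
    (hD : IsOrthogonalMDecomposition ⇑Q 1 D) (hle : H ≤ decompositionStabilizer D) : TenCases Q H := by
  rcases lines_eq hB (by norm_num) hH hD hle with ⟨hp, ho, hE⟩ | h
  · refine .lines D hp ho ?_ hD hE
    rw [parts_disc hB (PrimeDim.two_ne_zero_of_odd ho) (m := 5) rfl rfl (by decide) hD,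
      neg_one_pow_odd_square (m := 5) (by decide)]
  · exact .of_rational hB hH h

theorem TenCases.of_planes (hB : Nondeg Q) {H : Subgroup (GL (Fin 10) F)}
    (hH : Cfsg.Geo.IsMaximalIn (omegaGL ⇑Q) H) (hirr : Cfsg.Geo.ActsIrreducibly (matrixSet H))
    {D : Fin 5 → Submodule F (Fin 10 → F)} (hD : IsOrthogonalMDecomposition ⇑Q 2 D)
    (hle : H ≤ decompositionStabilizer D) : TenCases Q H := by
  have hiff := parts_plus_iff hD even_two 0
  have hall : ∀ i, IsPlusTypeOn ⇑Q (D i) ↔ IsPlusTypeOn ⇑Q (D 0) := fun i =>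
    ⟨plus_isometric (hD.isometric i 0), plus_isometric (hD.isometric 0 i)⟩
  have hE := decomp_eq hB (by norm_num) hH hD.decomp (Or.inr ⟨rfl, by norm_num⟩) hle
  by_cases hp : IsPlusTypeOn ⇑Q (D 0)
  · have hps := fun i => (hall i).2 hp
    by_cases h2 : Fintype.card F = 2
    · exact (OrthPlanes.plus_planes_small (Or.inl h2) (by norm_num) hH.1.le hirr rfl hD hps hle).elim
    by_cases h3 : Fintype.card F = 3
    · exact (OrthPlanes.plus_planes_small (Or.inr h3) (by norm_num) hH.1.le hirr rfl hD hps hle).elim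
    by_cases h4 : Fintype.card F = 4
    · obtain ⟨F₀, r, P, hr, hcard, hrat, hle'⟩ :=
        OrthPlanes.plus_planes_four (by norm_num) h4 hH.1.le rfl hD hps hle
      exact .of_rational hB hH ⟨F₀, r, P, 1, hr, hcard, one_ne_zero, hrat, hle'⟩
    by_cases h5 : Fintype.card F = 5
    · obtain ⟨D', hD', hle'⟩ := OrthPlanes.plus_planes_five hB (by norm_num) h5 hH.1.le hirr rfl hD hps hle
      exact .of_lines hB hH hD' hle'
    exact .planesPlus D (seven_le h2 h3 h4 h5) (hiff.2 (Or.inl hp)) hD hE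
  · by_cases h3 : Fintype.card F = 3
    · obtain ⟨D', hD', hle'⟩ := OrthPlanes.minus_planes_three hB (by norm_num) h3 hH.1.le hirr rfl hD
        (fun i => fun h => hp ((hall i).1 h)) hle
      exact .of_lines hB hH hD' hle'
    exact .planesMinus D h3 (fun h => hp ((hiff.1 h).resolve_right (by decide))) hD hE

theorem TenCases.of_halves (hB : Nondeg Q) {H : Subgroup (GL (Fin 10) F)}
    (hH : Cfsg.Geo.IsMaximalIn (omegaGL ⇑Q) H) {D : Fin 2 → Submodule F (Fin 10 → F)}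
    (hD : Cfsg.Geo.IsNondegenerateMDecomposition (QuadraticMap.polar ⇑Q) 5 D)
    (hle : H ≤ decompositionStabilizer D) : TenCases Q H := by
  have ho : Odd (Fintype.card F) := odd_of_odd_finrank (CfsgLib.Orth.nondegOn_of (hD.nondegenerate 0))
    (by rw [hD.decomp.finrank_eq]; decide)
  have hE := decomp_eq hB (by norm_num) hH hD (Or.inl (by norm_num)) hle
  by_cases hiso : Cfsg.Geo.AreIsometricFor ⇑Q (D 0) (D 1)
  · refine .halves D ho ?_ (orth_two hD hiso) hE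
    rw [parts_disc hB (PrimeDim.two_ne_zero_of_odd ho) (m := 5) rfl rfl (by decide) (orth_two hD hiso),
      neg_one_pow_odd_square (m := 5) (by decide)]
  · refine .mixed D ho ?_ hD hiso hE
    rw [OrthEven.two_odd_parts hB (m := 2) rfl hD hiso, FiniteField.isSquare_neg_one_iff, not_not]

theorem TenCases.of_conj (hB : Nondeg Q) {H : Subgroup (GL (Fin 10) F)}
    (hH : Cfsg.Geo.IsMaximalIn (omegaGL ⇑Q) H) (h : OConjFieldCase Q H) : TenCases Q H := by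
  obtain ⟨-, K, hK, hcl, hnsa, -, hsim, hle⟩ := h
  refine .conjField (fun hp => ?_) ⟨K, hK, adjointClosed_polar hB hcl, not_selfAdjoint_polar hB hnsa, hsim,
    OrthNotLe.eq_inf hH hle (OrthNotLe.not_le_normalizer hB (by norm_num) le_rfl hK)⟩
  exact (by decide : ¬ Even 5) ((OrthEven.conj_top_iff hB hK hsim (j := 5) rfl).1 hp)

theorem ten_cases (hB : Nondeg Q) {H : Subgroup (GL (Fin 10) F)} (hH : Cfsg.Geo.IsMaximalIn (omegaGL ⇑Q) H) :
    TenCases Q H := by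
  classical
  have hn : (5 : ℕ) ≤ 10 := by norm_num
  rcases orth_structure hB hn hH.1.le with ⟨W, h0, h1, hW, hle⟩ | ⟨hev, v, hv, hle⟩ | hnd |
    ⟨hirr, t, k, D, htk, hD, hle⟩ | ⟨-, k, D, hk, hke, -⟩ | ⟨hirr, r, K, hr, hrn, -, hchar, hK, hsa, hle⟩ |
    hconj | ⟨-, n₁, n₂, d, P, J₁, J₂, -, h3, h12, hn', -⟩ |
    ⟨-, n₁, n₂, d, P, J₁, J₂, h2, h12, hn', hJ₁, hJ₂, -⟩ | hrat | ⟨-, ⟨k, hk⟩, -⟩ |
    ⟨-, k, t, d, P, J₀, c, -, hk3, ht, -, hn', -⟩ |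
    ⟨-, k, t, d, P, J₀, c, hk2, ht, -, -, hn', -⟩ | h
  · exact .ts W h0 h1 hW hle
  · exact .point ⟨hev, v, hv, point_eq hB hn hH hv hle⟩
  · rcases nd_cases hB hn (by decide) hH hnd with ⟨hq, W, h0, h1, ho, hW, hE⟩ | h | h | ⟨W, he, h4, h8, hW, hE⟩ | h
    · by_cases h5 : 2 * Module.finrank F W = 10
      · obtain ⟨D, hD, -, -, hle⟩ := half_decomp hB (k := 5) rfl (by norm_num) hH.1.le
          (CfsgLib.Orth.nondegOn_of hW) (by omega) (hE.le.trans inf_le_left)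
        exact .of_halves hB hH hD hle
      · exact .odd ⟨hq, W, h0, h1, ho, h5, hW, hE⟩
    · exact .minusPlane h
    · exact .plusPlane h
    · exact .four ⟨W, by obtain ⟨a, ha⟩ := he; omega, hW, hE⟩
    · exact .point h
  · have ht := hD.decomp.decomp.two_le
    have hk := hD.decomp.decomp.pos
    have ht10 : t ≤ 10 := Nat.le_of_dvd (by norm_num) ⟨k, htk.symm⟩
    obtain ⟨rfl, rfl⟩ | ⟨rfl, rfl⟩ | ⟨rfl, rfl⟩ : t = 10 ∧ k = 1 ∨ t = 5 ∧ k = 2 ∨ t = 2 ∧ k = 5 := by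
      interval_cases t <;> omega
    · exact .of_lines hB hH hD hle
    · exact .of_planes hB hH hirr hD hle
    · exact .of_halves hB hH hD.decomp hle
  · exfalso
    obtain ⟨a, ha⟩ := hke
    omega
  · have hr10 : r ≤ 10 := Nat.le_of_dvd (by norm_num) hrn
    obtain rfl | rfl : r = 2 ∨ r = 5 := by
      have := hr.two_le
      interval_cases r <;> first | omega | (exfalso; revert hr; norm_num)
    · have ho : Odd (Fintype.card F) := by
        by_contra h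
        obtain ⟨a, ha⟩ := hchar h
        omega
      exact .saField ⟨ho, K, hK, selfAdjoint_polar hB hsa,
        OrthNotLe.eq_inf hH hle (OrthNotLe.not_le_normalizer hB hn le_rfl hK)⟩
    · refine TenCases.of_conj hB hH (OrthFieldTwo.conj_of_plane hB hH.1.le hirr (r := 5) (by decide) rfl hK
        (fun k hk u v => selfAdjoint_polar hB hsa k hk u v) hle fun v hv => ?_)
      exact OrthFieldTwo.no_singular_line hB hn hH.1.le hirr (by decide) rfl hK hle hv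
  · exact .of_conj hB hH hconj
  · exfalso
    obtain rfl : n₁ = 3 := by nlinarith
    omega
  · exfalso
    obtain ⟨rfl, h4⟩ := sympTensor_dims hJ₁ hJ₂ h2 h12 (by omega)
    omega
  · exact .of_rational hB hH hrat
  · exfalso
    have hk4 : k ≤ 4 := by
      by_contra h
      have := Nat.pow_le_pow_right (show 1 ≤ 2 by norm_num) (show 5 ≤ k by omega)
      omega
    interval_cases k <;> omega
  · exfalso
    have ht2 : t = 2 := by
      by_contra hne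
      have : 3 ^ 3 ≤ k ^ t := (Nat.pow_le_pow_left hk3 3).trans (Nat.pow_le_pow_right (by omega) (by omega))
      omega
    subst ht2
    have : k ≤ 3 := by nlinarith
    interval_cases k; omega
  · exfalso
    have ht4 : t ≤ 3 := by
      by_contra h
      have : 2 ^ 4 ≤ k ^ t := (Nat.pow_le_pow_left hk2 4).trans (Nat.pow_le_pow_right (by omega) (by omega))
      omega
    have hk4 : k ≤ 3 := by
      by_contra h
      have : 4 ^ 2 ≤ k ^ t := (Nat.pow_le_pow_left (show 4 ≤ k by omega) 2).trans (Nat.pow_le_pow_right (by omega) ht)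
      omega
    interval_cases k <;> interval_cases t <;> omega
  · exact .residual h

/-- Plus type. -/
theorem ten_plus_cases (Q₀ : (Fin 10 → F) → F) (hQ : Cfsg.Geo.IsNondegenerateQuadraticForm Q₀)
    (hplus : IsPlusTypeOn Q₀ ⊤) (H : Subgroup (GL (Fin 10) F)) (hH : Cfsg.Geo.IsMaximalIn (omegaGL Q₀) H) :
    (∃ W : Submodule F (Fin 10 → F), W ≠ ⊥ ∧ IsTotallySingularQuad Q₀ W ∧ Module.finrank F W ≠ 4 ∧
      H = subspaceStabilizer W ⊓ omegaGL Q₀) ∨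
    (Odd (Fintype.card F) ∧ ∃ W : Submodule F (Fin 10 → F), W ≠ ⊥ ∧ W ≠ ⊤ ∧ Odd (Module.finrank F W) ∧
      2 * Module.finrank F W ≠ 10 ∧ IsNondegenerateOn (QuadraticMap.polar Q₀) W ∧
      H = subspaceStabilizer W ⊓ omegaGL Q₀) ∨
    (∃ W : Submodule F (Fin 10 → F), Module.finrank F W = 2 ∧ IsNondegenerateOn (QuadraticMap.polar Q₀) W ∧
      ¬ IsPlusTypeOn Q₀ W ∧ H = subspaceStabilizer W ⊓ omegaGL Q₀) ∨
    (4 ≤ Fintype.card F ∧ ∃ W : Submodule F (Fin 10 → F), Module.finrank F W = 2 ∧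
      IsNondegenerateOn (QuadraticMap.polar Q₀) W ∧ IsPlusTypeOn Q₀ W ∧ H = subspaceStabilizer W ⊓ omegaGL Q₀) ∨
    (∃ W : Submodule F (Fin 10 → F), Module.finrank F W = 4 ∧ IsNondegenerateOn (QuadraticMap.polar Q₀) W ∧
      H = subspaceStabilizer W ⊓ omegaGL Q₀) ∨
    (¬ Odd (Fintype.card F) ∧ ∃ v : (Fin 10 → F), Q₀ v ≠ 0 ∧
      H = subspaceStabilizer (Submodule.span F {v}) ⊓ omegaGL Q₀) ∨
    ((∃ p : ℕ, p.Prime ∧ Fintype.card F = p ∧ (p % 4 = 1)) ∧ ∃ D : Fin 10 → Submodule F (Fin 10 → F),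
      IsOrthogonalMDecomposition Q₀ 1 D ∧ H = decompositionStabilizer D ⊓ omegaGL Q₀) ∨
    (7 ≤ Fintype.card F ∧ ∃ D : Fin 5 → Submodule F (Fin 10 → F),
      IsOrthogonalMDecomposition Q₀ 2 D ∧ H = decompositionStabilizer D ⊓ omegaGL Q₀) ∨
    (Fintype.card F % 4 = 1 ∧ ∃ D : Fin 2 → Submodule F (Fin 10 → F),
      IsOrthogonalMDecomposition Q₀ 5 D ∧ H = decompositionStabilizer D ⊓ omegaGL Q₀) ∨
    (Fintype.card F % 4 = 3 ∧ ∃ D : Fin 2 → Submodule F (Fin 10 → F),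
      Cfsg.Geo.IsNondegenerateMDecomposition (QuadraticMap.polar Q₀) 5 D ∧
      ¬ Cfsg.Geo.AreIsometricFor Q₀ (D 0) (D 1) ∧ H = decompositionStabilizer D ⊓ omegaGL Q₀) ∨
    (Odd (Fintype.card F) ∧ ∃ K : Subalgebra F (Matrix (Fin 10) (Fin 10) F), Cfsg.Geo.IsFieldSubalgebra 2 K ∧
      Cfsg.Geo.IsSelfAdjointFor (QuadraticMap.polar Q₀) K ∧ H = subalgebraNormalizer K ⊓ omegaGL Q₀) ∨
    (∃ (F₀ : Subfield F) (r : ℕ) (P : GL (Fin 10) F) (ζ : F), r.Prime ∧ Fintype.card F = Nat.card F₀ ^ r ∧ ζ ≠ 0 ∧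
      Cfsg.Geo.IsQuadFormRationalStructure (fun v : Fin 10 → F => ζ * Q₀ v) F₀ P ∧
      H = Cfsg.Geo.subfieldSubgroup F₀ P ⊓ omegaGL Q₀) ∨
    Cfsg.Geo.InOrthogonalResidualClass H := by
  obtain ⟨Q, rfl, hB⟩ := OrthEven.exists_quad hQ
  rcases ten_cases hB hH with ⟨W, h0, h1, hW, hle⟩ | h | h | h | h | h | ⟨D, hp, ho, hiff, hD, hE⟩ |
    ⟨D, hq, -, hD, hE⟩ | ⟨D, -, hm, -⟩ | ⟨D, ho, hiff, hD, hE⟩ | ⟨D, -, hiff, hD, hne, hE⟩ | h | ⟨hm, -⟩ |
    ⟨F₀, r, P, ζ, hr, hcard, hζ, hrat, hE⟩ | h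
  · left
    by_cases h4 : Module.finrank F W = 4
    · obtain ⟨U, hU, hUd, hle'⟩ := OrthEven.submax hB (by norm_num) hplus hH.1.le hW (by omega) hle
      obtain ⟨hb, ht⟩ := ne_bot_top (n := 10) (by norm_num) (W := U) (by omega) (by omega)
      exact ⟨U, hb, hU, by omega, stab_eq hB (by norm_num) hH hb ht hle'⟩
    exact ⟨W, h0, hW, h4, stab_eq hB (by norm_num) hH h0 h1 hle⟩
  · exact Or.inr (Or.inl h)
  · exact Or.inr (Or.inr (Or.inl h))
  · exact Or.inr (Or.inr (Or.inr (Or.inl h)))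
  · exact Or.inr (Or.inr (Or.inr (Or.inr (Or.inl h))))
  · exact Or.inr (Or.inr (Or.inr (Or.inr (Or.inr (Or.inl h)))))
  · have := hiff.1 hplus
    have : Fintype.card F % 2 = 1 := Nat.odd_iff.1 ho
    exact Or.inr (Or.inr (Or.inr (Or.inr (Or.inr (Or.inr (Or.inl ⟨⟨_, hp, rfl, by omega⟩, D, hD, hE⟩))))))
  · exact Or.inr (Or.inr (Or.inr (Or.inr (Or.inr (Or.inr (Or.inr (Or.inl ⟨hq, D, hD, hE⟩)))))))
  · exact absurd hplus hm
  · have := hiff.1 hplus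
    have : Fintype.card F % 2 = 1 := Nat.odd_iff.1 ho
    exact Or.inr (Or.inr (Or.inr (Or.inr (Or.inr (Or.inr (Or.inr (Or.inr (Or.inl ⟨by omega, D, hD, hE⟩))))))))
  · exact Or.inr (Or.inr (Or.inr (Or.inr (Or.inr (Or.inr (Or.inr (Or.inr (Or.inr (Or.inl
      ⟨hiff.1 hplus, D, hD, hne, hE⟩)))))))))
  · exact Or.inr (Or.inr (Or.inr (Or.inr (Or.inr (Or.inr (Or.inr (Or.inr (Or.inr (Or.inr (Or.inl h))))))))))
  · exact absurd hplus hm
  · exact Or.inr (Or.inr (Or.inr (Or.inr (Or.inr (Or.inr (Or.inr (Or.inr (Or.inr (Or.inr (Or.inr (Or.inl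
      ⟨F₀, r, P, ζ, hr, hcard, hζ, hrat, hE⟩)))))))))))
  · exact Or.inr (Or.inr (Or.inr (Or.inr (Or.inr (Or.inr (Or.inr (Or.inr (Or.inr (Or.inr (Or.inr (Or.inr h)))))))))))

/-- Minus type. -/
theorem ten_minus_cases (Q₀ : (Fin 10 → F) → F) (hQ : Cfsg.Geo.IsNondegenerateQuadraticForm Q₀)
    (hminus : ¬ IsPlusTypeOn Q₀ ⊤) (H : Subgroup (GL (Fin 10) F)) (hH : Cfsg.Geo.IsMaximalIn (omegaGL Q₀) H) :
    (∃ W : Submodule F (Fin 10 → F), W ≠ ⊥ ∧ IsTotallySingularQuad Q₀ W ∧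
      H = subspaceStabilizer W ⊓ omegaGL Q₀) ∨
    (Odd (Fintype.card F) ∧ ∃ W : Submodule F (Fin 10 → F), W ≠ ⊥ ∧ W ≠ ⊤ ∧ Odd (Module.finrank F W) ∧
      2 * Module.finrank F W ≠ 10 ∧ IsNondegenerateOn (QuadraticMap.polar Q₀) W ∧
      H = subspaceStabilizer W ⊓ omegaGL Q₀) ∨
    (∃ W : Submodule F (Fin 10 → F), Module.finrank F W = 2 ∧ IsNondegenerateOn (QuadraticMap.polar Q₀) W ∧
      ¬ IsPlusTypeOn Q₀ W ∧ H = subspaceStabilizer W ⊓ omegaGL Q₀) ∨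
    (4 ≤ Fintype.card F ∧ ∃ W : Submodule F (Fin 10 → F), Module.finrank F W = 2 ∧
      IsNondegenerateOn (QuadraticMap.polar Q₀) W ∧ IsPlusTypeOn Q₀ W ∧ H = subspaceStabilizer W ⊓ omegaGL Q₀) ∨
    (∃ W : Submodule F (Fin 10 → F), Module.finrank F W = 4 ∧ IsNondegenerateOn (QuadraticMap.polar Q₀) W ∧
      H = subspaceStabilizer W ⊓ omegaGL Q₀) ∨
    (¬ Odd (Fintype.card F) ∧ ∃ v : (Fin 10 → F), Q₀ v ≠ 0 ∧
      H = subspaceStabilizer (Submodule.span F {v}) ⊓ omegaGL Q₀) ∨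
    ((∃ p : ℕ, p.Prime ∧ Fintype.card F = p ∧ (p % 4 = 3)) ∧ ∃ D : Fin 10 → Submodule F (Fin 10 → F),
      IsOrthogonalMDecomposition Q₀ 1 D ∧ H = decompositionStabilizer D ⊓ omegaGL Q₀) ∨
    (Fintype.card F ≠ 3 ∧ ∃ D : Fin 5 → Submodule F (Fin 10 → F),
      IsOrthogonalMDecomposition Q₀ 2 D ∧ H = decompositionStabilizer D ⊓ omegaGL Q₀) ∨
    (Fintype.card F % 4 = 3 ∧ ∃ D : Fin 2 → Submodule F (Fin 10 → F),
      IsOrthogonalMDecomposition Q₀ 5 D ∧ H = decompositionStabilizer D ⊓ omegaGL Q₀) ∨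
    (Fintype.card F % 4 = 1 ∧ ∃ D : Fin 2 → Submodule F (Fin 10 → F),
      Cfsg.Geo.IsNondegenerateMDecomposition (QuadraticMap.polar Q₀) 5 D ∧
      ¬ Cfsg.Geo.AreIsometricFor Q₀ (D 0) (D 1) ∧ H = decompositionStabilizer D ⊓ omegaGL Q₀) ∨
    (Odd (Fintype.card F) ∧ ∃ K : Subalgebra F (Matrix (Fin 10) (Fin 10) F), Cfsg.Geo.IsFieldSubalgebra 2 K ∧
      Cfsg.Geo.IsSelfAdjointFor (QuadraticMap.polar Q₀) K ∧ H = subalgebraNormalizer K ⊓ omegaGL Q₀) ∨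
    (∃ K : Subalgebra F (Matrix (Fin 10) (Fin 10) F), Cfsg.Geo.IsFieldSubalgebra 2 K ∧
      Cfsg.Geo.IsAdjointClosedFor (QuadraticMap.polar Q₀) K ∧
      ¬ Cfsg.Geo.IsSelfAdjointFor (QuadraticMap.polar Q₀) K ∧
      (∀ k ∈ K, ∃ c : F, ∀ v : (Fin 10 → F), Q₀ (Matrix.mulVec k v) = c * Q₀ v) ∧
      H = subalgebraNormalizer K ⊓ omegaGL Q₀) ∨
    (∃ (F₀ : Subfield F) (r : ℕ) (P : GL (Fin 10) F) (ζ : F), r.Prime ∧ Odd r ∧
      Fintype.card F = Nat.card F₀ ^ r ∧ ζ ≠ 0 ∧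
      Cfsg.Geo.IsQuadFormRationalStructure (fun v : Fin 10 → F => ζ * Q₀ v) F₀ P ∧
      H = Cfsg.Geo.subfieldSubgroup F₀ P ⊓ omegaGL Q₀) ∨
    Cfsg.Geo.InOrthogonalResidualClass H := by
  obtain ⟨Q, rfl, hB⟩ := OrthEven.exists_quad hQ
  rcases ten_cases hB hH with ⟨W, h0, h1, hW, hle⟩ | h | h | h | h | h | ⟨D, hp, ho, hiff, hD, hE⟩ |
    ⟨D, -, hm, -⟩ | ⟨D, hq, -, hD, hE⟩ | ⟨D, ho, hiff, hD, hE⟩ | ⟨D, ho, hiff, hD, hne, hE⟩ | h | ⟨-, h⟩ |
    ⟨F₀, r, P, ζ, hr, hcard, hζ, hrat, hE⟩ | h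
  · exact Or.inl ⟨W, h0, hW, stab_eq hB (by norm_num) hH h0 h1 hle⟩
  · exact Or.inr (Or.inl h)
  · exact Or.inr (Or.inr (Or.inl h))
  · exact Or.inr (Or.inr (Or.inr (Or.inl h)))
  · exact Or.inr (Or.inr (Or.inr (Or.inr (Or.inl h))))
  · exact Or.inr (Or.inr (Or.inr (Or.inr (Or.inr (Or.inl h)))))
  · have : Fintype.card F % 4 = 3 := not_not.1 fun h => hminus (hiff.2 h)
    exact Or.inr (Or.inr (Or.inr (Or.inr (Or.inr (Or.inr (Or.inl ⟨⟨_, hp, rfl, this⟩, D, hD, hE⟩))))))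
  · exact absurd hm hminus
  · exact Or.inr (Or.inr (Or.inr (Or.inr (Or.inr (Or.inr (Or.inr (Or.inl ⟨hq, D, hD, hE⟩)))))))
  · have : Fintype.card F % 4 = 3 := not_not.1 fun h => hminus (hiff.2 h)
    exact Or.inr (Or.inr (Or.inr (Or.inr (Or.inr (Or.inr (Or.inr (Or.inr (Or.inl ⟨this, D, hD, hE⟩))))))))
  · have : ¬ Fintype.card F % 4 = 3 := fun h => hminus (hiff.2 h)
    have : Fintype.card F % 2 = 1 := Nat.odd_iff.1 ho
    exact Or.inr (Or.inr (Or.inr (Or.inr (Or.inr (Or.inr (Or.inr (Or.inr (Or.inr (Or.inl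
      ⟨by omega, D, hD, hne, hE⟩)))))))))
  · exact Or.inr (Or.inr (Or.inr (Or.inr (Or.inr (Or.inr (Or.inr (Or.inr (Or.inr (Or.inr (Or.inl h))))))))))
  · exact Or.inr (Or.inr (Or.inr (Or.inr (Or.inr (Or.inr (Or.inr (Or.inr (Or.inr (Or.inr (Or.inr (Or.inl h)))))))))))
  · exact Or.inr (Or.inr (Or.inr (Or.inr (Or.inr (Or.inr (Or.inr (Or.inr (Or.inr (Or.inr (Or.inr (Or.inr (Or.inl
      ⟨F₀, r, P, ζ, hr, rational_odd hB (m := 5) rfl hminus hr hcard hζ hrat, hcard, hζ, hrat, hE⟩))))))))))))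
  · exact Or.inr (Or.inr (Or.inr (Or.inr (Or.inr (Or.inr (Or.inr (Or.inr (Or.inr (Or.inr (Or.inr (Or.inr (Or.inr
      h))))))))))))

end CfsgLib.Asch.OrthEvenMax
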