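import Mathlib

set_option autoImplicit false

/-!
Quadratic extensions of finite fields.
-/

namespace CfsgLib.Classical.QuadExt

open Polynomial

variable {F K : Type*} [Field F] [Fintype F] [Field K] [Fintype K]

/-- The field of `q` elements embeds in the field of `q ^ 2` elements. -/
theorem exists_hom {q : ℕ} (hF : Fintype.card F = q) (hK : Fintype.card K = q ^ 2) :
    Nonempty (F →+* K) := by
  obtain ⟨p, hp⟩ := CharP.exists F
  obtain ⟨a, hpp, ha⟩ := FiniteField.card F p
  obtain ⟨p', hp'⟩ := CharP.exists K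
  obtain ⟨c, hpp', hc⟩ := FiniteField.card K p'
  obtain rfl : p' = p := by
    have h : p' ∣ q ^ 2 := by rw [← hK, hc]; exact dvd_pow_self _ c.pos.ne'
    rw [← hF, ha, ← pow_mul] at h
    exact (Nat.prime_dvd_prime_iff_eq hpp' hpp).1 (hpp'.dvd_of_dvd_pow h)
  have : Fact p'.Prime := ⟨hpp⟩
  let _ := ZMod.algebra F p'
  let _ := ZMod.algebra K p'
  refine ⟨(FiniteField.nonempty_algHom_of_finrank_dvd (F := ZMod p') (K := F) (L := K) ?_).some.toRingHom⟩
  have h1 := Module.card_eq_pow_finrank (K := ZMod p') (V := F)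
  have h2 := Module.card_eq_pow_finrank (K := ZMod p') (V := K)
  rw [ZMod.card, hF] at h1
  rw [ZMod.card, hK, h1, ← pow_mul] at h2
  rw [← Nat.pow_right_injective hpp.two_le h2]
  exact dvd_mul_right _ _

/-- The data of the quadratic extension: the conjugation and a root of an irreducible quadratic. -/
theorem exists_frame {q : ℕ} (hF : Fintype.card F = q) (hK : Fintype.card K = q ^ 2) (a b : F)
    (hab : ∀ z₁ z₂ : F, z₁ ^ 2 + a * z₁ * z₂ + b * z₂ ^ 2 = 0 → z₁ = 0 ∧ z₂ = 0) :
    ∃ (ι : F →+* K) (σ : K →+* K) (ω : K),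
      (∀ x, σ x = x ^ q) ∧ (∀ x, σ (σ x) = x) ∧ (∀ x : K, σ x = x ↔ ∃ y, ι y = x) ∧
      ω + σ ω = ι a ∧ ω * σ ω = ι b ∧
      Function.Bijective (fun z : F × F => ι z.1 + ω * ι z.2) := by
  classical
  obtain ⟨ι⟩ := exists_hom hF hK
  obtain ⟨p, hp⟩ := CharP.exists K
  obtain ⟨c, hpp, hc⟩ := FiniteField.card K p
  have hq1 : 1 < q := hF ▸ Fintype.one_lt_card
  obtain ⟨k, hk⟩ : ∃ k, q = p ^ k := by
    have h : q ∣ p ^ (c : ℕ) := by rw [← hc, hK]; exact dvd_pow_self _ (by norm_num)
    obtain ⟨k, -, hk⟩ := (Nat.dvd_prime_pow hpp).1 h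
    exact ⟨k, hk⟩
  have : Fact p.Prime := ⟨hpp⟩
  let σ : K →+* K := iterateFrobenius K p k
  have hσ : ∀ x, σ x = x ^ q := fun x => by
    rw [hk]; exact iterateFrobenius_def p k x
  have hσ2 : ∀ x, σ (σ x) = x := fun x => by
    rw [hσ, hσ, ← pow_mul, ← sq, ← hK, FiniteField.pow_card]
  have hfix : ∀ x : K, σ x = x ↔ ∃ y, ι y = x := by
    intro x
    refine ⟨fun h => ?_, ?_⟩
    · have hP : ((X ^ q - X : K[X])) ≠ 0 := FiniteField.X_pow_card_sub_X_ne_zero K hq1
      have hsub : Finset.univ.image ι ⊆ (X ^ q - X : K[X]).roots.toFinset := fun z hz => by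
        obtain ⟨y, -, rfl⟩ := Finset.mem_image.1 hz
        rw [Multiset.mem_toFinset, mem_roots hP]
        simp only [IsRoot.def, eval_sub, eval_pow, eval_X]
        rw [← map_pow, ← hF, FiniteField.pow_card, sub_self]
      have hle : (X ^ q - X : K[X]).roots.toFinset.card ≤ q :=
        (Multiset.toFinset_card_le _).trans ((card_roots' _).trans_eq
          (FiniteField.X_pow_card_sub_X_natDegree_eq K hq1))
      have heq := Finset.eq_of_subset_of_card_le hsub (by
        rw [Finset.card_image_of_injective _ ι.injective, Finset.card_univ, hF]; exact hle)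
      have hx : x ∈ Finset.univ.image ι := by
        rw [heq, Multiset.mem_toFinset, mem_roots hP]
        simp only [IsRoot.def, eval_sub, eval_pow, eval_X]
        rw [← hσ, h, sub_self]
      obtain ⟨y, -, hy⟩ := Finset.mem_image.1 hx
      exact ⟨y, hy⟩
    · rintro ⟨y, rfl⟩
      rw [hσ, ← map_pow, ← hF, FiniteField.pow_card]
  -- a root of `t² - a t + b`
  obtain ⟨ω, hω⟩ : ∃ ω : K, ω * ω - ι a * ω + ι b = 0 := by
    let _ : Algebra F K := ι.toAlgebra
    let f : F[X] := X ^ 2 + C (-a) * X + C b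
    have hdeg : f.natDegree = 2 := by simp only [f]; compute_degree!
    have hmon : f.Monic := by simp only [f]; monicity!
    have hirr : Irreducible f := by
      refine Polynomial.irreducible_of_degree_le_three_of_not_isRoot (by rw [hdeg]; decide) fun t ht => ?_
      simp only [f, IsRoot.def, eval_add, eval_pow, eval_X, eval_mul, eval_C] at ht
      exact one_ne_zero (hab (-t) 1 (by linear_combination ht)).2
    have := Fact.mk hirr
    have : Module.Finite F (AdjoinRoot f) := (AdjoinRoot.powerBasis hirr.ne_zero).finite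
    have : Finite (AdjoinRoot f) := Module.finite_of_finite F
    have hfr : Module.finrank F K = 2 := by
      have h := Module.card_eq_pow_finrank (K := F) (V := K)
      rw [hF, hK] at h
      exact (Nat.pow_right_injective hq1 h).symm
    obtain ⟨ψ⟩ : Nonempty (AdjoinRoot f →ₐ[F] K) := FiniteField.nonempty_algHom_of_finrank_dvd (by
      rw [(AdjoinRoot.powerBasis hirr.ne_zero).finrank, AdjoinRoot.powerBasis_dim, hdeg, hfr])
    refine ⟨ψ (AdjoinRoot.root f), ?_⟩
    have h : Polynomial.aeval (ψ (AdjoinRoot.root f)) f = 0 := by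
      rw [aeval_algHom_apply, AdjoinRoot.aeval_eq, AdjoinRoot.mk_self, map_zero]
    simp only [f, map_add, map_pow, map_mul, aeval_X, aeval_C, map_neg] at h
    change ψ (AdjoinRoot.root f) ^ 2 + -ι a * ψ (AdjoinRoot.root f) + ι b = 0 at h
    linear_combination h
  have hnot : ¬ ∃ y, ι y = ω := by
    rintro ⟨y, rfl⟩
    refine one_ne_zero (hab (-y) 1 (ι.injective ?_)).2
    simp only [map_add, map_mul, map_pow, map_neg, map_one, map_zero]
    linear_combination hω
  have hσι : ∀ y, σ (ι y) = ι y := fun y => (hfix _).2 ⟨y, rfl⟩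
  have hroot : σ ω * σ ω - ι a * σ ω + ι b = 0 := by
    have := congrArg σ hω
    simp only [map_add, map_sub, map_mul, map_zero, hσι] at this
    exact this
  have hne : σ ω ≠ ω := fun h => hnot ((hfix ω).1 h)
  have hsum : ω + σ ω = ι a := by
    refine sub_eq_zero.1 ((mul_eq_zero.1 (?_ : (σ ω - ω) * (ω + σ ω - ι a) = 0)).resolve_left
      (sub_ne_zero.2 hne))
    linear_combination hroot - hω
  refine ⟨ι, σ, ω, hσ, hσ2, hfix, hsum, by linear_combination ω * hsum - hω, ?_⟩
  refine (Fintype.bijective_iff_injective_and_card _).2 ⟨fun z z' h => ?_, by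
    rw [Fintype.card_prod, hF, hK, sq]⟩
  simp only at h
  have h2 : z.2 = z'.2 := by
    by_contra hne2
    refine hnot ⟨(z'.1 - z.1) / (z.2 - z'.2), ?_⟩
    have : ι z.2 - ι z'.2 ≠ 0 := sub_ne_zero.2 fun e => hne2 (ι.injective e)
    rw [map_div₀, map_sub, map_sub, div_eq_iff this]
    linear_combination -h
  exact Prod.ext (ι.injective (by rw [h2] at h; exact add_right_cancel h)) h2

end CfsgLib.Classical.QuadExt
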