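import Cfsg.Prelude.Def_Classical
import Cfsg.Prelude.Def_LieClassical
import Cfsg.Agent.Lib.Classical.QuadExt

/-!
Embeddings of classical groups by restricting or extending the scalars along a quadratic extension.
-/

set_option autoImplicit false
set_option linter.style.haveILetI false

namespace CfsgLib.Classical.RestrictScalars

open Matrix
open scoped MatrixGroups

/-! ### Transport of matrices along a semilinear change of coordinates -/

section Transport

variable {F K : Type*} [Field F] [Field K] [Algebra F K]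
variable {ι κ : Type} [Fintype ι] [DecidableEq ι] [Fintype κ] [DecidableEq κ]

/-- The matrix of a `K`-linear map over `F` in new coordinates. -/
noncomputable def tMat (L : (ι → K) ≃ₗ[F] (κ → F)) : Matrix ι ι K →* Matrix κ κ F where
  toFun M := LinearMap.toMatrix' (L.toLinearMap ∘ₗ (Matrix.toLin' M).restrictScalars F ∘ₗ L.symm.toLinearMap)
  map_one' := by
    rw [Matrix.toLin'_one, ← LinearMap.toMatrix'_id]
    congr 1
    ext v
    simp
  map_mul' M N := by
    rw [← LinearMap.toMatrix'_comp, Matrix.toLin'_mul]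
    congr 1
    ext v
    simp

/-- Change of the base field of the general linear group. -/
noncomputable def tGL (L : (ι → K) ≃ₗ[F] (κ → F)) : GL ι K →* GL κ F := Units.map (tMat L)

theorem tGL_mulVec (L : (ι → K) ≃ₗ[F] (κ → F)) (g : GL ι K) (v : ι → K) :
    (tGL L g : Matrix κ κ F) *ᵥ L v = L ((g : Matrix ι ι K) *ᵥ v) := by
  show LinearMap.toMatrix' _ *ᵥ L v = _
  rw [← Matrix.toLin'_apply, Matrix.toLin'_toMatrix']
  simp

theorem tGL_injective (L : (ι → K) ≃ₗ[F] (κ → F)) : Function.Injective (tGL L) := by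
  intro g h e
  apply Units.ext
  refine Matrix.toLin'.injective (LinearMap.ext fun v => L.injective ?_)
  rw [Matrix.toLin'_apply, Matrix.toLin'_apply, ← tGL_mulVec, ← tGL_mulVec, e]

/-- A linear equivalence from an injective map between finite coordinate spaces of equal size. -/
theorem exists_equiv [Fintype F] [Fintype K] (f : (ι → K) → (κ → F)) (hadd : ∀ u v, f (u + v) = f u + f v)
    (hsmul : ∀ (c : F) u, f (fun i => algebraMap F K c * u i) = c • f u) (hinj : ∀ u, f u = 0 → u = 0)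
    (hcard : Fintype.card K ^ Fintype.card ι = Fintype.card F ^ Fintype.card κ) :
    ∃ L : (ι → K) ≃ₗ[F] (κ → F), ∀ v, L v = f v := by
  let l : (ι → K) →ₗ[F] (κ → F) :=
    { toFun := f
      map_add' := hadd
      map_smul' := fun c u => by
        rw [RingHom.id_apply, ← hsmul]
        congr 1
        funext i
        exact Algebra.smul_def c (u i) }
  have hl : Function.Injective l := (injective_iff_map_eq_zero l).mpr hinj
  refine ⟨LinearEquiv.ofBijective l ((Fintype.bijective_iff_injective_and_card l).mpr ⟨hl, ?_⟩), fun v => rfl⟩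
  rw [Fintype.card_fun, Fintype.card_fun, hcard]

end Transport

theorem isometry_mem {ι : Type} [Fintype ι] [DecidableEq ι] {F : Type*} [Field F] {Q : (ι → F) → F}
    {g : GL ι F} : g ∈ Cfsg.isometryGroup F Q ↔ ∀ v, Q ((g : Matrix ι ι F) *ᵥ v) = Q v :=
  ⟨fun h v => h v v, fun h v _ => h v⟩

theorem gu_mem {n q : ℕ} {K : Type*} [Field K] {g : GL (Fin n) K} :
    g ∈ Cfsg.GU n K q ↔ ∀ u v, Cfsg.hermForm n K q ((g : Matrix (Fin n) (Fin n) K) *ᵥ u)
      ((g : Matrix (Fin n) (Fin n) K) *ᵥ v) = Cfsg.hermForm n K q u v := Iff.rfl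

/-- The standard alternating form. -/
def spForm {R : Type*} [CommRing R] {l : Type} [Fintype l] (u v : l ⊕ l → R) : R :=
  ∑ i, (u (Sum.inr i) * v (Sum.inl i) - u (Sum.inl i) * v (Sum.inr i))

theorem spForm_eq {R : Type*} [CommRing R] {l : Type} [Fintype l] [DecidableEq l] (u v : l ⊕ l → R) :
    spForm u v = u ⬝ᵥ J l R *ᵥ v := by
  simp [spForm, J, dotProduct, Fintype.sum_sum_type, Matrix.fromBlocks_mulVec, Matrix.neg_mulVec,
    Finset.sum_sub_distrib]
  ring

theorem symplectic_mem {R : Type*} [CommRing R] {l : Type} [Fintype l] [DecidableEq l]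
    {A : Matrix (l ⊕ l) (l ⊕ l) R} :
    A ∈ symplecticGroup l R ↔ ∀ u v, spForm (A *ᵥ u) (A *ᵥ v) = spForm u v := by
  have key : ∀ u v, spForm (A *ᵥ u) (A *ᵥ v) = u ⬝ᵥ (Aᵀ * J l R * A) *ᵥ v := fun u v => by
    rw [spForm_eq, ← Matrix.mulVec_mulVec, ← Matrix.mulVec_mulVec, Matrix.dotProduct_mulVec u,
      Matrix.vecMul_transpose]
  rw [SymplecticGroup.mem_iff']
  constructor
  · intro h u v
    rw [key, h, spForm_eq]
  · intro h
    ext i j
    have := h (Pi.single i 1) (Pi.single j 1)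
    rw [key, spForm_eq, single_dotProduct, single_dotProduct, mulVec_single_one, mulVec_single_one] at this
    simpa using this

variable {F K : Type*} [Field F] [Fintype F] [Field K] [Fintype K]

theorem exists_ab : ∃ a b : F, ∀ z₁ z₂ : F, z₁ ^ 2 + a * z₁ * z₂ + b * z₂ ^ 2 = 0 → z₁ = 0 ∧ z₂ = 0 := by
  have hns : ¬ Function.Surjective fun t : F => t ^ 2 - t := fun h => by
    have hb := Finite.injective_iff_surjective.mpr h
    exact zero_ne_one (α := F) (hb (by norm_num))
  obtain ⟨c, hc⟩ := not_forall.mp hns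
  refine ⟨-1, -c, fun z₁ z₂ h => ?_⟩
  by_cases h2 : z₂ = 0
  · subst h2
    exact ⟨by simpa using h, rfl⟩
  · refine absurd ⟨z₁ / z₂, ?_⟩ hc
    show (z₁ / z₂) ^ 2 - z₁ / z₂ = c
    field_simp
    linear_combination h

theorem exists_norm_eq (ι : F →+* K) {q : ℕ} (hF : Fintype.card F = q) (hK : Fintype.card K = q ^ 2)
    (y : F) : ∃ x : K, x * x ^ q = ι y := by
  letI := ι.toAlgebra
  obtain ⟨x, hx⟩ := FiniteField.norm_surjective F K y
  refine ⟨x, ?_⟩
  have h2 : Module.finrank F K = 2 := by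
    have h := Module.card_eq_pow_finrank (K := F) (V := K)
    rw [hF, hK] at h
    exact (Nat.pow_right_injective (hF ▸ Fintype.one_lt_card : 2 ≤ q) h).symm
  rw [show ι y = algebraMap F K y from rfl, ← hx, FiniteField.algebraMap_norm_eq_pow]
  have hq : 2 ≤ q := hF ▸ Fintype.one_lt_card
  rw [Nat.card_eq_fintype_card, Nat.card_eq_fintype_card, hK, hF,
    show q ^ 2 - 1 = (q + 1) * (q - 1) by rw [← Nat.sq_sub_sq, one_pow], Nat.mul_div_cancel _ (by omega),
    pow_succ, mul_comm]

/-- Coordinates in a frame. -/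
structure Frame (F K : Type*) [Field F] [Field K] (q : ℕ) (a b : F) where
  /-- The embedding. -/
  emb : F →+* K
  /-- The conjugation. -/
  σ : K →+* K
  /-- A root. -/
  ω : K
  σ_eq : ∀ x, σ x = x ^ q
  σσ : ∀ x, σ (σ x) = x
  fixed : ∀ x : K, σ x = x ↔ ∃ y, emb y = x
  sum_eq : ω + σ ω = emb a
  prod_eq : ω * σ ω = emb b
  bij : Function.Bijective (fun z : F × F => emb z.1 + ω * emb z.2)

theorem exists_Frame {q : ℕ} (hF : Fintype.card F = q) (hK : Fintype.card K = q ^ 2) (a b : F)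
    (hab : ∀ z₁ z₂ : F, z₁ ^ 2 + a * z₁ * z₂ + b * z₂ ^ 2 = 0 → z₁ = 0 ∧ z₂ = 0) :
    Nonempty (Frame F K q a b) := by
  obtain ⟨i, s, w, h1, h2, h3, h4, h5, h6⟩ := QuadExt.exists_frame hF hK a b hab
  exact ⟨⟨i, s, w, h1, h2, h3, h4, h5, h6⟩⟩

namespace Frame

variable {q : ℕ} {a b : F} (fr : Frame F K q a b)

/-- Coordinates. -/
noncomputable def co (x : K) : F × F := Function.surjInv fr.bij.2 x

theorem co_spec (x : K) : fr.emb (fr.co x).1 + fr.ω * fr.emb (fr.co x).2 = x :=
  Function.surjInv_eq fr.bij.2 x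

theorem co_unique {x : K} {u v : F} (h : fr.emb u + fr.ω * fr.emb v = x) : fr.co x = (u, v) :=
  fr.bij.1 ((fr.co_spec x).trans h.symm)

theorem co_add (x y : K) : fr.co (x + y) = fr.co x + fr.co y :=
  fr.co_unique (by
    rw [map_add, map_add]
    linear_combination fr.co_spec x + fr.co_spec y)

theorem co_smul (c : F) (x : K) : fr.co (fr.emb c * x) = (c * (fr.co x).1, c * (fr.co x).2) :=
  fr.co_unique (by
    rw [map_mul, map_mul]
    linear_combination (fr.emb c) * fr.co_spec x)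

theorem co_emb (c : F) : fr.co (fr.emb c) = (c, 0) := fr.co_unique (by simp)

theorem co_zero : fr.co 0 = 0 := fr.co_unique (by simp)

theorem co_eq_zero {x : K} (h : fr.co x = 0) : x = 0 := by
  rw [← fr.co_spec x, h]
  simp

/-- The coordinate at `ω`. -/
noncomputable def φ (x : K) : F := (fr.co x).2

theorem φ_add (x y : K) : fr.φ (x + y) = fr.φ x + fr.φ y := by rw [φ, co_add]; rfl

theorem φ_smul (c : F) (x : K) : fr.φ (fr.emb c * x) = c * fr.φ x := by rw [φ, co_smul]; rfl

theorem φ_smul' (c : F) (x : K) : fr.φ (fr.ω * (fr.emb c * x)) = c * fr.φ (fr.ω * x) := by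
  rw [mul_left_comm, φ_smul]

theorem φ_zero : fr.φ 0 = 0 := by rw [φ, co_zero]; rfl

theorem φ_emb (c : F) : fr.φ (fr.emb c) = 0 := by rw [φ, co_emb]

theorem φ_neg (x : K) : fr.φ (-x) = - fr.φ x :=
  eq_neg_of_add_eq_zero_left (by rw [← φ_add, neg_add_cancel, φ_zero])

theorem φ_sub (x y : K) : fr.φ (x - y) = fr.φ x - fr.φ y := by
  rw [sub_eq_add_neg, φ_add, φ_neg, ← sub_eq_add_neg]

theorem φ_sum {α : Type*} (s : Finset α) (f : α → K) : fr.φ (∑ i ∈ s, f i) = ∑ i ∈ s, fr.φ (f i) :=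
  map_sum (AddMonoidHom.mk' fr.φ fr.φ_add) f s

theorem φ_mul (x y : K) : fr.φ (x * y) = (fr.co x).1 * fr.φ y + (fr.co x).2 * fr.φ (fr.ω * y) := by
  conv_lhs => rw [← fr.co_spec x]
  rw [← φ_smul, ← φ_smul, ← φ_add]
  congr 1
  ring

theorem σ_emb (c : F) : fr.σ (fr.emb c) = fr.emb c := (fr.fixed _).mpr ⟨c, rfl⟩

theorem ω_ne : fr.σ fr.ω ≠ fr.ω := fun h => by
  obtain ⟨y, hy⟩ := (fr.fixed _).mp h
  have := fr.bij.1 (a₁ := (y, 0)) (a₂ := (0, 1)) (by simp [hy])
  simp at this

theorem φ_herm (x y : K) : fr.φ (x * fr.σ y) = (fr.co x).2 * (fr.co y).1 - (fr.co x).1 * (fr.co y).2 := by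
  refine congrArg Prod.snd (fr.co_unique (u := (fr.co x).1 * (fr.co y).1 + a * (fr.co x).1 * (fr.co y).2 +
    b * (fr.co x).2 * (fr.co y).2) (v := (fr.co x).2 * (fr.co y).1 - (fr.co x).1 * (fr.co y).2) ?_)
  conv_rhs => rw [← fr.co_spec x, ← fr.co_spec y]
  simp only [map_add, map_mul, map_sub, σ_emb]
  linear_combination (-(fr.emb (fr.co x).1) * fr.emb (fr.co y).2) * fr.sum_eq -
    (fr.emb (fr.co x).2 * fr.emb (fr.co y).2) * fr.prod_eq

/-- The trace, in the small field. -/
noncomputable def tr (x : K) : F := (fr.co (x + fr.σ x)).1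

theorem tr_spec (x : K) : fr.emb (fr.tr x) = x + fr.σ x := by
  obtain ⟨c, hc⟩ := (fr.fixed (x + fr.σ x)).mp (by rw [map_add, fr.σσ, add_comm])
  rw [tr, ← hc, co_emb]

theorem tr_add (x y : K) : fr.tr (x + y) = fr.tr x + fr.tr y :=
  fr.emb.injective (by rw [map_add, tr_spec, tr_spec, tr_spec, map_add]; ring)

theorem tr_smul (c : F) (x : K) : fr.tr (fr.emb c * x) = c * fr.tr x :=
  fr.emb.injective (by rw [map_mul, tr_spec, tr_spec, map_mul, σ_emb]; ring)

theorem norm_spec (x : K) :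
    fr.emb ((fr.co x).1 ^ 2 + a * (fr.co x).1 * (fr.co x).2 + b * (fr.co x).2 ^ 2) = x * fr.σ x := by
  conv_rhs => rw [← fr.co_spec x]
  simp only [map_add, map_mul, map_pow, σ_emb]
  linear_combination (-(fr.emb (fr.co x).1) * fr.emb (fr.co x).2) * fr.sum_eq -
    (fr.emb (fr.co x).2 ^ 2) * fr.prod_eq

/-- The isotropic coordinates of a pair, first half. -/
noncomputable def pairX (δ x y : K) : Fin 2 → F := ![(fr.co (x - δ⁻¹ * y)).1, (fr.co (x - δ⁻¹ * y)).2]

/-- The isotropic coordinates of a pair, second half. -/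
noncomputable def pairY (δ x y : K) : Fin 2 → F :=
  ![(fr.co (x - δ⁻¹ * y)).1 + a * (fr.co (x - δ⁻¹ * y)).2 + fr.tr (δ⁻¹ * y),
    b * (fr.co (x - δ⁻¹ * y)).2 + fr.tr (δ⁻¹ * y * fr.σ fr.ω)]

theorem pair_spec {δ : K} (hδ : δ * fr.σ δ = -1) (x y : K) :
    fr.emb (∑ i : Fin 2, fr.pairX δ x y i * fr.pairY δ x y i) = x * fr.σ x + y * fr.σ y := by
  have hδ0 : δ ≠ 0 := fun h => by simp [h] at hδ
  obtain ⟨z, hz⟩ : ∃ z, z = δ⁻¹ * y := ⟨_, rfl⟩
  have hy : y = δ * z := by rw [hz, mul_inv_cancel_left₀ hδ0]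
  have hx : x = (x - z) + z := by ring
  have hn := fr.norm_spec (x - z)
  have hcs := congrArg fr.σ (fr.co_spec (x - z))
  simp only [map_add, map_mul, map_pow, σ_emb, map_sub] at hn hcs
  simp only [Fin.sum_univ_two, pairX, pairY, Matrix.cons_val_zero, Matrix.cons_val_one, ← hz]
  simp only [map_add, map_mul, tr_spec, fr.σσ]
  rw [hy, map_mul]
  linear_combination hn - (fr.σ z * z) * hδ + z * hcs + fr.σ z * fr.co_spec (x - z)

theorem pair_inj {δ : K} (hδ0 : δ ≠ 0) {x y : K} (hX : fr.pairX δ x y = 0) (hY : fr.pairY δ x y = 0) :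
    x = 0 ∧ y = 0 := by
  have hw : x - δ⁻¹ * y = 0 := fr.co_eq_zero (Prod.ext (congrFun hX 0) (congrFun hX 1))
  have h0 := congrFun hY 0
  have h1 := congrFun hY 1
  simp [pairY, hw, co_zero] at h0 h1
  set z := δ⁻¹ * y with hz
  have e0 := fr.tr_spec z
  have e1 := fr.tr_spec (z * fr.σ fr.ω)
  rw [h0, map_zero] at e0
  rw [h1, map_zero, map_mul, fr.σσ] at e1
  have hzero : z * (fr.σ fr.ω - fr.ω) = 0 := by linear_combination -e1 + fr.ω * e0
  have hz0 : z = 0 := (mul_eq_zero.mp hzero).resolve_right (sub_ne_zero.mpr fr.ω_ne)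
  refine ⟨by rw [hz0, sub_zero] at hw; exact hw, ?_⟩
  rw [hz] at hz0
  exact (mul_eq_zero.mp hz0).resolve_left (inv_ne_zero hδ0)

theorem pairX_add (δ x y x' y' : K) : fr.pairX δ (x + x') (y + y') = fr.pairX δ x y + fr.pairX δ x' y' := by
  have e : x + x' - δ⁻¹ * (y + y') = (x - δ⁻¹ * y) + (x' - δ⁻¹ * y') := by ring
  funext i
  fin_cases i <;> simp [pairX, e, co_add]

theorem pairX_smul (δ : K) (c : F) (x y : K) :
    fr.pairX δ (fr.emb c * x) (fr.emb c * y) = c • fr.pairX δ x y := by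
  have e : fr.emb c * x - δ⁻¹ * (fr.emb c * y) = fr.emb c * (x - δ⁻¹ * y) := by ring
  funext i
  fin_cases i <;> simp [pairX, e, co_smul]

theorem pairY_add (δ x y x' y' : K) : fr.pairY δ (x + x') (y + y') = fr.pairY δ x y + fr.pairY δ x' y' := by
  have e : x + x' - δ⁻¹ * (y + y') = (x - δ⁻¹ * y) + (x' - δ⁻¹ * y') := by ring
  funext i
  fin_cases i <;> simp only [pairY, e, co_add] <;> simp [mul_add, add_mul, tr_add] <;> ring

theorem pairY_smul (δ : K) (c : F) (x y : K) :
    fr.pairY δ (fr.emb c * x) (fr.emb c * y) = c • fr.pairY δ x y := by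
  have e : fr.emb c * x - δ⁻¹ * (fr.emb c * y) = fr.emb c * (x - δ⁻¹ * y) := by ring
  have e1 : δ⁻¹ * (fr.emb c * y) = fr.emb c * (δ⁻¹ * y) := by ring
  have e2 : δ⁻¹ * (fr.emb c * y) * fr.σ fr.ω = fr.emb c * (δ⁻¹ * y * fr.σ fr.ω) := by ring
  funext i
  fin_cases i <;> simp [pairY, e, co_smul, e2] <;> simp [e1, tr_smul] <;> ring

theorem herm_self {m : ℕ} (v : Fin m → K) :
    Cfsg.hermForm m K q v v = ∑ i, v i * fr.σ (v i) := by
  simp [Cfsg.hermForm, fr.σ_eq]

end Frame

theorem gu_symplectic {q : ℕ} (hK : Fintype.card K = q ^ 2) (hF : Fintype.card F = q) (m : ℕ) :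
    ∃ φ : ↥(Cfsg.GU m K q) →* ↥(Matrix.symplecticGroup (Fin m) F), Function.Injective φ := by
  classical
  obtain ⟨a, b, hab⟩ := exists_ab (F := F)
  obtain ⟨fr⟩ := exists_Frame hF hK a b hab
  letI := fr.emb.toAlgebra
  obtain ⟨L, hL⟩ := exists_equiv (ι := Fin m) (κ := Fin m ⊕ Fin m) (F := F) (K := K)
    (fun v => Sum.elim (fun i => (fr.co (v i)).1) (fun i => (fr.co (v i)).2))
    (fun u v => by funext s; rcases s with i | i <;> simp [Frame.co_add])
    (fun c u => by
      funext s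
      rcases s with i | i <;> simp [show algebraMap F K = fr.emb from rfl, Frame.co_smul])
    (fun u h => funext fun i => fr.co_eq_zero (Prod.ext (congrFun h (Sum.inl i)) (congrFun h (Sum.inr i))))
    (by rw [hK, hF, ← pow_mul, Fintype.card_sum, Fintype.card_fin, two_mul])
  have key : ∀ u v, spForm (L u) (L v) = fr.φ (Cfsg.hermForm m K q u v) := by
    intro u v
    simp only [spForm, hL, Sum.elim_inl, Sum.elim_inr, Cfsg.hermForm, fr.φ_sum, ← fr.σ_eq, fr.φ_herm]
  refine ⟨((Units.coeHom _).comp ((tGL L).comp (Cfsg.GU m K q).subtype)).codRestrict _ fun g => ?_, ?_⟩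
  · rw [symplectic_mem]
    intro u v
    obtain ⟨u, rfl⟩ := L.surjective u
    obtain ⟨v, rfl⟩ := L.surjective v
    show spForm (Units.val (tGL L g.1) *ᵥ L u) (Units.val (tGL L g.1) *ᵥ L v) = _
    rw [tGL_mulVec, tGL_mulVec, key, key, gu_mem.mp g.2]
  · intro g h e
    exact Subtype.ext (tGL_injective L (Units.ext (congrArg Subtype.val e)))

theorem symplectic_extension {q : ℕ} (hK : Fintype.card K = q ^ 2) (hF : Fintype.card F = q) (m : ℕ) :
    ∃ φ : ↥(Matrix.symplecticGroup (Fin m) K) →* ↥(Matrix.symplecticGroup (Fin (2 * m)) F),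
      Function.Injective φ := by
  classical
  obtain ⟨a, b, hab⟩ := exists_ab (F := F)
  obtain ⟨fr⟩ := exists_Frame hF hK a b hab
  letI := fr.emb.toAlgebra
  let e : Fin m × Fin 2 ≃ Fin (2 * m) := finProdFinEquiv.trans (finCongr (Nat.mul_comm m 2))
  obtain ⟨L, hL⟩ := exists_equiv (ι := Fin m ⊕ Fin m) (κ := Fin (2 * m) ⊕ Fin (2 * m)) (F := F) (K := K)
    (fun v => Sum.elim
      (fun s => ![(fr.co (v (Sum.inl (e.symm s).1))).1, (fr.co (v (Sum.inl (e.symm s).1))).2] (e.symm s).2)
      (fun s => ![fr.φ (v (Sum.inr (e.symm s).1)), fr.φ (fr.ω * v (Sum.inr (e.symm s).1))] (e.symm s).2))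
    (fun u v => by
      funext s
      rcases s with i | i <;> simp only [Sum.elim_inl, Sum.elim_inr, Pi.add_apply] <;>
        generalize (e.symm i).2 = j <;> fin_cases j <;> simp [Frame.co_add, mul_add, Frame.φ_add])
    (fun c u => by
      funext s
      rcases s with i | i <;> simp only [Sum.elim_inl, Sum.elim_inr, Pi.smul_apply] <;>
        generalize (e.symm i).2 = j <;> fin_cases j <;>
        simp [show algebraMap F K = fr.emb from rfl, Frame.co_smul, Frame.φ_smul, Frame.φ_smul'])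
    (fun u h => by
      funext s
      rcases s with i | i
      · have h0 := congrFun h (Sum.inl (e (i, 0)))
        have h1 := congrFun h (Sum.inl (e (i, 1)))
        simp at h0 h1
        exact fr.co_eq_zero (Prod.ext h0 h1)
      · have h0 := congrFun h (Sum.inr (e (i, 0)))
        have h1 := congrFun h (Sum.inr (e (i, 1)))
        simp at h0 h1
        obtain ⟨c, hc⟩ : ∃ c, fr.emb c = u (Sum.inr i) :=
          ⟨(fr.co (u (Sum.inr i))).1, by
            have := fr.co_spec (u (Sum.inr i))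
            rwa [show (fr.co (u (Sum.inr i))).2 = 0 from h0, map_zero, mul_zero, add_zero] at this⟩
        rw [← hc, mul_comm, Frame.φ_smul] at h1
        have hω : fr.φ fr.ω = 1 := congrArg Prod.snd (fr.co_unique (u := 0) (v := 1) (by simp))
        rw [hω, mul_one] at h1
        rw [← hc, h1, map_zero]
        rfl)
    (by rw [hK, hF, ← pow_mul]; congr 1; simp; ring)
  have key : ∀ u v, spForm (L u) (L v) = fr.φ (spForm u v) := by
    intro u v
    simp only [spForm, hL, Sum.elim_inl, Sum.elim_inr, fr.φ_sum, fr.φ_sub]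
    rw [← e.sum_comp, Fintype.sum_prod_type]
    refine Finset.sum_congr rfl fun i _ => ?_
    rw [mul_comm (u (Sum.inr i)) (v (Sum.inl i)), fr.φ_mul (v (Sum.inl i)), fr.φ_mul (u (Sum.inl i))]
    simp [Fin.sum_univ_two]
    ring
  let toGL : ↥(Matrix.symplecticGroup (Fin m) K) →* GL (Fin m ⊕ Fin m) K :=
    (Matrix.symplecticGroup (Fin m) K).subtype.toHomUnits
  refine ⟨((Units.coeHom _).comp ((tGL L).comp toGL)).codRestrict _ fun g => ?_, ?_⟩
  · rw [symplectic_mem]
    intro u v
    obtain ⟨u, rfl⟩ := L.surjective u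
    obtain ⟨v, rfl⟩ := L.surjective v
    show spForm (Units.val (tGL L (toGL g)) *ᵥ L u) (Units.val (tGL L (toGL g)) *ᵥ L v) = _
    rw [tGL_mulVec, tGL_mulVec, key, key]
    exact congrArg fr.φ (symplectic_mem.mp g.2 u v)
  · intro g h e
    exact Subtype.ext (congrArg Units.val (tGL_injective L (Units.ext (congrArg Subtype.val e))))

theorem gu_orth_plus {q : ℕ} (hK : Fintype.card K = q ^ 2) (hF : Fintype.card F = q) (k : ℕ) :
    ∃ φ : ↥(Cfsg.GU (k + k) K q) →* ↥(Cfsg.isometryGroup F (Cfsg.quadFormPlus (k + k) F)),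
      Function.Injective φ := by
  classical
  obtain ⟨a, b, hab⟩ := exists_ab (F := F)
  obtain ⟨fr⟩ := exists_Frame hF hK a b hab
  letI := fr.emb.toAlgebra
  obtain ⟨δ, hδ⟩ := exists_norm_eq fr.emb hF hK (-1)
  rw [← fr.σ_eq, map_neg, map_one] at hδ
  have hδ0 : δ ≠ 0 := fun h => by simp [h] at hδ
  let e : Fin k × Fin 2 ≃ Fin (k + k) := finProdFinEquiv.trans (finCongr (mul_two k))
  let x : (Fin (k + k) → K) → Fin k → K := fun v i => v (e (i, 0))
  let y : (Fin (k + k) → K) → Fin k → K := fun v i => v (e (i, 1))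
  obtain ⟨L, hL⟩ := exists_equiv (ι := Fin (k + k)) (κ := Fin (k + k) ⊕ Fin (k + k)) (F := F) (K := K)
    (fun v => Sum.elim (fun s => fr.pairX δ (x v (e.symm s).1) (y v (e.symm s).1) (e.symm s).2)
      (fun s => fr.pairY δ (x v (e.symm s).1) (y v (e.symm s).1) (e.symm s).2))
    (fun u v => by funext s; rcases s with i | i <;> simp [x, y, Frame.pairX_add, Frame.pairY_add])
    (fun c u => by
      funext s
      rcases s with i | i <;>
        simp [x, y, show algebraMap F K = fr.emb from rfl, Frame.pairX_smul, Frame.pairY_smul])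
    (fun u h => by
      have hp : ∀ i, x u i = 0 ∧ y u i = 0 := fun i => fr.pair_inj hδ0
        (funext fun j => by simpa using congrFun h (Sum.inl (e (i, j))))
        (funext fun j => by simpa using congrFun h (Sum.inr (e (i, j))))
      funext s
      obtain ⟨⟨i, j⟩, rfl⟩ := e.surjective s
      fin_cases j
      · exact (hp i).1
      · exact (hp i).2)
    (by rw [hK, hF, ← pow_mul, Fintype.card_sum, Fintype.card_fin, two_mul])
  have key : ∀ v, fr.emb (Cfsg.quadFormPlus (k + k) F (L v)) = Cfsg.hermForm (k + k) K q v v := by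
    intro v
    rw [fr.herm_self, Cfsg.quadFormPlus, ← e.sum_comp, ← e.sum_comp, Fintype.sum_prod_type,
      Fintype.sum_prod_type, map_sum]
    refine Finset.sum_congr rfl fun i _ => ?_
    simp only [hL, Sum.elim_inl, Sum.elim_inr, Equiv.symm_apply_apply]
    rw [fr.pair_spec hδ, Fin.sum_univ_two]
  refine ⟨((tGL L).comp (Cfsg.GU (k + k) K q).subtype).codRestrict _ fun g => ?_, ?_⟩
  · rw [isometry_mem]
    intro v
    obtain ⟨v, rfl⟩ := L.surjective v
    refine fr.emb.injective ?_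
    show fr.emb (Cfsg.quadFormPlus _ F (Units.val (tGL L g.1) *ᵥ L v)) = _
    rw [tGL_mulVec, key, key, gu_mem.mp g.2]
  · intro g h e
    exact Subtype.ext (tGL_injective L (congrArg Subtype.val e))

theorem gu_orth_minus {q : ℕ} (hK : Fintype.card K = q ^ 2) (hF : Fintype.card F = q) (k : ℕ) (a b : F)
    (hab : ∀ z₁ z₂ : F, z₁ ^ 2 + a * z₁ * z₂ + b * z₂ ^ 2 = 0 → z₁ = 0 ∧ z₂ = 0) :
    ∃ φ : ↥(Cfsg.GU (k + k + 1) K q) →* ↥(Cfsg.isometryGroup F (Cfsg.quadFormMinus (k + k) F a b)),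
      Function.Injective φ := by
  classical
  obtain ⟨fr⟩ := exists_Frame hF hK a b hab
  letI := fr.emb.toAlgebra
  obtain ⟨δ, hδ⟩ := exists_norm_eq fr.emb hF hK (-1)
  rw [← fr.σ_eq, map_neg, map_one] at hδ
  have hδ0 : δ ≠ 0 := fun h => by simp [h] at hδ
  let e : Fin k × Fin 2 ≃ Fin (k + k) := finProdFinEquiv.trans (finCongr (mul_two k))
  let x : (Fin (k + k + 1) → K) → Fin k → K := fun v i => v (e (i, 0)).castSucc
  let y : (Fin (k + k + 1) → K) → Fin k → K := fun v i => v (e (i, 1)).castSucc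
  let z : (Fin (k + k + 1) → K) → Fin 2 → F := fun v =>
    ![(fr.co (v (Fin.last _))).1, (fr.co (v (Fin.last _))).2]
  obtain ⟨L, hL⟩ := exists_equiv (ι := Fin (k + k + 1)) (κ := (Fin (k + k) ⊕ Fin (k + k)) ⊕ Fin 2)
    (F := F) (K := K)
    (fun v => Sum.elim (Sum.elim (fun s => fr.pairX δ (x v (e.symm s).1) (y v (e.symm s).1) (e.symm s).2)
      (fun s => fr.pairY δ (x v (e.symm s).1) (y v (e.symm s).1) (e.symm s).2)) (z v))
    (fun u v => by
      funext s
      rcases s with (i | i) | i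
      · simp [x, y, Frame.pairX_add]
      · simp [x, y, Frame.pairY_add]
      · fin_cases i <;> simp [z, Frame.co_add])
    (fun c u => by
      funext s
      rcases s with (i | i) | i
      · simp [x, y, show algebraMap F K = fr.emb from rfl, Frame.pairX_smul]
      · simp [x, y, show algebraMap F K = fr.emb from rfl, Frame.pairY_smul]
      · fin_cases i <;> simp [z, show algebraMap F K = fr.emb from rfl, Frame.co_smul])
    (fun u h => by
      have hp : ∀ i, x u i = 0 ∧ y u i = 0 := fun i => fr.pair_inj hδ0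
        (funext fun j => by simpa using congrFun h (Sum.inl (Sum.inl (e (i, j)))))
        (funext fun j => by simpa using congrFun h (Sum.inl (Sum.inr (e (i, j)))))
      have hz : u (Fin.last _) = 0 :=
        fr.co_eq_zero (Prod.ext (congrFun h (Sum.inr 0)) (congrFun h (Sum.inr 1)))
      funext s
      refine Fin.lastCases hz (fun s => ?_) s
      obtain ⟨⟨i, j⟩, rfl⟩ := e.surjective s
      fin_cases j
      · exact (hp i).1
      · exact (hp i).2)
    (by rw [hK, hF, ← pow_mul]; congr 1; simp; ring)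
  have key : ∀ v, fr.emb (Cfsg.quadFormMinus (k + k) F a b (L v)) = Cfsg.hermForm (k + k + 1) K q v v := by
    intro v
    rw [fr.herm_self, Cfsg.quadFormMinus, Fin.sum_univ_castSucc, ← e.sum_comp, ← e.sum_comp,
      Fintype.sum_prod_type, Fintype.sum_prod_type, map_add, map_sum]
    congr 1
    · refine Finset.sum_congr rfl fun i _ => ?_
      simp only [hL, Sum.elim_inl, Sum.elim_inr, Equiv.symm_apply_apply]
      rw [fr.pair_spec hδ, Fin.sum_univ_two]
    · rw [← fr.norm_spec]
      simp [hL, z]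
  refine ⟨((tGL L).comp (Cfsg.GU (k + k + 1) K q).subtype).codRestrict _ fun g => ?_, ?_⟩
  · rw [isometry_mem]
    intro v
    obtain ⟨v, rfl⟩ := L.surjective v
    refine fr.emb.injective ?_
    show fr.emb (Cfsg.quadFormMinus _ F a b (Units.val (tGL L g.1) *ᵥ L v)) = _
    rw [tGL_mulVec, key, key, gu_mem.mp g.2]
  · intro g h e
    exact Subtype.ext (tGL_injective L (congrArg Subtype.val e))

theorem orth_minus_extension {q : ℕ} (hF : Fintype.card F = q) (hK : Fintype.card K = q ^ 2) (k : ℕ) (a c : F)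
    (hac : ∀ z₁ z₂ : F, z₁ ^ 2 + a * z₁ * z₂ + c * z₂ ^ 2 = 0 → z₁ = 0 ∧ z₂ = 0) :
    ∃ φ : ↥(Cfsg.isometryGroup F (Cfsg.quadFormMinus k F a c)) →*
      ↥(Cfsg.isometryGroup K (Cfsg.quadFormPlus (k + 1) K)), Function.Injective φ := by
  classical
  obtain ⟨fr⟩ := exists_Frame hF hK a c hac
  let I := (Fin k ⊕ Fin k) ⊕ Fin 2
  let fK : (I → K) → (Fin (k + 1) ⊕ Fin (k + 1) → K) := fun v =>
    Sum.elim (Fin.snoc (fun i => v (Sum.inl (Sum.inl i))) (v (Sum.inr 0) + fr.ω * v (Sum.inr 1)))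
      (Fin.snoc (fun i => v (Sum.inl (Sum.inr i))) (v (Sum.inr 0) + fr.σ fr.ω * v (Sum.inr 1)))
  obtain ⟨L, hL⟩ := exists_equiv (F := K) (K := K) fK
    (fun u v => by
      funext s
      rcases s with i | i <;> refine Fin.lastCases ?_ (fun i => ?_) i <;> simp [fK] <;> ring)
    (fun r u => by
      funext s
      rcases s with i | i <;> refine Fin.lastCases ?_ (fun i => ?_) i <;> simp [fK] <;> ring)
    (fun u h => by
      have h0 := congrFun h (Sum.inl (Fin.last k))
      have h1 := congrFun h (Sum.inr (Fin.last k))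
      simp [fK] at h0 h1
      have hz1 : u (Sum.inr 1) = 0 := by
        have : (fr.σ fr.ω - fr.ω) * u (Sum.inr 1) = 0 := by linear_combination h1 - h0
        exact (mul_eq_zero.mp this).resolve_left (sub_ne_zero.mpr fr.ω_ne)
      funext s
      rcases s with (i | i) | i
      · simpa [fK] using congrFun h (Sum.inl i.castSucc)
      · simpa [fK] using congrFun h (Sum.inr i.castSucc)
      · fin_cases i
        · rw [hz1, mul_zero, add_zero] at h0
          exact h0
        · exact hz1)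
    (by congr 1; simp [I]; ring)
  let Q := Cfsg.quadFormMinus k F a c
  let QK := Cfsg.quadFormMinus k K (fr.emb a) (fr.emb c)
  have hQ : ∀ v, Cfsg.quadFormPlus (k + 1) K (L v) = QK v := by
    intro v
    simp [QK, hL, fK, Cfsg.quadFormPlus, Cfsg.quadFormMinus, Fin.sum_univ_castSucc]
    linear_combination (v (Sum.inr 0) * v (Sum.inr 1)) * fr.sum_eq + (v (Sum.inr 1)) ^ 2 * fr.prod_eq
  have hext : ∀ u w : I → F, QK (fun i => fr.emb (u i) + fr.ω * fr.emb (w i)) =
      fr.emb (Q u) + fr.ω * (fr.emb (Q (u + w)) - fr.emb (Q u) - fr.emb (Q w)) +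
        fr.ω ^ 2 * fr.emb (Q w) := by
    intro u w
    simp only [QK, Q, Cfsg.quadFormMinus, map_add, map_mul, map_pow, map_sum, Pi.add_apply]
    set A := fun i : Fin k => fr.emb (u (Sum.inl (Sum.inl i)))
    set B := fun i : Fin k => fr.emb (w (Sum.inl (Sum.inl i)))
    set C := fun i : Fin k => fr.emb (u (Sum.inl (Sum.inr i)))
    set D := fun i : Fin k => fr.emb (w (Sum.inl (Sum.inr i)))
    have h1 : ∑ i, (A i + fr.ω * B i) * (C i + fr.ω * D i) = ∑ i, A i * C i +
        fr.ω * (∑ i, (A i * D i + B i * C i)) + fr.ω ^ 2 * ∑ i, B i * D i := by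
      rw [Finset.mul_sum, Finset.mul_sum, ← Finset.sum_add_distrib, ← Finset.sum_add_distrib]
      exact Finset.sum_congr rfl fun i _ => by ring
    have h2 : ∑ i, (A i + B i) * (C i + D i) = ∑ i, A i * C i + (∑ i, (A i * D i + B i * C i)) +
        ∑ i, B i * D i := by
      rw [← Finset.sum_add_distrib, ← Finset.sum_add_distrib]
      exact Finset.sum_congr rfl fun i _ => by ring
    linear_combination h1 - fr.ω * h2
  let ext : GL I F →* GL I K := Matrix.GeneralLinearGroup.map fr.emb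
  have hgext : ∀ g ∈ Cfsg.isometryGroup F Q, ∀ v, QK ((ext g : Matrix I I K) *ᵥ v) = QK v := by
    intro g hg v
    obtain ⟨u, w, rfl⟩ : ∃ u w : I → F, v = fun i => fr.emb (u i) + fr.ω * fr.emb (w i) :=
      ⟨fun i => (fr.co (v i)).1, fun i => (fr.co (v i)).2, funext fun i => (fr.co_spec (v i)).symm⟩
    have hm : (ext g : Matrix I I K) *ᵥ (fun i => fr.emb (u i) + fr.ω * fr.emb (w i)) =
        fun i => fr.emb (((g : Matrix I I F) *ᵥ u) i) + fr.ω * fr.emb (((g : Matrix I I F) *ᵥ w) i) := by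
      funext i
      show ((g : Matrix I I F).map fr.emb *ᵥ _) i = _
      simp only [Matrix.mulVec, dotProduct, Matrix.map_apply, map_sum, map_mul, Finset.mul_sum,
        ← Finset.sum_add_distrib]
      exact Finset.sum_congr rfl fun j _ => by ring
    have hg' := isometry_mem.mp hg
    rw [hm, hext, hext, ← Matrix.mulVec_add, hg', hg', hg']
  refine ⟨((tGL L).comp (ext.comp (Cfsg.isometryGroup F Q).subtype)).codRestrict _ fun g => ?_, ?_⟩
  · rw [isometry_mem]
    intro v
    obtain ⟨v, rfl⟩ := L.surjective v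
    show Cfsg.quadFormPlus _ K (Units.val (tGL L (ext g.1)) *ᵥ L v) = _
    rw [tGL_mulVec, hQ, hQ, hgext g.1 g.2]
  · intro g h e
    have h1 : ext g.1 = ext h.1 := tGL_injective L (congrArg Subtype.val e)
    exact Subtype.ext (Units.ext (Matrix.map_injective fr.emb.injective (congrArg Units.val h1)))

end CfsgLib.Classical.RestrictScalars
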