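import Cfsg.Agent.Lib.Classical.WittBasis
import Cfsg.Agent.Lib.Classical.RestrictScalars

/-!
The standard quadratic spaces, their orthogonal sums, and the classification of nondegenerate quadratic spaces.
-/

set_option autoImplicit false
set_option linter.style.haveILetI false
set_option maxHeartbeats 800000

namespace CfsgLib.Classical.OrthModels

open Module QuadraticMap

universe u v w

variable {F : Type u} [Field F]

/-- Two functions on spaces agree through a linear equivalence. -/
def Iso {V : Type v} {W : Type w} [AddCommGroup V] [Module F V] [AddCommGroup W] [Module F W]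
    (Q : V → F) (Q' : W → F) : Prop :=
  ∃ e : V ≃ₗ[F] W, ∀ x, Q' (e x) = Q x

/-- The binary form. -/
def bin (a b : F) (z : Fin 2 → F) : F := z 0 ^ 2 + a * z 0 * z 1 + b * z 1 ^ 2

/-- The orthogonal sum of two functions. -/
def add {V : Type v} {W : Type w} (Q : V → F) (Q' : W → F) (x : V × W) : F := Q x.1 + Q' x.2

namespace Iso

universe v' w'

variable {V : Type v} {W : Type w} {V' : Type v'} {W' : Type w'}
  [AddCommGroup V] [Module F V] [AddCommGroup W] [Module F W]
  [AddCommGroup V'] [Module F V'] [AddCommGroup W'] [Module F W']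

theorem refl (Q : V → F) : Iso Q Q := ⟨LinearEquiv.refl F V, fun _ => rfl⟩

theorem symm {Q : V → F} {Q' : W → F} (h : Iso Q Q') : Iso Q' Q := by
  obtain ⟨e, he⟩ := h
  exact ⟨e.symm, fun x => by rw [← he, e.apply_symm_apply]⟩

theorem trans {Q : V → F} {Q' : W → F} {Q'' : V' → F} (h : Iso Q Q') (h' : Iso Q' Q'') : Iso Q Q'' := by
  obtain ⟨e, he⟩ := h
  obtain ⟨e', he'⟩ := h'
  exact ⟨e.trans e', fun x => by rw [LinearEquiv.trans_apply, he', he]⟩

theorem sum {Q : V → F} {Q' : W → F} {R : V' → F} {R' : W' → F} (h : Iso Q Q') (h' : Iso R R') :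
    Iso (add Q R) (add Q' R') := by
  obtain ⟨e, he⟩ := h
  obtain ⟨e', he'⟩ := h'
  exact ⟨e.prodCongr e', fun x => by simp [add, he, he']⟩

theorem sum_comm (Q : V → F) (Q' : W → F) : Iso (add Q Q') (add Q' Q) :=
  ⟨LinearEquiv.prodComm F V W, fun x => by simp [add, add_comm]⟩

theorem sum_assoc (Q : V → F) (Q' : W → F) (Q'' : V' → F) :
    Iso (add (add Q Q') Q'') (add Q (add Q' Q'')) :=
  ⟨LinearEquiv.prodAssoc F V W V', fun x => by simp [add, add_assoc]⟩

end Iso

theorem arrow_symm {α β : Type*} (x : (α → F) × (β → F)) :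
    (LinearEquiv.sumArrowLequivProdArrow α β F F).symm x = Sum.elim x.1 x.2 := by
  funext s
  rcases s with s | s <;> rfl

theorem plus_plus (k l : ℕ) :
    Iso (add (Cfsg.quadFormPlus k F) (Cfsg.quadFormPlus l F)) (Cfsg.quadFormPlus (k + l) F) := by
  let σ : Fin (k + l) ⊕ Fin (k + l) ≃ (Fin k ⊕ Fin k) ⊕ (Fin l ⊕ Fin l) :=
    (Equiv.sumCongr finSumFinEquiv.symm finSumFinEquiv.symm).trans (Equiv.sumSumSumComm _ _ _ _)
  refine ⟨(LinearEquiv.sumArrowLequivProdArrow _ _ F F).symm.trans (LinearEquiv.funCongrLeft F F σ), fun x => ?_⟩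
  simp only [Cfsg.quadFormPlus, add, Fin.sum_univ_add]
  congr 1 <;> refine Finset.sum_congr rfl fun i _ => ?_ <;> simp [σ, LinearEquiv.funCongrLeft_apply, arrow_symm]

theorem minus_def (k : ℕ) (a b : F) :
    Iso (add (Cfsg.quadFormPlus k F) (bin a b)) (Cfsg.quadFormMinus k F a b) :=
  ⟨(LinearEquiv.sumArrowLequivProdArrow _ _ F F).symm, fun x => by
    simp [add, bin, Cfsg.quadFormPlus, Cfsg.quadFormMinus, arrow_symm]⟩

theorem odd_def (m : ℕ) : Iso (add (Cfsg.quadFormPlus m F) (fun z : Unit → F => z () ^ 2)) (Cfsg.quadFormOdd m F) :=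
  ⟨(LinearEquiv.prodComm F _ _).trans (LinearEquiv.sumArrowLequivProdArrow _ _ F F).symm, fun x => by
    simp [add, Cfsg.quadFormPlus, Cfsg.quadFormOdd, add_comm, arrow_symm]⟩

theorem plus_minus (k l : ℕ) (a b : F) :
    Iso (add (Cfsg.quadFormPlus k F) (Cfsg.quadFormMinus l F a b)) (Cfsg.quadFormMinus (k + l) F a b) :=
  (((Iso.refl _).sum (minus_def l a b).symm).trans (Iso.sum_assoc _ _ _).symm).trans
    (((plus_plus k l).sum (Iso.refl _)).trans (minus_def (k + l) a b))

theorem iso_of_injective {V : Type v} {W : Type w} [AddCommGroup V] [Module F V] [AddCommGroup W] [Module F W]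
    [FiniteDimensional F V] [FiniteDimensional F W] {Q : V → F} {Q' : W → F} (l : V →ₗ[F] W)
    (hl : ∀ x, l x = 0 → x = 0) (hd : finrank F V = finrank F W) (h : ∀ x, Q' (l x) = Q x) : Iso Q Q' :=
  ⟨LinearMap.linearEquivOfInjective l ((injective_iff_map_eq_zero l).mpr hl) hd, h⟩

variable [Fintype F]

theorem exists_field : ∃ (K : Type u) (_ : Field K) (_ : Fintype K), Fintype.card K = Fintype.card F ^ 2 := by
  classical
  obtain ⟨a, b, hab⟩ := RestrictScalars.exists_ab (F := F)
  let f : Polynomial F := Polynomial.X ^ 2 + Polynomial.C a * Polynomial.X + Polynomial.C b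
  have hdeg : f.natDegree = 2 := by simp only [f]; compute_degree!
  have hirr : Irreducible f := by
    refine Polynomial.irreducible_of_degree_le_three_of_not_isRoot (by rw [hdeg]; decide) fun t ht => ?_
    simp only [f, Polynomial.IsRoot.def, Polynomial.eval_add, Polynomial.eval_pow, Polynomial.eval_X,
      Polynomial.eval_mul, Polynomial.eval_C] at ht
    exact one_ne_zero (hab t 1 (by linear_combination ht)).2
  haveI := Fact.mk hirr
  haveI : Module.Finite F (AdjoinRoot f) := (AdjoinRoot.powerBasis hirr.ne_zero).finite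
  haveI : Finite (AdjoinRoot f) := Module.finite_of_finite F
  haveI := Fintype.ofFinite (AdjoinRoot f)
  refine ⟨AdjoinRoot f, inferInstance, inferInstance, ?_⟩
  rw [Module.card_eq_pow_finrank (K := F), (AdjoinRoot.powerBasis hirr.ne_zero).finrank,
    AdjoinRoot.powerBasis_dim, hdeg]

open CfsgLib.Classical.RestrictScalars in
/-- All anisotropic binary forms of the shape `z₁² + a z₁ z₂ + b z₂²` are equivalent. -/
theorem bin_bin (a b a' b' : F)
    (hab : ∀ z₁ z₂ : F, z₁ ^ 2 + a * z₁ * z₂ + b * z₂ ^ 2 = 0 → z₁ = 0 ∧ z₂ = 0)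
    (hab' : ∀ z₁ z₂ : F, z₁ ^ 2 + a' * z₁ * z₂ + b' * z₂ ^ 2 = 0 → z₁ = 0 ∧ z₂ = 0) :
    Iso (bin a b) (bin a' b') := by
  obtain ⟨K, _, _, hK⟩ := exists_field (F := F)
  obtain ⟨fr⟩ := exists_Frame (F := F) (K := K) rfl hK a' b' hab'
  letI := fr.emb.toAlgebra
  have hfr : finrank F K = 2 := by
    have h := Module.card_eq_pow_finrank (K := F) (V := K)
    rw [hK] at h
    exact (Nat.pow_right_injective Fintype.one_lt_card h).symm
  let f : Polynomial F := Polynomial.X ^ 2 + Polynomial.C (-a) * Polynomial.X + Polynomial.C b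
  have hdeg : f.natDegree = 2 := by simp only [f]; compute_degree!
  have hirr : Irreducible f := by
    refine Polynomial.irreducible_of_degree_le_three_of_not_isRoot (by rw [hdeg]; decide) fun t ht => ?_
    simp only [f, Polynomial.IsRoot.def, Polynomial.eval_add, Polynomial.eval_pow, Polynomial.eval_X,
      Polynomial.eval_mul, Polynomial.eval_C] at ht
    exact one_ne_zero (hab (-t) 1 (by linear_combination ht)).2
  haveI := Fact.mk hirr
  haveI : Module.Finite F (AdjoinRoot f) := (AdjoinRoot.powerBasis hirr.ne_zero).finite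
  haveI : Finite (AdjoinRoot f) := Module.finite_of_finite F
  obtain ⟨ψ⟩ : Nonempty (AdjoinRoot f →ₐ[F] K) := FiniteField.nonempty_algHom_of_finrank_dvd (by
    rw [(AdjoinRoot.powerBasis hirr.ne_zero).finrank, AdjoinRoot.powerBasis_dim, hdeg, hfr])
  set w := ψ (AdjoinRoot.root f)
  have hw : w ^ 2 - fr.emb a * w + fr.emb b = 0 := by
    have h : Polynomial.aeval w f = 0 := by
      rw [Polynomial.aeval_algHom_apply, AdjoinRoot.aeval_eq, AdjoinRoot.mk_self, map_zero]
    simp only [f, map_add, map_pow, map_mul, Polynomial.aeval_X, Polynomial.aeval_C, map_neg] at h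
    change w ^ 2 + -fr.emb a * w + fr.emb b = 0 at h
    linear_combination h
  have hnot : ∀ y, fr.emb y ≠ w := fun y hy => by
    refine one_ne_zero (hab (-y) 1 (fr.emb.injective ?_)).2
    rw [← hy] at hw
    simp only [map_add, map_mul, map_pow, map_neg, map_one, map_zero]
    linear_combination hw
  have hw' : fr.σ w ^ 2 - fr.emb a * fr.σ w + fr.emb b = 0 := by
    have := congrArg fr.σ hw
    simpa [fr.σ_emb] using this
  have hne : fr.σ w ≠ w := fun h => by
    obtain ⟨y, hy⟩ := (fr.fixed w).mp h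
    exact hnot y hy
  have hs : w + fr.σ w = fr.emb a := by
    refine sub_eq_zero.1 ((mul_eq_zero.1 (?_ : (fr.σ w - w) * (w + fr.σ w - fr.emb a) = 0)).resolve_left
      (sub_ne_zero.2 hne))
    linear_combination hw' - hw
  have hp : w * fr.σ w = fr.emb b := by linear_combination -hw + w * hs
  let x : (Fin 2 → F) → K := fun z => fr.emb (z 0) + w * fr.emb (z 1)
  let l : (Fin 2 → F) →ₗ[F] (Fin 2 → F) :=
    { toFun := fun z => ![(fr.co (x z)).1, (fr.co (x z)).2]
      map_add' := fun y z => by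
        have e : x (y + z) = x y + x z := by simp only [x, Pi.add_apply, map_add]; ring
        funext i; fin_cases i <;> simp [e, Frame.co_add]
      map_smul' := fun c z => by
        have e : x (c • z) = fr.emb c * x z := by simp only [x, Pi.smul_apply, smul_eq_mul, map_mul]; ring
        funext i; fin_cases i <;> simp [e, Frame.co_smul] }
  refine iso_of_injective l (fun z hz => ?_) rfl fun z => fr.emb.injective ?_
  · have h0 : x z = 0 := fr.co_eq_zero (Prod.ext (congrFun hz 0) (congrFun hz 1))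
    have h1 : z 1 = 0 := by
      by_contra h1
      refine hnot (-(z 0 / z 1)) ?_
      have hne : fr.emb (z 1) ≠ 0 := (map_ne_zero fr.emb).mpr h1
      rw [map_neg, map_div₀, eq_comm, ← sub_eq_zero]
      field_simp
      linear_combination h0
    funext i
    fin_cases i
    · simpa [x, h1] using h0
    · exact h1
  · show fr.emb ((fr.co (x z)).1 ^ 2 + a' * (fr.co (x z)).1 * (fr.co (x z)).2 + b' * (fr.co (x z)).2 ^ 2) = _
    rw [fr.norm_spec]
    simp only [x, bin, map_add, map_mul, map_pow, fr.σ_emb]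
    linear_combination fr.emb (z 0) * fr.emb (z 1) * hs + fr.emb (z 1) ^ 2 * hp

open CfsgLib.Classical.RestrictScalars in
theorem bin_add_bin (a b : F)
    (hab : ∀ z₁ z₂ : F, z₁ ^ 2 + a * z₁ * z₂ + b * z₂ ^ 2 = 0 → z₁ = 0 ∧ z₂ = 0) :
    Iso (add (bin a b) (bin a b)) (Cfsg.quadFormPlus 2 F) := by
  obtain ⟨K, _, _, hK⟩ := exists_field (F := F)
  obtain ⟨fr⟩ := exists_Frame (F := F) (K := K) rfl hK a b hab
  obtain ⟨δ, hδ⟩ := exists_norm_eq fr.emb rfl hK (-1)
  rw [← fr.σ_eq, map_neg, map_one] at hδ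
  have hδ0 : δ ≠ 0 := fun h => by simp [h] at hδ
  let x : (Fin 2 → F) → K := fun z => fr.emb (z 0) + fr.ω * fr.emb (z 1)
  have xadd : ∀ y z, x (y + z) = x y + x z := fun y z => by simp only [x, Pi.add_apply, map_add]; ring
  have xsmul : ∀ (c : F) z, x (c • z) = fr.emb c * x z := fun c z => by
    simp only [x, Pi.smul_apply, smul_eq_mul, map_mul]; ring
  have hx : ∀ z, fr.co (x z) = (z 0, z 1) := fun z => fr.co_unique rfl
  let l : (Fin 2 → F) × (Fin 2 → F) →ₗ[F] (Fin 2 ⊕ Fin 2 → F) :=
    { toFun := fun v => Sum.elim (fr.pairX δ (x v.1) (x v.2)) (fr.pairY δ (x v.1) (x v.2))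
      map_add' := fun u v => by
        funext s; rcases s with i | i <;> simp [xadd, Frame.pairX_add, Frame.pairY_add]
      map_smul' := fun c v => by
        funext s; rcases s with i | i <;> simp [xsmul, Frame.pairX_smul, Frame.pairY_smul] }
  refine iso_of_injective l (fun v hv => ?_) (by simp) fun v => fr.emb.injective ?_
  · obtain ⟨h1, h2⟩ := fr.pair_inj hδ0 (funext fun i => congrFun hv (.inl i)) (funext fun i => congrFun hv (.inr i))
    have key : ∀ z, x z = 0 → z = 0 := fun z hz => by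
      have e := hx z
      rw [hz, Frame.co_zero] at e
      have e0 : (0 : F) = z 0 := congrArg Prod.fst e
      have e1 : (0 : F) = z 1 := congrArg Prod.snd e
      funext i
      fin_cases i
      · exact e0.symm
      · exact e1.symm
    exact Prod.ext (key _ h1) (key _ h2)
  · show fr.emb (∑ i, fr.pairX δ (x v.1) (x v.2) i * fr.pairY δ (x v.1) (x v.2) i) = _
    rw [fr.pair_spec hδ, ← fr.norm_spec, ← fr.norm_spec, hx, hx, ← map_add]
    rfl

theorem minus_minus (k l : ℕ) (a b : F)
    (hab : ∀ z₁ z₂ : F, z₁ ^ 2 + a * z₁ * z₂ + b * z₂ ^ 2 = 0 → z₁ = 0 ∧ z₂ = 0) :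
    Iso (add (Cfsg.quadFormMinus k F a b) (Cfsg.quadFormMinus l F a b)) (Cfsg.quadFormPlus (k + l + 2) F) := by
  have h : Iso (add (add (Cfsg.quadFormPlus k F) (bin a b)) (add (Cfsg.quadFormPlus l F) (bin a b)))
      (add (add (Cfsg.quadFormPlus k F) (Cfsg.quadFormPlus l F)) (add (bin a b) (bin a b))) :=
    ⟨LinearEquiv.prodProdProdComm F _ _ _ _, fun x => by simp [add]; ring⟩
  exact (((minus_def k a b).symm.sum (minus_def l a b).symm).trans h).trans
    (((plus_plus k l).sum (bin_add_bin a b hab)).trans (plus_plus (k + l) 2))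

variable {V : Type v} [AddCommGroup V] [Module F V] [FiniteDimensional F V]

/-- Nondegenerate spaces of even dimension. -/
theorem classify_even (Q : QuadraticForm F V) (hQ : (polarBilin Q).Nondegenerate) {k : ℕ}
    (hd : finrank F V = 2 * k) (a b : F)
    (hab : ∀ z₁ z₂ : F, z₁ ^ 2 + a * z₁ * z₂ + b * z₂ ^ 2 = 0 → z₁ = 0 ∧ z₂ = 0) :
    Iso (⇑Q) (Cfsg.quadFormPlus k F) ∨ ∃ j, k = j + 1 ∧ Iso (⇑Q) (Cfsg.quadFormMinus j F a b) := by
  rcases k with _ | k
  · haveI : Subsingleton V := Module.finrank_zero_iff.mp (by omega)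
    exact Or.inl ⟨LinearEquiv.ofSubsingleton V _, fun x => by
      rw [Subsingleton.elim x 0, QuadraticMap.map_zero]; simp [Cfsg.quadFormPlus]⟩
  rcases WittBasis.even_basis Q hQ hd with ⟨e, f, h, B', hB⟩ | ⟨e, f, x, y, h, hx, hy, hqx, hxy, hns, B', hB⟩
  · refine Or.inl ⟨B'.equivFun, fun v => ?_⟩
    conv_rhs => rw [← B'.sum_equivFun v, Fintype.sum_sum_type]
    simp only [hB, Sum.elim_inl, Sum.elim_inr]
    have e' := WittBasis.q_hyp Q h (fun i => B'.equivFun v (.inl i)) (fun i => B'.equivFun v (.inr i)) (zero_mem _)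
    rw [add_zero, QuadraticMap.map_zero, add_zero] at e'
    exact e'.symm
  · refine Or.inr ⟨k, rfl, Iso.trans (Q' := Cfsg.quadFormMinus k F 1 (Q y)) ⟨B'.equivFun, fun v => ?_⟩ ?_⟩
    · conv_rhs => rw [← B'.sum_equivFun v, Fintype.sum_sum_type, Fintype.sum_sum_type]
      simp only [hB, Sum.elim_inl, Sum.elim_inr, Fin.sum_univ_two, Matrix.cons_val_zero, Matrix.cons_val_one]
      rw [WittBasis.q_hyp Q h _ _ (add_mem (Submodule.smul_mem _ _ hx) (Submodule.smul_mem _ _ hy)),
        QuadraticMap.map_add (⇑Q), QuadraticMap.map_smul, QuadraticMap.map_smul, polar_smul_left,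
        polar_smul_right, hqx, hxy]
      simp only [Cfsg.quadFormMinus, smul_eq_mul]
      ring
    · refine (minus_def k 1 (Q y)).symm.trans (((Iso.refl _).sum (bin_bin _ _ a b ?_ hab)).trans (minus_def k a b))
      intro z₁ z₂ hz
      by_cases h2 : z₂ = 0
      · subst h2
        exact ⟨by simpa using hz, rfl⟩
      · exfalso
        refine hns (z₁ / z₂) ?_
        field_simp
        linear_combination hz

/-- Nondegenerate spaces of odd dimension are similar to the standard one. -/
theorem classify_odd (Q : QuadraticForm F V) (hQ : (polarBilin Q).Nondegenerate) {m : ℕ}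
    (hd : finrank F V = 2 * m + 1) :
    ∃ l : F, l ≠ 0 ∧ Iso (⇑Q) (fun v => l * Cfsg.quadFormOdd m F v) := by
  obtain ⟨e, f, x, h, hx, hqx, B', hB⟩ := WittBasis.odd_basis Q hQ hd
  let σ : Unit ⊕ (Fin m ⊕ Fin m) ≃ (Fin m ⊕ Fin m) ⊕ Unit := Equiv.sumComm _ _
  let d : (Fin m ⊕ Fin m) ⊕ Unit → F := Sum.elim (Sum.elim (fun _ => (Q x)⁻¹) (fun _ => 1)) (fun _ => 1)
  let B'' := B'.unitsSMul fun s => Units.mk0 (d s)⁻¹ (by
    rcases s with (s | s) | s <;> simp [d, hqx])
  refine ⟨Q x, hqx, B''.equivFun.trans (LinearEquiv.funCongrLeft F F σ), fun v => ?_⟩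
  conv_rhs => rw [← B''.sum_equivFun v, Fintype.sum_sum_type, Fintype.sum_sum_type]
  simp only [B'', Module.Basis.unitsSMul_apply, hB, Sum.elim_inl, Sum.elim_inr, Units.smul_def, Units.val_mk0, d,
    smul_smul, Finset.univ_unique, Finset.sum_singleton, inv_one, mul_one]
  rw [WittBasis.q_hyp Q h _ _ (Submodule.smul_mem _ _ hx), QuadraticMap.map_smul]
  simp only [Cfsg.quadFormOdd, LinearEquiv.trans_apply, LinearEquiv.funCongrLeft_apply, LinearMap.funLeft_apply, σ,
    smul_eq_mul, inv_inv, mul_add, Finset.mul_sum]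
  rw [add_comm]
  refine congrArg₂ (· + ·) (Finset.sum_congr rfl fun i _ => ?_) ?_ <;> simp <;> ring

end CfsgLib.Classical.OrthModels
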