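import Cfsg.Agent.Lib.Classical.TensorMonomial
import Cfsg.Agent.Lib.Classical.OrthDecompNotMax
import Cfsg.Agent.Lib.Classical.OrthStab
import Cfsg.Agent.Lib.Classical.SympTrans

set_option autoImplicit false
set_option linter.unusedSectionVars false

/-!
Over the field of three elements `O_3 ⊗ O_m` and `Sp_m ⊗ O_3` are not maximal.
-/

namespace CfsgLib.Classical.TensorMonoOrth

open Matrix Cfsg

variable {F : Type*} [Field F] [Finite F]

theorem two_ne (hq : Nat.card F = 3) : (2 : F) ≠ 0 := fun e =>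
  one_ne_zero (α := F) (by linear_combination CfsgLib.Orth.DecompNotMax.three_zero hq - e)

/-- The orthogonal frame of a three-dimensional form, and the monomiality of its similitudes. -/
theorem exists_frame (hq : Nat.card F = 3) {f : (Fin 3 → F) → (Fin 3 → F) → F}
    (hf : Cfsg.Geo.IsSymmetricForm f) :
    ∃ a : Fin 3 → Fin 3 → F, (∀ i j, i ≠ j → f (a i) (a j) = 0) ∧ (∀ i, f (a i) (a i) ≠ 0) ∧
      (∀ i j, f (a i) (a i) = f (a j) (a j)) ∧
      ∀ (v : Fin 3 → Fin 3 → F) (ν : F), ν ≠ 0 → (∀ i j, f (v i) (v j) = ν * f (a i) (a j)) →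
        ∀ i, ∃ (j : Fin 3) (l : F), v i = l • a j := by
  classical
  have h2 := two_ne hq
  let Bl : LinearMap.BilinForm F (Fin 3 → F) :=
    LinearMap.mk₂ F f hf.bilinear.add_left (fun c x y => hf.bilinear.smul_left c x y)
      hf.bilinear.add_right (fun c x y => hf.bilinear.smul_right c x y)
  let Q : QuadraticForm F (Fin 3 → F) := LinearMap.BilinMap.toQuadraticMap Bl
  have hQv : ∀ v, Q v = f v v := fun v => rfl
  have hpol : ∀ v w, QuadraticMap.polar ⇑Q v w = 2 * f v w := fun v w => by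
    rw [QuadraticMap.polar, hQv, hQv, hQv, hf.bilinear.add_left, hf.bilinear.add_right,
      hf.bilinear.add_right, hf.symm w v]
    ring
  have hW : CfsgLib.Orth.NondegOn Q (⊤ : Submodule F (Fin 3 → F)) := fun x _ h => by
    by_contra h0
    obtain ⟨-, y, hy⟩ := hf.nondegenerate x h0
    have := h y Submodule.mem_top
    rw [hpol] at this
    exact hy ((mul_eq_zero.1 this).resolve_left h2)
  obtain ⟨δ, a, hδ, ha⟩ := CfsgLib.Orth.DecompNotMax.exists_triple hq hW
    (by rw [finrank_top, Module.finrank_fin_fun])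
  have haa : ∀ i, f (a i) (a i) = δ := fun i => (hQv _).symm.trans (ha.1 i).2
  have horth : ∀ i j, i ≠ j → f (a i) (a j) = 0 := fun i j h => by
    have := ha.2 i j h
    rw [hpol] at this
    exact (mul_eq_zero.1 this).resolve_left h2
  refine ⟨a, horth, fun i => (haa i).symm ▸ hδ, fun i j => by rw [haa, haa], fun v ν hν hv i => ?_⟩
  have hli : LinearIndependent F a := by
    rw [Fintype.linearIndependent_iff]
    intro c hc l
    have h := congrArg (fun z => Bl z (a l)) hc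
    simp only [map_sum, map_zero, map_smul, LinearMap.coe_sum, Finset.sum_apply, LinearMap.smul_apply,
      LinearMap.zero_apply, smul_eq_mul] at h
    rw [Finset.sum_eq_single l (fun m _ hm => by
      show c m * f (a m) (a l) = 0
      rw [horth m l hm, mul_zero]) (by simp)] at h
    exact (mul_eq_zero.1 h).resolve_right (show f (a l) (a l) ≠ 0 by rw [haa]; exact hδ)
  have hexp : ∀ w, ∃ c : Fin 3 → F, ∑ l, c l • a l = w := fun w =>
    (Submodule.mem_span_range_iff_exists_fun F).1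
      ((hli.span_eq_top_of_card_eq_finrank (by simp)) ▸ Submodule.mem_top)
  choose C hC using fun j => hexp (v j)
  have hfC : ∀ j k, f (v j) (v k) = δ * ∑ l, C j l * C k l := by
    intro j k
    show Bl (v j) (v k) = _
    rw [← hC j, ← hC k, map_sum, Finset.mul_sum]
    refine Finset.sum_congr rfl fun l _ => ?_
    rw [map_smul, map_sum, LinearMap.sum_apply, Finset.sum_eq_single l (fun m _ hm => by
      rw [map_smul, LinearMap.smul_apply]
      show C j m • f (a m) (a l) = 0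
      rw [horth m l hm, smul_zero]) (by simp)]
    rw [map_smul, LinearMap.smul_apply]
    show C k l • (C j l • f (a l) (a l)) = _
    rw [haa, smul_eq_mul, smul_eq_mul]
    ring
  have hmat : (Matrix.of C) * (Matrix.of C)ᵀ = ν • 1 := by
    ext j k
    have e := (hfC j k).symm.trans (hv j k)
    rw [Matrix.mul_apply]
    simp only [Matrix.transpose_apply, Matrix.of_apply, Matrix.smul_apply, Matrix.one_apply, smul_eq_mul]
    apply mul_left_cancel₀ hδ
    rw [e]
    by_cases h : j = k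
    · subst h; rw [haa, if_pos rfl]; ring
    · rw [horth j k h, if_neg h]; ring
  have hν1 : ν = 1 := by
    have e := congrArg Matrix.det hmat
    rw [Matrix.det_mul, Matrix.det_transpose, Matrix.det_smul, Matrix.det_one, Fintype.card_fin,
      mul_one] at e
    have hd : (Matrix.of C).det ≠ 0 := fun h => by
      rw [h, mul_zero] at e
      exact pow_ne_zero 3 hν e.symm
    have h1 := CfsgLib.Orth.DecompNotMax.sq_eq_one hq hd
    have h3 := CfsgLib.Orth.DecompNotMax.sq_eq_one hq hν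
    linear_combination (h1.symm.trans e).symm - ν * h3
  have hQi : Q (v i) = δ := by rw [hQv, hv, haa, hν1, one_mul]
  by_contra hne
  push Not at hne
  have hz : ∀ k, f (v i) (a k) = 0 := fun k => by
    rcases CfsgLib.Orth.DecompNotMax.triple_cases hq (by rw [finrank_top, Module.finrank_fin_fun])
      hδ ha (W := ⊤) Submodule.mem_top hQi k with h | h | h
    · rw [hpol] at h
      exact (mul_eq_zero.1 h).resolve_left h2
    · exact absurd (h.trans (one_smul F _).symm) (hne k 1)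
    · exact absurd (h.trans (neg_one_smul F _).symm) (hne k (-1))
  refine hδ ?_
  rw [← hQi, hQv]
  show Bl (v i) (v i) = 0
  conv_lhs => arg 2; rw [← hC i]
  rw [map_sum]
  refine Finset.sum_eq_zero fun l _ => ?_
  rw [map_smul]
  show C i l • f (v i) (a l) = 0
  rw [hz, smul_zero]

theorem eq_gram {d : ℕ} {f : (Fin d → F) → (Fin d → F) → F} (hf : Cfsg.Geo.IsBilinearForm f)
    (x y : Fin d → F) :
    Cfsg.Geo.formOfGram (RingHom.id F) (Cfsg.Geo.gramMatrix f) x y = f x y :=
  TensorMonomial.eq_formOfGram hf.add_left hf.smul_left hf.add_right hf.smul_right x y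

theorem exists_aniso_orth (hq : Nat.card F = 3) {d : ℕ} (hd : 2 ≤ d)
    {f : (Fin d → F) → (Fin d → F) → F} (hf : Cfsg.Geo.IsSymmetricForm f) :
    ∃ z z', f z z ≠ 0 ∧ z' ≠ 0 ∧ f z' z = 0 := by
  have h2 := two_ne hq
  obtain ⟨z, hz⟩ : ∃ z, f z z ≠ 0 := by
    by_contra hc
    push Not at hc
    obtain ⟨⟨x, hx⟩, -⟩ := hf.nondegenerate (Pi.single ⟨0, by omega⟩ 1) (by simp)
    set y : Fin d → F := Pi.single ⟨0, by omega⟩ 1
    have h := hc (x + y)
    rw [hf.bilinear.add_left, hf.bilinear.add_right, hf.bilinear.add_right, hc, hc, hf.symm y x] at h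
    exact hx ((mul_eq_zero.1 (show 2 * f x y = 0 by linear_combination h)).resolve_left h2)
  let L : (Fin d → F) →ₗ[F] F :=
    { toFun := fun y => f y z
      map_add' := fun p q => hf.bilinear.add_left _ _ _
      map_smul' := fun r p => hf.bilinear.smul_left r _ _ }
  have h1 := L.finrank_range_add_finrank_ker
  have h2' : Module.finrank F (LinearMap.range L) ≤ 1 :=
    (Submodule.finrank_le _).trans_eq (Module.finrank_self F)
  rw [Module.finrank_fin_fun] at h1
  obtain ⟨y, hy, hy0⟩ := Submodule.exists_mem_ne_zero_of_ne_bot (p := LinearMap.ker L) fun e => by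
    rw [e, finrank_bot] at h1; omega
  exact ⟨z, y, hz, hy0, LinearMap.mem_ker.1 hy⟩

section orth

open CfsgLib.Orth

variable {ι : Type} [Fintype ι] [DecidableEq ι] {Q : QuadraticForm F (ι → F)} {n₂ : ℕ}

theorem orth_between (hB : Nondeg Q) (hq : Nat.card F = 3) (hn : 2 ≤ n₂) (e : ι ≃ Fin 3 × Fin n₂)
    (P : GL ι F) {f₁ : (Fin 3 → F) → (Fin 3 → F) → F} {f₂ : (Fin n₂ → F) → (Fin n₂ → F) → F}
    (hf₁ : Cfsg.Geo.IsSymmetricForm f₁) (hf₂ : Cfsg.Geo.IsSymmetricForm f₂)
    (hT : Cfsg.Geo.IsTensorFormStructure id (QuadraticMap.polar ⇑Q) f₁ f₂ e P) :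
    ∃ K : Subgroup (GL ι F),
      Cfsg.Geo.tensorProductSubgroup 3 n₂ e P ⊓ Cfsg.Geo.omegaGL ⇑Q < K ∧ K < Cfsg.Geo.omegaGL ⇑Q := by
  classical
  have h2 := two_ne hq
  obtain ⟨c, hc, hf⟩ := TensorMonomial.exists_form (σ := RingHom.id F) (fun x => rfl)
    (eq_gram hf₁.bilinear) (eq_gram hf₂.bilinear) hT
  obtain ⟨a, horth, hne, heq, hmono⟩ := exists_frame hq hf₁
  obtain ⟨z, z', hz, hz'0, hz'⟩ := exists_aniso_orth hq hn hf₂
  set T := TensorMonomial.tv e P
  set β := c * f₁ (a 0) (a 0) * f₂ z z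
  have hβ : β ≠ 0 := mul_ne_zero (mul_ne_zero hc (hne 0)) hz
  have hb : ∀ i, QuadraticMap.polar ⇑Q (T (a i) z) (T (a i) z) = β := fun i => by
    rw [hf, heq i 0]
  have hb0 : ∀ i j, i ≠ j → ∀ y y', QuadraticMap.polar ⇑Q (T (a i) y) (T (a j) y') = 0 :=
    fun i j h y y' => by rw [hf, horth i j h, mul_zero, zero_mul]
  have hQ2 : ∀ i, 2 * Q (T (a i) z) = β := fun i => (b_self _).symm.trans (hb i)
  have hQ0 : ∀ i, Q (T (a i) z) ≠ 0 := fun i h => hβ (by rw [← hQ2 i, h, mul_zero])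
  have hQs : ∀ i j, i ≠ j → Q (T (a i) z + T (a j) z) = β := fun i j h => by
    refine mul_left_cancel₀ h2 ?_
    rw [q_add, hb0 i j h, add_zero, mul_add, hQ2, hQ2]; ring
  have homega : ∀ {v w : ι → F}, Q v ≠ 0 → Q w ≠ 0 → Q v = Q w →
      ∃ g ∈ Cfsg.Geo.omegaGL ⇑Q, ∀ x, (g : Matrix ι ι F) *ᵥ x =
        (x - ((Q w)⁻¹ * QuadraticMap.polar ⇑Q w x) • w) -
          ((Q v)⁻¹ * QuadraticMap.polar ⇑Q v (x - ((Q w)⁻¹ * QuadraticMap.polar ⇑Q w x) • w)) • v := by
    intro v w hv hw hvw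
    obtain ⟨r, hr⟩ := exists_refl hB hv
    obtain ⟨s, hs⟩ := exists_refl hB hw
    refine ⟨_, ⟨r * s, ?_, rfl⟩, fun x => ?_⟩
    · have hr2 : r * r = 1 := by
        refine Subtype.ext (Units.ext (Matrix.ext_of_mulVec_single fun i => ?_))
        show ap (r * r) _ = ap (1 : Grp Q) _
        rw [ap_mul, hr.2, hr.2, ap_one, b_sub_right, b_smul_right, b_self]
        match_scalars
        · ring
        · field_simp [hv]
          ring
      rw [← inv_eq_of_mul_eq_one_right hr2]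
      exact QuotientGroup.eq.1 (mk_refl_of_square hB h2 hr hs ⟨Q v, by rw [hvw]⟩)
    · show ap (r * s) x = _
      rw [ap_mul, hs.2, hr.2]
  obtain ⟨g₁, hg₁, e₁⟩ := homega (v := T (a 0) z) (w := T (a 1) z) (hQ0 0) (hQ0 1)
    (mul_left_cancel₀ h2 ((hQ2 0).trans (hQ2 1).symm))
  have h01 : (0 : Fin 3) ≠ 1 := by decide
  have h02 : (0 : Fin 3) ≠ 2 := by decide
  have h12 : (1 : Fin 3) ≠ 2 := by decide
  obtain ⟨g₂, hg₂, e₂⟩ := homega (v := T (a 0) z + T (a 1) z) (w := T (a 1) z + T (a 2) z)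
    (by rw [hQs _ _ h01]; exact hβ) (by rw [hQs _ _ h12]; exact hβ) (by rw [hQs _ _ h01, hQs _ _ h12])
  refine TensorMonomial.exists_tensor_between (k := 3) (T := T) (f := QuadraticMap.polar ⇑Q) (p := f₁)
    (h := f₂) (c := c) (a := a) (fun w => b_zero_left w) hc hf
    (fun v hv => (hf₂.nondegenerate v hv).2) horth hne (fun g hg hgG => ?_)
    (fun g hg => TensorMonomial.exists_factors e P hg) (i₀ := 0) (i₁ := 2) (j₁ := 1) h01.symm
    hg₁ (fun i y => ?_) (fun y => ?_) hz'0 ?_ (y₁ := z) (z₁ := z) ?_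
    hg₂ hz'0 ?_ (y₃ := z) (z₃ := z) ?_
  · obtain ⟨A, B, hAB⟩ := TensorMonomial.exists_factors e P hg
    obtain ⟨s, -, rfl⟩ := hgG
    refine ⟨A, B, hAB, ?_⟩
    have hiso : ∀ i j, c * f₁ (A (a i)) (A (a j)) * f₂ (B z) (B z) = c * f₁ (a i) (a j) * f₂ z z := by
      intro i j
      rw [← hf, ← hf, ← hAB, ← hAB]
      exact ap_b s _ _
    have hBz : f₂ (B z) (B z) ≠ 0 := fun h => by
      have := hiso 0 0
      rw [h, mul_zero] at this
      exact hβ this.symm
    refine hmono (fun i => A (a i)) (f₂ z z / f₂ (B z) (B z)) (div_ne_zero hz hBz) fun i j => ?_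
    rw [div_mul_eq_mul_div, eq_div_iff hBz]
    apply mul_left_cancel₀ hc
    linear_combination hiso i j
  · rw [e₁]
    rcases eq_or_ne i 1 with rfl | h1
    · rw [b_sub_right, b_smul_right, hb0 0 1 h01, hb0 0 1 h01, mul_zero, sub_zero, mul_zero,
        zero_smul, sub_zero]
      exact Submodule.sub_mem _ (LinearMap.mem_range_self _ _)
        (Submodule.smul_mem _ _ (LinearMap.mem_range_self _ _))
    rw [hb0 1 i h1.symm, mul_zero, zero_smul, sub_zero]
    rcases eq_or_ne i 0 with rfl | h0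
    · exact Submodule.sub_mem _ (LinearMap.mem_range_self _ _)
        (Submodule.smul_mem _ _ (LinearMap.mem_range_self _ _))
    rw [hb0 0 i h0.symm, mul_zero, zero_smul, sub_zero]
    exact LinearMap.mem_range_self _ _
  · rw [e₁, hb0 1 2 h12, mul_zero, zero_smul, sub_zero, hb0 0 2 h02, mul_zero, zero_smul, sub_zero]
  · rw [e₁, hb0 1 0 h01.symm, mul_zero, zero_smul, sub_zero, hf, hf₂.symm z z', hz', mul_zero,
      mul_zero, zero_smul, sub_zero]
  · rw [e₁, hb0 1 0 h01.symm, mul_zero, zero_smul, sub_zero, hb, b_sub_left, b_smul_left, hb]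
    intro h
    have := hQ2 0
    have hQ := hQ0 0
    field_simp at h
    exact hβ (by linear_combination -h)
  · rw [e₂, b_add_left, hb0 1 0 h01.symm, hb0 2 0 h02.symm, add_zero, mul_zero, zero_smul, sub_zero,
      b_add_left, hb0 1 0 h01.symm, hf, hf₂.symm z z', hz', mul_zero, add_zero, mul_zero, zero_smul,
      sub_zero]
  · rw [e₂, b_add_left, hb0 1 0 h01.symm, hb0 2 0 h02.symm, add_zero, mul_zero, zero_smul, sub_zero,
      b_add_left, hb, hb0 1 0 h01.symm, add_zero, hQs _ _ h01, inv_mul_cancel₀ hβ, one_smul,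
      sub_add_cancel_left, ← neg_one_smul F, b_smul_left, hb]
    exact mul_ne_zero (neg_ne_zero.2 one_ne_zero) hβ

end orth

section symp

open CfsgLib.Classical.SympTrans

variable {m n₁ : ℕ}

theorem symp_between (hq : Nat.card F = 3) (hn : 1 ≤ n₁) (e : (Fin m ⊕ Fin m) ≃ Fin n₁ × Fin 3)
    (P : GL (Fin m ⊕ Fin m) F) {f₁ : (Fin n₁ → F) → (Fin n₁ → F) → F}
    {f₂ : (Fin 3 → F) → (Fin 3 → F) → F} (hf₁ : Cfsg.Geo.IsSymplecticForm f₁)
    (hf₂ : Cfsg.Geo.IsSymmetricForm f₂)
    (hT : Cfsg.Geo.IsTensorFormStructure id (sympForm m F) f₁ f₂ e P) :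
    ∃ K : Subgroup (GL (Fin m ⊕ Fin m) F),
      Cfsg.Geo.tensorProductSubgroup n₁ 3 e P ⊓ spGL m F < K ∧ K < spGL m F := by
  classical
  obtain ⟨c, hc, hf⟩ := TensorMonomial.exists_form (σ := RingHom.id F) (fun x => rfl)
    (eq_gram hf₁.bilinear) (eq_gram hf₂.bilinear) hT
  obtain ⟨a, horth, hne, -, hmono⟩ := exists_frame hq hf₂
  obtain ⟨w, hw⟩ : ∃ w : Fin n₁ → F, w ≠ 0 := ⟨Pi.single ⟨0, hn⟩ 1, by simp⟩
  obtain ⟨⟨y, hy⟩, -⟩ := hf₁.nondegenerate w hw
  have hwy : f₁ w y ≠ 0 := by rw [hf₁.skew]; exact neg_ne_zero.2 hy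
  have hfac : ∀ g ∈ Cfsg.Geo.tensorProductSubgroup n₁ 3 e P, ∃ (A : (Fin 3 → F) → (Fin 3 → F))
      (B : (Fin n₁ → F) → (Fin n₁ → F)), ∀ x v, (g : Matrix _ _ F) *ᵥ (TensorMonomial.tv e P).flip x v =
        (TensorMonomial.tv e P).flip (A x) (B v) := by
    intro g hg
    obtain ⟨A, B, h⟩ := TensorMonomial.exists_factors e P hg
    exact ⟨B, A, fun x v => h v x⟩
  refine TensorMonomial.exists_between_trans (k := 3) (T := (TensorMonomial.tv e P).flip)
    (f := sympForm m F) (p := f₂) (h := f₁) (c := c) (a := a)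
    (fun v => f_zero_left v) hc f_add_left f_smul_left f_add_right
    (fun x v x' v' => (hf v x v' x').trans (by ring))
    (fun v hv => (hf₁.nondegenerate v hv).2) horth hne (fun g hg hgG => ?_) hfac (fun u _ => ?_)
    (i₀ := 0) (i₁ := 1) (by decide) hw (hf₁.alternating w) hy hwy (z := w) (y' := y)
    (by rw [hf₁.alternating]; ring) hy hwy hw (hf₁.alternating w)
  · obtain ⟨A, B, hAB⟩ := hfac g hg
    refine ⟨A, B, hAB, ?_⟩
    have hiso : ∀ i j, c * f₂ (A (a i)) (A (a j)) * f₁ (B y) (B w) = c * f₂ (a i) (a j) * f₁ y w := by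
      intro i j
      have e := hgG ((TensorMonomial.tv e P).flip (a i) y) ((TensorMonomial.tv e P).flip (a j) w)
      change sympForm m F ((g : Matrix (Fin m ⊕ Fin m) (Fin m ⊕ Fin m) F) *ᵥ _) ((g : Matrix (Fin m ⊕ Fin m) (Fin m ⊕ Fin m) F) *ᵥ _) = _ at e
      rw [hAB, hAB] at e
      calc c * f₂ (A (a i)) (A (a j)) * f₁ (B y) (B w) = c * f₁ (B y) (B w) * f₂ (A (a i)) (A (a j)) := by ring
        _ = sympForm m F ((TensorMonomial.tv _ P).flip (A (a i)) (B y))
            ((TensorMonomial.tv _ P).flip (A (a j)) (B w)) := (hf _ _ _ _).symm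
        _ = _ := e.trans ((hf _ _ _ _).trans (by ring))
    have hB : f₁ (B y) (B w) ≠ 0 := fun h => by
      have := hiso 0 0
      rw [h, mul_zero] at this
      exact mul_ne_zero (mul_ne_zero hc (hne 0)) hy this.symm
    refine hmono (fun i => A (a i)) (f₁ y w / f₁ (B y) (B w)) (div_ne_zero hy hB) fun i j => ?_
    rw [div_mul_eq_mul_div, eq_div_iff hB]
    apply mul_left_cancel₀ hc
    linear_combination hiso i j
  · exact ⟨_, (toSpGL (T u (1 : F))).2, 1, one_ne_zero, fun x => app_T u 1 x⟩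

end symp

end CfsgLib.Classical.TensorMonoOrth
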