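import Cfsg.Agent.Lib.Classical.AschOrthField
import Cfsg.Agent.Lib.Classical.OrthModels
import Cfsg.Agent.Lib.Classical.TensorMonoOrth
import Cfsg.Agent.Lib.Classical.AschLinear

set_option autoImplicit false
set_option linter.unusedSectionVars false

/-!
Orthogonal groups: subgroups preserving a tensor decomposition.
-/

namespace CfsgLib.Asch

open Matrix
open Cfsg.Geo (matrixSet scalars ActsIrreducibly ActsAbsolutelyIrreducibly omegaGL tensorProductSubgroup
  tensorWreathSubgroup glReindex)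
open CfsgLib.Orth (Nondeg)
open CfsgLib.PrimeDim (Inv Nml Sesq)
open scoped MatrixGroups Kronecker

variable {F : Type*} [Field F] [Fintype F] {n : ℕ} {Q : QuadraticForm F (Fin n → F)}

local notation "τ₁" => RingEquiv.refl F

/-- `H` preserves a decomposition of the polar form into two symmetric factors. -/
def OSymTensorCase (Q : QuadraticForm F (Fin n → F)) (H : Subgroup (GL (Fin n) F)) : Prop :=
  ActsIrreducibly (matrixSet H) ∧ ∃ (n₁ n₂ : ℕ) (e : Fin n ≃ Fin n₁ × Fin n₂) (P : GL (Fin n) F)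
    (J₁ : Matrix (Fin n₁) (Fin n₁) F) (J₂ : Matrix (Fin n₂) (Fin n₂) F),
    Odd (Fintype.card F) ∧ 3 ≤ n₁ ∧ n₁ ≤ n₂ ∧ n₁ * n₂ = n ∧ FormData (RingEquiv.refl F) J₁ 1 ∧
      FormData (RingEquiv.refl F) J₂ 1 ∧ fcoord (RingEquiv.refl F) (ogram Q) e P = J₁ ⊗ₖ J₂ ∧
      H ≤ tensorProductSubgroup n₁ n₂ e P

/-- `H` preserves a decomposition into two alternating factors with singular pure tensors. -/
def OSympTensorCase (Q : QuadraticForm F (Fin n → F)) (H : Subgroup (GL (Fin n) F)) : Prop :=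
  ActsIrreducibly (matrixSet H) ∧ ∃ (n₁ n₂ : ℕ) (e : Fin n ≃ Fin n₁ × Fin n₂) (P : GL (Fin n) F)
    (J₁ : Matrix (Fin n₁) (Fin n₁) F) (J₂ : Matrix (Fin n₂) (Fin n₂) F),
    2 ≤ n₁ ∧ n₁ ≤ n₂ ∧ n₁ * n₂ = n ∧ SympData J₁ ∧ SympData J₂ ∧
      fcoord (RingEquiv.refl F) (ogram Q) e P = J₁ ⊗ₖ J₂ ∧ (∀ u v, Q (ten e P u v) = 0) ∧
      H ≤ tensorProductSubgroup n₁ n₂ e P

/-- `H` preserves a symmetric tensor power. -/
def OSymPowerCase (Q : QuadraticForm F (Fin n → F)) (H : Subgroup (GL (Fin n) F)) : Prop :=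
  ActsIrreducibly (matrixSet H) ∧ ∃ (k t : ℕ) (e : Fin n ≃ (Fin t → Fin k)) (P : GL (Fin n) F)
    (J₀ : Matrix (Fin k) (Fin k) F) (c : F),
    Odd (Fintype.card F) ∧ 3 ≤ k ∧ 2 ≤ t ∧ ¬ (Fintype.card F = 3 ∧ k = 3) ∧ k ^ t = n ∧
      FormData (RingEquiv.refl F) J₀ 1 ∧ c ≠ 0 ∧
      fcoord (RingEquiv.refl F) (ogram Q) e P = c • pureMat (fun _ : Fin t => J₀) ∧
      H ≤ tensorWreathSubgroup k t e P

theorem oConj_of_conj (hB : Nondeg Q) (hodd : Odd (Fintype.card F)) {H : Subgroup (GL (Fin n) F)}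
    (hirr : ActsIrreducibly (matrixSet H)) (h : ConjFieldCase τ₁ (ogram Q) H) : OConjFieldCase Q H := by
  obtain ⟨L, hL, hcl, hnsa, hscal, hle⟩ := h
  have hd := orth_data hB
  refine ⟨hirr, L, hL, hcl, hnsa, hscal, fun k hk => ?_, hle⟩
  obtain ⟨c, hc⟩ : ∃ c : F, adj τ₁ (ogram Q) k * k = c • 1 :=
    hscal _ (mul_mem (hcl k hk) hk) (by rw [adj_mul hd, adj_adj hd])
  refine ⟨c, fun v => mul_left_cancel₀ (PrimeDim.two_ne_zero_of_odd hodd) ?_⟩
  rw [mul_left_comm, ← CfsgLib.Orth.b_self, ← CfsgLib.Orth.b_self, polar_sform hB, polar_sform hB, sform_adj hd,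
    mulVec_mulVec, hc, smul_mulVec, one_mulVec, sform_smul_right]
  rfl

/-- A symmetric factor of dimension two gives a line of skew elements. -/
theorem two_sym_line {J : Matrix (Fin n) (Fin n) F} {ε : F} (hJ : FormData (RingEquiv.refl F) J ε)
    (hodd : Odd (Fintype.card F)) {H : Subgroup (GL (Fin n) F)}
    (hH : ∀ g ∈ H, Iso (RingEquiv.refl F) J g.val) {a : ℕ} (ha : 1 ≤ a)
    {e : Fin n ≃ Fin a × Fin 2} {P : GL (Fin n) F} {J₁ : Matrix (Fin a) (Fin a) F} {J₂ : Matrix (Fin 2) (Fin 2) F}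
    (hF : fcoord (RingEquiv.refl F) J e P = J₁ ⊗ₖ J₂) (h₂ : FormData (RingEquiv.refl F) J₂ 1)
    (hHt : ∀ g ∈ H, ∃ (A : GL (Fin a) F) (C : GL (Fin 2) F) (c : F), c ≠ 0 ∧
      coord e P (g : Matrix (Fin n) (Fin n) F) = (A : Matrix (Fin a) (Fin a) F) ⊗ₖ (C : Matrix (Fin 2) (Fin 2) F) ∧
      C.valᵀ * J₂ * C.val = c • J₂) :
    TSPairCase (RingEquiv.refl F) J H ∨ ConjFieldCase (RingEquiv.refl F) J H := by
  classical
  have h2 := PrimeDim.two_ne_zero_of_odd hodd
  have hs2 : J₂ᵀ = J₂ := by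
    have := h₂.herm
    rwa [bm_refl, one_smul] at this
  obtain ⟨x, hx⟩ : ∃ x, x = J₂⁻¹ * jTwo F := ⟨_, rfl⟩
  have hdet : IsUnit J₂.det := h₂.det
  have hxJ : J₂ * x = jTwo F := by rw [hx, ← mul_assoc, Matrix.mul_nonsing_inv _ hdet, one_mul]
  obtain ⟨d, hd⟩ : ∃ d, d = -(J₂.det)⁻¹ := ⟨_, rfl⟩
  have hd0 : d ≠ 0 := by
    rw [hd]
    exact neg_ne_zero.2 (inv_ne_zero hdet.ne_zero)
  have hxx : x * x = d • 1 := by
    have e01 : J₂ 1 0 = J₂ 0 1 := congrFun (congrFun hs2 0) 1
    rw [hx, Matrix.inv_def, Ring.inverse_eq_inv']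
    have hdet2 := Matrix.det_fin_two J₂
    ext i j
    fin_cases i <;> fin_cases j <;>
      simp [Matrix.mul_apply, Fin.sum_univ_two, Matrix.adjugate_fin_two, jTwo, hd, e01] <;>
      field_simp [hdet.ne_zero] <;> rw [hdet2, e01] <;> ring
  obtain ⟨X, hX⟩ : ∃ X : Matrix (Fin n) (Fin n) F,
      X = P.val * ((1 : Matrix (Fin a) (Fin a) F) ⊗ₖ x).submatrix e e * (P⁻¹).val := ⟨_, rfl⟩
  have hcX : coord e P X = (1 : Matrix (Fin a) (Fin a) F) ⊗ₖ x := by
    simp only [hX, coord, mul_assoc, Units.inv_mul_cancel_left, Units.inv_mul, mul_one,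
      Matrix.submatrix_submatrix, Equiv.self_comp_symm, Matrix.submatrix_id_id]
  have hcs : ∀ c : F, coord e P (c • (1 : Matrix (Fin n) (Fin n) F)) = c • 1 := fun c => by
    ext p q
    simp [coord, Matrix.one_apply]
  have hn : 1 ≤ n := by
    have := Fintype.card_congr e
    simp only [Fintype.card_fin, Fintype.card_prod] at this
    omega
  haveI : Nonempty (Fin a) := ⟨⟨0, ha⟩⟩
  refine skew_line hJ hn h2 hH hd0 (X := X) ?_ ?_ ?_ ?_
  · apply coord_injective e P
    rw [coord_mul, hcX, hcs, ← Matrix.mul_kronecker_mul, one_mul, hxx, Matrix.kronecker_smul, one_kronecker_one]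
  · refine (adj_unique hJ fun u v => ?_).symm
    have key : Xᵀ * J + J * X = 0 := by
      have h1 : fcoord τ₁ (Xᵀ * J + J * X) e P = 0 := by
        have e1 : fcoord τ₁ (Xᵀ * J + J * X) e P = (coord e P X)ᵀ * fcoord τ₁ J e P + fcoord τ₁ J e P * coord e P X := by
          simp only [fcoord, coord, bm_refl, Matrix.transpose_submatrix, Matrix.submatrix_mul_equiv]
          refine Eq.trans ?_ (congrFun (congrFun (Matrix.submatrix_add _ _) _) _)
          congr 1
          have hPP : (P⁻¹).valᵀ * P.valᵀ = 1 := by rw [← Matrix.transpose_mul, Units.mul_inv, Matrix.transpose_one]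
          simp only [Matrix.transpose_mul, mul_add, add_mul, mul_assoc, Units.mul_inv_cancel_left]
          congr 1
          simp only [← mul_assoc]
          simp only [mul_assoc _ (P⁻¹).valᵀ P.valᵀ, hPP, mul_one]
        rw [e1, hcX, hF, ← Matrix.kroneckerMap_transpose, Matrix.transpose_one, ← Matrix.mul_kronecker_mul,
          ← Matrix.mul_kronecker_mul, one_mul, mul_one, hxJ]
        have e2 : xᵀ * J₂ = (jTwo F)ᵀ := by rw [← hxJ, Matrix.transpose_mul, hs2]
        rw [e2, jTwo_transpose, ← Matrix.kronecker_add, neg_smul, one_smul, neg_add_cancel, Matrix.kronecker_zero]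
      have h2' : P.valᵀ * (Xᵀ * J + J * X) * P.val = 0 := by
        ext i j
        have := congrFun (congrFun h1 (e i)) (e j)
        simpa [fcoord, bm_refl] using this
      have h3 := congrArg (fun Z => (P⁻¹).valᵀ * Z * (P⁻¹).val) h2'
      simp only [← mul_assoc, ← Matrix.transpose_mul, Units.mul_inv, Matrix.transpose_one, one_mul] at h3
      simpa [mul_assoc] using h3
    conv_lhs => rw [← one_mulVec v]
    conv_rhs => rw [← one_mulVec u]
    rw [sform_mulVec, sform_mulVec]
    simp only [bm_refl, mul_one, Matrix.transpose_one, one_mul, mul_neg]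
    rw [eq_neg_of_add_eq_zero_left key]
  · intro c hc
    have h1 := congrArg (coord e P) hc
    rw [hcX, hcs, ← one_kronecker_one, ← Matrix.kronecker_smul] at h1
    have e2 : x = c • 1 := by
      ext i j
      obtain ⟨p⟩ := (inferInstance : Nonempty (Fin a))
      have := congrFun (congrFun h1 (p, i)) (p, j)
      simpa using this
    have e3 : jTwo F = c • J₂ := by rw [← hxJ, e2, mul_smul_comm, mul_one]
    have h4 : (jTwo F)ᵀ = jTwo F := by rw [e3, Matrix.transpose_smul, hs2]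
    have h5 := congrFun (congrFun h4 0) 1
    simp [jTwo] at h5
    exact h2 (by linear_combination -h5)
  · intro g hg
    obtain ⟨A, C, c, hc, hAC, hC⟩ := hHt g hg
    refine ⟨c / C.val.det, ?_⟩
    apply coord_injective e P
    have e1 : coord e P ((c / C.val.det) • (X * g.val)) = (c / C.val.det) • coord e P (X * g.val) := by
      ext p q
      simp [coord]
    rw [coord_mul, e1, coord_mul, hcX, hAC, ← Matrix.mul_kronecker_mul, ← Matrix.mul_kronecker_mul, one_mul, mul_one,
      ← Matrix.kronecker_smul]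
    congr 1
    have hdC : C.val.det ≠ 0 := ((Matrix.isUnit_iff_isUnit_det _).1 C.isUnit).ne_zero
    obtain ⟨T, hT⟩ : IsUnit C.valᵀ := by
      rw [Matrix.isUnit_iff_isUnit_det, Matrix.det_transpose]
      exact (Matrix.isUnit_iff_isUnit_det _).1 C.isUnit
    obtain ⟨Ju, hJu⟩ := h₂.unit
    apply (Units.mul_right_inj Ju).1
    apply (Units.mul_right_inj T).1
    rw [hT, hJu]
    calc C.valᵀ * (J₂ * (C.val * x)) = (C.valᵀ * J₂ * C.val) * x := by simp only [mul_assoc]
      _ = c • jTwo F := by rw [hC, smul_mul, hxJ]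
      _ = _ := by
        rw [mul_smul_comm, mul_smul_comm, ← mul_assoc J₂, hxJ, ← mul_assoc C.valᵀ, jTwo_congr, smul_smul,
          div_mul_cancel₀ _ hdC]

theorem sform_ten {J : Matrix (Fin n) (Fin n) F} {a b : ℕ} {e : Fin n ≃ Fin a × Fin b} {P : GL (Fin n) F}
    {J₁ : Matrix (Fin a) (Fin a) F} {J₂ : Matrix (Fin b) (Fin b) F}
    (hF : fcoord τ₁ J e P = J₁ ⊗ₖ J₂) (u : Fin a → F) (v : Fin b → F) (u' : Fin a → F) (v' : Fin b → F) :
    sform τ₁ J (ten e P u v) (ten e P u' v') = sform τ₁ J₁ u u' * sform τ₁ J₂ v v' := by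
  show sform τ₁ J (P.val *ᵥ ((fun q => u q.1 * v q.2) ∘ e)) (P.val *ᵥ ((fun q => u' q.1 * v' q.2) ∘ e)) = _
  rw [sform_fcoord, hF]
  simp only [sform, dotProduct, mulVec, Function.comp_apply, RingEquiv.refl_apply, Matrix.kroneckerMap_apply,
    Fintype.sum_prod_type]
  rw [Finset.sum_mul_sum]
  refine Finset.sum_congr rfl fun i _ => Finset.sum_congr rfl fun j _ => ?_
  rw [mul_mul_mul_comm (u i), Finset.sum_mul_sum]
  congr 1
  exact Finset.sum_congr rfl fun k _ => Finset.sum_congr rfl fun l _ => by ring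

/-- Pure tensors are singular. -/
theorem pure_zero (hB : Nondeg Q) (hn : 2 ≤ n) {H : Subgroup (GL (Fin n) F)} (hH : H ≤ omegaGL ⇑Q)
    (hirr : ActsIrreducibly (matrixSet H)) {a b : ℕ} {e : Fin n ≃ Fin a × Fin b} {P : GL (Fin n) F}
    {J₁ : Matrix (Fin a) (Fin a) F} {J₂ : Matrix (Fin b) (Fin b) F} (h₁ : SympData J₁) (h₂ : SympData J₂)
    (hF : fcoord τ₁ (ogram Q) e P = J₁ ⊗ₖ J₂)
    (hHt : ∀ g ∈ H, ∃ (A : GL (Fin a) F) (C : GL (Fin b) F),
      coord e P (g : Matrix (Fin n) (Fin n) F) = (A : Matrix (Fin a) (Fin a) F) ⊗ₖ (C : Matrix (Fin b) (Fin b) F)) :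
    ∀ u v, Q (ten e P u v) = 0 := by
  classical
  have hiso := omega_iso hB hH
  by_cases hodd : Odd (Fintype.card F)
  · intro u v
    have h := sform_ten hF u v u v
    rw [h₁.alt, zero_mul, ← polar_sform hB, CfsgLib.Orth.b_self] at h
    exact (mul_eq_zero.1 h).resolve_left (PrimeDim.two_ne_zero_of_odd hodd)
  have h20 := two_eq_zero_of_not_odd hodd
  haveI : CharP F 2 := CharTwo.of_one_ne_zero_of_two_eq_zero one_ne_zero h20
  have hS : SympData (ogram Q) := by
    refine ⟨⟨(orth_data hB).unit, fun _ => rfl, ?_⟩, fun v => ?_⟩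
    · rw [(orth_data hB).herm, CharTwo.neg_eq]
    · rw [← polar_sform hB, CfsgLib.Orth.b_self, h20, zero_mul]
  obtain ⟨Q', hQ', hp, hQ0⟩ := exists_quad hS h20 P
  have hbasis : ∀ i, P.val *ᵥ Pi.single i 1 = ten e P (Pi.single (e i).1 1) (Pi.single (e i).2 1) := fun i => by
    simp only [ten]
    congr 1
    funext j
    by_cases h : j = i
    · subst h; simp
    · rw [Pi.single_eq_of_ne h]
      have hne : e j ≠ e i := e.injective.ne h
      by_cases h' : (e j).1 = (e i).1
      · have : (e j).2 ≠ (e i).2 := fun e' => hne (Prod.ext h' e')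
        rw [Pi.single_eq_of_ne this, mul_zero]
      · rw [Pi.single_eq_of_ne h', zero_mul]
  have hz1 : ∀ x v, Q' (ten e P (Pi.single x 1) v) = 0 := fun x v => by
    refine quad_span hS hQ' hp (S := Set.range fun y => ten e P (Pi.single x 1) (Pi.single y 1)) ?_ ?_ _ ?_
    · rintro _ ⟨y, rfl⟩
      have := hQ0 (e.symm (x, y))
      rwa [hbasis, Equiv.apply_symm_apply] at this
    · rintro _ ⟨y, rfl⟩ _ ⟨y', rfl⟩
      rw [sform_ten hF, h₁.alt, zero_mul]
    · have : ten e P (Pi.single x 1) v = ∑ y, v y • ten e P (Pi.single x 1) (Pi.single y 1) := by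
        simp only [ten, ← mulVec_smul, ← mulVec_sum]
        congr 1
        funext i
        simp [Finset.sum_apply, Pi.single_apply, mul_comm]
      rw [this]
      exact Submodule.sum_mem _ fun y _ => Submodule.smul_mem _ _ (Submodule.subset_span ⟨y, rfl⟩)
  have hzero : ∀ u v, Q' (ten e P u v) = 0 := fun u v => by
    refine quad_span hS hQ' hp (S := Set.range fun x => ten e P (Pi.single x 1) v) ?_ ?_ _ ?_
    · rintro _ ⟨x, rfl⟩
      exact hz1 x v
    · rintro _ ⟨x, rfl⟩ _ ⟨x', rfl⟩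
      rw [sform_ten hF, h₂.alt, mul_zero]
    · have : ten e P u v = ∑ x, u x • ten e P (Pi.single x 1) v := by
        simp only [ten, ← mulVec_smul, ← mulVec_sum]
        congr 1
        funext i
        simp [Finset.sum_apply, Pi.single_apply]
      rw [this]
      exact Submodule.sum_mem _ fun x _ => Submodule.smul_mem _ _ (Submodule.subset_span ⟨x, rfl⟩)
  have hspan : Submodule.span F (Set.range fun i => P.val *ᵥ Pi.single i (1 : F)) = ⊤ := by
    refine eq_top_iff.2 fun v _ => ?_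
    have hv : v = ∑ i, ((P⁻¹).val *ᵥ v) i • (P.val *ᵥ Pi.single i (1 : F)) := by
      conv_lhs => rw [← PrimeDim.mulVec_inv_cancel P v, pi_eq_sum_univ' ((P⁻¹).val *ᵥ v), mulVec_sum]
      simp only [mulVec_smul]
    rw [hv]
    exact Submodule.sum_mem _ fun i _ => Submodule.smul_mem _ _ (Submodule.subset_span ⟨i, rfl⟩)
  have hinv : ∀ g ∈ H, ∀ v, Q' (g.val *ᵥ v) = Q' v := fun g hg => by
    refine quad_iso_of_basis hQ' hp (hiso g hg) hspan ?_
    rintro _ ⟨i, rfl⟩
    obtain ⟨A, C, hAC⟩ := hHt g hg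
    show Q' (g.val *ᵥ (P.val *ᵥ Pi.single i 1)) = Q' (P.val *ᵥ Pi.single i 1)
    rw [hbasis, mulVec_ten hAC, hzero, hzero]
  have heq : ∀ v, Q v = Q' v := quad_unique hn h20 hirr
    (fun c v => CfsgLib.Orth.q_smul c v) (fun c v => by rw [hQ'.smul]; ring)
    (fun u v => by rw [hp, polar_sform hB])
    (by rintro _ ⟨g, hg, rfl⟩ v; exact omega_quad hH hg v) (by rintro _ ⟨g, hg, rfl⟩ v; exact hinv g hg v)
  intro u v
  rw [heq, hzero]

/-- The cases for a tensor decomposition. -/
theorem orth_tensor (hB : Nondeg Q) (hn : 5 ≤ n) {H N : Subgroup (GL (Fin n) F)} (hH : H ≤ omegaGL ⇑Q)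
    (hirr : ActsIrreducibly (matrixSet H)) (hN : Nml H N) {m t : ℕ}
    {ρ : N → Matrix (Fin m) (Fin m) F} {e : Fin n ≃ Fin m × Fin t} {P : GL (Fin n) F} (hm : 2 ≤ m) (ht : 2 ≤ t)
    (hT : TensorData H N m t ρ e P) :
    OSymTensorCase Q H ∨ OSympTensorCase Q H ∨ OTSPairCase Q H ∨ OConjFieldCase Q H := by
  classical
  haveI : Nonempty (Fin m) := ⟨⟨0, by omega⟩⟩
  haveI : Nonempty (Fin t) := ⟨⟨0, by omega⟩⟩
  have hd := orth_data hB
  obtain ⟨J₁, J₂, c₁, c₂, hcc, hF, h₁, h₂, hρ, hHt⟩ := tensor_form hd (omega_iso hB hH) hN (by omega) (by omega) hT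
  have hsq : ∀ {k : ℕ} [Nonempty (Fin k)] {B : Matrix (Fin k) (Fin k) F} {c : F},
      FormData τ₁ B c → c * c = 1 := by
    intro k _ B c hB'
    have h2 := congrArg Matrix.transpose hB'.herm
    rw [Matrix.transpose_transpose, Matrix.transpose_smul, ← bm_refl B, hB'.herm, bm_refl, smul_smul] at h2
    obtain ⟨i, j, hij⟩ : ∃ i j, B i j ≠ 0 := by
      by_contra hc
      push Not at hc
      exact hB'.unit.ne_zero (Matrix.ext hc)
    exact (mul_eq_right₀ hij).1 (congrFun (congrFun h2 i) j).symm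
  have hab : m * t = n := by simpa using (Fintype.card_congr e).symm
  have hswap : fcoord τ₁ (ogram Q) (e.trans (Equiv.prodComm _ _)) P = J₂ ⊗ₖ J₁ := by
    ext p q
    have := congrFun (congrFun hF (p.2, p.1)) (q.2, q.1)
    simp only [fcoord, Matrix.submatrix_apply, Matrix.kroneckerMap_apply] at this ⊢
    simpa [mul_comm, Prod.swap] using this
  have hmem : H ≤ tensorProductSubgroup m t e P := fun g hg => by
    obtain ⟨A, C, a, b, hAC, -⟩ := hHt g hg
    exact mem_tensor hAC
  have hmem' : H ≤ tensorProductSubgroup t m (e.trans (Equiv.prodComm _ _)) P := fun g hg => by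
    obtain ⟨A, C, a, b, hAC, -⟩ := hHt g hg
    exact mem_tensor (coord_prodComm e P _ _ _ hAC)
  have hskew : SympData J₁ → SympData J₂ → OSympTensorCase Q H := by
    intro s₁ s₂
    by_cases hle : m ≤ t
    · exact ⟨hirr, m, t, e, P, J₁, J₂, hm, hle, hab, s₁, s₂, hF, pure_zero hB (by omega) hH hirr s₁ s₂ hF
        (fun g hg => by
          obtain ⟨A, C, a, b, hAC, -⟩ := hHt g hg
          exact ⟨A, C, hAC⟩), hmem⟩
    · exact ⟨hirr, t, m, _, P, J₂, J₁, ht, le_of_not_ge hle, by rw [mul_comm]; exact hab, s₂, s₁, hswap,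
        pure_zero hB (by omega) hH hirr s₂ s₁ hswap (fun g hg => by
          obtain ⟨A, C, a, b, hAC, -⟩ := hHt g hg
          exact ⟨C, A, coord_prodComm e P _ _ _ hAC⟩), hmem'⟩
  by_cases hodd : Odd (Fintype.card F)
  · have h2 := PrimeDim.two_ne_zero_of_odd hodd
    rcases mul_self_eq_one_iff.1 (hsq h₁) with e1 | e1
    · subst e1
      rw [one_mul] at hcc
      subst hcc
      have key : TSPairCase τ₁ (ogram Q) H ∨ ConjFieldCase τ₁ (ogram Q) H →
          OSymTensorCase Q H ∨ OSympTensorCase Q H ∨ OTSPairCase Q H ∨ OConjFieldCase Q H := by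
        rintro (h | h)
        · exact Or.inr (Or.inr (Or.inl (tsPair_orth hB hn hH hirr h)))
        · exact Or.inr (Or.inr (Or.inr (oConj_of_conj hB hodd hirr h)))
      by_cases hm2 : m = 2
      · subst hm2
        refine key (two_sym_line hd hodd (omega_iso hB hH) (a := t) (by omega) hswap h₁ fun g hg => ?_)
        obtain ⟨A, C, a, b, hAC, ha, -, hA, -⟩ := hHt g hg
        exact ⟨C, A, a, ha, coord_prodComm e P _ _ _ hAC, hA⟩
      by_cases ht2 : t = 2
      · subst ht2
        refine key (two_sym_line hd hodd (omega_iso hB hH) (a := m) (by omega) hF h₂ fun g hg => ?_)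
        obtain ⟨A, C, a, b, hAC, -, hb, -, hC⟩ := hHt g hg
        exact ⟨A, C, b, hb, hAC, hC⟩
      left
      by_cases hle : m ≤ t
      · exact ⟨hirr, m, t, e, P, J₁, J₂, hodd, by omega, hle, hab, h₁, h₂, hF, hmem⟩
      · exact ⟨hirr, t, m, _, P, J₂, J₁, hodd, by omega, le_of_not_ge hle, by rw [mul_comm]; exact hab, h₂, h₁,
          hswap, hmem'⟩
    · subst e1
      obtain rfl : c₂ = -1 := by linear_combination -hcc
      exact Or.inr (Or.inl (hskew (SympData.of_skew h₁ h2) (SympData.of_skew h₂ h2)))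
  refine Or.inr (Or.inl ?_)
  have h20 := two_eq_zero_of_not_odd hodd
  have hneg : (-1 : F) = 1 := by linear_combination -h20
  have hone : ∀ c : F, c * c = 1 → c = 1 := fun c hc =>
    (mul_self_eq_one_iff.1 hc).elim id fun e => e.trans hneg
  obtain rfl := hone _ (hsq h₁)
  obtain rfl := hone _ (hsq h₂)
  have hs₁ : J₁ᵀ = J₁ := by
    have := h₁.herm
    rwa [bm_refl, one_smul] at this
  have hs₂ : J₂ᵀ = J₂ := by
    have := h₂.herm
    rwa [bm_refl, one_smul] at this
  have halt₁ := alt_of_irreducible hm h20 hs₁ hT.1.irr (by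
    rintro _ ⟨x, rfl⟩
    exact ⟨1, by rw [one_smul]; exact hρ x⟩)
  have halt₂ := alt_of_irreducible ht h20 hs₂ (tensor_irred hirr (show 1 ≤ m by omega) fun g hg => by
    obtain ⟨A, C, a, b, hAC, -⟩ := hHt g hg
    exact ⟨A, C, hAC⟩) (by
    rintro C ⟨g, hg, A, hAC⟩
    obtain ⟨A', C', a, b, hAC', -, -, -, hC'⟩ := hHt g hg
    obtain ⟨s, hs, -, eC⟩ := kron_factor (hAC.symm.trans hAC') A'.ne_zero C'.ne_zero
    refine ⟨s⁻¹ * s⁻¹ * b, ?_⟩
    rw [bm_refl] at hC'
    rw [eC, Matrix.transpose_smul, smul_mul, smul_mul, mul_smul_comm, smul_smul, hC', smul_smul])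
  exact hskew ⟨by rw [hneg]; exact h₁, halt₁⟩ ⟨by rw [hneg]; exact h₂, halt₂⟩

/-- Symmetric matrices of the same odd size are congruent up to a scalar. -/
theorem sym_similar (hodd : Odd (Fintype.card F)) {k : ℕ} (hk : Odd k) {J₁ J₂ : Matrix (Fin k) (Fin k) F}
    (h₁ : FormData (RingEquiv.refl F) J₁ 1) (h₂ : FormData (RingEquiv.refl F) J₂ 1) :
    ∃ (T : GL (Fin k) F) (c : F), c ≠ 0 ∧ T.valᵀ * J₂ * T.val = c • J₁ := by
  classical
  have h2 := PrimeDim.two_ne_zero_of_odd hodd
  obtain ⟨m, hm⟩ := hk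
  have main : ∀ {J : Matrix (Fin k) (Fin k) F}, FormData τ₁ J 1 → ∃ l : F, l ≠ 0 ∧
      CfsgLib.Classical.OrthModels.Iso (fun v => sform τ₁ J v v) (fun v => l * Cfsg.quadFormOdd m F v) := by
    intro J hJ
    let Bl : LinearMap.BilinForm F (Fin k → F) :=
      LinearMap.mk₂ F (sform τ₁ J) (sform_add_left _ _) (fun c x y => by rw [sform_smul_left]; rfl)
        (sform_add_right _ _) (fun c x y => by rw [sform_smul_right]; rfl)
    let q : QuadraticForm F (Fin k → F) := LinearMap.BilinMap.toQuadraticMap Bl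
    have hq : ∀ v, q v = sform τ₁ J v v := fun v => rfl
    have hpol : ∀ u v, QuadraticMap.polar ⇑q u v = 2 * sform τ₁ J u v := fun u v => by
      have hs := hJ.swap u v
      rw [RingEquiv.refl_apply, one_mul] at hs
      simp only [QuadraticMap.polar, hq, sform_add_left, sform_add_right]
      linear_combination -hs
    have hnd : (QuadraticMap.polarBilin q).Nondegenerate := by
      constructor
      all_goals
        intro v hv
        refine hJ.eq_zero fun u => ?_
        have h := hv u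
        rw [QuadraticMap.polarBilin_apply_apply, hpol] at h
        have h' := (mul_eq_zero.1 h).resolve_left h2
        first
          | exact h'
          | exact hJ.eq_zero_comm h'
    obtain ⟨l, hl, hI⟩ := CfsgLib.Classical.OrthModels.classify_odd q hnd (m := m)
      (by rw [Module.finrank_fin_fun, hm])
    exact ⟨l, hl, hI⟩
  obtain ⟨l₁, hl₁, T₁, hT₁⟩ := main h₁
  obtain ⟨l₂, hl₂, T₂, hT₂⟩ := main h₂
  let L : (Fin k → F) ≃ₗ[F] (Fin k → F) := T₁.trans T₂.symm
  have hL : ∀ v, sform τ₁ J₂ (L v) (L v) = l₂ / l₁ * sform τ₁ J₁ v v := fun v => by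
    have e1 := hT₂ (L v)
    have e2 : l₁ * Cfsg.quadFormOdd m F (T₁ v) = sform τ₁ J₁ v v := hT₁ v
    simp only [L, LinearEquiv.trans_apply, LinearEquiv.apply_symm_apply] at e1 ⊢
    rw [← e1, ← e2]
    field_simp
  have hLpol : ∀ u v, sform τ₁ J₂ (L u) (L v) = l₂ / l₁ * sform τ₁ J₁ u v := fun u v => by
    have a1 := hL (u + v)
    have s1 := h₁.swap u v
    have s2 := h₂.swap (L u) (L v)
    rw [RingEquiv.refl_apply, one_mul] at s1 s2
    simp only [map_add, sform_add_left, sform_add_right] at a1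
    refine mul_left_cancel₀ h2 ?_
    linear_combination a1 - hL u - hL v + s2 - l₂ / l₁ * s1
  let M := LinearMap.toMatrix' L.toLinearMap
  have hM : IsUnit M := by
    refine ⟨⟨M, LinearMap.toMatrix' L.symm.toLinearMap, ?_, ?_⟩, rfl⟩
    · rw [← LinearMap.toMatrix'_comp]
      simp
    · rw [← LinearMap.toMatrix'_comp]
      simp
  obtain ⟨T, hT⟩ := hM
  refine ⟨T, l₂ / l₁, div_ne_zero hl₂ hl₁, sform_ext τ₁ _ fun u v => ?_⟩
  have e := sform_mulVec τ₁ J₂ T.val T.val u v
  rw [bm_refl] at e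
  rw [sform_smul_matrix, ← hLpol, ← e, hT]
  simp [M, LinearMap.toMatrix'_mulVec]

/-- Two equal symmetric factors of odd dimension form a tensor square, or a frame over three elements. -/
theorem symTensor_square (hB : Nondeg Q) {H : Subgroup (GL (Fin n) F)} (hH : H ≤ omegaGL ⇑Q)
    (hirr : ActsIrreducibly (matrixSet H)) (hodd : Odd (Fintype.card F)) {k : ℕ} (hk : Odd k) (hk3 : 3 ≤ k)
    {e : Fin n ≃ Fin k × Fin k} {P : GL (Fin n) F} {J₁ J₂ : Matrix (Fin k) (Fin k) F}
    (h₁ : FormData (RingEquiv.refl F) J₁ 1) (h₂ : FormData (RingEquiv.refl F) J₂ 1)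
    (hF : fcoord (RingEquiv.refl F) (ogram Q) e P = J₁ ⊗ₖ J₂) (hle : H ≤ tensorProductSubgroup k k e P) :
    OSymPowerCase Q H ∨ ODecompCase Q H := by
  classical
  have h2 := PrimeDim.two_ne_zero_of_odd hodd
  have hkn : k * k = n := by simpa using (Fintype.card_congr e).symm
  have hcoord : ∀ g ∈ H, ∃ (A C : GL (Fin k) F),
      coord e P (g : Matrix (Fin n) (Fin n) F) = (A : Matrix (Fin k) (Fin k) F) ⊗ₖ (C : Matrix (Fin k) (Fin k) F) := by
    intro g hg
    obtain ⟨_, ⟨w, ⟨A, C, hw⟩, rfl⟩, hgw⟩ := hle hg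
    refine ⟨A, C, ?_⟩
    rw [← hw, ← hgw]
    ext p q
    simp [coord, glReindex, mul_assoc]
  by_cases h33 : Fintype.card F = 3 ∧ k = 3
  · obtain ⟨hq, rfl⟩ := h33
    right
    have hq' : Nat.card F = 3 := by rw [Nat.card_eq_fintype_card, hq]
    obtain ⟨a, horth, hne, heq, hmono⟩ := CfsgLib.Classical.TensorMonoOrth.exists_frame hq' (symmetric_form h₁)
    obtain ⟨b, horth', hne', heq', hmono'⟩ := CfsgLib.Classical.TensorMonoOrth.exists_frame hq' (symmetric_form h₂)
    obtain ⟨pr, hpr⟩ : ∃ pr : Fin n → Fin 3 × Fin 3, pr = ⇑e := ⟨_, rfl⟩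
    let v : Fin n → (Fin n → F) := fun i => ten e P (a (e i).1) (b (e i).2)
    let D : Fin n → Submodule F (Fin n → F) := fun i => Submodule.span F {v i}
    have hvv : ∀ i j, sform τ₁ (ogram Q) (v i) (v j) =
        sform τ₁ J₁ (a (e i).1) (a (e j).1) * sform τ₁ J₂ (b (e i).2) (b (e j).2) := fun i j => sform_ten hF _ _ _ _
    have hv0 : ∀ i j, i ≠ j → sform τ₁ (ogram Q) (v i) (v j) = 0 := fun i j hij => by
      rw [hvv]
      by_cases h : (e i).1 = (e j).1
      · rw [horth' _ _ fun h' => hij (e.injective (Prod.ext h h')), mul_zero]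
      · rw [horth _ _ h, zero_mul]
    have hv1 : ∀ i, sform τ₁ (ogram Q) (v i) (v i) ≠ 0 := fun i => by
      rw [hvv]
      exact mul_ne_zero (hne _) (hne' _)
    have hvne : ∀ i, v i ≠ 0 := fun i h => hv1 i (by rw [h, sform_zero_left])
    have hli : LinearIndependent F v := by
      rw [Fintype.linearIndependent_iff]
      intro c hc l
      have hl : ∀ (s : Finset (Fin n)), sform τ₁ (ogram Q) (∑ i ∈ s, c i • v i) (v l) =
          ∑ i ∈ s, c i * sform τ₁ (ogram Q) (v i) (v l) := fun s => by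
        induction s using Finset.induction_on with
        | empty => simp [sform_zero_left]
        | @insert j s hj ih => rw [Finset.sum_insert hj, Finset.sum_insert hj, sform_add_left, sform_smul_left, ih]
      have h := hl Finset.univ
      rw [hc, sform_zero_left, Finset.sum_eq_single l (fun i _ hi => by rw [hv0 i l hi, mul_zero]) (by simp)] at h
      exact (mul_eq_zero.1 h.symm).resolve_right (hv1 l)
    have hspan : iSup D = ⊤ := by
      rw [← Submodule.span_range_eq_iSup]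
      exact hli.span_eq_top_of_card_eq_finrank' (by rw [Module.finrank_fin_fun, Fintype.card_fin])
    have hD := nondegDecomp_mk (orth_data hB) (D := D) (k := 1) (by omega) one_pos
      (fun i => finrank_span_singleton (hvne i)) (fun i j hij => by
        rintro x hx y hy
        obtain ⟨r, rfl⟩ := Submodule.mem_span_singleton.1 hx
        obtain ⟨s, rfl⟩ := Submodule.mem_span_singleton.1 hy
        rw [sform_smul_left, sform_smul_right, hv0 i j hij, mul_zero, mul_zero]) hspan
    have hstep : ∀ g ∈ H, ∀ i, ∃ j, (D i).map (Matrix.toLin' g.val) = D j := by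
      intro g hg i
      obtain ⟨A, C, hAC⟩ := hcoord g hg
      have h1 := fcoord_iso (e := e) (P := P) (omega_iso hB hH g hg)
      rw [show tcoord e P (g : Matrix (Fin n) (Fin n) F) = _ from hAC, hF, bm_refl,
        ← Matrix.kroneckerMap_transpose, ← Matrix.mul_kronecker_mul, ← Matrix.mul_kronecker_mul] at h1
      obtain ⟨c, hc, eA, eC⟩ := kron_factor h1 h₁.unit.ne_zero h₂.unit.ne_zero
      obtain ⟨j₁, l₁, hj₁⟩ := hmono (fun x => A.val *ᵥ a x) c hc (fun x y => by
        rw [sform_mulVec, bm_refl, eA, sform_smul_matrix]) (e i).1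
      obtain ⟨j₂, l₂, hj₂⟩ := hmono' (fun x => C.val *ᵥ b x) c⁻¹ (inv_ne_zero hc) (fun x y => by
        rw [sform_mulVec, bm_refl, eC, sform_smul_matrix]) (e i).2
      refine ⟨e.symm (j₁, j₂), ?_⟩
      have hgv : g.val *ᵥ v i = (l₁ * l₂) • v (e.symm (j₁, j₂)) := by
        simp only [v]
        rw [mulVec_ten hAC, hj₁, hj₂]
        simp only [Equiv.apply_symm_apply, ten, ← mulVec_smul]
        congr 1
        funext x
        simp only [Pi.smul_apply, smul_eq_mul]
        ring
      have hne0 : l₁ * l₂ ≠ 0 := fun h0 => hvne i (by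
        rw [h0, zero_smul] at hgv
        rw [← one_mulVec (v i), ← Units.inv_mul g, ← mulVec_mulVec, hgv, mulVec_zero])
      simp only [D]
      rw [Submodule.map_span, Set.image_singleton, Matrix.toLin'_apply, hgv,
        Submodule.span_singleton_smul_eq (Ne.isUnit hne0)]
    refine ndDecomp_orth hB hH hirr ⟨n, 1, D, mul_one n, hD, fun g hg => ?_⟩
    choose f hf using hstep g hg
    have hinjD : Function.Injective D := fun i j hij => by
      by_contra hne_ij
      obtain ⟨r, hr⟩ := Submodule.mem_span_singleton.1 (hij ▸ Submodule.mem_span_singleton_self (v i) : v i ∈ D j)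
      exact hv1 i (by
        conv_lhs => arg 4; rw [← hr]
        rw [sform_smul_right, hv0 i j hne_ij, mul_zero])
    have hfinj : Function.Injective f := fun i j hij => by
      apply hinjD
      apply Submodule.map_injective_of_injective (f := Matrix.toLin' g.val)
      · exact fun x y hxy => by
          simpa [Matrix.toLin'_apply, mulVec_mulVec] using congrArg (fun z => (g⁻¹).val *ᵥ z) hxy
      · rw [hf, hf, hij]
    exact ⟨Equiv.ofBijective f ⟨hfinj, (Finite.injective_iff_surjective.1 hfinj)⟩, fun i => hf i⟩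
  left
  obtain ⟨T, c, hc, hT⟩ := sym_similar hodd hk h₁ h₂
  let B' : GL (Fin k × Fin k) F :=
    { val := (1 : Matrix (Fin k) (Fin k) F) ⊗ₖ T.val
      inv := (1 : Matrix (Fin k) (Fin k) F) ⊗ₖ (T⁻¹).val
      val_inv := by rw [← Matrix.mul_kronecker_mul, Units.mul_inv, one_mul, one_kronecker_one]
      inv_val := by rw [← Matrix.mul_kronecker_mul, Units.inv_mul, one_mul, one_kronecker_one] }
  let P' : GL (Fin n) F := P * glReindex e.symm B'
  let e' : Fin n ≃ (Fin 2 → Fin k) := e.trans (finTwoArrowEquiv (Fin k)).symm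
  have hP' : P'.val = P.val * B'.val.submatrix e e := by
    simp only [P', Units.val_mul]
    congr 1
  have hB'1 : ∀ X : Matrix (Fin k × Fin k) (Fin k × Fin k) F,
      (X.submatrix e e).submatrix e.symm e.symm = X := fun X => by
    simp [Matrix.submatrix_submatrix]
  refine ⟨hirr, k, 2, e', P', J₁, c, hodd, hk3, le_refl 2, h33, by rw [pow_two]; exact hkn, h₁, hc, ?_,
    fun g hg => ?_⟩
  · have e1 : fcoord τ₁ (ogram Q) e P' = J₁ ⊗ₖ (c • J₁) := by
      have : fcoord τ₁ (ogram Q) e P' = B'.valᵀ * fcoord τ₁ (ogram Q) e P * B'.val := by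
        conv_rhs => rw [← hB'1 B'.val]
        simp only [fcoord, hP', bm_refl, Matrix.transpose_submatrix, Matrix.submatrix_mul_equiv]
        congr 1
        simp only [Matrix.transpose_mul, Matrix.transpose_submatrix, mul_assoc]
      rw [this, hF, ← Matrix.kroneckerMap_transpose, ← Matrix.mul_kronecker_mul, ← Matrix.mul_kronecker_mul,
        Matrix.transpose_one, one_mul, mul_one, hT]
    ext x y
    have h' := congrFun (congrFun e1 (x 0, x 1)) (y 0, y 1)
    simp only [Matrix.smul_apply, pureMat_apply, Fin.prod_univ_two, smul_eq_mul, Matrix.kroneckerMap_apply] at h' ⊢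
    rw [show fcoord τ₁ (ogram Q) e' P' x y = fcoord τ₁ (ogram Q) e P' (x 0, x 1) (y 0, y 1) from rfl, h']
    ring
  · obtain ⟨A, C, hAC⟩ := hcoord g hg
    refine mem_tensorWreath (gs := fun i => if i = 0 then A else T⁻¹ * C * T) (σ := 1) ?_
    rw [permMat_one, mul_one]
    have e1 : tcoord e P' g.val = A.val ⊗ₖ (T⁻¹ * C * T).val := by
      have hPi : (P'⁻¹).val = (B'⁻¹).val.submatrix e e * (P⁻¹).val := by
        simp only [P', _root_.mul_inv_rev, Units.val_mul, ← map_inv]
        congr 1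
      have : tcoord e P' g.val = (B'⁻¹).val * coord e P g.val * B'.val := by
        conv_rhs => rw [← hB'1 (B'⁻¹).val, ← hB'1 B'.val]
        simp only [tcoord, coord, hP', hPi, Matrix.submatrix_mul_equiv]
        congr 1
        simp only [mul_assoc]
      rw [this, hAC]
      show (1 : Matrix (Fin k) (Fin k) F) ⊗ₖ (T⁻¹).val * _ * ((1 : Matrix (Fin k) (Fin k) F) ⊗ₖ T.val) = _
      rw [← Matrix.mul_kronecker_mul, ← Matrix.mul_kronecker_mul, one_mul, mul_one]
      rfl
    ext x y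
    have h' := congrFun (congrFun e1 (x 0, x 1)) (y 0, y 1)
    rw [show tcoord e' P' g.val x y = tcoord e P' g.val (x 0, x 1) (y 0, y 1) from rfl, h']
    simp [pureMat_apply, Fin.prod_univ_two]

end CfsgLib.Asch
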