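import Mathlib
import Cfsg.Prelude.Def_GeometricClasses

set_option autoImplicit false
set_option linter.unusedSectionVars false

/-!
Over the field of two elements `GL_2 ⊗ GL_m` normalises an extension field, so it is not maximal.
-/

namespace CfsgLib.Classical.TensorNotMax

open Matrix
open scoped MatrixGroups Kronecker

variable {F : Type*} [Field F] [Fintype F]

theorem field_two (hq : Fintype.card F = 2) (x : F) : x = 0 ∨ x = 1 := by
  have := Nat.card_eq_two_iff' (0 : F)
  rw [Nat.card_eq_fintype_card] at this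
  obtain ⟨y, -, hy⟩ := this.1 hq
  by_cases h : x = 0
  · exact Or.inl h
  · exact Or.inr ((hy x h).trans (hy 1 one_ne_zero).symm)

theorem two_zero (hq : Fintype.card F = 2) : (2 : F) = 0 := by
  have h := Nat.cast_card_eq_zero F
  rw [hq] at h
  exact_mod_cast h

variable {m : ℕ}

/-- A generator of the field of four elements inside the two by two matrices. -/
def om : Matrix (Fin 2) (Fin 2) F := !![0, 1; 1, 1]

/-- Its Kronecker product with the identity. -/
def Y (m : ℕ) (F : Type*) [Field F] : Matrix (Fin 2 × Fin m) (Fin 2 × Fin m) F := om ⊗ₖ 1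

/-- The matrices normalising the field generated by `Y`. -/
def fieldNorm (hq : Fintype.card F = 2) : Subgroup (GL (Fin 2 × Fin m) F) where
  carrier := {g | ∀ b : F, ∃ b' : F, g.1 * (Y m F + b • 1) = (Y m F + b' • 1) * g.1}
  one_mem' b := ⟨b, by simp⟩
  mul_mem' {g h} hg hh b := by
    obtain ⟨b', hb'⟩ := hh b
    obtain ⟨b'', hb''⟩ := hg b'
    refine ⟨b'', ?_⟩
    rw [Units.val_mul, mul_assoc, hb', ← mul_assoc, hb'', mul_assoc]
  inv_mem' {g} hg b := by
    have two := two_zero hq
    obtain ⟨c, hc⟩ := hg 0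
    refine ⟨b + c, ?_⟩
    have e0 : g.1 * (Y m F + (b + c) • 1) = (Y m F + b • 1) * g.1 := by
      have e : Y m F + (b + c) • 1 = (Y m F + (0 : F) • 1) + (b + c) • 1 := by simp
      rw [e, mul_add, hc, mul_smul_comm, mul_one, add_mul, add_mul, smul_mul_assoc, smul_mul_assoc,
        one_mul, add_assoc, ← add_smul, show c + (b + c) = b by linear_combination c * two]
    calc (g⁻¹).1 * (Y m F + b • 1) = (g⁻¹).1 * ((Y m F + b • 1) * g.1) * (g⁻¹).1 := by
          rw [mul_assoc (g⁻¹).1, mul_assoc (Y m F + b • 1), Units.mul_inv, mul_one]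
      _ = (g⁻¹).1 * (g.1 * (Y m F + (b + c) • 1)) * (g⁻¹).1 := by rw [e0]
      _ = _ := by rw [← mul_assoc, Units.inv_mul, one_mul]

/-- The Kronecker products normalise the field. -/
theorem kronecker_le (hq : Fintype.card F = 2) (n₂ : ℕ) :
    Cfsg.Geo.kroneckerSubgroup 2 n₂ F ≤ fieldNorm hq := by
  have two := two_zero hq
  rintro g ⟨a, b, hab⟩ c
  obtain ⟨c', hc'⟩ : ∃ c' : F, a.1 * (om + c • 1) = (om + c' • 1) * a.1 := by
    have hdet : a.1.det ≠ 0 := ((Matrix.isUnit_iff_isUnit_det _).1 a.isUnit).ne_zero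
    rw [Matrix.det_fin_two] at hdet
    rcases field_two hq c with rfl | rfl <;>
    rcases field_two hq (a.1 0 0) with h00 | h00 <;>
    rcases field_two hq (a.1 0 1) with h01 | h01 <;>
    rcases field_two hq (a.1 1 0) with h10 | h10 <;>
    rcases field_two hq (a.1 1 1) with h11 | h11 <;>
    rw [Matrix.eta_fin_two a.1, h00, h01, h10, h11] <;>
    first
      | (exfalso; apply hdet; rw [h00, h01, h10, h11]; linear_combination (0 : F))
      | (refine ⟨0, ?_⟩; ext i j; fin_cases i <;> fin_cases j <;>
          simp [om, Matrix.mul_apply, Fin.sum_univ_two] <;> linear_combination (0 : F) - (0 : F))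
      | (refine ⟨0, ?_⟩; ext i j; fin_cases i <;> fin_cases j <;>
          simp [om, Matrix.mul_apply, Fin.sum_univ_two] <;>
          first | linear_combination two | linear_combination -two)
      | (refine ⟨1, ?_⟩; ext i j; fin_cases i <;> fin_cases j <;>
          simp [om, Matrix.mul_apply, Fin.sum_univ_two] <;>
          first | linear_combination (0 : F) | linear_combination two | linear_combination -two)
  refine ⟨c', ?_⟩
  have hY : ∀ d : F, Y n₂ F + d • 1 = (om + d • 1) ⊗ₖ (1 : Matrix (Fin n₂) (Fin n₂) F) := by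
    intro d
    rw [add_kronecker, smul_kronecker, one_kronecker_one]
    rfl
  rw [hY, hY, hab, ← mul_kronecker_mul, ← mul_kronecker_mul, hc', mul_one, one_mul]

theorem exists_between (hq : Fintype.card F = 2) {n : ℕ} (hn : 13 ≤ n) (n₂ : ℕ)
    (e : Fin n ≃ Fin 2 × Fin n₂) (P : GL (Fin n) F) :
    ∃ K : Subgroup (GL (Fin n) F),
      Cfsg.Geo.tensorProductSubgroup 2 n₂ e P ⊓ Cfsg.Geo.specialLinear (Fin n) F < K ∧
        K < Cfsg.Geo.specialLinear (Fin n) F := by
  classical
  have htop : Cfsg.Geo.specialLinear (Fin n) F = ⊤ := by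
    refine eq_top_iff.2 fun g _ => MonoidHom.mem_ker.2 (Units.ext ?_)
    exact (field_two hq _).resolve_left (Units.ne_zero _)
  rw [htop, inf_top_eq]
  let ψ : GL (Fin 2 × Fin n₂) F ≃* GL (Fin n) F :=
    (Cfsg.Geo.glReindex e.symm).trans (MulAut.conj P)
  have hT : Cfsg.Geo.tensorProductSubgroup 2 n₂ e P =
      (Cfsg.Geo.kroneckerSubgroup 2 n₂ F).map ψ.toMonoidHom := by
    rw [Cfsg.Geo.tensorProductSubgroup, Subgroup.map_map]
    rfl
  have hn₂ : 2 ≤ n₂ := by
    have := Fintype.card_congr e
    rw [Fintype.card_fin, Fintype.card_prod, Fintype.card_fin, Fintype.card_fin] at this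
    omega
  have two := two_zero hq
  refine ⟨(fieldNorm hq).map ψ.toMonoidHom, ?_, ?_⟩
  · rw [hT, Subgroup.map_lt_map_iff_of_injective ψ.injective]
    refine lt_of_le_not_ge ?_ fun hge => ?_
    · exact kronecker_le hq n₂
    · let i : Fin n₂ := ⟨0, by omega⟩
      let j : Fin n₂ := ⟨1, by omega⟩
      have hij : i ≠ j := by simp [i, j]
      let S : Matrix (Fin n₂) (Fin n₂) F := Matrix.single i j 1
      let E : Matrix (Fin 2 × Fin n₂) (Fin 2 × Fin n₂) F := 1 + om ⊗ₖ S
      have hS : S * S = 0 := by simp [S, hij.symm]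
      have hEE : E * E = 1 := by
        simp only [E, add_mul, mul_add, one_mul, mul_one, ← mul_kronecker_mul, hS, kronecker_zero,
          add_zero, add_assoc]
        rw [← two_smul F (om ⊗ₖ S), two, zero_smul, add_zero]
      let g : GL (Fin 2 × Fin n₂) F := ⟨E, E, hEE, hEE⟩
      have hg : g ∈ fieldNorm hq := fun b => ⟨b, by
        show E * _ = _ * E
        simp only [E, Y, add_mul, mul_add, one_mul, mul_one, ← mul_kronecker_mul,
          mul_smul_comm, smul_mul_assoc, smul_add]
        abel⟩
      obtain ⟨a, b, hab⟩ := hge hg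
      have h1 := congrFun (congrFun hab (0, i)) (0, i)
      have h2 := congrFun (congrFun hab (0, i)) (1, j)
      have h3 := congrFun (congrFun hab (0, i)) (1, i)
      simp [g, E, S, om, kroneckerMap_apply, hij, hij.symm, Matrix.one_apply] at h1 h2 h3
      rcases h3 with h3 | h3
      · exact one_ne_zero (α := F) (h2.trans (by rw [h3, zero_mul]))
      · exact one_ne_zero (α := F) (h1.trans (by rw [h3, mul_zero]))
  · rw [← Subgroup.map_top_of_surjective ψ.toMonoidHom ψ.surjective,
      Subgroup.map_lt_map_iff_of_injective ψ.injective]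
    refine lt_top_iff_ne_top.2 fun htop' => ?_
    let i : Fin n₂ := ⟨0, by omega⟩
    let j : Fin n₂ := ⟨1, by omega⟩
    have hij : i ≠ j := by simp [i, j]
    let S : Matrix (Fin 2 × Fin n₂) (Fin 2 × Fin n₂) F := Matrix.single (0, i) (1, i) 1
    have hAA : (1 + S) * (1 + S) = 1 := by
      have hS : S * S = 0 := by simp [S]
      simp only [add_mul, mul_add, one_mul, mul_one, hS, add_zero, add_assoc]
      rw [← two_smul F S, two, zero_smul, add_zero]
    obtain ⟨c, hc⟩ := (htop' ▸ Subgroup.mem_top (⟨1 + S, 1 + S, hAA, hAA⟩ :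
      GL (Fin 2 × Fin n₂) F) : _ ∈ fieldNorm hq) 0
    have h1 := congrFun (congrFun hc (0, j)) (0, j)
    have h2 := congrFun (congrFun hc (1, i)) (1, i)
    simp [Y, S, om, Matrix.mul_apply, Fintype.sum_prod_type, Fin.sum_univ_two, kroneckerMap_apply,
      Matrix.one_apply, Matrix.single_apply, hij, hij.symm] at h1 h2
    subst h1
    exact one_ne_zero (α := F) (by linear_combination h2)

end CfsgLib.Classical.TensorNotMax
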