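import Cfsg.Agent.Lib.Classical.AschNotLe
import Cfsg.Agent.Lib.Classical.TensorNotMax

set_option autoImplicit false
set_option linter.unusedSectionVars false

/-!
Maximal subgroups of the special linear group, with the small exceptions of the imprimitive and tensor classes.
-/

namespace CfsgLib.Asch

open Matrix
open Cfsg.Geo (matrixSet scalars specialLinear ActsIrreducibly tensorProductSubgroup tensorWreathSubgroup
  IsFieldSubalgebra subalgebraNormalizer decompositionStabilizer IsMDecomposition)
open CfsgLib.PrimeDim (Inv Nml stdForm)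
open scoped MatrixGroups Kronecker

variable {F : Type*} [Field F] {n : ℕ}

theorem card_two_or [Fintype F] (h : Fintype.card F = 2) (x : F) : x = 0 ∨ x = 1 :=
  CfsgLib.Classical.TensorNotMax.field_two h x

/-- The coordinates in a basis of blocks. -/
theorem block_coords [Fintype F] {H : Subgroup (GL (Fin n) F)} {t m : ℕ} {D : Fin t → Submodule F (Fin n → F)}
    (hD : IsMDecomposition m D) (hH : H ≤ decompositionStabilizer D) :
    ∃ (e : Fin n ≃ Fin t × Fin m) (P : GL (Fin n) F),
      (∀ i (a : Fin n), (e a).1 = i → (P : Matrix (Fin n) (Fin n) F) *ᵥ Pi.single a 1 ∈ D i) ∧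
      ∀ h ∈ H, ∃ σ : Equiv.Perm (Fin t), ∀ a b, tcoord e P (h : Matrix (Fin n) (Fin n) F) a b ≠ 0 → a.1 = σ b.1 := by
  classical
  obtain ⟨B, hB⟩ := CfsgLib.Classical.DecompMax.exists_basis hD
  have hcard : Fintype.card (Fin t × Fin m) = n := by
    have := Module.finrank_eq_card_basis B
    rw [Module.finrank_fin_fun] at this
    exact this.symm
  let e : Fin n ≃ Fin t × Fin m := (Fintype.equivFinOfCardEq hcard).symm
  let B' : Module.Basis (Fin n) F (Fin n → F) := B.reindex e.symm
  let P₀ : Matrix (Fin n) (Fin n) F := Matrix.of fun i j => B' j i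
  have hcol : ∀ j, P₀ *ᵥ Pi.single j 1 = B' j := fun j => by rw [mulVec_single_one]; rfl
  obtain ⟨P, hP⟩ : IsUnit P₀ := by
    rw [← Matrix.linearIndependent_cols_iff_isUnit]
    exact B'.linearIndependent
  have hrepr : ∀ w, (P : Matrix (Fin n) (Fin n) F) *ᵥ (fun j => B'.repr w j) = w := fun w => by
    conv_rhs => rw [← B'.sum_repr w]
    rw [hP]
    funext i
    simp only [P₀, mulVec, dotProduct, Matrix.of_apply, Finset.sum_apply, Pi.smul_apply, smul_eq_mul]
    exact Finset.sum_congr rfl fun j _ => mul_comm _ _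
  refine ⟨e, P, fun i a ha => ?_, fun h hh => ?_⟩
  · rw [hP, hcol, hB]
    intro c hc
    simp only [B', Module.Basis.reindex_apply, Equiv.symm_symm, B.repr_self]
    rw [Finsupp.single_apply, if_neg]
    intro e'
    exact hc (by rw [← e']; exact ha)
  · obtain ⟨σ, hσ⟩ := hH hh
    refine ⟨σ, fun a b hab => ?_⟩
    by_contra hne
    apply hab
    have hval : ∀ c, B'.repr ((h : Matrix (Fin n) (Fin n) F) *ᵥ B' (e.symm b)) c =
        ((↑P⁻¹ : Matrix (Fin n) (Fin n) F) * (h : Matrix (Fin n) (Fin n) F) * (P : Matrix (Fin n) (Fin n) F)) c (e.symm b) := by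
      intro c
      have h1 : (fun j => B'.repr ((h : Matrix (Fin n) (Fin n) F) *ᵥ B' (e.symm b)) j) =
          ((↑P⁻¹ : Matrix (Fin n) (Fin n) F) * (h : Matrix (Fin n) (Fin n) F) * (P : Matrix (Fin n) (Fin n) F)) *ᵥ Pi.single (e.symm b) 1 := by
        apply (PrimeDim.mulVec_injective P)
        simp only [Matrix.toLin'_apply]
        rw [hrepr, ← mulVec_mulVec, ← mulVec_mulVec, PrimeDim.mulVec_inv_cancel, hP, hcol]
      rw [congrFun h1 c, mulVec_single_one]
      rfl
    rw [tcoord, Matrix.submatrix_apply, ← hval]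
    have hmem : B' (e.symm b) ∈ D b.1 := (hB _ _).2 fun c hc => by
      simp only [B', Module.Basis.reindex_apply, Equiv.symm_symm, Equiv.apply_symm_apply, B.repr_self]
      rw [Finsupp.single_apply, if_neg]
      exact fun e' => hc (by rw [e'])
    have himg : (h : Matrix (Fin n) (Fin n) F) *ᵥ B' (e.symm b) ∈ D (σ b.1) :=
      hσ b.1 ▸ ⟨_, hmem, Matrix.toLin'_apply _ _⟩
    have := (hB _ _).1 himg a hne
    simpa [B', Module.Basis.repr_reindex_apply] using this

/-- Pairs of lines over at most three elements give a symplectic form. -/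
theorem planes_symp [Fintype F] {H : Subgroup (GL (Fin n) F)} (hH : H ≤ specialLinear (Fin n) F) {t : ℕ}
    {D : Fin t → Submodule F (Fin n → F)} (hD : IsMDecomposition 2 D) (hle : H ≤ decompositionStabilizer D)
    (hq : Fintype.card F = 2 ∨ (Fintype.card F = 3 ∧ t = 2)) : SympCase H := by
  classical
  obtain ⟨e, P, -, hblk⟩ := block_coords hD hle
  set B₀ : Matrix (Fin t × Fin 2) (Fin t × Fin 2) F := (1 : Matrix (Fin t) (Fin t) F) ⊗ₖ jTwo F with hB₀
  set Q : Matrix (Fin n) (Fin n) F := (↑P⁻¹ : Matrix (Fin n) (Fin n) F) with hQ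
  set B : Matrix (Fin n) (Fin n) F := Q.transpose * B₀.submatrix e e * Q with hB
  have hcoord : ∀ h ∈ H, ∃ c : Fˣ, (tcoord e P (h : Matrix (Fin n) (Fin n) F)).transpose * B₀ *
      tcoord e P (h : Matrix (Fin n) (Fin n) F) = (c : F) • B₀ := by
    intro h hh
    obtain ⟨σ, hσ⟩ := hblk h hh
    set G := tcoord e P (h : Matrix (Fin n) (Fin n) F) with hG
    let A : Fin t → Matrix (Fin 2) (Fin 2) F := fun j => Matrix.of fun a b => G (σ j, a) (j, b)
    have hGapply : ∀ p q, G p q = if p.1 = σ q.1 then A q.1 p.2 q.2 else 0 := by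
      intro p q
      split
      · next hpq => simp only [A, Matrix.of_apply]; rw [← hpq]
      · next hpq =>
        by_contra h0
        exact hpq (hσ p q h0)
    have hcongr : ∀ p q, (G.transpose * B₀ * G) p q = if p.1 = q.1 then (A p.1).det * jTwo F p.2 q.2 else 0 := by
      intro p q
      have e1 : (G.transpose * B₀ * G) p q =
          ∑ c, ∑ a, ∑ b, G (c, a) p * jTwo F a b * G (c, b) q := by
        have hleft : ∀ c b, (G.transpose * B₀) p (c, b) = ∑ a, G (c, a) p * jTwo F a b := by
          intro c b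
          rw [Matrix.mul_apply, Fintype.sum_prod_type, Finset.sum_eq_single c]
          · exact Finset.sum_congr rfl fun a _ => by simp [hB₀]
          · intro c' _ hc'
            simp [hB₀, hc']
          · simp
        rw [Matrix.mul_apply, Fintype.sum_prod_type]
        refine Finset.sum_congr rfl fun c _ => ?_
        rw [Finset.sum_comm]
        exact Finset.sum_congr rfl fun b _ => by rw [hleft, Finset.sum_mul]
      rw [e1]
      by_cases hpq : p.1 = q.1
      · rw [if_pos hpq, Finset.sum_eq_single (σ p.1)]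
        · simp only [hGapply, ← hpq, if_true]
          have := congrFun (congrFun (jTwo_congr (A p.1)) p.2) q.2
          simp only [Matrix.mul_apply, Matrix.transpose_apply, Finset.sum_mul, Matrix.smul_apply, smul_eq_mul] at this
          rw [← this, Finset.sum_comm]
        · intro c _ hc
          simp [hGapply, hc]
        · simp
      · rw [if_neg hpq]
        refine Finset.sum_eq_zero fun c _ => Finset.sum_eq_zero fun a _ => Finset.sum_eq_zero fun b _ => ?_
        by_cases hc : c = σ p.1
        · rw [hGapply (c, b), if_neg (fun e' => hpq (σ.injective (hc ▸ e'))), mul_zero]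
        · rw [hGapply (c, a), if_neg hc, zero_mul, zero_mul]
    have hdetG : G.det = 1 := by
      rw [hG, tcoord, Matrix.det_submatrix_equiv_self, Matrix.det_units_conj',
        PrimeDim.det_eq_one hH hh]
    have hB₀det : B₀.det = 1 := by
      rw [hB₀, Matrix.det_kronecker, Matrix.det_one, one_pow, one_mul]
      simp [jTwo, Matrix.det_fin_two]
    have hne : ∀ j, (A j).det ≠ 0 := by
      intro j h0
      have hrow : ∀ a q, (G.transpose * B₀ * G) (j, a) q = 0 := fun a q => by
        rw [hcongr]
        split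
        · rw [h0, zero_mul]
        · rfl
      have : (G.transpose * B₀ * G).det = 0 := Matrix.det_eq_zero_of_row_eq_zero (j, (0 : Fin 2)) fun q => hrow 0 q
      simp [Matrix.det_transpose, hdetG, hB₀det] at this
    obtain ⟨c, hc⟩ : ∃ c : F, c ≠ 0 ∧ ∀ j, (A j).det = c := by
      rcases hq with h2 | ⟨h3, ht⟩
      · exact ⟨1, one_ne_zero, fun j => (card_two_or h2 _).resolve_left (hne j)⟩
      · subst ht
        have hsq : ∀ x : F, x ≠ 0 → x * x = 1 := fun x hx => by
          have := FiniteField.pow_card_sub_one_eq_one x hx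
          rw [h3] at this
          rw [← pow_two]
          exact this
        -- the determinant of the block matrix
        have hprod : (A 0).det * (A 1).det = 1 := by
          let π : Equiv.Perm (Fin 2 × Fin 2) := Equiv.prodCongr σ (Equiv.refl _)
          let M : Matrix (Fin 2 × Fin 2) (Fin 2 × Fin 2) F :=
            (Matrix.blockDiagonal A).submatrix (fun p => (p.2, p.1)) fun p => (p.2, p.1)
          have hM : M = G.submatrix π id := by
            ext p q
            simp only [M, π, Matrix.submatrix_apply, Matrix.blockDiagonal_apply, hGapply, Equiv.prodCongr_apply,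
              Prod.map_fst, Prod.map_snd, Equiv.coe_refl, id_eq, EmbeddingLike.apply_eq_iff_eq]
            split
            · next h => rw [h]
            · rfl
          have hsign : Equiv.Perm.sign π = 1 := by
            have : ∀ σ : Equiv.Perm (Fin 2), Equiv.Perm.sign (Equiv.prodCongr σ (Equiv.refl (Fin 2))) = 1 := by decide
            exact this σ
          have h1 : M.det = (Matrix.blockDiagonal A).det :=
            Matrix.det_submatrix_equiv_self (Equiv.prodComm _ _) _
          rw [hM, Matrix.det_permute, hsign, hdetG, Matrix.det_blockDiagonal, Fin.prod_univ_two] at h1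
          simpa using h1.symm
        refine ⟨(A 0).det, hne 0, fun j => ?_⟩
        have h01 : (A 1).det = (A 0).det := by
          calc (A 1).det = (A 0).det * (A 0).det * (A 1).det := by rw [hsq _ (hne 0), one_mul]
            _ = _ := by rw [mul_assoc, hprod, mul_one]
        fin_cases j
        · rfl
        · exact h01
    refine ⟨Units.mk0 c hc.1, Matrix.ext fun p q => ?_⟩
    rw [hcongr, hc.2, Matrix.smul_apply, hB₀, Matrix.kroneckerMap_apply, Matrix.one_apply, Units.val_mk0,
      smul_eq_mul]
    split <;> simp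
  have hsim : H ≤ Cfsg.Geo.similarityGroup (matForm B) := by
    intro h hh
    obtain ⟨c, hc⟩ := hcoord h hh
    refine ⟨c, fun u v => ?_⟩
    rw [matForm_mulVec]
    have key : (h : Matrix (Fin n) (Fin n) F).transpose * B * (h : Matrix (Fin n) (Fin n) F) = (c : F) • B := by
      have e2 : (tcoord e P (h : Matrix (Fin n) (Fin n) F)).submatrix e e = Q * h * (P : Matrix (Fin n) (Fin n) F) := by
        rw [tcoord, Matrix.submatrix_submatrix, hQ]; simp
      have h' := congrArg (fun X => X.submatrix e e) hc
      simp only [← Matrix.submatrix_mul_equiv _ _ e e e, ← Matrix.transpose_submatrix, e2, Matrix.submatrix_smul,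
        Pi.smul_apply] at h'
      have h'' := congrArg (fun X => Q.transpose * X * Q) h'
      simp only [Matrix.transpose_mul, mul_smul_comm, smul_mul_assoc] at h''
      rw [hB, ← h'']
      have eP : (P : Matrix (Fin n) (Fin n) F) * Q = 1 := by rw [hQ, Units.mul_inv]
      have eP' : Q.transpose * (P : Matrix (Fin n) (Fin n) F).transpose = 1 := by
        rw [← Matrix.transpose_mul, eP, Matrix.transpose_one]
      symm
      calc _ = (Q.transpose * (P : Matrix (Fin n) (Fin n) F).transpose) * (h : Matrix (Fin n) (Fin n) F).transpose *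
            (Q.transpose * B₀.submatrix e e * Q) * (h : Matrix (Fin n) (Fin n) F) * ((P : Matrix (Fin n) (Fin n) F) * Q) := by
            simp only [mul_assoc]
        _ = _ := by rw [eP, eP', one_mul, mul_one]
    rw [key]
    simp [matForm, smul_mulVec]
  have hJt : B₀.transpose = -B₀ := by
    rw [hB₀, ← Matrix.kroneckerMap_transpose, Matrix.transpose_one, jTwo_transpose]
    ext p q
    simp [Matrix.one_apply]
  have hBt : B.transpose = -B := by
    rw [hB, Matrix.transpose_mul, Matrix.transpose_mul, Matrix.transpose_transpose, Matrix.transpose_submatrix, hJt,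
      mul_assoc]
    ext i j
    simp [Matrix.mul_apply]
  have hBu : IsUnit B := by
    have h2 : IsUnit (B₀.submatrix e e) := by
      rw [Matrix.isUnit_iff_isUnit_det, Matrix.det_submatrix_equiv_self, hB₀, Matrix.det_kronecker]
      simp [jTwo, Matrix.det_fin_two]
    have h3 : IsUnit Q.transpose := by
      rw [Matrix.isUnit_iff_isUnit_det, Matrix.det_transpose]
      exact (Matrix.isUnit_iff_isUnit_det _).1 P⁻¹.isUnit
    exact (h3.mul h2).mul P⁻¹.isUnit
  refine sympCase_of_matrix hBu (fun i => ?_) hBt hsim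
  have e1 : B i i = matForm (B₀.submatrix e e) (Q *ᵥ Pi.single i 1) (Q *ᵥ Pi.single i 1) := by
    rw [matForm_mulVec, ← hB]
    simp [matForm, single_dotProduct]
  rw [e1]
  refine matForm_alternating (fun a => ?_) (by rw [Matrix.transpose_submatrix, hJt]; rfl) _
  rw [Matrix.submatrix_apply, hB₀, Matrix.kroneckerMap_apply]
  generalize (e a).2 = b
  fin_cases b <;> simp [jTwo]

/-- Lines over at most four elements give a form. -/
theorem lines_form [Fintype F] (hn : 3 ≤ n) {H : Subgroup (GL (Fin n) F)} (hirr : ActsIrreducibly (matrixSet H))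
    {D : Fin n → Submodule F (Fin n → F)} (hD : IsMDecomposition 1 D) (hle : H ≤ decompositionStabilizer D)
    (hq : Fintype.card F ≤ 4) : QuadCase H ∨ UnitaryCase H := by
  classical
  haveI : Nonempty (Fin n) := ⟨⟨0, by omega⟩⟩
  have hd : ∀ i, ∃ v ∈ D i, v ≠ 0 := fun i => Submodule.exists_mem_ne_zero_of_ne_bot fun e => by
    have := hD.finrank_eq i
    rw [e, finrank_bot] at this
    exact zero_ne_one this
  choose v hv hv0 using hd
  have hli : LinearIndependent F v := iSupIndep.linearIndependent _ hD.indep hv hv0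
  let B := basisOfLinearIndependentOfCardEqFinrank hli (by simp)
  have hB : ∀ i, B i = v i := fun i => by simp [B]
  have hmono : ∀ h ∈ H, ∃ (π : Equiv.Perm (Fin n)) (a : Fin n → F),
      (∀ i, a i ≠ 0) ∧ ∀ i, (h : Matrix (Fin n) (Fin n) F) *ᵥ B i = a i • B (π i) := by
    intro h hh
    obtain ⟨π, hπ⟩ := hle hh
    have : ∀ i, ∃ a : F, a • v (π i) = (h : Matrix (Fin n) (Fin n) F) *ᵥ v i := by
      intro i
      have hm : (h : Matrix (Fin n) (Fin n) F) *ᵥ v i ∈ D (π i) := hπ i ▸ ⟨v i, hv i, Matrix.toLin'_apply _ _⟩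
      obtain ⟨a, ha⟩ := (finrank_eq_one_iff_of_nonzero' (⟨v (π i), hv (π i)⟩ : D (π i))
        fun e => hv0 _ (congrArg Subtype.val e)).1 (hD.finrank_eq _) ⟨_, hm⟩
      exact ⟨a, congrArg Subtype.val ha⟩
    choose a ha using this
    refine ⟨π, a, fun i e => hv0 i ?_, fun i => by rw [hB, hB, ha]⟩
    have h0 := ha i
    rw [e, zero_smul] at h0
    rw [← PrimeDim.inv_mulVec_cancel h (v i), ← h0, mulVec_zero]
  have h2 : 2 ≤ Fintype.card F := Fintype.one_lt_card
  obtain h | h | h : Fintype.card F = 2 ∨ Fintype.card F = 3 ∨ Fintype.card F = 4 := by omega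
  · exfalso
    set s := ∑ i, B i with hs
    have hfix : ∀ g ∈ H, (g : Matrix (Fin n) (Fin n) F) *ᵥ s = s := by
      intro g hg
      obtain ⟨π, a, ha0, ha⟩ := hmono g hg
      have ha1 : ∀ i, a i = 1 := fun i => (card_two_or h (a i)).resolve_left (ha0 i)
      rw [hs, mulVec_sum]
      simp only [ha, ha1, one_smul]
      exact Equiv.sum_comp π fun i => B i
    have hs0 : s ≠ 0 := by
      intro e
      exact one_ne_zero
        (Fintype.linearIndependent_iff.1 B.linearIndependent (fun _ => 1) (by simpa [hs] using e) ⟨0, by omega⟩)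
    rcases PrimeDim.irreducible_iff.1 hirr (Submodule.span F {s}) (by
      rintro _ ⟨g, hg, rfl⟩ w hw
      obtain ⟨c, rfl⟩ := Submodule.mem_span_singleton.1 hw
      rw [mulVec_smul, hfix g hg]
      exact Submodule.smul_mem _ _ (Submodule.mem_span_singleton_self s)) with e | e
    · exact hs0 (Submodule.span_singleton_eq_bot.1 e)
    · have h1 := finrank_span_singleton (K := F) hs0
      rw [e, finrank_top, Module.finrank_fin_fun] at h1
      omega
  · have hodd : Odd (Fintype.card F) := by rw [h]; exact ⟨1, rfl⟩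
    refine Or.inl ⟨_, PrimeDim.stdForm_quad B (PrimeDim.two_ne_zero_of_odd hodd), hodd, fun g hg => ?_⟩
    obtain ⟨π, a, ha0, ha⟩ := hmono g hg
    refine ⟨1, fun w => ?_⟩
    rw [Units.val_one, one_mul]
    refine PrimeDim.stdForm_monomial B _ ha (fun i => ?_) w w
    have := FiniteField.pow_card_sub_one_eq_one (a i) (ha0 i)
    rw [h] at this
    rw [RingEquiv.refl_apply, ← pow_two]
    exact this
  · haveI : CharP F 2 := by
      obtain ⟨p, hp⟩ := CharP.exists F
      obtain ⟨k, hpp, hk⟩ := FiniteField.card F p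
      rw [h] at hk
      have h2' : p ∣ 2 ^ 2 := by rw [show (2 : ℕ) ^ 2 = 4 from rfl, hk]; exact dvd_pow_self p k.ne_zero
      rwa [(Nat.prime_dvd_prime_iff_eq hpp Nat.prime_two).1 (hpp.dvd_of_dvd_pow h2')] at hp
    obtain ⟨σ, hne, hinv, hσ⟩ := PrimeDim.exists_involution (F := F) (p := 2) (m := 1) Nat.prime_two one_ne_zero
      (by rw [h]; rfl)
    refine Or.inr ⟨σ, _, PrimeDim.stdForm_unitary B σ hne hinv, fun g hg => ?_⟩
    obtain ⟨π, a, ha0, ha⟩ := hmono g hg
    refine ⟨1, fun u w => ?_⟩
    rw [Units.val_one, one_mul]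
    refine PrimeDim.stdForm_monomial B _ ha (fun i => ?_) u w
    have := FiniteField.pow_card_sub_one_eq_one (a i) (ha0 i)
    rw [h] at this
    rw [hσ, ← pow_succ']
    exact this

/-- Over two elements a tensor product with a plane normalises a quadratic field. -/
theorem tensor_two_field [Fintype F] (hq : Fintype.card F = 2) {H : Subgroup (GL (Fin n) F)} {t : ℕ} (ht : 1 ≤ t)
    {e : Fin n ≃ Fin 2 × Fin t} {P : GL (Fin n) F} (hle : H ≤ tensorProductSubgroup 2 t e P) : FieldExtCase H := by
  classical
  set om : Matrix (Fin 2) (Fin 2) F := CfsgLib.Classical.TensorNotMax.om with hom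
  have two := CfsgLib.Classical.TensorNotMax.two_zero (F := F) hq
  have hom2 : om * om = om + 1 := by
    ext i j
    fin_cases i <;> fin_cases j <;>
      simp [hom, CfsgLib.Classical.TensorNotMax.om, Matrix.mul_apply, Fin.sum_univ_two] <;>
      linear_combination (0 : F)
  let K₀ : Subalgebra F (Matrix (Fin 2) (Fin 2) F) :=
    { carrier := {X | ∃ c d : F, X = c • 1 + d • om}
      mul_mem' := by
        rintro _ _ ⟨c, d, rfl⟩ ⟨c', d', rfl⟩
        refine ⟨c * c' + d * d', c * d' + d * c' + d * d', ?_⟩
        simp only [add_mul, mul_add, smul_mul_assoc, mul_smul_comm, one_mul, mul_one, smul_smul, hom2, smul_add]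
        module
      one_mem' := ⟨1, 0, by simp⟩
      add_mem' := by
        rintro _ _ ⟨c, d, rfl⟩ ⟨c', d', rfl⟩
        exact ⟨c + c', d + d', by module⟩
      zero_mem' := ⟨0, 0, by simp⟩
      algebraMap_mem' := fun r => ⟨r, 0, by simp [Algebra.algebraMap_eq_smul_one]⟩ }
  have hK0 : K₀.toSubmodule = Submodule.span F {1, om} := by
    ext X
    rw [Submodule.mem_span_pair]
    exact ⟨fun ⟨c, d, h⟩ => ⟨c, d, h.symm⟩, fun ⟨c, d, h⟩ => ⟨c, d, h.symm⟩⟩
  have hli : ∀ c d : F, c • (1 : Matrix (Fin 2) (Fin 2) F) + d • om = 0 → c = 0 ∧ d = 0 := by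
    intro c d h
    have h00 := congrFun (congrFun h 0) 0
    have h01 := congrFun (congrFun h 0) 1
    simp [hom, CfsgLib.Classical.TensorNotMax.om] at h00 h01
    exact ⟨h00, h01⟩
  have hrank : Module.finrank F K₀ = 2 := by
    rw [← Subalgebra.finrank_toSubmodule, hK0]
    have h := LinearIndependent.pair_iff.2 hli
    have hr := finrank_span_eq_card h
    rw [Matrix.range_cons, Matrix.range_cons, Matrix.range_empty, Set.union_empty, Set.singleton_union] at hr
    simpa using hr
  have hfield : IsFieldSubalgebra 2 (K₀.map (emb e P)) := by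
    refine ⟨?_, ?_, ?_⟩
    · rintro _ ⟨a, ⟨c, d, rfl⟩, rfl⟩ _ ⟨b, ⟨c', d', rfl⟩, rfl⟩
      show emb e P _ * emb e P _ = emb e P _ * emb e P _
      rw [← map_mul, ← map_mul]
      congr 1
      simp only [add_mul, mul_add, smul_mul_assoc, mul_smul_comm, one_mul, mul_one, smul_smul]
      module
    · rintro _ ⟨a, ⟨c, d, rfl⟩, rfl⟩ h0
      -- the norm is non-zero
      have hne : c * c + c * d + d * d ≠ 0 := by
        rcases card_two_or hq c with rfl | rfl <;> rcases card_two_or hq d with rfl | rfl
        · exact absurd (by simp) h0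
        · simp
        · simp
        · intro h
          exact one_ne_zero (by linear_combination h - two)
      refine ⟨emb e P ((c * c + c * d + d * d)⁻¹ • ((c + d) • 1 + d • om)), ⟨_, ⟨_, _, smul_add _ _ _ |>.trans
        (by rw [smul_smul, smul_smul])⟩, rfl⟩, ?_⟩
      show emb e P _ * emb e P _ = 1
      rw [← map_mul, mul_smul_comm]
      have hprod : (c • 1 + d • om) * ((c + d) • 1 + d • om) = (c * c + c * d + d * d) • (1 : Matrix (Fin 2) (Fin 2) F) := by
        simp only [add_mul, mul_add, smul_mul_assoc, mul_smul_comm, one_mul, mul_one, smul_smul, hom2, smul_add]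
        have e1 : (d * d + (c * d + d * (c + d))) = 2 * (d * d + c * d) := by ring
        calc _ = (c * (c + d) + d * d) • (1 : Matrix (Fin 2) (Fin 2) F) + (d * d + (c * d + d * (c + d))) • om := by
              module
          _ = _ := by rw [e1, two, zero_mul, zero_smul, add_zero]; congr 1; ring
      rw [hprod, smul_smul, inv_mul_cancel₀ hne, one_smul, map_one]
    · exact (Subalgebra.equivMapOfInjective _ _ (emb_injective e P ht)).toLinearEquiv.finrank_eq.symm.trans hrank
  have hnorm : ∀ a : GL (Fin 2) F, ∃ c : F, (a : Matrix (Fin 2) (Fin 2) F) * om = (om + c • 1) * a := by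
    intro a
    have hdet : a.1.det ≠ 0 := ((Matrix.isUnit_iff_isUnit_det _).1 a.isUnit).ne_zero
    rw [Matrix.det_fin_two] at hdet
    rcases card_two_or hq (a.1 0 0) with h00 | h00 <;>
    rcases card_two_or hq (a.1 0 1) with h01 | h01 <;>
    rcases card_two_or hq (a.1 1 0) with h10 | h10 <;>
    rcases card_two_or hq (a.1 1 1) with h11 | h11 <;>
    rw [Matrix.eta_fin_two a.1, h00, h01, h10, h11] <;>
    first
      | (exfalso; apply hdet; rw [h00, h01, h10, h11]; linear_combination (0 : F))
      | (refine ⟨0, ?_⟩; ext i j; fin_cases i <;> fin_cases j <;>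
          simp [hom, CfsgLib.Classical.TensorNotMax.om, Matrix.mul_apply, Fin.sum_univ_two] <;>
          first | linear_combination two | linear_combination -two)
      | (refine ⟨1, ?_⟩; ext i j; fin_cases i <;> fin_cases j <;>
          simp [hom, CfsgLib.Classical.TensorNotMax.om, Matrix.mul_apply, Fin.sum_univ_two] <;>
          first | linear_combination (0 : F) | linear_combination two | linear_combination -two)
  refine ⟨2, _, Nat.prime_two, field_degree_dvd two_ne_zero hfield, hfield, fun g hg => ?_⟩
  have key : ∀ g ∈ H, ∀ k ∈ K₀.map (emb e P),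
      (g : Matrix (Fin n) (Fin n) F) * k * (↑g⁻¹ : Matrix (Fin n) (Fin n) F) ∈ K₀.map (emb e P) := by
    rintro g hg _ ⟨X, ⟨c, d, rfl⟩, rfl⟩
    obtain ⟨h, ⟨k, ⟨A, C, hk⟩, rfl⟩, rfl⟩ := hle hg
    obtain ⟨c', hc'⟩ := hnorm A
    refine ⟨(c + d * c') • 1 + d • om, ⟨_, _, rfl⟩, ?_⟩
    set g := (MulAut.conj P).toMonoidHom ((Cfsg.Geo.glReindex e.symm).toMonoidHom k) with hg'
    have hgc : coord e P (g : Matrix (Fin n) (Fin n) F) = (A : Matrix (Fin 2) (Fin 2) F) ⊗ₖ (C : Matrix (Fin t) (Fin t) F) := by
      rw [← hk]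
      ext p q
      simp [hg', coord, Cfsg.Geo.glReindex, mul_assoc]
    show emb e P _ = (g : Matrix (Fin n) (Fin n) F) * emb e P _ * (↑g⁻¹ : Matrix (Fin n) (Fin n) F)
    have h3 : (g : Matrix (Fin n) (Fin n) F) * emb e P (c • 1 + d • om) =
        emb e P ((c + d * c') • 1 + d • om) * (g : Matrix (Fin n) (Fin n) F) := by
      apply coord_injective e P
      rw [coord_mul, coord_mul, coord_emb, coord_emb, hgc, ← mul_kronecker_mul, ← mul_kronecker_mul, one_mul, mul_one]
      congr 1
      simp only [mul_add, add_mul, mul_smul_comm, smul_mul_assoc, hc', smul_add, one_mul, mul_one, smul_smul]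
      module
    rw [h3, mul_assoc _ _ (↑g⁻¹ : Matrix (Fin n) (Fin n) F), Units.mul_inv, mul_one]
  intro k
  refine ⟨key g hg k, fun hk => ?_⟩
  have := key g⁻¹ (inv_mem hg) _ hk
  simpa [mul_assoc] using this

end CfsgLib.Asch
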