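import Cfsg.Agent.Lib.Classical.AschOrthEvenMax
import Cfsg.Agent.Lib.Classical.AschOrthFrame
import Cfsg.Agent.Lib.Classical.AschSmallBasic

set_option autoImplicit false
set_option linter.unusedSectionVars false

/-!
The maximal subgroups of the commutator subgroups of the twelve-dimensional orthogonal groups.
-/

namespace CfsgLib.Asch.OrthEvenMax

open Matrix
open Cfsg.Geo (matrixSet ActsIrreducibly IsPlusTypeOn IsTotallySingularQuad IsNondegenerateOn omegaGL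
  subspaceStabilizer decompositionStabilizer subalgebraNormalizer tensorProductSubgroup IsOrthogonalMDecomposition)
open CfsgLib.Orth (Nondeg NondegOn)
open CfsgLib.Asch.OrthTypes
open scoped MatrixGroups Kronecker

variable {F : Type*} [Field F] [Fintype F] {Q : QuadraticForm F (Fin 12 → F)}

/-- The kinds of maximal subgroups in dimension twelve. -/
inductive TwelveCases (Q : QuadraticForm F (Fin 12 → F)) (H : Subgroup (GL (Fin 12) F)) : Prop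
  | ts (W : Submodule F (Fin 12 → F)) : W ≠ ⊥ → W ≠ ⊤ → IsTotallySingularQuad ⇑Q W → H ≤ subspaceStabilizer W →
      TwelveCases Q H
  | odd : (Odd (Fintype.card F) ∧ ∃ W : Submodule F (Fin 12 → F), W ≠ ⊥ ∧ W ≠ ⊤ ∧ Odd (Module.finrank F W) ∧
      2 * Module.finrank F W ≠ 12 ∧ IsNondegenerateOn (QuadraticMap.polar ⇑Q) W ∧
      H = subspaceStabilizer W ⊓ omegaGL ⇑Q) → TwelveCases Q H
  | minusPlane : (∃ W : Submodule F (Fin 12 → F), Module.finrank F W = 2 ∧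
      IsNondegenerateOn (QuadraticMap.polar ⇑Q) W ∧ ¬ IsPlusTypeOn ⇑Q W ∧
      H = subspaceStabilizer W ⊓ omegaGL ⇑Q) → TwelveCases Q H
  | plusPlane : (4 ≤ Fintype.card F ∧ ∃ W : Submodule F (Fin 12 → F), Module.finrank F W = 2 ∧
      IsNondegenerateOn (QuadraticMap.polar ⇑Q) W ∧ IsPlusTypeOn ⇑Q W ∧
      H = subspaceStabilizer W ⊓ omegaGL ⇑Q) → TwelveCases Q H
  | four : (∃ W : Submodule F (Fin 12 → F), Module.finrank F W = 4 ∧ IsNondegenerateOn (QuadraticMap.polar ⇑Q) W ∧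
      H = subspaceStabilizer W ⊓ omegaGL ⇑Q) → TwelveCases Q H
  | six (W : Submodule F (Fin 12 → F)) : ¬ IsPlusTypeOn ⇑Q ⊤ → Module.finrank F W = 6 →
      IsNondegenerateOn (QuadraticMap.polar ⇑Q) W → H = subspaceStabilizer W ⊓ omegaGL ⇑Q → TwelveCases Q H
  | point : (¬ Odd (Fintype.card F) ∧ ∃ v : (Fin 12 → F), Q v ≠ 0 ∧
      H = subspaceStabilizer (Submodule.span F {v}) ⊓ omegaGL ⇑Q) → TwelveCases Q H
  | lines : IsPlusTypeOn ⇑Q ⊤ → ((∃ p : ℕ, p.Prime ∧ Odd p ∧ Fintype.card F = p) ∧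
      ∃ D : Fin 12 → Submodule F (Fin 12 → F), IsOrthogonalMDecomposition ⇑Q 1 D ∧
      H = decompositionStabilizer D ⊓ omegaGL ⇑Q) → TwelveCases Q H
  | planesPlus : IsPlusTypeOn ⇑Q ⊤ → (7 ≤ Fintype.card F ∧ ∃ D : Fin 6 → Submodule F (Fin 12 → F),
      IsOrthogonalMDecomposition ⇑Q 2 D ∧ (∀ i, IsPlusTypeOn ⇑Q (D i)) ∧
      H = decompositionStabilizer D ⊓ omegaGL ⇑Q) → TwelveCases Q H
  | planesMinus : IsPlusTypeOn ⇑Q ⊤ → (Fintype.card F ≠ 3 ∧ ∃ D : Fin 6 → Submodule F (Fin 12 → F),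
      IsOrthogonalMDecomposition ⇑Q 2 D ∧ (∀ i, ¬ IsPlusTypeOn ⇑Q (D i)) ∧
      H = decompositionStabilizer D ⊓ omegaGL ⇑Q) → TwelveCases Q H
  | triples : IsPlusTypeOn ⇑Q ⊤ → (Odd (Fintype.card F) ∧ 5 ≤ Fintype.card F ∧
      ∃ D : Fin 4 → Submodule F (Fin 12 → F), IsOrthogonalMDecomposition ⇑Q 3 D ∧
      H = decompositionStabilizer D ⊓ omegaGL ⇑Q) → TwelveCases Q H
  | quadsPlus : IsPlusTypeOn ⇑Q ⊤ → (3 ≤ Fintype.card F ∧ ∃ D : Fin 3 → Submodule F (Fin 12 → F),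
      IsOrthogonalMDecomposition ⇑Q 4 D ∧ H = decompositionStabilizer D ⊓ omegaGL ⇑Q) → TwelveCases Q H
  | quadsMinus : ¬ IsPlusTypeOn ⇑Q ⊤ → (∃ D : Fin 3 → Submodule F (Fin 12 → F),
      IsOrthogonalMDecomposition ⇑Q 4 D ∧ (∀ i, ¬ IsPlusTypeOn ⇑Q (D i)) ∧
      H = decompositionStabilizer D ⊓ omegaGL ⇑Q) → TwelveCases Q H
  | halves : IsPlusTypeOn ⇑Q ⊤ → (∃ D : Fin 2 → Submodule F (Fin 12 → F), IsOrthogonalMDecomposition ⇑Q 6 D ∧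
      H = decompositionStabilizer D ⊓ omegaGL ⇑Q) → TwelveCases Q H
  | tsPair : IsPlusTypeOn ⇑Q ⊤ → (∃ D : Fin 2 → Submodule F (Fin 12 → F), Cfsg.Geo.IsMDecomposition 6 D ∧
      (∀ i, IsTotallySingularQuad ⇑Q (D i)) ∧ H = decompositionStabilizer D ⊓ omegaGL ⇑Q) → TwelveCases Q H
  | fieldTwo : (∃ K : Subalgebra F (Matrix (Fin 12) (Fin 12) F), Cfsg.Geo.IsFieldSubalgebra 2 K ∧
      H = subalgebraNormalizer K ⊓ omegaGL ⇑Q) → TwelveCases Q H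
  | fieldThree : (∃ K : Subalgebra F (Matrix (Fin 12) (Fin 12) F), Cfsg.Geo.IsFieldSubalgebra 3 K ∧
      H = subalgebraNormalizer K ⊓ omegaGL ⇑Q) → TwelveCases Q H
  | sympTensor : IsPlusTypeOn ⇑Q ⊤ → (3 ≤ Fintype.card F ∧ ∃ (e : Fin 12 ≃ Fin 2 × Fin 6) (P : GL (Fin 12) F)
      (f₁ : (Fin 2 → F) → (Fin 2 → F) → F) (f₂ : (Fin 6 → F) → (Fin 6 → F) → F), Cfsg.Geo.IsSymplecticForm f₁ ∧
      Cfsg.Geo.IsSymplecticForm f₂ ∧ Cfsg.Geo.IsTensorFormStructure id (QuadraticMap.polar ⇑Q) f₁ f₂ e P ∧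
      (∀ (x₁ : Fin 2 → F) (x₂ : Fin 6 → F),
        Q (Matrix.mulVec (P : Matrix (Fin 12) (Fin 12) F) ((fun a : Fin 2 × Fin 6 => x₁ a.1 * x₂ a.2) ∘ e)) = 0) ∧
      H = tensorProductSubgroup 2 6 e P ⊓ omegaGL ⇑Q) → TwelveCases Q H
  | symTensor : ¬ IsPlusTypeOn ⇑Q ⊤ → (Odd (Fintype.card F) ∧ 5 ≤ Fintype.card F ∧
      ∃ (e : Fin 12 ≃ Fin 3 × Fin 4) (P : GL (Fin 12) F) (f₁ : (Fin 3 → F) → (Fin 3 → F) → F)
      (f₂ : (Fin 4 → F) → (Fin 4 → F) → F), Cfsg.Geo.IsSymmetricForm f₁ ∧ Cfsg.Geo.IsSymmetricForm f₂ ∧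
      ¬ IsPlusTypeOn (fun v : Fin 4 → F => f₂ v v) ⊤ ∧
      Cfsg.Geo.IsTensorFormStructure id (QuadraticMap.polar ⇑Q) f₁ f₂ e P ∧
      H = tensorProductSubgroup 3 4 e P ⊓ omegaGL ⇑Q) → TwelveCases Q H
  | rational (F₀ : Subfield F) (r : ℕ) (P : GL (Fin 12) F) (ζ : F) : r.Prime →
      Fintype.card F = Nat.card F₀ ^ r → ζ ≠ 0 →
      Cfsg.Geo.IsQuadFormRationalStructure (fun v : Fin 12 → F => ζ * Q v) F₀ P →
      H = Cfsg.Geo.subfieldSubgroup F₀ P ⊓ omegaGL ⇑Q → TwelveCases Q H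
  | residual : Cfsg.Geo.InOrthogonalResidualClass H → TwelveCases Q H

theorem TwelveCases.of_rational (hB : Nondeg Q) {H : Subgroup (GL (Fin 12) F)}
    (hH : Cfsg.Geo.IsMaximalIn (omegaGL ⇑Q) H) (h : ORationalCase Q H) : TwelveCases Q H := by
  obtain ⟨F₀, r, P, ζ, hr, hcard, hζ, hrat, hE⟩ := rational_eq hB (by norm_num) hH h
  exact .rational F₀ r P ζ hr hcard hζ hrat hE

theorem TwelveCases.of_lines (hB : Nondeg Q) {H : Subgroup (GL (Fin 12) F)}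
    (hH : Cfsg.Geo.IsMaximalIn (omegaGL ⇑Q) H) {D : Fin 12 → Submodule F (Fin 12 → F)}
    (hD : IsOrthogonalMDecomposition ⇑Q 1 D) (hle : H ≤ decompositionStabilizer D) : TwelveCases Q H := by
  rcases lines_eq hB (by norm_num) hH hD hle with ⟨hp, ho, hE⟩ | h
  · refine .lines ((parts_disc hB (PrimeDim.two_ne_zero_of_odd ho) (m := 6) rfl rfl (by decide) hD).2 ?_)
      ⟨⟨_, hp, ho, rfl⟩, D, hD, hE⟩
    exact ⟨1, by norm_num⟩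
  · exact .of_rational hB hH h

theorem TwelveCases.of_planes (hB : Nondeg Q) {H : Subgroup (GL (Fin 12) F)}
    (hH : Cfsg.Geo.IsMaximalIn (omegaGL ⇑Q) H) (hirr : ActsIrreducibly (matrixSet H))
    {D : Fin 6 → Submodule F (Fin 12 → F)} (hD : IsOrthogonalMDecomposition ⇑Q 2 D)
    (hle : H ≤ decompositionStabilizer D) : TwelveCases Q H := by
  have htop : IsPlusTypeOn ⇑Q ⊤ := (parts_plus_iff hD even_two 0).2 (Or.inr (by decide))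
  have hall : ∀ i, IsPlusTypeOn ⇑Q (D i) ↔ IsPlusTypeOn ⇑Q (D 0) := fun i =>
    ⟨plus_isometric (hD.isometric i 0), plus_isometric (hD.isometric 0 i)⟩
  have hE := decomp_eq hB (by norm_num) hH hD.decomp (Or.inr ⟨rfl, by norm_num⟩) hle
  by_cases hp : IsPlusTypeOn ⇑Q (D 0)
  · have hps := fun i => (hall i).2 hp
    by_cases h2 : Fintype.card F = 2
    · exact (OrthPlanes.plus_planes_small (Or.inl h2) (by norm_num) hH.1.le hirr rfl hD hps hle).elim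
    by_cases h3 : Fintype.card F = 3
    · exact (OrthPlanes.plus_planes_small (Or.inr h3) (by norm_num) hH.1.le hirr rfl hD hps hle).elim
    by_cases h4 : Fintype.card F = 4
    · obtain ⟨F₀, r, P, hr, hcard, hrat, hle'⟩ :=
        OrthPlanes.plus_planes_four (by norm_num) h4 hH.1.le rfl hD hps hle
      exact .of_rational hB hH ⟨F₀, r, P, 1, hr, hcard, one_ne_zero, hrat, hle'⟩
    by_cases h5 : Fintype.card F = 5
    · obtain ⟨D', hD', hle'⟩ := OrthPlanes.plus_planes_five hB (by norm_num) h5 hH.1.le hirr rfl hD hps hle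
      exact .of_lines hB hH hD' hle'
    exact .planesPlus htop ⟨seven_le h2 h3 h4 h5, D, hD, hps, hE⟩
  · have hms : ∀ i, ¬ IsPlusTypeOn ⇑Q (D i) := fun i h => hp ((hall i).1 h)
    by_cases h3 : Fintype.card F = 3
    · obtain ⟨D', hD', hle'⟩ := OrthPlanes.minus_planes_three hB (by norm_num) h3 hH.1.le hirr rfl hD hms hle
      exact .of_lines hB hH hD' hle'
    exact .planesMinus htop ⟨h3, D, hD, hms, hE⟩

theorem TwelveCases.of_triples (hB : Nondeg Q) {H : Subgroup (GL (Fin 12) F)}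
    (hH : Cfsg.Geo.IsMaximalIn (omegaGL ⇑Q) H) (hirr : ActsIrreducibly (matrixSet H))
    {D : Fin 4 → Submodule F (Fin 12 → F)} (hD : IsOrthogonalMDecomposition ⇑Q 3 D)
    (hle : H ≤ decompositionStabilizer D) : TwelveCases Q H := by
  have ho : Odd (Fintype.card F) := odd_of_odd_finrank (nondegOn_of_decomp hD 0)
    (by rw [hD.decomp.decomp.finrank_eq]; decide)
  by_cases h3 : Fintype.card F = 3
  · obtain ⟨D', hD', hle'⟩ := CfsgLib.Asch.frame_refine hB (by norm_num) h3 hH.1.le hirr rfl hD hle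
    exact .of_lines hB hH hD' hle'
  have h1 := Fintype.one_lt_card (α := F)
  have := Nat.odd_iff.1 ho
  refine .triples ((parts_disc hB (PrimeDim.two_ne_zero_of_odd ho) (m := 6) rfl rfl (by decide) hD).2 ?_)
    ⟨ho, by omega, D, hD, decomp_eq hB (by norm_num) hH hD.decomp (Or.inl le_rfl) hle⟩
  exact ⟨1, by norm_num⟩

theorem TwelveCases.of_quads (hB : Nondeg Q) {H : Subgroup (GL (Fin 12) F)}
    (hH : Cfsg.Geo.IsMaximalIn (omegaGL ⇑Q) H) (hirr : ActsIrreducibly (matrixSet H))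
    {D : Fin 3 → Submodule F (Fin 12 → F)} (hD : IsOrthogonalMDecomposition ⇑Q 4 D)
    (hle : H ≤ decompositionStabilizer D) : TwelveCases Q H := by
  have hiff : ∀ i, IsPlusTypeOn ⇑Q ⊤ ↔ IsPlusTypeOn ⇑Q (D i) := fun i =>
    (parts_plus_iff hD (by decide) i).trans (or_iff_left (by decide))
  have hE := decomp_eq hB (by norm_num) hH hD.decomp (Or.inl (by norm_num)) hle
  by_cases hp : IsPlusTypeOn ⇑Q ⊤
  swap
  · exact .quadsMinus hp ⟨D, hD, fun i h => hp ((hiff i).2 h), hE⟩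
  by_cases h2 : Fintype.card F = 2
  · obtain ⟨D', hD', hm, hle'⟩ :=
      OrthTwelve.six_minus_planes hB h2 hH.1.le hirr (by norm_num) hD (fun i => (hiff i).1 hp) hle
    exact .planesMinus hp ⟨by omega, D', hD', hm,
      decomp_eq hB (by norm_num) hH hD'.decomp (Or.inr ⟨rfl, by norm_num⟩) hle'⟩
  have h1 := Fintype.one_lt_card (α := F)
  exact .quadsPlus hp ⟨by omega, D, hD, hE⟩

theorem TwelveCases.of_field (hB : Nondeg Q) {H : Subgroup (GL (Fin 12) F)}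
    (hH : Cfsg.Geo.IsMaximalIn (omegaGL ⇑Q) H) {r : ℕ} (hr : r.Prime) (hrn : r ∣ 12)
    {K : Subalgebra F (Matrix (Fin 12) (Fin 12) F)} (hK : Cfsg.Geo.IsFieldSubalgebra r K)
    (hle : H ≤ subalgebraNormalizer K) : TwelveCases Q H := by
  have hE := OrthNotLe.eq_inf hH hle (OrthNotLe.not_le_normalizer hB (by norm_num) hr.two_le hK)
  have hr12 : r ≤ 12 := Nat.le_of_dvd (by norm_num) hrn
  obtain rfl | rfl : r = 2 ∨ r = 3 := by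
    have := hr.two_le
    interval_cases r <;> first | omega | (exfalso; revert hr; norm_num)
  exacts [.fieldTwo ⟨K, hK, hE⟩, .fieldThree ⟨K, hK, hE⟩]

theorem TwelveCases.of_sympTensor (hB : Nondeg Q) {H : Subgroup (GL (Fin 12) F)}
    (hH : Cfsg.Geo.IsMaximalIn (omegaGL ⇑Q) H) {e : Fin 12 ≃ Fin 2 × Fin 6} {P : GL (Fin 12) F}
    {J₁ : Matrix (Fin 2) (Fin 2) F} {J₂ : Matrix (Fin 6) (Fin 6) F} (hJ₁ : SympData J₁) (hJ₂ : SympData J₂)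
    (hF : fcoord (RingEquiv.refl F) (ogram Q) e P = J₁ ⊗ₖ J₂) (hz : ∀ u v, Q (ten e P u v) = 0)
    (hle : H ≤ tensorProductSubgroup 2 6 e P) : TwelveCases Q H := by
  by_cases h2 : Fintype.card F = 2
  · obtain ⟨r, K, hr, hrn, hK, hle'⟩ := tensor_two_field h2 (by norm_num) hle
    exact .of_field hB hH hr hrn hK hle'
  have h1 := Fintype.one_lt_card (α := F)
  exact .sympTensor (OrthEven.sympTensor_half hB rfl hz) ⟨by omega, e, P, _, _, hJ₁.symplectic, hJ₂.symplectic,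
    tensorForm_of hB hF, hz, OrthNotLe.eq_inf hH hle (OrthTwelve.not_le_symp hB (by norm_num) (by norm_num) hF hz)⟩

theorem twelve_cases (hB : Nondeg Q) {H : Subgroup (GL (Fin 12) F)}
    (hH : Cfsg.Geo.IsMaximalIn (omegaGL ⇑Q) H) : TwelveCases Q H := by
  classical
  have hn : (5 : ℕ) ≤ 12 := by norm_num
  rcases orth_structure hB hn hH.1.le with ⟨W, h0, h1, hW, hle⟩ | ⟨hev, v, hv, hle⟩ | hnd |
    ⟨hirr, t, k, D, htk, hD, hle⟩ | ⟨-, k, D, hk, -, hD, hts, hle⟩ | ⟨-, r, K, hr, hrn, -, -, hK, -, hle⟩ |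
    ⟨-, K, hK, -, -, -, -, hle⟩ | ⟨hirr, n₁, n₂, e, P, J₁, J₂, hodd, h3, h12, hn', hJ₁, hJ₂, hF, hle⟩ |
    ⟨-, n₁, n₂, e, P, J₁, J₂, h2, h12, hn', hJ₁, hJ₂, hF, hz, hle⟩ | hrat | ⟨-, ⟨k, hk⟩, -⟩ |
    ⟨-, k, t, d, P, J₀, c, -, hk3, ht, -, hn', -⟩ |
    ⟨-, k, t, d, P, J₀, c, hk2, ht, -, -, hn', -⟩ | h
  · exact .ts W h0 h1 hW hle
  · exact .point ⟨hev, v, hv, point_eq hB hn hH hv hle⟩
  · rcases nd_cases hB hn (by decide) hH hnd with ⟨hq, W, h0, h1, ho, hW, hE⟩ | h | h | ⟨W, he, h4, h8, hW, hE⟩ | h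
    · exact .odd ⟨hq, W, h0, h1, ho, by obtain ⟨a, ha⟩ := ho; omega, hW, hE⟩
    · exact .minusPlane h
    · exact .plusPlane h
    · rcases Nat.lt_or_ge (Module.finrank F W) 6 with h6 | h6
      · exact .four ⟨W, by obtain ⟨a, ha⟩ := he; omega, hW, hE⟩
      have hd : Module.finrank F W = 2 * 3 := by omega
      by_cases hp : IsPlusTypeOn ⇑Q ⊤
      swap
      · exact .six W hp hd hW hE
      have hWn := CfsgLib.Orth.nondegOn_of hW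
      obtain ⟨D, hD, hD0, hD1, hle⟩ := half_decomp hB (k := 6) rfl (by norm_num) hH.1.le hWn hd
        (hE.le.trans inf_le_left)
      have hd' : Module.finrank F (CfsgLib.Orth.orth Q W) = 2 * 3 := hD1 ▸ hD.decomp.finrank_eq 1
      have hiso : Cfsg.Geo.AreIsometricFor ⇑Q (D 0) (D 1) := by
        rw [hD0, hD1]
        exact isometric_of_type hWn (CfsgLib.Orth.nondegOn_orth hB hWn) hd hd'
          ((plus_top_iff hB hWn (by decide) (by rw [hd]; decide)).1 hp)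
      exact .halves hp ⟨D, orth_two hD hiso, decomp_eq hB hn hH hD (Or.inl (by norm_num)) hle⟩
    · exact .point h
  · have ht := hD.decomp.decomp.two_le
    have hk := hD.decomp.decomp.pos
    have ht12 : t ≤ 12 := Nat.le_of_dvd (by norm_num) ⟨k, htk.symm⟩
    obtain ⟨rfl, rfl⟩ | ⟨rfl, rfl⟩ | ⟨rfl, rfl⟩ | ⟨rfl, rfl⟩ | ⟨rfl, rfl⟩ :
        t = 12 ∧ k = 1 ∨ t = 6 ∧ k = 2 ∨ t = 4 ∧ k = 3 ∨ t = 3 ∧ k = 4 ∨ t = 2 ∧ k = 6 := by
      interval_cases t <;> omega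
    · exact .of_lines hB hH hD hle
    · exact .of_planes hB hH hirr hD hle
    · exact .of_triples hB hH hirr hD hle
    · exact .of_quads hB hH hirr hD hle
    · exact .halves ((parts_plus_iff hD (by decide) 0).2 (Or.inr (by decide)))
        ⟨D, hD, decomp_eq hB hn hH hD.decomp (Or.inl (by norm_num)) hle⟩
  · obtain rfl : k = 6 := by omega
    refine .tsPair ?_ ⟨D, hD, hts, ?_⟩
    · exact ⟨D 0, le_top, hts 0, by rw [hD.finrank_eq, finrank_top, Module.finrank_fin_fun]⟩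
    · exact OrthNotLe.eq_inf hH hle (OrthNotLe.not_le_decomp hB hn hD (Or.inr ⟨by norm_num, hts⟩))
  · exact .of_field hB hH hr hrn hK hle
  · exact .of_field hB hH Nat.prime_two (by norm_num) hK hle
  · obtain rfl : n₁ = 3 := by
      by_contra h
      have : 4 * 4 ≤ n₁ * n₂ := Nat.mul_le_mul (by omega) (by omega)
      omega
    obtain rfl : n₂ = 4 := by omega
    by_cases hp : IsPlusTypeOn (fun v : Fin 4 → F => sform (RingEquiv.refl F) J₂ v v) ⊤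
    · obtain ⟨e', P', J₁', J₂', hs₁, hs₂, hF', hz', hle'⟩ :=
        OrthTwelve.symTensor_plus hB hodd hH.1.le hJ₁ hJ₂ hF hle hp
      exact .of_sympTensor hB hH hs₁ hs₂ hF' hz' hle'
    by_cases hq : Fintype.card F = 3
    · obtain ⟨D, hD, hle'⟩ := OrthTwelve.symTensor_three hB hq hH.1.le hirr hJ₁ hJ₂ hF hle
      exact .of_quads hB hH hirr hD hle'
    have h1 := Fintype.one_lt_card (α := F)
    have := Nat.odd_iff.1 hodd
    exact .symTensor (fun h => hp ((OrthTwelve.symTensor_type hB hodd hJ₁ hJ₂ hF).1 h)) ⟨hodd, by omega, e, P, _, _,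
      symmetric_form hJ₁, symmetric_form hJ₂, hp, tensorForm_of hB hF,
      OrthNotLe.eq_inf hH hle (OrthTwelve.not_le_sym hB hn hodd le_rfl (by norm_num) hF)⟩
  · obtain ⟨rfl, -⟩ := sympTensor_dims hJ₁ hJ₂ h2 h12 (by omega)
    obtain rfl : n₂ = 6 := by omega
    exact .of_sympTensor hB hH hJ₁ hJ₂ hF hz hle
  · exact .of_rational hB hH hrat
  · exfalso
    have hk4 : k ≤ 4 := by
      by_contra h
      have := Nat.pow_le_pow_right (show 1 ≤ 2 by norm_num) (show 5 ≤ k by omega)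
      omega
    interval_cases k <;> omega
  · exfalso
    have ht2 : t = 2 := by
      by_contra hne
      have : 3 ^ 3 ≤ k ^ t := (Nat.pow_le_pow_left hk3 3).trans (Nat.pow_le_pow_right (by omega) (by omega))
      omega
    subst ht2
    have : k ≤ 4 := by nlinarith
    interval_cases k <;> omega
  · exfalso
    have ht4 : t ≤ 3 := by
      by_contra h
      have : 2 ^ 4 ≤ k ^ t := (Nat.pow_le_pow_left hk2 4).trans (Nat.pow_le_pow_right (by omega) (by omega))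
      omega
    have hk4 : k ≤ 4 := by
      by_contra h
      have : 5 ^ 2 ≤ k ^ t := (Nat.pow_le_pow_left (show 5 ≤ k by omega) 2).trans (Nat.pow_le_pow_right (by omega) ht)
      omega
    interval_cases k <;> interval_cases t <;> omega
  · exact .residual h

/-- Plus type. -/
theorem twelve_plus_cases (Q₀ : (Fin 12 → F) → F) (hQ : Cfsg.Geo.IsNondegenerateQuadraticForm Q₀) (hplus : Cfsg.Geo.IsPlusTypeOn Q₀ ⊤) (H : Subgroup (Matrix.GeneralLinearGroup (Fin 12) F)) (hH : Cfsg.Geo.IsMaximalIn (Cfsg.Geo.omegaGL Q₀) H) :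
    (∃ W : Submodule F (Fin 12 → F), W ≠ ⊥ ∧ Cfsg.Geo.IsTotallySingularQuad Q₀ W ∧ Module.finrank F W ≠ 5 ∧ H = Cfsg.Geo.subspaceStabilizer W ⊓ Cfsg.Geo.omegaGL Q₀) ∨
    (Odd (Fintype.card F) ∧ ∃ W : Submodule F (Fin 12 → F), W ≠ ⊥ ∧ W ≠ ⊤ ∧ Odd (Module.finrank F W) ∧ 2 * Module.finrank F W ≠ 12 ∧ Cfsg.Geo.IsNondegenerateOn (QuadraticMap.polar Q₀) W ∧ H = Cfsg.Geo.subspaceStabilizer W ⊓ Cfsg.Geo.omegaGL Q₀) ∨
    (∃ W : Submodule F (Fin 12 → F), Module.finrank F W = 2 ∧ Cfsg.Geo.IsNondegenerateOn (QuadraticMap.polar Q₀) W ∧ ¬ Cfsg.Geo.IsPlusTypeOn Q₀ W ∧ H = Cfsg.Geo.subspaceStabilizer W ⊓ Cfsg.Geo.omegaGL Q₀) ∨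
    (4 ≤ Fintype.card F ∧ ∃ W : Submodule F (Fin 12 → F), Module.finrank F W = 2 ∧ Cfsg.Geo.IsNondegenerateOn (QuadraticMap.polar Q₀) W ∧ Cfsg.Geo.IsPlusTypeOn Q₀ W ∧ H = Cfsg.Geo.subspaceStabilizer W ⊓ Cfsg.Geo.omegaGL Q₀) ∨
    (∃ W : Submodule F (Fin 12 → F), Module.finrank F W = 4 ∧ Cfsg.Geo.IsNondegenerateOn (QuadraticMap.polar Q₀) W ∧ H = Cfsg.Geo.subspaceStabilizer W ⊓ Cfsg.Geo.omegaGL Q₀) ∨
    (¬ Odd (Fintype.card F) ∧ ∃ v : (Fin 12 → F), Q₀ v ≠ 0 ∧ H = Cfsg.Geo.subspaceStabilizer (Submodule.span F {v}) ⊓ Cfsg.Geo.omegaGL Q₀) ∨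
    ((∃ p : ℕ, p.Prime ∧ Odd p ∧ Fintype.card F = p) ∧ ∃ D : Fin 12 → Submodule F (Fin 12 → F), Cfsg.Geo.IsOrthogonalMDecomposition Q₀ 1 D ∧ H = Cfsg.Geo.decompositionStabilizer D ⊓ Cfsg.Geo.omegaGL Q₀) ∨
    (7 ≤ Fintype.card F ∧ ∃ D : Fin 6 → Submodule F (Fin 12 → F), Cfsg.Geo.IsOrthogonalMDecomposition Q₀ 2 D ∧ (∀ i, Cfsg.Geo.IsPlusTypeOn Q₀ (D i)) ∧ H = Cfsg.Geo.decompositionStabilizer D ⊓ Cfsg.Geo.omegaGL Q₀) ∨
    (Fintype.card F ≠ 3 ∧ ∃ D : Fin 6 → Submodule F (Fin 12 → F), Cfsg.Geo.IsOrthogonalMDecomposition Q₀ 2 D ∧ (∀ i, ¬ Cfsg.Geo.IsPlusTypeOn Q₀ (D i)) ∧ H = Cfsg.Geo.decompositionStabilizer D ⊓ Cfsg.Geo.omegaGL Q₀) ∨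
    (Odd (Fintype.card F) ∧ 5 ≤ Fintype.card F ∧ ∃ D : Fin 4 → Submodule F (Fin 12 → F), Cfsg.Geo.IsOrthogonalMDecomposition Q₀ 3 D ∧ H = Cfsg.Geo.decompositionStabilizer D ⊓ Cfsg.Geo.omegaGL Q₀) ∨
    (3 ≤ Fintype.card F ∧ ∃ D : Fin 3 → Submodule F (Fin 12 → F), Cfsg.Geo.IsOrthogonalMDecomposition Q₀ 4 D ∧ H = Cfsg.Geo.decompositionStabilizer D ⊓ Cfsg.Geo.omegaGL Q₀) ∨
    (∃ D : Fin 2 → Submodule F (Fin 12 → F), Cfsg.Geo.IsOrthogonalMDecomposition Q₀ 6 D ∧ H = Cfsg.Geo.decompositionStabilizer D ⊓ Cfsg.Geo.omegaGL Q₀) ∨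
    (∃ D : Fin 2 → Submodule F (Fin 12 → F), Cfsg.Geo.IsMDecomposition 6 D ∧ (∀ i, Cfsg.Geo.IsTotallySingularQuad Q₀ (D i)) ∧ H = Cfsg.Geo.decompositionStabilizer D ⊓ Cfsg.Geo.omegaGL Q₀) ∨
    (∃ K : Subalgebra F (Matrix (Fin 12) (Fin 12) F), Cfsg.Geo.IsFieldSubalgebra 2 K ∧ H = Cfsg.Geo.subalgebraNormalizer K ⊓ Cfsg.Geo.omegaGL Q₀) ∨
    (∃ K : Subalgebra F (Matrix (Fin 12) (Fin 12) F), Cfsg.Geo.IsFieldSubalgebra 3 K ∧ H = Cfsg.Geo.subalgebraNormalizer K ⊓ Cfsg.Geo.omegaGL Q₀) ∨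
    (∃ K : Subalgebra F (Matrix (Fin 12) (Fin 12) F), Cfsg.Geo.IsFieldSubalgebra 2 K ∧ Cfsg.Geo.IsAdjointClosedFor (QuadraticMap.polar Q₀) K ∧ ¬ Cfsg.Geo.IsSelfAdjointFor (QuadraticMap.polar Q₀) K ∧ (∀ k ∈ K, ∃ c : F, ∀ v : (Fin 12 → F), Q₀ (Matrix.mulVec k v) = c * Q₀ v) ∧ H = Cfsg.Geo.subalgebraNormalizer K ⊓ Cfsg.Geo.omegaGL Q₀) ∨
    (3 ≤ Fintype.card F ∧ ∃ (e : Fin 12 ≃ Fin 2 × Fin 6) (P : Matrix.GeneralLinearGroup (Fin 12) F) (f₁ : (Fin 2 → F) → (Fin 2 → F) → F) (f₂ : (Fin 6 → F) → (Fin 6 → F) → F), Cfsg.Geo.IsSymplecticForm f₁ ∧ Cfsg.Geo.IsSymplecticForm f₂ ∧ Cfsg.Geo.IsTensorFormStructure id (QuadraticMap.polar Q₀) f₁ f₂ e P ∧ (∀ (x₁ : Fin 2 → F) (x₂ : Fin 6 → F), Q₀ (Matrix.mulVec (P : Matrix (Fin 12) (Fin 12) F) ((fun a : Fin 2 × Fin 6 => x₁ a.1 * x₂ a.2) ∘ e)) = 0) ∧ H = Cfsg.Geo.tensorProductSubgroup 2 6 e P ⊓ Cfsg.Geo.omegaGL Q₀) ∨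
    (∃ (F₀ : Subfield F) (r : ℕ) (P : Matrix.GeneralLinearGroup (Fin 12) F) (ζ : F), r.Prime ∧ Fintype.card F = Nat.card F₀ ^ r ∧ ζ ≠ 0 ∧ Cfsg.Geo.IsQuadFormRationalStructure (fun v : Fin 12 → F => ζ * Q₀ v) F₀ P ∧ H = Cfsg.Geo.subfieldSubgroup F₀ P ⊓ Cfsg.Geo.omegaGL Q₀) ∨
    Cfsg.Geo.InOrthogonalResidualClass H := by
  obtain ⟨Q, rfl, hB⟩ := OrthEven.exists_quad hQ
  rcases twelve_cases hB hH with ⟨W, h0, h1, hW, hle⟩ | h | h | h | h | ⟨W, hm, -⟩ | h | ⟨-, h⟩ | ⟨-, h⟩ | ⟨-, h⟩ |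
    ⟨-, h⟩ | ⟨-, h⟩ | ⟨hm, -⟩ | ⟨-, h⟩ | ⟨-, h⟩ | h | h | ⟨-, h⟩ | ⟨hm, -⟩ |
    ⟨F₀, r, P, ζ, hr, hcard, hζ, hrat, hE⟩ | h
  · left
    by_cases h5 : Module.finrank F W = 5
    · obtain ⟨U, hU, hUd, hle'⟩ := OrthEven.submax hB (by norm_num) hplus hH.1.le hW (by omega) hle
      obtain ⟨hb, ht⟩ := ne_bot_top (n := 12) (by norm_num) (W := U) (by omega) (by omega)
      exact ⟨U, hb, hU, by omega, stab_eq hB (by norm_num) hH hb ht hle'⟩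
    exact ⟨W, h0, hW, h5, stab_eq hB (by norm_num) hH h0 h1 hle⟩
  · exact Or.inr (Or.inl h)
  · exact Or.inr (Or.inr (Or.inl h))
  · exact Or.inr (Or.inr (Or.inr (Or.inl h)))
  · exact Or.inr (Or.inr (Or.inr (Or.inr (Or.inl h))))
  · exact absurd hplus hm
  · exact Or.inr (Or.inr (Or.inr (Or.inr (Or.inr (Or.inl h)))))
  · exact Or.inr (Or.inr (Or.inr (Or.inr (Or.inr (Or.inr (Or.inl h))))))
  · exact Or.inr (Or.inr (Or.inr (Or.inr (Or.inr (Or.inr (Or.inr (Or.inl h)))))))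
  · exact Or.inr (Or.inr (Or.inr (Or.inr (Or.inr (Or.inr (Or.inr (Or.inr (Or.inl h))))))))
  · exact Or.inr (Or.inr (Or.inr (Or.inr (Or.inr (Or.inr (Or.inr (Or.inr (Or.inr (Or.inl h)))))))))
  · exact Or.inr (Or.inr (Or.inr (Or.inr (Or.inr (Or.inr (Or.inr (Or.inr (Or.inr (Or.inr (Or.inl h))))))))))
  · exact absurd hplus hm
  · exact Or.inr (Or.inr (Or.inr (Or.inr (Or.inr (Or.inr (Or.inr (Or.inr (Or.inr (Or.inr (Or.inr (Or.inl h)))))))))))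
  · exact Or.inr (Or.inr (Or.inr (Or.inr (Or.inr (Or.inr (Or.inr (Or.inr (Or.inr (Or.inr (Or.inr (Or.inr (Or.inl h))))))))))))
  · exact Or.inr (Or.inr (Or.inr (Or.inr (Or.inr (Or.inr (Or.inr (Or.inr (Or.inr (Or.inr (Or.inr (Or.inr (Or.inr (Or.inl h)))))))))))))
  · exact Or.inr (Or.inr (Or.inr (Or.inr (Or.inr (Or.inr (Or.inr (Or.inr (Or.inr (Or.inr (Or.inr (Or.inr (Or.inr (Or.inr (Or.inl h))))))))))))))
  · exact Or.inr (Or.inr (Or.inr (Or.inr (Or.inr (Or.inr (Or.inr (Or.inr (Or.inr (Or.inr (Or.inr (Or.inr (Or.inr (Or.inr (Or.inr (Or.inr (Or.inl h))))))))))))))))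
  · exact absurd hplus hm
  · exact Or.inr (Or.inr (Or.inr (Or.inr (Or.inr (Or.inr (Or.inr (Or.inr (Or.inr (Or.inr (Or.inr (Or.inr (Or.inr (Or.inr (Or.inr (Or.inr (Or.inr (Or.inl ⟨F₀, r, P, ζ, hr, hcard, hζ, hrat, hE⟩)))))))))))))))))
  · exact Or.inr (Or.inr (Or.inr (Or.inr (Or.inr (Or.inr (Or.inr (Or.inr (Or.inr (Or.inr (Or.inr (Or.inr (Or.inr (Or.inr (Or.inr (Or.inr (Or.inr (Or.inr (h))))))))))))))))))

/-- Minus type. -/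
theorem twelve_minus_cases (Q₀ : (Fin 12 → F) → F) (hQ : Cfsg.Geo.IsNondegenerateQuadraticForm Q₀) (hminus : ¬ Cfsg.Geo.IsPlusTypeOn Q₀ ⊤) (H : Subgroup (Matrix.GeneralLinearGroup (Fin 12) F)) (hH : Cfsg.Geo.IsMaximalIn (Cfsg.Geo.omegaGL Q₀) H) :
    (∃ W : Submodule F (Fin 12 → F), W ≠ ⊥ ∧ Cfsg.Geo.IsTotallySingularQuad Q₀ W ∧ H = Cfsg.Geo.subspaceStabilizer W ⊓ Cfsg.Geo.omegaGL Q₀) ∨
    (Odd (Fintype.card F) ∧ ∃ W : Submodule F (Fin 12 → F), W ≠ ⊥ ∧ W ≠ ⊤ ∧ Odd (Module.finrank F W) ∧ 2 * Module.finrank F W ≠ 12 ∧ Cfsg.Geo.IsNondegenerateOn (QuadraticMap.polar Q₀) W ∧ H = Cfsg.Geo.subspaceStabilizer W ⊓ Cfsg.Geo.omegaGL Q₀) ∨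
    (∃ W : Submodule F (Fin 12 → F), Module.finrank F W = 2 ∧ Cfsg.Geo.IsNondegenerateOn (QuadraticMap.polar Q₀) W ∧ ¬ Cfsg.Geo.IsPlusTypeOn Q₀ W ∧ H = Cfsg.Geo.subspaceStabilizer W ⊓ Cfsg.Geo.omegaGL Q₀) ∨
    (4 ≤ Fintype.card F ∧ ∃ W : Submodule F (Fin 12 → F), Module.finrank F W = 2 ∧ Cfsg.Geo.IsNondegenerateOn (QuadraticMap.polar Q₀) W ∧ Cfsg.Geo.IsPlusTypeOn Q₀ W ∧ H = Cfsg.Geo.subspaceStabilizer W ⊓ Cfsg.Geo.omegaGL Q₀) ∨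
    (∃ W : Submodule F (Fin 12 → F), Module.finrank F W = 4 ∧ Cfsg.Geo.IsNondegenerateOn (QuadraticMap.polar Q₀) W ∧ H = Cfsg.Geo.subspaceStabilizer W ⊓ Cfsg.Geo.omegaGL Q₀) ∨
    (∃ W : Submodule F (Fin 12 → F), Module.finrank F W = 6 ∧ Cfsg.Geo.IsNondegenerateOn (QuadraticMap.polar Q₀) W ∧ H = Cfsg.Geo.subspaceStabilizer W ⊓ Cfsg.Geo.omegaGL Q₀) ∨
    (¬ Odd (Fintype.card F) ∧ ∃ v : (Fin 12 → F), Q₀ v ≠ 0 ∧ H = Cfsg.Geo.subspaceStabilizer (Submodule.span F {v}) ⊓ Cfsg.Geo.omegaGL Q₀) ∨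
    (∃ D : Fin 3 → Submodule F (Fin 12 → F), Cfsg.Geo.IsOrthogonalMDecomposition Q₀ 4 D ∧ (∀ i, ¬ Cfsg.Geo.IsPlusTypeOn Q₀ (D i)) ∧ H = Cfsg.Geo.decompositionStabilizer D ⊓ Cfsg.Geo.omegaGL Q₀) ∨
    (∃ K : Subalgebra F (Matrix (Fin 12) (Fin 12) F), Cfsg.Geo.IsFieldSubalgebra 2 K ∧ H = Cfsg.Geo.subalgebraNormalizer K ⊓ Cfsg.Geo.omegaGL Q₀) ∨
    (∃ K : Subalgebra F (Matrix (Fin 12) (Fin 12) F), Cfsg.Geo.IsFieldSubalgebra 3 K ∧ H = Cfsg.Geo.subalgebraNormalizer K ⊓ Cfsg.Geo.omegaGL Q₀) ∨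
    (Odd (Fintype.card F) ∧ 5 ≤ Fintype.card F ∧ ∃ (e : Fin 12 ≃ Fin 3 × Fin 4) (P : Matrix.GeneralLinearGroup (Fin 12) F) (f₁ : (Fin 3 → F) → (Fin 3 → F) → F) (f₂ : (Fin 4 → F) → (Fin 4 → F) → F), Cfsg.Geo.IsSymmetricForm f₁ ∧ Cfsg.Geo.IsSymmetricForm f₂ ∧ ¬ Cfsg.Geo.IsPlusTypeOn (fun v : Fin 4 → F => f₂ v v) ⊤ ∧ Cfsg.Geo.IsTensorFormStructure id (QuadraticMap.polar Q₀) f₁ f₂ e P ∧ H = Cfsg.Geo.tensorProductSubgroup 3 4 e P ⊓ Cfsg.Geo.omegaGL Q₀) ∨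
    (∃ (F₀ : Subfield F) (r : ℕ) (P : Matrix.GeneralLinearGroup (Fin 12) F) (ζ : F), r.Prime ∧ Odd r ∧ Fintype.card F = Nat.card F₀ ^ r ∧ ζ ≠ 0 ∧ Cfsg.Geo.IsQuadFormRationalStructure (fun v : Fin 12 → F => ζ * Q₀ v) F₀ P ∧ H = Cfsg.Geo.subfieldSubgroup F₀ P ⊓ Cfsg.Geo.omegaGL Q₀) ∨
    Cfsg.Geo.InOrthogonalResidualClass H := by
  obtain ⟨Q, rfl, hB⟩ := OrthEven.exists_quad hQ
  rcases twelve_cases hB hH with ⟨W, h0, h1, hW, hle⟩ | h | h | h | h | ⟨W, -, hd, hW, hE⟩ | h | ⟨hp, -⟩ | ⟨hp, -⟩ |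
    ⟨hp, -⟩ | ⟨hp, -⟩ | ⟨hp, -⟩ | ⟨-, h⟩ | ⟨hp, -⟩ | ⟨hp, -⟩ | h | h | ⟨hp, -⟩ | ⟨-, h⟩ |
    ⟨F₀, r, P, ζ, hr, hcard, hζ, hrat, hE⟩ | h
  · exact Or.inl ⟨W, h0, hW, stab_eq hB (by norm_num) hH h0 h1 hle⟩
  · exact Or.inr (Or.inl h)
  · exact Or.inr (Or.inr (Or.inl h))
  · exact Or.inr (Or.inr (Or.inr (Or.inl h)))
  · exact Or.inr (Or.inr (Or.inr (Or.inr (Or.inl h))))
  · exact Or.inr (Or.inr (Or.inr (Or.inr (Or.inr (Or.inl ⟨W, hd, hW, hE⟩)))))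
  · exact Or.inr (Or.inr (Or.inr (Or.inr (Or.inr (Or.inr (Or.inl h))))))
  · exact absurd hp hminus
  · exact absurd hp hminus
  · exact absurd hp hminus
  · exact absurd hp hminus
  · exact absurd hp hminus
  · exact Or.inr (Or.inr (Or.inr (Or.inr (Or.inr (Or.inr (Or.inr (Or.inl h)))))))
  · exact absurd hp hminus
  · exact absurd hp hminus
  · exact Or.inr (Or.inr (Or.inr (Or.inr (Or.inr (Or.inr (Or.inr (Or.inr (Or.inl h))))))))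
  · exact Or.inr (Or.inr (Or.inr (Or.inr (Or.inr (Or.inr (Or.inr (Or.inr (Or.inr (Or.inl h)))))))))
  · exact absurd hp hminus
  · exact Or.inr (Or.inr (Or.inr (Or.inr (Or.inr (Or.inr (Or.inr (Or.inr (Or.inr (Or.inr (Or.inl h))))))))))
  · exact Or.inr (Or.inr (Or.inr (Or.inr (Or.inr (Or.inr (Or.inr (Or.inr (Or.inr (Or.inr (Or.inr (Or.inl ⟨F₀, r, P, ζ, hr, rational_odd hB (m := 6) rfl hminus hr hcard hζ hrat, hcard, hζ, hrat, hE⟩)))))))))))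
  · exact Or.inr (Or.inr (Or.inr (Or.inr (Or.inr (Or.inr (Or.inr (Or.inr (Or.inr (Or.inr (Or.inr (Or.inr (h))))))))))))

end CfsgLib.Asch.OrthEvenMax
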