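import Cfsg.Agent.Lib.Classical.AschTensorFactors

set_option autoImplicit false
set_option linter.unusedSectionVars false

/-!
Groups with a minimal normal perfect absolutely irreducible subgroup: a tensor power, a subfield, a form, or the
residual class.
-/

namespace CfsgLib.Asch

open Matrix
open Cfsg.Geo (matrixSet scalars specialLinear ActsIrreducibly ActsAbsolutelyIrreducibly tensorWreathSubgroup)
open CfsgLib.PrimeDim (Inv Nml cent mem_cent scalar_of_comm comm_of_perfect eq_sc_of_mem_scalars sc sc_mulVec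
  mulVec_injective inv_mulVec_cancel mulVec_inv_cancel Sesq)
open scoped MatrixGroups
open scoped commutatorElement

variable {F : Type*} [Field F] {n : ℕ}

/-- `H` lies in the wreath product of a tensor power with factors of dimension at least three. -/
def WreathCase (H : Subgroup (GL (Fin n) F)) : Prop :=
  ∃ (m t : ℕ) (e : Fin n ≃ (Fin t → Fin m)) (P : GL (Fin n) F), 3 ≤ m ∧ 2 ≤ t ∧ m ^ t = n ∧
    H ≤ tensorWreathSubgroup m t e P

theorem commutator_le_self {G : Type*} [Group G] (M : Subgroup G) : ⁅M, M⁆ ≤ M :=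
  Subgroup.commutator_le.2 fun a ha b hb => mul_mem (mul_mem (mul_mem ha hb) (inv_mem ha)) (inv_mem hb)

theorem nml_commutator {H N : Subgroup (GL (Fin n) F)} (hN : Nml H N) : Nml H ⁅N, N⁆ := by
  refine ⟨(commutator_le_self N).trans hN.le, fun g hg x hx => ?_⟩
  have : (⁅N, N⁆).map (MulAut.conj g).toMonoidHom ≤ ⁅N, N⁆ := by
    rw [Subgroup.map_commutator]
    exact Subgroup.commutator_mono (by rintro _ ⟨y, hy, rfl⟩; exact hN.conj g hg y hy)
      (by rintro _ ⟨y, hy, rfl⟩; exact hN.conj g hg y hy)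
  exact this ⟨x, hx, rfl⟩

/-- The dimension of the minimal invariant subspaces of a conjugate. -/
theorem finrank_minInv_conj {M : Subgroup (GL (Fin n) F)} (g : GL (Fin n) F) {d : ℕ}
    (hd : ∀ W, MinInv (matrixSet M) W → Module.finrank F W = d) {W : Submodule F (Fin n → F)}
    (hW : MinInv (matrixSet (M.map (MulAut.conj g).toMonoidHom)) W) : Module.finrank F W = d := by
  set ι := Matrix.toLin' (↑g⁻¹ : Matrix (Fin n) (Fin n) F) with hι'
  have hι : Function.Injective ι := fun u v h => mulVec_injective g⁻¹ h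
  have h := hd _ (minInv_image (S := matrixSet M) ι hι (by
    rintro _ ⟨x, hx, rfl⟩
    refine ⟨_, ⟨_, ⟨x, hx, rfl⟩, rfl⟩, fun v => ?_⟩
    simp only [hι', Matrix.toLin'_apply, MulEquiv.coe_toMonoidHom, MulAut.conj_apply, Units.val_mul, mulVec_mulVec,
      ← mul_assoc, Units.inv_mul, one_mul]) (by
    rintro _ ⟨_, ⟨x, hx, rfl⟩, rfl⟩
    refine ⟨_, ⟨x, hx, rfl⟩, fun v => ?_⟩
    simp only [hι', Matrix.toLin'_apply, MulEquiv.coe_toMonoidHom, MulAut.conj_apply, Units.val_mul, mulVec_mulVec,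
      ← mul_assoc, Units.inv_mul, one_mul]) hW)
  rwa [← (Submodule.equivMapOfInjective ι hι W).finrank_eq] at h

set_option maxHeartbeats 1000000 in
/-- A perfect minimal normal subgroup is simple modulo scalars or gives a tensor power. -/
theorem perfect_split [Fintype F] (hn : 3 ≤ n) {H N : Subgroup (GL (Fin n) F)} (hN : Nml H N)
    (habs : ActsAbsolutelyIrreducibly (matrixSet N)) (hns : ¬ N ≤ scalars (Fin n) F)
    (hmin : ∀ K, Nml H K → K ≤ N → K ≤ scalars (Fin n) F ∨ K = N) (hperf : ⁅N, N⁆ = N) :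
    (IsSimpleGroup (N ⧸ (scalars (Fin n) F).subgroupOf N) ∧
      ¬ IsMulCommutative (N ⧸ (scalars (Fin n) F).subgroupOf N) ∧
      ∀ h ∈ H, (∀ x ∈ N, h * x * h⁻¹ * x⁻¹ ∈ scalars (Fin n) F) → h ∈ scalars (Fin n) F) ∨
    ∃ (m k : ℕ) (Mf : Fin k → Subgroup (GL (Fin n) F)) (ρ : ∀ i, Mf i → Matrix (Fin m) (Fin m) F)
      (e : Fin n ≃ (Fin k → Fin m)) (P : GL (Fin n) F),
      2 ≤ m ∧ 2 ≤ k ∧ m ^ k = n ∧ (∀ i, ActsIrreducibly (Set.range (ρ i))) ∧
      (∀ i (x : Mf i), tcoord e P ((x : GL (Fin n) F) : Matrix (Fin n) (Fin n) F) = slot i (ρ i x)) ∧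
      ActsAbsolutelyIrreducibly (matrixSet (⨆ i, Mf i)) ∧ (∀ i, Mf i ≤ H) ∧ (∀ i, ⁅Mf i, Mf i⁆ = Mf i) ∧
      (∀ g ∈ H, ∃ σ : Equiv.Perm (Fin k), ∀ i, ∀ x ∈ Mf i, g * x * g⁻¹ ∈ Mf (σ i)) ∧
      ∀ i₀ l, ∃ g ∈ H, ∃ σ : Equiv.Perm (Fin k), σ i₀ = l ∧ ∀ i, ∀ x ∈ Mf i, g * x * g⁻¹ ∈ Mf (σ i) := by
  classical
  haveI : Finite (GL (Fin n) F) := Finite.of_injective _ Units.val_injective
  have hn1 : 1 ≤ n := by omega
  haveI : Nonempty (Fin n) := ⟨⟨0, hn1⟩⟩
  -- a minimal normal subgroup of N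
  obtain ⟨M, ⟨hM, hMns⟩, hMmin⟩ := (wellFounded_lt (α := Subgroup (GL (Fin n) F))).has_min
    {K | Nml N K ∧ ¬ K ≤ scalars (Fin n) F} ⟨N, Nml.self N, hns⟩
  have hMmin' : ∀ K, Nml N K → K ≤ M → K ≤ scalars (Fin n) F ∨ K = M := fun K hK hle => by
    by_cases hs : K ≤ scalars (Fin n) F
    · exact Or.inl hs
    · exact Or.inr (eq_of_le_of_not_lt hle fun hlt => hMmin K ⟨hK, hs⟩ hlt)
  by_cases hMN : M = N
  · -- almost simple
    subst hMN
    refine Or.inl ⟨?_, ?_, fun h _ hc => scalar_of_comm habs (comm_of_perfect hperf hc)⟩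
    · haveI : Nontrivial (M ⧸ (scalars (Fin n) F).subgroupOf M) := by
        obtain ⟨z, hz, hzs⟩ := SetLike.not_le_iff_exists.1 hns
        refine ⟨⟨QuotientGroup.mk (⟨z, hz⟩ : M), 1, fun e => hzs ?_⟩⟩
        exact Subgroup.mem_subgroupOf.1 ((QuotientGroup.eq_one_iff (⟨z, hz⟩ : M)).1 e)
      refine ⟨fun Nq hNq => ?_⟩
      let K : Subgroup (GL (Fin n) F) := (Nq.comap (QuotientGroup.mk' _)).map M.subtype
      have hK : Nml M K := by
        refine ⟨Subgroup.map_subtype_le _, ?_⟩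
        rintro g hg _ ⟨k, hk, rfl⟩
        exact ⟨_, (hNq.comap _).conj_mem k hk ⟨g, hg⟩, rfl⟩
      rcases hMmin' K hK hK.le with hKs | hKM
      · left
        rw [eq_bot_iff]
        intro z hz
        obtain ⟨z, rfl⟩ := QuotientGroup.mk_surjective z
        exact (QuotientGroup.eq_one_iff _).2 (hKs ⟨z, hz, rfl⟩)
      · right
        rw [eq_top_iff]
        intro z _
        obtain ⟨z, rfl⟩ := QuotientGroup.mk_surjective z
        obtain ⟨k, hk, e⟩ := (hKM.symm ▸ z.2 : (z : GL (Fin n) F) ∈ K)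
        rwa [Subtype.ext e] at hk
    · intro hcq
      apply hns
      rw [← hperf, Subgroup.commutator_le]
      intro a ha b hb
      have := hcq.is_comm.comm (QuotientGroup.mk (⟨a, ha⟩ : M)) (QuotientGroup.mk (⟨b, hb⟩ : M))
      rw [← QuotientGroup.mk_mul, ← QuotientGroup.mk_mul, eq_comm, QuotientGroup.eq,
        Subgroup.mem_subgroupOf] at this
      simp only [Subgroup.coe_mul, Subgroup.coe_inv, _root_.mul_inv_rev] at this
      have h2 := (inferInstance : (scalars (Fin n) F).Normal).conj_mem _ this (b * a)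
      simpa [commutatorElement_def, mul_assoc] using h2
  -- several commuting conjugates
  let cj : H → Subgroup (GL (Fin n) F) := fun h => M.map (MulAut.conj (h : GL (Fin n) F)).toMonoidHom
  have hcj1 : cj 1 = M := by
    ext x
    simp [cj, Subgroup.mem_map]
  have hcjN : ∀ h : H, Nml N (cj h) := by
    intro h
    refine ⟨?_, ?_⟩
    · rintro _ ⟨x, hx, rfl⟩
      exact hN.conj h h.2 x (hM.le hx)
    · rintro g hg _ ⟨x, hx, rfl⟩
      exact ⟨_, hM.conj _ (hN.conj' h.2 hg) x hx, by simp [mul_assoc]⟩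
  have hcjs : ∀ h : H, ¬ cj h ≤ scalars (Fin n) F := fun h hs => hMns fun x hx => by
    have := (inferInstance : (scalars (Fin n) F).Normal).conj_mem _ (hs ⟨x, hx, rfl⟩) (h : GL (Fin n) F)⁻¹
    simpa [mul_assoc] using this
  have hcjle : ∀ (h : H) K, Nml N K → K ≤ cj h → K ≤ scalars (Fin n) F ∨ K = cj h := by
    intro h K hK hle
    by_cases hKs : K ≤ scalars (Fin n) F
    · exact Or.inl hKs
    refine Or.inr (le_antisymm hle ?_)
    let K' := K.map (MulAut.conj (h : GL (Fin n) F)⁻¹).toMonoidHom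
    have hK'N : Nml N K' := by
      refine ⟨?_, ?_⟩
      · rintro _ ⟨k, hk, rfl⟩
        simpa using hN.conj' h.2 (hK.le hk)
      · rintro g hg _ ⟨k, hk, rfl⟩
        exact ⟨_, hK.conj _ (hN.conj h h.2 g hg) k hk, by simp [mul_assoc]⟩
    have hK'M : K' ≤ M := by
      rintro _ ⟨k, hk, rfl⟩
      obtain ⟨x, hx, rfl⟩ := hle hk
      simpa [mul_assoc] using hx
    have hK's : ¬ K' ≤ scalars (Fin n) F := fun hs => hKs fun k hk => by
      have := (inferInstance : (scalars (Fin n) F).Normal).conj_mem _ (hs ⟨k, hk, rfl⟩) (h : GL (Fin n) F)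
      simpa [mul_assoc] using this
    have hKM : K' = M := (hMmin' K' hK'N hK'M).resolve_left hK's
    rintro _ ⟨x, hx, rfl⟩
    obtain ⟨k, hk, e⟩ := hKM.symm ▸ hx
    rw [← e]
    simpa [mul_assoc] using hk
  have hmapcj : ∀ (g h : H), (cj h).map (MulAut.conj (g : GL (Fin n) F)).toMonoidHom = cj (g * h) := by
    intro g h
    simp only [cj, Subgroup.map_map]
    refine congrArg (fun f => M.map f) ?_
    ext x
    simp [mul_assoc]
  have hsup : (⨆ h : H, cj h) = N := by
    refine (hmin _ ⟨iSup_le fun h => (hcjN h).le.trans hN.le, fun g hg x hx => ?_⟩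
      (iSup_le fun h => (hcjN h).le)).resolve_left fun hs => hcjs 1 ((le_iSup cj 1).trans hs)
    have : (⨆ h : H, cj h).map (MulAut.conj g).toMonoidHom ≤ ⨆ h : H, cj h := by
      rw [Subgroup.map_iSup]
      refine iSup_le fun h => ?_
      have e := hmapcj ⟨g, hg⟩ h
      exact e.le.trans (le_iSup cj _)
    exact this ⟨x, hx, rfl⟩
  -- commutators of distinct conjugates are scalar
  have hpair : ∀ h h' : H, cj h ≠ cj h' → ∀ a ∈ cj h, ∀ b ∈ cj h', a * b * a⁻¹ * b⁻¹ ∈ scalars (Fin n) F := by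
    intro h h' hne' a ha b hb
    have hI : cj h ⊓ cj h' ≤ scalars (Fin n) F := by
      have hI' : Nml N (cj h ⊓ cj h') := ⟨inf_le_left.trans (hcjN h).le,
        fun g hg x hx => ⟨(hcjN h).conj g hg x hx.1, (hcjN h').conj g hg x hx.2⟩⟩
      refine (hcjle h _ hI' inf_le_left).resolve_right fun e => ?_
      rcases hcjle h' _ hI' inf_le_right with hs | e'
      · exact hcjs h (e ▸ hs)
      · exact hne' (e.symm.trans e')
    refine hI (Subgroup.mem_inf.2 ⟨?_, mul_mem ((hcjN h').conj a ((hcjN h).le ha) b hb) (inv_mem hb)⟩)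
    rw [mul_assoc, mul_assoc, ← mul_assoc b]
    exact mul_mem ha ((hcjN h).conj b ((hcjN h').le hb) _ (inv_mem ha))
  have hMperf : ⁅M, M⁆ = M := by
    rcases hMmin' _ (nml_commutator hM) (commutator_le_self M) with hs | hs
    swap
    · exact hs
    exfalso
    apply hns
    rw [← hperf]
    let q := QuotientGroup.mk' (scalars (Fin n) F)
    have hgen : ∀ a ∈ ⋃ h : H, (cj h : Set (GL (Fin n) F)), ∀ b ∈ ⋃ h : H, (cj h : Set (GL (Fin n) F)),
        a * b * a⁻¹ * b⁻¹ ∈ scalars (Fin n) F := by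
      simp only [Set.mem_iUnion, SetLike.mem_coe]
      rintro a ⟨h, ha⟩ b ⟨g, hb⟩
      by_cases e : cj h = cj g
      · rw [← e] at hb
        obtain ⟨x, hx, rfl⟩ := ha
        obtain ⟨y, hy, rfl⟩ := hb
        have := (inferInstance : (scalars (Fin n) F).Normal).conj_mem _
          (hs (Subgroup.commutator_mem_commutator hx hy)) (h : GL (Fin n) F)
        simpa [commutatorElement_def, mul_assoc] using this
      · exact hpair h g e a ha b hb
    have hP' : N.map q ≤ Subgroup.centralizer (N.map q) := by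
      have hPc : N = Subgroup.closure (⋃ h : H, (cj h : Set (GL (Fin n) F))) := by
        rw [← hsup, Subgroup.iSup_eq_closure]
      conv_lhs => rw [hPc]
      conv_rhs => rw [hPc]
      rw [MonoidHom.map_closure, Subgroup.centralizer_closure, Subgroup.closure_le]
      rintro _ ⟨a, ha, rfl⟩
      rw [SetLike.mem_coe, Subgroup.mem_centralizer_iff]
      rintro _ ⟨b, hb, rfl⟩
      rw [← map_mul, ← map_mul]
      refine QuotientGroup.eq_iff_div_mem.2 ?_
      simpa [div_eq_mul_inv, mul_assoc] using hgen b hb a ha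
    rw [Subgroup.commutator_le]
    intro a ha b hb
    have h2 := Subgroup.mem_centralizer_iff.1 (hP' ⟨b, hb, rfl⟩) _ ⟨a, ha, rfl⟩
    rw [← map_mul, ← map_mul] at h2
    simpa [commutatorElement_def, div_eq_mul_inv, mul_assoc] using QuotientGroup.eq_iff_div_mem.1 h2
  -- the distinct conjugates
  let C : Set (Subgroup (GL (Fin n) F)) := Set.range cj
  haveI : Finite C := Set.finite_range cj |>.to_subtype
  haveI := Fintype.ofFinite C
  let k := Fintype.card C
  let eC : Fin k ≃ C := (Fintype.equivFin C).symm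
  let Mf : Fin k → Subgroup (GL (Fin n) F) := fun i => (eC i).1
  have hMfcj : ∀ i, ∃ h : H, cj h = Mf i := fun i => (eC i).2
  have hMfinj : Function.Injective Mf := Subtype.val_injective.comp eC.injective
  have hMfsurj : ∀ h : H, ∃ i, Mf i = cj h := fun h => ⟨eC.symm ⟨cj h, h, rfl⟩, by simp [Mf]⟩
  have hcomm : ∀ i j, i ≠ j → ∀ a ∈ Mf i, ∀ b ∈ Mf j, a * b = b * a := by
    intro i j hij a ha b hb
    obtain ⟨g, hg⟩ := hMfcj i
    obtain ⟨h, hh⟩ := hMfcj j
    have hgh : cj g ≠ cj h := fun e => hij (hMfinj (by rw [← hg, ← hh, e]))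
    rw [← hg] at ha
    rw [← hh] at hb
    refine comm_of_perfect (M := cj h) (by rw [← Subgroup.map_commutator, hMperf]) (fun x hx => ?_) b hb
    exact hpair g h hgh a ha x hx
  have hsupf : (⨆ i, Mf i) = N := by
    rw [← hsup]
    refine le_antisymm (iSup_le fun i => ?_) (iSup_le fun h => ?_)
    · obtain ⟨h, hh⟩ := hMfcj i
      rw [← hh]
      exact le_iSup cj h
    · obtain ⟨i, hi⟩ := hMfsurj h
      rw [← hi]
      exact le_iSup Mf i
  have hk2 : 2 ≤ k := by
    by_contra hlt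
    refine hMN ((hmin M ⟨hM.le.trans hN.le, fun g hg x hx => ?_⟩ hM.le).resolve_left hMns)
    obtain ⟨i, hi⟩ := hMfsurj 1
    obtain ⟨j, hj⟩ := hMfsurj ⟨g, hg⟩
    have hij : i = j := Fin.ext (by have := i.isLt; have := j.isLt; omega)
    rw [← hij, hi, hcj1] at hj
    rw [hj]
    exact ⟨x, hx, rfl⟩
  -- the dimension of the factors
  have hS := semisimple_of_normal habs.1 hM
  obtain ⟨W, hW, -⟩ := exists_minInv (S := matrixSet M) (U := ⊤) (fun s _ v _ => Submodule.mem_top) top_ne_bot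
  have htop : comp (matrixSet M) W = ⊤ := by
    refine (PrimeDim.irreducible_iff.1 habs.1 _ (hsupf ▸ inv_iSup fun i => ?_)).resolve_left fun e =>
      hW.ne_bot (eq_bot_iff.2 ((le_comp W).trans e.le))
    obtain ⟨i₁, hi₁⟩ := hMfsurj 1
    rw [hcj1] at hi₁
    by_cases h : i = i₁
    · subst h; rw [hi₁]; exact inv_comp hW.inv
    · rintro _ ⟨x, hx, rfl⟩ v hv
      refine cent_comp W _ (mem_cent.2 ?_) v hv
      rintro _ ⟨y, hy, rfl⟩
      exact congrArg Units.val (hcomm i₁ i (Ne.symm h) y (hi₁.symm ▸ hy) x hx)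
  set m := Module.finrank F W with hm
  have hdimM : ∀ Y, MinInv (matrixSet M) Y → Module.finrank F Y = m := by
    intro Y hY
    obtain ⟨T, hT, rfl⟩ := exists_map_of_le_comp hS hW.inv hY (htop ▸ le_top)
    obtain ⟨-, hinj⟩ := hW.image hT hY.ne_bot
    refine le_antisymm (Submodule.finrank_map_le _ _) ?_
    let f : W →ₗ[F] W.map (Matrix.toLin' T) :=
      (Matrix.toLin' T).restrict (p := W) (q := W.map (Matrix.toLin' T)) fun v hv => ⟨v, hv, rfl⟩
    refine LinearMap.finrank_le_finrank_of_injective (f := f) ((injective_iff_map_eq_zero f).2 fun v hv => ?_)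
    refine Subtype.ext (hinj v v.2 ?_)
    exact (Matrix.toLin'_apply _ _).symm.trans (congrArg Subtype.val hv)
  have hm2 : 2 ≤ m := by
    by_contra hlt
    have hm1 : m = 1 := by
      have : 0 < m := Nat.pos_of_ne_zero fun h0 => hW.ne_bot (Submodule.finrank_eq_zero.1 h0)
      omega
    apply hMns
    intro x hx
    obtain ⟨w, hw, hw0⟩ := (Submodule.ne_bot_iff W).1 hW.ne_bot
    have hspan : W = Submodule.span F {w} := (Submodule.eq_of_le_of_finrank_le
      (by rwa [Submodule.span_le, Set.singleton_subset_iff]) (by rw [finrank_span_singleton hw0, ← hm, hm1])).symm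
    obtain ⟨c, hc⟩ := Submodule.mem_span_singleton.1 (hspan ▸ hW.inv _ ⟨x, hx, rfl⟩ w hw)
    have hxc : ∀ v ∈ comp (matrixSet M) W, (x : Matrix (Fin n) (Fin n) F) *ᵥ v = c • v := by
      intro v hv
      induction hv using Submodule.iSup_induction' with
      | mem T v hv =>
        obtain ⟨u, hu, rfl⟩ := hv
        obtain ⟨a, rfl⟩ := Submodule.mem_span_singleton.1 (hspan ▸ hu : u ∈ Submodule.span F {w})
        rw [Matrix.toLin'_apply, mulVec_mulVec, mem_cent.1 T.2 _ ⟨x, hx, rfl⟩, ← mulVec_mulVec,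
          mulVec_smul, ← hc, smul_comm a c w, mulVec_smul, mulVec_smul]
      | zero => rw [mulVec_zero, smul_zero]
      | add v w _ _ hv hw => rw [mulVec_add, hv, hw, smul_add]
    have hx' : (x : Matrix (Fin n) (Fin n) F) = c • 1 := Matrix.toLin'.injective (LinearMap.ext fun v => by
      rw [Matrix.toLin'_apply, Matrix.toLin'_apply, smul_mulVec, one_mulVec]
      exact hxc v (htop ▸ Submodule.mem_top))
    exact (Cfsg.Geo.mem_scalars_iff x).2 ⟨Units.mk0 c (fun e => x.ne_zero (by rw [hx', e, zero_smul])), hx'⟩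
  have hdim : ∀ i Y, MinInv (matrixSet (Mf i)) Y → Module.finrank F Y = m := by
    intro i Y hY
    obtain ⟨g, hg⟩ := hMfcj i
    rw [← hg] at hY
    exact finrank_minInv_conj (g : GL (Fin n) F) hdimM hY
  obtain ⟨ρ, e, P, hirr, hrep⟩ := tensor_factors hm2 k n Mf hn1 hcomm (hsupf ▸ habs) hdim
  have hperm : ∀ g ∈ H, ∃ σ : Equiv.Perm (Fin k), ∀ i, (Mf i).map (MulAut.conj g).toMonoidHom = Mf (σ i) := by
    intro g hg
    have hmove : ∀ i, ∃ j, (Mf i).map (MulAut.conj g).toMonoidHom = Mf j := by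
      intro i
      obtain ⟨h, hh⟩ := hMfcj i
      obtain ⟨j, hj⟩ := hMfsurj (⟨g, hg⟩ * h)
      exact ⟨j, by rw [← hh, hj]; exact hmapcj ⟨g, hg⟩ h⟩
    choose σ hσ using hmove
    have hσinj : Function.Injective σ := fun a b hab => hMfinj (Subgroup.map_injective
      (f := (MulAut.conj g).toMonoidHom) (MulAut.conj g).injective ((hσ a).trans (hab ▸ (hσ b).symm)))
    exact ⟨Equiv.ofBijective σ (Finite.injective_iff_bijective.1 hσinj), hσ⟩
  refine Or.inr ⟨m, k, Mf, ρ, e, P, hm2, hk2, by simpa using (Fintype.card_congr e).symm, hirr, hrep, hsupf ▸ habs,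
    fun i => (le_iSup Mf i).trans (hsupf.le.trans hN.le), fun i => ?_, fun g hg => ?_, fun i₀ l => ?_⟩
  · obtain ⟨h, hh⟩ := hMfcj i
    rw [← hh, ← Subgroup.map_commutator, hMperf]
  · obtain ⟨σ, hσ⟩ := hperm g hg
    exact ⟨σ, fun i x hx => hσ i ▸ ⟨x, hx, rfl⟩⟩
  · obtain ⟨a, ha⟩ := hMfcj i₀
    obtain ⟨b, hb⟩ := hMfcj l
    obtain ⟨σ, hσ⟩ := hperm _ (b * a⁻¹).2
    refine ⟨_, (b * a⁻¹).2, σ, hMfinj ?_, fun i x hx => hσ i ▸ ⟨x, hx, rfl⟩⟩
    rw [← hσ i₀, ← ha, ← hb, hmapcj, inv_mul_cancel_right]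

/-- The cases of a perfect minimal normal subgroup. -/
theorem perfect_cases [Fintype F] (hn : 3 ≤ n) {H N : Subgroup (GL (Fin n) F)} (hN : Nml H N)
    (habs : ActsAbsolutelyIrreducibly (matrixSet N)) (hns : ¬ N ≤ scalars (Fin n) F)
    (hmin : ∀ K, Nml H K → K ≤ N → K ≤ scalars (Fin n) F ∨ K = N) (hperf : ⁅N, N⁆ = N) :
    SubfieldCase H ∨ UnitaryCase H ∨ SympCase H ∨ QuadCase H ∨ WreathCase H ∨
      Cfsg.Geo.InLinearResidualClass H := by
  classical
  have hn1 : 1 ≤ n := by omega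
  rcases perfect_split hn hN habs hns hmin hperf with
    ⟨hsimp, hnab, hcent⟩ | ⟨m, k, Mf, ρ, e, P, hm2, hk2, hcard, hirr, hrep, habs', -, -, hperm, -⟩
  · -- almost simple
    by_cases h1 : ∃ F₀ : Subfield F, F₀ ≠ ⊤ ∧ Cfsg.Geo.RealisableOver F₀ (matrixSet N)
    · obtain ⟨F₀, hne, hr⟩ := h1
      exact Or.inl (PrimeDim.subfield_of_realisable hn1 hN habs hne hr)
    by_cases h2 : ∃ Q : (Fin n → F) → F,
        Cfsg.Geo.IsNondegenerateQuadraticForm Q ∧ Cfsg.Geo.FixesQuadForm (matrixSet N) Q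
    · obtain ⟨Q, hQ, hfix⟩ := h2
      by_cases hodd : Odd (Fintype.card F)
      · exact Or.inr (Or.inr (Or.inr (Or.inl ⟨Q, hQ, hodd,
          PrimeDim.quad_similarity_of_fixes hodd hQ hN habs hfix⟩)))
      · have h20 : (2 : F) = 0 := by
          obtain ⟨p, hp⟩ := CharP.exists F
          obtain ⟨j, hpp, hj⟩ := FiniteField.card F p
          rw [Nat.not_odd_iff_even, hj, Nat.even_pow] at hodd
          obtain rfl : 2 = p := (Nat.prime_dvd_prime_iff_eq Nat.prime_two hpp).1 hodd.1.two_dvd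
          exact_mod_cast CharP.cast_eq_zero F 2
        have halt : ∀ v, QuadraticMap.polar Q v v = 0 := fun v => by rw [PrimeDim.quad_self hQ, h20, zero_mul]
        refine Or.inr (Or.inr (Or.inl ⟨QuadraticMap.polar Q,
          ⟨hQ.polar_bilinear, fun v w => ?_, halt, hQ.nondegenerate⟩, ?_,
          PrimeDim.similarity_of_fixes (Sesq.of_bilinear hQ.polar_bilinear hQ.nondegenerate) hN habs
            fun s hs u v => by simp only [QuadraticMap.polar, ← mulVec_add, hfix s hs]⟩))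
        · rw [QuadraticMap.polar_comm, eq_neg_iff_add_eq_zero, ← two_mul, h20, zero_mul]
        · by_contra hev
          exact PrimeDim.no_alternating (Nat.not_even_iff_odd.1 hev) hQ.polar_bilinear halt hQ.nondegenerate
    by_cases h3 : ∃ (σ : F ≃+* F) (f : (Fin n → F) → (Fin n → F) → F),
        Cfsg.Geo.IsUnitaryForm σ f ∧ Cfsg.Geo.FixesForm (matrixSet N) f
    · obtain ⟨σ, f, hf, hfix⟩ := h3
      exact Or.inr (Or.inl ⟨σ, f, hf, PrimeDim.similarity_of_fixes (Sesq.of_unitary hf) hN habs hfix⟩)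
    by_cases h4 : ∃ f : (Fin n → F) → (Fin n → F) → F,
        Cfsg.Geo.IsSymplecticForm f ∧ Cfsg.Geo.FixesForm (matrixSet N) f
    · obtain ⟨f, hf, hfix⟩ := h4
      refine Or.inr (Or.inr (Or.inl ⟨f, hf, ?_,
        PrimeDim.similarity_of_fixes (Sesq.of_bilinear hf.bilinear hf.nondegenerate) hN habs hfix⟩))
      by_contra hev
      exact PrimeDim.no_alternating (Nat.not_even_iff_odd.1 hev) hf.bilinear hf.alternating hf.nondegenerate
    exact Or.inr (Or.inr (Or.inr (Or.inr (Or.inr ⟨N, ⟨hN.le, hN.conj, hperf, hsimp, hnab, hcent, habs,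
      fun F₀ hne hr => h1 ⟨F₀, hne, hr⟩⟩, h2, h4, h3⟩))))
  have hle : H ≤ tensorWreathSubgroup m k e P := fun g hg => by
    obtain ⟨σ, hσ⟩ := hperm g hg
    exact factor_normalizer hn1 (by omega) hirr hrep habs' hσ
  by_cases hm3 : 3 ≤ m
  · exact Or.inr (Or.inr (Or.inr (Or.inr (Or.inl ⟨m, k, e, P, hm3, hk2, hcard, hle⟩))))
  · obtain hm' : m = 2 := by omega
    subst hm'
    rcases wreath_two_form (by omega) hle with h | h
    · exact Or.inr (Or.inr (Or.inl h))
    · exact Or.inr (Or.inr (Or.inr (Or.inl h)))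

end CfsgLib.Asch
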