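import Cfsg.Agent.Lib.Classical.AschNotLe
import Cfsg.Agent.Lib.Classical.SympTrans

set_option autoImplicit false
set_option linter.unusedSectionVars false

/-!
The symplectic group lies in no member of the geometric classes.
-/

namespace CfsgLib.Asch.SympNotLe

open Matrix
open Cfsg (sympForm spGL)
open Cfsg.Geo (subspaceStabilizer decompositionStabilizer subalgebraNormalizer tensorProductSubgroup
  tensorWreathSubgroup glReindex scalars)
open CfsgLib.Classical.SympTrans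
open scoped MatrixGroups Kronecker

variable {F : Type*} [Field F] {m : ℕ}

/-- A transvection in the general linear group. -/
def tGL (v : Fin m ⊕ Fin m → F) (c : F) : GL (Fin m ⊕ Fin m) F := (toSpGL (T v c)).1

theorem tGL_mem (v : Fin m ⊕ Fin m → F) (c : F) : tGL v c ∈ spGL m F := (toSpGL (T v c)).2

theorem tGL_mulVec (v : Fin m ⊕ Fin m → F) (c : F) (x : Fin m ⊕ Fin m → F) :
    (tGL v c : Matrix (Fin m ⊕ Fin m) (Fin m ⊕ Fin m) F) *ᵥ x = x + (c * sympForm m F x v) • v :=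
  app_T v c x

theorem tGL_add (v : Fin m ⊕ Fin m → F) (c d : F) : tGL v c * tGL v d = tGL v (c + d) := by
  rw [tGL, tGL, tGL, ← Subgroup.coe_mul, ← map_mul, T_mul]

theorem tGL_zero (v : Fin m ⊕ Fin m → F) : tGL v (0 : F) = 1 := by
  rw [tGL, T_zero, map_one, Subgroup.coe_one]

/-- `x ↦ f(x, v)`. -/
def fLeft (v : Fin m ⊕ Fin m → F) : (Fin m ⊕ Fin m → F) →ₗ[F] F where
  toFun x := sympForm m F x v
  map_add' x y := f_add_left x y v
  map_smul' c x := f_smul_left c x v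

theorem exists_ker_two (hm : 2 ≤ m) (φ ψ : (Fin m ⊕ Fin m → F) →ₗ[F] F) :
    ∃ x, x ≠ 0 ∧ φ x = 0 ∧ ψ x = 0 := by
  have h1 := LinearMap.finrank_range_add_finrank_ker (φ.prod ψ)
  have h2 : Module.finrank F (LinearMap.range (φ.prod ψ)) ≤ 2 :=
    (Submodule.finrank_le _).trans (by rw [Module.finrank_prod, Module.finrank_self])
  rw [Module.finrank_pi, Fintype.card_sum, Fintype.card_fin] at h1
  obtain ⟨x, hx, hx0⟩ := Submodule.exists_mem_ne_zero_of_ne_bot (p := LinearMap.ker (φ.prod ψ))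
    fun e => by rw [e, finrank_bot] at h1; omega
  exact ⟨x, hx0, congrArg Prod.fst (LinearMap.mem_ker.1 hx), congrArg Prod.snd (LinearMap.mem_ker.1 hx)⟩

theorem exists_f_one {v : Fin m ⊕ Fin m → F} (hv : v ≠ 0) : ∃ x, sympForm m F x v = 1 := by
  obtain ⟨w, hw⟩ : ∃ w, sympForm m F v w ≠ 0 := by
    by_contra hc
    push Not at hc
    exact hv (eq_zero_of_f v hc)
  refine ⟨(-(sympForm m F v w)⁻¹) • w, ?_⟩
  rw [f_smul_left, f_swap v w, neg_mul_neg, inv_mul_cancel₀ hw]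

/-- A vector outside a subspace, not orthogonal to it. -/
theorem exists_moving {W : Submodule F (Fin m ⊕ Fin m → F)} (h0 : W ≠ ⊥) (h1 : W ≠ ⊤) :
    ∃ v, v ∉ W ∧ ∃ x ∈ W, sympForm m F x v ≠ 0 := by
  obtain ⟨w, hw, hw0⟩ := Submodule.exists_mem_ne_zero_of_ne_bot h0
  obtain ⟨a, ha⟩ : ∃ a, a ∉ W := by
    by_contra hc
    push Not at hc
    exact h1 (eq_top_iff.2 fun v _ => hc v)
  obtain ⟨b, hb⟩ : ∃ b, sympForm m F w b ≠ 0 := by
    by_contra hc
    push Not at hc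
    exact hw0 (eq_zero_of_f w hc)
  by_cases hbW : b ∈ W
  · by_cases hab : sympForm m F w a = 0
    · refine ⟨a + b, fun h => ha ((W.add_mem_iff_left hbW).1 h), w, hw, ?_⟩
      rwa [f_add_right, hab, zero_add]
    · exact ⟨a, ha, w, hw, hab⟩
  · exact ⟨b, hbW, w, hw, hb⟩

theorem not_le_stab {W : Submodule F (Fin m ⊕ Fin m → F)} (h0 : W ≠ ⊥) (h1 : W ≠ ⊤) :
    ¬ spGL m F ≤ subspaceStabilizer W := by
  intro hle
  obtain ⟨v, hv, x, hx, hne⟩ := exists_moving h0 h1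
  have h : (tGL v 1 : Matrix (Fin m ⊕ Fin m) (Fin m ⊕ Fin m) F) *ᵥ x ∈ W := ((hle (tGL_mem v 1)) x).1 hx
  rw [tGL_mulVec, one_mul] at h
  exact hv ((W.smul_mem_iff hne).1 ((W.add_mem_iff_right hx).1 h))

theorem not_le_decomp {t k : ℕ} {D : Fin t → Submodule F (Fin m ⊕ Fin m → F)}
    (hD : Cfsg.Geo.IsMDecomposition k D) (hk : 2 ≤ k) : ¬ spGL m F ≤ decompositionStabilizer D := by
  intro hle
  have ht := hD.two_le
  let l : Fin t := ⟨0, by omega⟩
  let l' : Fin t := ⟨1, by omega⟩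
  have h0 : D l ≠ ⊥ := fun e => by
    have := hD.finrank_eq l
    rw [e, finrank_bot] at this
    omega
  have h1 : D l ≠ ⊤ := fun e => by
    have hd := hD.indep.pairwiseDisjoint (show l ≠ l' by simp [l, l'])
    simp only [Function.onFun, e, top_disjoint] at hd
    have := hD.finrank_eq l'
    rw [hd, finrank_bot] at this
    omega
  obtain ⟨v, hv, x, hx, hne⟩ := exists_moving h0 h1
  obtain ⟨σ, hσ⟩ := hle (tGL_mem v (1 : F))
  obtain ⟨y, hy, hy0, hyv⟩ : ∃ y ∈ D l, y ≠ 0 ∧ sympForm m F y v = 0 := by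
    have h2 := LinearMap.finrank_range_add_finrank_ker ((fLeft v).domRestrict (D l))
    have h3 : Module.finrank F (LinearMap.range ((fLeft v).domRestrict (D l))) ≤ 1 :=
      (Submodule.finrank_le _).trans (Module.finrank_self F).le
    rw [hD.finrank_eq l] at h2
    obtain ⟨y, hy, hy0⟩ := Submodule.exists_mem_ne_zero_of_ne_bot
      (p := LinearMap.ker ((fLeft v).domRestrict (D l))) fun e => by rw [e, finrank_bot] at h2; omega
    exact ⟨y.1, y.2, fun e => hy0 (Subtype.ext e), hy⟩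
  have hmap : ∀ z ∈ D l, z + sympForm m F z v • v ∈ D (σ l) := fun z hz => by
    rw [← hσ l]
    exact ⟨z, hz, by rw [Matrix.toLin'_apply, tGL_mulVec, one_mul]⟩
  have hl : σ l = l := by
    by_contra hne'
    have hy' := hmap y hy
    rw [hyv, zero_smul, add_zero] at hy'
    exact hy0 (Submodule.disjoint_def.1 (hD.indep.pairwiseDisjoint hne') y hy' hy)
  have hx' := hmap x hx
  rw [hl] at hx'
  exact hv (((D l).smul_mem_iff hne).1 (((D l).add_mem_iff_right hx).1 hx'))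

theorem scalar_of_eigen {k : Matrix (Fin m ⊕ Fin m) (Fin m ⊕ Fin m) F}
    (h : ∀ v, ∃ a : F, k *ᵥ v = a • v) : ∃ a : F, k = a • 1 := by
  classical
  rcases isEmpty_or_nonempty (Fin m ⊕ Fin m) with hι | ⟨⟨i⟩⟩
  · exact ⟨0, Subsingleton.elim _ _⟩
  choose a ha using fun j : Fin m ⊕ Fin m => h (Pi.single j 1)
  have hij : ∀ j, a j = a i := fun j => by
    by_contra hne
    have hji : j ≠ i := fun e => hne (by rw [e])
    obtain ⟨b, hb⟩ := h (Pi.single j 1 + Pi.single i 1)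
    rw [mulVec_add, ha j, ha i] at hb
    have h1 := congrFun hb j
    have h2 := congrFun hb i
    simp [Pi.single_apply, hji, hji.symm] at h1 h2
    exact hne (h1.trans h2.symm)
  refine ⟨a i, Matrix.ext fun p q => ?_⟩
  have := congrFun (ha q) p
  rw [mulVec_single_one, hij q] at this
  simpa [Matrix.one_apply, Pi.single_apply] using this

theorem not_le_normalizer (hm : 2 ≤ m) {r : ℕ} (hr : 2 ≤ r)
    {K : Subalgebra F (Matrix (Fin m ⊕ Fin m) (Fin m ⊕ Fin m) F)} (hK : Cfsg.Geo.IsFieldSubalgebra r K) :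
    ¬ spGL m F ≤ subalgebraNormalizer K := by
  intro hle
  have hscal : ∀ k ∈ K, ∃ a : F, k = a • (1 : Matrix (Fin m ⊕ Fin m) (Fin m ⊕ Fin m) F) := by
    intro k hk
    refine scalar_of_eigen fun v => ?_
    by_cases hv0 : v = 0
    · exact ⟨0, by rw [hv0, mulVec_zero, smul_zero]⟩
    set A := (tGL v (1 : F) : Matrix (Fin m ⊕ Fin m) (Fin m ⊕ Fin m) F) with hA
    have hconj := (hle (tGL_mem v (1 : F)) k).1 hk
    rw [← hA] at hconj
    set y := A * k * (↑(tGL v (1 : F))⁻¹ : Matrix (Fin m ⊕ Fin m) (Fin m ⊕ Fin m) F) - k with hy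
    have hyK : y ∈ K := sub_mem hconj hk
    have hyA : ∀ x, y *ᵥ (A *ᵥ x) = A *ᵥ (k *ᵥ x) - k *ᵥ (A *ᵥ x) := by
      intro x
      rw [hy, sub_mulVec, mulVec_mulVec x A k, mulVec_mulVec, mul_assoc (A * k),
        show (↑(tGL v (1 : F))⁻¹ : Matrix (Fin m ⊕ Fin m) (Fin m ⊕ Fin m) F) * A = 1 from Units.inv_mul _,
        mul_one, ← mulVec_mulVec]
    have hy0 : y = 0 := by
      by_contra hne
      obtain ⟨x, hx0, hx1, hx2⟩ := exists_ker_two hm (fLeft v) ((fLeft v).comp (Matrix.toLin' k))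
      have e1 : A *ᵥ x = x := by
        rw [hA, tGL_mulVec, show sympForm m F x v = 0 from hx1, mul_zero, zero_smul, add_zero]
      have e2 : A *ᵥ (k *ᵥ x) = k *ᵥ x := by
        rw [hA, tGL_mulVec, show sympForm m F (k *ᵥ x) v = 0 from hx2, mul_zero, zero_smul, add_zero]
      have h0 : y *ᵥ x = 0 := by
        have := hyA x
        rwa [e1, e2, sub_self] at this
      obtain ⟨z, hz, hyz⟩ := hK.inv y hyK hne
      rw [hK.comm y hyK z hz] at hyz
      have := congrArg (fun X => X *ᵥ x) hyz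
      simp only [← mulVec_mulVec, h0, mulVec_zero, one_mulVec] at this
      exact hx0 this.symm
    obtain ⟨x, hx⟩ := exists_f_one hv0
    have := hyA x
    rw [hy0, zero_mulVec, hA, tGL_mulVec, tGL_mulVec, hx, mulVec_add, mulVec_smul, one_mul, one_mul, one_smul] at this
    refine ⟨sympForm m F (k *ᵥ x) v, ?_⟩
    exact (add_left_cancel (sub_eq_zero.1 this.symm)).symm
  have hle1 : Subalgebra.toSubmodule K ≤
      Submodule.span F {(1 : Matrix (Fin m ⊕ Fin m) (Fin m ⊕ Fin m) F)} := fun k hk => by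
    obtain ⟨a, ha⟩ := hscal k hk
    exact Submodule.mem_span_singleton.2 ⟨a, ha.symm⟩
  have h1 := Submodule.finrank_mono hle1
  have h2 : Module.finrank F (Submodule.span F {(1 : Matrix (Fin m ⊕ Fin m) (Fin m ⊕ Fin m) F)}) ≤ 1 := by
    simpa using finrank_span_le_card ({(1 : Matrix (Fin m ⊕ Fin m) (Fin m ⊕ Fin m) F)} :
      Set (Matrix (Fin m ⊕ Fin m) (Fin m ⊕ Fin m) F))
  rw [Subalgebra.finrank_toSubmodule, hK.finrank_eq] at h1
  omega

theorem not_le_of_set {M : Subgroup (GL (Fin m ⊕ Fin m) F)} (S : Set (Fin m ⊕ Fin m → F))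
    (hS : ∀ g ∈ M, ∀ p ∈ S, (g : Matrix (Fin m ⊕ Fin m) (Fin m ⊕ Fin m) F) *ᵥ p ∈ S)
    (hspan : Submodule.span F S = ⊤) {u : Fin m ⊕ Fin m → F} (hu : u ∉ S) (hu0 : u ≠ 0) :
    ¬ spGL m F ≤ M := by
  intro hle
  obtain ⟨p, hp, hpu⟩ : ∃ p ∈ S, sympForm m F p u ≠ 0 := by
    by_contra hc
    push Not at hc
    obtain ⟨x, hx⟩ := exists_f_one hu0
    have : Submodule.span F S ≤ LinearMap.ker (fLeft u) := Submodule.span_le.2 fun p hp => hc p hp
    rw [hspan] at this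
    exact one_ne_zero (hx.symm.trans (this (Submodule.mem_top : x ∈ _)))
  have := hS _ (hle (tGL_mem (u - p) (sympForm m F p u)⁻¹)) p hp
  rw [tGL_mulVec, f_sub_right, f_self, sub_zero, inv_mul_cancel₀ hpu, one_smul, add_sub_cancel] at this
  exact hu this

theorem coord_action {μ : Type} [Fintype μ] [DecidableEq μ] (e : (Fin m ⊕ Fin m) ≃ μ)
    (P : GL (Fin m ⊕ Fin m) F) (w : GL μ F) (x : μ → F) :
    (MulAut.conj P (glReindex e.symm w) : GL (Fin m ⊕ Fin m) F).val *ᵥ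
        ((P : Matrix (Fin m ⊕ Fin m) (Fin m ⊕ Fin m) F) *ᵥ (x ∘ e)) =
      (P : Matrix (Fin m ⊕ Fin m) (Fin m ⊕ Fin m) F) *ᵥ (((w : Matrix μ μ F) *ᵥ x) ∘ e) := by
  have h : ((glReindex e.symm w : GL (Fin m ⊕ Fin m) F) : Matrix (Fin m ⊕ Fin m) (Fin m ⊕ Fin m) F) *ᵥ (x ∘ e) =
      ((w : Matrix μ μ F) *ᵥ x) ∘ e := by
    funext i
    simp only [mulVec, dotProduct, Function.comp_apply, glReindex]
    exact Fintype.sum_equiv e _ _ fun j => by simp
  rw [MulAut.conj_apply, Units.val_mul, Units.val_mul, mulVec_mulVec, mul_assoc,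
    Units.inv_mul, mul_one, ← mulVec_mulVec, h]

theorem coord_span {μ : Type} [Fintype μ] [DecidableEq μ] (e : (Fin m ⊕ Fin m) ≃ μ)
    (P : GL (Fin m ⊕ Fin m) F) {S : Set (μ → F)} (hS : ∀ a : μ, Pi.single a 1 ∈ S) :
    Submodule.span F ((fun x => (P : Matrix (Fin m ⊕ Fin m) (Fin m ⊕ Fin m) F) *ᵥ (x ∘ e)) '' S) = ⊤ := by
  let L : (μ → F) ≃ₗ[F] (Fin m ⊕ Fin m → F) := LinearEquiv.funCongrLeft F F e
  have hL : (fun x : μ → F => (P : Matrix (Fin m ⊕ Fin m) (Fin m ⊕ Fin m) F) *ᵥ (x ∘ e)) =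
      ⇑((Matrix.toLin' (P : Matrix (Fin m ⊕ Fin m) (Fin m ⊕ Fin m) F)).comp L.toLinearMap) := by
    funext x
    rw [LinearMap.comp_apply, Matrix.toLin'_apply]
    rfl
  rw [hL, Submodule.span_image, eq_top_iff]
  rintro v -
  refine ⟨L.symm ((↑P⁻¹ : Matrix (Fin m ⊕ Fin m) (Fin m ⊕ Fin m) F) *ᵥ v), ?_, ?_⟩
  · set x := L.symm ((↑P⁻¹ : Matrix (Fin m ⊕ Fin m) (Fin m ⊕ Fin m) F) *ᵥ v) with hx
    rw [SetLike.mem_coe, ← Finset.univ_sum_single x]
    refine Submodule.sum_mem _ fun a _ => ?_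
    rw [show Pi.single a (x a) = x a • (Pi.single a (1 : F) : μ → F) by
      rw [← Pi.single_smul, smul_eq_mul, mul_one]]
    exact Submodule.smul_mem _ _ (Submodule.subset_span (hS a))
  · rw [LinearMap.comp_apply, LinearEquiv.coe_coe, LinearEquiv.apply_symm_apply, Matrix.toLin'_apply,
      mulVec_mulVec, Units.mul_inv, one_mulVec]

theorem coord_injective {μ : Type} (e : (Fin m ⊕ Fin m) ≃ μ) (P : GL (Fin m ⊕ Fin m) F) {x y : μ → F}
    (h : (P : Matrix (Fin m ⊕ Fin m) (Fin m ⊕ Fin m) F) *ᵥ (x ∘ e) =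
      (P : Matrix (Fin m ⊕ Fin m) (Fin m ⊕ Fin m) F) *ᵥ (y ∘ e)) : x = y := by
  have := congrArg (fun z => (↑P⁻¹ : Matrix (Fin m ⊕ Fin m) (Fin m ⊕ Fin m) F) *ᵥ z) h
  simp only [mulVec_mulVec, Units.inv_mul, one_mulVec] at this
  funext a
  simpa using congrFun this (e.symm a)

theorem not_le_tensor {n₁ n₂ : ℕ} (h1 : 2 ≤ n₁) (h2 : 2 ≤ n₂) (e : (Fin m ⊕ Fin m) ≃ Fin n₁ × Fin n₂)
    (P : GL (Fin m ⊕ Fin m) F) : ¬ spGL m F ≤ tensorProductSubgroup n₁ n₂ e P := by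
  classical
  let S : Set (Fin n₁ × Fin n₂ → F) := {x | ∃ (a : Fin n₁ → F) (b : Fin n₂ → F), ∀ i j, x (i, j) = a i * b j}
  let a0 : Fin n₁ := ⟨0, by omega⟩
  let a1 : Fin n₁ := ⟨1, by omega⟩
  let b0 : Fin n₂ := ⟨0, by omega⟩
  let b1 : Fin n₂ := ⟨1, by omega⟩
  have ha : a0 ≠ a1 := by simp [a0, a1]
  have hb : b0 ≠ b1 := by simp [b0, b1]
  let u : Fin n₁ × Fin n₂ → F := Pi.single (a0, b0) 1 + Pi.single (a1, b1) 1
  have hu : u ∉ S := by
    rintro ⟨a, b, hab⟩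
    have e00 := hab a0 b0
    have e11 := hab a1 b1
    have e01 := hab a0 b1
    simp [u, Pi.single_apply, ha, ha.symm, hb, hb.symm] at e00 e11 e01
    rcases e01 with h | h
    · rw [h, zero_mul] at e00
      exact one_ne_zero e00
    · rw [h, mul_zero] at e11
      exact one_ne_zero e11
  refine not_le_of_set _ ?_ (coord_span e P (S := S) fun p => ⟨Pi.single p.1 1, Pi.single p.2 1, fun i j => ?_⟩)
    (u := (P : Matrix (Fin m ⊕ Fin m) (Fin m ⊕ Fin m) F) *ᵥ (u ∘ e))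
    (fun ⟨x, hx, hxu⟩ => hu (coord_injective e P hxu ▸ hx)) (fun h0 => hu ?_)
  · rintro g ⟨k, ⟨w, ⟨A, B, hw⟩, rfl⟩, rfl⟩ _ ⟨x, ⟨a, b, hab⟩, rfl⟩
    refine ⟨(w : Matrix (Fin n₁ × Fin n₂) (Fin n₁ × Fin n₂) F) *ᵥ x,
      ⟨(A : Matrix (Fin n₁) (Fin n₁) F) *ᵥ a, (B : Matrix (Fin n₂) (Fin n₂) F) *ᵥ b, fun i j => ?_⟩,
      (coord_action e P w x).symm⟩
    rw [hw]
    simp only [mulVec, dotProduct, Fintype.sum_prod_type, Matrix.kronecker_apply, hab, Finset.sum_mul_sum]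
    exact Finset.sum_congr rfl fun c _ => Finset.sum_congr rfl fun d _ => by ring
  · obtain ⟨p, q⟩ := p
    simp only [Pi.single_apply, Prod.mk.injEq]
    split_ifs <;> simp_all
  · have : u = 0 := coord_injective e P (h0.trans (by
      rw [show ((0 : Fin n₁ × Fin n₂ → F) ∘ e) = 0 from rfl, mulVec_zero]))
    rw [this]
    exact ⟨0, 0, fun i j => by simp⟩

theorem not_le_wreath [Finite F] {k t : ℕ} (hk : 2 ≤ k) (ht : 2 ≤ t) (e : (Fin m ⊕ Fin m) ≃ (Fin t → Fin k))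
    (P : GL (Fin m ⊕ Fin m) F) : ¬ spGL m F ≤ tensorWreathSubgroup k t e P := by
  classical
  let a0 : Fin k := ⟨0, by omega⟩
  let a1 : Fin k := ⟨1, by omega⟩
  have ha : a0 ≠ a1 := by simp [a0, a1]
  let i0 : Fin t := ⟨0, by omega⟩
  let i1 : Fin t := ⟨1, by omega⟩
  have hi : i1 ≠ i0 := by simp [i0, i1]
  let x0 : Fin t → Fin k := fun _ => a0
  let x1 : Fin t → Fin k := fun _ => a1
  let x01 : Fin t → Fin k := Function.update x0 i0 a1
  let u : (Fin t → Fin k) → F := Pi.single x0 1 + Pi.single x1 1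
  have hx : x1 ≠ x0 := fun h => ha (congrFun h i0).symm
  have hne0 : x01 ≠ x0 := fun h => ha (by simpa [x01, x0] using (congrFun h i0).symm)
  have hne1 : x01 ≠ x1 := fun h => ha (by
    have := congrFun h i1
    simpa [x01, x0, x1, Function.update_of_ne hi] using this)
  have hu : u ∉ pureVecs F k t := by
    rintro ⟨a, hab⟩
    have e0 := hab x0
    have e1 := hab x1
    have e01 := hab x01
    simp [u, Pi.single_apply, hx, hx.symm, hne0, hne1] at e0 e1 e01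
    obtain ⟨i, hi0⟩ := Finset.prod_eq_zero_iff.1 e01.symm
    by_cases hii : i = i0
    · subst hii
      simp [x01] at hi0
      exact one_ne_zero (e1.trans (Finset.prod_eq_zero (Finset.mem_univ i0) hi0))
    · simp [x01, Function.update_of_ne hii] at hi0
      exact one_ne_zero (e0.trans (Finset.prod_eq_zero (Finset.mem_univ i) hi0))
  refine not_le_of_set _ ?_ (coord_span e P (S := pureVecs F k t) fun p => ⟨fun i => Pi.single (p i) 1, fun x => ?_⟩)
    (u := (P : Matrix (Fin m ⊕ Fin m) (Fin m ⊕ Fin m) F) *ᵥ (u ∘ e))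
    (fun ⟨x, hx, hxu⟩ => hu (coord_injective e P hxu ▸ hx)) (fun h0 => hu ?_)
  · rintro g ⟨k', ⟨w, hw, rfl⟩, rfl⟩ _ ⟨x, hx, rfl⟩
    exact ⟨_, wreathStandard_pure hw x hx, (coord_action e P w x).symm⟩
  · by_cases hxp : x = p
    · subst hxp
      simp
    · obtain ⟨i, hi⟩ := Function.ne_iff.1 hxp
      rw [Pi.single_eq_of_ne hxp]
      exact (Finset.prod_eq_zero (Finset.mem_univ i) (Pi.single_eq_of_ne hi _)).symm
  · have : u = 0 := coord_injective e P (h0.trans (by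
      rw [show ((0 : (Fin t → Fin k) → F) ∘ e) = 0 from rfl, mulVec_zero]))
    rw [this]
    exact ⟨fun _ => 0, fun x => (Finset.prod_eq_zero (Finset.mem_univ i0) rfl).symm⟩

theorem not_le_subfield [Fintype F] (hm : 1 ≤ m) {F₀ : Subfield F} {r : ℕ} (hr : r.Prime)
    (hcard : Fintype.card F = Nat.card F₀ ^ r) (P : GL (Fin m ⊕ Fin m) F) :
    ¬ spGL m F ≤ Cfsg.Geo.subfieldSubgroup F₀ P := by
  classical
  intro hle
  let i : Fin m ⊕ Fin m := .inl ⟨0, hm⟩
  set v := (P : Matrix (Fin m ⊕ Fin m) (Fin m ⊕ Fin m) F) *ᵥ Pi.single i 1 with hv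
  have hv0 : v ≠ 0 := fun e0 => by
    have := congrArg (fun z => (↑P⁻¹ : Matrix (Fin m ⊕ Fin m) (Fin m ⊕ Fin m) F) *ᵥ z) e0
    simp only [hv, mulVec_mulVec, Units.inv_mul, one_mulVec, mulVec_zero] at this
    exact (show (Pi.single i (1 : F) : Fin m ⊕ Fin m → F) ≠ 0 by simp) this
  obtain ⟨j, hj⟩ : ∃ j, sympForm m F ((P : Matrix (Fin m ⊕ Fin m) (Fin m ⊕ Fin m) F) *ᵥ Pi.single j 1) v ≠ 0 := by
    by_contra hc
    push Not at hc
    obtain ⟨x, hx⟩ := exists_f_one hv0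
    have := coord_span (Equiv.refl (Fin m ⊕ Fin m)) P
      (S := {y | sympForm m F ((P : Matrix (Fin m ⊕ Fin m) (Fin m ⊕ Fin m) F) *ᵥ y) v = 0}) hc
    have h' : Submodule.span F ((fun y => (P : Matrix (Fin m ⊕ Fin m) (Fin m ⊕ Fin m) F) *ᵥ
        (y ∘ Equiv.refl (Fin m ⊕ Fin m))) '' {y | sympForm m F ((P : Matrix (Fin m ⊕ Fin m) (Fin m ⊕ Fin m) F) *ᵥ y) v = 0}) ≤
        LinearMap.ker (fLeft v) := Submodule.span_le.2 (by rintro _ ⟨y, hy, rfl⟩; exact hy)
    rw [this] at h'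
    exact one_ne_zero (hx.symm.trans (h' (Submodule.mem_top : x ∈ _)))
  have hji : j ≠ i := fun e => hj (by rw [e, ← hv]; exact f_self v)
  set φ := sympForm m F ((P : Matrix (Fin m ⊕ Fin m) (Fin m ⊕ Fin m) F) *ᵥ Pi.single j 1) v with hφ
  have hall : ∀ c : F, c * φ ∈ F₀ := by
    intro c
    obtain ⟨g, hg, hgeq⟩ := hle (tGL_mem v c)
    haveI : (scalars (Fin m ⊕ Fin m) F).Normal := inferInstance
    obtain ⟨y, ⟨A, rfl⟩, z, hz, rfl⟩ := Subgroup.mem_sup_of_normal_right.1 hg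
    obtain ⟨l, hl⟩ := (Cfsg.Geo.mem_scalars_iff z).1 hz
    have hcol : ∀ b a, ((A : Matrix (Fin m ⊕ Fin m) (Fin m ⊕ Fin m) F₀) a b : F) * (l : F) =
        (Pi.single b 1 + (c * sympForm m F ((P : Matrix (Fin m ⊕ Fin m) (Fin m ⊕ Fin m) F) *ᵥ Pi.single b 1) v) •
          Pi.single i (1 : F) : Fin m ⊕ Fin m → F) a := by
      intro b a
      have h1 := tGL_mulVec v c ((P : Matrix (Fin m ⊕ Fin m) (Fin m ⊕ Fin m) F) *ᵥ Pi.single b 1)
      rw [← hgeq] at h1
      have h2 := congrArg (fun z => ((↑P⁻¹ : Matrix (Fin m ⊕ Fin m) (Fin m ⊕ Fin m) F) *ᵥ z) a) h1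
      simp only [MulEquiv.coe_toMonoidHom, MulAut.conj_apply, Units.val_mul, mulVec_mulVec, hl, mul_smul_comm,
        mul_one, hv, mulVec_add, mulVec_smul, ← mul_assoc, Units.inv_mul, one_mul] at h2
      simp only [mul_assoc, Units.inv_mul, mul_one, one_mulVec, mulVec_single_one] at h2
      simp only [hv]
      rw [← mulVec_single_one] at *
      simp [Matrix.GeneralLinearGroup.map, Subfield.subtype, mul_comm, Matrix.one_apply, Pi.single_apply] at h2 ⊢
      exact h2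
    have hii := hcol i i
    rw [← hv, f_self, mul_zero, zero_smul, add_zero, Pi.single_eq_same] at hii
    have hlF : (l : F) ∈ F₀ := by
      have hA : ((A : Matrix (Fin m ⊕ Fin m) (Fin m ⊕ Fin m) F₀) i i : F) ≠ 0 := fun e => by
        rw [e, zero_mul] at hii
        exact zero_ne_one hii
      have : (l : F) = ((A : Matrix (Fin m ⊕ Fin m) (Fin m ⊕ Fin m) F₀) i i : F)⁻¹ :=
        eq_inv_of_mul_eq_one_right hii
      rw [this]
      exact F₀.inv_mem ((A : Matrix (Fin m ⊕ Fin m) (Fin m ⊕ Fin m) F₀) i i).2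
    have hji' := hcol j i
    rw [Pi.add_apply, Pi.single_eq_of_ne hji.symm, zero_add, Pi.smul_apply, Pi.single_eq_same, smul_eq_mul,
      mul_one, ← hφ] at hji'
    rw [← hji']
    exact F₀.mul_mem ((A : Matrix (Fin m ⊕ Fin m) (Fin m ⊕ Fin m) F₀) i j).2 hlF
  have htop : ∀ x : F, x ∈ F₀ := fun x => by
    have := hall (x * φ⁻¹)
    rwa [mul_assoc, inv_mul_cancel₀ hj, mul_one] at this
  have hc : Nat.card F₀ = Fintype.card F := by
    rw [← Nat.card_eq_fintype_card]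
    exact Nat.card_congr (Equiv.subtypeUnivEquiv htop)
  rw [hc] at hcard
  exact absurd hcard.symm (Nat.ne_of_gt (by
    conv_lhs => rw [← pow_one (Fintype.card F)]
    exact Nat.pow_lt_pow_right Fintype.one_lt_card hr.one_lt))

theorem not_le_quad {Q : (Fin m ⊕ Fin m → F) → F} (hm : 2 ≤ m) (hQ : Cfsg.Geo.IsNondegenerateQuadraticForm Q)
    (hpol : ∀ u v, QuadraticMap.polar Q u v = sympForm m F u v) : ¬ spGL m F ≤ Cfsg.Geo.quadSimilarityGroup Q := by
  intro hle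
  have hadd : ∀ u v, Q (u + v) = Q u + Q v + sympForm m F u v := fun u v => by
    rw [← hpol, QuadraticMap.polar]; ring
  obtain ⟨v, hv0, hv⟩ : ∃ v : Fin m ⊕ Fin m → F, v ≠ 0 ∧ Q v + 1 ≠ 0 := by
    by_contra hc
    push Not at hc
    let u : Fin m ⊕ Fin m → F := Pi.single (.inl ⟨0, by omega⟩) 1
    have hu : u ≠ 0 := by simp [u]
    let w : Fin m ⊕ Fin m → F := Pi.single (.inl ⟨1, by omega⟩) 1
    have hw : w ≠ 0 := by simp [w]
    have huw : u + w ≠ 0 := fun e => by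
      have := congrFun e (.inl ⟨0, by omega⟩)
      simp [u, w] at this
    have h0 : sympForm m F u w = 0 := by simp [u, w, f_inl]
    have h1 := hc _ huw
    rw [hadd, h0] at h1
    exact one_ne_zero (show (1 : F) = 0 by linear_combination hc u hu + hc w hw - h1)
  obtain ⟨c, hc⟩ := hle (tGL_mem v (1 : F))
  obtain ⟨x, hx⟩ := exists_f_one hv0
  obtain ⟨y, hy⟩ : ∃ y, sympForm m F v y ≠ 0 := by
    by_contra hc
    push Not at hc
    exact hv0 (eq_zero_of_f v hc)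
  have hc1 : (c : F) = 1 := by
    have e1 := hc (v + y)
    rw [mulVec_add, hadd, hadd, hc, hc, tGL_mulVec, tGL_mulVec, f_self, mul_zero, zero_smul, add_zero,
      f_add_right, f_smul_right, f_self, mul_zero, add_zero] at e1
    exact (mul_eq_right₀ hy).1 (by linear_combination -e1)
  have e2 := hc x
  rw [tGL_mulVec, hadd, hQ.smul, f_smul_right, hx, hc1] at e2
  exact hv (by linear_combination e2)

theorem pow_tGL_char [Fintype F] {p : ℕ} [CharP F p] (v : Fin m ⊕ Fin m → F) (c : F) : tGL v c ^ p = 1 := by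
  have : ∀ k : ℕ, tGL v c ^ k = tGL v ((k : F) * c) := fun k => by
    induction k with
    | zero => rw [pow_zero, Nat.cast_zero, zero_mul, tGL_zero]
    | succ k ih => rw [pow_succ, ih, tGL_add, Nat.cast_succ, add_mul, one_mul]
  rw [this, CharP.cast_eq_zero, zero_mul, tGL_zero]

theorem conj_tGL {g : GL (Fin m ⊕ Fin m) F} {μ : F} (hμ : μ ≠ 0)
    (hg : ∀ u v, sympForm m F ((g : Matrix (Fin m ⊕ Fin m) (Fin m ⊕ Fin m) F) *ᵥ u)
      ((g : Matrix (Fin m ⊕ Fin m) (Fin m ⊕ Fin m) F) *ᵥ v) = μ * sympForm m F u v)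
    (v : Fin m ⊕ Fin m → F) (c : F) :
    g * tGL v c * g⁻¹ = tGL ((g : Matrix (Fin m ⊕ Fin m) (Fin m ⊕ Fin m) F) *ᵥ v) (c * μ⁻¹) := by
  rw [mul_inv_eq_iff_eq_mul]
  refine Units.ext (Matrix.toLin'.injective (LinearMap.ext fun x => ?_))
  rw [Matrix.toLin'_apply, Matrix.toLin'_apply, Units.val_mul, Units.val_mul, ← mulVec_mulVec, ← mulVec_mulVec,
    tGL_mulVec, tGL_mulVec, hg, mulVec_add, mulVec_smul]
  congr 2
  field_simp

/-- The symplectic group normalises no non-scalar group of exponent four of similitudes. -/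
theorem not_le_subgroupNormalizer [Fintype F] (hm : 2 ≤ m) {p : ℕ} [CharP F p] (hpo : Odd p)
    {R : Subgroup (GL (Fin m ⊕ Fin m) F)} (hexp : ∀ g ∈ R, g ^ 4 = 1) (hns : ¬ R ≤ scalars (Fin m ⊕ Fin m) F)
    (hsim : R ≤ Cfsg.Geo.similarityGroup (sympForm m F)) : ¬ spGL m F ≤ Cfsg.Geo.subgroupNormalizer R := by
  intro hle
  have hnorm : ∀ g ∈ spGL m F, ∀ r ∈ R, g * r * g⁻¹ ∈ R := fun g hg r hr =>
    ((Subgroup.mem_normalizer_iff.1 (hle hg)) r).1 hr
  have hcop : Nat.Coprime 4 p := by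
    have h2 : Nat.Coprime 2 p := (Nat.prime_two.coprime_iff_not_dvd).2 (by obtain ⟨k, rfl⟩ := hpo; omega)
    simpa using Nat.Coprime.pow_left 2 h2
  obtain ⟨r, hr, hrs⟩ := SetLike.not_le_iff_exists.1 hns
  obtain ⟨v, hv⟩ : ∃ v, ∀ a : F, (r : Matrix (Fin m ⊕ Fin m) (Fin m ⊕ Fin m) F) *ᵥ v ≠ a • v := by
    by_contra hc
    push Not at hc
    obtain ⟨a, ha⟩ := scalar_of_eigen hc
    have ha0 : a ≠ 0 := fun e => by
      have : (r : Matrix (Fin m ⊕ Fin m) (Fin m ⊕ Fin m) F) = 0 := by rw [ha, e, zero_smul]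
      haveI hne : Nonempty (Fin m ⊕ Fin m) := ⟨.inl ⟨0, by omega⟩⟩
      exact r.ne_zero this
    exact hrs ((Cfsg.Geo.mem_scalars_iff r).2 ⟨Units.mk0 a ha0, ha⟩)
  obtain ⟨μ, hμ⟩ := hsim hr
  -- a commutator fixing a non-zero vector
  set w := (r : Matrix (Fin m ⊕ Fin m) (Fin m ⊕ Fin m) F) *ᵥ v with hw
  obtain ⟨y, hyR, hySp, hy1, x₀, hx₀, hyx₀⟩ : ∃ y ∈ R, y ∈ spGL m F ∧ y ≠ 1 ∧ ∃ x : Fin m ⊕ Fin m → F,
      x ≠ 0 ∧ (y : Matrix (Fin m ⊕ Fin m) (Fin m ⊕ Fin m) F) *ᵥ x = x := by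
    refine ⟨tGL v 1 * tGL w (-((μ : F)⁻¹)), ?_, mul_mem (tGL_mem _ _) (tGL_mem _ _), fun e => ?_, ?_⟩
    · have h1 : (tGL v (1 : F))⁻¹ = tGL v (-1) := inv_eq_of_mul_eq_one_right (by
        rw [tGL_add, add_neg_cancel, tGL_zero])
      have h2 : r * tGL v (-1) * r⁻¹ = tGL w (-((μ : F)⁻¹)) := by
        rw [conj_tGL μ.ne_zero hμ, neg_one_mul]
      rw [← h2, ← h1]
      have := mul_mem (hnorm _ (tGL_mem v (1 : F)) r hr) (inv_mem hr)
      simpa only [mul_assoc] using this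
    · obtain ⟨x, hx⟩ := exists_f_one (show v ≠ 0 from fun e0 => hv 0 (by rw [hw, e0, mulVec_zero, zero_smul]))
      have h3 := congrArg (fun g : GL (Fin m ⊕ Fin m) F =>
        (g : Matrix (Fin m ⊕ Fin m) (Fin m ⊕ Fin m) F) *ᵥ x) e
      simp only [Units.val_mul, Units.val_one, ← mulVec_mulVec, one_mulVec, tGL_mulVec, one_mul] at h3
      rw [f_add_left, f_smul_left, add_assoc, add_eq_left] at h3
      by_cases hb : -((μ : F)⁻¹) * sympForm m F x w = 0
      · rw [hb, zero_smul, zero_mul, add_zero, zero_add, hx, one_smul] at h3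
        exact hv 0 (by rw [hw, h3, mulVec_zero, zero_smul])
      · refine hv (-(sympForm m F x v + -((μ : F)⁻¹) * sympForm m F x w * sympForm m F w v) /
          (-((μ : F)⁻¹) * sympForm m F x w)) ?_
        rw [div_eq_inv_mul, ← smul_smul, eq_inv_smul_iff₀ hb, neg_smul]
        exact eq_neg_of_add_eq_zero_left h3
    · obtain ⟨x, hx, hxw, hxv⟩ := exists_ker_two hm (fLeft w) (fLeft v)
      refine ⟨x, hx, ?_⟩
      rw [Units.val_mul, ← mulVec_mulVec, tGL_mulVec w, show sympForm m F x w = 0 from hxw, mul_zero, zero_smul,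
        add_zero, tGL_mulVec, show sympForm m F x v = 0 from hxv, mul_zero, zero_smul, add_zero]
  -- an involution with both eigenvalues
  obtain ⟨z, hzR, hzSp, hz1, hz2, hzx⟩ : ∃ z ∈ R, z ∈ spGL m F ∧ z ≠ 1 ∧ z * z = 1 ∧
      (z : Matrix (Fin m ⊕ Fin m) (Fin m ⊕ Fin m) F) *ᵥ x₀ = x₀ := by
    by_cases h : y * y = 1
    · exact ⟨y, hyR, hySp, hy1, h, hyx₀⟩
    · refine ⟨y * y, mul_mem hyR hyR, mul_mem hySp hySp, h, ?_, ?_⟩
      · rw [← pow_two, ← pow_two, ← pow_mul]; exact hexp y hyR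
      · rw [Units.val_mul, ← mulVec_mulVec, hyx₀, hyx₀]
  obtain ⟨x₁, hx₁⟩ : ∃ x₁, (z : Matrix (Fin m ⊕ Fin m) (Fin m ⊕ Fin m) F) *ᵥ x₁ ≠ x₁ := by
    by_contra hc
    push Not at hc
    exact hz1 (Units.ext (Matrix.toLin'.injective (LinearMap.ext fun x => by
      rw [Matrix.toLin'_apply, Matrix.toLin'_apply, Units.val_one, one_mulVec, hc])))
  set e₁ := (z : Matrix (Fin m ⊕ Fin m) (Fin m ⊕ Fin m) F) *ᵥ x₁ - x₁ with he
  have hze : (z : Matrix (Fin m ⊕ Fin m) (Fin m ⊕ Fin m) F) *ᵥ e₁ = -e₁ := by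
    rw [he, mulVec_sub, mulVec_mulVec, ← Units.val_mul, hz2, Units.val_one, one_mulVec]
    abel
  have he0 : e₁ ≠ 0 := sub_ne_zero.2 hx₁
  have h20 : (2 : F) ≠ 0 := fun e2 => by
    have : ((2 : ℕ) : F) = 0 := by exact_mod_cast e2
    rw [CharP.cast_eq_zero_iff F p] at this
    rcases (Nat.dvd_prime Nat.prime_two).1 this with h | h
    · exact CharP.char_ne_one F p h
    · subst h; exact (Nat.not_even_iff_odd.2 hpo) even_two
  have hperp : sympForm m F e₁ x₀ = 0 := by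
    have := hzSp e₁ x₀
    change sympForm m F ((z : Matrix (Fin m ⊕ Fin m) (Fin m ⊕ Fin m) F) *ᵥ e₁)
      ((z : Matrix (Fin m ⊕ Fin m) (Fin m ⊕ Fin m) F) *ᵥ x₀) = _ at this
    rw [hze, hzx, ← neg_one_smul F, f_smul_left] at this
    exact (mul_eq_zero.1 (show (2 : F) * sympForm m F e₁ x₀ = 0 by linear_combination -this)).resolve_left h20
  set u := e₁ + x₀ with hu
  set u' := -e₁ + x₀ with hu'
  have hzu : (z : Matrix (Fin m ⊕ Fin m) (Fin m ⊕ Fin m) F) *ᵥ u = u' := by rw [hu, mulVec_add, hze, hzx]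
  have huu : sympForm m F u u' = 0 := by
    rw [hu, hu', ← neg_one_smul F, f_add_left, f_add_right, f_add_right, f_smul_right, f_smul_right, f_self,
      f_self, hperp, f_swap e₁ x₀, hperp]
    ring
  set s := tGL u (1 : F) * tGL u' (-1) with hs
  have hsR : s ∈ R := by
    have h1 : (tGL u (1 : F))⁻¹ = tGL u (-1) := inv_eq_of_mul_eq_one_right (by
      rw [tGL_add, add_neg_cancel, tGL_zero])
    have h2 : z * tGL u (-1) * z⁻¹ = tGL u' (-1) := by
      rw [conj_tGL (one_ne_zero (α := F)) (fun a b => (hzSp a b).trans (one_mul _).symm), hzu, inv_one, mul_one]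
    rw [hs, ← h2, ← h1]
    have := mul_mem (hnorm _ (tGL_mem u (1 : F)) z hzR) (inv_mem hzR)
    simpa only [mul_assoc] using this
  have hcomm : tGL u (1 : F) * tGL u' (-1) = tGL u' (-1) * tGL u (1 : F) := by
    refine Units.ext (Matrix.toLin'.injective (LinearMap.ext fun x => ?_))
    simp only [Matrix.toLin'_apply, Units.val_mul, ← mulVec_mulVec, tGL_mulVec, f_add_left, f_smul_left, huu,
      f_swap u u']
    simp only [mul_zero, neg_zero, add_zero]
    abel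
  have hsp : s ^ p = 1 := by
    rw [hs, Commute.mul_pow hcomm, pow_tGL_char, pow_tGL_char, one_mul]
  have hs1 : s = 1 := by
    have := pow_gcd_eq_one.2 ⟨hexp s hsR, hsp⟩
    rwa [hcop.gcd_eq_one, pow_one] at this
  obtain ⟨x, hx⟩ := exists_f_one (show u ≠ 0 from fun e0 => by
    have h1 : u' = 0 := by rw [← hzu, e0, mulVec_zero]
    have : (2 : F) • x₀ = 0 := by
      rw [two_smul, ← add_zero (0 : Fin m ⊕ Fin m → F)]
      nth_rewrite 1 [← e0]
      rw [← h1, hu, hu']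
      abel
    exact hx₀ ((smul_eq_zero.1 this).resolve_left h20))
  have h3 := congrArg (fun g : GL (Fin m ⊕ Fin m) F => (g : Matrix (Fin m ⊕ Fin m) (Fin m ⊕ Fin m) F) *ᵥ x) hs1
  simp only [hs, Units.val_mul, Units.val_one, ← mulVec_mulVec, one_mulVec, tGL_mulVec] at h3
  rw [f_add_left, f_smul_left, f_swap u u', huu, neg_zero, mul_zero, add_zero, one_mul, hx, one_smul,
    add_assoc, add_eq_left] at h3
  -- `u` and `u'` are independent
  have key : ∀ a b : F, a • e₁ + b • x₀ = 0 → a = 0 ∧ b = 0 := by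
    intro a b hab
    have h4 := congrArg (fun q => (z : Matrix (Fin m ⊕ Fin m) (Fin m ⊕ Fin m) F) *ᵥ q) hab
    simp only [mulVec_add, mulVec_smul, hze, hzx, mulVec_zero] at h4
    have ha : (2 * a) • e₁ = 0 := by
      rw [show (2 * a) • e₁ = (a • e₁ + b • x₀) - (a • -e₁ + b • x₀) by module, hab, h4, sub_zero]
    have ha0 : a = 0 := (mul_eq_zero.1 ((smul_eq_zero.1 ha).resolve_right he0)).resolve_left h20
    rw [ha0, zero_smul, zero_add] at hab
    exact ⟨ha0, (smul_eq_zero.1 hab).resolve_right hx₀⟩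
  have := key ((-1) * (-1 * sympForm m F x u') + 1) ((-1 * sympForm m F x u') + 1) (by
    rw [← h3, hu, hu']; module)
  have h5 := this.1
  have h6 := this.2
  exact h20 (by linear_combination h5 + h6)

end CfsgLib.Asch.SympNotLe
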