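import Cfsg.Agent.Lib.Classical.SympDecomp

set_option autoImplicit false
set_option linter.unusedSectionVars false

/-!
Over the field of two elements the stabiliser of a decomposition of a symplectic space into
non-degenerate planes fixes a quadratic form, so it is not maximal.
-/

namespace CfsgLib.Classical.SympDecompNotMax

open Matrix Cfsg SympTrans SympStab

variable {F : Type*} [Field F] [Fintype F] {m t : ℕ}

local notation "G" => Matrix.symplecticGroup (Fin m) F
local notation "ω" => sympForm m F

theorem field_two (hq : Fintype.card F = 2) (x : F) : x = 0 ∨ x = 1 := by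
  have := Nat.card_eq_two_iff' (0 : F)
  rw [Nat.card_eq_fintype_card] at this
  obtain ⟨y, -, hy⟩ := this.1 hq
  by_cases h : x = 0
  · exact Or.inl h
  · exact Or.inr ((hy x h).trans (hy 1 one_ne_zero).symm)

theorem two_zero (hq : Fintype.card F = 2) : (2 : F) = 0 := by
  have h := Nat.cast_card_eq_zero F
  rw [hq] at h
  exact_mod_cast h

variable {D : Fin t → Submodule F (Fin m ⊕ Fin m → F)}

theorem exists_proj (hD : Cfsg.Geo.IsNondegenerateMDecomposition ω 2 D) :
    ∃ p : Fin t → ((Fin m ⊕ Fin m → F) →ₗ[F] (Fin m ⊕ Fin m → F)), (∀ i v, p i v ∈ D i) ∧ (∀ i, ∀ x ∈ D i, p i x = x) ∧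
      (∀ i j, i ≠ j → ∀ x ∈ D j, p i x = 0) ∧ (∀ v, ∑ i, p i v = v) ∧
      ∀ i, ∀ u ∈ D i, ∀ v, ω v u = ω (p i v) u := by
  classical
  choose p hp hpo using fun (i : Fin t) (v : (Fin m ⊕ Fin m → F)) => exists_split (hD.nondegenerate i) v
  have puniq : ∀ (i : Fin t) (v a : (Fin m ⊕ Fin m → F)), a ∈ D i → v - a ∈ orth (D i) → p i v = a := by
    intro i v a ha hva
    refine sub_eq_zero.1 ((Submodule.eq_bot_iff _).1 (isCompl_orth (hD.nondegenerate i)).inf_eq_bot _
      ⟨(D i).sub_mem (hp i v) ha, ?_⟩)
    have := (orth (D i)).sub_mem hva (hpo i v)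
    rwa [sub_sub_sub_cancel_left] at this
  let P : Fin t → ((Fin m ⊕ Fin m → F) →ₗ[F] (Fin m ⊕ Fin m → F)) := fun i =>
    { toFun := p i
      map_add' := fun u v => puniq i _ _ ((D i).add_mem (hp i u) (hp i v))
        (by rw [add_sub_add_comm]; exact (orth (D i)).add_mem (hpo i u) (hpo i v))
      map_smul' := fun c v => puniq i _ _ ((D i).smul_mem c (hp i v))
        (by rw [RingHom.id_apply, ← smul_sub]; exact (orth (D i)).smul_mem c (hpo i v)) }
  have pself : ∀ i, ∀ x ∈ D i, P i x = x := fun i x hx => puniq i x x hx (by simp)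
  have pother : ∀ i j, i ≠ j → ∀ x ∈ D j, P i x = 0 := fun i j h x hx =>
    puniq i x 0 (D i).zero_mem (by rw [sub_zero]; exact fun w hw => hD.orthogonal i j h w hw x hx)
  refine ⟨P, hp, pself, pother, fun v => ?_, fun i u hu v => ?_⟩
  · have hv : v ∈ iSup D := by rw [hD.decomp.iSup_eq_top]; exact Submodule.mem_top
    induction hv using Submodule.iSup_induction' with
    | mem i x hx =>
      rw [Finset.sum_eq_single i (fun j _ hj => pother j i hj x hx) (by simp), pself i x hx]
    | zero => simp
    | add x y _ _ hx hy => simp only [map_add, Finset.sum_add_distrib, hx, hy]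
  · show ω v u = ω (p i v) u
    have h := hpo i v u hu
    rw [f_sub_right, sub_eq_zero] at h
    rw [f_swap u v, h, ← f_swap u (p i v)]

/-- The number of non-zero components. -/
noncomputable def cnt (p : Fin t → ((Fin m ⊕ Fin m → F) →ₗ[F] (Fin m ⊕ Fin m → F))) (v : (Fin m ⊕ Fin m → F)) : F := by
  classical
  exact ∑ i : Fin t, if p i v = 0 then 0 else 1

/-- The elements preserving `cnt`. -/
def fixer (p : Fin t → ((Fin m ⊕ Fin m → F) →ₗ[F] (Fin m ⊕ Fin m → F))) : Subgroup G where
  carrier := {g | ∀ v, cnt p (app g v) = cnt p v}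
  one_mem' v := by rw [app_one]
  mul_mem' {a b} ha hb v := by rw [app_mul, ha, hb]
  inv_mem' {a} ha v := by
    have h := ha (app a⁻¹ v)
    rw [app_inv'] at h
    exact h.symm

theorem exists_between (hm : 7 ≤ m) (hq : Fintype.card F = 2)
    (hD : Cfsg.Geo.IsNondegenerateMDecomposition ω 2 D) :
    ∃ K : Subgroup (GL (Fin m ⊕ Fin m) F),
      Cfsg.Geo.decompositionStabilizer D ⊓ spGL m F < K ∧ K < spGL m F := by
  classical
  obtain ⟨p, hp, pself, pother, psum, pω⟩ := exists_proj hD
  have ht : 3 ≤ t := by
    by_contra h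
    have h1 : (⊤ : Submodule F (Fin m ⊕ Fin m → F)) ≤ iSup D := hD.decomp.iSup_eq_top.ge
    have h2 : Module.finrank F (Fin m ⊕ Fin m → F) ≤ ∑ i, Module.finrank F (D i) := by
      calc Module.finrank F (Fin m ⊕ Fin m → F) = Module.finrank F (⊤ : Submodule F (Fin m ⊕ Fin m → F)) := (finrank_top F (Fin m ⊕ Fin m → F)).symm
        _ ≤ Module.finrank F ↥(iSup D) := Submodule.finrank_mono h1
        _ ≤ _ := by
          rw [show iSup D = Finset.univ.sup D from (Finset.sup_univ_eq_iSup D).symm]
          clear h1
          induction (Finset.univ : Finset (Fin t)) using Finset.induction_on with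
          | empty => simp
          | @insert a s ha ih =>
            rw [Finset.sup_insert, Finset.sum_insert ha]
            exact (Submodule.finrank_add_le_finrank_add_finrank _ _).trans (Nat.add_le_add_left ih _)
    rw [Finset.sum_congr rfl fun i _ => hD.decomp.finrank_eq i, Finset.sum_const, Finset.card_univ,
      Fintype.card_fin, Module.finrank_fintype_fun_eq_card, Fintype.card_sum, Fintype.card_fin,
      smul_eq_mul] at h2
    omega
  let c : Fin 3 → Fin t := fun i => ⟨i, by omega⟩
  have hc : Function.Injective c := fun i j h => Fin.ext (congrArg Fin.val h : _)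
  have hne : ∀ i, ∃ x ∈ D i, x ≠ 0 := fun i => Submodule.exists_mem_ne_zero_of_ne_bot fun e => by
    have := hD.decomp.finrank_eq i
    rw [e, finrank_bot] at this
    omega
  choose x hx hx0 using hne
  have two := two_zero hq
  -- the form on one plane
  have hω : ∀ i, ∀ a ∈ D i, ∀ b ∈ D i, a ≠ 0 → b ≠ 0 → a ≠ b → ω a b = 1 := by
    intro i a ha b hb a0 b0 hab
    rcases field_two hq (ω a b) with h | h
    · exfalso
      obtain ⟨y, hy, hya⟩ := (hD.nondegenerate i a ha a0).2
      have hli : LinearIndependent F ![(⟨a, ha⟩ : D i), ⟨b, hb⟩] := by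
        rw [LinearIndependent.pair_iff]
        intro s u hsu
        have h' : s • a + u • b = 0 := congrArg Subtype.val hsu
        rcases field_two hq s with rfl | rfl <;> rcases field_two hq u with rfl | rfl
        · exact ⟨rfl, rfl⟩
        · exact absurd (by simpa using h') b0
        · exact absurd (by simpa using h') a0
        · exfalso
          apply hab
          rw [one_smul, one_smul] at h'
          calc a = a + (a + b) := by rw [h', add_zero]
            _ = (2 : F) • a + b := by module
            _ = b := by rw [two, zero_smul, zero_add]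
      have hspan := hli.span_eq_top_of_card_eq_finrank (by rw [hD.decomp.finrank_eq]; simp)
      have hy' : (⟨y, hy⟩ : D i) ∈ Submodule.span F (Set.range ![(⟨a, ha⟩ : D i), ⟨b, hb⟩]) :=
        hspan ▸ Submodule.mem_top
      rw [Matrix.range_cons, Matrix.range_cons, Matrix.range_empty, Set.union_empty,
        Set.singleton_union, Submodule.mem_span_pair] at hy'
      obtain ⟨s, u, hsu⟩ := hy'
      have h' : s • a + u • b = y := congrArg Subtype.val hsu
      apply hya
      rw [← h', f_add_right, f_smul_right, f_smul_right, f_self, h, mul_zero, mul_zero, add_zero]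
    · exact h
  -- adding a fixed vector to one component
  have hstep : ∀ i, ∀ w ∈ D i,
      (if w + x i = 0 then (0 : F) else 1) = (if w = 0 then 0 else 1) + 1 + ω w (x i) := by
    intro i w hw
    by_cases w0 : w = 0
    · subst w0; simp [hx0 i, f_zero_left]
    by_cases wx : w = x i
    · subst wx
      have : x i + x i = 0 := by rw [← two_smul F, two, zero_smul]
      rw [if_pos this, if_neg w0, f_self, add_zero]
      linear_combination -two
    · have hne' : w + x i ≠ 0 := fun e => wx (by
        calc w = w + (w + x i) + (x i + x i) - (w + x i) - (x i + x i) := by abel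
          _ = x i := by
            rw [e, ← two_smul F (x i), two, zero_smul]
            simp [eq_neg_of_add_eq_zero_left e]
            rw [neg_eq_iff_add_eq_zero, ← two_smul F (x i), two, zero_smul])
      rw [if_neg hne', if_neg w0, hω i w hw (x i) (hx i) w0 (hx0 i) wx]
      linear_combination -two
  set u := x (c 0) + x (c 1) + x (c 2)
  have hpu : ∀ i, p i u = if i = c 0 ∨ i = c 1 ∨ i = c 2 then x i else 0 := by
    intro i
    simp only [u, map_add]
    rcases eq_or_ne i (c 0) with rfl | e0
    · rw [pself _ _ (hx _), pother _ _ (by simp [hc.eq_iff]) _ (hx (c 1)),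
        pother _ _ (by simp [hc.eq_iff]) _ (hx (c 2))]; simp
    rcases eq_or_ne i (c 1) with rfl | e1
    · rw [pself _ _ (hx _), pother _ _ e0 _ (hx (c 0)),
        pother _ _ (by simp [hc.eq_iff]) _ (hx (c 2))]; simp
    rcases eq_or_ne i (c 2) with rfl | e2
    · rw [pself _ _ (hx _), pother _ _ e0 _ (hx (c 0)), pother _ _ e1 _ (hx (c 1))]; simp
    rw [pother _ _ e0 _ (hx (c 0)), pother _ _ e1 _ (hx (c 1)), pother _ _ e2 _ (hx (c 2))]
    simp [e0, e1, e2]
  let K : Subgroup (GL (Fin m ⊕ Fin m) F) := (fixer p).map ((spGL m F).subtype.comp toSpGL)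
  have hKle : K ≤ spGL m F := by rintro _ ⟨s, -, rfl⟩; exact (toSpGL s).2
  have hinj : Function.Injective ((spGL m F).subtype.comp (toSpGL (m := m) (F := F))) := by
    intro a b e
    refine ext_app fun v => ?_
    exact congrArg (fun g : GL (Fin m ⊕ Fin m) F => (g : Matrix (Fin m ⊕ Fin m) (Fin m ⊕ Fin m) F) *ᵥ v) e
  refine ⟨K, lt_of_le_not_ge ?_ fun hge => ?_, lt_of_le_not_ge hKle fun hge => ?_⟩
  · intro g hg
    obtain ⟨s, hs⟩ := toSpGL_surjective (⟨g, hg.2⟩ : spGL m F)
    have hs' : (toSpGL s : GL (Fin m ⊕ Fin m) F) = g := congrArg Subtype.val hs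
    subst hs'
    obtain ⟨σ, hσ⟩ := (SympDecomp.map_eq_iff hD s).1 hg.1
    refine ⟨s, fun v => ?_, rfl⟩
    have hps : ∀ i, p (σ i) (app s v) = app s (p i v) := by
      intro i
      conv_lhs => rw [← psum v]
      rw [show app s (∑ j, p j v) = ∑ j, app s (p j v) from
        map_sum (AddMonoidHom.mk' (app s) (app_add s)) _ _, map_sum,
        Finset.sum_eq_single i (fun j _ hj => pother _ _ (σ.injective.ne (Ne.symm hj)) _
          (hσ j _ (hp j v))) (by simp)]
      exact pself _ _ (hσ i _ (hp i v))
    unfold cnt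
    rw [← Equiv.sum_comp σ]
    refine Finset.sum_congr rfl fun i _ => ?_
    rw [hps]
    by_cases e : p i v = 0
    · simp [e, app, mulVec_zero]
    · simp [e, app_ne_zero s e]
  · have hT : T u (1 : F) ∈ fixer p := by
      intro v
      rw [app_T, one_mul]
      rcases field_two hq (ω v u) with h | h
      · rw [h, zero_smul, add_zero]
      rw [h, one_smul]
      have hsum : ω (p (c 0) v) (x (c 0)) + ω (p (c 1) v) (x (c 1)) + ω (p (c 2) v) (x (c 2)) = 1 := by
        rw [← pω _ _ (hx _), ← pω _ _ (hx _), ← pω _ _ (hx _), ← f_add_right, ← f_add_right]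
        exact h
      unfold cnt
      have key : ∀ i, (if p i (v + u) = 0 then (0 : F) else 1) = (if p i v = 0 then 0 else 1) +
          (if i = c 0 ∨ i = c 1 ∨ i = c 2 then 1 + ω (p i v) (x i) else 0) := by
        intro i
        rw [map_add, hpu]
        by_cases hi : i = c 0 ∨ i = c 1 ∨ i = c 2
        · rw [if_pos hi, if_pos hi, hstep i _ (hp i v)]; ring
        · rw [if_neg hi, if_neg hi, add_zero, add_zero]
      rw [Finset.sum_congr rfl fun i _ => key i, Finset.sum_add_distrib]
      rw [← Finset.sum_subset (Finset.subset_univ ({c 0, c 1, c 2} : Finset (Fin t)))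
        (fun i _ hi => if_neg (by simpa using hi)), Finset.sum_insert (by simp [hc.eq_iff]),
        Finset.sum_insert (by simp [hc.eq_iff]), Finset.sum_singleton]
      simp
      linear_combination hsum + 2 * two
    obtain ⟨σ, hσ⟩ := (SympDecomp.map_eq_iff hD (T u 1)).1 (hge ⟨_, hT, rfl⟩).1
    obtain ⟨y, hy, hyx⟩ := (hD.nondegenerate (c 0) _ (hx _) (hx0 _)).1
    have h1 := hσ _ _ hy
    have hyu : ω y u = ω y (x (c 0)) := by
      simp only [u, f_add_right, hD.orthogonal (c 0) (c 1) (by simp [hc.eq_iff]) y hy _ (hx _),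
        hD.orthogonal (c 0) (c 2) (by simp [hc.eq_iff]) y hy _ (hx _), add_zero]
    rw [app_T, one_mul, hyu, (field_two hq _).resolve_left hyx, one_smul] at h1
    have : ∀ i, i ≠ c 0 → (i = c 1 ∨ i = c 2) → σ (c 0) = i := by
      intro i hi0 hi
      by_contra hne
      have := pother i (σ (c 0)) (Ne.symm hne) _ h1
      rw [map_add, pother i (c 0) hi0 _ hy, zero_add, hpu,
        if_pos (Or.inr hi)] at this
      exact hx0 i this
    exact absurd (hc ((this (c 1) (by simp [hc.eq_iff]) (Or.inl rfl)).symm.trans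
      (this (c 2) (by simp [hc.eq_iff]) (Or.inr rfl)))) (by decide)
  · obtain ⟨y, hy, hyx⟩ := (hD.nondegenerate (c 0) _ (hx _) (hx0 _)).1
    obtain ⟨s, hs, e⟩ := hge (toSpGL (T (x (c 0) + x (c 1)) (1 : F))).2
    have := hs
    rw [hinj e] at this
    have h := this y
    have hyu : ω y (x (c 0) + x (c 1)) = 1 := by
      rw [f_add_right, hD.orthogonal (c 0) (c 1) (by simp [hc.eq_iff]) y hy _ (hx _), add_zero]
      exact (field_two hq _).resolve_left hyx
    rw [app_T, hyu, mul_one, one_smul] at h
    have hy0 : y ≠ 0 := fun e => hyx (by rw [e, f_zero_left])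
    have hyne : y ≠ x (c 0) := fun e => hyx (by rw [e, f_self])
    unfold cnt at h
    have l1 : ∀ i, (if p i (y + (x (c 0) + x (c 1))) = 0 then (0 : F) else 1) =
        if i = c 0 ∨ i = c 1 then 1 else 0 := by
      intro i
      rw [map_add, map_add]
      rcases eq_or_ne i (c 0) with rfl | e0
      · rw [pself _ _ hy, pself _ _ (hx _), pother _ _ (by simp [hc.eq_iff]) _ (hx (c 1)), add_zero,
          hstep _ _ hy, if_neg hy0, hω _ _ hy _ (hx _) hy0 (hx0 _) hyne]
        simp
        linear_combination two
      rcases eq_or_ne i (c 1) with rfl | e1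
      · rw [pother _ _ e0 _ hy, pself _ _ (hx _), pother _ _ e0 _ (hx _), zero_add, zero_add,
          if_neg (hx0 _)]
        simp
      · simp [pother _ _ e0 _ hy, pother _ _ e0 _ (hx (c 0)), pother _ _ e1 _ (hx (c 1)), e0, e1]
    have l2 : ∀ i, (if p i y = 0 then (0 : F) else 1) = if i = c 0 then 1 else 0 := by
      intro i
      rcases eq_or_ne i (c 0) with rfl | e0
      · simp [pself _ _ hy, hy0]
      · simp [pother _ _ e0 _ hy, e0]
    rw [Finset.sum_congr rfl fun i _ => l1 i, Finset.sum_congr rfl fun i _ => l2 i,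
      Finset.sum_ite_eq', if_pos (Finset.mem_univ _),
      ← Finset.sum_subset (Finset.subset_univ ({c 0, c 1} : Finset (Fin t)))
        (fun i _ hi => if_neg (by simpa using hi)),
      Finset.sum_pair (by simp [hc.eq_iff])] at h
    simp at h

end CfsgLib.Classical.SympDecompNotMax
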