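import Cfsg.Agent.Lib.Classical.AschSympStd
import Cfsg.Agent.Lib.Classical.AschSympNotLe
import Cfsg.Agent.Lib.Classical.SympDecompNotMax

set_option autoImplicit false
set_option linter.unusedSectionVars false

/-!
Coordinates for a symplectic space, and small cases of decompositions.
-/

namespace CfsgLib.Asch.SympMax

open Matrix
open Cfsg (sympForm spGL)
open Cfsg.Geo (glReindex decompositionStabilizer tensorProductSubgroup gramMatrix)
open CfsgLib.Asch.SympNotLe (coord_action coord_span)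
open CfsgLib.Classical.SympTrans (f_self f_swap f_add_left f_add_right f_smul_left f_smul_right eq_zero_of_f)
open scoped MatrixGroups Kronecker

variable {F : Type*} [Field F] {m : ℕ} {μ : Type} [Fintype μ] [DecidableEq μ]

/-- Matrices read in coordinates. -/
def cmap (e : (Fin m ⊕ Fin m) ≃ μ) (P : GL (Fin m ⊕ Fin m) F) : GL μ F →* GL (Fin m ⊕ Fin m) F :=
  (MulAut.conj P).toMonoidHom.comp (glReindex e.symm).toMonoidHom

/-- The vector with the given coordinates. -/
def cvec (e : (Fin m ⊕ Fin m) ≃ μ) (P : GL (Fin m ⊕ Fin m) F) : (μ → F) →ₗ[F] (Fin m ⊕ Fin m → F) :=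
  (Matrix.toLin' (P : Matrix (Fin m ⊕ Fin m) (Fin m ⊕ Fin m) F)).comp
    (LinearEquiv.funCongrLeft F F e).toLinearMap

theorem cvec_apply (e : (Fin m ⊕ Fin m) ≃ μ) (P : GL (Fin m ⊕ Fin m) F) (x : μ → F) :
    cvec e P x = (P : Matrix (Fin m ⊕ Fin m) (Fin m ⊕ Fin m) F) *ᵥ (x ∘ e) := by
  rw [cvec, LinearMap.comp_apply, Matrix.toLin'_apply]
  rfl

theorem cvec_injective (e : (Fin m ⊕ Fin m) ≃ μ) (P : GL (Fin m ⊕ Fin m) F) : Function.Injective (cvec e P) :=
  fun x y h => SympNotLe.coord_injective e P (by rwa [cvec_apply, cvec_apply] at h)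

theorem cvec_surjective (e : (Fin m ⊕ Fin m) ≃ μ) (P : GL (Fin m ⊕ Fin m) F) : Function.Surjective (cvec e P) := by
  intro v
  refine ⟨fun a => ((↑P⁻¹ : Matrix (Fin m ⊕ Fin m) (Fin m ⊕ Fin m) F) *ᵥ v) (e.symm a), ?_⟩
  rw [cvec_apply]
  have : ((fun a => ((↑P⁻¹ : Matrix (Fin m ⊕ Fin m) (Fin m ⊕ Fin m) F) *ᵥ v) (e.symm a)) ∘ e) =
      (↑P⁻¹ : Matrix (Fin m ⊕ Fin m) (Fin m ⊕ Fin m) F) *ᵥ v := funext fun i => by simp
  rw [this, mulVec_mulVec, Units.mul_inv, one_mulVec]

theorem cmap_mulVec (e : (Fin m ⊕ Fin m) ≃ μ) (P : GL (Fin m ⊕ Fin m) F) (w : GL μ F) (x : μ → F) :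
    (cmap e P w : Matrix (Fin m ⊕ Fin m) (Fin m ⊕ Fin m) F) *ᵥ cvec e P x =
      cvec e P ((w : Matrix μ μ F) *ᵥ x) := by
  rw [cvec_apply, cvec_apply]
  exact coord_action e P w x

theorem cmap_injective (e : (Fin m ⊕ Fin m) ≃ μ) (P : GL (Fin m ⊕ Fin m) F) : Function.Injective (cmap e P) :=
  (MulAut.conj P).injective.comp (glReindex e.symm).injective

theorem cmap_surjective (e : (Fin m ⊕ Fin m) ≃ μ) (P : GL (Fin m ⊕ Fin m) F) : Function.Surjective (cmap e P) :=
  (MulAut.conj P).surjective.comp (glReindex e.symm).surjective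

theorem tensor_eq {n₁ n₂ : ℕ} (e : (Fin m ⊕ Fin m) ≃ Fin n₁ × Fin n₂) (P : GL (Fin m ⊕ Fin m) F) :
    tensorProductSubgroup n₁ n₂ e P = (Cfsg.Geo.kroneckerSubgroup n₁ n₂ F).map (cmap e P) :=
  Subgroup.map_map _ _ _

theorem wreath_eq {k t : ℕ} (e : (Fin m ⊕ Fin m) ≃ (Fin t → Fin k)) (P : GL (Fin m ⊕ Fin m) F) :
    Cfsg.Geo.tensorWreathSubgroup k t e P = (Cfsg.Geo.tensorWreathStandard k t F).map (cmap e P) :=
  Subgroup.map_map _ _ _

theorem mat_ext_forms {X Y : Matrix μ μ F} (h : ∀ x y : μ → F, x ⬝ᵥ X *ᵥ y = x ⬝ᵥ Y *ᵥ y) : X = Y :=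
  Matrix.ext fun i j => by
    have := h (Pi.single i 1) (Pi.single j 1)
    simpa [mulVec_single_one, single_dotProduct] using this

theorem congr_forms (w G : Matrix μ μ F) (x y : μ → F) :
    (w *ᵥ x) ⬝ᵥ G *ᵥ (w *ᵥ y) = x ⬝ᵥ (wᵀ * G * w) *ᵥ y := by
  rw [← mulVec_mulVec, ← mulVec_mulVec, dotProduct_mulVec x wᵀ, vecMul_transpose]

/-- The form has the given Gram matrix in the coordinates. -/
def Coord (e : (Fin m ⊕ Fin m) ≃ μ) (P : GL (Fin m ⊕ Fin m) F) (G : Matrix μ μ F) : Prop :=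
  ∀ x y, sympForm m F (cvec e P x) (cvec e P y) = x ⬝ᵥ G *ᵥ y

theorem Coord.mem_iff {e : (Fin m ⊕ Fin m) ≃ μ} {P : GL (Fin m ⊕ Fin m) F} {G : Matrix μ μ F}
    (h : Coord e P G) (w : GL μ F) :
    cmap e P w ∈ spGL m F ↔ (w : Matrix μ μ F)ᵀ * G * (w : Matrix μ μ F) = G := by
  constructor
  · intro hw
    refine mat_ext_forms fun x y => ?_
    have e1 := hw (cvec e P x) (cvec e P y)
    change sympForm m F ((cmap e P w : Matrix (Fin m ⊕ Fin m) (Fin m ⊕ Fin m) F) *ᵥ _)
      ((cmap e P w : Matrix (Fin m ⊕ Fin m) (Fin m ⊕ Fin m) F) *ᵥ _) = _ at e1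
    rw [cmap_mulVec, cmap_mulVec, h, h, congr_forms] at e1
    exact e1
  · intro hw u v
    obtain ⟨x, rfl⟩ := cvec_surjective e P u
    obtain ⟨y, rfl⟩ := cvec_surjective e P v
    change sympForm m F ((cmap e P w : Matrix (Fin m ⊕ Fin m) (Fin m ⊕ Fin m) F) *ᵥ _)
      ((cmap e P w : Matrix (Fin m ⊕ Fin m) (Fin m ⊕ Fin m) F) *ᵥ _) = _
    rw [cmap_mulVec, cmap_mulVec, h, h, congr_forms, hw]

theorem Coord.change {e : (Fin m ⊕ Fin m) ≃ μ} {P : GL (Fin m ⊕ Fin m) F} {G : Matrix μ μ F}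
    (h : Coord e P G) (Q : GL μ F) :
    Coord e (P * glReindex e.symm Q) ((Q : Matrix μ μ F)ᵀ * G * (Q : Matrix μ μ F)) := by
  have key : ∀ x, cvec e (P * glReindex e.symm Q) x = cvec e P ((Q : Matrix μ μ F) *ᵥ x) := by
    intro x
    rw [cvec_apply, cvec_apply, Units.val_mul, ← mulVec_mulVec]
    congr 1
    funext i
    simp only [mulVec, dotProduct, Function.comp_apply, glReindex]
    exact Fintype.sum_equiv e _ _ fun j => by simp
  intro x y
  rw [key, key, h, congr_forms]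

theorem cmap_change (e : (Fin m ⊕ Fin m) ≃ μ) (P : GL (Fin m ⊕ Fin m) F) (Q w : GL μ F) :
    cmap e (P * glReindex e.symm Q) w = cmap e P (Q * w * Q⁻¹) := by
  simp [cmap, mul_assoc]

theorem formOfGram_dot (G : Matrix μ μ F) (x y : μ → F) : Cfsg.Geo.formOfGram id G x y = x ⬝ᵥ G *ᵥ y := by
  simp only [Cfsg.Geo.formOfGram, dotProduct, mulVec, Finset.mul_sum, id]
  exact Finset.sum_congr rfl fun a _ => Finset.sum_congr rfl fun b _ => by ring

theorem coord_of_tensor {n₁ n₂ : ℕ} {e : (Fin m ⊕ Fin m) ≃ Fin n₁ × Fin n₂} {P : GL (Fin m ⊕ Fin m) F}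
    {f₁ : (Fin n₁ → F) → (Fin n₁ → F) → F} {f₂ : (Fin n₂ → F) → (Fin n₂ → F) → F}
    (h : Cfsg.Geo.IsTensorFormStructure id (sympForm m F) f₁ f₂ e P) :
    ∃ c : F, c ≠ 0 ∧ Coord e P (c • (gramMatrix f₁ ⊗ₖ gramMatrix f₂)) := by
  obtain ⟨c, hc, hxy⟩ := h
  refine ⟨c, hc, fun x y => ?_⟩
  rw [cvec_apply, cvec_apply, hxy, formOfGram_dot, smul_mulVec, dotProduct_smul, smul_eq_mul]

theorem coord_of_power {k t : ℕ} {e : (Fin m ⊕ Fin m) ≃ (Fin t → Fin k)} {P : GL (Fin m ⊕ Fin m) F}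
    {f₁ : (Fin k → F) → (Fin k → F) → F}
    (h : Cfsg.Geo.IsTensorPowerFormStructure id (sympForm m F) f₁ e P) :
    ∃ c : F, c ≠ 0 ∧ Coord e P (c • pureMat fun _ : Fin t => gramMatrix f₁) := by
  obtain ⟨c, hc, hxy⟩ := h
  refine ⟨c, hc, fun x y => ?_⟩
  rw [cvec_apply, cvec_apply, hxy, smul_mulVec, dotProduct_smul, smul_eq_mul, ← formOfGram_dot]
  rfl

theorem Coord.unit {e : (Fin m ⊕ Fin m) ≃ μ} {P : GL (Fin m ⊕ Fin m) F} {G : Matrix μ μ F}
    (h : Coord e P G) {x : μ → F} (hx : ∀ y, x ⬝ᵥ G *ᵥ y = 0) : x = 0 := by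
  apply cvec_injective e P
  rw [map_zero]
  refine eq_zero_of_f _ fun v => ?_
  obtain ⟨y, rfl⟩ := cvec_surjective e P v
  rw [h, hx]

/-- The coordinate block with the given second index. -/
def blk (e : (Fin m ⊕ Fin m) ≃ μ) (P : GL (Fin m ⊕ Fin m) F) {t : ℕ} (π : μ → Fin t) (i : Fin t) :
    Submodule F (Fin m ⊕ Fin m → F) :=
  Submodule.map (cvec e P)
    { carrier := {x | ∀ p, π p ≠ i → x p = 0}
      add_mem' := fun {x y} hx hy p hp => by simp [hx p hp, hy p hp]
      zero_mem' := fun p _ => rfl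
      smul_mem' := fun c x hx p hp => by simp [hx p hp] }

theorem mem_blk {e : (Fin m ⊕ Fin m) ≃ μ} {P : GL (Fin m ⊕ Fin m) F} {t : ℕ} {π : μ → Fin t} {i : Fin t}
    {v : Fin m ⊕ Fin m → F} : v ∈ blk e P π i ↔ ∃ x, (∀ p, π p ≠ i → x p = 0) ∧ cvec e P x = v :=
  Iff.rfl

/-- A Gram matrix diagonal in blocks gives a decomposition. -/
theorem Coord.ndDecomp {a t : ℕ} {e : (Fin m ⊕ Fin m) ≃ Fin a × Fin t} {P : GL (Fin m ⊕ Fin m) F}
    {G : Matrix (Fin a × Fin t) (Fin a × Fin t) F} (h : Coord e P G) (ha : 0 < a) (ht : 2 ≤ t)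
    (hG : ∀ p q, p.2 ≠ q.2 → G p q = 0) :
    Cfsg.Geo.IsNondegenerateMDecomposition (sympForm m F) a (blk e P Prod.snd) := by
  classical
  have horth : ∀ i j, i ≠ j → ∀ u ∈ blk e P Prod.snd i, ∀ v ∈ blk e P Prod.snd j, sympForm m F u v = 0 := by
    rintro i j hij _ ⟨x, hx, rfl⟩ _ ⟨y, hy, rfl⟩
    rw [h]
    simp only [dotProduct, mulVec, Finset.mul_sum]
    refine Finset.sum_eq_zero fun p _ => Finset.sum_eq_zero fun q _ => ?_
    by_cases hp : p.2 = i
    · by_cases hq : q.2 = j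
      · rw [hG p q (by rw [hp, hq]; exact hij), zero_mul, mul_zero]
      · rw [hy q hq, mul_zero, mul_zero]
    · rw [hx p hp, zero_mul]
  have hspan : ∀ v, ∃ u : Fin t → (Fin m ⊕ Fin m → F), (∀ i, u i ∈ blk e P Prod.snd i) ∧ ∑ i, u i = v := by
    intro v
    obtain ⟨x, rfl⟩ := cvec_surjective e P v
    refine ⟨fun i => cvec e P fun p => if p.2 = i then x p else 0,
      fun i => ⟨_, fun p hp => if_neg hp, rfl⟩, ?_⟩
    rw [← map_sum]
    congr 1
    funext p
    simp [Finset.sum_apply]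
  refine ⟨⟨ht, ha, fun i => ?_, ?_, ?_⟩, fun i w hw hw0 => ?_, horth⟩
  · let Z : (Fin a → F) →ₗ[F] (Fin a × Fin t → F) :=
      { toFun := fun z p => if p.2 = i then z p.1 else 0
        map_add' := fun z z' => funext fun p => by by_cases hp : p.2 = i <;> simp [hp]
        map_smul' := fun c z => funext fun p => by by_cases hp : p.2 = i <;> simp [hp] }
    let L : (Fin a → F) →ₗ[F] (Fin m ⊕ Fin m → F) := (cvec e P).comp Z
    have hr : blk e P Prod.snd i = LinearMap.range L := by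
      ext v
      constructor
      · rintro ⟨x, hx, rfl⟩
        refine ⟨fun b => x (b, i), congrArg (cvec e P) (funext fun p => ?_)⟩
        show (if p.2 = i then x (p.1, i) else 0) = x p
        split_ifs with hp
        · rw [← hp]
        · exact (hx p hp).symm
      · rintro ⟨z, rfl⟩
        exact ⟨_, fun p hp => if_neg hp, rfl⟩
    rw [hr, LinearMap.finrank_range_of_inj, Module.finrank_fin_fun]
    intro z z' hz
    funext b
    simpa [Z] using congrFun (cvec_injective e P hz) (b, i)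
  · rw [iSupIndep_def]
    intro i
    rw [Submodule.disjoint_def]
    intro v hv hv'
    have hle : (⨆ j, ⨆ (_ : j ≠ i), blk e P Prod.snd j) ≤
        Submodule.map (cvec e P)
          { carrier := {x | ∀ p : Fin a × Fin t, p.2 = i → x p = 0}
            add_mem' := fun {x y} hx hy p hp => by simp [hx p hp, hy p hp]
            zero_mem' := fun p _ => rfl
            smul_mem' := fun c x hx p hp => by simp [hx p hp] } :=
      iSup₂_le fun j hj => Submodule.map_mono fun x hx p hp => hx p (by rw [hp]; exact hj.symm)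
    obtain ⟨x, hx, rfl⟩ := hv
    obtain ⟨y, hy, hxy⟩ := hle hv'
    have := cvec_injective e P hxy
    subst this
    rw [show y = 0 from funext fun p => if hp : p.2 = i then hy p hp else hx p hp, map_zero]
  · rw [eq_top_iff]
    rintro v -
    obtain ⟨u, hu, rfl⟩ := hspan v
    exact Submodule.sum_mem _ fun i _ => Submodule.mem_iSup_of_mem i (hu i)
  · obtain ⟨z, hz⟩ : ∃ z, sympForm m F w z ≠ 0 := by
      by_contra hc
      push Not at hc
      exact hw0 (eq_zero_of_f w hc)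
    obtain ⟨u, hu, rfl⟩ := hspan z
    have hi : sympForm m F w (u i) ≠ 0 := by
      intro h0
      refine hz (?_)
      rw [← show ∀ s : Finset (Fin t), ∑ j ∈ s, sympForm m F w (u j) = sympForm m F w (∑ j ∈ s, u j) from
        fun s => by
          induction s using Finset.induction_on with
          | empty => simp [Classical.SympTrans.f_zero_right]
          | @insert b s hb ih => rw [Finset.sum_insert hb, Finset.sum_insert hb, f_add_right, ih]]
      refine Finset.sum_eq_zero fun j _ => ?_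
      by_cases hj : i = j
      · exact hj ▸ h0
      · exact horth i j hj w hw _ (hu j)
    exact ⟨⟨u i, hu i, fun h0 => hi (by rw [f_swap, h0, neg_zero])⟩, u i, hu i, hi⟩

theorem cmap_mem_decomp {a t : ℕ} {e : (Fin m ⊕ Fin m) ≃ Fin a × Fin t} {P : GL (Fin m ⊕ Fin m) F}
    {D : Cfsg.Geo.IsMDecomposition a (blk e P Prod.snd)} {w : GL (Fin a × Fin t) F} {σ : Equiv.Perm (Fin t)}
    (hw : ∀ p q, (w : Matrix (Fin a × Fin t) (Fin a × Fin t) F) p q ≠ 0 → p.2 = σ q.2) :
    cmap e P w ∈ decompositionStabilizer (blk e P Prod.snd) := by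
  refine ⟨σ, fun i => Submodule.eq_of_le_of_finrank_le ?_ ?_⟩
  · rintro _ ⟨_, ⟨x, hx, rfl⟩, rfl⟩
    rw [Matrix.toLin'_apply, cmap_mulVec]
    refine ⟨_, fun p hp => ?_, rfl⟩
    refine Finset.sum_eq_zero fun q _ => ?_
    by_cases hq : q.2 = i
    · by_cases h0 : (w : Matrix (Fin a × Fin t) (Fin a × Fin t) F) p q = 0
      · simp [h0]
      · exact absurd ((hw p q h0).trans (by rw [hq])) hp
    · show _ * x q = 0
      rw [hx q hq, mul_zero]
  · exact le_of_eq ((D.finrank_eq (σ i)).trans ((D.finrank_eq i).symm.trans (LinearEquiv.finrank_eq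
      (Submodule.equivMapOfInjective _ (fun x y h => by
        simp only [Matrix.toLin'_apply] at h
        exact Matrix.mulVec_injective_of_isUnit (cmap e P w).isUnit h) _))))

/-- Over two elements an orthogonal decomposition into planes fixes a quadratic form. -/
theorem planes_quad [Fintype F] (hq : Fintype.card F = 2) {t : ℕ}
    {D : Fin t → Submodule F (Fin m ⊕ Fin m → F)} (hD : Cfsg.Geo.IsNondegenerateMDecomposition (sympForm m F) 2 D) :
    ∃ Q : (Fin m ⊕ Fin m → F) → F, ¬ Odd (Fintype.card F) ∧ Cfsg.Geo.IsNondegenerateQuadraticForm Q ∧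
      (∀ u v, QuadraticMap.polar Q u v = sympForm m F u v) ∧
      decompositionStabilizer D ≤ Cfsg.Geo.quadSimilarityGroup Q := by
  classical
  obtain ⟨p, hp, pself, pother, psum, pω⟩ := Classical.SympDecompNotMax.exists_proj hD
  have two := Classical.SympDecompNotMax.two_zero hq
  have f2 := Classical.SympDecompNotMax.field_two hq
  have hω : ∀ i, ∀ a ∈ D i, ∀ b ∈ D i, a ≠ 0 → b ≠ 0 → a ≠ b → sympForm m F a b = 1 := by
    intro i a ha b hb a0 b0 hab
    refine (f2 _).resolve_left fun h0 => ?_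
    obtain ⟨y, hy, hya⟩ := (hD.nondegenerate i a ha a0).2
    have hli : LinearIndependent F ![a, b] := by
      rw [LinearIndependent.pair_iff]
      intro s u hsu
      rcases f2 s with rfl | rfl <;> rcases f2 u with rfl | rfl
      · exact ⟨rfl, rfl⟩
      · exact absurd (by simpa using hsu) b0
      · exact absurd (by simpa using hsu) a0
      · refine absurd ?_ hab
        rw [one_smul, one_smul] at hsu
        have h2 : b + b = 0 := by rw [← two_smul F b, two, zero_smul]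
        exact add_right_cancel (hsu.trans h2.symm)
    have hle : Submodule.span F (Set.range ![a, b]) ≤ D i :=
      Submodule.span_le.2 (by rintro _ ⟨j, rfl⟩; fin_cases j <;> assumption)
    have he := Submodule.eq_of_le_of_finrank_le hle (by
      rw [hD.decomp.finrank_eq, finrank_span_eq_card hli, Fintype.card_fin])
    rw [← he, Matrix.range_cons, Matrix.range_cons, Matrix.range_empty, Set.union_empty,
      Set.singleton_union, Submodule.mem_span_pair] at hy
    obtain ⟨s, u, rfl⟩ := hy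
    apply hya
    rw [f_add_right, f_smul_right, f_smul_right, f_self, h0, mul_zero, mul_zero, add_zero]
  let ind : (Fin m ⊕ Fin m → F) → F := fun w => if w = 0 then 0 else 1
  have hind : ∀ i, ∀ a ∈ D i, ∀ b ∈ D i, ind (a + b) = ind a + ind b + sympForm m F a b := by
    intro i a ha b hb
    by_cases a0 : a = 0
    · simp [ind, a0, Classical.SympTrans.f_zero_left]
    by_cases b0 : b = 0
    · simp [ind, b0, Classical.SympTrans.f_zero_right]
    by_cases hab : a = b
    · subst hab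
      have h2 : a + a = 0 := by rw [← two_smul F a, two, zero_smul]
      simp only [ind, h2, if_true, if_neg a0, f_self, add_zero]
      linear_combination -two
    · have hne : a + b ≠ 0 := fun e0 => hab (by
        have h2 : b + b = 0 := by rw [← two_smul F b, two, zero_smul]
        exact add_right_cancel (e0.trans h2.symm))
      simp only [ind, if_neg a0, if_neg b0, if_neg hne, hω i a ha b hb a0 b0 hab]
      linear_combination -two
  let Q : (Fin m ⊕ Fin m → F) → F := fun v => ∑ i, ind (p i v)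
  have hpol : ∀ u v, QuadraticMap.polar Q u v = sympForm m F u v := by
    intro u v
    simp only [QuadraticMap.polar, Q, map_add]
    rw [Finset.sum_congr rfl fun i _ => hind i _ (hp i u) _ (hp i v), Finset.sum_add_distrib,
      Finset.sum_add_distrib]
    have h1 : sympForm m F u v = ∑ i, sympForm m F (p i u) (p i v) := by
      have h2 : ∀ s : Finset (Fin t), sympForm m F u (∑ i ∈ s, p i v) = ∑ i ∈ s, sympForm m F u (p i v) :=
        fun s => by
          induction s using Finset.induction_on with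
          | empty => simp [Classical.SympTrans.f_zero_right]
          | @insert b s hb ih => rw [Finset.sum_insert hb, Finset.sum_insert hb, f_add_right, ih]
      conv_lhs => rw [← psum v, h2]
      exact Finset.sum_congr rfl fun i _ => pω i _ (hp i v) u
    rw [h1]
    ring
  refine ⟨Q, by rw [hq]; decide, ⟨fun c v => ?_, ⟨fun x y v => ?_, fun c x v => ?_, fun v x y => ?_,
    fun c v x => ?_⟩, fun v hv => ?_⟩, hpol, ?_⟩
  · rcases f2 c with rfl | rfl <;> simp [Q, ind]
  · rw [hpol, hpol, hpol, f_add_left]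
  · rw [hpol, hpol, f_smul_left]
  · rw [hpol, hpol, hpol, f_add_right]
  · rw [hpol, hpol, f_smul_right]
  · obtain ⟨z, hz⟩ : ∃ z, sympForm m F v z ≠ 0 := by
      by_contra hc
      push Not at hc
      exact hv (eq_zero_of_f v hc)
    exact ⟨⟨z, by rw [hpol, f_swap]; exact neg_ne_zero.2 hz⟩, z, by rw [hpol]; exact hz⟩
  · rintro g ⟨σ, hσ⟩
    refine ⟨1, fun v => ?_⟩
    rw [Units.val_one, one_mul]
    have hmem : ∀ i, ∀ x ∈ D i, (g : Matrix (Fin m ⊕ Fin m) (Fin m ⊕ Fin m) F) *ᵥ x ∈ D (σ i) := fun i x hx => by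
      rw [← hσ i]
      exact ⟨x, hx, Matrix.toLin'_apply _ _⟩
    have hps : ∀ i, p (σ i) ((g : Matrix (Fin m ⊕ Fin m) (Fin m ⊕ Fin m) F) *ᵥ v) =
        (g : Matrix (Fin m ⊕ Fin m) (Fin m ⊕ Fin m) F) *ᵥ p i v := by
      intro i
      conv_lhs => rw [← psum v]
      rw [Matrix.mulVec_sum, map_sum,
        Finset.sum_eq_single i (fun j _ hj => pother _ _ (σ.injective.ne (Ne.symm hj)) _
          (hmem j _ (hp j v))) (by simp)]
      exact pself _ _ (hmem i _ (hp i v))
    show ∑ i, ind (p i _) = ∑ i, ind (p i v)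
    rw [← Equiv.sum_comp σ]
    refine Finset.sum_congr rfl fun i _ => ?_
    rw [hps]
    by_cases e0 : p i v = 0
    · simp [ind, e0]
    · have : (g : Matrix (Fin m ⊕ Fin m) (Fin m ⊕ Fin m) F) *ᵥ p i v ≠ 0 := fun e1 => e0 (by
        have := congrArg (fun z => (↑g⁻¹ : Matrix (Fin m ⊕ Fin m) (Fin m ⊕ Fin m) F) *ᵥ z) e1
        simpa [mulVec_mulVec] using this)
      simp [ind, e0, this]

theorem three_sq [Fintype F] (hq : Fintype.card F = 3) {x : F} (hx : x ≠ 0) : x * x = 1 := by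
  have := FiniteField.pow_card_sub_one_eq_one x hx
  rwa [hq, pow_two] at this

theorem three_zero [Fintype F] (hq : Fintype.card F = 3) : (3 : F) = 0 := by
  have h := Nat.cast_card_eq_zero F
  rw [hq] at h
  exact_mod_cast h

/-- Over three elements a pair of totally singular planes gives an orthogonal decomposition. -/
theorem tsPair_three [Fintype F] (hq : Fintype.card F = 3) {D : Fin 2 → Submodule F (Fin 2 ⊕ Fin 2 → F)}
    (hD : Cfsg.Geo.IsMDecomposition 2 D) (hts : ∀ i, Cfsg.Geo.IsTotallySingularFor (sympForm 2 F) (D i)) :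
    ∃ D' : Fin 2 → Submodule F (Fin 2 ⊕ Fin 2 → F), Cfsg.Geo.IsNondegenerateMDecomposition (sympForm 2 F) 2 D' ∧
      decompositionStabilizer D ⊓ spGL 2 F ≤ decompositionStabilizer D' := by
  classical
  have h3 := three_zero hq
  have h20 : (2 : F) ≠ 0 := fun h => one_ne_zero (show (1 : F) = 0 by linear_combination h3 - h)
  have hcompl : ∀ x, x ∈ D 0 → x ∈ D 1 → x = 0 :=
    Submodule.disjoint_def.1 (hD.indep.pairwiseDisjoint (show (0 : Fin 2) ≠ 1 by decide))
  have hsup : ∀ z : Fin 2 ⊕ Fin 2 → F, ∃ a ∈ D 0, ∃ b ∈ D 1, a + b = z := by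
    intro z
    have : z ∈ D 0 ⊔ D 1 := by
      have h1 : iSup D ≤ D 0 ⊔ D 1 := iSup_le fun i => by fin_cases i; exacts [le_sup_left, le_sup_right]
      exact h1 (hD.iSup_eq_top ▸ Submodule.mem_top)
    exact Submodule.mem_sup.1 this
  let B : Module.Basis (Fin 2) F (D 0) := Module.finBasisOfFinrankEq F (D 0) (hD.finrank_eq 0)
  let v : Fin 2 → (Fin 2 ⊕ Fin 2 → F) := fun i => (B i : Fin 2 ⊕ Fin 2 → F)
  have hv : ∀ i, v i ∈ D 0 := fun i => (B i).2
  have hvrep : ∀ z ∈ D 0, ∃ a b : F, z = a • v 0 + b • v 1 := fun z hz => by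
    refine ⟨B.repr ⟨z, hz⟩ 0, B.repr ⟨z, hz⟩ 1, ?_⟩
    have := congrArg Subtype.val (B.sum_repr ⟨z, hz⟩)
    rw [Fin.sum_univ_two, Submodule.coe_add, Submodule.coe_smul, Submodule.coe_smul] at this
    exact this.symm
  let pair : D 1 →ₗ[F] (Fin 2 → F) :=
    { toFun := fun y i => sympForm 2 F (v i) y.1
      map_add' := fun y y' => funext fun i => f_add_right _ _ _
      map_smul' := fun c y => funext fun i => f_smul_right _ _ _ }
  have hinj : Function.Injective pair := by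
    rw [← LinearMap.ker_eq_bot, LinearMap.ker_eq_bot']
    rintro ⟨y, hy⟩ h0
    refine Subtype.ext (eq_zero_of_f y fun z => ?_)
    obtain ⟨a, ha, b, hb, rfl⟩ := hsup z
    obtain ⟨c, d, rfl⟩ := hvrep a ha
    have e0 : sympForm 2 F (v 0) y = 0 := congrFun h0 0
    have e1 : sympForm 2 F (v 1) y = 0 := congrFun h0 1
    rw [f_add_right, f_add_right, f_smul_right, f_smul_right, hts 1 y hy b hb, f_swap (v 0) y, f_swap (v 1) y,
      e0, e1]
    ring
  have hsurj : Function.Surjective pair :=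
    (LinearMap.injective_iff_surjective_of_finrank_eq_finrank (by
      rw [hD.finrank_eq 1, Module.finrank_fin_fun])).1 hinj
  obtain ⟨⟨u₀, hu₀⟩, e0⟩ := hsurj ![0, -1]
  obtain ⟨⟨u₁, hu₁⟩, e1⟩ := hsurj ![1, 0]
  have p00 : sympForm 2 F (v 0) u₀ = 0 := congrFun e0 0
  have p10 : sympForm 2 F (v 1) u₀ = -1 := congrFun e0 1
  have p01 : sympForm 2 F (v 0) u₁ = 1 := congrFun e1 0
  have p11 : sympForm 2 F (v 1) u₁ = 0 := congrFun e1 1
  let s : Fin 2 → F := ![1, -1]
  let w : Fin 2 → Fin 2 → (Fin 2 ⊕ Fin 2 → F) := fun l => ![v 0 + s l • u₀, v 1 + s l • u₁]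
  have hf : ∀ l l' (a b a' b' : F), sympForm 2 F (a • w l 0 + b • w l 1) (a' • w l' 0 + b' • w l' 1) =
      (s l + s l') * (a * b' - b * a') := by
    intro l l' a b a' b'
    simp only [w, Matrix.cons_val_zero, Matrix.cons_val_one, f_add_left, f_add_right, f_smul_left, f_smul_right,
      f_swap (v 0) u₀, f_swap (v 1) u₀, f_swap (v 0) u₁, f_swap (v 1) u₁, p00, p10, p01, p11,
      hts 0 _ (hv 0) _ (hv 0), hts 0 _ (hv 0) _ (hv 1), hts 0 _ (hv 1) _ (hv 0), hts 0 _ (hv 1) _ (hv 1),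
      hts 1 _ hu₀ _ hu₀, hts 1 _ hu₀ _ hu₁, hts 1 _ hu₁ _ hu₀, hts 1 _ hu₁ _ hu₁]
    ring
  let D' : Fin 2 → Submodule F (Fin 2 ⊕ Fin 2 → F) := fun l => Submodule.span F {w l 0, w l 1}
  have hmem : ∀ {l z}, z ∈ D' l ↔ ∃ a b : F, a • w l 0 + b • w l 1 = z := Submodule.mem_span_pair
  have hs2 : ∀ l, s l + s l ≠ 0 := by
    intro l
    fin_cases l
    · show (1 : F) + 1 ≠ 0
      rwa [one_add_one_eq_two]
    · show (-1 : F) + -1 ≠ 0
      rwa [← neg_add, one_add_one_eq_two, neg_ne_zero]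
  have hs0 : ∀ l l', l ≠ l' → s l + s l' = 0 := by
    intro l l' h
    fin_cases l <;> fin_cases l' <;> simp [s] at h ⊢
  have hind : ∀ l (a b : F), a • w l 0 + b • w l 1 = 0 → a = 0 ∧ b = 0 := by
    intro l a b h0
    have e2 := hf l l a b 0 1
    have e3 := hf l l a b 1 0
    rw [h0, Classical.SympTrans.f_zero_left] at e2 e3
    have e2' := (mul_eq_zero.1 e2.symm).resolve_left (hs2 l)
    have e3' := (mul_eq_zero.1 e3.symm).resolve_left (hs2 l)
    exact ⟨by linear_combination e2', by linear_combination -e3'⟩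
  have hdim : ∀ l, Module.finrank F (D' l) = 2 := fun l => by
    have hli : LinearIndependent F ![w l 0, w l 1] := LinearIndependent.pair_iff.2 (hind l)
    have := finrank_span_eq_card hli
    rwa [Matrix.range_cons, Matrix.range_cons, Matrix.range_empty, Set.union_empty, Set.singleton_union,
      Fintype.card_fin] at this
  have horth : ∀ l l', l ≠ l' → ∀ x ∈ D' l, ∀ y ∈ D' l', sympForm 2 F x y = 0 := by
    intro l l' hll x hx y hy
    obtain ⟨a, b, rfl⟩ := hmem.1 hx
    obtain ⟨a', b', rfl⟩ := hmem.1 hy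
    rw [hf, hs0 l l' hll, zero_mul]
  have hnd : ∀ l, Cfsg.Geo.IsNondegenerateOn (sympForm 2 F) (D' l) := by
    intro l x hx hx0
    obtain ⟨a, b, rfl⟩ := hmem.1 hx
    obtain ⟨a', b', hne⟩ : ∃ a' b', a * b' - b * a' ≠ 0 := by
      by_cases ha : a = 0
      · refine ⟨1, 0, ?_⟩
        intro hb
        apply hx0
        have : b = 0 := by linear_combination -hb
        rw [ha, this, zero_smul, zero_smul, add_zero]
      · exact ⟨0, 1, by simpa using ha⟩
    refine ⟨⟨_, hmem.2 ⟨a', b', rfl⟩, ?_⟩, _, hmem.2 ⟨a', b', rfl⟩, ?_⟩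
    · rw [hf]
      exact mul_ne_zero (hs2 l) fun h => hne (by linear_combination -h)
    · rw [hf]
      exact mul_ne_zero (hs2 l) hne
  have hdisj : D' 0 ⊓ D' 1 = ⊥ := by
    rw [Submodule.eq_bot_iff]
    rintro x ⟨hx0, hx1⟩
    by_contra hx
    obtain ⟨⟨y, hy, hne⟩, -⟩ := hnd 0 x hx0 hx
    exact hne (horth 0 1 (by decide) y hy x hx1)
  refine ⟨D', ⟨⟨le_rfl, two_pos, hdim, ?_, ?_⟩, hnd, horth⟩, ?_⟩
  · rw [iSupIndep_def]
    intro i
    fin_cases i
    · exact (disjoint_iff.2 hdisj).mono_right (iSup₂_le fun j hj => by fin_cases j <;> simp at hj ⊢)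
    · exact (disjoint_iff.2 (inf_comm (D' 1) (D' 0) ▸ hdisj)).mono_right
        (iSup₂_le fun j hj => by fin_cases j <;> simp at hj ⊢)
  · have h4 := Submodule.finrank_sup_add_finrank_inf_eq (D' 0) (D' 1)
    rw [hdisj, finrank_bot, add_zero, hdim, hdim] at h4
    refine eq_top_iff.2 ((Submodule.eq_top_of_finrank_eq (h4.trans ?_)).ge.trans
      (sup_le (le_iSup D' 0) (le_iSup D' 1)))
    simp [Module.finrank_pi]
  rintro g ⟨⟨σ, hσ⟩, hg⟩
  set A := (g : Matrix (Fin 2 ⊕ Fin 2) (Fin 2 ⊕ Fin 2) F) with hA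
  have hgf : ∀ x y, sympForm 2 F (A *ᵥ x) (A *ᵥ y) = sympForm 2 F x y := hg
  have hmap : ∀ i x, x ∈ D i → A *ᵥ x ∈ D (σ i) := fun i x hx => by
    rw [← hσ i]
    exact ⟨x, hx, Matrix.toLin'_apply _ _⟩
  -- the images of `v` decide the images of `u`
  have huniq : ∀ i j, i ≠ j → ∀ z ∈ D i, ∀ z' ∈ D i, (∀ x ∈ D j, sympForm 2 F x z = sympForm 2 F x z') → z = z' := by
    intro i j hij z hz z' hz' h
    refine sub_eq_zero.1 (eq_zero_of_f _ fun x => ?_)
    obtain ⟨a, ha, b, hb, rfl⟩ := hsup x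
    have key : ∀ c ∈ D j, sympForm 2 F (z - z') c = 0 := fun c hc => by
      rw [f_swap c, Classical.SympTrans.f_sub_right, h c hc, sub_self, neg_zero]
    have key' : ∀ c ∈ D i, sympForm 2 F (z - z') c = 0 := fun c hc => hts i _ (sub_mem hz hz') c hc
    fin_cases i <;> fin_cases j
    · exact absurd rfl hij
    · rw [f_add_right, key' a ha, key b hb, add_zero]
    · rw [f_add_right, key a ha, key' b hb, add_zero]
    · exact absurd rfl hij
  obtain ⟨x₀, y₀, hx₀, hy₀, hA0, d, hd, hD'⟩ : ∃ (l : Fin 2 → Fin 2) (τ : Unit), (∀ i, l (l i) = i) ∧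
      τ = () ∧ True ∧ ∃ d : F, d ≠ 0 ∧ ∀ r, A *ᵥ w r 0 ∈ D' (l r) ∧ A *ᵥ w r 1 ∈ D' (l r) := by
    have h01 : σ 0 = 0 ∧ σ 1 = 1 ∨ σ 0 = 1 ∧ σ 1 = 0 := by
      have hne : σ 0 ≠ σ 1 := σ.injective.ne (by decide)
      revert hne
      generalize σ 0 = a
      generalize σ 1 = b
      fin_cases a <;> fin_cases b <;> simp
    have hgen : ∀ (p q : Fin 2) (z₀ z₁ y₀ y₁ : Fin 2 ⊕ Fin 2 → F) (a b c e : F), p ≠ q →
        z₀ ∈ D p → z₁ ∈ D p → y₀ ∈ D q → y₁ ∈ D q → A *ᵥ v 0 = a • z₀ + b • z₁ → A *ᵥ v 1 = c • z₀ + e • z₁ →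
        A *ᵥ u₀ ∈ D q → A *ᵥ u₁ ∈ D q →
        sympForm 2 F z₀ y₀ = 0 → sympForm 2 F z₁ y₁ = 0 → sympForm 2 F z₀ y₁ = 1 → sympForm 2 F z₁ y₀ = -1 →
        (∀ z ∈ D p, ∃ a b : F, z = a • z₀ + b • z₁) →
        a * e - b * c ≠ 0 ∧ A *ᵥ u₀ = (a * e - b * c)⁻¹ • (a • y₀ + b • y₁) ∧
          A *ᵥ u₁ = (a * e - b * c)⁻¹ • (c • y₀ + e • y₁) := by
      intro p q z₀ z₁ y₀ y₁ a b c e hpq hz₀ hz₁ hy₀ hy₁ ha hc hu hu' q00 q11 q01 q10 hrep
      have hne : a * e - b * c ≠ 0 := by
        intro h0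
        have hk : A *ᵥ (e • v 0 - b • v 1) = 0 ∧ A *ᵥ (-c • v 0 + a • v 1) = 0 := by
          constructor
          · rw [mulVec_sub, mulVec_smul, mulVec_smul, ha, hc,
              show e • (a • z₀ + b • z₁) - b • (c • z₀ + e • z₁) = (a * e - b * c) • z₀ by module, h0, zero_smul]
          · rw [mulVec_add, mulVec_smul, mulVec_smul, ha, hc,
              show -c • (a • z₀ + b • z₁) + a • (c • z₀ + e • z₁) = (a * e - b * c) • z₁ by module, h0, zero_smul]
        have z1 := hgf (e • v 0 - b • v 1) u₁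
        have z2 := hgf (e • v 0 - b • v 1) u₀
        have z3 := hgf (-c • v 0 + a • v 1) u₁
        have z4 := hgf (-c • v 0 + a • v 1) u₀
        rw [hk.1, Classical.SympTrans.f_zero_left, Classical.SympTrans.f_sub_left, f_smul_left, f_smul_left, p01, p11] at z1
        rw [hk.1, Classical.SympTrans.f_zero_left, Classical.SympTrans.f_sub_left, f_smul_left, f_smul_left, p00, p10] at z2
        rw [hk.2, Classical.SympTrans.f_zero_left, f_add_left, f_smul_left, f_smul_left, p01, p11] at z3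
        rw [hk.2, Classical.SympTrans.f_zero_left, f_add_left, f_smul_left, f_smul_left, p00, p10] at z4
        have he : e = 0 := by linear_combination -z1
        have hb : b = 0 := by linear_combination -z2
        have hc0 : c = 0 := by linear_combination z3
        have ha0 : a = 0 := by linear_combination z4
        rw [ha0, hb, zero_smul, zero_smul, add_zero] at ha
        have := hgf (v 0) u₁
        rw [ha, Classical.SympTrans.f_zero_left, p01] at this
        exact zero_ne_one this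
      refine ⟨hne, ?_, ?_⟩
      all_goals
        refine huniq q p hpq.symm _ (by first | exact hu | exact hu') _
          (Submodule.smul_mem _ _ (add_mem (Submodule.smul_mem _ _ hy₀) (Submodule.smul_mem _ _ hy₁))) ?_
        intro x hx
        obtain ⟨α, β, rfl⟩ := hrep x hx
        have hx' : α • z₀ + β • z₁ = A *ᵥ ((a * e - b * c)⁻¹ • ((α * e - β * c) • v 0 + (β * a - α * b) • v 1)) := by
          rw [mulVec_smul, mulVec_add, mulVec_smul, mulVec_smul, ha, hc,
            show (α * e - β * c) • (a • z₀ + b • z₁) + (β * a - α * b) • (c • z₀ + e • z₁) =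
              (a * e - b * c) • (α • z₀ + β • z₁) by module, inv_smul_smul₀ hne]
        conv_lhs => rw [hx', hgf]
        simp only [f_add_left, f_add_right, f_smul_left, f_smul_right, p00, p10, p01, p11, q00, q11, q01, q10]
        ring
    have hs1 : ∀ r (d : F), d ≠ 0 → ∃ l : Fin 2, s l = s r * d⁻¹ := by
      intro r d hd
      have := three_sq hq hd
      have hd' : d⁻¹ = d := inv_eq_of_mul_eq_one_right this
      rw [hd']
      rcases mul_self_eq_one_iff.1 this with rfl | rfl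
      · exact ⟨r, (mul_one _).symm⟩
      · fin_cases r
        · exact ⟨1, by simp [s]⟩
        · exact ⟨0, by simp [s]⟩
    rcases h01 with ⟨h0, h1⟩ | ⟨h0, h1⟩
    · obtain ⟨a, b, ha⟩ := hvrep _ (h0 ▸ hmap 0 _ (hv 0))
      obtain ⟨c, e, hc⟩ := hvrep _ (h0 ▸ hmap 0 _ (hv 1))
      obtain ⟨hne, hU0, hU1⟩ := hgen 0 1 (v 0) (v 1) u₀ u₁ a b c e (by decide) (hv 0) (hv 1) hu₀ hu₁ ha hc
        (h1 ▸ hmap 1 _ hu₀) (h1 ▸ hmap 1 _ hu₁) p00 p11 p01 p10 hvrep
      obtain ⟨k, hk⟩ : ∃ k : Fin 2 → Fin 2, ∀ r, s (k r) = s r * (a * e - b * c)⁻¹ :=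
        ⟨fun r => (hs1 r _ hne).choose, fun r => (hs1 r _ hne).choose_spec⟩
      refine ⟨k, (), fun i => ?_, rfl, trivial, _, hne, fun r => ⟨hmem.2 ⟨a, b, ?_⟩, hmem.2 ⟨c, e, ?_⟩⟩⟩
      · have e5 : s (k (k i)) = s i := by
          rw [hk, hk, mul_assoc, ← mul_inv, three_sq hq hne, inv_one, mul_one]
        revert e5
        generalize k (k i) = j
        fin_cases j <;> fin_cases i <;> simp [s] <;> intro h6 <;> first | exact h20 (by linear_combination h6) | skip
        all_goals exact h20 (by linear_combination -h6)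
      · simp only [w, Matrix.cons_val_zero, Matrix.cons_val_one, mulVec_add, mulVec_smul, ha, hU0, hk]
        module
      · simp only [w, Matrix.cons_val_zero, Matrix.cons_val_one, mulVec_add, mulVec_smul, hc, hU1, hk]
        module
    · have hvrep' : ∀ z ∈ D 1, ∃ a b : F, z = a • u₀ + b • u₁ := by
        intro z hz
        refine ⟨-sympForm 2 F (v 1) z, sympForm 2 F (v 0) z, ?_⟩
        refine huniq 1 0 (by decide) z hz _ (add_mem (Submodule.smul_mem _ _ hu₀) (Submodule.smul_mem _ _ hu₁)) ?_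
        intro x hx
        obtain ⟨α, β, rfl⟩ := hvrep x hx
        simp only [f_add_left, f_add_right, f_smul_left, f_smul_right, p00, p10, p01, p11]
        ring
      obtain ⟨a, b, ha⟩ := hvrep' _ (h0 ▸ hmap 0 _ (hv 0))
      obtain ⟨c, e, hc⟩ := hvrep' _ (h0 ▸ hmap 0 _ (hv 1))
      obtain ⟨hne, hU0, hU1⟩ := hgen 1 0 u₀ u₁ (v 0) (v 1) a b c e (by decide) hu₀ hu₁ (hv 0) (hv 1) ha hc
        (h1 ▸ hmap 1 _ hu₀) (h1 ▸ hmap 1 _ hu₁) (by rw [f_swap, p00, neg_zero]) (by rw [f_swap, p11, neg_zero])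
        (by rw [f_swap, p10, neg_neg]) (by rw [f_swap, p01]) hvrep'
      obtain ⟨k, hk⟩ : ∃ k : Fin 2 → Fin 2, ∀ r, s (k r) = s r * (a * e - b * c)⁻¹ :=
        ⟨fun r => (hs1 r _ hne).choose, fun r => (hs1 r _ hne).choose_spec⟩
      have hss : ∀ r, s (k r) * (s r * (a * e - b * c)⁻¹) = 1 := fun r => by
        rw [hk]
        refine three_sq hq (mul_ne_zero ?_ (inv_ne_zero hne))
        fin_cases r <;> simp [s]
      refine ⟨k, (), fun i => ?_, rfl, trivial, _, hne, fun r => ⟨hmem.2 ⟨a * (s r * (a * e - b * c)⁻¹),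
        b * (s r * (a * e - b * c)⁻¹), ?_⟩, hmem.2 ⟨c * (s r * (a * e - b * c)⁻¹),
        e * (s r * (a * e - b * c)⁻¹), ?_⟩⟩⟩
      · have e5 : s (k (k i)) = s i := by
          rw [hk, hk, mul_assoc, ← mul_inv, three_sq hq hne, inv_one, mul_one]
        revert e5
        generalize k (k i) = j
        fin_cases j <;> fin_cases i <;> simp [s] <;> intro h6 <;> first | exact h20 (by linear_combination h6) | skip
        all_goals exact h20 (by linear_combination -h6)
      · simp only [w, Matrix.cons_val_zero, Matrix.cons_val_one, mulVec_add, mulVec_smul, ha, hU0, smul_add,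
          smul_smul, mul_right_comm _ (s r * (a * e - b * c)⁻¹) (s (k r))]
        simp only [mul_assoc, hss r, mul_comm (s r * (a * e - b * c)⁻¹) (s (k r)), mul_one]
        module
      · simp only [w, Matrix.cons_val_zero, Matrix.cons_val_one, mulVec_add, mulVec_smul, hc, hU1, smul_add,
          smul_smul, mul_right_comm _ (s r * (a * e - b * c)⁻¹) (s (k r))]
        simp only [mul_assoc, hss r, mul_comm (s r * (a * e - b * c)⁻¹) (s (k r)), mul_one]
        module
  refine ⟨⟨x₀, x₀, hx₀, hx₀⟩, fun i => Submodule.eq_of_le_of_finrank_le ?_ ?_⟩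
  · rintro _ ⟨z, hz, rfl⟩
    obtain ⟨a, b, rfl⟩ := hmem.1 hz
    rw [Matrix.toLin'_apply, mulVec_add, mulVec_smul, mulVec_smul]
    exact add_mem (Submodule.smul_mem _ _ (hD' i).1) (Submodule.smul_mem _ _ (hD' i).2)
  · exact le_of_eq ((hdim _).trans ((hdim i).symm.trans (LinearEquiv.finrank_eq
      (Submodule.equivMapOfInjective _ (fun x y h => by
        simp only [Matrix.toLin'_apply] at h
        exact Matrix.mulVec_injective_of_isUnit g.isUnit h) _))))

/-- Over three elements the similitudes of a sum of three squares are monomial. -/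
theorem sim_three [Fintype F] (hq : Fintype.card F = 3) {B : Matrix (Fin 3) (Fin 3) F} {d : F} (hd : d ≠ 0)
    (hB : Bᵀ * B = d • (1 : Matrix (Fin 3) (Fin 3) F)) :
    ∃ σ : Equiv.Perm (Fin 3), ∀ i j, B i j ≠ 0 → i = σ j := by
  have h3 := three_zero hq
  have hd1 : d = 1 := by
    have hdet := congrArg Matrix.det hB
    rw [Matrix.det_mul, Matrix.det_transpose, Matrix.det_smul, Matrix.det_one, mul_one, Fintype.card_fin] at hdet
    have hdd : d ^ 3 = d := by rw [pow_succ, pow_two, three_sq hq hd, one_mul]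
    by_cases h0 : B.det = 0
    · rw [h0, mul_zero, hdd] at hdet
      exact absurd hdet.symm hd
    · rw [three_sq hq h0, hdd] at hdet
      exact hdet.symm
  subst hd1
  rw [one_smul] at hB
  have hcol : ∀ j l, ∑ i, B i j * B i l = if j = l then 1 else 0 := fun j l => by
    have := congrFun (congrFun hB j) l
    simpa [Matrix.mul_apply, Matrix.one_apply] using this
  have hone : ∀ j, ∃ i, B i j ≠ 0 ∧ ∀ i', i' ≠ i → B i' j = 0 := by
    intro j
    have h := hcol j j
    rw [if_pos rfl, Fin.sum_univ_three] at h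
    have hcase : ∀ x : F, x = 0 ∨ x * x = 1 := fun x => (em (x = 0)).imp id fun hx => three_sq hq hx
    rcases hcase (B 0 j) with a | a <;> rcases hcase (B 1 j) with b | b <;> rcases hcase (B 2 j) with c | c
    · simp [a, b, c] at h
    · refine ⟨2, fun e => by simp [e] at c, fun i hi => ?_⟩
      fin_cases i <;> simp [a, b] at hi ⊢
    · refine ⟨1, fun e => by simp [e] at b, fun i hi => ?_⟩
      fin_cases i <;> simp [a, c] at hi ⊢
    · rw [a, b, c, zero_mul, zero_add] at h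
      exact absurd (by linear_combination h) (one_ne_zero (α := F))
    · refine ⟨0, fun e => by simp [e] at a, fun i hi => ?_⟩
      fin_cases i <;> simp [b, c] at hi ⊢
    · rw [a, b, c, zero_mul, add_zero] at h
      exact absurd (by linear_combination h) (one_ne_zero (α := F))
    · rw [a, b, c, zero_mul, add_zero] at h
      exact absurd (by linear_combination h) (one_ne_zero (α := F))
    · rw [a, b, c] at h
      exact absurd (by linear_combination h3 - h) (one_ne_zero (α := F))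
  choose f hf0 hf1 using hone
  have hinj : Function.Injective f := by
    intro j l he
    by_contra hne
    have h := hcol j l
    rw [if_neg hne, Finset.sum_eq_single (f j) (fun i _ hi => by rw [hf1 j i hi, zero_mul]) (by simp)] at h
    exact mul_ne_zero (hf0 j) (he ▸ hf0 l) h
  refine ⟨Equiv.ofBijective f (Finite.injective_iff_bijective.1 hinj), fun i j hij => ?_⟩
  by_contra hne
  exact hij (hf1 j i hne)

/-- Over three elements a non-degenerate form in three variables is a multiple of the sum of squares. -/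
theorem diag_three [Fintype F] (hq : Fintype.card F = 3) {f : (Fin 3 → F) → (Fin 3 → F) → F}
    (hf : Cfsg.Geo.IsSymmetricForm f) :
    ∃ (U : GL (Fin 3) F) (c : F), c ≠ 0 ∧
      (U : Matrix (Fin 3) (Fin 3) F)ᵀ * gramMatrix f * (U : Matrix (Fin 3) (Fin 3) F) = c • 1 := by
  classical
  have h3 := three_zero hq
  have h20 : (2 : F) ≠ 0 := fun h => one_ne_zero (show (1 : F) = 0 by linear_combination h3 - h)
  haveI : Invertible (2 : F) := invertibleOfNonzero h20
  let B : LinearMap.BilinForm F (Fin 3 → F) :=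
    LinearMap.mk₂ F f hf.bilinear.add_left (fun c x v => by rw [hf.bilinear.smul_left]; rfl)
      hf.bilinear.add_right (fun c v x => by rw [hf.bilinear.smul_right]; rfl)
  have hBs : LinearMap.IsSymm B := ⟨fun x y => hf.symm x y⟩
  obtain ⟨v₀, hv₀⟩ := LinearMap.BilinForm.exists_orthogonal_basis hBs
  let v : Module.Basis (Fin 3) F (Fin 3 → F) :=
    v₀.reindex (finCongr (Module.finrank_fin_fun F))
  have horth : ∀ i j, i ≠ j → f (v i) (v j) = 0 := fun i j hij => by
    simp only [v, Module.Basis.reindex_apply]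
    exact hv₀ ((finCongr _).symm.injective.ne hij)
  have hnd : ∀ i, f (v i) (v i) ≠ 0 := fun i h0 => by
    obtain ⟨x, hx⟩ := (hf.nondegenerate (v i) (v.ne_zero i)).2
    apply hx
    rw [← v.sum_repr x]
    show B (v i) (∑ j, _) = 0
    rw [map_sum]
    refine Finset.sum_eq_zero fun j _ => ?_
    rw [map_smul, smul_eq_mul]
    show _ * f (v i) (v j) = 0
    by_cases hij : i = j
    · rw [← hij, h0, mul_zero]
    · rw [horth i j hij, mul_zero]
  have hgram : ∀ (w : Fin 3 → Fin 3 → F) i j,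
      ((Matrix.of fun a b => w b a)ᵀ * gramMatrix f * Matrix.of fun a b => w b a) i j = f (w i) (w j) := by
    intro w i j
    have hx : ∀ x, x = ∑ a, x a • (Pi.single a 1 : Fin 3 → F) := fun x => by
      conv_lhs => rw [← Finset.univ_sum_single x]
      exact Finset.sum_congr rfl fun a _ => by rw [← Pi.single_smul, smul_eq_mul, mul_one]
    conv_rhs => rw [hx (w i), hx (w j)]
    show _ = B (∑ a, _) (∑ b, _)
    simp only [map_sum, map_smul, LinearMap.sum_apply, LinearMap.smul_apply, smul_eq_mul, Matrix.mul_apply,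
      Matrix.transpose_apply, Matrix.of_apply, gramMatrix, Finset.mul_sum, Finset.sum_mul]
    exact Finset.sum_congr rfl fun b _ => Finset.sum_congr rfl fun a _ => by
      show _ = _ * (_ * f _ _)
      ring
  suffices H : ∃ (w : Fin 3 → Fin 3 → F) (c : F), c ≠ 0 ∧ (∀ i j, f (w i) (w j) = if i = j then c else 0) by
    obtain ⟨w, c, hc, hw⟩ := H
    have he : (Matrix.of fun a b => w b a)ᵀ * gramMatrix f * (Matrix.of fun a b => w b a) = c • 1 := by
      ext i j
      rw [hgram, hw]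
      simp [Matrix.one_apply]
    have hu : IsUnit (Matrix.of fun a b => w b a).det := by
      have hdet := congrArg Matrix.det he
      rw [Matrix.det_mul, Matrix.det_smul, Matrix.det_one, mul_one] at hdet
      exact isUnit_iff_ne_zero.2 fun h0 => pow_ne_zero _ hc (by rw [← hdet, h0, mul_zero])
    exact ⟨Matrix.GeneralLinearGroup.mkOfDetNeZero _ hu.ne_zero, c, hc, he⟩
  have hval : ∀ i, f (v i) (v i) = 1 ∨ f (v i) (v i) = -1 := fun i => mul_self_eq_one_iff.1 (three_sq hq (hnd i))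
  by_cases hall : ∀ i, f (v i) (v i) = f (v 0) (v 0)
  · exact ⟨fun i => v i, _, hnd 0, fun i j => by
      split_ifs with h
      · rw [h, hall j]
      · exact horth i j h⟩
  push Not at hall
  obtain ⟨i, hi⟩ := hall
  -- the odd one out
  obtain ⟨a, b, k, hab, hak, hbk, hcov, heq, hne⟩ : ∃ a b k : Fin 3, a ≠ b ∧ a ≠ k ∧ b ≠ k ∧
      (∀ l, l = a ∨ l = b ∨ l = k) ∧ f (v a) (v a) = f (v b) (v b) ∧ f (v k) (v k) = -f (v a) (v a) := by
    rcases hval 0 with a0 | a0 <;> rcases hval 1 with a1 | a1 <;> rcases hval 2 with a2 | a2 <;>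
    first
    | (exfalso; apply hi; fin_cases i <;> simp [a0, a1, a2] <;> done)
    | (refine ⟨0, 1, 2, by decide, by decide, by decide, by decide, a0.trans a1.symm, ?_⟩; simp [a0, a2]; done)
    | (refine ⟨0, 2, 1, by decide, by decide, by decide, by decide, a0.trans a2.symm, ?_⟩; simp [a0, a1]; done)
    | (refine ⟨1, 2, 0, by decide, by decide, by decide, by decide, a1.trans a2.symm, ?_⟩; simp [a1, a0]; done)
  set c := f (v a) (v a) with hc
  let w : Fin 3 → Fin 3 → F := fun l => if l = a then v a + v b else if l = b then v a - v b else v k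
  have wa : w a = v a + v b := if_pos rfl
  have wb : w b = v a - v b := (if_neg hab.symm).trans (if_pos rfl)
  have wk : w k = v k := (if_neg hak.symm).trans (if_neg hbk.symm)
  have fl : ∀ x y z, f (x - y) z = f x z - f y z := fun x y z => by
    rw [sub_eq_add_neg, hf.bilinear.add_left, ← neg_one_smul F y, hf.bilinear.smul_left]; ring
  have fr : ∀ x y z, f z (x - y) = f z x - f z y := fun x y z => by rw [hf.symm, fl, hf.symm x, hf.symm y]
  refine ⟨w, -c, neg_ne_zero.2 (hnd a), fun l l' => ?_⟩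
  have o1 := horth a b hab
  have o2 := horth b a hab.symm
  have o3 := horth a k hak
  have o4 := horth b k hbk
  have o5 := horth k a hak.symm
  have o6 := horth k b hbk.symm
  rcases hcov l with rfl | rfl | rfl <;> rcases hcov l' with rfl | rfl | rfl <;>
    simp only [wa, wb, wk, if_pos rfl, if_neg hab, if_neg hab.symm, if_neg hak, if_neg hak.symm, if_neg hbk,
      if_neg hbk.symm, hf.bilinear.add_left, hf.bilinear.add_right, fl, fr, o1, o2, o3, o4, o5, o6, ← heq, ← hc,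
      hne] <;>
    (try simp only [if_true]) <;> first
    | linear_combination c * h3
    | ring1

theorem gram_ne_zero {k : ℕ} (hk : 0 < k) {f : (Fin k → F) → (Fin k → F) → F} (hb : Cfsg.Geo.IsBilinearForm f)
    (hn : Cfsg.Geo.IsNondegenerateForm f) : gramMatrix f ≠ 0 := by
  intro h0
  let B : LinearMap.BilinForm F (Fin k → F) :=
    LinearMap.mk₂ F f hb.add_left (fun c x v => by rw [hb.smul_left]; rfl)
      hb.add_right (fun c v x => by rw [hb.smul_right]; rfl)
  obtain ⟨x, hx⟩ := (hn (Pi.single ⟨0, hk⟩ 1) (by simp)).2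
  apply hx
  show B (Pi.single ⟨0, hk⟩ 1) x = 0
  rw [← Finset.univ_sum_single x, map_sum]
  refine Finset.sum_eq_zero fun b _ => ?_
  rw [show Pi.single b (x b) = x b • (Pi.single b (1 : F) : Fin k → F) by
    rw [← Pi.single_smul, smul_eq_mul, mul_one], map_smul]
  have : f (Pi.single ⟨0, hk⟩ 1) (Pi.single b 1) = 0 := congrFun (congrFun h0 ⟨0, hk⟩) b
  show x b * f _ _ = 0
  rw [this, mul_zero]

/-- An element of the isometry group stabilising a tensor decomposition is a product of similitudes. -/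
theorem kron_sim {a b : ℕ} {e : (Fin m ⊕ Fin m) ≃ Fin a × Fin b} {P : GL (Fin m ⊕ Fin m) F}
    {S₁ : Matrix (Fin a) (Fin a) F} {S₂ : Matrix (Fin b) (Fin b) F} {c : F} (hc : c ≠ 0)
    (h : Coord e P (c • (S₁ ⊗ₖ S₂))) (h1 : S₁ ≠ 0) (h2 : S₂ ≠ 0) {g : GL (Fin m ⊕ Fin m) F}
    (hg : g ∈ tensorProductSubgroup a b e P) (hgs : g ∈ spGL m F) :
    ∃ (w : GL (Fin a × Fin b) F) (A : GL (Fin a) F) (B : GL (Fin b) F) (d : F), g = cmap e P w ∧ d ≠ 0 ∧
      (w : Matrix (Fin a × Fin b) (Fin a × Fin b) F) = (A : Matrix (Fin a) (Fin a) F) ⊗ₖ (B : Matrix (Fin b) (Fin b) F) ∧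
      (A : Matrix (Fin a) (Fin a) F)ᵀ * S₁ * (A : Matrix (Fin a) (Fin a) F) = d • S₁ ∧
      (B : Matrix (Fin b) (Fin b) F)ᵀ * S₂ * (B : Matrix (Fin b) (Fin b) F) = d⁻¹ • S₂ := by
  rw [tensor_eq] at hg
  obtain ⟨w, ⟨A, B, hw⟩, rfl⟩ := hg
  have e1 := (h.mem_iff w).1 hgs
  have hK : ((A : Matrix (Fin a) (Fin a) F)ᵀ * S₁ * (A : Matrix (Fin a) (Fin a) F)) ⊗ₖ
      ((B : Matrix (Fin b) (Fin b) F)ᵀ * S₂ * (B : Matrix (Fin b) (Fin b) F)) = S₁ ⊗ₖ S₂ := by
    rw [hw, mul_smul_comm, smul_mul_assoc] at e1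
    have e2 := smul_right_injective _ hc e1
    rw [show ∀ (X : Matrix (Fin _) (Fin _) F) (Y : Matrix (Fin _) (Fin _) F), (X ⊗ₖ Y)ᵀ = Xᵀ ⊗ₖ Yᵀ from fun X Y => (Matrix.kroneckerMap_transpose _ X Y).symm, ← Matrix.mul_kronecker_mul, ← Matrix.mul_kronecker_mul] at e2
    exact e2
  obtain ⟨d, hd, hA, hB⟩ := kron_factor hK h1 h2
  exact ⟨w, A, B, d, rfl, hd, hw, hA, hB⟩

/-- Over three elements a tensor product with three-dimensional orthogonal factor is imprimitive. -/
theorem tensor_three [Fintype F] (hq : Fintype.card F = 3) {n₁ : ℕ} (hn : 2 ≤ n₁)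
    {e : (Fin m ⊕ Fin m) ≃ Fin n₁ × Fin 3} {P : GL (Fin m ⊕ Fin m) F} {f₁ : (Fin n₁ → F) → (Fin n₁ → F) → F}
    {f₂ : (Fin 3 → F) → (Fin 3 → F) → F} (hf₁ : Cfsg.Geo.IsSymplecticForm f₁) (hf₂ : Cfsg.Geo.IsSymmetricForm f₂)
    (hs : Cfsg.Geo.IsTensorFormStructure id (sympForm m F) f₁ f₂ e P) :
    ∃ D : Fin 3 → Submodule F (Fin m ⊕ Fin m → F), Cfsg.Geo.IsNondegenerateMDecomposition (sympForm m F) n₁ D ∧
      tensorProductSubgroup n₁ 3 e P ⊓ spGL m F ≤ decompositionStabilizer D := by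
  obtain ⟨c, hc, hco⟩ := coord_of_tensor hs
  obtain ⟨U, d, hd, hU⟩ := diag_three hq hf₂
  let Q : GL (Fin n₁ × Fin 3) F :=
    ⟨(1 : Matrix (Fin n₁) (Fin n₁) F) ⊗ₖ (U : Matrix (Fin 3) (Fin 3) F),
      (1 : Matrix (Fin n₁) (Fin n₁) F) ⊗ₖ (↑U⁻¹ : Matrix (Fin 3) (Fin 3) F),
      by rw [← Matrix.mul_kronecker_mul, one_mul, Units.mul_inv, Matrix.one_kronecker_one],
      by rw [← Matrix.mul_kronecker_mul, one_mul, Units.inv_mul, Matrix.one_kronecker_one]⟩
  set P' := P * glReindex e.symm Q with hP'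
  have hco' := hco.change Q
  have hG : (Q : Matrix (Fin n₁ × Fin 3) (Fin n₁ × Fin 3) F)ᵀ * (c • (gramMatrix f₁ ⊗ₖ gramMatrix f₂)) *
      (Q : Matrix (Fin n₁ × Fin 3) (Fin n₁ × Fin 3) F) = (c * d) • (gramMatrix f₁ ⊗ₖ (1 : Matrix (Fin 3) (Fin 3) F)) := by
    show ((1 : Matrix (Fin n₁) (Fin n₁) F) ⊗ₖ (U : Matrix (Fin 3) (Fin 3) F))ᵀ * _ * _ = _
    rw [mul_smul_comm, smul_mul_assoc, show ∀ (X : Matrix (Fin _) (Fin _) F) (Y : Matrix (Fin _) (Fin _) F), (X ⊗ₖ Y)ᵀ = Xᵀ ⊗ₖ Yᵀ from fun X Y => (Matrix.kroneckerMap_transpose _ X Y).symm, ← Matrix.mul_kronecker_mul,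
      ← Matrix.mul_kronecker_mul, hU, Matrix.transpose_one, one_mul, mul_one, Matrix.kronecker_smul, smul_smul]
  rw [hG] at hco'
  have hdec := hco'.ndDecomp (by omega) (by norm_num) fun p q hpq => by simp [hpq]
  refine ⟨_, hdec, ?_⟩
  rintro g ⟨hg, hgs⟩
  have h1 := gram_ne_zero (by omega) hf₁.bilinear hf₁.nondegenerate
  have h2 := gram_ne_zero (by norm_num) hf₂.bilinear hf₂.nondegenerate
  obtain ⟨w, A, B, r, rfl, hr, hw, -, hB⟩ := kron_sim hc hco h1 h2 hg hgs
  set B' : Matrix (Fin 3) (Fin 3) F := (↑U⁻¹ : Matrix (Fin 3) (Fin 3) F) * (B : Matrix (Fin 3) (Fin 3) F) * (U : Matrix (Fin 3) (Fin 3) F)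
  have hB' : B'ᵀ * B' = r⁻¹ • (1 : Matrix (Fin 3) (Fin 3) F) := by
    refine smul_right_injective _ hd ?_
    show d • (B'ᵀ * B') = d • (r⁻¹ • (1 : Matrix (Fin 3) (Fin 3) F))
    rw [smul_comm d, ← hU, ← mul_one B'ᵀ, ← smul_mul_assoc, ← mul_smul_comm, ← hU]
    simp only [B', Matrix.transpose_mul, mul_assoc, Units.mul_inv_cancel_left]
    have e1 : ∀ X : Matrix (Fin 3) (Fin 3) F,
        (↑U⁻¹ : Matrix (Fin 3) (Fin 3) F)ᵀ * ((U : Matrix (Fin 3) (Fin 3) F)ᵀ * X) = X := fun X => by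
      rw [← mul_assoc, ← Matrix.transpose_mul, Units.mul_inv, Matrix.transpose_one, one_mul]
    simp only [e1]
    simp only [← mul_assoc]
    rw [mul_assoc (U : Matrix (Fin 3) (Fin 3) F)ᵀ, mul_assoc (U : Matrix (Fin 3) (Fin 3) F)ᵀ, hB, mul_smul_comm,
      smul_mul_assoc]
  obtain ⟨σ, hσ⟩ := sim_three hq (inv_ne_zero hr) hB'
  have hcm : cmap e P w = cmap e P' (Q⁻¹ * w * Q) := by
    rw [hP', cmap_change]
    congr 1
    group
  rw [hcm]
  refine cmap_mem_decomp (D := hdec.decomp) (σ := σ) fun p q hpq => ?_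
  have : ((Q⁻¹ * w * Q : GL (Fin n₁ × Fin 3) F) : Matrix (Fin n₁ × Fin 3) (Fin n₁ × Fin 3) F) =
      (A : Matrix (Fin n₁) (Fin n₁) F) ⊗ₖ B' := by
    rw [Units.val_mul, Units.val_mul, hw]
    show ((1 : Matrix (Fin n₁) (Fin n₁) F) ⊗ₖ (↑U⁻¹ : Matrix (Fin 3) (Fin 3) F)) * _ *
      ((1 : Matrix (Fin n₁) (Fin n₁) F) ⊗ₖ (U : Matrix (Fin 3) (Fin 3) F)) = _
    rw [← Matrix.mul_kronecker_mul, ← Matrix.mul_kronecker_mul, one_mul, mul_one]
  rw [this, Matrix.kronecker_apply] at hpq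
  exact hσ _ _ (right_ne_zero_of_mul hpq)

end CfsgLib.Asch.SympMax
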