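import Cfsg.Agent.Lib.Classical.AschFormSplit

set_option autoImplicit false
set_option linter.unusedSectionVars false

/-!
Normal subgroups of symplectic type in symplectic groups, and subfields carrying the form.
-/

namespace CfsgLib.Asch

open Matrix
open Cfsg.Geo (matrixSet scalars mem_scalars_iff ActsIrreducibly ActsAbsolutelyIrreducibly)
open CfsgLib.PrimeDim (Inv Nml sc sc_val sc_comm sc_mem eq_sc_of_mem_scalars scalar_of_comm)
open scoped MatrixGroups

variable {F : Type*} [Field F] {n : ℕ} {J : Matrix (Fin n) (Fin n) F} {ε : F}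

/-- `H` lies in a subfield group carrying a multiple of the form. -/
def RationalCase [Fintype F] (J : Matrix (Fin n) (Fin n) F) (H : Subgroup (GL (Fin n) F)) : Prop :=
  ∃ (F₀ : Subfield F) (r : ℕ) (P : GL (Fin n) F) (ζ : F), r.Prime ∧ Fintype.card F = Nat.card F₀ ^ r ∧ ζ ≠ 0 ∧
    Cfsg.Geo.IsFormRationalStructure (sform (RingEquiv.refl F) J) F₀ ζ P ∧ H ≤ Cfsg.Geo.subfieldSubgroup F₀ P

/-- Realisability over a subfield puts the group in a subfield group carrying the form. -/
theorem rational_of_realisable [Fintype F] (h : FormData (RingEquiv.refl F) J ε) (hn : 1 ≤ n)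
    {H N : Subgroup (GL (Fin n) F)} (hH : ∀ g ∈ H, Iso (RingEquiv.refl F) J g.val) (hN : Nml H N)
    (habs : ActsAbsolutelyIrreducibly (matrixSet N)) {F₀ : Subfield F} (hF₀ : F₀ ≠ ⊤)
    (hreal : Cfsg.Geo.RealisableOver F₀ (matrixSet N)) : RationalCase J H := by
  classical
  haveI : Nonempty (Fin n) := ⟨⟨0, hn⟩⟩
  obtain ⟨F₁, r, P, σ, hr, -, hcard, hfix, hrat, hle⟩ := PrimeDim.subfield_data hn hN habs hF₀ hreal
  obtain ⟨B, hB⟩ : ∃ B : Matrix (Fin n) (Fin n) F, B = P.valᵀ * J * P.val := ⟨_, rfl⟩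
  have hBu : IsUnit B := by
    rw [hB]
    refine (IsUnit.mul ?_ h.unit).mul P.isUnit
    rw [Matrix.isUnit_iff_isUnit_det, Matrix.det_transpose]
    exact (Matrix.isUnit_iff_isUnit_det _).1 P.isUnit
  obtain ⟨B₂, hB₂⟩ : ∃ B₂ : Matrix (Fin n) (Fin n) F, B₂ = (P⁻¹).valᵀ * bm σ B * (P⁻¹).val := ⟨_, rfl⟩
  obtain ⟨c, hc⟩ := invariant_unique (τ := RingEquiv.refl F) (fun _ => rfl) habs (B' := B₂) h.unit
    (by rintro _ ⟨z, hz, rfl⟩; exact hH z (hN.le hz)) (by
    rintro _ ⟨z, hz, rfl⟩
    obtain ⟨Z, hZ⟩ : ∃ Z : Matrix (Fin n) (Fin n) F, Z = ((P⁻¹ * z * P : GL (Fin n) F) : Matrix (Fin n) (Fin n) F) :=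
      ⟨_, rfl⟩
    have hσZ : bm σ Z = Z := Matrix.ext fun i j => (hfix _).2 (hZ ▸ hrat z hz i j)
    have hPZ : P.val * Z = z.val * P.val := by
      rw [hZ, Units.val_mul, Units.val_mul, ← mul_assoc, ← mul_assoc, Units.mul_inv, one_mul]
    have hZP : (P⁻¹).val * z.val = Z * (P⁻¹).val := by
      rw [hZ, Units.val_mul, Units.val_mul]
      simp only [mul_assoc, Units.mul_inv, mul_one]
    have hZB : Zᵀ * B * Z = B := by
      have hz' : z.valᵀ * J * z.val = J := hH z (hN.le hz)
      calc Zᵀ * B * Z = (P.val * Z)ᵀ * J * (P.val * Z) := by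
            rw [hB, Matrix.transpose_mul]; simp only [mul_assoc]
        _ = P.valᵀ * (z.valᵀ * J * z.val) * P.val := by
            rw [hPZ, Matrix.transpose_mul]; simp only [mul_assoc]
        _ = B := by rw [hz', hB]
    have hσB : Zᵀ * bm σ B * Z = bm σ B := by
      conv_rhs => rw [← hZB]
      rw [map_mul, map_mul, ← bm_transpose, hσZ]
    show z.valᵀ * B₂ * z.val = B₂
    calc z.valᵀ * B₂ * z.val = ((P⁻¹).val * z.val)ᵀ * bm σ B * ((P⁻¹).val * z.val) := by
          rw [hB₂, Matrix.transpose_mul]; simp only [mul_assoc]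
      _ = (P⁻¹).valᵀ * (Zᵀ * bm σ B * Z) * (P⁻¹).val := by
          rw [hZP, Matrix.transpose_mul]; simp only [mul_assoc]
      _ = B₂ := by rw [hσB, hB₂])
  have hσB : bm σ B = c • B := by
    have e1 : P.valᵀ * B₂ * P.val = bm σ B := by
      rw [hB₂]
      simp only [← mul_assoc, ← Matrix.transpose_mul, Units.inv_mul, Matrix.transpose_one, one_mul]
      simp only [mul_assoc, Units.inv_mul, mul_one]
    rw [← e1, hc, hB]
    simp
  obtain ⟨i, j, hij⟩ : ∃ i j, B i j ≠ 0 := by
    by_contra hc'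
    push Not at hc'
    exact hBu.ne_zero (Matrix.ext hc')
  refine ⟨F₁, r, P, (B i j)⁻¹, hr, hcard, inv_ne_zero hij, fun u v hu hv => ?_, hle⟩
  rw [sform_mulVec, bm_refl, ← hB]
  have hB' : ∀ a b, (B i j)⁻¹ * B a b ∈ F₁ := fun a b => (hfix _).1 (by
    have e1 : ∀ a b, σ (B a b) = c * B a b := fun a b => congrFun (congrFun hσB a) b
    have hc0 : c ≠ 0 := fun e => hij (by
      have := e1 i j
      rw [e, zero_mul] at this
      simpa using this)
    rw [map_mul, map_inv₀, e1, e1]
    field_simp)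
  have e : (B i j)⁻¹ * sform (RingEquiv.refl F) B u v = ∑ a, ∑ b, u a * ((B i j)⁻¹ * B a b) * v b := by
    rw [← formOfGram_eq, Cfsg.Geo.formOfGram, Finset.mul_sum]
    refine Finset.sum_congr rfl fun a _ => ?_
    rw [Finset.mul_sum]
    exact Finset.sum_congr rfl fun b _ => by simp; ring
  rw [e]
  exact sum_mem fun a _ => sum_mem fun b _ => mul_mem (mul_mem (hu a) (hB' a b)) (hv b)

/-- The data of the sixth class in the symplectic case. -/
def SympHeisCase [Fintype F] (J : Matrix (Fin n) (Fin n) F) (H : Subgroup (GL (Fin n) F)) : Prop :=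
  ∃ (R : Subgroup (GL (Fin n) F)) (p k : ℕ), Cfsg.Geo.IsSymplecticTypeGroup 2 R ∧
    ActsAbsolutelyIrreducibly (matrixSet R) ∧ R ≤ Cfsg.Geo.similarityGroup (sform (RingEquiv.refl F) J) ∧
    p.Prime ∧ Odd p ∧ Fintype.card F = p ∧ n = 2 ^ k ∧ Nat.card R = 2 ^ (1 + 2 * k) ∧
    Nat.card (Subgroup.center R) = 2 ∧ Cfsg.Geo.IsOfMinusType k R ∧ H ≤ Cfsg.Geo.subgroupNormalizer R

/-- A spanning group of matrices with traces in the fixed field of `σ` is realised over it. -/
theorem realisable_of_traces [Finite F] (hn : 1 ≤ n) {N : Subgroup (GL (Fin n) F)} (σ : F →+* F)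
    (htr : ∀ g ∈ N, σ (Matrix.trace g.val) = Matrix.trace g.val)
    (hspan : Submodule.span F (matrixSet N) = ⊤) :
    Cfsg.Geo.RealisableOver (RingHom.eqLocusField σ (RingHom.id F)) (matrixSet N) := by
  classical
  haveI : Nonempty (Fin n) := ⟨⟨0, hn⟩⟩
  haveI : Finite (Matrix (Fin n) (Fin n) F) := inferInstance
  let A₀ : Subring (Matrix (Fin n) (Fin n) F) := Subring.closure (matrixSet N)
  have hA₀ : ∀ a ∈ A₀, σ (Matrix.trace a) = Matrix.trace a := by
    intro a ha
    rw [Subring.mem_closure_iff] at ha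
    have hmon : (Submonoid.closure (matrixSet N) : Set (Matrix (Fin n) (Fin n) F)) ⊆ matrixSet N := by
      intro x hx
      induction hx using Submonoid.closure_induction with
      | mem x hx => exact hx
      | one => exact ⟨1, one_mem N, Units.val_one⟩
      | mul x y _ _ hx hy =>
        obtain ⟨g, hg, rfl⟩ := hx
        obtain ⟨g', hg', rfl⟩ := hy
        exact ⟨g * g', mul_mem hg hg', Units.val_mul g g'⟩
    induction ha using AddSubgroup.closure_induction with
    | mem x hx =>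
      obtain ⟨g, hg, rfl⟩ := hmon hx
      exact htr g hg
    | zero => simp
    | add x y _ _ hx hy => rw [Matrix.trace_add, map_add, hx, hy]
    | neg x _ hx => rw [Matrix.trace_neg, map_neg, hx]
  have hsub : ∀ g ∈ N, (g : Matrix (Fin n) (Fin n) F) ∈ A₀ := fun g hg => Subring.subset_closure ⟨g, hg, rfl⟩
  have hdense : ∀ {V : Type _} [AddCommGroup V] [Module F V] (φ : Matrix (Fin n) (Fin n) F →ₗ[F] V),
      (∀ a ∈ A₀, φ a = 0) → φ = 0 := fun φ hφ =>
    LinearMap.ext_on hspan fun x ⟨g, hg, e⟩ => e ▸ hφ _ (hsub g hg)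
  have hsep : ∀ a : Matrix (Fin n) (Fin n) F, (∀ b ∈ A₀, Matrix.trace (a * b) = 0) → a = 0 := by
    intro a ha
    have h0 := hdense ((Matrix.traceLinearMap (Fin n) F F).comp (LinearMap.mulLeft F a)) ha
    ext i j
    have := LinearMap.congr_fun h0 (Matrix.single j i 1)
    simpa [Matrix.trace_mul_single] using this
  -- a minimal idempotent
  let P : ℕ → Prop := fun d => ∃ e ∈ A₀, e * e = e ∧ e ≠ 0 ∧ e.rank = d
  have hP : ∃ d, P d := ⟨_, 1, one_mem _, one_mul 1, one_ne_zero, rfl⟩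
  obtain ⟨e, he, hee, he0, hed⟩ := Nat.find_spec hP
  have hmin : ∀ f ∈ A₀, f * f = f → f ≠ 0 → Nat.find hP ≤ f.rank := fun f hf hff hf0 =>
    Nat.find_min' hP ⟨f, hf, hff, hf0, rfl⟩
  -- every element of the corner is zero or a unit there
  have hunit : ∀ x ∈ A₀, e * x = x → x * e = x → (∃ i, x ^ (i + 1) = 0) ∨ ∃ y ∈ A₀, x * y = e ∧ y * x = e := by
    intro x hx hex hxe
    obtain ⟨i, j, hij, hpow⟩ : ∃ i j : ℕ, i < j ∧ x ^ (i + 1) = x ^ (j + 1) := by
      obtain ⟨i, j, hne, h'⟩ := Finite.exists_ne_map_eq_of_infinite fun i : ℕ => x ^ (i + 1)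
      rcases lt_or_gt_of_ne hne with hlt | hlt
      · exact ⟨i, j, hlt, h'⟩
      · exact ⟨j, i, hlt, h'.symm⟩
    obtain ⟨d, hd⟩ : ∃ d, j = i + (d + 1) := ⟨j - i - 1, by omega⟩
    subst hd
    have hper : ∀ t, x ^ (i + 1) = x ^ (i + 1 + t * (d + 1)) := fun t => by
      induction t with
      | zero => simp
      | succ t ih =>
        rw [show i + 1 + (t + 1) * (d + 1) = (i + 1 + t * (d + 1)) + (d + 1) by ring, pow_add x (i + 1 + t * (d + 1)), ← ih, ← pow_add]
        rw [show i + 1 + (d + 1) = i + (d + 1) + 1 by ring]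
        exact hpow
    obtain ⟨M, hM, hMM⟩ : ∃ M, 0 < M ∧ x ^ M * x ^ M = x ^ M := by
      refine ⟨(i + 1) * (d + 1), Nat.mul_pos i.succ_pos d.succ_pos, ?_⟩
      rw [← pow_add]
      have h1 := hper (i + 1)
      have e1 : (i + 1) * (d + 1) + (i + 1) * (d + 1) = ((i + 1) * (d + 1) - (i + 1)) + (i + 1 + (i + 1) * (d + 1)) := by
        have : i + 1 ≤ (i + 1) * (d + 1) := Nat.le_mul_of_pos_right _ d.succ_pos
        omega
      rw [e1, pow_add, ← h1, ← pow_add]
      congr 1
      have : i + 1 ≤ (i + 1) * (d + 1) := Nat.le_mul_of_pos_right _ d.succ_pos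
      omega
    obtain ⟨M, rfl⟩ : ∃ M', M = M' + 1 := ⟨M - 1, by omega⟩
    by_cases hz : x ^ (M + 1) = 0
    · exact Or.inl ⟨M, hz⟩
    set f := x ^ (M + 1) with hf
    have hef : e * f = f := by rw [hf, pow_succ', ← mul_assoc, hex]
    have hfe : f * e = f := by rw [hf, pow_succ, mul_assoc, hxe]
    have hfA : f ∈ A₀ := pow_mem hx _
    have hrange : LinearMap.range (Matrix.toLin' f) = LinearMap.range (Matrix.toLin' e) := by
      refine Submodule.eq_of_le_of_finrank_le ?_ ?_
      · rintro _ ⟨v, rfl⟩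
        exact ⟨f *ᵥ v, by rw [Matrix.toLin'_apply, Matrix.toLin'_apply, mulVec_mulVec, hef]⟩
      · exact (show e.rank ≤ f.rank from hed.le.trans (hmin f hfA hMM hz))
    have hfeq : f = e := by
      calc f = f * e := hfe.symm
        _ = e := by
          refine Matrix.toLin'.injective (LinearMap.ext fun v => ?_)
          obtain ⟨w, hw⟩ : Matrix.toLin' e v ∈ LinearMap.range (Matrix.toLin' f) := hrange ▸ LinearMap.mem_range_self _ v
          rw [Matrix.toLin'_mul, LinearMap.comp_apply, ← hw, ← LinearMap.comp_apply, ← Matrix.toLin'_mul, hMM, hw]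
    refine Or.inr ⟨e * x ^ M * e, mul_mem (mul_mem he (pow_mem hx M)) he, ?_, ?_⟩
    · rw [← mul_assoc, ← mul_assoc, hxe, ← pow_succ', ← hf, hfe, hfeq]
    · rw [mul_assoc, hex, mul_assoc, ← pow_succ, ← hf, hef, hfeq]
  -- the corner is a field
  let R : Type _ := {x : Matrix (Fin n) (Fin n) F // x ∈ A₀ ∧ e * x = x ∧ x * e = x}
  letI : Mul R := ⟨fun a b => ⟨a.1 * b.1, mul_mem a.2.1 b.2.1, by rw [← mul_assoc, a.2.2.1],
    by rw [mul_assoc, b.2.2.2]⟩⟩
  letI : Add R := ⟨fun a b => ⟨a.1 + b.1, add_mem a.2.1 b.2.1, by rw [mul_add, a.2.2.1, b.2.2.1],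
    by rw [add_mul, a.2.2.2, b.2.2.2]⟩⟩
  letI : Zero R := ⟨⟨0, zero_mem _, by simp, by simp⟩⟩
  letI : One R := ⟨⟨e, he, hee, hee⟩⟩
  letI : Neg R := ⟨fun a => ⟨-a.1, neg_mem a.2.1, by rw [mul_neg, a.2.2.1], by rw [neg_mul, a.2.2.2]⟩⟩
  letI : Sub R := ⟨fun a b => ⟨a.1 - b.1, sub_mem a.2.1 b.2.1, by rw [mul_sub, a.2.2.1, b.2.2.1],
    by rw [sub_mul, a.2.2.2, b.2.2.2]⟩⟩
  letI : Ring R := Ring.ofMinimalAxioms (fun a b c => Subtype.ext (add_assoc _ _ _)) (fun a => Subtype.ext (zero_add _))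
    (fun a => Subtype.ext (neg_add_cancel _)) (fun a b c => Subtype.ext (mul_assoc _ _ _))
    (fun a => Subtype.ext a.2.2.1) (fun a => Subtype.ext a.2.2.2)
    (fun a b c => Subtype.ext (mul_add _ _ _)) (fun a b c => Subtype.ext (add_mul _ _ _))
  haveI : Nontrivial R := ⟨⟨1, 0, fun h => he0 (congrArg Subtype.val h)⟩⟩
  haveI : Finite R := Finite.of_injective (fun a => a.1) Subtype.val_injective
  have hnz : ∀ x : R, x ≠ 0 → ∃ y : R, x * y = 1 ∧ y * x = 1 := by
    intro x hx0
    have hu : ∀ z : R, IsNilpotent z.1 ∨ ∃ y : R, z * y = 1 ∧ y * z = 1 := fun z => by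
      rcases hunit z.1 z.2.1 z.2.2.1 z.2.2.2 with ⟨i, hi⟩ | ⟨y, hy, h1, h2⟩
      · exact Or.inl ⟨_, hi⟩
      · refine Or.inr ⟨⟨e * y * e, mul_mem (mul_mem he hy) he, by simp only [← mul_assoc, hee],
          by rw [mul_assoc, hee]⟩, Subtype.ext ?_, Subtype.ext ?_⟩
        · show z.1 * (e * y * e) = e
          rw [← mul_assoc, ← mul_assoc, z.2.2.2, h1, hee]
        · show e * y * e * z.1 = e
          rw [mul_assoc, z.2.2.1, mul_assoc, h2, hee]
    rcases hu x with hnil | hy
    swap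
    · exact hy
    exfalso
    apply hx0
    refine Subtype.ext (hsep x.1 fun b hb => ?_)
    let w : R := ⟨e * b * e, mul_mem (mul_mem he hb) he, by simp only [← mul_assoc, hee], by rw [mul_assoc, hee]⟩
    have htrace : Matrix.trace (x * w).1 = Matrix.trace (x.1 * b) := by
      show Matrix.trace (x.1 * (e * b * e)) = _
      rw [← mul_assoc, ← mul_assoc, x.2.2.2, Matrix.trace_mul_comm, ← mul_assoc, x.2.2.1]
    rw [← htrace]
    rcases hu (x * w) with hnil' | ⟨y, h1, -⟩
    · exact (Matrix.isNilpotent_trace_of_isNilpotent hnil').eq_zero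
    · exfalso
      -- a nilpotent element is not a unit
      obtain ⟨i, hi⟩ := hnil
      have hi' : x ^ (i + 1) = 0 := by
        have : ∀ l : ℕ, (x ^ (l + 1)).1 = x.1 ^ (l + 1) := fun l => by
          induction l with
          | zero => simp
          | succ l ih =>
            rw [pow_succ (n := l + 1), pow_succ (n := l + 1), ← ih]
            rfl
        refine Subtype.ext ?_
        rw [this, pow_succ, hi, zero_mul]
        rfl
      have hwy : x * (w * y) = 1 := by rw [← mul_assoc]; exact h1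
      have hpw : ∀ l, x ^ l * (w * y) ^ l = 1 := fun l => by
        induction l with
        | zero => simp
        | succ l ih =>
          rw [pow_succ, pow_succ', mul_assoc, ← mul_assoc x, hwy, one_mul, ih]
      have := hpw (i + 1)
      rw [hi', zero_mul] at this
      exact zero_ne_one this
  haveI : NoZeroDivisors R := ⟨fun {a b} hab => by
    by_contra hc
    push Not at hc
    obtain ⟨y, -, hy⟩ := hnz a hc.1
    exact hc.2 (by rw [← one_mul b, ← hy, mul_assoc, hab, mul_zero])⟩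
  haveI : IsDomain R := NoZeroDivisors.to_isDomain R
  have hfield : IsField R := Finite.isDomain_to_isField R
  have hcomm : ∀ a ∈ A₀, ∀ b ∈ A₀, e * a * e * (e * b * e) = e * b * e * (e * a * e) := fun a ha b hb =>
    congrArg Subtype.val (hfield.mul_comm
      ⟨e * a * e, mul_mem (mul_mem he ha) he, by simp only [← mul_assoc, hee], by rw [mul_assoc, hee]⟩
      ⟨e * b * e, mul_mem (mul_mem he hb) he, by simp only [← mul_assoc, hee], by rw [mul_assoc, hee]⟩)
  have hcommM : ∀ M M' : Matrix (Fin n) (Fin n) F, e * M * e * (e * M' * e) = e * M' * e * (e * M * e) := by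
    intro M M'
    let φ : Matrix (Fin n) (Fin n) F → Matrix (Fin n) (Fin n) F →ₗ[F] Matrix (Fin n) (Fin n) F := fun K =>
      { toFun := fun M => e * M * e * K - K * (e * M * e)
        map_add' := fun x y => by simp only [mul_add, add_mul]; abel
        map_smul' := fun c x => by simp [smul_sub] }
    have h1 : ∀ b ∈ A₀, φ (e * b * e) = 0 := fun b hb => hdense _ fun a ha => sub_eq_zero.2 (hcomm a ha b hb)
    let ψ : Matrix (Fin n) (Fin n) F →ₗ[F] Matrix (Fin n) (Fin n) F :=
      { toFun := fun M' => e * M * e * (e * M' * e) - e * M' * e * (e * M * e)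
        map_add' := fun x y => by simp only [mul_add, add_mul]; abel
        map_smul' := fun c x => by simp [smul_sub] }
    have h2 : ψ = 0 := hdense ψ fun b hb => LinearMap.congr_fun (h1 b hb) M
    exact sub_eq_zero.1 (LinearMap.congr_fun h2 M')
  obtain ⟨i₀, j₀, hij⟩ : ∃ i j, e i j ≠ 0 := by
    by_contra hc
    push Not at hc
    exact he0 (Matrix.ext hc)
  -- rank one
  have hrow : ∀ u w, e u w * e i₀ j₀ = e u j₀ * e i₀ w := by
    intro u w
    by_cases hu : ∀ a, e u a = 0
    · rw [hu w, hu j₀, zero_mul, zero_mul]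
    push Not at hu
    obtain ⟨a, ha⟩ := hu
    have h1 := congrFun (congrFun (hcommM (Matrix.single a i₀ 1) (Matrix.single j₀ u 1)) u) w
    have key : ∀ p q r s, (e * Matrix.single p q (1 : F) * e * (e * Matrix.single r s (1 : F) * e)) u w =
        e u p * e q r * e s w := by
      intro p q r s
      rw [← mul_assoc, ← mul_assoc, mul_assoc (e * Matrix.single p q 1) e e, hee]
      simp [Matrix.mul_apply, Matrix.single, ite_and]
    rw [key, key] at h1
    exact mul_left_cancel₀ ha (by linear_combination h1)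
  set cv : Fin n → F := fun u => e u j₀ with hcv
  set rv : Fin n → F := fun w => e i₀ w with hrv
  have hrank1 : ∀ (M : Matrix (Fin n) (Fin n) F), Matrix.trace (e * M * e) * e i₀ j₀ = rv ⬝ᵥ (M *ᵥ cv) := by
    intro M
    rw [Matrix.trace_mul_comm, ← mul_assoc, hee]
    simp only [Matrix.trace, Matrix.diag, Matrix.mul_apply, Finset.sum_mul, dotProduct, mulVec, Finset.mul_sum, hrv, hcv]
    rw [Finset.sum_comm]
    refine Finset.sum_congr rfl fun p _ => Finset.sum_congr rfl fun q _ => ?_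
    linear_combination M p q * hrow q p
  have hval : ∀ a ∈ A₀, σ ((rv ⬝ᵥ (a *ᵥ cv)) / e i₀ j₀) = (rv ⬝ᵥ (a *ᵥ cv)) / e i₀ j₀ := fun a ha => by
    rw [← hrank1, mul_div_cancel_right₀ _ hij]
    exact hA₀ _ (mul_mem (mul_mem he ha) he)
  have hzero : ∀ z, (∀ a ∈ A₀, rv ⬝ᵥ (a *ᵥ z) = 0) → z = 0 := by
    intro z hz
    let φ : Matrix (Fin n) (Fin n) F →ₗ[F] F :=
      { toFun := fun M => rv ⬝ᵥ (M *ᵥ z)
        map_add' := fun x y => by rw [add_mulVec, dotProduct_add]
        map_smul' := fun c x => by rw [smul_mulVec, dotProduct_smul]; rfl }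
    have h0 := hdense φ hz
    funext u
    have := LinearMap.congr_fun h0 (Matrix.single j₀ u 1)
    simpa [φ, mulVec, dotProduct, Matrix.single, ite_and, hij, hrv] using this
  -- a basis in the orbit
  let S : Set (Fin n → F) := (fun a => a *ᵥ cv) '' (A₀ : Set (Matrix (Fin n) (Fin n) F))
  have hS : Submodule.span F S = ⊤ := by
    rw [eq_top_iff]
    intro v _
    obtain ⟨u, hu⟩ : ∃ u, cv u ≠ 0 := ⟨i₀, hij⟩
    let φ : Matrix (Fin n) (Fin n) F →ₗ[F] (Fin n → F) ⧸ Submodule.span F S :=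
      (Submodule.mkQ _).comp
        (({ toFun := fun M => M *ᵥ cv
            map_add' := fun x y => add_mulVec x y cv
            map_smul' := fun c x => smul_mulVec c x cv }) : Matrix (Fin n) (Fin n) F →ₗ[F] (Fin n → F))
    have h0 := hdense φ fun a ha => (Submodule.Quotient.mk_eq_zero _).2 (Submodule.subset_span ⟨a, ha, rfl⟩)
    have := (Submodule.Quotient.mk_eq_zero _).1 (LinearMap.congr_fun h0 (Matrix.of fun p q => if q = u then v p / cv u else 0))
    convert this using 1
    funext p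
    show v p = ((Matrix.of fun p q => if q = u then v p / cv u else 0) *ᵥ cv) p
    simp [mulVec, dotProduct, Finset.sum_ite_eq', div_mul_cancel₀ _ hu]
  obtain ⟨f, hfS, -, hfli⟩ := Submodule.exists_fun_fin_finrank_span_eq F S
  have hdim : Module.finrank F (Submodule.span F S) = n := by rw [hS, finrank_top, Module.finrank_fin_fun]
  let f' : Fin n → Fin n → F := f ∘ Fin.cast hdim.symm
  have hf'li : LinearIndependent F f' := hfli.comp _ (Fin.cast_injective _)
  choose as has hasv using fun i : Fin n => (hfS (Fin.cast hdim.symm i) : f' i ∈ S)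
  let Bs := basisOfLinearIndependentOfCardEqFinrank hf'li (by simp)
  have hBs : ∀ i, Bs i = f' i := fun i => by simp [Bs]
  have hcoord : ∀ a ∈ A₀, ∀ i, σ (Bs.repr (a *ᵥ cv) i) = Bs.repr (a *ᵥ cv) i := by
    intro a ha
    set x := fun i => Bs.repr (a *ᵥ cv) i with hx
    have hz : ∑ i, (σ (x i) - x i) • Bs i = 0 := by
      refine hzero _ fun b hb => ?_
      have hexp : ∀ y : Fin n → F, rv ⬝ᵥ (b *ᵥ ∑ i, y i • Bs i) = ∑ i, y i * (rv ⬝ᵥ ((b * as i) *ᵥ cv)) := by
        intro y
        rw [mulVec_sum, dotProduct_sum]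
        refine Finset.sum_congr rfl fun i _ => ?_
        rw [hBs, ← (show as i *ᵥ cv = f' i from hasv i), mulVec_smul, mulVec_mulVec, dotProduct_smul, smul_eq_mul]
      rw [hexp]
      have e1 : ∑ i, x i * (rv ⬝ᵥ ((b * as i) *ᵥ cv)) = rv ⬝ᵥ ((b * a) *ᵥ cv) := by
        rw [← hexp, hx, Bs.sum_repr, mulVec_mulVec]
      have hd : ∀ c ∈ A₀, σ (rv ⬝ᵥ (c *ᵥ cv)) = rv ⬝ᵥ (c *ᵥ cv) * (σ (e i₀ j₀) / e i₀ j₀) := fun c hc => by
        have h := hval c hc
        rw [map_div₀, div_eq_iff ((map_ne_zero σ).2 hij)] at h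
        rw [h, div_mul_eq_mul_div, mul_div_assoc]
      have e2 := congrArg σ e1
      rw [map_sum, hd _ (mul_mem hb ha), ← e1, Finset.sum_mul] at e2
      have e3 : ∀ i, σ (x i * (rv ⬝ᵥ ((b * as i) *ᵥ cv))) =
          σ (x i) * (rv ⬝ᵥ ((b * as i) *ᵥ cv)) * (σ (e i₀ j₀) / e i₀ j₀) := fun i => by
        rw [map_mul, hd _ (mul_mem hb (has i))]
        ring
      simp only [e3, ← Finset.sum_mul] at e2
      have hne : σ (e i₀ j₀) / e i₀ j₀ ≠ 0 := div_ne_zero ((map_ne_zero σ).2 hij) hij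
      simp only [sub_mul, Finset.sum_sub_distrib, sub_eq_zero]
      exact mul_right_cancel₀ hne e2
    intro i
    exact sub_eq_zero.1 (Fintype.linearIndependent_iff.1 Bs.linearIndependent _ hz i)
  let P₀ : Matrix (Fin n) (Fin n) F := Matrix.of fun i j => Bs j i
  obtain ⟨Q, hQ⟩ : IsUnit P₀ := by
    rw [← Matrix.linearIndependent_cols_iff_isUnit]
    exact Bs.linearIndependent
  refine ⟨Q⁻¹, ?_⟩
  rintro _ ⟨z, hz, rfl⟩ i j
  rw [inv_inv]
  set Z : Matrix (Fin n) (Fin n) F := Matrix.of fun i j => Bs.repr ((z : Matrix (Fin n) (Fin n) F) *ᵥ Bs j) i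
  have hzP : (z : Matrix (Fin n) (Fin n) F) * P₀ = P₀ * Z := Matrix.ext_of_mulVec_single fun j => by
    rw [← mulVec_mulVec, ← mulVec_mulVec, mulVec_single_one, mulVec_single_one]
    show (z : Matrix (Fin n) (Fin n) F) *ᵥ Bs j = P₀ *ᵥ fun i => Bs.repr ((z : Matrix (Fin n) (Fin n) F) *ᵥ Bs j) i
    generalize (z : Matrix (Fin n) (Fin n) F) *ᵥ Bs j = w₀
    conv_lhs => rw [← Bs.sum_repr w₀]
    funext k
    simp only [P₀, mulVec, dotProduct, Finset.sum_apply, Pi.smul_apply, smul_eq_mul, Matrix.of_apply]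
    exact Finset.sum_congr rfl fun i _ => mul_comm _ _
  rw [mul_assoc, hQ, hzP, ← hQ, ← mul_assoc, Units.inv_mul, one_mul]
  show σ (Z i j) = Z i j
  simp only [Z, Matrix.of_apply, hBs j]
  rw [← (show as j *ᵥ cv = f' j from hasv j), mulVec_mulVec]
  exact hcoord _ (mul_mem (hsub z hz) (has j)) i

/-- A normal subgroup of class two in a symplectic group. -/
theorem symp_heis [Fintype F] (hJ : FormData (RingEquiv.refl F) J ε)
    (halt : ∀ v, sform (RingEquiv.refl F) J v v = 0) (hn : 2 ≤ n) {H N : Subgroup (GL (Fin n) F)}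
    (hH : ∀ g ∈ H, Iso (RingEquiv.refl F) J g.val) {r : ℕ} (h : HeisData H N r) :
    RationalCase J H ∨ SympHeisCase J H := by
  classical
  haveI : Nonempty (Fin n) := ⟨⟨0, by omega⟩⟩
  haveI : Finite (GL (Fin n) F) := Finite.of_injective _ Units.val_injective
  haveI := Fintype.ofFinite N
  have hn1 : 1 ≤ n := by omega
  have hsc : ∀ u : Fˣ, sc u ∈ N → (u : F) * u = 1 := by
    intro u hu
    have e : (sc u : GL (Fin n) F).valᵀ * J * (sc u : GL (Fin n) F).val = J := hH _ (h.nml.le hu)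
    simp only [sc_val, Matrix.transpose_smul, Matrix.transpose_one, smul_mul, one_mul, mul_smul, mul_one,
      smul_smul] at e
    obtain ⟨i, j, hij⟩ : ∃ i j, J i j ≠ 0 := by
      by_contra hc
      push Not at hc
      exact hJ.unit.ne_zero (Matrix.ext hc)
    exact (mul_eq_right₀ hij).1 (by simpa [mul_assoc] using congrFun (congrFun e i) j)
  obtain ⟨x₀, hx₀, y₀, hy₀, u₀, hu₀, hu₁, hxy⟩ := h.noncomm
  have hu₀N : sc u₀ ∈ N := by
    have : sc u₀ = x₀ * y₀ * (y₀ * x₀)⁻¹ := by rw [hxy, mul_assoc, mul_inv_cancel, mul_one]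
    rw [this]
    exact mul_mem (mul_mem hx₀ hy₀) (inv_mem (mul_mem hy₀ hx₀))
  have hu2 : u₀ ^ 2 = 1 := Units.ext (by rw [pow_two, Units.val_mul, hsc u₀ hu₀N, Units.val_one])
  obtain rfl : r = 2 := by
    have h2 : orderOf u₀ = 2 := orderOf_eq_prime hu2 hu₁
    have := orderOf_dvd_of_pow_eq_one hu₀
    rw [h2] at this
    exact ((Nat.prime_dvd_prime_iff_eq Nat.prime_two h.prime).1 this).symm
  have hneg : (u₀ : F) = -1 := (mul_self_eq_one_iff.1 (hsc u₀ hu₀N)).resolve_left fun e => hu₁ (Units.ext e)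
  have h20 : (2 : F) ≠ 0 := fun e => hu₁ (Units.ext (by
    rw [hneg, Units.val_one]
    exact neg_eq_of_add_eq_zero_right ((one_add_one_eq_two).trans e)))
  have hscal : ∀ g ∈ N, g ∈ scalars (Fin n) F → g = 1 ∨ g = sc u₀ := by
    intro g hg hgs
    obtain ⟨w, rfl⟩ := eq_sc_of_mem_scalars hgs
    rcases mul_self_eq_one_iff.1 (hsc w hg) with e | e
    · exact Or.inl (by rw [show w = 1 from Units.ext e, sc_one])
    · exact Or.inr (by rw [show w = u₀ from Units.ext (e.trans hneg.symm)])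
  have htrace : ∀ g ∈ N, g ∉ scalars (Fin n) F → Matrix.trace g.val = 0 := by
    intro g hg hgs
    by_contra ht
    refine hgs (scalar_of_comm h.abs fun y hy => ?_)
    obtain ⟨u, -, e⟩ := h.comm g hg y hy
    have e' := congrArg (fun z : GL (Fin n) F => (↑y⁻¹ : Matrix (Fin n) (Fin n) F) * (z : Matrix (Fin n) (Fin n) F)) e
    simp only [Units.val_mul, sc_val, smul_mul, one_mul, mul_smul_comm, Units.inv_mul_cancel_left] at e'
    have e2 := congrArg Matrix.trace e'
    rw [← mul_assoc, Matrix.trace_mul_comm, ← mul_assoc, Units.mul_inv, one_mul, Matrix.trace_smul] at e2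
    have hu : u = 1 := Units.ext ((mul_eq_right₀ ht).1 e2.symm)
    rwa [hu, sc_one, one_mul] at e
  have hcardN : (Fintype.card N : F) ≠ 0 := by
    haveI : Fact (Nat.Prime 2) := ⟨Nat.prime_two⟩
    obtain ⟨k, hk⟩ := IsPGroup.iff_card.1 h.pGroup
    rw [← Nat.card_eq_fintype_card, hk, Nat.cast_pow]
    exact pow_ne_zero _ (by exact_mod_cast h20)
  -- averages
  have havg : ∀ X : Matrix (Fin n) (Fin n) F, ∃ c : F, (n : F) * c = Fintype.card N * Matrix.trace X ∧
      ∑ g : N, (g : GL (Fin n) F).val * X * ((g : GL (Fin n) F)⁻¹).val = c • 1 := by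
    intro X
    obtain ⟨c, hc⟩ := h.abs.2 (∑ g : N, (g : GL (Fin n) F).val * X * ((g : GL (Fin n) F)⁻¹).val) (by
      rintro _ ⟨a, ha, rfl⟩
      simp only [Finset.sum_mul, Finset.mul_sum]
      symm
      refine Fintype.sum_equiv (Equiv.mulLeft (⟨a, ha⟩ : N)) _ _ fun g => ?_
      simp [mul_assoc])
    refine ⟨c, ?_, hc⟩
    have ht := congrArg Matrix.trace hc
    rw [Matrix.trace_sum, Matrix.trace_smul, Matrix.trace_one, Fintype.card_fin, smul_eq_mul, mul_comm] at ht
    rw [← ht]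
    have e1 : ∀ g : N, Matrix.trace ((g : GL (Fin n) F).val * X * ((g : GL (Fin n) F)⁻¹).val) = Matrix.trace X :=
      fun g => by rw [Matrix.trace_mul_comm, ← mul_assoc, Units.inv_mul, one_mul]
    rw [Finset.sum_congr rfl fun g _ => e1 g, Finset.sum_const, Finset.card_univ, nsmul_eq_mul]
  have hn0 : (n : F) ≠ 0 := by
    intro e
    obtain ⟨c, hc, -⟩ := havg (Matrix.single ⟨0, hn1⟩ ⟨0, hn1⟩ 1)
    rw [e, zero_mul, Matrix.trace_single_eq_same, mul_one] at hc
    exact hcardN hc.symm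
  have hK : (Fintype.card N : F) / n ≠ 0 := div_ne_zero hcardN hn0
  have hrec : ∀ M : Matrix (Fin n) (Fin n) F, ∑ g : N, Matrix.trace (M * ((g : GL (Fin n) F)⁻¹).val) •
      (g : GL (Fin n) F).val = ((Fintype.card N : F) / n) • M := by
    intro M
    ext a i
    have key : ∀ j b, ∑ g : N, (g : GL (Fin n) F).val a i * ((g : GL (Fin n) F)⁻¹).val j b =
        if i = j ∧ a = b then (Fintype.card N : F) / n else 0 := by
      intro j b
      obtain ⟨c, hc, he⟩ := havg (Matrix.single i j 1)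
      have e' := congrFun (congrFun he a) b
      rw [Matrix.sum_apply] at e'
      have e2 : ∀ g : N, ((g : GL (Fin n) F).val * Matrix.single i j (1 : F) * ((g : GL (Fin n) F)⁻¹).val) a b =
          (g : GL (Fin n) F).val a i * ((g : GL (Fin n) F)⁻¹).val j b := fun g => by
        simp [Matrix.mul_apply, Matrix.single, ite_and]
      rw [Finset.sum_congr rfl fun g _ => e2 g, Matrix.smul_apply, Matrix.one_apply, smul_eq_mul] at e'
      rw [e']
      have hc' : c = Fintype.card N * Matrix.trace (Matrix.single i j (1 : F)) / n := by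
        rw [← hc, mul_div_cancel_left₀ _ hn0]
      by_cases hij : i = j
      · subst hij
        rw [Matrix.trace_single_eq_same, mul_one] at hc'
        by_cases hab : a = b <;> simp [hab, hc']
      · rw [Matrix.trace_single_eq_of_ne _ _ _ hij] at hc'
        simp [hij, hc']
    simp only [Matrix.sum_apply, Matrix.smul_apply, smul_eq_mul, Matrix.trace, Matrix.diag, Matrix.mul_apply,
      Finset.sum_mul]
    rw [Finset.sum_comm]
    have e1 : ∀ b, ∑ g : N, ∑ j, M b j * ((g : GL (Fin n) F)⁻¹).val j b * (g : GL (Fin n) F).val a i =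
        ∑ j, M b j * if i = j ∧ a = b then (Fintype.card N : F) / n else 0 := fun b => by
      rw [Finset.sum_comm]
      refine Finset.sum_congr rfl fun j _ => ?_
      rw [← key j b, Finset.mul_sum]
      exact Finset.sum_congr rfl fun g _ => by ring
    rw [Finset.sum_congr rfl fun b _ => e1 b]
    simp [ite_and, mul_comm]
  have hspan : Submodule.span F (matrixSet N) = ⊤ := eq_top_iff.2 fun M _ => by
    rw [← inv_smul_smul₀ hK M, ← hrec M]
    exact Submodule.smul_mem _ _ (Submodule.sum_mem _ fun g _ => Submodule.smul_mem _ _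
      (Submodule.subset_span ⟨g, g.2, rfl⟩))
  -- the order
  let c₁ : N := ⟨sc u₀, hu₀N⟩
  let Z : Subgroup N := Subgroup.zpowers c₁
  have hc₁ : orderOf c₁ = 2 := by
    refine orderOf_eq_prime (Subtype.ext ?_) fun e => hu₁ (sc_injective hn1 ?_)
    · show (sc u₀ : GL (Fin n) F) ^ 2 = 1
      rw [← sc_pow, hu2, sc_one]
    · rw [sc_one]; exact congrArg Subtype.val e
  have hZcard : Nat.card Z = 2 := by rw [Nat.card_zpowers, hc₁]
  have hmemZ : ∀ g : N, g ∈ Z ↔ (g : GL (Fin n) F) ∈ scalars (Fin n) F := by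
    intro g
    constructor
    · rintro ⟨i, rfl⟩
      show (((c₁ ^ i : N)) : GL (Fin n) F) ∈ _
      rw [SubgroupClass.coe_zpow]
      exact zpow_mem (sc_mem _) _
    · intro hg
      rcases hscal g g.2 hg with e | e
      · rw [show g = 1 from Subtype.ext e]; exact one_mem _
      · rw [show g = c₁ from Subtype.ext e]; exact Subgroup.mem_zpowers _
  have hcenter : Subgroup.center N = Z := le_antisymm (fun g hg => (hmemZ g).2 (scalar_of_comm h.abs fun a ha =>
    (congrArg Subtype.val (Subgroup.mem_center_iff.1 hg ⟨a, ha⟩)).symm)) (by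
    rw [Subgroup.zpowers_le, Subgroup.mem_center_iff]
    exact fun a => Subtype.ext (sc_comm u₀ a.1).symm)
  haveI := Fintype.ofFinite (N ⧸ Z)
  let bq : N ⧸ Z → Matrix (Fin n) (Fin n) F := fun q => (q.out : GL (Fin n) F).val
  have hbqli : LinearIndependent F bq := by
    rw [Fintype.linearIndependent_iff]
    intro a ha q₀
    have e := congrArg (fun X => Matrix.trace (X * ((q₀.out : GL (Fin n) F)⁻¹).val)) ha
    simp only [Finset.sum_mul, Matrix.trace_sum, zero_mul, Matrix.trace_zero, smul_mul, Matrix.trace_smul] at e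
    rw [Finset.sum_eq_single q₀] at e
    · simp [bq, Matrix.trace_one, hn0] at e
      exact e
    · intro q _ hq
      have : Matrix.trace ((q.out : GL (Fin n) F).val * ((q₀.out : GL (Fin n) F)⁻¹).val) = 0 := by
        rw [← Units.val_mul]
        refine htrace _ (mul_mem q.out.2 (inv_mem q₀.out.2)) fun hs => hq ?_
        rw [← QuotientGroup.out_eq' q, ← QuotientGroup.out_eq' q₀, QuotientGroup.eq, hmemZ]
        have h' := (inferInstance : (scalars (Fin n) F).Normal).conj_mem _ hs (q.out : GL (Fin n) F)⁻¹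
        have h'' := inv_mem h'
        simpa [mul_assoc] using h''
      simp only [bq, this, smul_zero]
    · simp
  have hbqspan : Submodule.span F (Set.range bq) = ⊤ := by
    rw [eq_top_iff, ← hspan, Submodule.span_le]
    rintro _ ⟨g, hg, rfl⟩
    set q : N ⧸ Z := QuotientGroup.mk ⟨g, hg⟩ with hq
    have hz : q.out⁻¹ * ⟨g, hg⟩ ∈ Z := QuotientGroup.eq.1 (QuotientGroup.out_eq' q)
    obtain ⟨w, hw⟩ := eq_sc_of_mem_scalars ((hmemZ _).1 hz)
    simp only [Subgroup.coe_mul, Subgroup.coe_inv] at hw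
    have e : g.val = (w : F) • bq q := by
      rw [inv_mul_eq_iff_eq_mul] at hw
      rw [hw, Units.val_mul, sc_val, mul_smul_comm, mul_one]
    show g.val ∈ _
    rw [e]
    exact Submodule.smul_mem _ _ (Submodule.subset_span ⟨q, rfl⟩)
  have hcardq : Fintype.card (N ⧸ Z) = n * n := by
    have := Module.finrank_eq_card_basis (Module.Basis.mk hbqli hbqspan.ge)
    simpa [Module.finrank_matrix] using this.symm
  have hcard : Nat.card N = 2 * n ^ 2 := by
    rw [← Z.card_mul_index, hZcard, Subgroup.index, Nat.card_eq_fintype_card, hcardq, pow_two]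
  obtain ⟨k, hk⟩ : ∃ k, n = 2 ^ k := by
    haveI : Fact (Nat.Prime 2) := ⟨Nat.prime_two⟩
    obtain ⟨j, hj⟩ := IsPGroup.iff_card.1 h.pGroup
    obtain ⟨k, -, e⟩ := (Nat.dvd_prime_pow Nat.prime_two).1 (show n ∣ 2 ^ j from hj ▸ hcard ▸
      dvd_mul_of_dvd_right (dvd_pow_self n two_ne_zero) 2)
    exact ⟨k, e⟩
  -- the prime field
  obtain ⟨p, hp⟩ := CharP.exists F
  obtain ⟨e, hpp, hq⟩ := FiniteField.card F p
  haveI : Fact p.Prime := ⟨hpp⟩
  by_cases hcp : Fintype.card F = p
  swap
  · left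
    have hne : RingHom.eqLocusField (frobenius F p) (RingHom.id F) ≠ ⊤ := by
      intro htop
      apply hcp
      obtain ⟨g, hg⟩ := IsCyclic.exists_generator (α := Fˣ)
      have h1 : frobenius F p g = g := by
        have : (g : F) ∈ RingHom.eqLocusField (frobenius F p) (RingHom.id F) := htop ▸ Subfield.mem_top _
        exact this
      rw [frobenius_def] at h1
      have h1' : g ^ (p - 1) = 1 := by
        have h' : g ^ p = g := Units.ext (by rw [Units.val_pow_eq_pow_val, h1])
        rw [← Nat.sub_add_cancel hpp.one_le, pow_succ] at h'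
        exact mul_eq_right.1 h'
      have h2 := orderOf_dvd_of_pow_eq_one h1'
      rw [orderOf_eq_card_of_forall_mem_zpowers hg, Nat.card_units, Nat.card_eq_fintype_card] at h2
      have h3 : p ≤ Fintype.card F := hq ▸ Nat.le_self_pow e.ne_zero p
      have := hpp.two_le
      have := Nat.le_of_dvd (by omega) h2
      omega
    refine rational_of_realisable hJ hn1 hH h.nml h.abs hne (realisable_of_traces hn1 _ (fun g hg => ?_) hspan)
    by_cases hgs : g ∈ scalars (Fin n) F
    · rcases hscal g hg hgs with rfl | rfl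
      · simp
      · simp [sc_val, hneg, Matrix.trace_smul]
    · rw [htrace g hg hgs, map_zero]
  right
  have hpodd : Odd p := hpp.odd_of_ne_two fun e2 => h20 (by
    subst e2
    exact_mod_cast CharP.cast_eq_zero F 2)
  refine ⟨N, p, k, h.symplecticType hn1, h.abs, fun g hg => ⟨1, fun u v => by
    rw [Units.val_one, one_mul]
    exact (iso_iff _ _ _).1 (hH g (h.nml.le hg)) u v⟩, hpp, hpodd, hcp, hk, by rw [hcard, hk]; ring,
    by rw [hcenter, hZcard], ?_, ?_⟩
  swap
  · refine fun g hg => Subgroup.mem_normalizer_iff.2 fun z => ⟨fun hz => h.nml.conj g hg z hz, fun hz => ?_⟩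
    have := h.nml.conj' hg hz
    simpa [mul_assoc] using this
  -- minus type
  intro A hA hA2
  by_contra hlt
  push Not at hlt
  haveI := Fintype.ofFinite A
  have hex : ∀ s : Finset A, ∃ U : Submodule F (Fin n → F), U ≠ ⊥ ∧
      (∀ a : A, ∀ v ∈ U, ((a : N) : GL (Fin n) F).val *ᵥ v ∈ U) ∧
      ∀ a ∈ s, ∃ c : F, c * c = 1 ∧ ∀ v ∈ U, ((a : N) : GL (Fin n) F).val *ᵥ v = c • v := by
    intro s
    induction s using Finset.induction_on with
    | empty => exact ⟨⊤, top_ne_bot, fun _ _ _ => Submodule.mem_top, by simp⟩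
    | @insert a s has ih =>
      obtain ⟨U, hU0, hUinv, hUs⟩ := ih
      obtain ⟨v, hv, hv0⟩ := (Submodule.ne_bot_iff U).1 hU0
      obtain ⟨X, hX⟩ : ∃ X : Matrix (Fin n) (Fin n) F, X = ((a : N) : GL (Fin n) F).val := ⟨_, rfl⟩
      have hXX : X * X = 1 := by
        rw [hX, ← Units.val_mul, ← Subgroup.coe_mul, hA2 _ a.2]
        rfl
      obtain ⟨c, hc, w, hw, hw0, hXw⟩ : ∃ c : F, c * c = 1 ∧ ∃ w ∈ U, w ≠ 0 ∧ X *ᵥ w = c • w := by
        by_cases hz : v + X *ᵥ v = 0
        · exact ⟨-1, by ring, v, hv, hv0, by rw [neg_smul, one_smul]; exact eq_neg_of_add_eq_zero_right hz⟩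
        · refine ⟨1, by ring, _, add_mem hv (hX ▸ hUinv a v hv), hz, ?_⟩
          rw [mulVec_add, mulVec_mulVec, hXX, one_mulVec, one_smul, add_comm]
      refine ⟨U ⊓ LinearMap.ker (Matrix.toLin' (X - c • 1)), ?_, ?_, ?_⟩
      · refine (Submodule.ne_bot_iff _).2 ⟨w, ⟨hw, ?_⟩, hw0⟩
        rw [SetLike.mem_coe, LinearMap.mem_ker, Matrix.toLin'_apply, sub_mulVec, smul_mulVec, one_mulVec, hXw, sub_self]
      · rintro b x ⟨hx, hx'⟩
        refine ⟨hUinv b x hx, ?_⟩
        rw [SetLike.mem_coe, LinearMap.mem_ker, Matrix.toLin'_apply, sub_mulVec, smul_mulVec, one_mulVec,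
          sub_eq_zero] at hx' ⊢
        have hab : X * ((b : N) : GL (Fin n) F).val = ((b : N) : GL (Fin n) F).val * X := by
          rw [hX, ← Units.val_mul, ← Units.val_mul]
          exact congrArg Units.val (congrArg Subtype.val (congrArg Subtype.val (hA.is_comm.comm a b)))
        rw [mulVec_mulVec, hab, ← mulVec_mulVec, hx', mulVec_smul]
      · intro b hb
        rcases Finset.mem_insert.1 hb with rfl | hb
        · refine ⟨c, hc, fun x hx => ?_⟩
          have h' := hx.2
          rw [SetLike.mem_coe, LinearMap.mem_ker, Matrix.toLin'_apply, sub_mulVec, smul_mulVec, one_mulVec,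
            sub_eq_zero, hX] at h'
          exact h'
        · obtain ⟨d, hd, hd'⟩ := hUs b hb
          exact ⟨d, hd, fun x hx => hd' x hx.1⟩
  obtain ⟨U, hU0, -, hU⟩ := hex Finset.univ
  obtain ⟨v, hv, hv0⟩ := (Submodule.ne_bot_iff U).1 hU0
  haveI := Fintype.ofFinite (N ⧸ A)
  let b : N ⧸ A → (Fin n → F) := fun q => (q.out : GL (Fin n) F).val *ᵥ v
  have hmove : ∀ (g : N) (q : N ⧸ A), ∃ c : F, c * c = 1 ∧
      (g : GL (Fin n) F).val *ᵥ b q = c • b (QuotientGroup.mk (g * q.out)) := by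
    intro g q
    set q' : N ⧸ A := QuotientGroup.mk (g * q.out) with hq'
    have ha : q'.out⁻¹ * (g * q.out) ∈ A := QuotientGroup.eq.1 (QuotientGroup.out_eq' q')
    obtain ⟨c, hc, hcv⟩ := hU ⟨_, ha⟩ (Finset.mem_univ _)
    refine ⟨c, hc, ?_⟩
    simp only [b]
    rw [← mulVec_smul, ← hcv v hv, mulVec_mulVec, mulVec_mulVec, ← Units.val_mul, ← Units.val_mul]
    congr 2
    simp
  have hspanb : Submodule.span F (Set.range b) = ⊤ := by
    refine (PrimeDim.irreducible_iff.1 h.abs.1 _ ?_).resolve_left fun e' => hv0 ?_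
    · rintro _ ⟨g, hg, rfl⟩ x hx
      induction hx using Submodule.span_induction with
      | mem x hx =>
        obtain ⟨q, rfl⟩ := hx
        obtain ⟨c, -, e'⟩ := hmove ⟨g, hg⟩ q
        show g.val *ᵥ b q ∈ _
        rw [show g.val *ᵥ b q = _ from e']
        exact Submodule.smul_mem _ _ (Submodule.subset_span ⟨_, rfl⟩)
      | zero => rw [mulVec_zero]; exact zero_mem _
      | add x y _ _ hx hy => rw [mulVec_add]; exact add_mem hx hy
      | smul c x _ hx => rw [mulVec_smul]; exact Submodule.smul_mem _ _ hx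
    · have := (Submodule.span_eq_bot.1 e') _ ⟨QuotientGroup.mk 1, rfl⟩
      exact PrimeDim.mulVec_injective _ (this.trans (map_zero _).symm)
  have hidx : Fintype.card (N ⧸ A) ≤ n := by
    have h1 := A.card_mul_index
    rw [hcard, Subgroup.index, Nat.card_eq_fintype_card (α := N ⧸ A)] at h1
    by_contra hgt
    push Not at hgt
    have h2 : 2 * n ≤ Nat.card A := by
      have e2 : 2 * n = 2 ^ (k + 1) := by rw [hk, pow_succ']
      omega
    have h3 : 2 * n * (n + 1) ≤ 2 * n ^ 2 := h1 ▸ Nat.mul_le_mul h2 hgt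
    nlinarith
  have hcardb : Fintype.card (N ⧸ A) = n := le_antisymm hidx (by
    have := finrank_range_le_card (R := F) b
    rwa [Set.finrank, hspanb, finrank_top, Module.finrank_fin_fun] at this)
  have hli : LinearIndependent F b :=
    linearIndependent_of_top_le_span_of_card_eq_finrank hspanb.ge (by rw [hcardb, Module.finrank_fin_fun])
  let B₀ := Module.Basis.mk hli hspanb.ge
  let C : Matrix (N ⧸ A) (Fin n) F := Matrix.of fun q i => B₀.repr (Pi.single i 1) q
  have hC : ∀ x q, (C *ᵥ x) q = B₀.repr x q := fun x q => by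
    conv_rhs => rw [pi_eq_sum_univ' x]
    simp [C, mulVec, dotProduct, map_sum, Finsupp.finsetSum_apply, mul_comm]
  have hform : ∀ x y, sform (RingEquiv.refl F) (Cᵀ * C) x y = ∑ q, B₀.repr x q * B₀.repr y q := fun x y => by
    have : sform (RingEquiv.refl F) (Cᵀ * C) x y = (C *ᵥ x) ⬝ᵥ (C *ᵥ y) := by
      rw [sform, show ⇑(RingEquiv.refl F) ∘ y = y from rfl, ← mulVec_mulVec, dotProduct_mulVec, vecMul_transpose]
    rw [this]
    simp only [dotProduct, hC]
  obtain ⟨c, hc⟩ := invariant_unique (τ := RingEquiv.refl F) (fun _ => rfl) h.abs (B' := Cᵀ * C) hJ.unit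
    (by rintro _ ⟨z, hz, rfl⟩; exact hH z (h.nml.le hz)) (by
    rintro _ ⟨g, hg, rfl⟩
    refine (iso_iff _ _ _).2 fun x y => ?_
    choose cs hcs hcs' using fun q => hmove ⟨g, hg⟩ q
    let π : Equiv.Perm (N ⧸ A) := MulAction.toPerm (⟨g, hg⟩ : N)
    have hπ : ∀ q, (QuotientGroup.mk ((⟨g, hg⟩ : N) * q.out) : N ⧸ A) = π q := fun q => by
      show _ = (⟨g, hg⟩ : N) • q
      conv_rhs => rw [← QuotientGroup.out_eq' q]
      rfl
    have hrepr : ∀ z q, B₀.repr (g.val *ᵥ z) (π q) = cs q * B₀.repr z q := by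
      intro z q
      conv_lhs => rw [← B₀.sum_repr z, mulVec_sum, map_sum, Finsupp.finsetSum_apply]
      rw [Finset.sum_eq_single q]
      · have e1 : g.val *ᵥ B₀ q = cs q • B₀ (π q) := by
          rw [← hπ, Module.Basis.mk_apply, Module.Basis.mk_apply]
          exact hcs' q
        rw [mulVec_smul, e1]
        simp [mul_comm]
      · intro q' _ hq'
        have e1 : g.val *ᵥ B₀ q' = cs q' • B₀ (π q') := by
          rw [← hπ, Module.Basis.mk_apply, Module.Basis.mk_apply]
          exact hcs' q'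
        rw [mulVec_smul, e1]
        simp [π.injective.eq_iff, hq']
      · simp
    rw [hform, hform, ← Equiv.sum_comp π]
    refine Finset.sum_congr rfl fun q _ => ?_
    rw [hrepr, hrepr]
    linear_combination (B₀.repr x q * B₀.repr y q) * hcs q)
  obtain ⟨q₀⟩ : Nonempty (N ⧸ A) := inferInstance
  have h1 := hform (B₀ q₀) (B₀ q₀)
  rw [hc, sform_smul_matrix, halt, mul_zero] at h1
  simp [Finsupp.single_apply] at h1

end CfsgLib.Asch
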