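import Cfsg.Agent.Lib.Classical.AschSympThree
import Cfsg.Agent.Lib.Classical.AschSympPlus

set_option autoImplicit false
set_option linter.unusedSectionVars false

/-!
Maximal subgroups of the symplectic group, with the small exceptions resolved.
-/

namespace CfsgLib.Asch

open Matrix
open Cfsg (sympForm spGL)
open Cfsg.Geo (subspaceStabilizer decompositionStabilizer subalgebraNormalizer tensorProductSubgroup
  tensorWreathSubgroup subgroupNormalizer)
open CfsgLib.Classical.SympTrans (f_self f_swap f_add_left f_add_right f_smul_left f_smul_right)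
open scoped MatrixGroups

variable {F : Type*} [Field F] {m : ℕ}

/-- A non-degenerate subspace has even dimension. -/
theorem even_nondegenerateOn {W : Submodule F (Fin m ⊕ Fin m → F)}
    (hW : Cfsg.Geo.IsNondegenerateOn (sympForm m F) W) : Even (Module.finrank F W) := by
  let B : LinearMap.BilinForm F W :=
    LinearMap.mk₂ F (fun u v => sympForm m F u.1 v.1) (fun u v w => f_add_left _ _ _)
      (fun c u v => f_smul_left _ _ _) (fun u v w => f_add_right _ _ _) (fun c u v => f_smul_right _ _ _)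
  have hB : SympCount.Symp B := ⟨fun v => f_self v.1, fun v hv => by
    by_contra h0
    obtain ⟨-, x, hx, hne⟩ := hW v.1 v.2 fun e => h0 (Subtype.ext e)
    exact hne (hv ⟨x, hx⟩)⟩
  obtain ⟨j, hj⟩ := SympCount.even_finrank hB
  exact ⟨j, by omega⟩

theorem five_le [Fintype F] (hodd : Odd (Fintype.card F)) (h3 : Fintype.card F ≠ 3) : 5 ≤ Fintype.card F := by
  have := Fintype.one_lt_card (α := F)
  obtain ⟨k, hk⟩ := hodd
  omega

theorem key_symp {H : Subgroup (GL (Fin m ⊕ Fin m) F)} (hH : Cfsg.Geo.IsMaximalIn (spGL m F) H)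
    (M : Subgroup (GL (Fin m ⊕ Fin m) F)) (hle : H ≤ M) (hnot : ¬ spGL m F ≤ M) : H = M ⊓ spGL m F := by
  rcases hH.2 (M ⊓ spGL m F) (le_inf hle hH.1.le) inf_le_right with h | h
  · exact h.symm
  · exact absurd (h.symm.le.trans inf_le_left) hnot

/-- The kinds of maximal subgroups of the symplectic group. -/
inductive SympMaxCases [Fintype F] (H : Subgroup (GL (Fin m ⊕ Fin m) F)) : Prop
  | ts (W : Submodule F (Fin m ⊕ Fin m → F)) : W ≠ ⊥ → Cfsg.Geo.IsTotallySingularFor (sympForm m F) W →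
      H = subspaceStabilizer W ⊓ spGL m F → SympMaxCases H
  | nd (W : Submodule F (Fin m ⊕ Fin m → F)) : W ≠ ⊥ → Cfsg.Geo.IsNondegenerateOn (sympForm m F) W →
      Module.finrank F W < m → 2 ≤ Module.finrank F W → H = subspaceStabilizer W ⊓ spGL m F → SympMaxCases H
  | ndDecomp (t k : ℕ) (D : Fin t → Submodule F (Fin m ⊕ Fin m → F)) : t * k = m + m → 2 ≤ t → Even k → 2 ≤ k →
      (k = 2 → 3 ≤ Fintype.card F) → Cfsg.Geo.IsNondegenerateMDecomposition (sympForm m F) k D →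
      H = decompositionStabilizer D ⊓ spGL m F → SympMaxCases H
  | tsPair (D : Fin 2 → Submodule F (Fin m ⊕ Fin m → F)) : Odd (Fintype.card F) →
      (m = 2 → 5 ≤ Fintype.card F) → Cfsg.Geo.IsMDecomposition m D →
      (∀ i, Cfsg.Geo.IsTotallySingularFor (sympForm m F) (D i)) →
      H = decompositionStabilizer D ⊓ spGL m F → SympMaxCases H
  | saField (r : ℕ) (K : Subalgebra F (Matrix (Fin m ⊕ Fin m) (Fin m ⊕ Fin m) F)) : r.Prime → r ∣ m →
      Cfsg.Geo.IsFieldSubalgebra r K → Cfsg.Geo.IsSelfAdjointFor (sympForm m F) K →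
      (∀ k ∈ K, ∀ v, sympForm m F (k *ᵥ v) v = 0) → H = subalgebraNormalizer K ⊓ spGL m F → SympMaxCases H
  | conjField (K : Subalgebra F (Matrix (Fin m ⊕ Fin m) (Fin m ⊕ Fin m) F)) : Odd (Fintype.card F) →
      (m = 2 → 5 ≤ Fintype.card F) → Cfsg.Geo.IsFieldSubalgebra 2 K →
      Cfsg.Geo.IsAdjointClosedFor (sympForm m F) K → ¬ Cfsg.Geo.IsSelfAdjointFor (sympForm m F) K →
      H = subalgebraNormalizer K ⊓ spGL m F → SympMaxCases H
  | tensor (n₁ n₂ : ℕ) (e : (Fin m ⊕ Fin m) ≃ Fin n₁ × Fin n₂) (P : GL (Fin m ⊕ Fin m) F)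
      (f₁ : (Fin n₁ → F) → (Fin n₁ → F) → F) (f₂ : (Fin n₂ → F) → (Fin n₂ → F) → F) :
      Odd (Fintype.card F) → 2 ≤ n₁ → Even n₁ → 3 ≤ n₂ → n₁ * n₂ = m + m → (n₂ = 3 → 5 ≤ Fintype.card F) →
      (n₁ = 2 → n₂ = 4 → ¬ Cfsg.Geo.IsPlusTypeOn (fun v : Fin n₂ → F => f₂ v v) ⊤) →
      Cfsg.Geo.IsSymplecticForm f₁ → Cfsg.Geo.IsSymmetricForm f₂ →
      Cfsg.Geo.IsTensorFormStructure id (sympForm m F) f₁ f₂ e P →
      H = tensorProductSubgroup n₁ n₂ e P ⊓ spGL m F → SympMaxCases H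
  | rational (F₀ : Subfield F) (r : ℕ) (P : GL (Fin m ⊕ Fin m) F) (ζ : F) : r.Prime →
      Fintype.card F = Nat.card F₀ ^ r → ζ ≠ 0 → Cfsg.Geo.IsFormRationalStructure (sympForm m F) F₀ ζ P →
      H = Cfsg.Geo.subfieldSubgroup F₀ P ⊓ spGL m F → SympMaxCases H
  | heis (R : Subgroup (GL (Fin m ⊕ Fin m) F)) (p k : ℕ) : Cfsg.Geo.IsSymplecticTypeGroup 2 R →
      Cfsg.Geo.ActsAbsolutelyIrreducibly (Cfsg.Geo.matrixSet R) →
      R ≤ Cfsg.Geo.similarityGroup (sympForm m F) → p.Prime → Odd p → Fintype.card F = p → m + m = 2 ^ k →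
      Nat.card R = 2 ^ (1 + 2 * k) → Nat.card (Subgroup.center R) = 2 → Cfsg.Geo.IsOfMinusType k R →
      H = subgroupNormalizer R ⊓ spGL m F → SympMaxCases H
  | power (k t : ℕ) (e : (Fin m ⊕ Fin m) ≃ (Fin t → Fin k)) (P : GL (Fin m ⊕ Fin m) F)
      (f₁ : (Fin k → F) → (Fin k → F) → F) :
      Odd (Fintype.card F) → Odd t → 3 ≤ t → (k = 2 → 5 ≤ Fintype.card F) → k ^ t = m + m → Even k →
      Cfsg.Geo.IsSymplecticForm f₁ → Cfsg.Geo.IsTensorPowerFormStructure id (sympForm m F) f₁ e P →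
      H = tensorWreathSubgroup k t e P ⊓ spGL m F → SympMaxCases H
  | quad (Q : (Fin m ⊕ Fin m → F) → F) : ¬ Odd (Fintype.card F) → Cfsg.Geo.IsNondegenerateQuadraticForm Q →
      (∀ u v, QuadraticMap.polar Q u v = sympForm m F u v) →
      H = Cfsg.Geo.quadSimilarityGroup Q ⊓ spGL m F → SympMaxCases H
  | residual : Cfsg.Geo.InSymplecticResidualClass H → SympMaxCases H

theorem decomp_case [Fintype F] {H : Subgroup (GL (Fin m ⊕ Fin m) F)} (hm : 2 ≤ m)
    (hH : Cfsg.Geo.IsMaximalIn (spGL m F) H) {t k : ℕ} {D : Fin t → Submodule F (Fin m ⊕ Fin m → F)}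
    (htk : t * k = m + m) (hD : Cfsg.Geo.IsNondegenerateMDecomposition (sympForm m F) k D)
    (hle : H ≤ decompositionStabilizer D) : SympMaxCases H := by
  have hev : Even k := by
    have := even_nondegenerateOn (hD.nondegenerate ⟨0, by have := hD.decomp.two_le; omega⟩)
    rwa [hD.decomp.finrank_eq] at this
  have hk2 : 2 ≤ k := by
    obtain ⟨j, rfl⟩ := hev
    have := hD.decomp.pos
    omega
  by_cases hex : k = 2 ∧ Fintype.card F = 2
  · obtain ⟨rfl, hq⟩ := hex
    obtain ⟨Q, he, hQ, hpol, hQle⟩ := SympMax.planes_quad hq hD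
    exact .quad Q he hQ hpol (key_symp hH _ (hle.trans hQle) (SympNotLe.not_le_quad hm hQ hpol))
  refine .ndDecomp t k D htk hD.decomp.two_le hev hk2 (fun h => ?_) hD
    (key_symp hH _ hle (SympNotLe.not_le_decomp hD.decomp hk2))
  have := Fintype.one_lt_card (α := F)
  by_contra hlt
  exact hex ⟨h, by omega⟩

/-- Every maximal subgroup of the symplectic group is of one of these kinds. -/
theorem symp_max_cases [Fintype F] (hm : 2 ≤ m) {H : Subgroup (GL (Fin m ⊕ Fin m) F)}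
    (hH : Cfsg.Geo.IsMaximalIn (spGL m F) H) : SympMaxCases H := by
  classical
  rcases symp_std_cases hm hH.1.le with ⟨W, h0, hW, hle⟩ | ⟨W, h0, hW, hd, hle⟩ | ⟨t, k, D, htk, hD, hle⟩ |
    ⟨D, ho, hD, hts, hle⟩ | ⟨r, K, hr, hrm, hK, hsa, halt, hle⟩ | ⟨K, ho, hK, hcl, hn, hle⟩ |
    ⟨n₁, n₂, e, P, f₁, f₂, ho, h1, he1, h3, hn, hf₁, hf₂, hs, hle⟩ | ⟨F₀, r, P, ζ, hr, hc, hζ, hrat, hle⟩ |
    ⟨R, p, k, hR, ha, hs, hp, hpo, hq, hk, hc, hz, hmi, hle⟩ |
    ⟨k, t, e, P, f₁, ho, ht, ht3, hex, hn, hev, hf₁, hs, hle⟩ | ⟨Q, he, hQ, hpol, hle⟩ | h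
  · refine .ts W h0 hW (key_symp hH _ hle (SympNotLe.not_le_stab h0 fun e => ?_))
    obtain ⟨x, hx⟩ := SympNotLe.exists_f_one (F := F) (m := m) (v := Pi.single (.inl ⟨0, by omega⟩) 1) (by simp)
    rw [hW x (e ▸ Submodule.mem_top) _ (e ▸ Submodule.mem_top)] at hx
    exact zero_ne_one hx
  · have hev := even_nondegenerateOn hW
    have hpos : Module.finrank F W ≠ 0 := fun e => h0 (Submodule.finrank_eq_zero.1 e)
    refine .nd W h0 hW hd (by obtain ⟨j, hj⟩ := hev; omega) (key_symp hH _ hle (SympNotLe.not_le_stab h0 fun e => ?_))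
    rw [e, finrank_top, Module.finrank_pi, Fintype.card_sum, Fintype.card_fin] at hd
    omega
  · exact decomp_case hm hH htk hD hle
  · by_cases hex : m = 2 ∧ Fintype.card F = 3
    · obtain ⟨rfl, hq⟩ := hex
      obtain ⟨D', hD', hle'⟩ := SympMax.tsPair_three hq hD hts
      exact decomp_case hm hH rfl hD' ((le_inf hle hH.1.le).trans hle')
    exact .tsPair D ho (fun h => five_le ho fun h3 => hex ⟨h, h3⟩) hD hts
      (key_symp hH _ hle (SympNotLe.not_le_decomp hD hm))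
  · exact .saField r K hr hrm hK hsa halt (key_symp hH _ hle (SympNotLe.not_le_normalizer hm hr.two_le hK))
  · by_cases hex : m = 2 ∧ Fintype.card F = 3
    · obtain ⟨rfl, hq⟩ := hex
      exact (SympThree.conjField_three hq hK hcl hn hH hle).elim
    exact .conjField K ho (fun h => five_le ho fun h3 => hex ⟨h, h3⟩) hK hcl hn
      (key_symp hH _ hle (SympNotLe.not_le_normalizer hm le_rfl hK))
  · by_cases hex : n₂ = 3 ∧ Fintype.card F = 3
    · obtain ⟨rfl, hq⟩ := hex
      obtain ⟨D', hD', hle'⟩ := SympMax.tensor_three hq h1 hf₁ hf₂ hs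
      exact decomp_case hm hH (by rw [mul_comm]; exact hn) hD' ((le_inf hle hH.1.le).trans hle')
    by_cases hpl : n₁ = 2 ∧ n₂ = 4 ∧ Cfsg.Geo.IsPlusTypeOn (fun v : Fin n₂ → F => f₂ v v) ⊤
    · obtain ⟨rfl, rfl, hplus⟩ := hpl
      obtain ⟨e', P', c, hc, hco, hpow, hle'⟩ :=
        SympPlus.tensor_plus (PrimeDim.two_ne_zero_of_odd ho) hf₁ hf₂ hplus hs
      have hle'' := (le_inf hle hH.1.le).trans hle'
      by_cases hq : Fintype.card F = 3
      · exact (SympThree.wreath_three hq hc hco hH hle'').elim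
      refine .power 2 3 e' P' _ ho (by decide) le_rfl (fun _ => five_le ho hq) (by omega) even_two ?_ hpow
        (key_symp hH _ hle'' (SympNotLe.not_le_wreath le_rfl (by norm_num) e' P'))
      refine SympData.symplectic (SympData.of_skew ⟨?_, fun a => rfl, ?_⟩ (PrimeDim.two_ne_zero_of_odd ho))
      · rw [Matrix.isUnit_iff_isUnit_det]
        simp [jTwo, Matrix.det_fin_two]
      · rw [bm_refl, jTwo_transpose]
    exact .tensor n₁ n₂ e P f₁ f₂ ho h1 he1 h3 hn (fun h => five_le ho fun h3' => hex ⟨h, h3'⟩)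
      (fun a b c => hpl ⟨a, b, c⟩) hf₁ hf₂ hs (key_symp hH _ hle (SympNotLe.not_le_tensor h1 (by omega) e P))
  · exact .rational F₀ r P ζ hr hc hζ hrat (key_symp hH _ hle (SympNotLe.not_le_subfield (by omega) hr hc P))
  · haveI : Fact p.Prime := ⟨hp⟩
    haveI : CharP F p := charP_of_card_eq_prime hq
    refine .heis R p k hR ha hs hp hpo hq hk hc hz hmi
      (key_symp hH _ hle (SympNotLe.not_le_subgroupNormalizer hm hpo (fun g hg => ?_) (fun hsc => ?_) hs))
    · have := Monoid.pow_exponent_eq_one (⟨g, hg⟩ : R)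
      rw [hR.exponent_eq] at this
      simpa using congrArg Subtype.val this
    · have htop : Subgroup.center R = ⊤ := by
        rw [eq_top_iff]
        intro x _
        rw [Subgroup.mem_center_iff]
        intro y
        obtain ⟨a, ha'⟩ := (Cfsg.Geo.mem_scalars_iff _).1 (hsc x.2)
        exact Subtype.ext (Units.ext (by simp [ha']))
      rw [htop, Subgroup.card_top, hc] at hz
      rcases Nat.eq_zero_or_pos k with rfl | hk'
      · simp at hk; omega
      · have : 2 ^ 2 ≤ 2 ^ (1 + 2 * k) := Nat.pow_le_pow_right two_pos (by omega)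
        omega
  · have hk2 : 2 ≤ k := by
      rcases hev with ⟨j, rfl⟩
      rcases Nat.eq_zero_or_pos j with rfl | hj
      · rw [add_zero, zero_pow (show t ≠ 0 by omega)] at hn; omega
      · omega
    exact .power k t e P f₁ ho ht ht3 (fun h => five_le ho fun h3 => hex ⟨h3, h⟩) hn hev hf₁ hs
      (key_symp hH _ hle (SympNotLe.not_le_wreath hk2 (by omega) e P))
  · exact .quad Q he hQ hpol (key_symp hH _ hle (SympNotLe.not_le_quad hm hQ hpol))
  · exact .residual h

end CfsgLib.Asch
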