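import Cfsg.Agent.Lib.Classical.AschSympMax

set_option autoImplicit false
set_option linter.unusedSectionVars false

/-!
Arithmetic for the small symplectic groups.
-/

namespace CfsgLib.Asch

theorem no_power {k t n : ℕ} (hk : Even k) (ht : 3 ≤ t) (hn : k ^ t = n) (hn' : n < 64) : k = 2 ∧ 2 ^ t = n ∨ n = 0 := by
  obtain ⟨j, rfl⟩ := hk
  rcases Nat.lt_or_ge j 2 with hj | hj
  · interval_cases j
    · right; rw [← hn, Nat.add_zero, zero_pow (by omega)]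
    · exact Or.inl ⟨rfl, hn⟩
  · exfalso
    have h1 : (j + j) ^ 3 ≤ (j + j) ^ t := Nat.pow_le_pow_right (by omega) ht
    have h2 : 4 ^ 3 ≤ (j + j) ^ 3 := Nat.pow_le_pow_left (by omega) 3
    omega

theorem two_pow_eq {k n : ℕ} (h : n = 2 ^ k) (hn : n < 16) : (k = 0 ∧ n = 1) ∨ (k = 1 ∧ n = 2) ∨ (k = 2 ∧ n = 4) ∨ (k = 3 ∧ n = 8) := by
  rcases Nat.lt_or_ge k 4 with hk | hk
  · interval_cases k <;> simp_all
  · have : 2 ^ 4 ≤ 2 ^ k := Nat.pow_le_pow_right two_pos hk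
    omega

theorem prime_dvd_cases {r m : ℕ} (hr : r.Prime) (hm : r ∣ m) (h0 : 0 < m) (h : m ≤ 6) :
    (m = 2 ∧ r = 2) ∨ (m = 3 ∧ r = 3) ∨ (m = 4 ∧ r = 2) ∨ (m = 5 ∧ r = 5) ∨ (m = 6 ∧ (r = 2 ∨ r = 3)) := by
  have hrle := Nat.le_of_dvd h0 hm
  have := hr.two_le
  interval_cases m <;> interval_cases r <;> revert hr hm <;> decide

end CfsgLib.Asch
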