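import Cfsg.Agent.Lib.Classical.PrimeDimDescent
import Cfsg.Agent.Lib.Classical.OrthStab
import Cfsg.Agent.Lib.Classical.OrthSub
import Cfsg.Agent.Lib.AutPSL.Descent

set_option autoImplicit false
set_option linter.unusedSectionVars false

/-!
The commutator subgroup of an orthogonal group over a finite field of odd order, as a group of matrices: what does
not contain it, the scalings of rational structures, and descent along semilinear maps.
-/

namespace CfsgLib.PrimeDim

open Matrix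
open Cfsg.Geo (matrixSet scalars specialLinear ActsIrreducibly ActsAbsolutelyIrreducibly omegaGL)
open CfsgLib.Orth (Grp Nondeg ap IsSiegel El b_comm b_add_left b_add_right b_sub_left b_sub_right b_smul_left
  b_smul_right b_zero_left b_zero_right b_self b_self_zero q_add q_sub q_smul)
open scoped MatrixGroups commutatorElement

variable {F : Type*} [Field F] [Fintype F] {n : ℕ} {Q : QuadraticForm F (Fin n → F)}

local notation "B" => QuadraticMap.polar (DFunLike.coe Q)

theorem quad_nondeg (hB : Nondeg Q) : Cfsg.Geo.IsNondegenerateForm (QuadraticMap.polar ⇑Q) := by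
  intro v hv
  have h : ∃ y, B v y ≠ 0 := by
    by_contra hc
    push Not at hc
    exact hv (hB v hc)
  obtain ⟨y, hy⟩ := h
  exact ⟨⟨y, by rwa [b_comm]⟩, ⟨y, hy⟩⟩

theorem polar_sesq (hB : Nondeg Q) : Sesq (RingEquiv.refl F) (QuadraticMap.polar ⇑Q) :=
  ⟨fun x y v => b_add_left x y v, fun c x v => b_smul_left c x v, fun v x y => b_add_right v x y,
    fun c v x => b_smul_right c v x, quad_nondeg hB⟩

theorem omegaGL_apply {g : GL (Fin n) F} (hg : g ∈ omegaGL ⇑Q) (v : Fin n → F) :
    Q ((g : Matrix (Fin n) (Fin n) F) *ᵥ v) = Q v := by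
  obtain ⟨g, -, rfl⟩ := hg
  exact CfsgLib.Orth.ap_q g v

theorem omegaGL_polar {g : GL (Fin n) F} (hg : g ∈ omegaGL ⇑Q) (u v : Fin n → F) :
    B ((g : Matrix (Fin n) (Fin n) F) *ᵥ u) ((g : Matrix (Fin n) (Fin n) F) *ᵥ v) = B u v := by
  obtain ⟨g, -, rfl⟩ := hg
  exact CfsgLib.Orth.ap_b g u v

theorem omegaGL_eq : omegaGL ⇑Q = ⁅Cfsg.isometryGroup F ⇑Q, Cfsg.isometryGroup F ⇑Q⁆ := by
  rw [omegaGL, Cfsg.Omega, Subgroup.map_subtype_commutator]

theorem omegaGL_le_sl : omegaGL ⇑Q ≤ specialLinear (Fin n) F := by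
  rw [omegaGL_eq, Subgroup.commutator_le]
  intro a _ b _
  show Matrix.GeneralLinearGroup.det ⁅a, b⁆ = 1
  rw [map_commutatorElement]
  exact (commutatorElement_eq_one_iff_mul_comm).2 (mul_comm _ _)

theorem omegaGL_perfect (hB : Nondeg Q) (hn : 5 ≤ n) : ⁅omegaGL ⇑Q, omegaGL ⇑Q⁆ = omegaGL ⇑Q := by
  rw [omegaGL, ← Subgroup.map_commutator,
    CfsgLib.Orth.omega_perfect hB (by rw [Module.finrank_fin_fun]; exact hn)]

theorem El_mem_omegaGL (hB : Nondeg Q) (hn : 5 ≤ n) {g : Grp Q} (hg : g ∈ El Q) :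
    (g : GL (Fin n) F) ∈ omegaGL ⇑Q :=
  ⟨g, by rw [CfsgLib.Orth.omega_eq_El hB (by rw [Module.finrank_fin_fun]; exact hn)]; exact hg, rfl⟩

/-- A vector with the given products with a basis. -/
theorem exists_dual (hB : Nondeg Q) (φ : (Fin n → F) →ₗ[F] F) : ∃ w, ∀ u, B u w = φ u := by
  classical
  let Φ : (Fin n → F) → (Fin n → F) := fun w j => B (Pi.single j 1) w
  have hdec : ∀ u w, B u w = ∑ j, u j * Φ w j := by
    intro u w
    conv_lhs => rw [pi_eq_sum_univ' u]
    rw [(polar_sesq hB).sum_left]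
    exact Finset.sum_congr rfl fun j _ => b_smul_left _ _ _
  have hinj : Function.Injective Φ := fun w w' e => by
    refine sub_eq_zero.1 (hB (w - w') fun y => ?_)
    rw [b_sub_left, b_comm w, b_comm w', hdec, hdec, e, sub_self]
  obtain ⟨w, hw⟩ := Finite.injective_iff_surjective.1 hinj fun j => φ (Pi.single j 1)
  refine ⟨w, fun u => ?_⟩
  rw [hdec, hw]
  conv_rhs => rw [pi_eq_sum_univ' u, map_sum]
  exact Finset.sum_congr rfl fun j _ => by rw [map_smul, smul_eq_mul]

theorem dual_ext (hB : Nondeg Q) {w w' : Fin n → F} (h : ∀ u, B u w = B u w') : w = w' :=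
  sub_eq_zero.1 (hB (w - w') fun y => by rw [b_sub_left, b_comm w, b_comm w', h, sub_self])

/-! ### What does not contain the group -/

/-- The group acts irreducibly. -/
theorem omega_not_le_stab (hodd : Odd (Fintype.card F)) (hB : Nondeg Q) (hn : 5 ≤ n)
    {W : Submodule F (Fin n → F)} (hW0 : W ≠ ⊥) (hW1 : W ≠ ⊤) :
    ¬ omegaGL ⇑Q ≤ Cfsg.Geo.subspaceStabilizer W := by
  classical
  intro hle
  have hd : 5 ≤ Module.finrank F (Fin n → F) := by rw [Module.finrank_fin_fun]; exact hn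
  obtain ⟨x, hx, hx0⟩ := Submodule.exists_mem_ne_zero_of_ne_bot hW0
  -- some singular vector is not orthogonal to x
  obtain ⟨u, hu, hxu⟩ : ∃ u, Q u = 0 ∧ B x u ≠ 0 := by
    by_contra hall
    push Not at hall
    obtain ⟨y, hy, hy0⟩ := CfsgLib.Orth.exists_nonzero_singular (Q := Q) hd
    refine hx0 (hB x fun z => ?_)
    have hz : Submodule.span F {v | Q v = 0} ≤ LinearMap.ker (QuadraticMap.polarBilin Q x) :=
      Submodule.span_le.2 fun v hv => LinearMap.mem_ker.2 (hall v hv)
    exact LinearMap.mem_ker.1 (hz (CfsgLib.Orth.mem_span_singular hB hy hy0 z))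
  have key : ∀ v, B u v = 0 → B x u • v - B x v • u - (Q v * B x u) • u ∈ W := by
    intro v hv
    obtain ⟨g, hg⟩ := CfsgLib.Orth.exists_siegel hB hu hv
    have h : ap g x ∈ W :=
      ((hle (El_mem_omegaGL hB hn (CfsgLib.Orth.siegel_mem_El hg))) x).1 hx
    rw [hg.2.2] at h
    have e : B x u • v - B x v • u - (Q v * B x u) • u =
        x + B x u • v - B x v • u - (Q v * B x u) • u - x := by abel
    rw [e]
    exact W.sub_mem h hx
  have hu0 : u ≠ 0 := fun e => hxu (by rw [e, b_zero_right])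
  have hperp : Module.finrank F (CfsgLib.Orth.orth Q (Submodule.span F {u})) + 1 = n := by
    have h := CfsgLib.Orth.finrank_orth hB (Submodule.span F {u})
    rw [finrank_span_singleton hu0, Module.finrank_fin_fun] at h
    omega
  have hmem : ∀ {v}, v ∈ CfsgLib.Orth.orth Q (Submodule.span F {u}) ↔ B u v = 0 := fun {v} =>
    ⟨fun h => CfsgLib.Orth.mem_orth.1 h u (Submodule.mem_span_singleton_self u), fun h => CfsgLib.Orth.mem_orth.2 fun w hw => by
      obtain ⟨c, rfl⟩ := Submodule.mem_span_singleton.1 hw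
      rw [b_smul_left, h, mul_zero]⟩
  -- a non-singular vector orthogonal to u
  obtain ⟨v, hv, hqv⟩ : ∃ v, B u v = 0 ∧ Q v ≠ 0 := by
    by_contra hall
    push Not at hall
    have h := CfsgLib.Orth.two_mul_finrank_le hB (W := CfsgLib.Orth.orth Q (Submodule.span F {u}))
      (CfsgLib.Orth.le_orth_of_singular fun v hv => hall v (hmem.1 hv))
    rw [Module.finrank_fin_fun] at h
    omega
  have h2 : (2 : F) ≠ 0 := two_ne_zero_of_odd hodd
  have huW : u ∈ W := by
    have h1 := key v hv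
    have h3 := key (-v) (by rw [← neg_one_smul F v, b_smul_right, hv, mul_zero])
    have h4 := W.add_mem h1 h3
    rw [QuadraticMap.map_neg, ← neg_one_smul F v, b_smul_right] at h4
    have e : B x u • v - B x v • u - (Q v * B x u) • u + (B x u • (-1 : F) • v - (-1 * B x v) • u -
        (Q v * B x u) • u) = (-(2 * (Q v * B x u))) • u := by module
    rw [e] at h4
    exact (W.smul_mem_iff (neg_ne_zero.2 (mul_ne_zero h2 (mul_ne_zero hqv hxu)))).1 h4
  have hle' : CfsgLib.Orth.orth Q (Submodule.span F {u}) ≤ W := by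
    intro w hw
    have h1 := key w (hmem.1 hw)
    have h3 : B x u • w ∈ W := by
      have := W.add_mem (W.add_mem h1 (W.smul_mem (B x w) huW)) (W.smul_mem (Q w * B x u) huW)
      convert this using 1
      module
    exact (W.smul_mem_iff hxu).1 h3
  have hlt : Module.finrank F W < n := by
    have := Submodule.finrank_lt hW1
    rwa [Module.finrank_fin_fun] at this
  have heq := Submodule.eq_of_le_of_finrank_le hle' (by omega)
  exact hxu (by rw [b_comm]; exact hmem.1 (heq ▸ hx))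

/-- The group is not monomial for an orthogonal frame. -/
theorem omega_not_le_decomposition (hB : Nondeg Q) (hn : 6 ≤ n)
    {D : Fin n → Submodule F (Fin n → F)}
    (hD : Cfsg.Geo.IsNondegenerateMDecomposition (QuadraticMap.polar ⇑Q) 1 D) :
    ¬ omegaGL ⇑Q ≤ Cfsg.Geo.decompositionStabilizer D := by
  classical
  intro hle
  haveI : Nonempty (Fin n) := ⟨⟨0, by omega⟩⟩
  have hd : ∀ i, ∃ v ∈ D i, v ≠ 0 := fun i => Submodule.exists_mem_ne_zero_of_ne_bot fun e => by
    have := hD.decomp.finrank_eq i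
    rw [e, finrank_bot] at this
    exact zero_ne_one this
  choose v hv hv0 using hd
  have hli : LinearIndependent F v := iSupIndep.linearIndependent _ hD.decomp.indep hv hv0
  let C := basisOfLinearIndependentOfCardEqFinrank hli (by simp)
  have hC : ∀ i, C i = v i := fun i => by simp [C]
  let supp : (Fin n → F) → Finset (Fin n) := fun x => Finset.univ.filter fun i => C.repr x i ≠ 0
  have hmono : ∀ g : GL (Fin n) F, g ∈ omegaGL ⇑Q → ∀ x,
      (supp ((g : Matrix (Fin n) (Fin n) F) *ᵥ x)).card = (supp x).card := by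
    intro g hg x
    obtain ⟨π, hπ⟩ := hle hg
    have : ∀ i, ∃ a : F, a ≠ 0 ∧ (g : Matrix (Fin n) (Fin n) F) *ᵥ C i = a • C (π i) := by
      intro i
      have hm : (g : Matrix (Fin n) (Fin n) F) *ᵥ v i ∈ D (π i) := by
        rw [← hπ i]
        exact ⟨v i, hv i, Matrix.toLin'_apply _ _⟩
      obtain ⟨a, ha⟩ := (finrank_eq_one_iff_of_nonzero' (⟨v (π i), hv (π i)⟩ : D (π i))
        fun e => hv0 _ (congrArg Subtype.val e)).1 (hD.decomp.finrank_eq _) ⟨_, hm⟩
      have ha' : a • v (π i) = (g : Matrix (Fin n) (Fin n) F) *ᵥ v i := congrArg Subtype.val ha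
      refine ⟨a, fun e => hv0 i ?_, by rw [hC, hC, ha']⟩
      rw [e, zero_smul] at ha'
      rw [← inv_mulVec_cancel g (v i), ← ha', mulVec_zero]
    choose a ha0 ha using this
    have key : ∀ i, C.repr ((g : Matrix (Fin n) (Fin n) F) *ᵥ x) (π i) = C.repr x i * a i := by
      intro i
      conv_lhs => rw [← C.sum_repr x]
      simp only [mulVec_sum, mulVec_smul, ha, smul_smul]
      simp [Finsupp.single_apply, π.injective.eq_iff]
    symm
    refine Finset.card_equiv π fun i => ?_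
    simp [supp, key, ha0 i]
  have hd' : 5 ≤ Module.finrank F (Fin n → F) := by rw [Module.finrank_fin_fun]; omega
  have hconst : ∀ x y, Q x = 0 → Q y = 0 → x ≠ 0 → y ≠ 0 → (supp x).card = (supp y).card := by
    intro x y hx hy hx0 hy0
    obtain ⟨e, he, hexy⟩ := CfsgLib.Orth.exists_move_singular hB hd' hx hy hx0 hy0
    rw [← hexy]
    exact (hmono _ (El_mem_omegaGL hB (by omega) he) x).symm
  -- singular vectors on two disjoint triples
  have htriple : ∀ f : Fin 3 → Fin n, Function.Injective f →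
      ∃ y, y ∈ Submodule.span F (Set.range (C ∘ f)) ∧ y ≠ 0 ∧ Q y = 0 := by
    intro f hf
    refine CfsgLib.Orth.exists_singular ?_
    rw [finrank_span_eq_card (C.linearIndependent.comp f hf), Fintype.card_fin]
  let f₁ : Fin 3 → Fin n := fun i => ⟨i, by omega⟩
  let f₂ : Fin 3 → Fin n := fun i => ⟨i + 3, by omega⟩
  obtain ⟨x, hx, hx0, hxq⟩ := htriple f₁ fun a b e => by
    simpa [f₁, Fin.ext_iff] using e
  obtain ⟨y, hy, hy0, hyq⟩ := htriple f₂ fun a b e => by
    simpa [f₂, Fin.ext_iff] using e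
  have hsupp : ∀ (f : Fin 3 → Fin n) z, z ∈ Submodule.span F (Set.range (C ∘ f)) →
      ∀ i ∈ supp z, i ∈ Set.range f := by
    intro f z hz i hi
    rw [Set.range_comp] at hz
    exact C.repr_support_subset_of_mem_span _ hz (Finsupp.mem_support_iff.2 (Finset.mem_filter.1 hi).2)
  have hdisj : Disjoint (supp x) (supp y) := Finset.disjoint_left.2 fun i hix hiy => by
    obtain ⟨a, rfl⟩ := hsupp f₁ x hx i hix
    obtain ⟨b, hb⟩ := hsupp f₂ y hy _ hiy
    have := congrArg Fin.val hb
    simp [f₁, f₂] at this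
    omega
  have hxy : B x y = 0 := by
    have hper : ∀ a b : Fin 3, B (C (f₁ a)) (C (f₂ b)) = 0 := fun a b => by
      rw [hC, hC]
      refine hD.orthogonal _ _ (fun e => ?_) _ (hv _) _ (hv _)
      have := congrArg Fin.val e
      simp [f₁, f₂] at this
      omega
    obtain ⟨c, rfl⟩ := (Submodule.mem_span_range_iff_exists_fun F).1 hx
    obtain ⟨d, rfl⟩ := (Submodule.mem_span_range_iff_exists_fun F).1 hy
    rw [(polar_sesq hB).sum_left]
    refine Finset.sum_eq_zero fun a _ => ?_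
    rw [b_smul_left, b_comm, (polar_sesq hB).sum_left]
    rw [Finset.sum_eq_zero fun b _ => ?_, mul_zero]
    rw [b_smul_left, b_comm, Function.comp_apply, Function.comp_apply, hper, mul_zero]
  have hadd : supp (x + y) = supp x ∪ supp y := by
    ext i
    simp only [supp, Finset.mem_union, Finset.mem_filter, Finset.mem_univ, true_and, map_add,
      Finsupp.add_apply]
    by_cases h : C.repr x i = 0
    · simp [h]
    · have h' : C.repr y i = 0 := by
        by_contra h'
        exact Finset.disjoint_left.1 hdisj (Finset.mem_filter.2 ⟨Finset.mem_univ i, h⟩)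
          (Finset.mem_filter.2 ⟨Finset.mem_univ i, h'⟩)
      simp [h, h']
  have hne : ∀ z : Fin n → F, z ≠ 0 → 0 < (supp z).card := by
    intro z hz
    refine Finset.card_pos.2 ?_
    by_contra h
    rw [Finset.not_nonempty_iff_eq_empty, Finset.filter_eq_empty_iff] at h
    exact hz (C.ext_elem fun i => by simpa using h (Finset.mem_univ i))
  have hcard : (supp (x + y)).card = (supp x).card + (supp y).card := by
    rw [hadd, Finset.card_union_of_disjoint hdisj]
  have hxy0 : x + y ≠ 0 := fun e => by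
    have h0 : supp (x + y) = ∅ := by simp [supp, e]
    rw [h0, Finset.card_empty] at hcard
    have := hne x hx0
    omega
  have h1 := hconst x (x + y) hxq (by rw [q_add, hxq, hyq, hxy, add_zero, add_zero]) hx0 hxy0
  have h2 := hne y hy0
  omega

/-- The group is in no subfield group. -/
theorem omega_not_le_subfield (hB : Nondeg Q) (hn : 5 ≤ n) {F₀ : Subfield F} (hF₀ : F₀ ≠ ⊤)
    (P : GL (Fin n) F) : ¬ omegaGL ⇑Q ≤ Cfsg.Geo.subfieldSubgroup F₀ P := by
  classical
  intro hle
  have hd : 5 ≤ Module.finrank F (Fin n → F) := by rw [Module.finrank_fin_fun]; exact hn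
  -- all the elements are rational
  have hrat : ∀ g ∈ omegaGL ⇑Q, ∀ i j,
      ((P⁻¹ * g * P : GL (Fin n) F) : Matrix (Fin n) (Fin n) F) i j ∈ F₀ := by
    let M₀ : Subgroup (GL (Fin n) F) := ((Matrix.GeneralLinearGroup.map (F₀.subtype : F₀ →+* F)).range.map
      (MulAut.conj P).toMonoidHom)
    have hcomm : ∀ a ∈ Cfsg.Geo.subfieldSubgroup F₀ P, ∀ b ∈ Cfsg.Geo.subfieldSubgroup F₀ P, ⁅a, b⁆ ∈ M₀ := by
      rintro _ ⟨a, ha, rfl⟩ _ ⟨b, hb, rfl⟩
      obtain ⟨a₀, ha₀, s, hs, rfl⟩ := Subgroup.mem_sup_of_normal_right.1 ha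
      obtain ⟨b₀, hb₀, t, ht, rfl⟩ := Subgroup.mem_sup_of_normal_right.1 hb
      refine ⟨⁅a₀, b₀⁆, ?_, ?_⟩
      · rw [commutatorElement_def]
        exact mul_mem (mul_mem (mul_mem ha₀ hb₀) (inv_mem ha₀)) (inv_mem hb₀)
      · rw [← map_commutatorElement]
        congr 1
        obtain ⟨u, rfl⟩ := eq_sc_of_mem_scalars hs
        obtain ⟨w, rfl⟩ := eq_sc_of_mem_scalars ht
        have h1 : ∀ g : GL (Fin n) F, Commute (sc u) g := fun g => sc_comm u g
        have h2 : ∀ g : GL (Fin n) F, Commute (sc w) g := fun g => sc_comm w g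
        simp only [commutatorElement_def, _root_.mul_inv_rev, mul_assoc]
        have e1 : ∀ g : GL (Fin n) F, sc u * ((sc u)⁻¹ * g) = g := fun g => mul_inv_cancel_left _ _
        calc a₀ * (b₀ * (a₀⁻¹ * b₀⁻¹))
            = a₀ * (b₀ * ((sc u * (sc u)⁻¹) * (a₀⁻¹ * ((sc w * (sc w)⁻¹) * b₀⁻¹)))) := by simp
          _ = a₀ * (sc u * (b₀ * (sc w * ((sc u)⁻¹ * (a₀⁻¹ * ((sc w)⁻¹ * b₀⁻¹)))))) := by
            simp only [mul_assoc]
            rw [← mul_assoc b₀ (sc u), ← (h1 b₀).eq, mul_assoc (sc u)]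
            rw [← mul_assoc a₀⁻¹ (sc w), ← (h2 a₀⁻¹).eq, mul_assoc (sc w)]
            rw [← mul_assoc (sc u)⁻¹ (sc w), ← ((h1 (sc w)).inv_left).symm.eq, mul_assoc (sc w)]
    intro g hg i j
    have hg' : g ∈ M₀ := by
      have : omegaGL ⇑Q ≤ M₀ := by
        rw [← omegaGL_perfect hB hn, Subgroup.commutator_le]
        exact fun a ha b hb => hcomm a (hle ha) b (hle hb)
      exact this hg
    obtain ⟨_, ⟨M, rfl⟩, rfl⟩ := hg'
    have e : P⁻¹ * (MulAut.conj P) (Matrix.GeneralLinearGroup.map (F₀.subtype : F₀ →+* F) M) * P =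
        Matrix.GeneralLinearGroup.map (F₀.subtype : F₀ →+* F) M := by
      simp [mul_assoc]
    simp only [MulEquiv.coe_toMonoidHom, e]
    exact ((M : Matrix (Fin n) (Fin n) F₀) i j).2
  obtain ⟨u, hu, hu0⟩ := CfsgLib.Orth.exists_nonzero_singular (Q := Q) hd
  obtain ⟨f, hf, huf⟩ := CfsgLib.Orth.exists_partner hB hu hu0
  obtain ⟨v, hv, hv0, huv, hfv⟩ := CfsgLib.Orth.exists_singular_perp hB hd u f
  choose g hg using fun t : F => CfsgLib.Orth.exists_siegel hB hu (v := t • v)
    (by rw [b_smul_right, huv, mul_zero])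
  let A : Matrix (Fin n) (Fin n) F :=
    (↑P⁻¹ : Matrix (Fin n) (Fin n) F) * (((g 1 : GL (Fin n) F) : Matrix (Fin n) (Fin n) F) - 1) * (P : Matrix (Fin n) (Fin n) F)
  have hlin : ∀ t : F, ((g t : GL (Fin n) F) : Matrix (Fin n) (Fin n) F) - 1 =
      t • (((g 1 : GL (Fin n) F) : Matrix (Fin n) (Fin n) F) - 1) := by
    intro t
    refine Matrix.toLin'.injective (LinearMap.ext fun x => ?_)
    have h1 := (hg t).2.2 x
    have h2 := (hg 1).2.2 x
    simp only [ap] at h1 h2
    simp only [Matrix.toLin'_apply, sub_mulVec, smul_mulVec, one_mulVec, h1, h2, q_smul, hv, mul_zero,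
      zero_mul, zero_smul, b_smul_right, sub_zero, one_smul, one_mul]
    module
  have hA : ∀ (t : F) i j, t * A i j ∈ F₀ := by
    intro t i j
    have h := hrat _ (El_mem_omegaGL hB hn (CfsgLib.Orth.siegel_mem_El (hg t))) i j
    have e : t * A i j = ((P⁻¹ * (g t : GL (Fin n) F) * P : GL (Fin n) F) : Matrix (Fin n) (Fin n) F) i j -
        (1 : Matrix (Fin n) (Fin n) F) i j := by
      rw [← Matrix.sub_apply, ← smul_eq_mul, ← Matrix.smul_apply]
      congr 2
      simp only [A, Units.val_mul]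
      rw [← Matrix.smul_mul, ← Matrix.mul_smul, ← hlin, Matrix.mul_sub, Matrix.sub_mul, Matrix.mul_one,
        Units.inv_mul]
    rw [e]
    refine F₀.sub_mem h ?_
    rw [Matrix.one_apply]
    split
    exacts [F₀.one_mem, F₀.zero_mem]
  obtain ⟨i, j, hij⟩ : ∃ i j, A i j ≠ 0 := by
    by_contra hall
    push Not at hall
    have hA0 : A = 0 := Matrix.ext hall
    have h1 : ((g 1 : GL (Fin n) F) : Matrix (Fin n) (Fin n) F) = 1 := by
      have : (P : Matrix (Fin n) (Fin n) F) * A * (↑P⁻¹ : Matrix (Fin n) (Fin n) F) = 0 := by simp [hA0]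
      simp only [A, ← Matrix.mul_assoc, Units.mul_inv, Matrix.one_mul] at this
      rw [Matrix.mul_assoc, Units.mul_inv, Matrix.mul_one, sub_eq_zero] at this
      exact this
    have h2 := (hg 1).2.2 f
    simp only [ap, h1, one_mulVec, one_smul, b_comm f u, huf, hfv, hv, zero_mul, zero_smul, sub_zero] at h2
    exact hv0 (left_eq_add.1 h2)
  apply hF₀
  refine eq_top_iff.2 fun x _ => ?_
  have := hA (x / A i j) i j
  rwa [div_mul_cancel₀ _ hij] at this

/-! ### Rational structures -/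

theorem exists_square_multiplier (hodd : Odd (Fintype.card F)) {F₁ : Subfield F} {r : ℕ} (hr : Odd r)
    (hcard : Fintype.card F = Nat.card F₁ ^ r) {a : F} (ha : a ≠ 0) :
    ∃ e : F, e ≠ 0 ∧ e * e / a ∈ F₁ := by
  classical
  haveI : Finite F₁ := Finite.of_injective _ Subtype.val_injective
  haveI := Fintype.ofFinite F₁
  rw [Nat.card_eq_fintype_card] at hcard
  have hchar : ringChar F ≠ 2 := fun h => by
    have h2 := two_ne_zero_of_odd hodd
    haveI : CharP F 2 := ringChar.of_eq h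
    exact h2 CharTwo.two_eq_zero
  have hchar₁ : ringChar F₁ ≠ 2 := fun h => by
    haveI : CharP F₁ 2 := ringChar.of_eq h
    exact two_ne_zero_of_odd hodd ((map_ofNat F₁.subtype 2).symm.trans
      (by rw [CharTwo.two_eq_zero, map_zero]))
  have hodd₁ : Odd (Fintype.card F₁) := by
    rw [hcard] at hodd
    exact (Nat.odd_pow_iff hr.pos.ne').1 hodd
  obtain ⟨ν, hν⟩ := FiniteField.exists_nonsquare hchar₁
  have hν0 : ν ≠ 0 := fun e => hν (e ▸ IsSquare.zero)
  have hνF : ¬ IsSquare (ν : F) := by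
    rintro ⟨b, hb⟩
    have hh : ν ^ (Fintype.card F₁ / 2) = -1 :=
      ((FiniteField.pow_dichotomy hchar₁ hν0).resolve_left fun e =>
        hν ((FiniteField.isSquare_iff hchar₁ hν0).2 e))
    have hh' := congrArg Subtype.val hh
    simp only [SubmonoidClass.coe_pow, NegMemClass.coe_neg, OneMemClass.coe_one, hb] at hh'
    obtain ⟨k, hk⟩ := hodd₁
    rw [hk, show (2 * k + 1) / 2 = k by omega, ← pow_two, ← pow_mul] at hh'
    have hbq : b ^ Fintype.card F₁ = -b := by rw [hk, pow_succ, hh', neg_one_mul]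
    have hiter : ∀ j, b ^ (Fintype.card F₁ ^ j) = (-1) ^ j * b := by
      intro j
      induction j with
      | zero => simp
      | succ j ih =>
        rw [pow_succ (Fintype.card F₁), pow_mul, ih, mul_pow, hbq, ← pow_mul]
        rw [show (-1 : F) ^ (j * Fintype.card F₁) = (-1) ^ j by
          rw [mul_comm, pow_mul, Odd.neg_one_pow ⟨k, hk⟩]]
        ring
    have h := hiter r
    rw [← hcard, FiniteField.pow_card, hr.neg_one_pow, neg_one_mul] at h
    have hb0 : b ≠ 0 := fun e => hν0 (Subtype.ext (by rw [hb, e, mul_zero]; rfl))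
    exact two_ne_zero_of_odd hodd ((mul_eq_zero.1 (show 2 * b = 0 by linear_combination h)).resolve_right hb0)
  by_cases hsq : IsSquare a
  · obtain ⟨e, he⟩ := hsq
    exact ⟨e, fun h => ha (by rw [he, h, mul_zero]), by rw [← he, div_self ha]; exact F₁.one_mem⟩
  · obtain ⟨e, he⟩ : IsSquare (a * ν) := by
      have hν0' : (ν : F) ≠ 0 := fun h => hν0 (Subtype.ext h)
      have h1 := (FiniteField.pow_dichotomy hchar ha).resolve_left fun e =>
        hsq ((FiniteField.isSquare_iff hchar ha).2 e)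
      have h2 := (FiniteField.pow_dichotomy hchar hν0').resolve_left fun e =>
        hνF ((FiniteField.isSquare_iff hchar hν0').2 e)
      exact (FiniteField.isSquare_iff hchar (mul_ne_zero ha hν0')).2 (by rw [mul_pow, h1, h2, neg_one_mul, neg_neg])
    refine ⟨e, fun h => ?_, by rw [← he, mul_div_cancel_left₀ _ ha]; exact ν.2⟩
    rw [h, mul_zero] at he
    exact mul_ne_zero ha (fun h' => hν0 (Subtype.ext h')) he

/-- A rational structure up to a scalar can be scaled to the form itself. -/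
theorem rescale (hodd : Odd (Fintype.card F)) (hB : Nondeg Q) (hn : Odd n)
    (hgram : ∀ (F₁ : Subfield F) i j, B (Pi.single i 1) (Pi.single j 1) ∈ F₁)
    {F₁ : Subfield F} {r : ℕ} (hr : r.Prime) (hcard : Fintype.card F = Nat.card F₁ ^ r)
    {P : GL (Fin n) F} {a : F} (ha : a ≠ 0)
    (hrat : ∀ u : Fin n → F, (∀ i, u i ∈ F₁) → a * Q ((P : Matrix (Fin n) (Fin n) F) *ᵥ u) ∈ F₁) :
    ∃ e : Fˣ, Cfsg.Geo.IsQuadFormRationalStructure ⇑Q F₁ (P * sc e) := by
  classical
  suffices h : ∃ e : F, e ≠ 0 ∧ e * e / a ∈ F₁ by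
    obtain ⟨e, he0, he⟩ := h
    refine ⟨Units.mk0 e he0, fun u hu => ?_⟩
    rw [Units.val_mul, ← mulVec_mulVec, sc_mulVec, mulVec_smul, q_smul, Units.val_mk0]
    have := F₁.mul_mem he (hrat u hu)
    convert this using 1
    field_simp
  by_cases hr2 : r = 2
  swap
  · exact exists_square_multiplier hodd (hr.odd_of_ne_two hr2) hcard ha
  subst hr2
  haveI : Finite F₁ := Finite.of_injective _ Subtype.val_injective
  haveI := Fintype.ofFinite F₁
  rw [Nat.card_eq_fintype_card] at hcard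
  have hchar : ringChar F ≠ 2 := fun h => by
    have h2 := two_ne_zero_of_odd hodd
    haveI : CharP F 2 := ringChar.of_eq h
    exact h2 CharTwo.two_eq_zero
  -- the elements of the subfield are squares
  have hsq : ∀ x ∈ F₁, IsSquare x := by
    intro x hx
    by_cases hx0 : x = 0
    · exact hx0 ▸ IsSquare.zero
    obtain ⟨k, hk⟩ : Odd (Fintype.card F₁) := by
      rw [hcard] at hodd
      exact (Nat.odd_pow_iff two_ne_zero).1 hodd
    refine (FiniteField.isSquare_iff hchar hx0).2 ?_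
    have h := congrArg Subtype.val (FiniteField.pow_card_sub_one_eq_one (⟨x, hx⟩ : F₁)
      fun e => hx0 (congrArg Subtype.val e))
    simp only [SubmonoidClass.coe_pow, OneMemClass.coe_one] at h
    rw [hcard, hk, show (2 * k + 1) ^ 2 / 2 = 2 * k * (k + 1) by
      rw [show (2 * k + 1) ^ 2 = 2 * (2 * k * (k + 1)) + 1 by ring]; omega, pow_mul]
    rw [hk, show 2 * k + 1 - 1 = 2 * k by omega] at h
    rw [h, one_pow]
  let G := LinearMap.BilinForm.toMatrix' (QuadraticMap.polarBilin Q)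
  have hG : ∀ i j, G i j = B (Pi.single i 1) (Pi.single j 1) := fun i j => by
    simp only [G, LinearMap.BilinForm.toMatrix'_apply, QuadraticMap.polarBilin_apply_apply]
  have hdetmem : ∀ M : Matrix (Fin n) (Fin n) F, (∀ i j, M i j ∈ F₁) → M.det ∈ F₁ := by
    intro M hM
    rw [Matrix.det_apply]
    exact F₁.sum_mem fun σ _ => zsmul_mem (F₁.prod_mem fun i _ => hM _ _) _
  have hdet0 : G.det ≠ 0 :=
    Matrix.nondegenerate_iff_det_ne_zero.1
      (LinearMap.BilinForm.nondegenerate_toMatrix'_iff.2 (CfsgLib.Orth.bilin_nondeg hB))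
  set Pm : Matrix (Fin n) (Fin n) F := (P : Matrix (Fin n) (Fin n) F) with hPm
  have hPG : ∀ i j, (Pmᵀ * G * Pm) i j = B (Pm *ᵥ Pi.single i 1) (Pm *ᵥ Pi.single j 1) := by
    intro i j
    have h := LinearMap.BilinForm.toMatrix'_comp (QuadraticMap.polarBilin Q) (Matrix.toLin' Pm) (Matrix.toLin' Pm)
    rw [LinearMap.toMatrix'_toLin'] at h
    show (Pmᵀ * LinearMap.BilinForm.toMatrix' (QuadraticMap.polarBilin Q) * Pm) i j = _
    rw [← h]
    simp [LinearMap.BilinForm.toMatrix'_apply, LinearMap.BilinForm.comp_apply]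
  have hpol : ∀ i j, a * B (Pm *ᵥ Pi.single i 1) (Pm *ᵥ Pi.single j 1) ∈ F₁ := by
    intro i j
    have hs : ∀ i : Fin n, ∀ k, (Pi.single i (1 : F) : Fin n → F) k ∈ F₁ := fun i k => by
      by_cases h : k = i
      · subst h; simp [F₁.one_mem]
      · simp [h, F₁.zero_mem]
    have h := F₁.sub_mem (F₁.sub_mem (hrat (Pi.single i 1 + Pi.single j 1) fun k => F₁.add_mem (hs i k) (hs j k))
      (hrat _ (hs i))) (hrat _ (hs j))
    convert h using 1
    simp only [QuadraticMap.polar, mulVec_add, hPm]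
    ring
  have h1 : (a • (Pmᵀ * G * Pm)).det ∈ F₁ := hdetmem _ fun i j => by
    rw [Matrix.smul_apply, smul_eq_mul, hPG]
    exact hpol i j
  obtain ⟨c, hc⟩ := hsq _ h1
  obtain ⟨g, hg⟩ := hsq _ (hdetmem G fun i j => by rw [hG]; exact hgram F₁ i j)
  rw [det_smul, det_mul, det_mul, det_transpose, Fintype.card_fin, hg] at hc
  have hP0 : Pm.det ≠ 0 := ((Matrix.isUnit_iff_isUnit_det _).1 P.isUnit).ne_zero
  have hg0 : g ≠ 0 := fun e => hdet0 (by rw [hg, e, mul_zero])
  obtain ⟨k, hk⟩ := hn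
  refine ⟨c / (Pm.det * g * a ^ k), div_ne_zero (fun e => ?_) (mul_ne_zero (mul_ne_zero hP0 hg0) (pow_ne_zero _ ha)), ?_⟩
  · rw [e, mul_zero] at hc
    simp [ha, hP0, hg0] at hc
  · have e : c / (Pm.det * g * a ^ k) * (c / (Pm.det * g * a ^ k)) / a = 1 := by
      rw [div_mul_div_comm, ← hc]
      simp only [hk]
      field_simp
      ring
    rw [e]
    exact F₁.one_mem

/-! ### Descent along a semilinear map -/

/-- A group commuting with a semilinear bijection for an involution is realised over the fixed field. -/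
theorem realisable_of_semilinear (hn : 1 ≤ n) {N : Subgroup (GL (Fin n) F)}
    (habs : ActsAbsolutelyIrreducibly (matrixSet N)) {σ : F ≃+* F} (hne : σ ≠ RingEquiv.refl F)
    (hinv : ∀ a, σ (σ a) = a) {M : (Fin n → F) → (Fin n → F)} (hMadd : ∀ x y, M (x + y) = M x + M y)
    (hMsmul : ∀ (c : F) x, M (c • x) = σ c • M x) (hMinj : ∀ v, M v = 0 → v = 0)
    (hMN : ∀ z ∈ N, ∀ y, M ((z : Matrix (Fin n) (Fin n) F) *ᵥ y) = (z : Matrix (Fin n) (Fin n) F) *ᵥ M y) :
    ∃ F₀ : Subfield F, F₀ ≠ ⊤ ∧ Cfsg.Geo.RealisableOver F₀ (matrixSet N) := by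
  classical
  haveI : Nonempty (Fin n) := ⟨⟨0, hn⟩⟩
  obtain ⟨a₀, ha₀⟩ : ∃ a, σ a ≠ a := by
    by_contra hall
    push Not at hall
    exact hne (RingEquiv.ext hall)
  let L : (Fin n → F) →ₗ[F] (Fin n → F) :=
    { toFun := fun y => M (M y)
      map_add' := fun x y => by rw [hMadd, hMadd]
      map_smul' := fun c x => by rw [hMsmul, hMsmul, hinv, RingHom.id_apply] }
  obtain ⟨c, hc⟩ := habs.2 (LinearMap.toMatrix' L) (by
    rintro _ ⟨z, hz, rfl⟩
    refine Matrix.toLin'.injective (LinearMap.ext fun v => ?_)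
    rw [Matrix.toLin'_mul, Matrix.toLin'_mul, Matrix.toLin'_toMatrix']
    simp only [LinearMap.comp_apply, Matrix.toLin'_apply]
    show M (M _) = (z : Matrix (Fin n) (Fin n) F) *ᵥ M (M v)
    rw [hMN z hz, hMN z hz])
  have hMM : ∀ v, M (M v) = c • v := fun v => by
    have := congrArg (fun X : Matrix (Fin n) (Fin n) F => X *ᵥ v) hc
    simpa [LinearMap.toMatrix'_mulVec, smul_mulVec, L] using this
  obtain ⟨v₀, hv₀⟩ := exists_ne (0 : Fin n → F)
  have hc0 : c ≠ 0 := fun e => hv₀ (hMinj _ (hMinj _ (by rw [hMM, e, zero_smul])))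
  have hcfix : σ c = c := by
    have h : M (M (M v₀)) = M (c • v₀) := by rw [hMM v₀]
    rw [hMM, hMsmul] at h
    exact (smul_left_injective F (fun e => hv₀ (hMinj _ e)) h).symm
  have hord : orderOf σ = 2 := orderOf_eq_prime (RingEquiv.ext fun x => by rw [sq]; exact hinv x) hne
  obtain ⟨d, hd⟩ := CfsgLib.AutPSL.exists_unorm_eq two_pos hord (Units.mk0 c⁻¹ (inv_ne_zero hc0))
    (by rw [Units.val_mk0, map_inv₀, hcfix])
  have he : (d : F) * σ d = c⁻¹ := by
    have h := congrArg Units.val hd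
    simp [CfsgLib.AutPSL.unorm] at h
    exact h
  let Θ : (Fin n → F) → (Fin n → F) := fun v => (d : F) • M v
  have hΘ2 : ∀ v, Θ (Θ v) = v := fun v => by
    simp only [Θ, hMsmul, hMM, smul_smul]
    rw [← mul_assoc, he, inv_mul_cancel₀ hc0, one_smul]
  have hΘadd : ∀ x y, Θ (x + y) = Θ x + Θ y := fun x y => by simp only [Θ, hMadd, smul_add]
  have hΘsmul : ∀ (a : F) x, Θ (a • x) = σ a • Θ x := fun a x => by
    simp only [Θ, hMsmul, smul_smul, mul_comm]
  let S : Set (Fin n → F) := {v | Θ v = v}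
  have hspan : Submodule.span F S = ⊤ := by
    refine eq_top_iff.2 fun v _ => ?_
    have h1 : v + Θ v ∈ S := show Θ _ = _ by rw [hΘadd, hΘ2, add_comm]
    have h2 : a₀ • v + Θ (a₀ • v) ∈ S := show Θ _ = _ by rw [hΘadd, hΘ2, add_comm]
    have e2 : v = (a₀ - σ a₀)⁻¹ • ((a₀ • v + Θ (a₀ • v)) - σ a₀ • (v + Θ v)) := by
      rw [hΘsmul, smul_add, add_sub_add_right_eq_sub, ← sub_smul, smul_smul,
        inv_mul_cancel₀ (sub_ne_zero.2 (Ne.symm ha₀)), one_smul]
    rw [e2]
    exact Submodule.smul_mem _ _ (Submodule.sub_mem _ (Submodule.subset_span h2)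
      (Submodule.smul_mem _ _ (Submodule.subset_span h1)))
  obtain ⟨f, hfS, -, hfli⟩ := Submodule.exists_fun_fin_finrank_span_eq F S
  have hdim : Module.finrank F (Submodule.span F S) = n := by rw [hspan, finrank_top, Module.finrank_fin_fun]
  let f' : Fin n → Fin n → F := f ∘ Fin.cast hdim.symm
  have hf'li : LinearIndependent F f' := hfli.comp _ (Fin.cast_injective _)
  let Bs := basisOfLinearIndependentOfCardEqFinrank hf'li (by simp)
  have hBs : ∀ i, Θ (Bs i) = Bs i := fun i => by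
    simp only [Bs, coe_basisOfLinearIndependentOfCardEqFinrank]
    exact hfS _
  refine ⟨RingHom.eqLocusField (σ : F →+* F) (RingHom.id F), fun htop => ?_, ?_⟩
  · have : a₀ ∈ RingHom.eqLocusField (σ : F →+* F) (RingHom.id F) := by rw [htop]; exact Subfield.mem_top a₀
    exact ha₀ this
  let P₀ : Matrix (Fin n) (Fin n) F := Matrix.of fun i j => Bs j i
  obtain ⟨P, hP⟩ : IsUnit P₀ := by
    rw [← Matrix.linearIndependent_cols_iff_isUnit]
    exact Bs.linearIndependent
  refine ⟨P⁻¹, ?_⟩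
  rintro _ ⟨z, hz, rfl⟩ i j
  rw [inv_inv]
  set Z : Matrix (Fin n) (Fin n) F := Matrix.of fun i j => Bs.repr ((z : Matrix (Fin n) (Fin n) F) *ᵥ Bs j) i
  have hzP : (z : Matrix (Fin n) (Fin n) F) * P₀ = P₀ * Z := Matrix.ext_of_mulVec_single fun j => by
    rw [← mulVec_mulVec, ← mulVec_mulVec, mulVec_single_one, mulVec_single_one]
    show (z : Matrix (Fin n) (Fin n) F) *ᵥ Bs j = P₀ *ᵥ fun i => Bs.repr ((z : Matrix (Fin n) (Fin n) F) *ᵥ Bs j) i
    generalize (z : Matrix (Fin n) (Fin n) F) *ᵥ Bs j = w₀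
    conv_lhs => rw [← Bs.sum_repr w₀]
    funext k
    simp only [P₀, mulVec, dotProduct, Finset.sum_apply, Pi.smul_apply, smul_eq_mul, Matrix.of_apply]
    exact Finset.sum_congr rfl fun i _ => mul_comm _ _
  rw [mul_assoc, hP, hzP, ← hP, ← mul_assoc, Units.inv_mul, one_mul]
  show σ (Z i j) = Z i j
  set w := (z : Matrix (Fin n) (Fin n) F) *ᵥ Bs j with hw
  have hΘw : Θ w = w := by
    simp only [Θ, hw, hMN z hz, ← mulVec_smul]
    exact congrArg _ (hBs j)
  have hΘsum : ∀ t : Finset (Fin n), Θ (∑ k ∈ t, Bs.repr w k • Bs k) = ∑ k ∈ t, σ (Bs.repr w k) • Bs k := by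
    intro t
    induction t using Finset.induction_on with
    | empty => simpa using hΘsmul 0 0
    | @insert k t hk ih => rw [Finset.sum_insert hk, Finset.sum_insert hk, hΘadd, hΘsmul, hBs, ih]
  have h := hΘsum Finset.univ
  rw [Bs.sum_repr, hΘw] at h
  have h2 := congrArg (fun v => Bs.repr v i) h
  simpa [Z, hw, Finsupp.single_apply] using h2.symm

end CfsgLib.PrimeDim
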