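import Cfsg.Agent.Lib.Classical.AschFormTensor
import Cfsg.Agent.Lib.Classical.AschSympHeis
import Cfsg.Agent.Lib.Classical.AschNotLe
import Cfsg.Agent.Lib.Classical.PrimeDimOrthBasic
import Cfsg.Agent.Lib.FourOrbit.Basic

set_option autoImplicit false
set_option linter.unusedSectionVars false

/-!
The symplectic classes: quadratic forms in characteristic two, tensor decompositions, almost simple groups.
-/

namespace CfsgLib.Asch

open Matrix
open Cfsg.Geo (matrixSet scalars ActsIrreducibly ActsAbsolutelyIrreducibly tensorProductSubgroup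
  tensorWreathSubgroup glReindex)
open CfsgLib.PrimeDim (Inv Nml Sesq cent mem_cent)
open scoped MatrixGroups Kronecker

variable {F : Type*} [Field F] {n : ℕ} {J : Matrix (Fin n) (Fin n) F}

local notation "τ₁" => RingEquiv.refl F

/-- Symplectic data. -/
structure SympData (J : Matrix (Fin n) (Fin n) F) : Prop where
  data : FormData (RingEquiv.refl F) J (-1)
  alt : ∀ v, sform (RingEquiv.refl F) J v v = 0

/-- `H` fixes a quadratic form with the given polar form, in characteristic two. -/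
def SQuadCase [Fintype F] (J : Matrix (Fin n) (Fin n) F) (H : Subgroup (GL (Fin n) F)) : Prop :=
  ¬ Odd (Fintype.card F) ∧ ∃ Q : (Fin n → F) → F, Cfsg.Geo.IsNondegenerateQuadraticForm Q ∧
    (∀ u v, QuadraticMap.polar Q u v = sform (RingEquiv.refl F) J u v) ∧ H ≤ Cfsg.Geo.quadSimilarityGroup Q

/-- `H` stabilises a tensor decomposition of the form. -/
def STensorCase [Fintype F] (J : Matrix (Fin n) (Fin n) F) (H : Subgroup (GL (Fin n) F)) : Prop :=
  ∃ (n₁ n₂ : ℕ) (e : Fin n ≃ Fin n₁ × Fin n₂) (P : GL (Fin n) F) (J₁ : Matrix (Fin n₁) (Fin n₁) F)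
    (J₂ : Matrix (Fin n₂) (Fin n₂) F),
    Odd (Fintype.card F) ∧ 2 ≤ n₁ ∧ 3 ≤ n₂ ∧ n₁ * n₂ = n ∧ SympData J₁ ∧ FormData (RingEquiv.refl F) J₂ 1 ∧
      fcoord (RingEquiv.refl F) J e P = J₁ ⊗ₖ J₂ ∧ H ≤ tensorProductSubgroup n₁ n₂ e P

/-- `H` stabilises a tensor power of the form. -/
def SPowerCase [Fintype F] (J : Matrix (Fin n) (Fin n) F) (H : Subgroup (GL (Fin n) F)) : Prop :=
  ∃ (k t : ℕ) (e : Fin n ≃ (Fin t → Fin k)) (P : GL (Fin n) F) (J₀ : Matrix (Fin k) (Fin k) F) (c : F),
    Odd (Fintype.card F) ∧ Odd t ∧ 3 ≤ t ∧ ¬ (Fintype.card F = 3 ∧ k = 2) ∧ k ^ t = n ∧ SympData J₀ ∧ c ≠ 0 ∧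
      fcoord (RingEquiv.refl F) J e P = c • pureMat (fun _ : Fin t => J₀) ∧ H ≤ tensorWreathSubgroup k t e P

/-- The residual class of the symplectic case. -/
abbrev SResidual (H : Subgroup (GL (Fin n) F)) : Prop := Cfsg.Geo.InSymplecticResidualClass H

theorem two_eq_zero_of_not_odd [Fintype F] (h : ¬ Odd (Fintype.card F)) : (2 : F) = 0 := by
  obtain ⟨p, hp⟩ := CharP.exists F
  obtain ⟨j, hpp, hj⟩ := FiniteField.card F p
  rw [Nat.not_odd_iff_even, hj, Nat.even_pow] at h
  obtain rfl : 2 = p := (Nat.prime_dvd_prime_iff_eq Nat.prime_two hpp).1 h.1.two_dvd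
  exact_mod_cast CharP.cast_eq_zero F 2

theorem SympData.of_skew {k : ℕ} {B : Matrix (Fin k) (Fin k) F} (h : FormData (RingEquiv.refl F) B (-1))
    (h2 : (2 : F) ≠ 0) : SympData B := by
  refine ⟨h, fun v => ?_⟩
  have e := h.swap v v
  rw [RingEquiv.refl_apply] at e
  exact (mul_eq_zero.1 (show (2 : F) * sform (RingEquiv.refl F) B v v = 0 by linear_combination e)).resolve_left h2

theorem SympData.symplectic {k : ℕ} {B : Matrix (Fin k) (Fin k) F} (h : SympData B) :
    Cfsg.Geo.IsSymplecticForm (sform (RingEquiv.refl F) B) := by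
  refine ⟨⟨sform_add_left _ _, sform_smul_left _ _, sform_add_right _ _, fun c v x => by
    rw [sform_smul_right]; rfl⟩, fun v w => ?_, h.alt, h.data.nondegenerate⟩
  have := h.data.swap v w
  rw [RingEquiv.refl_apply] at this
  rw [this]
  ring

theorem symmetric_form {k : ℕ} {B : Matrix (Fin k) (Fin k) F} (h : FormData (RingEquiv.refl F) B 1) :
    Cfsg.Geo.IsSymmetricForm (sform (RingEquiv.refl F) B) :=
  ⟨⟨sform_add_left _ _, sform_smul_left _ _, sform_add_right _ _, fun c v x => by rw [sform_smul_right]; rfl⟩,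
    fun u v => by
      have := h.swap u v
      rwa [RingEquiv.refl_apply, one_mul] at this,
    h.nondegenerate⟩

theorem polar_add {Q : (Fin n → F) → F}
    (hp : ∀ u v, QuadraticMap.polar Q u v = sform (RingEquiv.refl F) J u v) (u v : Fin n → F) :
    Q (u + v) = Q u + Q v + sform (RingEquiv.refl F) J u v := by
  rw [← hp, QuadraticMap.polar]
  ring

/-- A quadratic form vanishes on the span of a totally singular set. -/
theorem quad_span (hJ : SympData J) {Q : (Fin n → F) → F} (hQ : Cfsg.Geo.IsNondegenerateQuadraticForm Q)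
    (hp : ∀ u v, QuadraticMap.polar Q u v = sform (RingEquiv.refl F) J u v) {S : Set (Fin n → F)}
    (h0 : ∀ s ∈ S, Q s = 0) (hts : ∀ s ∈ S, ∀ s' ∈ S, sform (RingEquiv.refl F) J s s' = 0) :
    ∀ x ∈ Submodule.span F S, Q x = 0 := by
  have hf : ∀ x ∈ Submodule.span F S, ∀ y ∈ Submodule.span F S, sform (RingEquiv.refl F) J x y = 0 := by
    intro x hx
    induction hx using Submodule.span_induction with
    | mem x hx =>
      intro y hy
      induction hy using Submodule.span_induction with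
      | mem y hy => exact hts x hx y hy
      | zero => simpa using sform_smul_right (RingEquiv.refl F) J 0 x 0
      | add a b _ _ ha hb => rw [sform_add_right, ha, hb, add_zero]
      | smul c a _ ha => rw [sform_smul_right, ha, mul_zero]
    | zero => intro y _; exact sform_zero_left _ _ _
    | add a b _ _ ha hb => intro y hy; rw [sform_add_left, ha y hy, hb y hy, add_zero]
    | smul c a _ ha => intro y hy; rw [sform_smul_left, ha y hy, mul_zero]
  intro x hx
  induction hx using Submodule.span_induction with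
  | mem x hx => exact h0 x hx
  | zero => simpa using hQ.smul 0 0
  | add a b ha hb e1 e2 => rw [polar_add hp, e1, e2, hf a ha b hb, add_zero, add_zero]
  | smul c a _ ha => rw [hQ.smul, ha, mul_zero]

/-- A quadratic form vanishing on a basis. -/
theorem exists_quad (hJ : SympData J) (h20 : (2 : F) = 0) (P : GL (Fin n) F) :
    ∃ Q : (Fin n → F) → F, Cfsg.Geo.IsNondegenerateQuadraticForm Q ∧
      (∀ u v, QuadraticMap.polar Q u v = sform (RingEquiv.refl F) J u v) ∧
      ∀ i, Q (P.val *ᵥ Pi.single i 1) = 0 := by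
  classical
  obtain ⟨G, hG⟩ : ∃ G : Matrix (Fin n) (Fin n) F, G = P.valᵀ * J * P.val := ⟨_, rfl⟩
  have hGalt : ∀ i, G i i = 0 := fun i => by
    rw [← sform_single τ₁ G, hG, show P.valᵀ * J * P.val = P.valᵀ * J * bm τ₁ P.val from rfl, ← sform_mulVec]
    exact hJ.alt _
  have hGs : ∀ i j, G j i = G i j := fun i j => by
    have hs := hJ.data.swap (P.val *ᵥ Pi.single i 1) (P.val *ᵥ Pi.single j 1)
    rw [RingEquiv.refl_apply, sform_mulVec, sform_mulVec, sform_single, sform_single, bm_refl, ← hG] at hs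
    linear_combination -hs + G j i * h20
  let U : Matrix (Fin n) (Fin n) F := Matrix.of fun i j => if i < j then G i j else 0
  have hUU : U + Uᵀ = G := by
    ext i j
    rcases lt_trichotomy i j with hlt | rfl | hgt
    · simp [U, hlt, not_lt.2 hlt.le]
    · simp [U, hGalt]
    · simp [U, hgt, not_lt.2 hgt.le, hGs i j]
  let Q : (Fin n → F) → F := fun v => ((P⁻¹).val *ᵥ v) ⬝ᵥ U *ᵥ ((P⁻¹).val *ᵥ v)
  have hp : ∀ u v, QuadraticMap.polar Q u v = sform τ₁ J u v := by
    intro u v
    set x := (P⁻¹).val *ᵥ u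
    set y := (P⁻¹).val *ᵥ v
    have hJG : sform τ₁ J u v = sform τ₁ G x y := by
      rw [hG, show P.valᵀ * J * P.val = P.valᵀ * J * bm τ₁ P.val from rfl, ← sform_mulVec,
        PrimeDim.mulVec_inv_cancel, PrimeDim.mulVec_inv_cancel]
    rw [hJG, ← hUU]
    show ((P⁻¹).val *ᵥ (u + v)) ⬝ᵥ U *ᵥ ((P⁻¹).val *ᵥ (u + v)) - x ⬝ᵥ U *ᵥ x - y ⬝ᵥ U *ᵥ y =
      x ⬝ᵥ (U + Uᵀ) *ᵥ y
    rw [mulVec_add (P⁻¹).val, show (P⁻¹).val *ᵥ u = x from rfl, show (P⁻¹).val *ᵥ v = y from rfl]
    have e : x ⬝ᵥ Uᵀ *ᵥ y = y ⬝ᵥ U *ᵥ x := by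
      rw [dotProduct_mulVec, vecMul_transpose, dotProduct_comm]
    simp only [mulVec_add, add_dotProduct, dotProduct_add, add_mulVec, e]
    ring
  refine ⟨Q, ⟨fun c v => ?_, ⟨fun a b v => ?_, fun c a v => ?_, fun v a b => ?_, fun c v a => ?_⟩, fun v hv => ?_⟩,
    hp, fun i => ?_⟩
  · simp only [Q, mulVec_smul, smul_dotProduct, dotProduct_smul, smul_eq_mul]
    ring
  · simp only [hp, sform_add_left]
  · simp only [hp, sform_smul_left]
  · simp only [hp, sform_add_right]
  · simp only [hp, sform_smul_right]; rfl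
  · simp only [hp]
    exact hJ.data.nondegenerate v hv
  · simp only [Q, PrimeDim.inv_mulVec_cancel]
    simp [U]

/-- An isometry preserving the quadratic form on a basis preserves it. -/
theorem quad_iso_of_basis {Q : (Fin n → F) → F} (hQ : Cfsg.Geo.IsNondegenerateQuadraticForm Q)
    (hp : ∀ u v, QuadraticMap.polar Q u v = sform (RingEquiv.refl F) J u v) {g : GL (Fin n) F}
    (hg : Iso (RingEquiv.refl F) J g.val) {S : Set (Fin n → F)} (hS : Submodule.span F S = ⊤)
    (hSQ : ∀ s ∈ S, Q (g.val *ᵥ s) = Q s) : ∀ v, Q (g.val *ᵥ v) = Q v := by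
  intro v
  have hv : v ∈ Submodule.span F S := hS ▸ Submodule.mem_top
  induction hv using Submodule.span_induction with
  | mem x hx => exact hSQ x hx
  | zero => rw [mulVec_zero]
  | add a b _ _ ha hb => rw [mulVec_add, polar_add hp, polar_add hp, ha, hb, (iso_iff _ _ _).1 hg]
  | smul c a _ ha => rw [mulVec_smul, hQ.smul, hQ.smul, ha]

/-- The normaliser of an irreducible group fixing a quadratic form, inside the isometries of its polar form. -/
theorem quad_invariant [Fintype F] (hn : 2 ≤ n) (h20 : (2 : F) = 0) {Q : (Fin n → F) → F}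
    (hQ : Cfsg.Geo.IsNondegenerateQuadraticForm Q)
    (hp : ∀ u v, QuadraticMap.polar Q u v = sform (RingEquiv.refl F) J u v) {H N : Subgroup (GL (Fin n) F)}
    (hH : ∀ g ∈ H, Iso (RingEquiv.refl F) J g.val) (hN : Nml H N) (hirr : ActsIrreducibly (matrixSet N))
    (hfix : ∀ g ∈ N, ∀ v, Q (g.val *ᵥ v) = Q v) : H ≤ Cfsg.Geo.quadSimilarityGroup Q := by
  classical
  haveI : CharP F 2 := CharTwo.of_one_ne_zero_of_two_eq_zero one_ne_zero h20
  intro h hh
  refine ⟨1, fun v => ?_⟩
  rw [Units.val_one, one_mul]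
  let D : (Fin n → F) → F := fun v => Q (h.val *ᵥ v) + Q v
  have hDadd : ∀ a b, D (a + b) = D a + D b := fun a b => by
    simp only [D, mulVec_add, polar_add hp, (iso_iff _ _ _).1 (hH h hh)]
    linear_combination sform (RingEquiv.refl F) J a b * h20
  have hDsmul : ∀ (c : F) a, D (c • a) = c ^ 2 * D a := fun c a => by
    simp only [D, mulVec_smul, hQ.smul]
    ring
  let K : Submodule F (Fin n → F) :=
    { carrier := {v | D v = 0}
      add_mem' := fun {x y} hx hy => by
        show D (x + y) = 0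
        rw [hDadd, hx, hy, add_zero]
      zero_mem' := by simpa using hDsmul 0 0
      smul_mem' := fun c x hx => by
        show D (c • x) = 0
        rw [hDsmul, hx, mul_zero] }
  have hKinv : Inv (matrixSet N) K := by
    rintro _ ⟨g, hg, rfl⟩ x hx
    show D (g.val *ᵥ x) = 0
    have e1 : h.val *ᵥ (g.val *ᵥ x) = (h * g * h⁻¹).val *ᵥ (h.val *ᵥ x) := by
      rw [mulVec_mulVec, mulVec_mulVec, ← Units.val_mul, ← Units.val_mul, inv_mul_cancel_right]
    simp only [D, e1, hfix g hg, hfix _ (hN.conj h hh g hg)]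
    exact hx
  rcases PrimeDim.irreducible_iff.1 hirr K hKinv with hK | hK
  · exfalso
    set x : Fin n → F := Pi.single ⟨0, by omega⟩ 1 with hx
    set y : Fin n → F := Pi.single ⟨1, by omega⟩ 1 with hy
    obtain ⟨α, hα⟩ : IsSquare (D x) := FiniteField.isSquare_of_char_two (by rw [ringChar.eq F 2]) _
    obtain ⟨β, hβ⟩ : IsSquare (D y) := FiniteField.isSquare_of_char_two (by rw [ringChar.eq F 2]) _
    have hv : β • x + α • y ∈ K := by
      show D _ = 0
      rw [hDadd, hDsmul, hDsmul, hα, hβ]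
      linear_combination (α * α * β * β) * h20
    have h0 := (Submodule.eq_bot_iff K).1 hK _ hv
    have hb : β = 0 := by simpa [hx, hy, Pi.single_apply, Fin.ext_iff] using congrFun h0 ⟨0, by omega⟩
    have hyK : y ∈ K := show D y = 0 by rw [hβ, hb, mul_zero]
    have := congrFun ((Submodule.eq_bot_iff K).1 hK y hyK) ⟨1, by omega⟩
    simp [hy] at this
  · have hv : D v = 0 := (hK ▸ Submodule.mem_top : v ∈ K)
    have hv' : Q (h.val *ᵥ v) + Q v = 0 := hv
    linear_combination hv' - Q v * h20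

/-- A quadratic form from an element with adjoint one minus itself. -/
theorem quad_of_lambda [Fintype F] (hJ : SympData J) (heven : ¬ Odd (Fintype.card F)) {H : Subgroup (GL (Fin n) F)}
    (hH : ∀ g ∈ H, Iso (RingEquiv.refl F) J g.val) {l : Matrix (Fin n) (Fin n) F}
    (hl : adj (RingEquiv.refl F) J l = 1 - l)
    (hHl : ∀ g ∈ H, ∃ s : F, g.val * l = (l + s • 1) * g.val) : SQuadCase J H := by
  classical
  have h20 := two_eq_zero_of_not_odd heven
  let f := sform (RingEquiv.refl F) J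
  let Q : (Fin n → F) → F := fun v => f v (l *ᵥ v)
  have hskew : ∀ u v, f v u = f u v := fun u v => by
    have := hJ.data.swap u v
    simp only [RingEquiv.refl_apply] at this
    simp only [f]
    linear_combination -this + sform (RingEquiv.refl F) J v u * h20
  have hp : ∀ u v, QuadraticMap.polar Q u v = f u v := by
    intro u v
    have e : f v (l *ᵥ u) = f u v - f u (l *ᵥ v) := by
      rw [hskew]
      simp only [f]
      rw [sform_adj hJ.data, hl, sub_mulVec, one_mulVec]
      have := sform_add_right τ₁ J u (v - l *ᵥ v) (l *ᵥ v)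
      rw [sub_add_cancel] at this
      linear_combination -this
    show f (u + v) (l *ᵥ (u + v)) - f u (l *ᵥ u) - f v (l *ᵥ v) = _
    simp only [f, mulVec_add, sform_add_left, sform_add_right] at e ⊢
    linear_combination e
  refine ⟨heven, Q, ⟨fun c v => ?_, ⟨fun a b v => ?_, fun c a v => ?_, fun v a b => ?_, fun c v a => ?_⟩,
    fun v hv => ?_⟩, hp, fun g hg => ⟨1, fun v => ?_⟩⟩
  · simp only [Q, f, mulVec_smul, sform_smul_left, sform_smul_right, RingEquiv.refl_apply]
    ring
  · simp only [hp, f, sform_add_left]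
  · simp only [hp, f, sform_smul_left]
  · simp only [hp, f, sform_add_right]
  · simp only [hp, f, sform_smul_right]; rfl
  · simp only [hp, f]
    exact hJ.data.nondegenerate v hv
  · obtain ⟨s, hs⟩ := hHl g hg
    rw [Units.val_one, one_mul]
    have e : l *ᵥ (g.val *ᵥ v) = g.val *ᵥ (l *ᵥ v) - s • (g.val *ᵥ v) := by
      rw [mulVec_mulVec, mulVec_mulVec, hs, add_mul, add_mulVec, smul_mul, one_mul, smul_mulVec, add_sub_cancel_right]
    have := sform_add_right τ₁ J (g.val *ᵥ v) (g.val *ᵥ (l *ᵥ v) - s • (g.val *ᵥ v)) (s • (g.val *ᵥ v))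
    rw [sub_add_cancel, sform_smul_right, hJ.alt, mul_zero, add_zero, (iso_iff _ _ _).1 (hH g hg)] at this
    simp only [Q, f, e]
    exact this.symm

/-- A quadratic field without self-adjoint elements gives a quadratic form in characteristic two. -/
theorem quad_of_conjField [Fintype F] (hJ : SympData J) (heven : ¬ Odd (Fintype.card F))
    {H : Subgroup (GL (Fin n) F)} (hH : ∀ g ∈ H, Iso (RingEquiv.refl F) J g.val)
    (hK : ConjFieldCase (RingEquiv.refl F) J H) : SQuadCase J H := by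
  classical
  have h20 := two_eq_zero_of_not_odd heven
  obtain ⟨K, -, hadj, hnsa, hfix, hle⟩ := hK
  push Not at hnsa
  obtain ⟨a, ha, hane⟩ := hnsa
  have hd := hJ.data
  have hsub : ∀ X Y : Matrix (Fin n) (Fin n) F, adj τ₁ J (X - Y) = adj τ₁ J X - adj τ₁ J Y := fun X Y => by
    simp [adj, mul_sub, sub_mul]
  have hneg : ∀ X : Matrix (Fin n) (Fin n) F, -X = X := fun X => by
    ext i j
    simp only [Matrix.neg_apply]
    linear_combination -(X i j) * h20
  obtain ⟨c, hc⟩ := hfix (a + adj τ₁ J a) (add_mem ha (hadj a ha)) (by rw [adj_add, adj_adj hd, add_comm])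
  have hc0 : c ≠ 0 := fun e => hane (by
    rw [e, zero_smul] at hc
    rw [← hneg (adj τ₁ J a)]
    exact (eq_neg_of_add_eq_zero_left hc).symm)
  have hlK : c⁻¹ • a ∈ K := Subalgebra.smul_mem _ ha _
  have hl : adj τ₁ J (c⁻¹ • a) = 1 - c⁻¹ • a := by
    rw [adj_smul, RingEquiv.refl_apply, eq_sub_iff_add_eq, ← smul_add, add_comm, hc, smul_smul, inv_mul_cancel₀ hc0,
      one_smul]
  refine quad_of_lambda hJ heven hH hl fun g hg => ?_
  obtain ⟨l', hl'⟩ : ∃ l', l' = g.val * (c⁻¹ • a) * (g⁻¹ : GL (Fin n) F).val := ⟨_, rfl⟩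
  have hl'K : l' ∈ K := hl' ▸ (hle hg _).1 hlK
  obtain ⟨s, hs⟩ := hfix (l' - c⁻¹ • a) (sub_mem hl'K hlK) (by
    rw [hsub, hl', adj_conj hd (hH g hg), hl, ← hneg (g.val * (c⁻¹ • a) * (g⁻¹ : GL (Fin n) F).val - c⁻¹ • a)]
    rw [mul_sub, sub_mul, mul_one, Units.mul_inv]
    abel)
  refine ⟨s, ?_⟩
  rw [← hs, add_sub_cancel, hl', mul_assoc, Units.inv_mul, mul_one]

/-- A pair of totally singular subspaces gives a quadratic form in characteristic two. -/
theorem quad_of_tsPair [Fintype F] (hJ : SympData J) (heven : ¬ Odd (Fintype.card F))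
    {H : Subgroup (GL (Fin n) F)} (hH : ∀ g ∈ H, Iso (RingEquiv.refl F) J g.val)
    (hD : TSPairCase (RingEquiv.refl F) J H) : SQuadCase J H := by
  classical
  have h20 := two_eq_zero_of_not_odd heven
  have hd := hJ.data
  obtain ⟨k, D, -, hD, hts, hle⟩ := hD
  have hc : IsCompl (D 0) (D 1) := by
    refine ⟨hD.indep.pairwiseDisjoint (by decide : (0 : Fin 2) ≠ 1), codisjoint_iff.2 (top_le_iff.1 ?_)⟩
    rw [← hD.iSup_eq_top]
    exact iSup_le fun i => by fin_cases i <;> simp
  let p : Matrix (Fin n) (Fin n) F := LinearMap.toMatrix' ((D 0).subtype.comp (Submodule.linearProjOfIsCompl _ _ hc))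
  have hpv : ∀ v, p *ᵥ v ∈ D 0 ∧ v - p *ᵥ v ∈ D 1 := fun v => by
    rw [LinearMap.toMatrix'_mulVec]
    refine ⟨(Submodule.linearProjOfIsCompl _ _ hc v).2, ?_⟩
    have := (Submodule.linearProjOfIsCompl_apply_eq_zero_iff hc (x := v - (D 0).subtype (Submodule.linearProjOfIsCompl _ _ hc v))).1
      (by rw [map_sub]; exact sub_eq_zero.2 (Submodule.linearProjOfIsCompl_apply_left hc _).symm)
    exact this
  have hdecomp : ∀ v a b, a ∈ D 0 → b ∈ D 1 → v = a + b → p *ᵥ v = a := by
    intro v a b ha hb hv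
    have h1 : p *ᵥ v - a ∈ D 0 := sub_mem (hpv v).1 ha
    have h2 : p *ᵥ v - a ∈ D 1 := by
      have e : p *ᵥ v - a = b - (v - p *ᵥ v) := by rw [hv]; abel
      rw [e]
      exact sub_mem hb (hpv v).2
    exact sub_eq_zero.1 ((Submodule.eq_bot_iff _).1 (disjoint_iff.1 hc.disjoint) _ ⟨h1, h2⟩)
  have hl : adj τ₁ J p = 1 - p := by
    refine (adj_unique hd fun u v => ?_).symm
    rw [sub_mulVec, one_mulVec]
    have e1 := sform_add_left τ₁ J (p *ᵥ u) (u - p *ᵥ u) (v - p *ᵥ v)
    rw [add_sub_cancel, hts 1 _ (hpv u).2 _ (hpv v).2, add_zero] at e1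
    have e2 := sform_add_right τ₁ J (p *ᵥ u) (p *ᵥ v) (v - p *ᵥ v)
    rw [add_sub_cancel, hts 0 _ (hpv u).1 _ (hpv v).1, zero_add] at e2
    rw [e1, e2]
  refine quad_of_lambda hJ heven hH hl fun g hg => ?_
  obtain ⟨σ, hσ⟩ := hle hg
  have hmap : ∀ i v, v ∈ D i → g.val *ᵥ v ∈ D (σ i) := fun i v hv => hσ i ▸ ⟨v, hv, Matrix.toLin'_apply _ _⟩
  have hperm : σ 0 = 0 ∧ σ 1 = 1 ∨ σ 0 = 1 ∧ σ 1 = 0 := by
    have h01 : σ 0 ≠ σ 1 := σ.injective.ne (by decide)
    rcases Fin.exists_fin_two.1 ⟨σ 0, rfl⟩ with e | e <;> rcases Fin.exists_fin_two.1 ⟨σ 1, rfl⟩ with e' | e' <;>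
      simp_all
  rcases hperm with ⟨e0, e1⟩ | ⟨e0, e1⟩
  · refine ⟨0, Matrix.toLin'.injective (LinearMap.ext fun v => ?_)⟩
    simp only [Matrix.toLin'_apply, zero_smul, add_zero, ← mulVec_mulVec]
    symm
    refine hdecomp _ _ (g.val *ᵥ (v - p *ᵥ v)) ?_ ?_ ?_
    · exact e0 ▸ hmap 0 _ (hpv v).1
    · exact e1 ▸ hmap 1 _ (hpv v).2
    · rw [← mulVec_add, add_sub_cancel]
  · refine ⟨1, Matrix.toLin'.injective (LinearMap.ext fun v => ?_)⟩
    simp only [Matrix.toLin'_apply, one_smul, ← mulVec_mulVec, add_mulVec, one_mulVec]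
    have := hdecomp (g.val *ᵥ v) (g.val *ᵥ (v - p *ᵥ v)) (g.val *ᵥ (p *ᵥ v))
      (e1 ▸ hmap 1 _ (hpv v).2) (e0 ▸ hmap 0 _ (hpv v).1) (by rw [← mulVec_add, sub_add_cancel])
    rw [this, mulVec_sub]
    funext i
    simp only [Pi.add_apply, Pi.sub_apply]
    linear_combination ((g.val *ᵥ (p *ᵥ v)) i - (g.val *ᵥ v) i) * h20

/-! ### Tensor decompositions -/

theorem tensor_irred {H : Subgroup (GL (Fin n) F)} (hirr : ActsIrreducibly (matrixSet H)) {m t : ℕ} (hm : 1 ≤ m)
    {e : Fin n ≃ Fin m × Fin t} {P : GL (Fin n) F}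
    (hH : ∀ g ∈ H, ∃ (A : GL (Fin m) F) (C : GL (Fin t) F),
      coord e P (g : Matrix (Fin n) (Fin n) F) = (A : Matrix (Fin m) (Fin m) F) ⊗ₖ (C : Matrix (Fin t) (Fin t) F)) :
    ActsIrreducibly {C : Matrix (Fin t) (Fin t) F | ∃ g ∈ H, ∃ A : GL (Fin m) F,
      coord e P (g : Matrix (Fin n) (Fin n) F) = (A : Matrix (Fin m) (Fin m) F) ⊗ₖ C} := by
  classical
  intro W hW
  let U : Submodule F (Fin n → F) :=
    { carrier := {v | ∀ a, (fun b => ((P⁻¹).val *ᵥ v) (e.symm (a, b))) ∈ W}
      add_mem' := fun {x y} hx hy a => by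
        simp only [mulVec_add, Pi.add_apply]
        exact add_mem (hx a) (hy a)
      zero_mem' := fun a => by simp only [mulVec_zero, Pi.zero_apply]; exact zero_mem W
      smul_mem' := fun c x hx a => by
        simp only [mulVec_smul, Pi.smul_apply]
        exact W.smul_mem c (hx a) }
  have hU : Inv (matrixSet H) U := by
    rintro _ ⟨g, hg, rfl⟩ v hv a
    obtain ⟨A, C, hAC⟩ := hH g hg
    have key : (fun b => ((P⁻¹).val *ᵥ (g.val *ᵥ v)) (e.symm (a, b))) =
        ∑ a', A.val a a' • (C.val *ᵥ fun b => ((P⁻¹).val *ᵥ v) (e.symm (a', b))) := by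
      funext b
      have e1 : (P⁻¹).val *ᵥ (g.val *ᵥ v) = ((P⁻¹).val * g.val * P.val) *ᵥ ((P⁻¹).val *ᵥ v) := by
        rw [mulVec_mulVec, mulVec_mulVec]
        congr 1
        simp [mul_assoc]
      have e2 : ∀ q, ((P⁻¹).val * g.val * P.val) (e.symm (a, b)) (e.symm q) = A.val a q.1 * C.val b q.2 := fun q => by
        have := congrFun (congrFun hAC (a, b)) q
        simpa [coord] using this
      rw [e1]
      simp only [mulVec, dotProduct, Finset.sum_apply, Pi.smul_apply, smul_eq_mul]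
      rw [← e.symm.sum_comp, Fintype.sum_prod_type]
      simp only [e2, Finset.mul_sum, mul_assoc]
    show _ ∈ W
    rw [key]
    refine W.sum_mem fun a' _ => W.smul_mem _ ?_
    exact hW _ ⟨g, hg, A, hAC⟩ ⟨_, hv a', Matrix.toLin'_apply _ _⟩
  let a₀ : Fin m := ⟨0, hm⟩
  let emb : (Fin t → F) → (Fin n → F) := fun w =>
    P.val *ᵥ fun i => if (e i).1 = a₀ then w (e i).2 else 0
  have hemb : ∀ w a, (fun b => ((P⁻¹).val *ᵥ emb w) (e.symm (a, b))) = if a = a₀ then w else 0 := fun w a => by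
    funext b
    simp only [emb, PrimeDim.inv_mulVec_cancel, Equiv.apply_symm_apply]
    split <;> rfl
  rcases PrimeDim.irreducible_iff.1 hirr U hU with h | h
  · left
    refine (Submodule.eq_bot_iff W).2 fun w hw => ?_
    have hmem : emb w ∈ U := fun a => by
      rw [hemb]
      split
      · exact hw
      · exact zero_mem W
    have h1 := hemb w a₀
    rw [(Submodule.eq_bot_iff U).1 h _ hmem, if_pos rfl] at h1
    rw [← h1]
    funext b
    simp
  · right
    refine eq_top_iff.2 fun w _ => ?_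
    have h1 : emb w ∈ U := h ▸ Submodule.mem_top
    have h2 := h1 a₀
    rwa [hemb, if_pos rfl] at h2

/-- A symplectic tensor factor and a symmetric one. -/
theorem tensor_oriented [Fintype F] (hJ : SympData J) (hodd : Odd (Fintype.card F)) {H : Subgroup (GL (Fin n) F)}
    (hH : ∀ g ∈ H, Iso (RingEquiv.refl F) J g.val) {a b : ℕ} (ha : 2 ≤ a) (hb : 2 ≤ b)
    {e : Fin n ≃ Fin a × Fin b} {P : GL (Fin n) F} {J₁ : Matrix (Fin a) (Fin a) F} {J₂ : Matrix (Fin b) (Fin b) F}
    (hF : fcoord (RingEquiv.refl F) J e P = J₁ ⊗ₖ J₂) (h₁ : FormData (RingEquiv.refl F) J₁ (-1))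
    (h₂ : FormData (RingEquiv.refl F) J₂ 1)
    (hHt : ∀ g ∈ H, ∃ (A : GL (Fin a) F) (C : GL (Fin b) F) (c : F), c ≠ 0 ∧
      coord e P (g : Matrix (Fin n) (Fin n) F) = (A : Matrix (Fin a) (Fin a) F) ⊗ₖ (C : Matrix (Fin b) (Fin b) F) ∧
      C.valᵀ * J₂ * C.val = c • J₂) :
    STensorCase J H ∨ TSPairCase (RingEquiv.refl F) J H ∨ ConjFieldCase (RingEquiv.refl F) J H := by
  classical
  have h2 := PrimeDim.two_ne_zero_of_odd hodd
  have hab : a * b = n := by simpa using (Fintype.card_congr e).symm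
  by_cases hb3 : 3 ≤ b
  · exact Or.inl ⟨a, b, e, P, J₁, J₂, hodd, ha, hb3, hab, SympData.of_skew h₁ h2, h₂, hF, fun g hg => by
      obtain ⟨A, C, c, -, hAC, -⟩ := hHt g hg
      exact mem_tensor hAC⟩
  obtain rfl : b = 2 := by omega
  right
  have hs2 : J₂ᵀ = J₂ := by
    have := h₂.herm
    rwa [bm_refl, one_smul] at this
  obtain ⟨x, hx⟩ : ∃ x, x = J₂⁻¹ * jTwo F := ⟨_, rfl⟩
  have hdet : IsUnit J₂.det := h₂.det
  have hxJ : J₂ * x = jTwo F := by rw [hx, ← mul_assoc, Matrix.mul_nonsing_inv _ hdet, one_mul]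
  obtain ⟨d, hd⟩ : ∃ d, d = -(J₂.det)⁻¹ := ⟨_, rfl⟩
  have hd0 : d ≠ 0 := by
    rw [hd]
    exact neg_ne_zero.2 (inv_ne_zero hdet.ne_zero)
  have hxx : x * x = d • 1 := by
    have e01 : J₂ 1 0 = J₂ 0 1 := congrFun (congrFun hs2 0) 1
    rw [hx, Matrix.inv_def, Ring.inverse_eq_inv']
    have hdet2 := Matrix.det_fin_two J₂
    ext i j
    fin_cases i <;> fin_cases j <;>
      simp [Matrix.mul_apply, Fin.sum_univ_two, Matrix.adjugate_fin_two, jTwo, hd, e01] <;>
      field_simp [hdet.ne_zero] <;> rw [hdet2, e01] <;> ring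
  obtain ⟨X, hX⟩ : ∃ X : Matrix (Fin n) (Fin n) F,
      X = P.val * ((1 : Matrix (Fin a) (Fin a) F) ⊗ₖ x).submatrix e e * (P⁻¹).val := ⟨_, rfl⟩
  have hcX : coord e P X = (1 : Matrix (Fin a) (Fin a) F) ⊗ₖ x := by
    simp only [hX, coord, mul_assoc, Units.inv_mul_cancel_left, Units.inv_mul, mul_one,
      Matrix.submatrix_submatrix, Equiv.self_comp_symm, Matrix.submatrix_id_id]
  have hcs : ∀ c : F, coord e P (c • (1 : Matrix (Fin n) (Fin n) F)) = c • 1 := fun c => by
    ext p q
    simp [coord, Matrix.one_apply]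
  have hn : 1 ≤ n := by rw [← hab]; omega
  haveI : Nonempty (Fin a) := ⟨⟨0, by omega⟩⟩
  refine skew_line hJ.data hn h2 hH hd0 (X := X) ?_ ?_ ?_ ?_
  · apply coord_injective e P
    rw [coord_mul, hcX, hcs, ← Matrix.mul_kronecker_mul, one_mul, hxx, Matrix.kronecker_smul, one_kronecker_one]
  · refine (adj_unique hJ.data fun u v => ?_).symm
    have key : Xᵀ * J + J * X = 0 := by
      have h1 : fcoord τ₁ (Xᵀ * J + J * X) e P = 0 := by
        have e1 : fcoord τ₁ (Xᵀ * J + J * X) e P = (coord e P X)ᵀ * fcoord τ₁ J e P + fcoord τ₁ J e P * coord e P X := by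
          simp only [fcoord, coord, bm_refl, Matrix.transpose_submatrix, Matrix.submatrix_mul_equiv]
          refine Eq.trans ?_ (congrFun (congrFun (Matrix.submatrix_add _ _) _) _)
          congr 1
          have hPP : (P⁻¹).valᵀ * P.valᵀ = 1 := by rw [← Matrix.transpose_mul, Units.mul_inv, Matrix.transpose_one]
          simp only [Matrix.transpose_mul, mul_add, add_mul, mul_assoc, Units.mul_inv_cancel_left]
          congr 1
          simp only [← mul_assoc]
          simp only [mul_assoc _ (P⁻¹).valᵀ P.valᵀ, hPP, mul_one]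
        rw [e1, hcX, hF, ← Matrix.kroneckerMap_transpose, Matrix.transpose_one, ← Matrix.mul_kronecker_mul,
          ← Matrix.mul_kronecker_mul, one_mul, mul_one, hxJ]
        have e2 : xᵀ * J₂ = (jTwo F)ᵀ := by rw [← hxJ, Matrix.transpose_mul, hs2]
        rw [e2, jTwo_transpose, ← Matrix.kronecker_add, neg_smul, one_smul, neg_add_cancel, Matrix.kronecker_zero]
      have h2' : P.valᵀ * (Xᵀ * J + J * X) * P.val = 0 := by
        ext i j
        have := congrFun (congrFun h1 (e i)) (e j)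
        simpa [fcoord, bm_refl] using this
      have h3 := congrArg (fun Z => (P⁻¹).valᵀ * Z * (P⁻¹).val) h2'
      simp only [← mul_assoc, ← Matrix.transpose_mul, Units.mul_inv, Matrix.transpose_one, one_mul] at h3
      simpa [mul_assoc] using h3
    conv_lhs => rw [← one_mulVec v]
    conv_rhs => rw [← one_mulVec u]
    rw [sform_mulVec, sform_mulVec]
    simp only [bm_refl, mul_one, Matrix.transpose_one, one_mul, mul_neg]
    rw [eq_neg_of_add_eq_zero_left key]
  · intro c hc
    have h1 := congrArg (coord e P) hc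
    rw [hcX, hcs, ← one_kronecker_one, ← Matrix.kronecker_smul] at h1
    have e2 : x = c • 1 := by
      ext i j
      obtain ⟨p⟩ := (inferInstance : Nonempty (Fin a))
      have := congrFun (congrFun h1 (p, i)) (p, j)
      simpa using this
    have e3 : jTwo F = c • J₂ := by rw [← hxJ, e2, mul_smul_comm, mul_one]
    have h4 : (jTwo F)ᵀ = jTwo F := by rw [e3, Matrix.transpose_smul, hs2]
    have h5 := congrFun (congrFun h4 0) 1
    simp [jTwo] at h5
    exact h2 (by linear_combination -h5)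
  · intro g hg
    obtain ⟨A, C, c, hc, hAC, hC⟩ := hHt g hg
    refine ⟨c / C.val.det, ?_⟩
    apply coord_injective e P
    have e1 : coord e P ((c / C.val.det) • (X * g.val)) = (c / C.val.det) • coord e P (X * g.val) := by
      ext p q
      simp [coord]
    rw [coord_mul, e1, coord_mul, hcX, hAC, ← Matrix.mul_kronecker_mul, ← Matrix.mul_kronecker_mul, one_mul, mul_one,
      ← Matrix.kronecker_smul]
    congr 1
    have hdC : C.val.det ≠ 0 := ((Matrix.isUnit_iff_isUnit_det _).1 C.isUnit).ne_zero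
    obtain ⟨T, hT⟩ : IsUnit C.valᵀ := by
      rw [Matrix.isUnit_iff_isUnit_det, Matrix.det_transpose]
      exact (Matrix.isUnit_iff_isUnit_det _).1 C.isUnit
    obtain ⟨Ju, hJu⟩ := h₂.unit
    apply (Units.mul_right_inj Ju).1
    apply (Units.mul_right_inj T).1
    rw [hT, hJu]
    calc C.valᵀ * (J₂ * (C.val * x)) = (C.valᵀ * J₂ * C.val) * x := by simp only [mul_assoc]
      _ = c • jTwo F := by rw [hC, smul_mul, hxJ]
      _ = _ := by
        rw [mul_smul_comm, mul_smul_comm, ← mul_assoc J₂, hxJ, ← mul_assoc C.valᵀ, jTwo_congr, smul_smul,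
          div_mul_cancel₀ _ hdC]

/-- A tensor decomposition gives one of the classes. -/
theorem symp_tensor [Fintype F] (hJ : SympData J) {H N : Subgroup (GL (Fin n) F)}
    (hH : ∀ g ∈ H, Iso (RingEquiv.refl F) J g.val) (hirr : ActsIrreducibly (matrixSet H)) (hN : Nml H N) {m t : ℕ}
    {ρ : N → Matrix (Fin m) (Fin m) F} {e : Fin n ≃ Fin m × Fin t} {P : GL (Fin n) F} (hm : 2 ≤ m) (ht : 2 ≤ t)
    (hT : TensorData H N m t ρ e P) :
    STensorCase J H ∨ TSPairCase (RingEquiv.refl F) J H ∨ ConjFieldCase (RingEquiv.refl F) J H ∨ SQuadCase J H := by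
  classical
  haveI : Nonempty (Fin m) := ⟨⟨0, by omega⟩⟩
  haveI : Nonempty (Fin t) := ⟨⟨0, by omega⟩⟩
  obtain ⟨J₁, J₂, c₁, c₂, hcc, hF, h₁, h₂, hρ, hHt⟩ := tensor_form hJ.data hH hN (by omega) (by omega) hT
  have hsq : ∀ {k : ℕ} [Nonempty (Fin k)] {B : Matrix (Fin k) (Fin k) F} {c : F},
      FormData τ₁ B c → c * c = 1 := by
    intro k _ B c hB
    have h2 := congrArg Matrix.transpose hB.herm
    rw [Matrix.transpose_transpose, Matrix.transpose_smul, ← bm_refl B, hB.herm, bm_refl, smul_smul] at h2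
    obtain ⟨i, j, hij⟩ : ∃ i j, B i j ≠ 0 := by
      by_contra hc
      push Not at hc
      exact hB.unit.ne_zero (Matrix.ext hc)
    exact (mul_eq_right₀ hij).1 (congrFun (congrFun h2 i) j).symm
  by_cases hodd : Odd (Fintype.card F)
  · have key : (STensorCase J H ∨ TSPairCase τ₁ J H ∨ ConjFieldCase τ₁ J H) →
        STensorCase J H ∨ TSPairCase τ₁ J H ∨ ConjFieldCase τ₁ J H ∨ SQuadCase J H := by
      rintro (h | h | h)
      exacts [Or.inl h, Or.inr (Or.inl h), Or.inr (Or.inr (Or.inl h))]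
    rcases mul_self_eq_one_iff.1 (hsq h₁) with e1 | e1
    · -- the first factor is symmetric
      subst e1
      rw [one_mul] at hcc
      subst hcc
      refine key (tensor_oriented hJ hodd hH ht hm (e := e.trans (Equiv.prodComm _ _)) (P := P) ?_ h₂ h₁
        fun g hg => ?_)
      · ext p q
        have := congrFun (congrFun hF (p.2, p.1)) (q.2, q.1)
        simp only [fcoord, Matrix.submatrix_apply, Matrix.kroneckerMap_apply] at this ⊢
        simpa [mul_comm, Prod.swap] using this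
      · obtain ⟨A, C, a, b, hAC, ha, -, hA, -⟩ := hHt g hg
        exact ⟨C, A, a, ha, coord_prodComm e P _ _ _ hAC, hA⟩
    · subst e1
      obtain rfl : c₂ = 1 := by linear_combination -hcc
      refine key (tensor_oriented hJ hodd hH hm ht hF h₁ h₂ fun g hg => ?_)
      obtain ⟨A, C, a, b, hAC, -, hb, -, hC⟩ := hHt g hg
      exact ⟨A, C, b, hb, hAC, hC⟩
  refine Or.inr (Or.inr (Or.inr ?_))
  have h20 := two_eq_zero_of_not_odd hodd
  have hone : ∀ c : F, c * c = 1 → c = 1 := fun c hc =>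
    (mul_self_eq_one_iff.1 hc).elim id fun e => by rw [e]; linear_combination -h20
  have hs₁ : J₁ᵀ = J₁ := by
    have := h₁.herm
    rwa [bm_refl, hone _ (hsq h₁), one_smul] at this
  have hs₂ : J₂ᵀ = J₂ := by
    have := h₂.herm
    rwa [bm_refl, hone _ (hsq h₂), one_smul] at this
  have halt₁ := alt_of_irreducible hm h20 hs₁ hT.1.irr (by
    rintro _ ⟨x, rfl⟩
    exact ⟨1, by rw [one_smul]; exact hρ x⟩)
  have halt₂ := alt_of_irreducible ht h20 hs₂ (tensor_irred hirr (show 1 ≤ m by omega) fun g hg => by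
    obtain ⟨A, C, a, b, hAC, -⟩ := hHt g hg
    exact ⟨A, C, hAC⟩) (by
    rintro C ⟨g, hg, A, hAC⟩
    obtain ⟨A', C', a, b, hAC', -, -, -, hC'⟩ := hHt g hg
    obtain ⟨s, hs, -, eC⟩ := kron_factor (hAC.symm.trans hAC') A'.ne_zero C'.ne_zero
    refine ⟨s⁻¹ * s⁻¹ * b, ?_⟩
    rw [bm_refl] at hC'
    rw [eC, Matrix.transpose_smul, smul_mul, smul_mul, mul_smul_comm, smul_smul, hC', smul_smul])
  obtain ⟨Q, hQ, hp, hQ0⟩ := exists_quad hJ h20 P
  let pv : (Fin m → F) → (Fin t → F) → (Fin n → F) := fun u v => P.val *ᵥ ((fun q => u q.1 * v q.2) ∘ e)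
  have hpv : ∀ u v u' v', sform τ₁ J (pv u v) (pv u' v') = sform τ₁ J₁ u u' * sform τ₁ J₂ v v' := by
    intro u v u' v'
    simp only [pv]
    rw [sform_fcoord, hF]
    simp only [sform, dotProduct, mulVec, Function.comp_apply, RingEquiv.refl_apply, Matrix.kroneckerMap_apply,
      Fintype.sum_prod_type]
    rw [Finset.sum_mul_sum]
    refine Finset.sum_congr rfl fun i _ => Finset.sum_congr rfl fun j _ => ?_
    rw [mul_mul_mul_comm (u i), Finset.sum_mul_sum]
    congr 1
    exact Finset.sum_congr rfl fun k _ => Finset.sum_congr rfl fun l _ => by ring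
  have hsingle : ∀ a b, pv (Pi.single a 1) (Pi.single b 1) = P.val *ᵥ Pi.single (e.symm (a, b)) 1 := fun a b => by
    simp only [pv]
    congr 1
    funext i
    obtain ⟨⟨a', b'⟩, rfl⟩ := e.symm.surjective i
    by_cases h : (a', b') = (a, b)
    · rw [Prod.mk.injEq] at h
      simp [h.1, h.2]
    · rw [Function.comp_apply, Equiv.apply_symm_apply, Pi.single_eq_of_ne (fun h' => h (e.symm.injective h'))]
      rw [Prod.mk.injEq, not_and_or] at h
      rcases h with h | h <;> simp [Pi.single_eq_of_ne h]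
  have hz1 : ∀ a v, Q (pv (Pi.single a 1) v) = 0 := fun a v => by
    refine quad_span hJ hQ hp (S := Set.range fun b => pv (Pi.single a 1) (Pi.single b 1)) ?_ ?_ _ ?_
    · rintro _ ⟨b, rfl⟩
      show Q (pv _ _) = 0
      rw [hsingle]
      exact hQ0 _
    · rintro _ ⟨b, rfl⟩ _ ⟨b', rfl⟩
      rw [hpv, halt₁, zero_mul]
    · have : pv (Pi.single a 1) v = ∑ b, v b • pv (Pi.single a 1) (Pi.single b 1) := by
        simp only [pv, ← mulVec_smul, ← mulVec_sum]
        congr 1
        funext i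
        simp [Finset.sum_apply, Pi.single_apply, mul_comm]
      rw [this]
      exact Submodule.sum_mem _ fun b _ => Submodule.smul_mem _ _ (Submodule.subset_span ⟨b, rfl⟩)
  have hzero : ∀ u v, Q (pv u v) = 0 := fun u v => by
    refine quad_span hJ hQ hp (S := Set.range fun a => pv (Pi.single a 1) v) ?_ ?_ _ ?_
    · rintro _ ⟨a, rfl⟩
      exact hz1 a v
    · rintro _ ⟨a, rfl⟩ _ ⟨a', rfl⟩
      rw [hpv, halt₂, mul_zero]
    · have : pv u v = ∑ a, u a • pv (Pi.single a 1) v := by
        simp only [pv, ← mulVec_smul, ← mulVec_sum]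
        congr 1
        funext i
        simp [Finset.sum_apply, Pi.single_apply]
      rw [this]
      exact Submodule.sum_mem _ fun a _ => Submodule.smul_mem _ _ (Submodule.subset_span ⟨a, rfl⟩)
  refine ⟨hodd, Q, hQ, hp, fun g hg => ⟨1, ?_⟩⟩
  rw [Units.val_one]
  simp only [one_mul]
  refine quad_iso_of_basis hQ hp (hH g hg) (S := Set.range fun i => P.val *ᵥ Pi.single i (1 : F)) ?_ ?_
  · refine eq_top_iff.2 fun v _ => ?_
    have hv : v = ∑ i, ((P⁻¹).val *ᵥ v) i • (P.val *ᵥ Pi.single i (1 : F)) := by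
      conv_lhs => rw [← PrimeDim.mulVec_inv_cancel P v, pi_eq_sum_univ' ((P⁻¹).val *ᵥ v), mulVec_sum]
      simp only [mulVec_smul]
    rw [hv]
    exact Submodule.sum_mem _ fun i _ => Submodule.smul_mem _ _ (Submodule.subset_span ⟨i, rfl⟩)
  · rintro _ ⟨i, rfl⟩
    obtain ⟨A, C, a, b, hAC, -⟩ := hHt g hg
    obtain ⟨⟨x, y⟩, rfl⟩ := e.symm.surjective i
    have e1 : g.val *ᵥ (P.val *ᵥ Pi.single (e.symm (x, y)) (1 : F)) = pv (fun p => A.val p x) (fun q => C.val q y) := by
      have e2 : g.val *ᵥ (P.val *ᵥ Pi.single (e.symm (x, y)) (1 : F)) =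
          P.val *ᵥ (((P⁻¹).val * g.val * P.val) *ᵥ Pi.single (e.symm (x, y)) (1 : F)) := by
        simp only [mulVec_mulVec, mul_assoc, Units.mul_inv_cancel_left]
      rw [e2]
      simp only [pv]
      congr 1
      funext j
      obtain ⟨⟨p, q⟩, rfl⟩ := e.symm.surjective j
      have := congrFun (congrFun hAC (p, q)) (x, y)
      simpa [coord, mulVec_single_one] using this
    show Q (g.val *ᵥ (P.val *ᵥ Pi.single (e.symm (x, y)) (1 : F))) = Q (P.val *ᵥ Pi.single (e.symm (x, y)) (1 : F))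
    exact ((congrArg Q e1).trans (hzero (fun p => A.val p x) (fun q => C.val q y))).trans (hQ0 _).symm

/-! ### Almost simple groups and tensor powers -/

theorem sesq_sform {σ : F ≃+* F} {f : (Fin n → F) → (Fin n → F) → F} (hf : Sesq σ f) :
    ∀ u v, f u v = sform σ (Cfsg.Geo.gramMatrix f) u v := by
  intro u v
  have hr : ∀ (s : Finset (Fin n)) (w : Fin n → F) (c : Fin n → F),
      f w (∑ j ∈ s, c j • Pi.single j 1) = ∑ j ∈ s, σ (c j) * f w (Pi.single j 1) := by
    intro s w c
    induction s using Finset.induction_on with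
    | empty => simpa using hf.smul_right 0 w 0
    | @insert a s ha ih => rw [Finset.sum_insert ha, Finset.sum_insert ha, hf.add_right, hf.smul_right, ih]
  conv_lhs => rw [pi_eq_sum_univ' u, pi_eq_sum_univ' v, hf.sum_left]
  simp only [sform, dotProduct, mulVec, Cfsg.Geo.gramMatrix, Finset.mul_sum, Function.comp_apply]
  refine Finset.sum_congr rfl fun i _ => ?_
  rw [hf.smul_left, hr, Finset.mul_sum]
  exact Finset.sum_congr rfl fun j _ => by ring

/-- An almost simple group. -/
theorem symp_simple [Fintype F] (hJ : SympData J) (hn : 2 ≤ n) {H N : Subgroup (GL (Fin n) F)}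
    (hH : ∀ g ∈ H, Iso (RingEquiv.refl F) J g.val) (hN : Nml H N) (habs : ActsAbsolutelyIrreducibly (matrixSet N))
    (hperf : ⁅N, N⁆ = N) (hsimp : IsSimpleGroup (N ⧸ (scalars (Fin n) F).subgroupOf N))
    (hnab : ¬ IsMulCommutative (N ⧸ (scalars (Fin n) F).subgroupOf N))
    (hcent : ∀ h ∈ H, (∀ x ∈ N, h * x * h⁻¹ * x⁻¹ ∈ scalars (Fin n) F) → h ∈ scalars (Fin n) F) :
    RationalCase J H ∨ SQuadCase J H ∨ SResidual H := by
  classical
  haveI : Nonempty (Fin n) := ⟨⟨0, by omega⟩⟩
  have hn1 : 1 ≤ n := by omega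
  have hd := hJ.data
  have hJN : ∀ g ∈ N, Iso τ₁ J g.val := fun g hg => hH g (hN.le hg)
  by_cases h1 : ∃ F₀ : Subfield F, F₀ ≠ ⊤ ∧ Cfsg.Geo.RealisableOver F₀ (matrixSet N)
  · obtain ⟨F₀, hne, hr⟩ := h1
    exact Or.inl (rational_of_realisable hd hn1 hH hN habs hne hr)
  by_cases h2 : ∃ Q : (Fin n → F) → F,
      Cfsg.Geo.IsNondegenerateQuadraticForm Q ∧ Cfsg.Geo.FixesQuadForm (matrixSet N) Q
  · obtain ⟨Q, hQ, hfix⟩ := h2
    have hB := Sesq.of_bilinear hQ.polar_bilinear hQ.nondegenerate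
    obtain ⟨c, hc⟩ := invariant_unique (τ := τ₁) (fun _ => rfl) habs (B' := Cfsg.Geo.gramMatrix (QuadraticMap.polar Q))
      hd.unit (by rintro _ ⟨z, hz, rfl⟩; exact hJN z hz) (by
      rintro _ ⟨z, hz, rfl⟩
      refine (iso_iff _ _ _).2 fun u v => ?_
      rw [← sesq_sform hB, ← sesq_sform hB]
      simp only [QuadraticMap.polar, ← mulVec_add, hfix _ ⟨z, hz, rfl⟩])
    have hpol : ∀ u v, QuadraticMap.polar Q u v = c * sform τ₁ J u v := fun u v => by
      rw [sesq_sform hB, hc, sform_smul_matrix]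
    have hc0 : c ≠ 0 := fun e => by
      obtain ⟨v, hv⟩ := exists_ne (0 : Fin n → F)
      obtain ⟨⟨x, hx⟩, -⟩ := hQ.nondegenerate v hv
      exact hx (by rw [hpol, e, zero_mul])
    by_cases hodd : Odd (Fintype.card F)
    · exfalso
      obtain ⟨v, hv⟩ := exists_ne (0 : Fin n → F)
      obtain ⟨⟨x, hx⟩, -⟩ := hd.nondegenerate v hv
      have h' := hpol x v
      rw [QuadraticMap.polar_comm, hpol] at h'
      have hsk := hJ.symplectic.skew x v
      refine mul_ne_zero (PrimeDim.two_ne_zero_of_odd hodd) (mul_ne_zero hc0 hx) ?_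
      linear_combination -h' + c * hsk
    have h20 := two_eq_zero_of_not_odd hodd
    have hp' : ∀ u v, QuadraticMap.polar (fun v => c⁻¹ * Q v) u v = sform τ₁ J u v := fun u v => by
      have := hpol u v
      simp only [QuadraticMap.polar] at this ⊢
      field_simp
      linear_combination this
    have hQ' : Cfsg.Geo.IsNondegenerateQuadraticForm (fun v => c⁻¹ * Q v) := by
      refine ⟨fun a v => by rw [hQ.smul]; ring, ⟨fun a b v => ?_, fun s a v => ?_, fun v a b => ?_, fun s v a => ?_⟩,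
        fun v hv => ?_⟩
      · simp only [hp', sform_add_left]
      · simp only [hp', sform_smul_left]
      · simp only [hp', sform_add_right]
      · simp only [hp', sform_smul_right]; rfl
      · simp only [hp']
        exact hd.nondegenerate v hv
    exact Or.inr (Or.inl ⟨hodd, _, hQ', hp', quad_invariant hn h20 hQ' hp' hH hN habs.1 fun g hg v => by
      simp only [hfix _ ⟨g, hg, rfl⟩]⟩)
  refine Or.inr (Or.inr ⟨N, ⟨hN.le, hN.conj, hperf, hsimp, hnab, hcent, habs, fun F₀ hne hr => h1 ⟨F₀, hne, hr⟩⟩,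
    h2, ?_⟩)
  rintro ⟨σ, f, hf, hfix⟩
  apply h1
  have hS := Sesq.of_unitary hf
  obtain ⟨B, hB⟩ : ∃ B, B = Cfsg.Geo.gramMatrix f := ⟨_, rfl⟩
  have hfB : ∀ u v, f u v = sform σ B u v := fun u v => hB ▸ sesq_sform hS u v
  have hBinv : ∀ z ∈ N, z.valᵀ * B * bm σ z.val = B := fun z hz => (iso_iff σ B _).2 fun u v => by
    rw [← hfB, ← hfB]
    exact hfix _ ⟨z, hz, rfl⟩ u v
  refine PrimeDim.realisable_of_semilinear hn1 habs hf.ne_refl hf.involutive
    (M := fun v => J⁻¹ *ᵥ (B *ᵥ (⇑σ ∘ v))) (fun x y => ?_) (fun c x => ?_) (fun v hv => ?_) fun z hz y => ?_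
  · rw [show ⇑σ ∘ (x + y) = (⇑σ ∘ x) + (⇑σ ∘ y) from funext fun i => map_add σ _ _, mulVec_add, mulVec_add]
  · rw [show ⇑σ ∘ (c • x) = σ c • (⇑σ ∘ x) from funext fun i => map_mul σ _ _, mulVec_smul, mulVec_smul]
  · by_contra h0
    obtain ⟨⟨x, hx⟩, -⟩ := hf.nondegenerate v h0
    apply hx
    have e1 : B *ᵥ (⇑σ ∘ v) = 0 := by
      have := congrArg (fun w => J *ᵥ w) hv
      simpa [mulVec_mulVec, ← mul_assoc, Matrix.mul_nonsing_inv _ hd.det] using this
    rw [hfB, sform, e1, dotProduct_zero]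
  · simp only [← bm_mulVec, mulVec_mulVec]
    congr 1
    have e1 : z.valᵀ * J * z.val = J := hJN z hz
    obtain ⟨T, hT⟩ : IsUnit z.valᵀ := by
      rw [Matrix.isUnit_iff_isUnit_det, Matrix.det_transpose]
      exact (Matrix.isUnit_iff_isUnit_det _).1 z.isUnit
    obtain ⟨Ju, hJu⟩ := hd.unit
    apply (Units.mul_right_inj Ju).1
    apply (Units.mul_right_inj T).1
    rw [hT, hJu]
    simp only [← mul_assoc]
    rw [e1, mul_assoc z.valᵀ, Matrix.mul_nonsing_inv _ hd.det, mul_one, one_mul, hBinv z hz]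

/-- No perfect irreducible group in dimension two over three elements. -/
theorem perfect_two_three [Fintype F] (hq : Fintype.card F = 3) {G : Type*} [Group G] (M : Subgroup G)
    (hperf : ⁅M, M⁆ = M) (φ : M →* GL (Fin 2) F) : ∀ x : M, φ x = 1 := by
  classical
  haveI : Finite (GL (Fin 2) F) := Finite.of_injective _ Units.val_injective
  let K := φ.range
  have hK : ⁅K, K⁆ = K := by
    have h1 : (⊤ : Subgroup M).map φ = K := (MonoidHom.range_eq_map φ).symm
    have h2 : ⁅(⊤ : Subgroup M), (⊤ : Subgroup M)⁆ = ⊤ := by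
      apply Subgroup.map_injective M.subtype_injective
      rw [Subgroup.map_commutator, ← MonoidHom.range_eq_map, Subgroup.range_subtype, hperf]
    rw [← h1, ← Subgroup.map_commutator, h2]
  have hcard : Nat.card (GL (Fin 2) F) = 48 := by
    rw [Matrix.card_GL_field, hq]
    simp [Fin.prod_univ_two]
  have hbot : K = ⊥ := by
    by_contra hne
    haveI : Nontrivial K := (Subgroup.nontrivial_iff_ne_bot K).2 hne
    haveI : Group.IsSolvable K := CfsgLib.FourOrbit.isSolvable_of_two_primes Nat.prime_two Nat.prime_three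
      (by norm_num) fun s hs hdvd => by
        have h48 : s ∣ 2 ^ 4 * 3 := (hdvd.trans (Subgroup.card_subgroup_dvd_card K)).trans (by rw [hcard]; norm_num)
        rcases (Nat.Prime.dvd_mul hs).1 h48 with h' | h'
        · exact Or.inl ((Nat.prime_dvd_prime_iff_eq hs Nat.prime_two).1 (hs.dvd_of_dvd_pow h'))
        · exact Or.inr ((Nat.prime_dvd_prime_iff_eq hs Nat.prime_three).1 h')
    obtain ⟨d, hd⟩ := Group.IsSolvable.solvable (G := K)
    have h2 : ⁅(⊤ : Subgroup K), (⊤ : Subgroup K)⁆ = ⊤ := by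
      apply Subgroup.map_injective K.subtype_injective
      rw [Subgroup.map_commutator, ← MonoidHom.range_eq_map, Subgroup.range_subtype, hK]
    have h3 : ∀ d, derivedSeries K d = ⊤ := fun d => by
      induction d with
      | zero => rfl
      | succ d ih => rw [derivedSeries_succ, ih, h2]
    rw [h3] at hd
    exact top_ne_bot hd
  exact fun x => (Subgroup.eq_bot_iff_forall K).1 hbot _ ⟨x, rfl⟩

/-- The tensor power case. -/
theorem symp_power [Fintype F] (hJ : SympData J) (hn : 2 ≤ n) {H N : Subgroup (GL (Fin n) F)}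
    (hH : ∀ g ∈ H, Iso (RingEquiv.refl F) J g.val) (hN : Nml H N)
    {m k : ℕ} {Mf : Fin k → Subgroup (GL (Fin n) F)} {ρ : ∀ i, Mf i → Matrix (Fin m) (Fin m) F}
    {e : Fin n ≃ (Fin k → Fin m)} {P : GL (Fin n) F} (hm : 2 ≤ m) (hk : 2 ≤ k) (hcard : m ^ k = n)
    (hirr : ∀ i, ActsIrreducibly (Set.range (ρ i)))
    (hrep : ∀ i (x : Mf i), tcoord e P ((x : GL (Fin n) F) : Matrix (Fin n) (Fin n) F) = slot i (ρ i x))
    (habs : ActsAbsolutelyIrreducibly (matrixSet (⨆ i, Mf i))) (hMH : ∀ i, Mf i ≤ H)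
    (hperf : ∀ i, ⁅Mf i, Mf i⁆ = Mf i)
    (hperm : ∀ g ∈ H, ∃ σ : Equiv.Perm (Fin k), ∀ i, ∀ x ∈ Mf i, g * x * g⁻¹ ∈ Mf (σ i))
    (htrans : ∀ i₀ l, ∃ g ∈ H, ∃ σ : Equiv.Perm (Fin k), σ i₀ = l ∧ ∀ i, ∀ x ∈ Mf i, g * x * g⁻¹ ∈ Mf (σ i)) :
    SPowerCase J H ∨ SQuadCase J H := by
  classical
  let i₀ : Fin k := ⟨0, by omega⟩
  obtain ⟨J₀, c₀, c, P', hc, hc₀, hd₀, hF, habs₀, hρ₀, hle⟩ :=
    wreath_form hJ.data (by omega) hH (by omega) hirr hrep habs hMH hperm i₀ (htrans i₀)
  rw [RingEquiv.refl_apply] at hc₀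
  haveI : Nonempty (Fin m) := ⟨⟨0, by omega⟩⟩
  have hs₀ : J₀ᵀ = c₀ • J₀ := by
    have := hd₀.herm
    rwa [bm_refl] at this
  have hck : c₀ ^ k = -1 := by
    have hFd := (fcoord_data hJ.data e P').herm
    rw [hF, bm_refl, Matrix.transpose_smul, pureMat_transpose] at hFd
    simp only [hs₀, pureMat_smul, Finset.prod_const, Finset.card_univ, Fintype.card_fin, smul_smul] at hFd
    obtain ⟨i, j, hij⟩ : ∃ i j, J₀ i j ≠ 0 := by
      by_contra hc'
      push Not at hc'
      exact hd₀.unit.ne_zero (Matrix.ext hc')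
    have h' := congrFun (congrFun hFd (fun _ => i)) (fun _ => j)
    simp only [Matrix.smul_apply, smul_eq_mul, pureMat_apply, Finset.prod_const, Finset.card_univ,
      Fintype.card_fin] at h'
    refine mul_left_cancel₀ hc (mul_right_cancel₀ (pow_ne_zero k hij) ?_)
    linear_combination h'
  by_cases hodd : Odd (Fintype.card F)
  · left
    have h2 := PrimeDim.two_ne_zero_of_odd hodd
    have hc1 : c₀ = -1 := (mul_self_eq_one_iff.1 hc₀).resolve_left fun e => by
      rw [e, one_pow] at hck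
      exact h2 (by linear_combination hck)
    rw [hc1] at hd₀ hck
    have hk' : Odd k := by
      by_contra hev
      rw [(Nat.not_odd_iff_even.1 hev).neg_one_pow] at hck
      exact h2 (by linear_combination hck)
    refine ⟨m, k, e, P', J₀, c, hodd, hk', by obtain ⟨l, hl⟩ := hk'; omega, ?_, hcard,
      SympData.of_skew hd₀ h2, hc, hF, hle⟩
    rintro ⟨hq, rfl⟩
    have hslot : ∀ i (A B : Matrix (Fin 2) (Fin 2) F), slot (k := k) i (A * B) = slot i A * slot i B := fun i A B => by
      rw [slot, slot, slot, pureMat_mul]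
      congr 1
      funext l
      by_cases hl : l = i
      · subst hl; simp
      · simp [Function.update_of_ne hl]
    have hinjs : ∀ A B : Matrix (Fin 2) (Fin 2) F, slot (k := k) i₀ A = slot i₀ B → A = B := fun A B hAB => by
      ext u v
      have := congrFun (congrFun hAB (Function.update (fun _ => 0) i₀ u)) (Function.update (fun _ => 0) i₀ v)
      rw [slot_apply, slot_apply, if_pos (fun l hl => by simp [Function.update_of_ne hl]),
        if_pos (fun l hl => by simp [Function.update_of_ne hl])] at this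
      simpa using this
    let φ₀ : Mf i₀ →* Matrix (Fin 2) (Fin 2) F :=
      { toFun := ρ i₀
        map_one' := hinjs _ _ (by
          rw [← hrep, slot]
          have e1 : (Function.update (fun _ : Fin k => (1 : Matrix (Fin 2) (Fin 2) F)) i₀ 1) = fun _ => 1 := by
            funext l
            by_cases hl : l = i₀
            · subst hl; simp
            · simp [Function.update_of_ne hl]
          rw [e1, pureMat_one]
          ext p q
          simp [tcoord, Matrix.one_apply])
        map_mul' := fun x y => hinjs _ _ (by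
          rw [hslot, ← hrep, ← hrep, ← hrep, ← tcoord_mul]
          rfl) }
    have htriv := perfect_two_three hq (Mf i₀) (hperf i₀) φ₀.toHomUnits
    have hone : ∀ x : Mf i₀, ρ i₀ x = 1 := fun x => by
      have := congrArg Units.val (htriv x)
      simpa [φ₀] using this
    obtain ⟨s, hs⟩ := habs₀.2 (Matrix.single 0 1 1) (by
      rintro _ ⟨x, rfl⟩
      rw [hone, mul_one, one_mul])
    have := congrFun (congrFun hs 0) 1
    simp at this
  right
  have h20 := two_eq_zero_of_not_odd hodd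
  have hc1 : c₀ = 1 := (mul_self_eq_one_iff.1 hc₀).elim id fun e => by rw [e]; linear_combination -h20
  have halt₀ := alt_of_irreducible hm h20 (by rw [hs₀, hc1, one_smul]) (hirr i₀) (by
    rintro _ ⟨x, rfl⟩
    exact ⟨1, by rw [one_smul]; exact hρ₀ x⟩)
  obtain ⟨Q, hQ, hp, hQ0⟩ := exists_quad hJ h20 P'
  let pv : (Fin k → Fin m → F) → (Fin n → F) := fun u => P'.val *ᵥ ((fun x => ∏ i, u i (x i)) ∘ e)
  have hpv : ∀ u u', sform τ₁ J (pv u) (pv u') = c * ∏ i, sform τ₁ J₀ (u i) (u' i) := by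
    intro u u'
    simp only [pv]
    rw [sform_fcoord, hF, sform_smul_matrix]
    congr 1
    simp only [sform, dotProduct, mulVec, Function.comp_apply, RingEquiv.refl_apply, pureMat_apply]
    rw [Fintype.prod_sum]
    refine Finset.sum_congr rfl fun x _ => ?_
    rw [Finset.prod_mul_distrib, Fintype.prod_sum]
    congr 1
    exact Finset.sum_congr rfl fun y _ => Finset.prod_mul_distrib.symm
  have hzero : ∀ (s : Finset (Fin k)) (u : Fin k → Fin m → F),
      (∀ i, i ∉ s → ∃ a, u i = Pi.single a 1) → Q (pv u) = 0 := by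
    intro s
    induction s using Finset.induction_on with
    | empty =>
      intro u hu
      choose a ha using fun i => hu i (Finset.notMem_empty i)
      have e1 : pv u = P'.val *ᵥ Pi.single (e.symm a) 1 := by
        simp only [pv]
        congr 1
        funext j
        obtain ⟨x, rfl⟩ := e.symm.surjective j
        simp only [Function.comp_apply, Equiv.apply_symm_apply, ha]
        by_cases hx : x = a
        · subst hx; simp
        · obtain ⟨i, hi⟩ := Function.ne_iff.1 hx
          rw [Pi.single_eq_of_ne (fun h' => hx (e.symm.injective h')),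
            Finset.prod_eq_zero (Finset.mem_univ i) (Pi.single_eq_of_ne hi _)]
      rw [e1]
      exact hQ0 _
    | @insert l s hl ih =>
      intro u hu
      refine quad_span hJ hQ hp (S := Set.range fun a => pv (Function.update u l (Pi.single a 1))) ?_ ?_ _ ?_
      · rintro _ ⟨a, rfl⟩
        refine ih _ fun i hi => ?_
        by_cases hil : i = l
        · subst hil; exact ⟨a, Function.update_self _ _ _⟩
        · rw [Function.update_of_ne hil]
          exact hu i (by simp [hi, hil])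
      · rintro _ ⟨a, rfl⟩ _ ⟨a', rfl⟩
        rw [hpv]
        obtain ⟨j, hj⟩ : ∃ j, j ≠ l := by
          haveI : Nontrivial (Fin k) := Fin.nontrivial_iff_two_le.2 hk
          exact exists_ne l
        refine mul_eq_zero_of_right _ (Finset.prod_eq_zero (Finset.mem_univ j) ?_)
        rw [Function.update_of_ne hj, Function.update_of_ne hj, halt₀]
      · have e1 : pv u = ∑ a, u l a • pv (Function.update u l (Pi.single a 1)) := by
          simp only [pv, ← mulVec_smul, ← mulVec_sum]
          congr 1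
          funext j
          simp only [Finset.sum_apply, Pi.smul_apply, Function.comp_apply, smul_eq_mul]
          rw [Finset.sum_eq_single (e j l)]
          · rw [← Finset.mul_prod_erase _ _ (Finset.mem_univ l), ← Finset.mul_prod_erase _ _ (Finset.mem_univ l),
              Function.update_self, Pi.single_eq_same, one_mul]
            congr 1
            exact Finset.prod_congr rfl fun i hi => by rw [Function.update_of_ne (Finset.ne_of_mem_erase hi)]
          · intro a _ ha
            rw [Finset.prod_eq_zero (Finset.mem_univ l) (by rw [Function.update_self, Pi.single_eq_of_ne (Ne.symm ha)]),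
              mul_zero]
          · simp
        rw [e1]
        exact Submodule.sum_mem _ fun a _ => Submodule.smul_mem _ _ (Submodule.subset_span ⟨a, rfl⟩)
  have hQpure : ∀ u, Q (pv u) = 0 := fun u => hzero Finset.univ u fun i hi => absurd (Finset.mem_univ i) hi
  refine ⟨hodd, Q, hQ, hp, fun g hg => ⟨1, ?_⟩⟩
  rw [Units.val_one]
  simp only [one_mul]
  refine quad_iso_of_basis hQ hp (hH g hg) (S := Set.range fun i => P'.val *ᵥ Pi.single i (1 : F)) ?_ ?_
  · refine eq_top_iff.2 fun v _ => ?_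
    have hv : v = ∑ i, ((P'⁻¹).val *ᵥ v) i • (P'.val *ᵥ Pi.single i (1 : F)) := by
      conv_lhs => rw [← PrimeDim.mulVec_inv_cancel P' v, pi_eq_sum_univ' ((P'⁻¹).val *ᵥ v), mulVec_sum]
      simp only [mulVec_smul]
    rw [hv]
    exact Submodule.sum_mem _ fun i _ => Submodule.smul_mem _ _ (Submodule.subset_span ⟨i, rfl⟩)
  · rintro _ ⟨i, rfl⟩
    obtain ⟨_, ⟨w, hw, rfl⟩, hg'⟩ := hle hg
    obtain ⟨x, rfl⟩ := e.symm.surjective i
    obtain ⟨u, hu⟩ := wreathStandard_pure hw (Pi.single x 1) ⟨fun l => Pi.single (x l) 1, fun y => by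
      by_cases hy : y = x
      · subst hy; simp
      · obtain ⟨l, hl⟩ := Function.ne_iff.1 hy
        rw [Pi.single_eq_of_ne hy, Finset.prod_eq_zero (Finset.mem_univ l) (Pi.single_eq_of_ne hl _)]⟩
    have e1 : g.val *ᵥ (P'.val *ᵥ Pi.single (e.symm x) (1 : F)) = pv u := by
      have e2 : (glReindex e.symm w).val *ᵥ Pi.single (e.symm x) (1 : F) = (w.val *ᵥ Pi.single x 1) ∘ e := by
        funext j
        simp [glReindex, mulVec_single_one]
      rw [← hg']
      simp only [MulEquiv.coe_toMonoidHom, MulAut.conj_apply, Units.val_mul, ← mulVec_mulVec,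
        PrimeDim.inv_mulVec_cancel]
      rw [e2, show (w.val *ᵥ Pi.single x 1) = fun y => ∏ l, u l (y l) from funext hu]
    rw [e1, hQpure, hQ0]

end CfsgLib.Asch
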