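import Mathlib

set_option autoImplicit false
set_option linter.unusedSectionVars false

/-!
Computations with small matrices over the field of three elements.
-/

namespace CfsgLib.Asch.SympThree

open Matrix
open scoped Kronecker

abbrev M2 := Matrix (Fin 2) (Fin 2) (ZMod 3)

abbrev M4 := Matrix (Fin 2 × Fin 2) (Fin 2 × Fin 2) (ZMod 3)

/-- The matrices `i`, `j` of the quaternion group and the diagonal and antidiagonal involutions. -/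
def qi : M2 := !![0, -1; 1, 0]
def qj : M2 := !![1, 1; 1, -1]
def qz : M2 := !![1, 0; 0, -1]
def qs : M2 := !![0, 1; 1, 0]
def jj : M2 := !![0, 1; -1, 0]

/-- The quaternion group. -/
def q8 : List M2 := [1, -1, qi, -qi, qj, -qj, qi * qj, -(qi * qj)]

set_option synthInstance.maxSize 2000 in
theorem conj_q8 : ∀ a b c d : ZMod 3, a * d - b * c ≠ 0 →
    ∀ x ∈ q8, (a * d - b * c) • (!![a, b; c, d] * x * !![d, -b; -c, a]) ∈ q8 := by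
  decide +kernel

theorem q8_facts : ∀ x ∈ q8, (∀ y ∈ q8, x * y ∈ q8) ∧ (qi * x = x * qi ∨ qi * x = -(x * qi)) := by
  decide +kernel

theorem q8_mem : qi ∈ q8 ∧ (1 : M2) ∈ q8 ∧ qi * qi = -1 ∧ qi.det = 1 := by decide +kernel

/-- The quaternions inside the matrices. -/
def qI : M4 := qz ⊗ₖ qi
def qJ : M4 := qi ⊗ₖ (1 : M2)
def qK : M4 := qs ⊗ₖ qi

/-- A quaternion as a matrix. -/
def G1 (q : ZMod 3 × ZMod 3 × ZMod 3 × ZMod 3) : M4 :=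
  q.1 • 1 + q.2.1 • qI + q.2.2.1 • qJ + q.2.2.2 • qK

/-- The product of two quaternions. -/
def qmul (q r : ZMod 3 × ZMod 3 × ZMod 3 × ZMod 3) : ZMod 3 × ZMod 3 × ZMod 3 × ZMod 3 :=
  (q.1 * r.1 - q.2.1 * r.2.1 - q.2.2.1 * r.2.2.1 - q.2.2.2 * r.2.2.2,
   q.1 * r.2.1 + q.2.1 * r.1 - (q.2.2.1 * r.2.2.2 - q.2.2.2 * r.2.2.1),
   q.1 * r.2.2.1 + q.2.2.1 * r.1 - (q.2.2.2 * r.2.1 - q.2.1 * r.2.2.2),
   q.1 * r.2.2.2 + q.2.2.2 * r.1 - (q.2.1 * r.2.2.1 - q.2.2.1 * r.2.1))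

theorem quat_table : qI * qI = -1 ∧ qJ * qJ = -1 ∧ qK * qK = -1 ∧ qI * qJ = -qK ∧ qJ * qI = qK ∧
    qJ * qK = -qI ∧ qK * qJ = qI ∧ qK * qI = -qJ ∧ qI * qK = qJ := by decide +kernel

/-- The eight units and the four sign patterns. -/
def units8 : List (ZMod 3 × ZMod 3 × ZMod 3 × ZMod 3) :=
  [(1, 0, 0, 0), (-1, 0, 0, 0), (0, 1, 0, 0), (0, -1, 0, 0), (0, 0, 1, 0), (0, 0, -1, 0), (0, 0, 0, 1), (0, 0, 0, -1)]

def patterns : List (ZMod 3 × ZMod 3 × ZMod 3) := [(1, 1, 1), (1, -1, -1), (-1, 1, -1), (-1, -1, 1)]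

theorem quat_sigma : ∀ a b c d : ZMod 3, a * a + b * b + c * c + d * d = 1 → ∀ s ∈ patterns,
    ∃ u ∈ units8, qmul u (a, b, c, d) = (a, s.1 * b, s.2.1 * c, s.2.2 * d) := by
  decide +kernel

/-- The monomial group of order eight. -/
def d8 : List M2 := [1, -1, qz, -qz, qs, -qs, qi, -qi]

theorem d8_facts : ∀ A ∈ d8, (∀ B ∈ d8, A * B ∈ d8) ∧
    ∃ z ∈ [(1 : ZMod 3), -1], ∃ r ∈ [(1 : ZMod 3), -1],
      qz * A = z • (A * qz) ∧ qi * A = r • (A * qi) ∧ qs * A = (z * r) • (A * qs) := by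
  decide +kernel

theorem d8_mem : (1 : M2) ∈ d8 ∧ qz ∈ d8 ∧ qs ∈ d8 ∧ qi ∈ d8 ∧ -qz ∈ d8 ∧ -qs ∈ d8 ∧ -qi ∈ d8 ∧ (-1 : M2) ∈ d8 := by
  decide +kernel

/-- The extraspecial group of order thirty-two. -/
def S0 : Set M4 := {Z | ∃ A ∈ d8, ∃ B ∈ q8, Z = A ⊗ₖ B}

theorem S0_pattern : ∀ Z ∈ S0, ∃ s ∈ patterns,
    qI * Z = s.1 • (Z * qI) ∧ qJ * Z = s.2.1 • (Z * qJ) ∧ qK * Z = s.2.2 • (Z * qK) := by
  rintro _ ⟨A, hA, B, hB, rfl⟩
  obtain ⟨z, hz, r, hr, h1, h2, h3⟩ := (d8_facts A hA).2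
  obtain ⟨t, ht, h4⟩ : ∃ t ∈ [(1 : ZMod 3), -1], qi * B = t • (B * qi) := by
    rcases (q8_facts B hB).2 with h | h
    · exact ⟨1, by simp, by rw [h, one_smul]⟩
    · exact ⟨-1, by simp, by rw [h, neg_one_smul]⟩
  have hp : ∀ z ∈ [(1 : ZMod 3), -1], ∀ r ∈ [(1 : ZMod 3), -1], ∀ t ∈ [(1 : ZMod 3), -1],
      (z * t, r, z * r * t) ∈ patterns := by decide +kernel
  refine ⟨_, hp z hz r hr t ht, ?_, ?_, ?_⟩
  · simp only [qI, ← Matrix.mul_kronecker_mul, h1, h4, Matrix.smul_kronecker, Matrix.kronecker_smul, smul_smul, mul_comm t]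
  · simp only [qJ, ← Matrix.mul_kronecker_mul, h2, one_mul, mul_one, Matrix.smul_kronecker]
  · simp only [qK, ← Matrix.mul_kronecker_mul, h3, h4, Matrix.smul_kronecker, Matrix.kronecker_smul, smul_smul, mul_comm t]

theorem S0_mul : ∀ Z ∈ S0, ∀ Y ∈ S0, Z * Y ∈ S0 := by
  rintro _ ⟨A, hA, B, hB, rfl⟩ _ ⟨A', hA', B', hB', rfl⟩
  exact ⟨_, (d8_facts A hA).1 A' hA', _, (q8_facts B hB).1 B' hB', (Matrix.mul_kronecker_mul A A' B B').symm⟩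

theorem neg_kron (A B : M2) : -(A ⊗ₖ B) = (-A) ⊗ₖ B := by
  ext p q
  simp

theorem S0_units : ∀ Z ∈ S0, ∀ u ∈ units8, Z * G1 u ∈ S0 := by
  intro Z hZ u hu
  refine S0_mul Z hZ _ ?_
  obtain ⟨h1, hz, hs, hi, hz', hs', hi', h1'⟩ := d8_mem
  simp only [units8, List.mem_cons, List.not_mem_nil, or_false] at hu
  rcases hu with rfl | rfl | rfl | rfl | rfl | rfl | rfl | rfl
  · exact ⟨_, h1, _, q8_mem.2.1, by simp [G1]⟩
  · exact ⟨_, h1', _, q8_mem.2.1, by simp [G1, ← neg_kron]⟩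
  · exact ⟨_, hz, _, q8_mem.1, by simp [G1, qI]⟩
  · exact ⟨_, hz', _, q8_mem.1, by simp [G1, qI, ← neg_kron]⟩
  · exact ⟨_, hi, _, q8_mem.2.1, by simp [G1, qJ]⟩
  · exact ⟨_, hi', _, q8_mem.2.1, by simp [G1, qJ, ← neg_kron]⟩
  · exact ⟨_, hs, _, q8_mem.1, by simp [G1, qK]⟩
  · exact ⟨_, hs', _, q8_mem.1, by simp [G1, qK, ← neg_kron]⟩

/-- A rotation of the second line. -/
def Dm (u v : ZMod 3) : M4 := !![1, 0; 0, 0] ⊗ₖ (1 : M2) + !![0, 0; 0, 1] ⊗ₖ (u • 1 + v • qi)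

/-- The two rotations. -/
def rot (u v : ZMod 3) : Fin 2 → M2 := ![1, u • 1 + v • qi]

set_option synthInstance.maxSize 2000 in
theorem rot_facts : ∀ u v : ZMod 3, u * u + v * v = 1 →
    (∀ a, (rot u v a)ᵀ * rot u v a = 1) ∧ ∀ A ∈ d8, ∀ B ∈ q8, ∃ B' ∈ [B, rot u v 1 * B], B' ∈ q8 ∧
      ∃ A' ∈ d8, ∀ a b, A a b • (rot u v a * B * (rot u v b)ᵀ) = A' a b • B' := by
  decide +kernel

theorem Dm_apply (u v : ZMod 3) (a a' b b' : Fin 2) :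
    Dm u v (a, b) (a', b') = if a = a' then rot u v a b b' else 0 := by
  fin_cases a <;> fin_cases a' <;> simp [Dm, rot]

theorem Dm_conj (u v : ZMod 3) (huv : u * u + v * v = 1) :
    (Dm u v)ᵀ * Dm u v = 1 ∧ ∀ Z ∈ S0, Dm u v * Z * (Dm u v)ᵀ ∈ S0 := by
  obtain ⟨h1, h2⟩ := rot_facts u v huv
  constructor
  · ext ⟨a, b⟩ ⟨a', b'⟩
    simp only [Matrix.mul_apply, Matrix.transpose_apply, Fintype.sum_prod_type, Dm_apply, Matrix.one_apply,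
      Prod.mk.injEq]
    have := congrFun (congrFun (h1 a) b) b'
    simp only [Matrix.mul_apply, Matrix.transpose_apply, Matrix.one_apply] at this
    by_cases h : a = a'
    · subst h
      rw [Fin.sum_univ_two] at this
      simp [this]
    · simp [h, Ne.symm h]
  · rintro _ ⟨A, hA, B, hB, rfl⟩
    obtain ⟨B', -, hB', A', hA', h⟩ := h2 A hA B hB
    refine ⟨A', hA', B', hB', ?_⟩
    ext ⟨a, b⟩ ⟨a', b'⟩
    have := congrFun (congrFun (h a a') b) b'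
    simp only [Matrix.smul_apply, smul_eq_mul, Matrix.mul_apply, Matrix.transpose_apply] at this
    simp only [Matrix.mul_apply, Matrix.transpose_apply, Fintype.sum_prod_type, Dm_apply, Matrix.kronecker_apply]
    rw [← this]
    simp
    ring

theorem cols : ∀ a b c d e f g h : ZMod 3, a * a + b * b + c * c + d * d = 1 →
    a * e + b * f + c * g + d * h = 0 → a * f - b * e + c * h - d * g = 0 → e * e + f * f + g * g + h * h = 1 →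
    ∃ u v : ZMod 3, u * u + v * v = 1 ∧ e = -c * u - d * v ∧ f = d * u - c * v ∧ g = a * u + b * v ∧
      h = -b * u + a * v := by
  decide +kernel

/-- The imaginary unit and the form. -/
def I0 : M4 := (1 : M2) ⊗ₖ qi
def G0 : M4 := (1 : M2) ⊗ₖ jj
def gam : M4 := (1 : M2) ⊗ₖ qj
def mix : M4 := (1 : M2) ⊗ₖ !![1, 1; 0, 1]
def tv : M4 := !![1, 0; 0, 0] ⊗ₖ !![1, 1; 0, 1] + !![0, 0; 0, 1] ⊗ₖ (1 : M2)

theorem conj_small : (∀ B ∈ q8, qj * B * -qj ∈ q8) ∧ (∀ B ∈ q8, (!![1, 1; 0, 1] : M2) * B * !![1, -1; 0, 1] ∈ q8) := by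
  decide +kernel

theorem one_kron_conj {C C' : M2} (h : ∀ B ∈ q8, C * B * C' ∈ q8) :
    ∀ Z ∈ S0, ((1 : M2) ⊗ₖ C) * Z * ((1 : M2) ⊗ₖ C') ∈ S0 := by
  rintro _ ⟨A, hA, B, hB, rfl⟩
  exact ⟨A, hA, _, h B hB, by rw [← Matrix.mul_kronecker_mul, ← Matrix.mul_kronecker_mul, one_mul, mul_one]⟩

theorem gam_facts : gamᵀ * G0 * gam = G0 ∧ gam * I0 = -(I0 * gam) ∧ gam * -gam = 1 ∧ -gam * gam = 1 ∧
    ∀ Z ∈ S0, gam * Z * -gam ∈ S0 := by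
  refine ⟨?_, ?_, ?_, ?_, ?_⟩
  iterate 4 decide +kernel
  have e : -gam = (1 : M2) ⊗ₖ (-qj) := by decide +kernel
  rw [e]
  exact one_kron_conj conj_small.1

theorem mix_facts : mixᵀ * G0 * mix = G0 ∧ mix * I0 ≠ I0 * mix ∧ mix * I0 ≠ -(I0 * mix) ∧
    mix * ((1 : M2) ⊗ₖ !![1, -1; 0, 1]) = 1 ∧ ((1 : M2) ⊗ₖ !![1, -1; 0, 1]) * mix = 1 ∧
    ∀ Z ∈ S0, mix * Z * ((1 : M2) ⊗ₖ !![1, -1; 0, 1]) ∈ S0 := by
  refine ⟨?_, ?_, ?_, ?_, ?_, one_kron_conj conj_small.2⟩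
  all_goals decide +kernel

theorem tv_facts : tvᵀ * G0 * tv = G0 ∧ tv * (tv * tv) = 1 ∧ tv * tv * tv = 1 ∧
    (qs ⊗ₖ (1 : M2)) ∈ S0 ∧ ∀ Y ∈ S0, tv * (qs ⊗ₖ (1 : M2)) ≠ Y * tv := by
  refine ⟨by decide +kernel, by decide +kernel, by decide +kernel, ⟨_, d8_mem.2.2.1, _, q8_mem.2.1, rfl⟩, ?_⟩
  rintro _ ⟨A, -, B, hB, rfl⟩ h
  have h' : tv * (qs ⊗ₖ (1 : M2)) * (tv * tv) = A ⊗ₖ B := by
    rw [h, mul_assoc, show tv * (tv * tv) = 1 by decide +kernel, mul_one]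
  have e00 := congrFun (congrFun h' (0, 0)) (1, 0)
  have e01 := congrFun (congrFun h' (0, 0)) (1, 1)
  have e10 := congrFun (congrFun h' (0, 1)) (1, 0)
  have e11 := congrFun (congrFun h' (0, 1)) (1, 1)
  rw [Matrix.kronecker_apply] at e00 e01 e10 e11
  have c00 : (tv * (qs ⊗ₖ (1 : M2)) * (tv * tv)) (0, 0) (1, 0) = 1 := by decide +kernel
  have c01 : (tv * (qs ⊗ₖ (1 : M2)) * (tv * tv)) (0, 0) (1, 1) = 1 := by decide +kernel
  have c10 : (tv * (qs ⊗ₖ (1 : M2)) * (tv * tv)) (0, 1) (1, 0) = 0 := by decide +kernel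
  have c11 : (tv * (qs ⊗ₖ (1 : M2)) * (tv * tv)) (0, 1) (1, 1) = 1 := by decide +kernel
  rw [c00] at e00
  rw [c01] at e01
  rw [c10] at e10
  rw [c11] at e11
  have key : ∀ x : ZMod 3, ∀ B ∈ q8, ¬ (1 = x * B 0 0 ∧ 1 = x * B 0 1 ∧ 0 = x * B 1 0 ∧ 1 = x * B 1 1) := by
    decide +kernel
  exact key _ B hB ⟨e00, e01, e10, e11⟩

end CfsgLib.Asch.SympThree
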