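import Cfsg.Agent.Lib.Classical.AschSympCoord
import Cfsg.Agent.Lib.Classical.AschSympThreeData

set_option autoImplicit false
set_option linter.unusedSectionVars false

/-!
Over the field of three elements two kinds of geometric subgroups of symplectic groups normalise
extraspecial groups, so they are not maximal.
-/

namespace CfsgLib.Asch.SympThree

open Matrix
open Cfsg (sympForm spGL)
open CfsgLib.Asch.SympMax
open CfsgLib.Classical.SympTrans (f_self f_swap f_add_left f_add_right f_smul_left f_smul_right eq_zero_of_f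
  f_sub_left f_sub_right f_zero_left f_zero_right)
open scoped MatrixGroups Kronecker

/-- The units permuting a set of matrices by conjugation. -/
def setGroup {n R : Type*} [Fintype n] [DecidableEq n] [CommRing R] (S : Set (Matrix n n R)) :
    Subgroup (Matrix n n R)ˣ where
  carrier := {g | (fun Z => (g : Matrix n n R) * Z * (↑g⁻¹ : Matrix n n R)) '' S = S}
  one_mem' := by simp
  mul_mem' {a b} ha hb := by
    show _ '' S = S
    conv_rhs => rw [← ha, ← hb]
    rw [Set.image_image]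
    exact Set.image_congr' fun Z => by simp [mul_assoc]
  inv_mem' {a} ha := by
    show _ '' S = S
    conv_lhs => rw [← ha]
    rw [Set.image_image]
    simp [mul_assoc]

theorem setGroup_of {n R : Type*} [Fintype n] [DecidableEq n] [CommRing R] [Finite R] {S : Set (Matrix n n R)}
    {g : (Matrix n n R)ˣ} (h : ∀ Z ∈ S, ∃ Y ∈ S, (g : Matrix n n R) * Z = Y * (g : Matrix n n R)) :
    g ∈ setGroup S := by
  show _ '' S = S
  refine Set.eq_of_subset_of_ncard_le ?_ (le_of_eq (Set.ncard_image_of_injective S ?_).symm) (Set.toFinite _)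
  · rintro _ ⟨Z, hZ, rfl⟩
    obtain ⟨Y, hY, e⟩ := h Z hZ
    simpa [e, mul_assoc] using hY
  · intro Z Z' e
    simpa [← mul_assoc] using congrArg (fun X => (↑g⁻¹ : Matrix n n R) * X * (g : Matrix n n R)) e

theorem setGroup_conj {n R : Type*} [Fintype n] [DecidableEq n] [CommRing R] {S : Set (Matrix n n R)}
    {g : (Matrix n n R)ˣ} (hg : g ∈ setGroup S) {Z : Matrix n n R} (hZ : Z ∈ S) :
    ∃ Y ∈ S, (g : Matrix n n R) * Z = Y * (g : Matrix n n R) :=
  ⟨_, (show _ '' S = S from hg).subset ⟨Z, hZ, rfl⟩, by simp [mul_assoc]⟩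

variable {F : Type*} [Field F] [Fintype F] {m : ℕ} {μ : Type} [Fintype μ] [DecidableEq μ]

theorem map_congr (φ : ZMod 3 ≃+* F) (w G : Matrix μ μ (ZMod 3)) :
    (φ.toRingHom.mapMatrix w)ᵀ * φ.toRingHom.mapMatrix G * φ.toRingHom.mapMatrix w =
      φ.toRingHom.mapMatrix (wᵀ * G * w) := by
  rw [map_mul, map_mul]
  rfl

theorem mapMatrix_injective (φ : ZMod 3 ≃+* F) :
    Function.Injective (φ.toRingHom.mapMatrix : Matrix μ μ (ZMod 3) →+* Matrix μ μ F) :=
  fun X Y h => Matrix.ext fun i j => φ.injective (congrFun (congrFun h i) j)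

/-- The coordinate map from matrices over three elements. -/
def psi (φ : ZMod 3 ≃+* F) (e : (Fin m ⊕ Fin m) ≃ μ) (P : GL (Fin m ⊕ Fin m) F) :
    (Matrix μ μ (ZMod 3))ˣ →* GL (Fin m ⊕ Fin m) F :=
  (cmap e P).comp (Units.map φ.toRingHom.mapMatrix.toMonoidHom)

theorem psi_injective (φ : ZMod 3 ≃+* F) (e : (Fin m ⊕ Fin m) ≃ μ) (P : GL (Fin m ⊕ Fin m) F) :
    Function.Injective (psi φ e P) := by
  refine (cmap_injective e P).comp fun a b h => Units.ext (mapMatrix_injective φ ?_)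
  exact congrArg (fun x : GL μ F => (x : Matrix μ μ F)) h

theorem psi_mem_iff {φ : ZMod 3 ≃+* F} {e : (Fin m ⊕ Fin m) ≃ μ} {P : GL (Fin m ⊕ Fin m) F} {c : F} (hc : c ≠ 0)
    {G : Matrix μ μ (ZMod 3)} (hco : Coord e P (c • φ.toRingHom.mapMatrix G)) (w : (Matrix μ μ (ZMod 3))ˣ) :
    psi φ e P w ∈ spGL m F ↔ (w : Matrix μ μ (ZMod 3))ᵀ * G * (w : Matrix μ μ (ZMod 3)) = G := by
  rw [psi, MonoidHom.comp_apply, hco.mem_iff, mul_smul_comm, smul_mul_assoc]
  show c • ((φ.toRingHom.mapMatrix (w : Matrix μ μ (ZMod 3)))ᵀ * _ * φ.toRingHom.mapMatrix (w : Matrix μ μ (ZMod 3))) = _ ↔ _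
  rw [map_congr, (smul_right_injective _ hc).eq_iff, (mapMatrix_injective φ).eq_iff]

/-- A proper overgroup contradicts maximality. -/
theorem not_maximal {φ : ZMod 3 ≃+* F} {e : (Fin m ⊕ Fin m) ≃ μ} {P : GL (Fin m ⊕ Fin m) F} {c : F} (hc : c ≠ 0)
    {G : Matrix μ μ (ZMod 3)} (hco : Coord e P (c • φ.toRingHom.mapMatrix G))
    {H : Subgroup (GL (Fin m ⊕ Fin m) F)} (hH : Cfsg.Geo.IsMaximalIn (spGL m F) H)
    (M : Subgroup (Matrix μ μ (ZMod 3))ˣ) (hle : H ≤ M.map (psi φ e P))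
    {g t : (Matrix μ μ (ZMod 3))ˣ} (hg : g ∈ M)
    (hgG : (g : Matrix μ μ (ZMod 3))ᵀ * G * (g : Matrix μ μ (ZMod 3)) = G) (hgH : psi φ e P g ∉ H)
    (htG : (t : Matrix μ μ (ZMod 3))ᵀ * G * (t : Matrix μ μ (ZMod 3)) = G) (htM : t ∉ M) : False := by
  rcases hH.2 (M.map (psi φ e P) ⊓ spGL m F) (le_inf hle hH.1.le) inf_le_right with h | h
  · exact hgH (h ▸ ⟨⟨g, hg, rfl⟩, (psi_mem_iff hc hco g).2 hgG⟩)
  · have ht : psi φ e P t ∈ M.map (psi φ e P) ⊓ spGL m F := h.symm ▸ (psi_mem_iff hc hco t).2 htG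
    exact htM ((Subgroup.mem_map_iff_mem (psi_injective φ e P)).1 ht.1)

/-! ### Three factors of dimension two -/

/-- Pure tensors of quaternions. -/
def pureSet : Set (Matrix (Fin 3 → Fin 2) (Fin 3 → Fin 2) (ZMod 3)) :=
  {M | ∃ Q : Fin 3 → M2, (∀ l, Q l ∈ q8) ∧ M = pureMat Q}

instance : Fact (Nat.Prime 3) := ⟨Nat.prime_three⟩

theorem pure_mem {w : (Matrix (Fin 3 → Fin 2) (Fin 3 → Fin 2) (ZMod 3))ˣ} {A : Fin 3 → M2}
    (hA : ∀ l, (A l).det ≠ 0) (hw : (w : Matrix (Fin 3 → Fin 2) (Fin 3 → Fin 2) (ZMod 3)) = pureMat A) :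
    w ∈ setGroup pureSet := by
  refine setGroup_of ?_
  rintro _ ⟨Q, hQ, rfl⟩
  have hdet : ∀ l, (A l).det = A l 0 0 * A l 1 1 - A l 0 1 * A l 1 0 := fun l => Matrix.det_fin_two _
  have hAe : ∀ l, !![A l 0 0, A l 0 1; A l 1 0, A l 1 1] = A l := fun l => (Matrix.eta_fin_two _).symm
  refine ⟨pureMat fun l => (A l).det • (A l * Q l * !![A l 1 1, -A l 0 1; -A l 1 0, A l 0 0]), ⟨_, fun l => ?_, rfl⟩, ?_⟩
  · have := conj_q8 (A l 0 0) (A l 0 1) (A l 1 0) (A l 1 1) (hdet l ▸ hA l) (Q l) (hQ l)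
    rwa [← hdet, hAe] at this
  · rw [hw, pureMat_mul, pureMat_mul]
    congr 1
    funext l
    have hadj : !![A l 1 1, -A l 0 1; -A l 1 0, A l 0 0] * A l = (A l).det • (1 : M2) := by
      ext a b
      fin_cases a <;> fin_cases b <;> simp [hdet, Matrix.mul_apply, Fin.sum_univ_two] <;> ring
    have hsq : (A l).det * (A l).det = 1 := by
      have : ∀ x : ZMod 3, x ≠ 0 → x * x = 1 := by decide
      exact this _ (hA l)
    rw [smul_mul_assoc, mul_assoc _ _ (A l), hadj, mul_smul_comm, mul_one, smul_smul, hsq, one_smul]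

theorem perm_mem {w : (Matrix (Fin 3 → Fin 2) (Fin 3 → Fin 2) (ZMod 3))ˣ} (σ : Equiv.Perm (Fin 3))
    (hw : (w : Matrix (Fin 3 → Fin 2) (Fin 3 → Fin 2) (ZMod 3)) = permMat σ) : w ∈ setGroup pureSet := by
  refine setGroup_of ?_
  rintro _ ⟨Q, hQ, rfl⟩
  refine ⟨pureMat fun l => Q (σ.symm l), ⟨_, fun l => hQ _, rfl⟩, ?_⟩
  rw [hw]
  ext x y
  rw [pureMat_mul_permMat]
  simp [Matrix.mul_apply, permMat, pureMat_apply]

theorem one_add_gram {n : Type*} [Fintype n] [DecidableEq n] {X G : Matrix n n (ZMod 3)} (hX : X * X = -1)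
    (hG : Xᵀ * G * X = G) : (1 + X)ᵀ * G * (1 + X) = (2 : ZMod 3) • G := by
  have h1 : Xᵀ * G = -(G * X) := by
    calc Xᵀ * G = -(Xᵀ * G * X * X) := by rw [mul_assoc _ X X, hX, mul_neg, mul_one, neg_neg]
      _ = _ := by rw [hG]
  rw [Matrix.transpose_add, Matrix.transpose_one, add_mul, one_mul, add_mul, mul_add, mul_one, mul_add, hG,
    mul_one, h1, two_smul]
  abel

/-- The unit `1 + X` for a square root `X` of `-1`. -/
def onePlus {n : Type*} [Fintype n] [DecidableEq n] (X : Matrix n n (ZMod 3)) (hX : X * X = -1) :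
    (Matrix n n (ZMod 3))ˣ :=
  ⟨1 + X, -(1 - X), by
    rw [mul_neg, add_mul, one_mul, mul_sub, mul_one, hX]
    have : (1 : Matrix n n (ZMod 3)) + 1 + 1 = 0 := by
      ext i j
      by_cases h : i = j
      · subst h; simp; decide
      · simp [h]
    calc -(1 - X + (X - -1)) = -((1 : Matrix n n (ZMod 3)) + 1) := by abel
      _ = 1 + -((1 : Matrix n n (ZMod 3)) + 1 + 1) := by abel
      _ = 1 := by rw [this, neg_zero, add_zero], by
    rw [neg_mul, sub_mul, one_mul, mul_add, mul_one, hX]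
    have : (1 : Matrix n n (ZMod 3)) + 1 + 1 = 0 := by
      ext i j
      by_cases h : i = j
      · subst h; simp; decide
      · simp [h]
    calc -(1 + X - (X + -1)) = -((1 : Matrix n n (ZMod 3)) + 1) := by abel
      _ = 1 + -((1 : Matrix n n (ZMod 3)) + 1 + 1) := by abel
      _ = 1 := by rw [this, neg_zero, add_zero]⟩

theorem onePlus_pure {U : Fin 3 → M2} (hU : ∀ l, U l = 1 ∨ U l = qi)
    (hX : pureMat U * pureMat U = -1) : onePlus (pureMat U) hX ∈ setGroup pureSet := by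
  refine setGroup_of ?_
  rintro _ ⟨Q, hQ, rfl⟩
  have hUq : ∀ l, U l ∈ q8 := fun l => by rcases hU l with h | h <;> rw [h]; exacts [q8_mem.2.1, q8_mem.1]
  have hε : ∀ l, ∃ ε : ZMod 3, (ε = 1 ∨ ε = -1) ∧ U l * Q l = ε • (Q l * U l) := by
    intro l
    rcases hU l with h | h
    · exact ⟨1, Or.inl rfl, by rw [h, one_mul, mul_one, one_smul]⟩
    · rcases (q8_facts _ (hQ l)).2 with e | e
      · exact ⟨1, Or.inl rfl, by rw [h, e, one_smul]⟩
      · exact ⟨-1, Or.inr rfl, by rw [h, e, neg_one_smul]⟩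
  choose ε hε1 hεc using hε
  have hcomm : pureMat U * pureMat Q = (∏ l, ε l) • (pureMat Q * pureMat U) := by
    rw [pureMat_mul, pureMat_mul, ← pureMat_smul]
    exact congrArg pureMat (funext hεc)
  have hprod : ∏ l, ε l = 1 ∨ ∏ l, ε l = -1 := by
    rw [Fin.prod_univ_three]
    rcases hε1 0 with a | a <;> rcases hε1 1 with b | b <;> rcases hε1 2 with c | c <;> simp [a, b, c]
  show ∃ Y ∈ pureSet, (1 + pureMat U) * pureMat Q = Y * (1 + pureMat U)
  rcases hprod with h | h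
  · rw [h, one_smul] at hcomm
    exact ⟨_, ⟨Q, hQ, rfl⟩, by rw [add_mul, one_mul, mul_add, mul_one, hcomm]⟩
  · refine ⟨pureMat U * pureMat Q, ⟨_, fun l => (q8_facts _ (hUq l)).1 _ (hQ l), pureMat_mul U Q⟩, ?_⟩
    rw [h, neg_one_smul] at hcomm
    rw [add_mul, one_mul, mul_add, mul_one, mul_assoc (pureMat U) (pureMat Q),
      show pureMat Q * pureMat U = -(pureMat U * pureMat Q) by rw [hcomm, neg_neg], mul_neg, ← mul_assoc, hX,
      neg_mul, one_mul, neg_neg, add_comm]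

theorem jj_congr (A : M2) : A.transpose * jj * A = A.det • jj := jTwo_congr (F := ZMod 3) A

/-- The stabiliser of three planes as tensor factors is not maximal over three elements. -/
theorem wreath_three (hq : Fintype.card F = 3) {e : (Fin m ⊕ Fin m) ≃ (Fin 3 → Fin 2)} {P : GL (Fin m ⊕ Fin m) F}
    {c : F} (hc : c ≠ 0) (hco : Coord e P (c • pureMat fun _ : Fin 3 => jTwo F))
    {H : Subgroup (GL (Fin m ⊕ Fin m) F)} (hH : Cfsg.Geo.IsMaximalIn (spGL m F) H)
    (hle : H ≤ Cfsg.Geo.tensorWreathSubgroup 2 3 e P) : False := by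
  classical
  haveI : Finite (ZMod 3) := inferInstance
  let φ : ZMod 3 ≃+* F := ZMod.ringEquivOfPrime F Nat.prime_three hq
  set G : Matrix (Fin 3 → Fin 2) (Fin 3 → Fin 2) (ZMod 3) := pureMat fun _ => jj with hGdef
  have hG : φ.toRingHom.mapMatrix G = pureMat fun _ : Fin 3 => jTwo F := by
    ext x y
    have he : ∀ a b, φ (jj a b) = jTwo F a b := by
      intro a b
      fin_cases a <;> fin_cases b <;> simp [jj, jTwo, map_neg]
    simp only [G, RingHom.mapMatrix_apply, Matrix.map_apply, pureMat_apply, map_prod]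
    exact Finset.prod_congr rfl fun i _ => he _ _
  rw [← hG] at hco
  have hwle : (Cfsg.Geo.tensorWreathStandard 2 3 F) ≤
      (setGroup pureSet).map (Units.map φ.toRingHom.mapMatrix.toMonoidHom) := by
    refine (Subgroup.closure_le _).2 fun w hw => ?_
    let w₀ : (Matrix (Fin 3 → Fin 2) (Fin 3 → Fin 2) (ZMod 3))ˣ := Units.map φ.symm.toRingHom.mapMatrix.toMonoidHom w
    refine ⟨w₀, ?_, Units.ext (Matrix.ext fun x y => φ.apply_symm_apply _)⟩
    rcases hw with ⟨gs, hgs⟩ | ⟨σ, hσ⟩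
    · refine pure_mem (A := fun l => φ.symm.toRingHom.mapMatrix (gs l : Matrix (Fin 2) (Fin 2) F)) (fun l => ?_) ?_
      · rw [← RingHom.map_det]
        exact (map_ne_zero_iff _ φ.symm.injective).2 (Matrix.GeneralLinearGroup.det (gs l)).ne_zero
      · ext x y
        show φ.symm ((w : Matrix (Fin 3 → Fin 2) (Fin 3 → Fin 2) F) x y) = _
        rw [hgs, map_prod]
        rfl
    · refine perm_mem σ ?_
      ext x y
      show φ.symm ((w : Matrix (Fin 3 → Fin 2) (Fin 3 → Fin 2) F) x y) = _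
      rw [hσ]
      simp only [permMat, Matrix.of_apply]
      split_ifs <;> simp
  have hH' : H ≤ (setGroup pureSet).map (psi φ e P) := by
    refine hle.trans ?_
    rw [wreath_eq, psi, ← Subgroup.map_map]
    exact Subgroup.map_mono hwle
  -- the extra element
  let U : Fin 3 → M2 := fun _ => qi
  let V : Fin 3 → M2 := ![qi, 1, 1]
  have hU : pureMat U * pureMat U = -1 := by
    rw [pureMat_mul, show (fun i => U i * U i) = fun i => (-1 : ZMod 3) • (1 : M2) from
      funext fun i => by rw [neg_one_smul]; exact q8_mem.2.2.1, pureMat_smul, pureMat_one]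
    simp
  have hV : pureMat V * pureMat V = -1 := by
    rw [pureMat_mul, show (fun i => V i * V i) = fun i => (![-1, 1, 1] : Fin 3 → ZMod 3) i • (1 : M2) from
      funext fun i => by fin_cases i <;> simp [V, q8_mem.2.2.1], pureMat_smul, pureMat_one]
    simp [Fin.prod_univ_three]
  have hgram : ∀ W : Fin 3 → M2, (∀ l, W l = 1 ∨ W l = qi) → (pureMat W)ᵀ * G * pureMat W = G := by
    intro W hW
    rw [pureMat_transpose, hGdef, pureMat_mul, pureMat_mul]
    refine congrArg pureMat (funext fun l => ?_)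
    rw [jj_congr]
    rcases hW l with h | h <;> simp [h, q8_mem.2.2.2]
  have hUm : ∀ l, U l = 1 ∨ U l = qi := fun l => Or.inr rfl
  have hVm : ∀ l, V l = 1 ∨ V l = qi := fun l => by fin_cases l <;> simp [V]
  let g := onePlus (pureMat U) hU * onePlus (pureMat V) hV
  have hg : g ∈ setGroup pureSet := mul_mem (onePlus_pure hUm hU) (onePlus_pure hVm hV)
  have hgG : (g : Matrix (Fin 3 → Fin 2) (Fin 3 → Fin 2) (ZMod 3))ᵀ * G *
      (g : Matrix (Fin 3 → Fin 2) (Fin 3 → Fin 2) (ZMod 3)) = G := by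
    show ((1 + pureMat U) * (1 + pureMat V))ᵀ * G * ((1 + pureMat U) * (1 + pureMat V)) = G
    rw [Matrix.transpose_mul, show ∀ A B : Matrix (Fin 3 → Fin 2) (Fin 3 → Fin 2) (ZMod 3),
      A * B * G * ((1 + pureMat U) * (1 + pureMat V)) = A * (B * G * (1 + pureMat U)) * (1 + pureMat V) from
      fun A B => by simp only [mul_assoc], one_add_gram hU (hgram U hUm), mul_smul_comm, smul_mul_assoc,
      one_add_gram hV (hgram V hVm), smul_smul, show (2 : ZMod 3) * 2 = 1 from rfl, one_smul]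
  have hgH : psi φ e P g ∉ H := by
    intro hmem
    have hm2 := hle hmem
    rw [wreath_eq, psi, MonoidHom.comp_apply, Subgroup.mem_map_iff_mem (cmap_injective e P)] at hm2
    obtain ⟨u, hu⟩ := wreathStandard_pure hm2 (Pi.single (fun _ => 0) 1) ⟨fun _ => Pi.single 0 1, fun x => by
      by_cases hx : x = fun _ => 0
      · subst hx; simp
      · obtain ⟨i, hi⟩ := Function.ne_iff.1 hx
        rw [Pi.single_eq_of_ne hx]
        exact (Finset.prod_eq_zero (Finset.mem_univ i) (Pi.single_eq_of_ne hi _)).symm⟩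
    have hval : ∀ x, ((Units.map φ.toRingHom.mapMatrix.toMonoidHom g : GL (Fin 3 → Fin 2) F) :
        Matrix (Fin 3 → Fin 2) (Fin 3 → Fin 2) F) x (fun _ => 0) =
        φ (((1 + pureMat U) * (1 + pureMat V)) x fun _ => 0) := fun x => rfl
    simp only [mulVec_single_one, Matrix.col_apply, hval] at hu
    have h0 := hu fun _ => 0
    have h1 := hu fun _ => 1
    have h2 := hu ![0, 1, 0]
    have v0 : ((1 + pureMat U) * (1 + pureMat V)) (fun _ => 0) (fun _ => 0) = 1 := by decide +kernel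
    have v1 : ((1 + pureMat U) * (1 + pureMat V)) (fun _ => 1) (fun _ => 0) ≠ 0 := by decide +kernel
    have v2 : ((1 + pureMat U) * (1 + pureMat V)) ![0, 1, 0] (fun _ => 0) = 0 := by decide +kernel
    rw [v0, map_one] at h0
    rw [v2, map_zero] at h2
    have v1' := (map_ne_zero_iff _ φ.injective).2 v1
    rw [h1] at v1'
    rw [Fin.prod_univ_three] at h0 h2 v1'
    simp only [Matrix.cons_val_zero, Matrix.cons_val_one, Matrix.cons_val] at h0 h2 v1'
    rcases mul_eq_zero.1 h2.symm with h | h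
    · rcases mul_eq_zero.1 h with h | h
      · rw [h, zero_mul, zero_mul] at h0; exact one_ne_zero h0
      · exact v1' (by rw [h, mul_zero, zero_mul])
    · rw [h, mul_zero] at h0; exact one_ne_zero h0
  -- a transvection outside
  let x₀ : Fin 3 → Fin 2 := fun _ => 0
  let x₁ : Fin 3 → Fin 2 := fun _ => 1
  let t : (Matrix (Fin 3 → Fin 2) (Fin 3 → Fin 2) (ZMod 3))ˣ :=
    ⟨1 + Matrix.single x₀ x₁ (1 : ZMod 3), 1 - Matrix.single x₀ x₁ (1 : ZMod 3),
      by rw [add_mul, one_mul, mul_sub, mul_one, Matrix.single_mul_single_of_ne _ _ _ _ (by decide)]; abel,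
      by rw [sub_mul, one_mul, mul_add, mul_one, Matrix.single_mul_single_of_ne _ _ _ _ (by decide)]; abel⟩
  have htG : (t : Matrix (Fin 3 → Fin 2) (Fin 3 → Fin 2) (ZMod 3))ᵀ * G *
      (t : Matrix (Fin 3 → Fin 2) (Fin 3 → Fin 2) (ZMod 3)) = G := by
    show (1 + Matrix.single x₀ x₁ (1 : ZMod 3))ᵀ * G * (1 + Matrix.single x₀ x₁ (1 : ZMod 3)) = G
    rw [hGdef]
    decide +kernel
  refine not_maximal hc hco hH (setGroup pureSet) hH' hg hgG hgH htG fun hmem => ?_
  obtain ⟨_, ⟨Q, -, rfl⟩, hY⟩ := setGroup_conj hmem (Z := pureMat V) ⟨V, fun l => by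
    rcases hVm l with h | h <;> rw [h]; exacts [q8_mem.2.1, q8_mem.1], rfl⟩
  have hcol : ∀ x, ((t : Matrix (Fin 3 → Fin 2) (Fin 3 → Fin 2) (ZMod 3)) * pureMat V) x ![0, 1, 1] =
      pureMat Q x ![0, 1, 1] := by
    intro x
    rw [hY]
    show (pureMat Q * (1 + Matrix.single x₀ x₁ (1 : ZMod 3))) x ![0, 1, 1] = _
    rw [mul_add, mul_one, Matrix.add_apply, Matrix.mul_single_apply_of_ne _ _ _ _ _ (by decide), add_zero]
  have w0 : ((t : Matrix (Fin 3 → Fin 2) (Fin 3 → Fin 2) (ZMod 3)) * pureMat V) x₀ ![0, 1, 1] ≠ 0 := by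
    decide +kernel
  have w1 : ((t : Matrix (Fin 3 → Fin 2) (Fin 3 → Fin 2) (ZMod 3)) * pureMat V) x₁ ![0, 1, 1] ≠ 0 := by
    decide +kernel
  have w2 : ((t : Matrix (Fin 3 → Fin 2) (Fin 3 → Fin 2) (ZMod 3)) * pureMat V) ![1, 0, 0] ![0, 1, 1] = 0 := by
    decide +kernel
  rw [hcol, pureMat_apply, Fin.prod_univ_three] at w0 w1 w2
  simp only [x₀, x₁, Matrix.cons_val_zero, Matrix.cons_val_one, Matrix.cons_val] at w0 w1 w2
  rcases mul_eq_zero.1 w2 with h | h
  · rcases mul_eq_zero.1 h with h | h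
    · exact w1 (by rw [h, zero_mul, zero_mul])
    · exact w0 (by rw [h, mul_zero, zero_mul])
  · exact w0 (by rw [h, mul_zero])

/-! ### A field of nine elements in dimension four -/

theorem G1_mul (q r : ZMod 3 × ZMod 3 × ZMod 3 × ZMod 3) : G1 q * G1 r = G1 (qmul q r) := by
  obtain ⟨h1, h2, h3, h4, h5, h6, h7, h8, h9⟩ := quat_table
  simp only [G1, qmul, add_mul, mul_add, smul_mul_smul_comm, mul_one, one_mul, h1, h2, h3, h4, h5, h6, h7, h8, h9]
  module

theorem commuting_mem {w : M4ˣ} (hwG : (w : M4)ᵀ * G0 * (w : M4) = G0) (hwI : (w : M4) * I0 = I0 * (w : M4)) :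
    w ∈ setGroup S0 := by
  set W := (w : M4) with hW
  have hI : ∀ p q, (W * I0) p q = (I0 * W) p q := fun p q => by rw [hwI]
  have r00 : ∀ a b : Fin 2, W (a, 1) (b, 1) = W (a, 0) (b, 0) ∧ W (a, 0) (b, 1) = -W (a, 1) (b, 0) := by
    intro a b
    have h1 := hI (a, 1) (b, 0)
    have h2 := hI (a, 0) (b, 0)
    simp [I0, qi, Matrix.mul_apply, Fintype.sum_prod_type, Fin.sum_univ_two, Matrix.one_apply] at h1 h2
    fin_cases a <;> fin_cases b <;> simp at h1 h2 ⊢ <;> exact ⟨by linear_combination h1, by linear_combination h2⟩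
  have hG : ∀ p q, (Wᵀ * G0 * W) p q = G0 p q := fun p q => by rw [hwG]
  have g1 := hG (0, 0) (0, 1)
  have g2 := hG (0, 0) (1, 1)
  have g3 := hG (0, 0) (1, 0)
  have g4 := hG (1, 0) (1, 1)
  simp [G0, jj, Matrix.mul_apply, Fintype.sum_prod_type, Fin.sum_univ_two, Matrix.one_apply,
    (r00 0 0).1, (r00 0 0).2, (r00 0 1).1, (r00 0 1).2, (r00 1 0).1, (r00 1 0).2, (r00 1 1).1, (r00 1 1).2] at g1 g2 g3 g4
  obtain ⟨u, v, huv, he, hf, hg, hh⟩ := cols (W (0, 0) (0, 0)) (W (0, 1) (0, 0)) (W (1, 0) (0, 0)) (W (1, 1) (0, 0))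
    (W (0, 0) (1, 0)) (W (0, 1) (1, 0)) (W (1, 0) (1, 0)) (W (1, 1) (1, 0))
    (by linear_combination g1) (by linear_combination g2) (by linear_combination g3) (by linear_combination g4)
  set q := (W (0, 0) (0, 0), W (0, 1) (0, 0), W (1, 0) (0, 0), W (1, 1) (0, 0)) with hq
  have hdec : W = G1 q * Dm u v := by
    ext ⟨a, b⟩ ⟨c, d⟩
    fin_cases a <;> fin_cases b <;> fin_cases c <;> fin_cases d <;>
      simp [G1, Dm, hq, qI, qJ, qK, qi, qz, qs, Matrix.mul_apply, Fintype.sum_prod_type, Fin.sum_univ_two,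
        Matrix.one_apply, (r00 0 0).1, (r00 0 0).2, (r00 0 1).1, (r00 0 1).2, (r00 1 0).1, (r00 1 0).2,
        (r00 1 1).1, (r00 1 1).2, he, hf, hg, hh] <;> ring
  obtain ⟨hD, hDS⟩ := Dm_conj u v huv
  refine setGroup_of fun Z hZ => ?_
  set Z' := Dm u v * Z * (Dm u v)ᵀ with hZ'
  obtain ⟨s, hs, sI, sJ, sK⟩ := S0_pattern Z' (hDS Z hZ)
  obtain ⟨x, hx, hxq⟩ := quat_sigma _ _ _ _ (show q.1 * q.1 + q.2.1 * q.2.1 + q.2.2.1 * q.2.2.1 + q.2.2.2 * q.2.2.2 = 1 by
    simp only [hq]; linear_combination g1) s hs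
  refine ⟨Z' * G1 x, S0_units Z' (hDS Z hZ) x hx, ?_⟩
  have e1 : G1 q * Z' = Z' * G1 (q.1, s.1 * q.2.1, s.2.1 * q.2.2.1, s.2.2 * q.2.2.2) := by
    simp only [G1, add_mul, mul_add, smul_mul_assoc, mul_smul_comm, sI, sJ, sK, one_mul, mul_one, smul_smul]
    module
  have e2 : Z' * Dm u v = Dm u v * Z := by rw [hZ', mul_assoc, hD, mul_one]
  show W * Z = Z' * G1 x * W
  rw [hdec, mul_assoc, ← e2, ← mul_assoc, e1, ← mul_assoc (Z' * G1 x), mul_assoc Z' (G1 x), G1_mul, hxq]

/-- The normaliser of a field of nine elements in dimension four is not maximal. -/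
theorem conjField_three (hq : Fintype.card F = 3)
    {K : Subalgebra F (Matrix (Fin 2 ⊕ Fin 2) (Fin 2 ⊕ Fin 2) F)} (hK : Cfsg.Geo.IsFieldSubalgebra 2 K)
    (hcl : Cfsg.Geo.IsAdjointClosedFor (sympForm 2 F) K) (hnsa : ¬ Cfsg.Geo.IsSelfAdjointFor (sympForm 2 F) K)
    {H : Subgroup (GL (Fin 2 ⊕ Fin 2) F)} (hH : Cfsg.Geo.IsMaximalIn (spGL 2 F) H)
    (hle : H ≤ Cfsg.Geo.subalgebraNormalizer K) : False := by
  classical
  let φ : ZMod 3 ≃+* F := ZMod.ringEquivOfPrime F Nat.prime_three hq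
  have h3 := three_zero hq
  have h20 : (2 : F) ≠ 0 := fun h => one_ne_zero (show (1 : F) = 0 by linear_combination h3 - h)
  have hfeq : ∀ X Y : Matrix (Fin 2 ⊕ Fin 2) (Fin 2 ⊕ Fin 2) F,
      (∀ u v, sympForm 2 F u (X *ᵥ v) = sympForm 2 F u (Y *ᵥ v)) → X = Y := by
    intro X Y h
    refine Matrix.toLin'.injective (LinearMap.ext fun v => ?_)
    rw [Matrix.toLin'_apply, Matrix.toLin'_apply]
    refine sub_eq_zero.1 (eq_zero_of_f _ fun u => ?_)
    rw [f_swap u, f_sub_right, h, sub_self, neg_zero]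
  -- a skew square root of minus one
  obtain ⟨Im, hIK, hadj, hI2⟩ : ∃ Im ∈ K, (∀ u v, sympForm 2 F (Im *ᵥ u) v = -sympForm 2 F u (Im *ᵥ v)) ∧
      Im * Im = -1 := by
    simp only [Cfsg.Geo.IsSelfAdjointFor] at hnsa
    push Not at hnsa
    obtain ⟨k, hk, u₀, v₀, hne⟩ := hnsa
    obtain ⟨k', hk', hkk'⟩ := hcl k hk
    have hkk'' : ∀ u v, sympForm 2 F (k' *ᵥ u) v = sympForm 2 F u (k *ᵥ v) := fun u v => by
      rw [f_swap v, ← hkk', ← f_swap]
    set d := k - k' with hd
    have hdK : d ∈ K := sub_mem hk hk'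
    have hdadj : ∀ u v, sympForm 2 F (d *ᵥ u) v = -sympForm 2 F u (d *ᵥ v) := fun u v => by
      rw [hd, sub_mulVec, sub_mulVec, f_sub_left, f_sub_right, hkk', hkk'']; ring
    have hd0 : d ≠ 0 := fun e0 => hne (by rw [hkk', sub_eq_zero.1 e0])
    -- the square is scalar
    have hdd : ∀ u v, sympForm 2 F ((d * d) *ᵥ u) v = sympForm 2 F u ((d * d) *ᵥ v) := fun u v => by
      rw [← mulVec_mulVec, ← mulVec_mulVec, hdadj, hdadj, neg_neg]
    haveI := Module.finite_of_finrank_eq_succ (show Module.finrank F K = 1 + 1 from hK.finrank_eq)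
    let k1 : K := 1
    let kd : K := ⟨d, hdK⟩
    have hli : LinearIndependent F ![k1, kd] := by
      rw [LinearIndependent.pair_iff]
      intro a b hab
      have hab' : a • (1 : Matrix (Fin 2 ⊕ Fin 2) (Fin 2 ⊕ Fin 2) F) + b • d = 0 := congrArg Subtype.val hab
      by_cases hb : b = 0
      · rw [hb, zero_smul, add_zero] at hab'
        exact ⟨(smul_eq_zero.1 hab').resolve_right one_ne_zero, hb⟩
      exfalso
      have hds : d = (-a / b) • 1 := by
        rw [div_eq_inv_mul, ← smul_smul, eq_inv_smul_iff₀ hb, neg_smul]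
        exact eq_neg_of_add_eq_zero_right hab'
      refine hd0 (hds.trans ?_)
      have := hdadj u₀ v₀
      rw [hds] at this
      simp only [smul_mulVec, one_mulVec, f_smul_left, f_smul_right] at this
      by_cases h0 : -a / b = 0
      · rw [h0, zero_smul]
      exfalso
      apply h0
      have h' : ∀ u v, 2 * (-a / b) * sympForm 2 F u v = 0 := fun u v => by
        have := hdadj u v
        rw [hds] at this
        simp only [smul_mulVec, one_mulVec, f_smul_left, f_smul_right] at this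
        linear_combination this
      obtain ⟨x, hx⟩ := SympNotLe.exists_f_one (F := F) (m := 2) (v := Pi.single (.inl 0) 1) (by simp)
      exact (mul_eq_zero.1 (by simpa [hx] using h' x (Pi.single (.inl 0) 1))).resolve_left h20
    have hspan := hli.span_eq_top_of_card_eq_finrank (by rw [hK.finrank_eq]; simp)
    have hmem : (⟨d * d, mul_mem hdK hdK⟩ : K) ∈ Submodule.span F (Set.range ![k1, kd]) := hspan ▸ Submodule.mem_top
    rw [Matrix.range_cons, Matrix.range_cons, Matrix.range_empty, Set.union_empty, Set.singleton_union,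
      Submodule.mem_span_pair] at hmem
    obtain ⟨a, b, hab⟩ := hmem
    have hab' : a • (1 : Matrix (Fin 2 ⊕ Fin 2) (Fin 2 ⊕ Fin 2) F) + b • d = d * d := congrArg Subtype.val hab
    have hb : b = 0 := by
      by_contra hb
      apply hd0
      refine hfeq d 0 fun u v => ?_
      have h1 := hdd u v
      rw [← hab'] at h1
      simp only [add_mulVec, smul_mulVec, one_mulVec, f_add_left, f_add_right, f_smul_left, f_smul_right, hdadj] at h1
      rw [zero_mulVec, f_zero_right]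
      exact (mul_eq_zero.1 (show (2 * b) * sympForm 2 F u (d *ᵥ v) = 0 by linear_combination -h1)).resolve_left
        (mul_ne_zero h20 hb)
    rw [hb, zero_smul, add_zero] at hab'
    refine ⟨d, hdK, hdadj, ?_⟩
    have ha : a ≠ 0 := fun e0 => by
      obtain ⟨y, hy, hdy⟩ := hK.inv d hdK hd0
      have := congrArg (· * y) hab'
      simp only [e0, zero_smul, zero_mul, mul_assoc, hdy, mul_one] at this
      exact hd0 this.symm
    have ha1 : a = -1 := by
      refine ((mul_self_eq_one_iff.1 (three_sq hq ha)).resolve_left fun e1 => ?_)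
      rw [e1, one_smul] at hab'
      have hz : (d - 1) * (d + 1) = 0 := by
        rw [sub_mul, mul_add, one_mul, mul_one, ← hab']; abel
      by_cases hm1 : d - 1 = 0
      · exact one_ne_zero (LinearIndependent.pair_iff.1 hli 1 (-1) (Subtype.ext (by
          show (1 : F) • (1 : Matrix (Fin 2 ⊕ Fin 2) (Fin 2 ⊕ Fin 2) F) + (-1 : F) • d = 0
          rw [sub_eq_zero.1 hm1]; simp))).1
      obtain ⟨y, hy, hdy⟩ := hK.inv _ (sub_mem hdK (one_mem K)) hm1
      rw [hK.comm _ (sub_mem hdK (one_mem K)) y hy] at hdy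
      have h := congrArg (y * ·) hz
      simp only [← mul_assoc, hdy, one_mul, mul_zero] at h
      exact one_ne_zero (LinearIndependent.pair_iff.1 hli 1 1 (Subtype.ext (by
        show (1 : F) • (1 : Matrix (Fin 2 ⊕ Fin 2) (Fin 2 ⊕ Fin 2) F) + (1 : F) • d = 0
        rw [one_smul, one_smul, add_comm, h]))).1
    rw [← hab', ha1, neg_one_smul]
  have hII : ∀ x, Im *ᵥ (Im *ᵥ x) = -x := fun x => by rw [mulVec_mulVec, hI2, neg_mulVec, one_mulVec]
  have hsym : ∀ u v, sympForm 2 F u (Im *ᵥ v) = sympForm 2 F v (Im *ᵥ u) := fun u v => by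
    rw [f_swap (Im *ᵥ v) u, hadj, neg_neg]
  -- an adapted basis
  let Q : (Fin 2 ⊕ Fin 2 → F) → F := fun v => sympForm 2 F v (Im *ᵥ v)
  have hnorm : ∀ v, Q v ≠ 0 → ∃ v', Q v' = 1 ∧ ∃ a b : F, v' = a • v + b • (Im *ᵥ v) := by
    intro v hv
    rcases mul_self_eq_one_iff.1 (three_sq hq hv) with h | h
    · exact ⟨v, h, 1, 0, by simp⟩
    · refine ⟨v + Im *ᵥ v, ?_, 1, 1, by simp⟩
      simp only [Q, mulVec_add, hII, f_add_left, f_add_right]
      rw [hadj, hII, ← neg_one_smul F v, f_smul_right, f_smul_right, f_self, hadj,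
        show sympForm 2 F v (Im *ᵥ v) = -1 from h]
      linear_combination -h3
  obtain ⟨v₁, hv₁, -⟩ : ∃ v₁, Q v₁ = 1 ∧ True := by
    obtain ⟨v, hv⟩ : ∃ v, Q v ≠ 0 := by
      by_contra hc
      push Not at hc
      have hz : ∀ u v, sympForm 2 F u (Im *ᵥ v) = 0 := by
        intro u v
        have h1 := hc (u + v)
        simp only [Q, mulVec_add, f_add_left, f_add_right] at h1
        rw [hsym v u, show sympForm 2 F u (Im *ᵥ u) = 0 from hc u, show sympForm 2 F v (Im *ᵥ v) = 0 from hc v] at h1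
        exact (mul_eq_zero.1 (show 2 * sympForm 2 F u (Im *ᵥ v) = 0 by linear_combination h1)).resolve_left h20
      have hI0 : Im = 0 := hfeq _ _ fun u v => by rw [hz, zero_mulVec, f_zero_right]
      rw [hI0, zero_mul] at hI2
      exact one_ne_zero (neg_eq_zero.1 hI2.symm)
    obtain ⟨v', hv', -⟩ := hnorm v hv
    exact ⟨v', hv', trivial⟩
  obtain ⟨v₂, hv₂, h12, h12'⟩ : ∃ v₂, Q v₂ = 1 ∧ sympForm 2 F v₁ v₂ = 0 ∧ sympForm 2 F v₁ (Im *ᵥ v₂) = 0 := by
    obtain ⟨v, hv, hv', hvv⟩ : ∃ v, sympForm 2 F v₁ v = 0 ∧ sympForm 2 F v₁ (Im *ᵥ v) = 0 ∧ Q v ≠ 0 := by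
      by_contra hc
      push Not at hc
      obtain ⟨x, hx, hx1, hx2⟩ := SympNotLe.exists_ker_two (F := F) le_rfl (SympNotLe.fLeft v₁)
        ((SympNotLe.fLeft v₁).comp (Matrix.toLin' Im))
      have x1 : sympForm 2 F v₁ x = 0 := by rw [f_swap x v₁, show sympForm 2 F x v₁ = 0 from hx1, neg_zero]
      have x2 : sympForm 2 F v₁ (Im *ᵥ x) = 0 := by
        rw [f_swap (Im *ᵥ x) v₁, show sympForm 2 F (Im *ᵥ x) v₁ = 0 from hx2, neg_zero]
      -- the orthogonal complement is isotropic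
      have hW : ∀ y, sympForm 2 F v₁ y = 0 → sympForm 2 F v₁ (Im *ᵥ y) = 0 → sympForm 2 F x y = 0 := by
        intro y y1 y2
        have y3 : sympForm 2 F v₁ (Im *ᵥ (Im *ᵥ y)) = 0 := by
          rw [hII, ← neg_one_smul F y, f_smul_right, y1, mul_zero]
        have hp := hc (x + Im *ᵥ y) (by rw [f_add_right, x1, y2, add_zero])
          (by rw [mulVec_add, f_add_right, x2, y3, add_zero])
        have q1 : sympForm 2 F x (Im *ᵥ x) = 0 := hc x x1 x2
        have q2 : sympForm 2 F (Im *ᵥ y) (Im *ᵥ (Im *ᵥ y)) = 0 := hc _ y2 y3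
        simp only [Q, mulVec_add, f_add_left, f_add_right] at hp
        rw [hsym (Im *ᵥ y) x, q1, q2, hII, ← neg_one_smul F y, f_smul_right] at hp
        exact (mul_eq_zero.1 (show 2 * sympForm 2 F x y = 0 by linear_combination -hp)).resolve_left h20
      apply hx
      refine eq_zero_of_f x fun z => ?_
      set a := sympForm 2 F v₁ (Im *ᵥ z)
      set b := sympForm 2 F v₁ z
      have hy1 : sympForm 2 F v₁ (z - (a • v₁ + b • (Im *ᵥ v₁))) = 0 := by
        rw [f_sub_right, f_add_right, f_smul_right, f_smul_right, f_self, show sympForm 2 F v₁ (Im *ᵥ v₁) = 1 from hv₁]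
        ring
      have hy2 : sympForm 2 F v₁ (Im *ᵥ (z - (a • v₁ + b • (Im *ᵥ v₁)))) = 0 := by
        rw [mulVec_sub, mulVec_add, mulVec_smul, mulVec_smul, hII, f_sub_right, f_add_right, f_smul_right,
          f_smul_right, ← neg_one_smul F v₁, f_smul_right, f_self, show sympForm 2 F v₁ (Im *ᵥ v₁) = 1 from hv₁]
        ring
      have := hW _ hy1 hy2
      rw [f_sub_right, f_add_right, f_smul_right, f_smul_right, hsym x v₁, f_swap v₁ x, x1, x2] at this
      linear_combination this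
    obtain ⟨v', hv'1, a, b, rfl⟩ := hnorm v hvv
    refine ⟨_, hv'1, ?_, ?_⟩
    · rw [f_add_right, f_smul_right, f_smul_right, hv, hv']; ring
    · rw [mulVec_add, mulVec_smul, mulVec_smul, hII, f_add_right, f_smul_right, f_smul_right,
        ← neg_one_smul F v, f_smul_right, hv, hv']; ring
  let vec : Fin 2 × Fin 2 → (Fin 2 ⊕ Fin 2 → F) := fun p =>
    ![![v₁, Im *ᵥ v₁], ![v₂, Im *ᵥ v₂]] p.1 p.2
  let e : (Fin 2 ⊕ Fin 2) ≃ Fin 2 × Fin 2 := Fintype.equivOfCardEq rfl
  let P₀ : Matrix (Fin 2 ⊕ Fin 2) (Fin 2 ⊕ Fin 2) F := Matrix.of fun i a => vec (e a) i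
  have hgram : P₀ᵀ * Matrix.J (Fin 2) F * P₀ = (φ.toRingHom.mapMatrix G0).submatrix e e := by
    ext a b
    have h1 : (P₀ᵀ * Matrix.J (Fin 2) F * P₀) a b = sympForm 2 F (vec (e a)) (vec (e b)) := by
      rw [mul_assoc, Matrix.mul_apply, Cfsg.sympForm]
      refine Finset.sum_congr rfl fun i _ => ?_
      rfl
    rw [h1]
    simp only [vec, G0, RingHom.mapMatrix_apply, Matrix.submatrix_apply, Matrix.map_apply, Matrix.kronecker_apply]
    have a1 : sympForm 2 F v₁ (Im *ᵥ v₁) = 1 := hv₁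
    have a2 : sympForm 2 F v₂ (Im *ᵥ v₂) = 1 := hv₂
    have i1 : ∀ x y, sympForm 2 F (Im *ᵥ x) (Im *ᵥ y) = sympForm 2 F x y := fun x y => by
      rw [hadj, hII, ← neg_one_smul F y, f_smul_right]; ring
    generalize e a = p
    generalize e b = q
    obtain ⟨p1, p2⟩ := p
    obtain ⟨q1, q2⟩ := q
    fin_cases p1 <;> fin_cases p2 <;> fin_cases q1 <;> fin_cases q2 <;>
      simp [jj, i1, f_self, a1, a2, h12, h12', hadj, f_swap v₁ v₂, hsym v₂ v₁, Matrix.one_apply]
  have hdet : P₀.det ≠ 0 := by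
    intro h0
    have hd := congrArg Matrix.det hgram
    rw [Matrix.det_mul, h0, mul_zero, Matrix.det_submatrix_equiv_self, ← RingHom.map_det] at hd
    exact (map_ne_zero_iff _ φ.injective).2 (by decide +kernel : G0.det ≠ 0) hd.symm
  let P : GL (Fin 2 ⊕ Fin 2) F := Matrix.GeneralLinearGroup.mkOfDetNeZero P₀ hdet
  have hco : Coord e P ((1 : F) • φ.toRingHom.mapMatrix G0) := by
    intro x y
    rw [one_smul, cvec_apply, cvec_apply, Cfsg.sympForm]
    show (P₀ *ᵥ _) ⬝ᵥ _ *ᵥ (P₀ *ᵥ _) = _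
    rw [congr_forms, hgram, Matrix.submatrix_mulVec_equiv]
    simp only [dotProduct, Function.comp_apply, Equiv.self_comp_symm, Function.comp_assoc]
    exact Fintype.sum_equiv e _ _ fun i => by simp
  -- the imaginary unit in coordinates
  have hIco : ∀ x, Im *ᵥ cvec e P x = cvec e P (φ.toRingHom.mapMatrix I0 *ᵥ x) := by
    have hlin : (Matrix.toLin' Im).comp (cvec e P) = (cvec e P).comp (Matrix.toLin' (φ.toRingHom.mapMatrix I0)) := by
      refine (Pi.basisFun F (Fin 2 × Fin 2)).ext fun p => ?_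
      have hs : ∀ q, cvec e P (Pi.single q 1) = vec q := by
        intro q
        rw [cvec_apply]
        show P₀ *ᵥ _ = _
        rw [show (Pi.single q (1 : F) : Fin 2 × Fin 2 → F) ∘ e = Pi.single (e.symm q) 1 from funext fun i => by
          simp [Pi.single_apply, Equiv.eq_symm_apply], mulVec_single_one]
        funext i
        simp [P₀, Matrix.col_apply]
      rw [Pi.basisFun_apply, LinearMap.comp_apply, LinearMap.comp_apply, Matrix.toLin'_apply, Matrix.toLin'_apply,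
        hs, mulVec_single_one,
        show (φ.toRingHom.mapMatrix I0).col p = ∑ q, φ.toRingHom.mapMatrix I0 q p • (Pi.single q (1 : F) :
          Fin 2 × Fin 2 → F) from funext fun q => by simp [Finset.sum_apply, Pi.single_apply, Matrix.col_apply],
        map_sum]
      simp only [map_smul, hs, Fintype.sum_prod_type, Fin.sum_univ_two]
      obtain ⟨p1, p2⟩ := p
      fin_cases p1 <;> fin_cases p2 <;>
        simp [vec, I0, qi, hII, Matrix.one_apply]
    intro x
    have := LinearMap.congr_fun hlin x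
    rwa [LinearMap.comp_apply, LinearMap.comp_apply, Matrix.toLin'_apply, Matrix.toLin'_apply] at this
  -- the group
  let S : Set M4 := S0
  obtain ⟨hgG, hgI, hg1, hg2, hgS⟩ := gam_facts
  let γ : M4ˣ := ⟨gam, -gam, hg1, hg2⟩
  have hγ : γ ∈ setGroup S := setGroup_of fun Z hZ =>
    ⟨gam * Z * -gam, hgS Z hZ, by show gam * Z = gam * Z * -gam * gam; rw [mul_assoc _ (-gam), hg2, mul_one]⟩
  have hsign : ∀ w : M4ˣ, psi φ e P w ∈ H → (w : M4) * I0 = I0 * (w : M4) ∨ (w : M4) * I0 = -(I0 * (w : M4)) := by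
    intro w hw
    set g := psi φ e P w with hgdef
    have hk := (hle hw Im).1 hIK
    set k := (g : Matrix (Fin 2 ⊕ Fin 2) (Fin 2 ⊕ Fin 2) F) * Im *
      ((g⁻¹ : GL (Fin 2 ⊕ Fin 2) F) : Matrix (Fin 2 ⊕ Fin 2) (Fin 2 ⊕ Fin 2) F) with hkdef
    have hk2 : k * k = -1 := by simp [hkdef, mul_assoc, ← mul_assoc Im Im, hI2]
    have hkI : k = Im ∨ k = -Im := by
      by_contra hc
      push Not at hc
      obtain ⟨y, hy, hy1⟩ := hK.inv _ (sub_mem hk hIK) (sub_ne_zero.2 hc.1)
      have hz : (k - Im) * (k + Im) = 0 := by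
        rw [sub_mul, mul_add, mul_add, hk2, hI2, hK.comm _ hk _ hIK]; abel
      rw [hK.comm _ (sub_mem hk hIK) y hy] at hy1
      have h := congrArg (y * ·) hz
      simp only [← mul_assoc, hy1, one_mul, mul_zero] at h
      exact hc.2 (eq_neg_of_add_eq_zero_left h)
    have key : ∀ (ε : F) (X : M4), k = ε • Im → φ.toRingHom.mapMatrix X =
        ε • φ.toRingHom.mapMatrix (I0 * (w : M4)) → (w : M4) * I0 = X := by
      intro ε X hkε hX
      refine mapMatrix_injective φ ?_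
      rw [map_mul]
      refine Matrix.toLin'.injective (LinearMap.ext fun x => cvec_injective e P ?_)
      rw [Matrix.toLin'_apply, Matrix.toLin'_apply, hX, smul_mulVec, map_smul, map_mul, ← mulVec_mulVec,
        ← mulVec_mulVec, ← hIco]
      have hgv : ∀ z, (g : Matrix (Fin 2 ⊕ Fin 2) (Fin 2 ⊕ Fin 2) F) *ᵥ cvec e P z =
          cvec e P (φ.toRingHom.mapMatrix (w : M4) *ᵥ z) := fun z => cmap_mulVec e P _ z
      rw [← hgv, ← hIco, ← hgv, mulVec_mulVec, mulVec_mulVec, ← smul_mulVec, ← smul_mul_assoc, ← hkε, hkdef,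
        mul_assoc, Units.inv_mul, mul_one]
    rcases hkI with h | h
    · exact Or.inl (key 1 _ (by rw [h, one_smul]) (by rw [one_smul]))
    · exact Or.inr (key (-1) _ (by rw [h, neg_one_smul]) (by rw [map_neg, neg_one_smul]))
  have hH' : H ≤ (setGroup S).map (psi φ e P) := by
    intro g hg
    obtain ⟨w', rfl⟩ := cmap_surjective e P g
    let w : M4ˣ := Units.map φ.symm.toRingHom.mapMatrix.toMonoidHom w'
    have hww : psi φ e P w = cmap e P w' := by
      show cmap e P _ = _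
      congr 1
      exact Units.ext (Matrix.ext fun p q => φ.apply_symm_apply _)
    rw [← hww] at hg ⊢
    refine ⟨w, ?_, rfl⟩
    have hwG := (psi_mem_iff one_ne_zero hco w).1 (hH.1.le hg)
    rcases hsign w hg with h | h
    · exact commuting_mem hwG h
    · have h' : γ * w ∈ setGroup S := by
        refine commuting_mem ?_ ?_
        · rw [Units.val_mul, Matrix.transpose_mul,
            show (w : M4)ᵀ * (γ : M4)ᵀ * G0 * ((γ : M4) * (w : M4)) = (w : M4)ᵀ * ((γ : M4)ᵀ * G0 * (γ : M4)) * (w : M4) by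
              simp only [mul_assoc], show (γ : M4)ᵀ * G0 * (γ : M4) = G0 from hgG, hwG]
        · show gam * (w : M4) * I0 = I0 * (gam * (w : M4))
          rw [mul_assoc, h, mul_neg, ← mul_assoc, hgI, neg_mul, neg_neg, mul_assoc]
      exact (Subgroup.mul_mem_cancel_left _ hγ).1 h'
  obtain ⟨hmG, hmI, hmI', hm1, hm2, hmS⟩ := mix_facts
  let g : M4ˣ := ⟨mix, _, hm1, hm2⟩
  have hg : g ∈ setGroup S := setGroup_of fun Z hZ =>
    ⟨mix * Z * ((1 : M2) ⊗ₖ !![1, -1; 0, 1]), hmS Z hZ, by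
      show mix * Z = mix * Z * _ * mix
      rw [mul_assoc _ ((1 : M2) ⊗ₖ !![1, -1; 0, 1]), hm2, mul_one]⟩
  obtain ⟨htG, ht1, ht2, htZ, htY⟩ := tv_facts
  let t : M4ˣ := ⟨tv, tv * tv, ht1, ht2⟩
  refine not_maximal one_ne_zero hco hH (setGroup S) hH' hg hmG (fun h => (hsign g h).elim hmI hmI') (t := t) htG
    fun hmem => ?_
  obtain ⟨Y, hY, hYe⟩ := setGroup_conj hmem (Z := qs ⊗ₖ (1 : M2)) htZ
  exact htY Y hY hYe

end CfsgLib.Asch.SympThree
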