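import Cfsg.Agent.Lib.Classical.AschForms

set_option autoImplicit false
set_option linter.unusedSectionVars false

/-!
Matrices on a tensor power indexed by functions: pure tensors, one-factor matrices and factor permutations; the
wreath product of groups of two by two matrices preserves a form.
-/

namespace CfsgLib.Asch

open Matrix
open Cfsg.Geo (tensorWreathSubgroup tensorWreathStandard glReindex)
open scoped MatrixGroups

variable {F : Type*} [Field F] {n m k : ℕ}

/-- The tensor product of matrices, one for each factor. -/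
def pureMat (gs : Fin k → Matrix (Fin m) (Fin m) F) : Matrix (Fin k → Fin m) (Fin k → Fin m) F :=
  Matrix.of fun x y => ∏ i, gs i (x i) (y i)

theorem pureMat_apply (gs : Fin k → Matrix (Fin m) (Fin m) F) (x y : Fin k → Fin m) :
    pureMat gs x y = ∏ i, gs i (x i) (y i) := rfl

theorem pureMat_mul (gs hs : Fin k → Matrix (Fin m) (Fin m) F) :
    pureMat gs * pureMat hs = pureMat fun i => gs i * hs i := by
  classical
  ext x y
  simp only [Matrix.mul_apply, pureMat_apply, ← Finset.prod_mul_distrib]
  exact (Fintype.prod_sum fun i j => gs i (x i) j * hs i j (y i)).symm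

theorem pureMat_one : pureMat (fun _ : Fin k => (1 : Matrix (Fin m) (Fin m) F)) = 1 := by
  classical
  ext x y
  rw [pureMat_apply, Matrix.one_apply]
  split
  · next h => subst h; simp
  · next h =>
    obtain ⟨i, hi⟩ := Function.ne_iff.1 h
    exact Finset.prod_eq_zero (Finset.mem_univ i) (by simp [hi])

theorem pureMat_transpose (gs : Fin k → Matrix (Fin m) (Fin m) F) :
    (pureMat gs).transpose = pureMat fun i => (gs i).transpose := rfl

theorem pureMat_smul (c : Fin k → F) (gs : Fin k → Matrix (Fin m) (Fin m) F) :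
    pureMat (fun i => c i • gs i) = (∏ i, c i) • pureMat gs := by
  ext x y
  simp [pureMat_apply, Finset.prod_mul_distrib]

/-- The matrix acting on the factor `i` alone. -/
def slot (i : Fin k) (A : Matrix (Fin m) (Fin m) F) : Matrix (Fin k → Fin m) (Fin k → Fin m) F :=
  pureMat (Function.update (fun _ => 1) i A)

theorem slot_apply (i : Fin k) (A : Matrix (Fin m) (Fin m) F) (x y : Fin k → Fin m) :
    slot i A x y = if ∀ j, j ≠ i → x j = y j then A (x i) (y i) else 0 := by
  classical
  rw [slot, pureMat_apply]
  split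
  · next h =>
    rw [Finset.prod_eq_single i]
    · simp
    · intro j _ hj
      rw [Function.update_of_ne hj, h j hj]
      simp
    · simp
  · next h =>
    push Not at h
    obtain ⟨j, hj, hxy⟩ := h
    refine Finset.prod_eq_zero (Finset.mem_univ j) ?_
    rw [Function.update_of_ne hj]
    simp [hxy]

theorem mul_slot (G : Matrix (Fin k → Fin m) (Fin k → Fin m) F) (i : Fin k) (A : Matrix (Fin m) (Fin m) F)
    (p q : Fin k → Fin m) : (G * slot i A) p q = ∑ w, G p (Function.update q i w) * A w (q i) := by
  classical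
  rw [Matrix.mul_apply]
  symm
  refine Fintype.sum_of_injective (fun w => Function.update q i w) (Function.update_injective q i) _ _
    (fun x hx => ?_) fun w => ?_
  · rw [slot_apply, if_neg, mul_zero]
    intro h
    refine hx ⟨x i, ?_⟩
    funext j
    by_cases hj : j = i
    · subst hj; simp
    · simp [Function.update_of_ne hj, h j hj]
  · rw [slot_apply, if_pos fun j hj => Function.update_of_ne hj _ _, Function.update_self]

theorem slot_mul (G : Matrix (Fin k → Fin m) (Fin k → Fin m) F) (i : Fin k) (A : Matrix (Fin m) (Fin m) F)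
    (p q : Fin k → Fin m) : (slot i A * G) p q = ∑ w, A (p i) w * G (Function.update p i w) q := by
  classical
  rw [Matrix.mul_apply]
  symm
  refine Fintype.sum_of_injective (fun w => Function.update p i w) (Function.update_injective p i) _ _
    (fun x hx => ?_) fun w => ?_
  · rw [slot_apply, if_neg, zero_mul]
    intro h
    refine hx ⟨x i, ?_⟩
    funext j
    by_cases hj : j = i
    · subst hj; simp
    · simp [Function.update_of_ne hj, h j hj]
  · rw [slot_apply, if_pos fun j hj => (Function.update_of_ne hj _ _).symm, Function.update_self]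

/-- The matrix permuting the factors. -/
def permMat (σ : Equiv.Perm (Fin k)) : Matrix (Fin k → Fin m) (Fin k → Fin m) F :=
  Matrix.of fun x y => if y = x ∘ σ then 1 else 0

theorem permMat_mul (σ τ : Equiv.Perm (Fin k)) :
    (permMat σ * permMat τ : Matrix (Fin k → Fin m) (Fin k → Fin m) F) = permMat (σ * τ) := by
  classical
  ext x y
  rw [Matrix.mul_apply, Finset.sum_eq_single (x ∘ σ)]
  · simp only [permMat, Matrix.of_apply, if_true, one_mul, Equiv.Perm.coe_mul, Function.comp_assoc]
    congr 1
  · intro z _ hz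
    simp [permMat, hz]
  · simp

theorem permMat_one : (permMat 1 : Matrix (Fin k → Fin m) (Fin k → Fin m) F) = 1 := by
  classical
  ext x y
  simp only [permMat, Matrix.of_apply, Matrix.one_apply, Equiv.Perm.coe_one, Function.comp_id, eq_comm]

theorem pureMat_mul_permMat (gs : Fin k → Matrix (Fin m) (Fin m) F) (σ : Equiv.Perm (Fin k))
    (x y : Fin k → Fin m) :
    (pureMat gs * permMat σ : Matrix (Fin k → Fin m) (Fin k → Fin m) F) x y = ∏ i, gs (σ i) (x (σ i)) (y i) := by
  classical
  rw [Matrix.mul_apply, Finset.sum_eq_single (y ∘ σ.symm)]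
  · rw [permMat, Matrix.of_apply, if_pos (by funext j; simp), mul_one, pureMat_apply]
    rw [← Equiv.prod_comp σ]
    simp
  · intro z _ hz
    rw [permMat, Matrix.of_apply, if_neg, mul_zero]
    intro h
    exact hz (by rw [h]; funext j; simp)
  · simp

/-- The element of the wreath product given by invertible factors and a permutation. -/
theorem mem_wreath {gs : Fin k → GL (Fin m) F} {σ : Equiv.Perm (Fin k)} {g : GL (Fin k → Fin m) F}
    (hg : (g : Matrix (Fin k → Fin m) (Fin k → Fin m) F) =
      pureMat (fun i => (gs i : Matrix (Fin m) (Fin m) F)) * permMat σ) :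
    g ∈ tensorWreathStandard m k F := by
  classical
  let a : GL (Fin k → Fin m) F :=
    { val := pureMat fun i => (gs i : Matrix (Fin m) (Fin m) F)
      inv := pureMat fun i => ((gs i)⁻¹ : GL (Fin m) F).val
      val_inv := by rw [pureMat_mul]; simp only [Units.mul_inv]; exact pureMat_one
      inv_val := by rw [pureMat_mul]; simp only [Units.inv_mul]; exact pureMat_one }
  let b : GL (Fin k → Fin m) F :=
    { val := permMat σ
      inv := permMat σ⁻¹
      val_inv := by rw [permMat_mul, mul_inv_cancel, permMat_one]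
      inv_val := by rw [permMat_mul, inv_mul_cancel, permMat_one] }
  have e : g = a * b := Units.ext hg
  rw [e]
  exact mul_mem (Subgroup.subset_closure (Or.inl ⟨gs, fun _ _ => rfl⟩))
    (Subgroup.subset_closure (Or.inr ⟨σ, fun x y => by simp [b, permMat]⟩))

/-- The coordinates of `x` in the tensor power. -/
def tcoord {ι : Type} (e : Fin n ≃ ι) (P : GL (Fin n) F) (x : Matrix (Fin n) (Fin n) F) : Matrix ι ι F :=
  ((↑P⁻¹ : Matrix (Fin n) (Fin n) F) * x * (P : Matrix (Fin n) (Fin n) F)).submatrix e.symm e.symm

theorem tcoord_mul {ι : Type} [Fintype ι] (e : Fin n ≃ ι) (P : GL (Fin n) F) (x y : Matrix (Fin n) (Fin n) F) :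
    tcoord e P (x * y) = tcoord e P x * tcoord e P y := by
  rw [tcoord, tcoord, tcoord, Matrix.submatrix_mul_equiv]
  congr 1
  simp only [mul_assoc, Units.mul_inv_cancel_left]

theorem tcoord_injective {ι : Type} (e : Fin n ≃ ι) (P : GL (Fin n) F) : Function.Injective (tcoord e P) := by
  intro x y h
  have h1 : (↑P⁻¹ : Matrix (Fin n) (Fin n) F) * x * (P : Matrix (Fin n) (Fin n) F) =
      (↑P⁻¹ : Matrix (Fin n) (Fin n) F) * y * (P : Matrix (Fin n) (Fin n) F) := by
    ext i i'
    have := congrFun (congrFun h (e i)) (e i')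
    simpa [tcoord] using this
  exact (Units.mul_right_inj _).1 ((Units.mul_left_inj _).1 h1)

/-- An element whose coordinates are in the wreath product. -/
theorem mem_tensorWreath {e : Fin n ≃ (Fin k → Fin m)} {P h : GL (Fin n) F} {gs : Fin k → GL (Fin m) F}
    {σ : Equiv.Perm (Fin k)}
    (hh : tcoord e P (h : Matrix (Fin n) (Fin n) F) =
      pureMat (fun i => (gs i : Matrix (Fin m) (Fin m) F)) * permMat σ) :
    h ∈ tensorWreathSubgroup m k e P := by
  let g : GL (Fin k → Fin m) F := glReindex e (P⁻¹ * h * P)
  have hg : g ∈ tensorWreathStandard m k F := mem_wreath (gs := gs) (σ := σ) hh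
  refine ⟨glReindex e.symm g, ⟨g, hg, rfl⟩, ?_⟩
  have e1 : glReindex e.symm g = P⁻¹ * h * P := Units.ext (Matrix.ext fun i j => by
    simp [g, glReindex])
  rw [e1]
  simp [mul_assoc]

/-- The standard alternating two by two matrix. -/
def jTwo (F : Type*) [Field F] : Matrix (Fin 2) (Fin 2) F := !![0, 1; -1, 0]

theorem jTwo_congr (A : Matrix (Fin 2) (Fin 2) F) : A.transpose * jTwo F * A = A.det • jTwo F := by
  ext i j
  fin_cases i <;> fin_cases j <;>
    simp [jTwo, Matrix.mul_apply, Fin.sum_univ_two, Matrix.det_fin_two] <;> ring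

theorem jTwo_transpose : (jTwo F).transpose = (-1 : F) • jTwo F := by
  ext i j
  fin_cases i <;> fin_cases j <;> simp [jTwo]

theorem jTwo_mul : jTwo F * ((-1 : F) • jTwo F) = 1 := by
  ext i j
  fin_cases i <;> fin_cases j <;> simp [jTwo, Matrix.mul_apply, Fin.sum_univ_two]

/-- The matrices scaling `B` under congruence. -/
def congrSim {ι : Type} [Fintype ι] [DecidableEq ι] (B : Matrix ι ι F) : Subgroup (GL ι F) where
  carrier := {g | ∃ c : Fˣ, (g : Matrix ι ι F).transpose * B * (g : Matrix ι ι F) = (c : F) • B}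
  one_mem' := ⟨1, by simp⟩
  mul_mem' := by
    rintro a b ⟨c, hc⟩ ⟨d, hd⟩
    refine ⟨c * d, ?_⟩
    calc ((a * b : GL ι F) : Matrix ι ι F).transpose * B * ((a * b : GL ι F) : Matrix ι ι F)
        = (b : Matrix ι ι F).transpose * ((a : Matrix ι ι F).transpose * B * (a : Matrix ι ι F)) * (b : Matrix ι ι F) := by
          simp [Matrix.transpose_mul, mul_assoc]
      _ = _ := by rw [hc, mul_smul_comm, smul_mul_assoc, hd, smul_smul, Units.val_mul]
  inv_mem' := by
    rintro a ⟨c, hc⟩
    refine ⟨c⁻¹, ?_⟩
    have h := congrArg (fun X => (↑a⁻¹ : Matrix ι ι F).transpose * X * (↑a⁻¹ : Matrix ι ι F)) hc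
    have e : (↑a⁻¹ : Matrix ι ι F).transpose * ((a : Matrix ι ι F).transpose * B * (a : Matrix ι ι F)) *
        (↑a⁻¹ : Matrix ι ι F) = B := by
      have e1 : (↑a⁻¹ : Matrix ι ι F).transpose * (a : Matrix ι ι F).transpose = 1 := by
        rw [← Matrix.transpose_mul, Units.mul_inv, Matrix.transpose_one]
      rw [← mul_assoc, ← mul_assoc, e1, one_mul, mul_assoc, Units.mul_inv, mul_one]
    rw [e, mul_smul_comm, smul_mul_assoc] at h
    conv_rhs => rw [h, smul_smul, Units.val_inv_eq_inv_val, inv_mul_cancel₀ c.ne_zero, one_smul]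

/-- A tensor power of planes carries a form. -/
theorem wreath_two_form [Fintype F] (hk : 1 ≤ k) {e : Fin n ≃ (Fin k → Fin 2)} {P : GL (Fin n) F}
    {H : Subgroup (GL (Fin n) F)} (hH : H ≤ tensorWreathSubgroup 2 k e P) : SympCase H ∨ QuadCase H := by
  classical
  set B₀ : Matrix (Fin k → Fin 2) (Fin k → Fin 2) F := pureMat fun _ => jTwo F with hB₀
  have hstd : tensorWreathStandard 2 k F ≤ congrSim B₀ := by
    refine (Subgroup.closure_le _).2 ?_
    rintro g (⟨gs, hgs⟩ | ⟨σ, hσ⟩)
    · refine ⟨Units.mk0 (∏ i, (gs i : Matrix (Fin 2) (Fin 2) F).det)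
        (Finset.prod_ne_zero_iff.2 fun i _ => ((Matrix.isUnit_iff_isUnit_det _).1 (gs i).isUnit).ne_zero), ?_⟩
      have hg : (g : Matrix (Fin k → Fin 2) (Fin k → Fin 2) F) = pureMat fun i => (gs i : Matrix (Fin 2) (Fin 2) F) :=
        Matrix.ext hgs
      rw [hg, hB₀, pureMat_transpose, pureMat_mul, pureMat_mul, Units.val_mk0, ← pureMat_smul]
      exact congrArg pureMat (funext fun i => jTwo_congr _)
    · refine ⟨1, ?_⟩
      have hg : (g : Matrix (Fin k → Fin 2) (Fin k → Fin 2) F) = permMat σ := Matrix.ext hσ
      have ht : (permMat σ : Matrix (Fin k → Fin 2) (Fin k → Fin 2) F).transpose = permMat σ⁻¹ := by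
        ext x y
        simp only [Matrix.transpose_apply, permMat, Matrix.of_apply]
        by_cases h : x = y ∘ σ
        · subst h
          simp [Function.comp_assoc]
        · rw [if_neg h, if_neg]
          intro h'
          exact h (by rw [h']; funext j; simp)
      have hcomm : B₀ * (permMat σ : Matrix (Fin k → Fin 2) (Fin k → Fin 2) F) = permMat σ * B₀ := by
        ext x y
        rw [hB₀, pureMat_mul_permMat, Matrix.mul_apply, Finset.sum_eq_single (x ∘ σ)]
        · simp [permMat, pureMat_apply]
        · intro z _ hz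
          simp [permMat, hz]
        · simp
      rw [hg, ht, Units.val_one, one_smul, mul_assoc, hcomm, ← mul_assoc, permMat_mul, inv_mul_cancel, permMat_one,
        one_mul]
  -- transport
  set Q : Matrix (Fin n) (Fin n) F := (↑P⁻¹ : Matrix (Fin n) (Fin n) F) with hQ
  set B : Matrix (Fin n) (Fin n) F := Q.transpose * B₀.submatrix e e * Q with hB
  have hsim : H ≤ Cfsg.Geo.similarityGroup (matForm B) := by
    intro h hh
    obtain ⟨_, ⟨g, hg, rfl⟩, rfl⟩ := hH hh
    obtain ⟨c, hc⟩ := hstd hg
    refine ⟨c, fun u v => ?_⟩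
    rw [matForm_mulVec]
    have key : ((MulAut.conj P).toMonoidHom ((glReindex e.symm).toMonoidHom g) : Matrix (Fin n) (Fin n) F).transpose *
        B * ((MulAut.conj P).toMonoidHom ((glReindex e.symm).toMonoidHom g) : Matrix (Fin n) (Fin n) F) =
        (c : F) • B := by
      have e1 : (P : Matrix (Fin n) (Fin n) F).transpose * Q.transpose = 1 := by
        rw [← Matrix.transpose_mul, hQ, Units.inv_mul, Matrix.transpose_one]
      have e2 : ((glReindex e.symm g : GL (Fin n) F) : Matrix (Fin n) (Fin n) F) =
          (g : Matrix (Fin k → Fin 2) (Fin k → Fin 2) F).submatrix e e := by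
        ext i j
        simp [glReindex]
      simp only [MulEquiv.coe_toMonoidHom, MulAut.conj_apply, Units.val_mul, e2, Matrix.transpose_mul, hB]
      calc _ = Q.transpose * (((g : Matrix (Fin k → Fin 2) (Fin k → Fin 2) F).submatrix e e).transpose *
            ((P : Matrix (Fin n) (Fin n) F).transpose * Q.transpose) * B₀.submatrix e e *
            (Q * (P : Matrix (Fin n) (Fin n) F)) * (g : Matrix (Fin k → Fin 2) (Fin k → Fin 2) F).submatrix e e) * Q := by
            simp only [hQ, mul_assoc]
        _ = _ := by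
            rw [e1, show Q * (P : Matrix (Fin n) (Fin n) F) = 1 from by rw [hQ, Units.inv_mul], mul_one, mul_one,
              Matrix.transpose_submatrix, Matrix.submatrix_mul_equiv, Matrix.submatrix_mul_equiv, hc,
              Matrix.submatrix_smul]
            simp only [Pi.smul_apply, mul_smul_comm, smul_mul_assoc]
    rw [key]
    simp [matForm, smul_mulVec]
  have hBu : IsUnit B := by
    have h1 : IsUnit B₀ := IsUnit.of_mul_eq_one (pureMat fun _ => (-1 : F) • jTwo F) (by
      rw [hB₀, pureMat_mul]; simp only [jTwo_mul]; exact pureMat_one)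
    have h2 : IsUnit (B₀.submatrix e e) := by
      rw [Matrix.isUnit_iff_isUnit_det] at h1 ⊢
      rwa [Matrix.det_submatrix_equiv_self]
    have h3 : IsUnit Q.transpose := by
      rw [Matrix.isUnit_iff_isUnit_det, Matrix.det_transpose]
      exact (Matrix.isUnit_iff_isUnit_det _).1 P⁻¹.isUnit
    exact (h3.mul h2).mul P⁻¹.isUnit
  have hBt : B.transpose = (-1 : F) ^ k • B := by
    have h0 : B₀.transpose = (-1 : F) ^ k • B₀ := by
      rw [hB₀, pureMat_transpose]
      simp only [jTwo_transpose, pureMat_smul, Finset.prod_const, Finset.card_univ, Fintype.card_fin]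
    rw [hB, Matrix.transpose_mul, Matrix.transpose_mul, Matrix.transpose_transpose, Matrix.transpose_submatrix, h0,
      Matrix.submatrix_smul]
    simp only [Pi.smul_apply, smul_mul_assoc, mul_smul_comm, mul_assoc]
  by_cases hcase : (-1 : F) ^ k = 1 ∧ Odd (Fintype.card F)
  · exact Or.inr (quadCase_of_matrix hBu hcase.2 (by rw [hBt, hcase.1, one_smul]) hsim)
  left
  have hneg : (-1 : F) ^ k = -1 := by
    rcases neg_one_pow_eq_or F k with h | h
    · have hodd : ¬ Odd (Fintype.card F) := fun ho => hcase ⟨h, ho⟩
      have h2 : (2 : F) = 0 := by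
        obtain ⟨p, hp⟩ := CharP.exists F
        obtain ⟨j, hpp, hj⟩ := FiniteField.card F p
        rw [Nat.not_odd_iff_even, hj, Nat.even_pow] at hodd
        obtain rfl : 2 = p := (Nat.prime_dvd_prime_iff_eq Nat.prime_two hpp).1 hodd.1.two_dvd
        exact_mod_cast CharP.cast_eq_zero F 2
      rw [h]
      linear_combination h2
    · exact h
  have hs : B.transpose = -B := by rw [hBt, hneg, neg_smul, one_smul]
  have hB0d : ∀ i, (B₀.submatrix e e) i i = 0 := fun i => by
    rw [Matrix.submatrix_apply, hB₀, pureMat_apply]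
    refine Finset.prod_eq_zero (Finset.mem_univ (⟨0, hk⟩ : Fin k)) ?_
    generalize e i ⟨0, hk⟩ = a
    fin_cases a <;> simp [jTwo]
  have hB0s : (B₀.submatrix e e).transpose = -(B₀.submatrix e e) := by
    rw [Matrix.transpose_submatrix, hB₀, pureMat_transpose]
    simp only [jTwo_transpose, pureMat_smul, Finset.prod_const, Finset.card_univ, Fintype.card_fin, hneg]
    ext i j
    simp
  refine sympCase_of_matrix hBu (fun i => ?_) hs hsim
  have e1 : B i i = matForm (B₀.submatrix e e) (Q *ᵥ Pi.single i 1) (Q *ᵥ Pi.single i 1) := by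
    rw [matForm_mulVec, ← hB]
    simp [matForm, single_dotProduct]
  rw [e1]
  exact matForm_alternating hB0d hB0s _

end CfsgLib.Asch
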