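import Cfsg.Agent.Lib.Classical.AschTensorBasic
import Cfsg.Agent.Lib.Classical.AschCases

set_option autoImplicit false
set_option linter.unusedSectionVars false

/-!
An absolutely irreducible product of commuting normal subgroups is a tensor product, and whatever permutes the
factors lies in the tensor wreath product.
-/

namespace CfsgLib.Asch

open Matrix
open Cfsg.Geo (matrixSet scalars mem_scalars_iff ActsIrreducibly ActsAbsolutelyIrreducibly tensorWreathSubgroup)
open CfsgLib.PrimeDim (Inv Nml cent mem_cent scalar_of_comm mulVec_injective inv_mulVec_cancel mulVec_inv_cancel)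
open scoped MatrixGroups Kronecker

variable {F : Type*} [Field F] {n m t k : ℕ}

theorem inv_iSup {ι : Type*} {M : ι → Subgroup (GL (Fin n) F)} {U : Submodule F (Fin n → F)}
    (h : ∀ i, Inv (matrixSet (M i)) U) : Inv (matrixSet (⨆ i, M i)) U := by
  rintro _ ⟨g, hg, rfl⟩
  refine Subgroup.iSup_induction M (C := fun g : GL (Fin n) F => ∀ v ∈ U, (g : Matrix (Fin n) (Fin n) F) *ᵥ v ∈ U)
    hg (fun i x hx => h i _ ⟨x, hx, rfl⟩) (fun v hv => by simpa using hv) fun x y ihx ihy v hv => ?_
  rw [Units.val_mul, ← mulVec_mulVec]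
  exact ihx _ (ihy _ hv)

theorem cent_iSup {ι : Type*} {M : ι → Subgroup (GL (Fin n) F)} {X : Matrix (Fin n) (Fin n) F}
    (h : ∀ i, X ∈ cent (matrixSet (M i))) : X ∈ cent (matrixSet (⨆ i, M i)) := by
  refine mem_cent.2 ?_
  rintro _ ⟨g, hg, rfl⟩
  refine Subgroup.iSup_induction M
    (C := fun g : GL (Fin n) F => (g : Matrix (Fin n) (Fin n) F) * X = X * (g : Matrix (Fin n) (Fin n) F))
    hg (fun i x hx => mem_cent.1 (h i) _ ⟨x, hx, rfl⟩) (by simp) fun x y ihx ihy => ?_
  rw [Units.val_mul, mul_assoc, ihy, ← mul_assoc, ihx, mul_assoc]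

/-- The equivariant image of a minimal invariant subspace. -/
theorem minInv_image {a : ℕ} {S : Set (Matrix (Fin n) (Fin n) F)} {T : Set (Matrix (Fin a) (Fin a) F)}
    (ι : (Fin a → F) →ₗ[F] (Fin n → F)) (hι : Function.Injective ι)
    (hS : ∀ s ∈ S, ∃ s' ∈ T, ∀ v, s *ᵥ ι v = ι (s' *ᵥ v))
    (hT : ∀ s' ∈ T, ∃ s ∈ S, ∀ v, s *ᵥ ι v = ι (s' *ᵥ v))
    {U : Submodule F (Fin a → F)} (hU : MinInv T U) : MinInv S (U.map ι) := by
  refine ⟨?_, fun e => hU.ne_bot ((Submodule.eq_bot_iff _).2 fun v hv => hι ?_), fun Y hY hle => ?_⟩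
  · rintro s hs _ ⟨v, hv, rfl⟩
    obtain ⟨s', hs', e⟩ := hS s hs
    exact ⟨_, hU.inv s' hs' v hv, (e v).symm⟩
  · rw [map_zero]
    exact (Submodule.eq_bot_iff _).1 e _ ⟨v, hv, rfl⟩
  · have hinv : Inv T (Y.comap ι) := by
      intro s' hs' v hv
      obtain ⟨s, hs, e⟩ := hT s' hs'
      rw [Submodule.mem_comap] at hv ⊢
      rw [← e]
      exact hY s hs _ hv
    rcases hU.min _ hinv (fun v hv => by
      obtain ⟨w, hw, e⟩ := hle hv
      exact hι e ▸ hw) with h | h
    · refine Or.inl ((Submodule.eq_bot_iff _).2 fun y hy => ?_)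
      obtain ⟨v, hv, rfl⟩ := hle hy
      rw [(Submodule.eq_bot_iff _).1 h v hy, map_zero]
    · refine Or.inr (le_antisymm hle ?_)
      rintro _ ⟨v, hv, rfl⟩
      exact (h.ge hv : v ∈ Y.comap ι)

/-- The vector `u ⊗ v`. -/
def ten (e : Fin n ≃ Fin m × Fin t) (P : GL (Fin n) F) (u : Fin m → F) (v : Fin t → F) : Fin n → F :=
  (P : Matrix (Fin n) (Fin n) F) *ᵥ fun i => u (e i).1 * v (e i).2

theorem mulVec_ten {e : Fin n ≃ Fin m × Fin t} {P : GL (Fin n) F} {x : Matrix (Fin n) (Fin n) F}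
    {A : Matrix (Fin m) (Fin m) F} {C : Matrix (Fin t) (Fin t) F} (h : coord e P x = A ⊗ₖ C)
    (u : Fin m → F) (v : Fin t → F) : x *ᵥ ten e P u v = ten e P (A *ᵥ u) (C *ᵥ v) := by
  have hx : (↑P⁻¹ : Matrix (Fin n) (Fin n) F) * x * (P : Matrix (Fin n) (Fin n) F) = (A ⊗ₖ C).submatrix e e := by
    rw [← h, coord, Matrix.submatrix_submatrix]
    simp
  have hx' : x * (P : Matrix (Fin n) (Fin n) F) = (P : Matrix (Fin n) (Fin n) F) * (A ⊗ₖ C).submatrix e e := by
    rw [← hx]
    simp only [← mul_assoc, Units.mul_inv, one_mul]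
  rw [ten, ten, mulVec_mulVec, hx', ← mulVec_mulVec]
  congr 1
  funext i
  simp only [mulVec, dotProduct, Matrix.submatrix_apply, Matrix.kroneckerMap_apply]
  rw [Finset.sum_mul_sum, ← Fintype.sum_prod_type' (f := fun a b => A (e i).1 a * u a * (C (e i).2 b * v b)),
    ← Equiv.sum_comp e]
  exact Finset.sum_congr rfl fun j _ => by ring

theorem ten_injective_right (e : Fin n ≃ Fin m × Fin t) (P : GL (Fin n) F) (a : Fin m) {v w : Fin t → F}
    (h : ten e P (Pi.single a 1) v = ten e P (Pi.single a 1) w) : v = w := by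
  funext j
  have h1 := congrArg (fun z => (↑P⁻¹ : Matrix (Fin n) (Fin n) F) *ᵥ z) h
  simp only [ten, inv_mulVec_cancel] at h1
  simpa using congrFun h1 (e.symm (a, j))

theorem ten_injective_left (e : Fin n ≃ Fin m × Fin t) (P : GL (Fin n) F) (b : Fin t) {v w : Fin m → F}
    (h : ten e P v (Pi.single b 1) = ten e P w (Pi.single b 1)) : v = w := by
  funext j
  have h1 := congrArg (fun z => (↑P⁻¹ : Matrix (Fin n) (Fin n) F) *ᵥ z) h
  simp only [ten, inv_mulVec_cancel] at h1
  simpa using congrFun h1 (e.symm (j, b))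

/-- Commuting families of subgroups normalise each other. -/
theorem nml_iSup {ι : Type*} {M : ι → Subgroup (GL (Fin n) F)}
    (hcomm : ∀ i j, i ≠ j → ∀ a ∈ M i, ∀ b ∈ M j, a * b = b * a) (i : ι) : Nml (⨆ j, M j) (M i) := by
  refine ⟨le_iSup M i, fun g hg => ?_⟩
  refine Subgroup.iSup_induction M (C := fun g => ∀ x ∈ M i, g * x * g⁻¹ ∈ M i) hg (fun j y hy x hx => ?_)
    (fun x hx => by simpa using hx) fun a b iha ihb x hx => ?_
  · by_cases h : j = i
    · subst h; exact mul_mem (mul_mem hy hx) (inv_mem hy)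
    · rw [hcomm j i h y hy x hx, mul_inv_cancel_right]; exact hx
  · have := iha _ (ihb x hx)
    simpa [mul_assoc] using this

/-- A product of commuting subgroups as a tensor product. -/
theorem tensor_factors [Finite F] (hm : 2 ≤ m) : ∀ (k n : ℕ) (M : Fin k → Subgroup (GL (Fin n) F)),
    1 ≤ n → (∀ i j, i ≠ j → ∀ a ∈ M i, ∀ b ∈ M j, a * b = b * a) →
    ActsAbsolutelyIrreducibly (matrixSet (⨆ i, M i)) →
    (∀ i W, MinInv (matrixSet (M i)) W → Module.finrank F W = m) →
    ∃ (ρ : ∀ i, M i → Matrix (Fin m) (Fin m) F) (e : Fin n ≃ (Fin k → Fin m)) (P : GL (Fin n) F),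
      (∀ i, ActsIrreducibly (Set.range (ρ i))) ∧
      ∀ i (x : M i), tcoord e P ((x : GL (Fin n) F) : Matrix (Fin n) (Fin n) F) = slot i (ρ i x) := by
  classical
  intro k
  induction k with
  | zero =>
    intro n M hn _ habs _
    have hn1 : n = 1 := by
      by_contra h
      refine not_le_scalars (by omega) habs.1 (iSup_le fun i => i.elim0)
    exact ⟨fun i => i.elim0, (finCongr hn1).trans (Equiv.ofUnique _ _), 1, fun i => i.elim0, fun i => i.elim0⟩
  | succ k ih =>
    intro n M hn hcomm habs hdim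
    set G := ⨆ i, M i with hG
    have hN := nml_iSup hcomm 0
    have hS := semisimple_of_normal habs.1 hN
    have hmemcent : ∀ j, j ≠ 0 → ∀ x ∈ M j, (x : Matrix (Fin n) (Fin n) F) ∈ cent (matrixSet (M 0)) := by
      intro j hj x hx
      refine mem_cent.2 ?_
      rintro _ ⟨y, hy, rfl⟩
      exact congrArg Units.val (hcomm 0 j hj.symm y hy x hx)
    obtain ⟨W, hW, -⟩ := exists_minInv (S := matrixSet (M 0)) (U := ⊤) (fun s _ v _ => Submodule.mem_top) (by
      haveI : Nonempty (Fin n) := ⟨⟨0, hn⟩⟩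
      exact top_ne_bot)
    have htop : comp (matrixSet (M 0)) W = ⊤ := by
      refine (PrimeDim.irreducible_iff.1 habs.1 _ (inv_iSup fun i => ?_)).resolve_left fun e =>
        hW.ne_bot (eq_bot_iff.2 ((le_comp W).trans e.le))
      by_cases h : i = 0
      · subst h; exact inv_comp hW.inv
      · rintro _ ⟨x, hx, rfl⟩ v hv
        exact cent_comp W _ (hmemcent i h x hx) v hv
    obtain ⟨m', t, ρ₀, e₀, P₀, hm', ht, hρ₀⟩ := exists_homog hn hS hW htop
    -- the dimension of the first factor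
    obtain rfl : m = m' := by
      let ι : (Fin m' → F) →ₗ[F] (Fin n → F) :=
        { toFun := fun u => ten e₀ P₀ u (Pi.single ⟨0, ht⟩ 1)
          map_add' := fun u v => by simp only [ten, Pi.add_apply, add_mul, ← mulVec_add]; rfl
          map_smul' := fun c u => by
            simp only [ten, Pi.smul_apply, smul_eq_mul, mul_assoc, RingHom.id_apply, ← mulVec_smul]; rfl }
      have hι : Function.Injective ι := fun u v h => ten_injective_left e₀ P₀ _ h
      have heq : ∀ x : M 0, ∀ v, ((x : GL (Fin n) F) : Matrix (Fin n) (Fin n) F) *ᵥ ι v = ι (ρ₀ x *ᵥ v) := by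
        intro x v
        show _ *ᵥ ten e₀ P₀ v _ = ten e₀ P₀ (ρ₀ x *ᵥ v) _
        rw [mulVec_ten (show coord e₀ P₀ _ = ρ₀ x ⊗ₖ 1 from hρ₀.kron x), one_mulVec]
      have hmin : MinInv (Set.range ρ₀) (⊤ : Submodule F (Fin m' → F)) := by
        haveI : Nonempty (Fin m') := ⟨⟨0, hm'⟩⟩
        exact ⟨fun s _ v _ => Submodule.mem_top, top_ne_bot, fun Y hY _ => PrimeDim.irreducible_iff.1 hρ₀.irr Y hY⟩
      have h := hdim 0 _ (minInv_image (S := matrixSet (M 0)) ι hι (by
        rintro _ ⟨x, hx, rfl⟩; exact ⟨_, ⟨⟨x, hx⟩, rfl⟩, heq ⟨x, hx⟩⟩) (by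
        rintro _ ⟨x, rfl⟩; exact ⟨_, ⟨x, x.2, rfl⟩, heq x⟩) hmin)
      rw [← (Submodule.equivMapOfInjective ι hι ⊤).finrank_eq, finrank_top, Module.finrank_fin_fun] at h
      exact h.symm
    -- absolute irreducibility of the first factor
    haveI : Nonempty (Fin n) := ⟨⟨0, hn⟩⟩
    have habs₀ : ActsAbsolutelyIrreducibly (Set.range ρ₀) := by
      rcases ext_or_tensor hN hρ₀ hm' ht with ⟨d, K, hd, hK⟩ | h
      · exfalso
        have hle : K ≤ ⊥ := by
          intro x hx
          obtain ⟨hxc, hxcomm⟩ := (hK.2.2 x).1 hx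
          have hxG : x ∈ cent (matrixSet G) := cent_iSup fun i => by
            by_cases h : i = 0
            · subst h; exact hxc
            · refine mem_cent.2 ?_
              rintro _ ⟨y, hy, rfl⟩
              exact (hxcomm _ (hmemcent i h y hy)).symm
          obtain ⟨c, hc⟩ := habs.2 x fun s hs => (mem_cent.1 hxG s hs).symm
          rw [hc, Algebra.mem_bot]
          exact ⟨c, Algebra.algebraMap_eq_smul_one c⟩
        have h1 := hK.1.finrank_eq
        rw [le_bot_iff.1 hle, Subalgebra.finrank_bot] at h1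
        omega
      · exact h.2.1
    let a₀ : Fin m := ⟨0, hm'⟩
    let Cf : Fin k → Matrix (Fin n) (Fin n) F → Matrix (Fin t) (Fin t) F :=
      fun _ x => Matrix.of fun i j => coord e₀ P₀ x (a₀, i) (a₀, j)
    have hC : ∀ (j : Fin k) (x : M j.succ), coord e₀ P₀ ((x : GL (Fin n) F) : Matrix (Fin n) (Fin n) F) =
        (1 : Matrix (Fin m) (Fin m) F) ⊗ₖ Cf j ((x : GL (Fin n) F) : Matrix (Fin n) (Fin n) F) := by
      intro j x
      refine blk_ext fun p q => ?_
      have hb := hρ₀.blk_cent (hmemcent j.succ (Fin.succ_ne_zero j) x x.2) p q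
      obtain ⟨c, hc⟩ := habs₀.2 _ fun s hs => (mem_cent.1 hb s hs).symm
      have hc' : blk (coord e₀ P₀ ((x : GL (Fin n) F) : Matrix (Fin n) (Fin n) F)) p q = c • 1 := hc
      have hval : Cf j ((x : GL (Fin n) F) : Matrix (Fin n) (Fin n) F) p q = c := by
        have := congrFun (congrFun hc' a₀) a₀
        simpa [Cf, blk] using this
      rw [hc']
      ext i i'
      simp [blk, hval, Matrix.one_apply, mul_comm]
    have hCmul : ∀ (j : Fin k) (x y : M j.succ), Cf j (((x * y : M j.succ) : GL (Fin n) F) : Matrix (Fin n) (Fin n) F) =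
        Cf j ((x : GL (Fin n) F) : Matrix (Fin n) (Fin n) F) * Cf j ((y : GL (Fin n) F) : Matrix (Fin n) (Fin n) F) := by
      intro j x y
      ext i i'
      have h := hC j (x * y)
      rw [Subgroup.coe_mul, Units.val_mul, coord_mul, hC, hC, ← mul_kronecker_mul, one_mul] at h
      have := congrFun (congrFun h (a₀, i)) (a₀, i')
      simpa [eq_comm] using this
    have hC1 : ∀ j : Fin k, Cf j (((1 : M j.succ) : GL (Fin n) F) : Matrix (Fin n) (Fin n) F) = 1 := by
      intro j
      ext i i'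
      simp [Cf, coord, Matrix.one_apply]
    let θ : ∀ j : Fin k, M j.succ →* GL (Fin t) F := fun j =>
      MonoidHom.toHomUnits
        { toFun := fun x => Cf j ((x : GL (Fin n) F) : Matrix (Fin n) (Fin n) F)
          map_one' := hC1 j
          map_mul' := hCmul j }
    have hθ : ∀ j x, ((θ j x : GL (Fin t) F) : Matrix (Fin t) (Fin t) F) = Cf j ((x : GL (Fin n) F) : Matrix (Fin n) (Fin n) F) :=
      fun _ _ => rfl
    let M' : Fin k → Subgroup (GL (Fin t) F) := fun j => (θ j).range
    have hcomm' : ∀ i j, i ≠ j → ∀ a ∈ M' i, ∀ b ∈ M' j, a * b = b * a := by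
      rintro i j hij _ ⟨x, rfl⟩ _ ⟨y, rfl⟩
      apply Units.ext
      rw [Units.val_mul, Units.val_mul, hθ, hθ]
      have h := congrArg (fun g : GL (Fin n) F => coord e₀ P₀ (g : Matrix (Fin n) (Fin n) F))
        (hcomm i.succ j.succ (fun e => hij (Fin.succ_inj.1 e)) x x.2 y y.2)
      simp only [Units.val_mul, coord_mul, hC, ← mul_kronecker_mul, one_mul] at h
      ext p q
      simpa using congrFun (congrFun h (a₀, p)) (a₀, q)
    have habs' : ActsAbsolutelyIrreducibly (matrixSet (⨆ j, M' j)) := by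
      refine ⟨PrimeDim.irreducible_iff.2 fun U hU => ?_, fun X hX => ?_⟩
      · -- the vectors with all slices in U
        let φ : Fin m → (Fin n → F) →ₗ[F] (Fin t → F) := fun a =>
          (LinearMap.funLeft F F (fun j => e₀.symm (a, j))).comp (Matrix.toLin' (↑P₀⁻¹ : Matrix (Fin n) (Fin n) F))
        have hφ : ∀ a v j, φ a v j = ((↑P₀⁻¹ : Matrix (Fin n) (Fin n) F) *ᵥ v) (e₀.symm (a, j)) := fun _ _ _ => rfl
        have hact : ∀ (A : Matrix (Fin m) (Fin m) F) (C : Matrix (Fin t) (Fin t) F) (x : Matrix (Fin n) (Fin n) F),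
            coord e₀ P₀ x = A ⊗ₖ C → ∀ a v, φ a (x *ᵥ v) = ∑ a', A a a' • (C *ᵥ φ a' v) := by
          intro A C x hx a v
          funext j
          rw [hφ, Finset.sum_apply]
          set w := (↑P₀⁻¹ : Matrix (Fin n) (Fin n) F) *ᵥ v with hw
          have e1 : (↑P₀⁻¹ : Matrix (Fin n) (Fin n) F) *ᵥ (x *ᵥ v) =
              ((↑P₀⁻¹ : Matrix (Fin n) (Fin n) F) * x * (P₀ : Matrix (Fin n) (Fin n) F)) *ᵥ w := by
            simp only [hw, mulVec_mulVec, mul_assoc, Units.mul_inv, mul_one]
          rw [e1, show (↑P₀⁻¹ : Matrix (Fin n) (Fin n) F) * x * (P₀ : Matrix (Fin n) (Fin n) F) =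
            (A ⊗ₖ C).submatrix e₀ e₀ by rw [← hx, coord, Matrix.submatrix_submatrix]; simp]
          have hφ' : ∀ a', φ a' v = fun j => w (e₀.symm (a', j)) := fun _ => rfl
          simp only [hφ']
          clear_value w
          simp only [mulVec, dotProduct, Matrix.submatrix_apply, Equiv.apply_symm_apply, Pi.smul_apply,
            smul_eq_mul, Finset.mul_sum]
          rw [← Equiv.sum_comp e₀.symm, Fintype.sum_prod_type]
          exact Finset.sum_congr rfl fun a' _ => Finset.sum_congr rfl fun j' _ => by simp; ring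
        let X : Submodule F (Fin n → F) := ⨅ a, U.comap (φ a)
        have hXmem : ∀ v, v ∈ X ↔ ∀ a, φ a v ∈ U := fun v => by simp [X, Submodule.mem_iInf]
        have hinv : Inv (matrixSet G) X := inv_iSup fun i => by
          rintro _ ⟨x, hx, rfl⟩ v hv
          rw [hXmem] at hv ⊢
          intro a
          rcases Fin.eq_zero_or_eq_succ i with rfl | ⟨j, rfl⟩
          · rw [hact _ 1 _ (hρ₀.kron ⟨x, hx⟩)]
            exact Submodule.sum_mem _ fun a' _ => Submodule.smul_mem _ _ (by rw [one_mulVec]; exact hv a')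
          · rw [hact 1 _ _ (hC j ⟨x, hx⟩)]
            refine Submodule.sum_mem _ fun a' _ => Submodule.smul_mem _ _ ?_
            rw [← hθ j ⟨x, hx⟩]
            exact hU _ ⟨_, Subgroup.mem_iSup_of_mem j ⟨⟨x, hx⟩, rfl⟩, rfl⟩ _ (hv a')
        have hten : ∀ a u, φ a (ten e₀ P₀ (Pi.single a₀ 1) u) = (Pi.single a₀ 1 : Fin m → F) a • u := by
          intro a u
          funext j
          rw [hφ, ten, inv_mulVec_cancel]
          simp
        rcases PrimeDim.irreducible_iff.1 habs.1 X hinv with h | h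
        · refine Or.inl ((Submodule.eq_bot_iff _).2 fun u hu => ?_)
          have h1 : ten e₀ P₀ (Pi.single a₀ 1) u ∈ X := (hXmem _).2 fun a => by
            rw [hten]; exact Submodule.smul_mem _ _ hu
          rw [h, Submodule.mem_bot] at h1
          refine ten_injective_right e₀ P₀ a₀ (h1.trans ?_)
          symm
          simp [ten]
          exact mulVec_zero _
        · refine Or.inr (eq_top_iff.2 fun u _ => ?_)
          have h1 := (hXmem _).1 (h ▸ Submodule.mem_top : ten e₀ P₀ (Pi.single a₀ 1) u ∈ X) a₀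
          simpa [hten] using h1
      · -- a centralising matrix
        obtain ⟨Y, hY⟩ : ∃ Y : Matrix (Fin n) (Fin n) F, Y = (P₀ : Matrix (Fin n) (Fin n) F) *
            ((1 : Matrix (Fin m) (Fin m) F) ⊗ₖ X).submatrix e₀ e₀ * (↑P₀⁻¹ : Matrix (Fin n) (Fin n) F) := ⟨_, rfl⟩
        have hcY : coord e₀ P₀ Y = (1 : Matrix (Fin m) (Fin m) F) ⊗ₖ X := by
          rw [hY]
          simp only [coord, mul_assoc, Units.inv_mul_cancel_left, Units.inv_mul, mul_one, Matrix.submatrix_submatrix,
            Equiv.self_comp_symm, Matrix.submatrix_id_id]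
        have hYG : Y ∈ cent (matrixSet G) := cent_iSup fun i => by
          refine mem_cent.2 ?_
          rintro _ ⟨x, hx, rfl⟩
          apply coord_injective e₀ P₀
          rcases Fin.eq_zero_or_eq_succ i with rfl | ⟨j, rfl⟩
          · rw [coord_mul, coord_mul, show coord e₀ P₀ (x : Matrix (Fin n) (Fin n) F) = _ from hρ₀.kron ⟨x, hx⟩, hcY,
              ← mul_kronecker_mul, ← mul_kronecker_mul, one_mul, mul_one, one_mul, mul_one]
          · rw [coord_mul, coord_mul, hC j ⟨x, hx⟩, hcY, ← mul_kronecker_mul, ← mul_kronecker_mul, one_mul,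
              ← hθ j ⟨x, hx⟩, hX _ ⟨_, Subgroup.mem_iSup_of_mem j ⟨⟨x, hx⟩, rfl⟩, rfl⟩]
        obtain ⟨c, hc⟩ := habs.2 Y fun s hs => (mem_cent.1 hYG s hs).symm
        refine ⟨c, ?_⟩
        rw [hc] at hcY
        ext p q
        have := congrFun (congrFun hcY (a₀, p)) (a₀, q)
        simpa [coord, Matrix.one_apply, eq_comm] using this.symm
    have hdim' : ∀ j U, MinInv (matrixSet (M' j)) U → Module.finrank F U = m := by
      intro j U hU
      let ι : (Fin t → F) →ₗ[F] (Fin n → F) :=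
        { toFun := fun u => ten e₀ P₀ (Pi.single a₀ 1) u
          map_add' := fun u v => by simp only [ten, Pi.add_apply, mul_add, ← mulVec_add]; rfl
          map_smul' := fun c u => by
            simp only [ten, Pi.smul_apply, smul_eq_mul, mul_left_comm _ c, RingHom.id_apply, ← mulVec_smul]; rfl }
      have hι : Function.Injective ι := fun u v h => ten_injective_right e₀ P₀ a₀ h
      have heq : ∀ x : M j.succ, ∀ v, ((x : GL (Fin n) F) : Matrix (Fin n) (Fin n) F) *ᵥ ι v =
          ι (((θ j x : GL (Fin t) F) : Matrix (Fin t) (Fin t) F) *ᵥ v) := by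
        intro x v
        show _ *ᵥ ten e₀ P₀ _ v = ten e₀ P₀ _ (_ *ᵥ v)
        rw [mulVec_ten (hC j x), one_mulVec, hθ]
      have h := hdim j.succ _ (minInv_image (S := matrixSet (M j.succ)) ι hι (by
        rintro _ ⟨x, hx, rfl⟩; exact ⟨_, ⟨_, ⟨⟨x, hx⟩, rfl⟩, rfl⟩, heq ⟨x, hx⟩⟩) (by
        rintro _ ⟨_, ⟨x, rfl⟩, rfl⟩; exact ⟨_, ⟨x, x.2, rfl⟩, heq x⟩) hU)
      rwa [← (Submodule.equivMapOfInjective ι hι U).finrank_eq] at h
    obtain ⟨ρ', e', P', hirr', hrep'⟩ := ih t M' ht hcomm' habs' hdim'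
    -- glue
    let e : Fin n ≃ (Fin (k + 1) → Fin m) :=
      e₀.trans ((Equiv.prodCongr (Equiv.refl (Fin m)) e').trans (Fin.consEquiv fun _ => Fin m))
    let Qh : GL (Fin t) F →* GL (Fin n) F := Units.map
      { toFun := fun g => ((1 : Matrix (Fin m) (Fin m) F) ⊗ₖ g).submatrix e₀ e₀
        map_one' := by simp [Matrix.submatrix_one_equiv]
        map_mul' := fun g g' => by rw [Matrix.submatrix_mul_equiv, ← mul_kronecker_mul, one_mul] }
    have hQ : ∀ g : GL (Fin t) F, (Qh g : Matrix (Fin n) (Fin n) F) =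
        ((1 : Matrix (Fin m) (Fin m) F) ⊗ₖ (g : Matrix (Fin t) (Fin t) F)).submatrix e₀ e₀ := fun _ => rfl
    have hcoord : ∀ (x : Matrix (Fin n) (Fin n) F) (A : Matrix (Fin m) (Fin m) F) (C : Matrix (Fin t) (Fin t) F),
        coord e₀ P₀ x = A ⊗ₖ C → ∀ z w, tcoord e (P₀ * Qh P') x z w =
          A (z 0) (w 0) * tcoord e' P' C (Fin.tail z) (Fin.tail w) := by
      intro x A C hx z w
      have hx' : (↑P₀⁻¹ : Matrix (Fin n) (Fin n) F) * x * (P₀ : Matrix (Fin n) (Fin n) F) =
          (A ⊗ₖ C).submatrix e₀ e₀ := by rw [← hx, coord, Matrix.submatrix_submatrix]; simp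
      have h1 : (↑(P₀ * Qh P')⁻¹ : Matrix (Fin n) (Fin n) F) * x * ((P₀ * Qh P' : GL (Fin n) F) : Matrix (Fin n) (Fin n) F) =
          (A ⊗ₖ ((↑P'⁻¹ : Matrix (Fin t) (Fin t) F) * C * (P' : Matrix (Fin t) (Fin t) F))).submatrix e₀ e₀ := by
        rw [_root_.mul_inv_rev, Units.val_mul, Units.val_mul, ← map_inv, hQ, hQ,
          show ∀ a b : Matrix (Fin n) (Fin n) F, a * (↑P₀⁻¹ : Matrix (Fin n) (Fin n) F) * x *
            ((P₀ : Matrix (Fin n) (Fin n) F) * b) = a * ((↑P₀⁻¹ : Matrix (Fin n) (Fin n) F) * x *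
              (P₀ : Matrix (Fin n) (Fin n) F)) * b from fun a b => by simp only [mul_assoc],
          hx', Matrix.submatrix_mul_equiv, Matrix.submatrix_mul_equiv, ← mul_kronecker_mul, ← mul_kronecker_mul,
          one_mul, mul_one]
      rw [tcoord, h1]
      simp [e, tcoord, Fin.consEquiv]
    let ρ : ∀ i, M i → Matrix (Fin m) (Fin m) F :=
      Fin.cases (motive := fun i => M i → Matrix (Fin m) (Fin m) F) ρ₀ fun j x => ρ' j ((θ j).rangeRestrict x)
    refine ⟨ρ, e, P₀ * Qh P', fun i => ?_, fun i x => ?_⟩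
    · rcases Fin.eq_zero_or_eq_succ i with rfl | ⟨j, rfl⟩
      · simpa [ρ] using hρ₀.irr
      · have : Set.range (ρ j.succ) = Set.range (ρ' j) :=
          (θ j).rangeRestrict_surjective.range_comp (ρ' j)
        rw [this]
        exact hirr' j
    · rcases Fin.eq_zero_or_eq_succ i with rfl | ⟨j, rfl⟩
      · ext z w
        rw [hcoord _ _ 1 (hρ₀.kron x), slot_apply]
        have e1 : tcoord e' P' (1 : Matrix (Fin t) (Fin t) F) = 1 := by
          simp [tcoord, Matrix.submatrix_one_equiv]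
        rw [e1, Matrix.one_apply]
        by_cases h : Fin.tail z = Fin.tail w
        · rw [if_pos h, if_pos fun j hj => ?_]
          · simp [ρ]
          · obtain ⟨j, rfl⟩ := Fin.exists_succ_eq.2 hj
            exact congrFun h j
        · rw [if_neg h, if_neg, mul_zero]
          exact fun h' => h (funext fun j => h' j.succ (Fin.succ_ne_zero j))
      · ext z w
        rw [hcoord _ 1 _ (hC j x), slot_apply]
        have e1 : tcoord e' P' (Cf j ((x : GL (Fin n) F) : Matrix (Fin n) (Fin n) F)) =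
            slot j (ρ' j ((θ j).rangeRestrict x)) := by
          rw [← hrep' j ((θ j).rangeRestrict x)]
          rfl
        rw [e1, slot_apply, Matrix.one_apply]
        by_cases h : ∀ l, l ≠ j.succ → z l = w l
        · rw [if_pos (h 0 (Fin.succ_ne_zero j).symm), if_pos h,
            if_pos (show ∀ l : Fin k, l ≠ j → Fin.tail z l = Fin.tail w l from
              fun l hl => h l.succ fun e => hl (Fin.succ_inj.1 e)), one_mul]
          simp [ρ, Fin.tail]
        · rw [if_neg h]
          by_cases h0 : z 0 = w 0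
          · have hn' : ¬ ∀ l : Fin k, l ≠ j → Fin.tail z l = Fin.tail w l := by
              intro h'
              refine h fun l hl => ?_
              rcases Fin.eq_zero_or_eq_succ l with rfl | ⟨l, rfl⟩
              · exact h0
              · exact h' l fun e => hl (by rw [e])
            rw [if_neg hn', if_pos h0, mul_zero]
          · rw [if_neg h0, zero_mul]

/-- The coordinates of whatever permutes the factors. -/
theorem factor_normalizer_coords [Finite F] (hn : 1 ≤ n) (hk : 1 ≤ k) {M : Fin k → Subgroup (GL (Fin n) F)}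
    {ρ : ∀ i, M i → Matrix (Fin m) (Fin m) F} {e : Fin n ≃ (Fin k → Fin m)} {P : GL (Fin n) F}
    (hirr : ∀ i, ActsIrreducibly (Set.range (ρ i)))
    (hrep : ∀ i (x : M i), tcoord e P ((x : GL (Fin n) F) : Matrix (Fin n) (Fin n) F) = slot i (ρ i x))
    (habs : ActsAbsolutelyIrreducibly (matrixSet (⨆ i, M i))) {h : GL (Fin n) F} {σ : Equiv.Perm (Fin k)}
    (hσ : ∀ i, ∀ x ∈ M i, h * x * h⁻¹ ∈ M (σ i)) :
    ∃ gs : Fin k → GL (Fin m) F, tcoord e P (h : Matrix (Fin n) (Fin n) F) =
      pureMat (fun i => (gs i : Matrix (Fin m) (Fin m) F)) * permMat σ := by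
  classical
  set G := tcoord e P (h : Matrix (Fin n) (Fin n) F) with hG
  let ρ' : ∀ i, M i → Matrix (Fin m) (Fin m) F := fun i x => ρ (σ i) ⟨h * x * h⁻¹, hσ i x x.2⟩
  have hGs : ∀ i (x : M i), G * slot i (ρ i x) = slot (σ i) (ρ' i x) * G := by
    intro i x
    rw [hG, ← hrep, ← hrep, ← tcoord_mul, ← tcoord_mul]
    congr 1
    simp [mul_assoc]
  obtain ⟨a, b, hab⟩ : ∃ a b, G a b ≠ 0 := by
    by_contra hc
    push Not at hc
    have h0 : (h : Matrix (Fin n) (Fin n) F) = 0 := tcoord_injective e P (by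
      rw [← hG, Matrix.ext hc]
      ext p q
      simp [tcoord])
    haveI : Nonempty (Fin n) := ⟨⟨0, hn⟩⟩
    exact h.ne_zero h0
  -- the factors
  let X : Fin k → Matrix (Fin m) (Fin m) F := fun i =>
    Matrix.of fun u v => G (Function.update a (σ i) u) (Function.update b i v)
  have hX : ∀ i (x : M i), X i * ρ i x = ρ' i x * X i := by
    intro i x
    ext u v
    have h1 := congrFun (congrFun (hGs i x) (Function.update a (σ i) u)) (Function.update b i v)
    simp only [mul_slot, slot_mul, Function.update_idem, Function.update_self] at h1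
    simpa [X, Matrix.mul_apply] using h1
  have hXne : ∀ i, X i ≠ 0 := fun i e0 => hab (by
    have := congrFun (congrFun e0 (a (σ i))) (b i)
    simpa [X] using this)
  have hXu : ∀ i, IsUnit (X i) := fun i => irreducible_intertwiner (hirr i) (hX i) (hXne i)
  choose A hA using hXu
  let gs : Fin k → GL (Fin m) F := fun l => A (σ.symm l)
  set T : Matrix (Fin k → Fin m) (Fin k → Fin m) F :=
    pureMat (fun l => (gs l : Matrix (Fin m) (Fin m) F)) * permMat σ with hT
  have hTapply : ∀ x y, T x y = ∏ i, X i (x (σ i)) (y i) := fun x y => by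
    rw [hT, pureMat_mul_permMat]
    simp [gs, hA]
  have hTs : ∀ i (x : M i), T * slot i (ρ i x) = slot (σ i) (ρ' i x) * T := by
    intro i x
    ext p q
    rw [mul_slot, slot_mul]
    have hL : ∀ w, T p (Function.update q i w) =
        X i (p (σ i)) w * ∏ l ∈ Finset.univ.erase i, X l (p (σ l)) (q l) := fun w => by
      rw [hTapply, ← Finset.mul_prod_erase _ _ (Finset.mem_univ i), Function.update_self]
      congr 1
      exact Finset.prod_congr rfl fun l hl => by rw [Function.update_of_ne (Finset.ne_of_mem_erase hl)]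
    have hR : ∀ w, T (Function.update p (σ i) w) q =
        X i w (q i) * ∏ l ∈ Finset.univ.erase i, X l (p (σ l)) (q l) := fun w => by
      rw [hTapply, ← Finset.mul_prod_erase _ _ (Finset.mem_univ i), Function.update_self]
      congr 1
      exact Finset.prod_congr rfl fun l hl => by
        rw [Function.update_of_ne (fun e' => Finset.ne_of_mem_erase hl (σ.injective e'))]
    simp only [hL, hR]
    have h1 := congrFun (congrFun (hX i x) (p (σ i))) (q i)
    rw [Matrix.mul_apply, Matrix.mul_apply] at h1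
    calc ∑ w, X i (p (σ i)) w * (∏ l ∈ Finset.univ.erase i, X l (p (σ l)) (q l)) * ρ i x w (q i)
        = (∑ w, X i (p (σ i)) w * ρ i x w (q i)) * ∏ l ∈ Finset.univ.erase i, X l (p (σ l)) (q l) := by
          rw [Finset.sum_mul]; exact Finset.sum_congr rfl fun w _ => by ring
      _ = _ := by rw [h1, Finset.sum_mul]; exact Finset.sum_congr rfl fun w _ => by ring
  obtain ⟨U, hU⟩ : IsUnit T := by
    refine IsUnit.mul (IsUnit.of_mul_eq_one (pureMat fun l => ((gs l)⁻¹ : GL (Fin m) F).val) ?_)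
      (IsUnit.of_mul_eq_one (permMat σ⁻¹) (by rw [permMat_mul, mul_inv_cancel, permMat_one]))
    rw [pureMat_mul]
    simp only [Units.mul_inv]
    exact pureMat_one
  obtain ⟨Z, hZ⟩ : ∃ Z : Matrix (Fin n) (Fin n) F, Z = (P : Matrix (Fin n) (Fin n) F) *
      ((↑U⁻¹ : Matrix (Fin k → Fin m) (Fin k → Fin m) F) * G).submatrix e e * (↑P⁻¹ : Matrix (Fin n) (Fin n) F) :=
    ⟨_, rfl⟩
  have hcZ : tcoord e P Z = (↑U⁻¹ : Matrix (Fin k → Fin m) (Fin k → Fin m) F) * G := by
    rw [hZ]
    simp only [tcoord, mul_assoc, Units.inv_mul_cancel_left, Units.inv_mul, mul_one, Matrix.submatrix_submatrix,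
      Equiv.self_comp_symm, Matrix.submatrix_id_id]
  obtain ⟨c, hc⟩ := habs.2 Z fun s hs => (mem_cent.1 (cent_iSup (M := M) fun i => mem_cent.2 (by
    rintro _ ⟨x, hx, rfl⟩
    apply tcoord_injective e P
    rw [tcoord_mul, tcoord_mul, hcZ, show tcoord e P (x : Matrix (Fin n) (Fin n) F) = _ from hrep i ⟨x, hx⟩,
      mul_assoc, hGs, ← mul_assoc, ← mul_assoc]
    congr 1
    apply (Units.mul_left_inj U).1
    rw [Units.inv_mul_cancel_right]
    apply (Units.mul_right_inj U).1
    rw [hU, hTs i ⟨x, hx⟩, ← hU]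
    simp only [mul_assoc, Units.mul_inv_cancel_left])) s hs).symm
  have hGT : G = c • T := by
    rw [hc] at hcZ
    have h1 : tcoord e P (c • (1 : Matrix (Fin n) (Fin n) F)) = c • 1 := by
      ext p q
      simp [tcoord, Matrix.one_apply]
    have := congrArg (fun X => (U : Matrix (Fin k → Fin m) (Fin k → Fin m) F) * X) hcZ
    rw [h1, Units.mul_inv_cancel_left, mul_smul_comm, mul_one, hU] at this
    exact this.symm
  have hc0 : c ≠ 0 := fun e0 => hab (by rw [hGT, e0, zero_smul]; rfl)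
  let l₀ : Fin k := ⟨0, hk⟩
  let cs : Fin k → F := Function.update (fun _ => 1) l₀ c
  refine ⟨fun l => PrimeDim.sc (Units.mk0 (cs l) (by
    by_cases hl : l = l₀
    · subst hl; simpa [cs] using hc0
    · simp [cs, Function.update_of_ne hl])) * gs l, ?_⟩
  rw [hGT, hT, ← smul_mul_assoc]
  congr 1
  simp only [Units.val_mul, PrimeDim.sc_val, Units.val_mk0, smul_mul, one_mul, pureMat_smul]
  congr 1
  simp [cs, Finset.prod_update_of_mem]

/-- Whatever permutes the factors lies in the wreath product. -/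
theorem factor_normalizer [Finite F] (hn : 1 ≤ n) (hk : 1 ≤ k) {M : Fin k → Subgroup (GL (Fin n) F)}
    {ρ : ∀ i, M i → Matrix (Fin m) (Fin m) F} {e : Fin n ≃ (Fin k → Fin m)} {P : GL (Fin n) F}
    (hirr : ∀ i, ActsIrreducibly (Set.range (ρ i)))
    (hrep : ∀ i (x : M i), tcoord e P ((x : GL (Fin n) F) : Matrix (Fin n) (Fin n) F) = slot i (ρ i x))
    (habs : ActsAbsolutelyIrreducibly (matrixSet (⨆ i, M i))) {h : GL (Fin n) F} {σ : Equiv.Perm (Fin k)}
    (hσ : ∀ i, ∀ x ∈ M i, h * x * h⁻¹ ∈ M (σ i)) : h ∈ tensorWreathSubgroup m k e P := by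
  obtain ⟨gs, hgs⟩ := factor_normalizer_coords hn hk hirr hrep habs hσ
  exact mem_tensorWreath hgs

end CfsgLib.Asch
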