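import Cfsg.Agent.Lib.Classical.AschUnitBasic
import Cfsg.Agent.Lib.Classical.AschHeisCases

set_option autoImplicit false
set_option linter.unusedSectionVars false

/-!
Normal subgroups of symplectic type and almost simple groups in unitary groups.
-/

namespace CfsgLib.Asch

open Matrix
open Cfsg.Geo (matrixSet scalars mem_scalars_iff ActsIrreducibly ActsAbsolutelyIrreducibly)
open CfsgLib.PrimeDim (Inv Nml Sesq sc sc_val sc_comm sc_mem eq_sc_of_mem_scalars scalar_of_comm)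
open CfsgLib.ClassicalAut (Unitary.Conj)
open scoped MatrixGroups

variable {F : Type*} [Field F] [Fintype F] {q n : ℕ}

/-- Scalars squaring to one: an invariant bilinear form. -/
theorem HeisData.exists_invariant {H N : Subgroup (GL (Fin n) F)} {r : ℕ} (hn : 1 ≤ n) (h : HeisData H N r)
    (h2 : r = 2) (hsc : ∀ u : Fˣ, sc u ∈ N → u ^ 2 = 1) :
    ∃ B : Matrix (Fin n) (Fin n) F, IsUnit B ∧ ∀ g ∈ N, g.valᵀ * B * g.val = B := by
  classical
  subst h2
  haveI : Nonempty (Fin n) := ⟨⟨0, hn⟩⟩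
  haveI : Finite (GL (Fin n) F) := Finite.of_injective _ Units.val_injective
  haveI := Fintype.ofFinite N
  obtain ⟨x₀, hx₀, y₀, hy₀, u₀, hu₀, hu₁, hxy⟩ := h.noncomm
  have hneg : (u₀ : F) = -1 := by
    have : (u₀ : F) * u₀ = 1 := by
      rw [← pow_two, ← Units.val_pow_eq_pow_val, hu₀, Units.val_one]
    rcases mul_self_eq_one_iff.1 this with e | e
    · exact absurd (Units.ext e) hu₁
    · exact e
  have hu₀N : sc u₀ ∈ N := by
    have : sc u₀ = x₀ * y₀ * (y₀ * x₀)⁻¹ := by rw [hxy, mul_assoc, mul_inv_cancel, mul_one]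
    rw [this]
    exact mul_mem (mul_mem hx₀ hy₀) (inv_mem (mul_mem hy₀ hx₀))
  have h20 : (2 : F) ≠ 0 := fun e => hu₁ (Units.ext (by
    rw [hneg, Units.val_one]
    exact neg_eq_of_add_eq_zero_right ((one_add_one_eq_two).trans e)))
  have hcardN : (Fintype.card N : F) ≠ 0 := by
    haveI : Fact (Nat.Prime 2) := ⟨Nat.prime_two⟩
    obtain ⟨k, hk⟩ := IsPGroup.iff_card.1 h.pGroup
    rw [← Nat.card_eq_fintype_card, hk, Nat.cast_pow]
    exact pow_ne_zero _ (by exact_mod_cast h20)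
  -- the dimension is invertible
  have hn0 : (n : F) ≠ 0 := by
    intro e
    let i₀ : Fin n := ⟨0, hn⟩
    let X : Matrix (Fin n) (Fin n) F := Matrix.single i₀ i₀ 1
    let S : Matrix (Fin n) (Fin n) F := ∑ g : N, ((g : GL (Fin n) F) : Matrix (Fin n) (Fin n) F) * X *
      (↑(g : GL (Fin n) F)⁻¹ : Matrix (Fin n) (Fin n) F)
    obtain ⟨c, hc⟩ := h.abs.2 S (by
      rintro _ ⟨a, ha, rfl⟩
      show S * (a : Matrix (Fin n) (Fin n) F) = (a : Matrix (Fin n) (Fin n) F) * S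
      simp only [S, Finset.sum_mul, Finset.mul_sum]
      symm
      refine Fintype.sum_equiv (Equiv.mulLeft (⟨a, ha⟩ : N)) _ _ fun g => ?_
      simp [mul_assoc])
    have ht := congrArg Matrix.trace hc
    simp only [S, Matrix.trace_sum, Matrix.trace_smul, Matrix.trace_one, Fintype.card_fin, e, smul_zero] at ht
    refine hcardN ?_
    have : ∀ g : N, Matrix.trace (((g : GL (Fin n) F) : Matrix (Fin n) (Fin n) F) * X *
        (↑(g : GL (Fin n) F)⁻¹ : Matrix (Fin n) (Fin n) F)) = 1 := fun g => by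
      rw [Matrix.trace_mul_comm, ← mul_assoc, Units.inv_mul, one_mul]
      simp [X, Matrix.trace_single_eq_same]
    rw [Finset.sum_congr rfl fun g _ => this g] at ht
    simpa using ht
  -- traces
  have htrace : ∀ g : N, (g : GL (Fin n) F) ≠ 1 → (g : GL (Fin n) F) ≠ sc u₀ →
      Matrix.trace ((g : GL (Fin n) F) : Matrix (Fin n) (Fin n) F) = 0 := by
    rintro ⟨g, hg⟩ h1 h2
    by_contra ht
    obtain ⟨w, hw⟩ := eq_sc_of_mem_scalars (scalar_of_comm h.abs fun y hy => (by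
      obtain ⟨u, -, e⟩ := h.comm g hg y hy
      have e' := congrArg (fun z : GL (Fin n) F => (↑y⁻¹ : Matrix (Fin n) (Fin n) F) * (z : Matrix (Fin n) (Fin n) F)) e
      simp only [Units.val_mul, sc_val, smul_mul, one_mul, mul_smul_comm, Units.inv_mul_cancel_left] at e'
      have e2 := congrArg Matrix.trace e'
      rw [← mul_assoc, Matrix.trace_mul_comm, ← mul_assoc, Units.mul_inv, one_mul, Matrix.trace_smul] at e2
      have hu : u = 1 := Units.ext ((mul_eq_right₀ ht).1 e2.symm)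
      rwa [hu, sc_one, one_mul] at e : g * y = y * g))
    have hw2 := hsc w (hw ▸ hg)
    have : (w : F) * w = 1 := by rw [← pow_two, ← Units.val_pow_eq_pow_val, hw2, Units.val_one]
    rcases mul_self_eq_one_iff.1 this with e | e
    · exact h1 (show g = 1 by rw [hw, show w = 1 from Units.ext e, sc_one])
    · exact h2 (show g = sc u₀ by rw [hw, show w = u₀ from Units.ext (e.trans hneg.symm)])
  -- some average is non-zero
  obtain ⟨i, j, hij⟩ : ∃ i j : Fin n, (∑ g : N, ((g : GL (Fin n) F) : Matrix (Fin n) (Fin n) F).transpose *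
      Matrix.single i j (1 : F) * ((g : GL (Fin n) F) : Matrix (Fin n) (Fin n) F)) ≠ 0 := by
    by_contra hc
    push Not at hc
    have hsum : ∑ g : N, Matrix.trace ((g : GL (Fin n) F) : Matrix (Fin n) (Fin n) F) ^ 2 = 0 := by
      have : ∀ g : N, Matrix.trace ((g : GL (Fin n) F) : Matrix (Fin n) (Fin n) F) ^ 2 =
          ∑ i : Fin n, ∑ j : Fin n, ((((g : GL (Fin n) F) : Matrix (Fin n) (Fin n) F).transpose * Matrix.single i j (1 : F) *
            ((g : GL (Fin n) F) : Matrix (Fin n) (Fin n) F) : Matrix (Fin n) (Fin n) F)) i j := fun g => by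
        rw [pow_two, Matrix.trace, Finset.sum_mul_sum]
        refine Finset.sum_congr rfl fun i _ => Finset.sum_congr rfl fun j _ => ?_
        simp [Matrix.mul_apply, Matrix.single, ite_and]
      rw [Finset.sum_congr rfl fun g _ => this g, Finset.sum_comm]
      refine Finset.sum_eq_zero fun i _ => ?_
      rw [Finset.sum_comm]
      refine Finset.sum_eq_zero fun j _ => ?_
      have h' := congrFun (congrFun (hc i j) i) j
      rwa [Matrix.sum_apply] at h'
    have hne : (⟨1, one_mem N⟩ : N) ≠ ⟨sc u₀, hu₀N⟩ := fun e =>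
      hu₁ (sc_injective hn ((congrArg Subtype.val e).symm.trans sc_one.symm))
    rw [Fintype.sum_eq_add (⟨1, one_mem N⟩ : N) ⟨sc u₀, hu₀N⟩ hne fun g hg => by
      rw [htrace g (fun e => hg.1 (Subtype.ext e)) (fun e => hg.2 (Subtype.ext e))]; ring] at hsum
    simp only [Units.val_one, sc_val, hneg, Matrix.trace_one, Matrix.trace_smul, Fintype.card_fin,
      smul_eq_mul] at hsum
    exact mul_ne_zero h20 (pow_ne_zero 2 hn0) (by linear_combination hsum)
  obtain ⟨S, hS⟩ : ∃ S : Matrix (Fin n) (Fin n) F, S = ∑ g : N, ((g : GL (Fin n) F) : Matrix (Fin n) (Fin n) F).transpose *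
      Matrix.single i j (1 : F) * ((g : GL (Fin n) F) : Matrix (Fin n) (Fin n) F) := ⟨_, rfl⟩
  have hinv : ∀ a ∈ N, a.valᵀ * S * a.val = S := fun a ha => by
    simp only [hS, Finset.mul_sum, Finset.sum_mul]
    refine Fintype.sum_equiv (Equiv.mulRight (⟨a, ha⟩ : N)) _ _ fun g => ?_
    simp [Matrix.transpose_mul, mul_assoc]
  refine ⟨S, invariant_isUnit (τ := RingEquiv.refl F) h.abs.1 (hS ▸ hij) ?_ ?_, hinv⟩
  · rintro _ ⟨g, -, rfl⟩
    exact g.isUnit
  · rintro _ ⟨g, hg, rfl⟩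
    exact hinv g hg

/-- The data of the sixth class in the unitary case. -/
def UHeisCase (q : ℕ) (H : Subgroup (GL (Fin n) F)) : Prop :=
  ∃ (r : ℕ) (R : Subgroup (GL (Fin n) F)) (p e k : ℕ), Cfsg.Geo.IsSymplecticTypeGroup r R ∧
    ActsAbsolutelyIrreducibly (matrixSet R) ∧ R ≤ Cfsg.Geo.similarityGroup (Cfsg.hermForm n F q) ∧ r ≠ p ∧
    n = r ^ k ∧ 1 ≤ k ∧ p.Prime ∧ (∀ a ∈ R, ∀ b ∈ R, ∃ u : Fˣ, a * b = sc u * (b * a)) ∧
    Cfsg.Geo.IsMinimalFieldFor (Nat.card (Subgroup.center R)) p e F ∧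
    ((Odd r ∧ Nat.card (Subgroup.center R) = r ∧ 1 ≤ k ∧ Nat.card R = r ^ (1 + 2 * k)) ∨
      (r = 2 ∧ e = 2 ∧ Nat.card (Subgroup.center R) = 4 ∧ Nat.card R = 2 ^ (2 + 2 * k))) ∧
    H ≤ Cfsg.Geo.subgroupNormalizer R

variable (K : Unitary.Conj F q)

theorem unit_heis (hn : 3 ≤ n) {H N : Subgroup (GL (Fin n) F)} (hH : ∀ g ∈ H, Iso K.bar 1 g.val) {r : ℕ}
    (h : HeisData H N r) : URationalCase q H ∨ UHeisCase q H := by
  classical
  haveI : NeZero n := ⟨by omega⟩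
  have hn1 : 1 ≤ n := by omega
  haveI : Fact r.Prime := ⟨h.prime⟩
  have hN := h.nml
  have hNiso : ∀ g ∈ N, Iso K.bar 1 g.val := fun g hg => hH g (hN.le hg)
  by_cases hform : r = 2 ∧ ∀ u : Fˣ, sc u ∈ N → u ^ 2 = 1
  · obtain ⟨B, hB, hfix⟩ := h.exists_invariant hn1 hform.1 hform.2
    obtain ⟨F₀, hne, hreal⟩ := realisable_of_bilinear K hn1 hNiso h.abs hB hfix
    exact Or.inl (urational_of_realisable K (by omega) hH hN h.abs hne hreal)
  obtain ⟨x₀, hx₀, y₀, hy₀, u₀, hu₀, hu₁, hxy⟩ := h.noncomm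
  have hu₀N : sc u₀ ∈ N := by
    have : sc u₀ = x₀ * y₀ * (y₀ * x₀)⁻¹ := by rw [hxy, mul_assoc, mul_inv_cancel, mul_one]
    rw [this]
    exact mul_mem (mul_mem hx₀ hy₀) (inv_mem (mul_mem hy₀ hx₀))
  obtain ⟨z, ζ, hz, hζ, hζN, hpow⟩ : ∃ (z : ℕ) (ζ : Fˣ), (Odd r ∧ z = r ∨ r = 2 ∧ z = 4) ∧
      IsPrimitiveRoot ζ z ∧ sc ζ ∈ N ∧ ∀ x ∈ N, x ^ z = 1 := by
    rcases h.prime.eq_two_or_odd' with h2 | h2
    · simp only [h2, true_and] at hform
      push Not at hform
      obtain ⟨u, huN, hu⟩ := hform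
      have h4 : ∀ x ∈ N, x ^ 4 = 1 := fun x hx => by
        have := h.exp x hx
        rw [h2] at this
        exact this
      refine ⟨4, u, Or.inr ⟨h2, rfl⟩, ?_, huN, h4⟩
      have hu4 : u ^ 4 = 1 := sc_injective hn1 (by rw [sc_pow, h4 _ huN, sc_one])
      have : orderOf u = 2 ^ (1 + 1) := orderOf_eq_prime_pow (by simpa using hu) (by simpa using hu4)
      have h' := IsPrimitiveRoot.orderOf u
      rwa [this] at h'
    · refine ⟨r, u₀, Or.inl ⟨h2, rfl⟩, (orderOf_eq_prime hu₀ hu₁) ▸ IsPrimitiveRoot.orderOf u₀, hu₀N, fun x hx => ?_⟩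
      have := h.exp x hx
      rwa [Nat.coprime_two_left.2 h2, mul_one] at this
  have hz0 : z ≠ 0 := by
    have := h.prime.two_le
    rcases hz with ⟨-, rfl⟩ | ⟨-, rfl⟩ <;> omega
  obtain ⟨hcen, hcard, ⟨k, hk⟩, B, hmono⟩ := h.monomial (by omega) hz0 hζ hζN hpow
  have hk1 : 1 ≤ k := Nat.one_le_iff_ne_zero.2 fun e => by rw [e, pow_zero] at hk; omega
  set F₀ : Subfield F := Subfield.closure {(ζ : F)} with hF₀def
  by_cases hF₀ : F₀ = ⊤
  swap
  · exact Or.inl (urational_of_realisable K (by omega) hH hN h.abs hF₀ (PrimeDim.heis_realisable B hmono))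
  right
  have hfix : ∀ σ : F →+* F, σ ζ = ζ → ∀ a, σ a = a := by
    intro σ hσ a
    have : F₀ ≤ RingHom.eqLocusField σ (RingHom.id F) :=
      Subfield.closure_le.2 (Set.singleton_subset_iff.2 hσ)
    exact this (hF₀ ▸ Subfield.mem_top a)
  obtain ⟨p, hp⟩ := CharP.exists F
  obtain ⟨k₀, hpp, hq'⟩ := FiniteField.card F p
  obtain ⟨e, he0, hq⟩ : ∃ e : ℕ, e ≠ 0 ∧ Fintype.card F = p ^ e := ⟨k₀, k₀.ne_zero, hq'⟩
  haveI : Fact p.Prime := ⟨hpp⟩
  have hord : orderOf ζ = z := hζ.eq_orderOf.symm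
  have hdvd : z ∣ p ^ e - 1 := by
    rw [← hq, ← hord, ← Fintype.card_units]
    exact orderOf_dvd_card
  have hmine : ∀ d, 0 < d → d < e → ¬ z ∣ p ^ d - 1 := by
    intro d hd hde hdn
    have hc : iterateFrobenius F p d ζ = ζ := by
      rw [iterateFrobenius_def, ← Nat.sub_add_cancel (Nat.one_le_pow d p hpp.pos), pow_succ,
        ← Units.val_pow_eq_pow_val]
      rw [← hord, orderOf_dvd_iff_pow_eq_one] at hdn
      rw [hdn, Units.val_one, one_mul]
    obtain ⟨g, hg⟩ := IsCyclic.exists_generator (α := Fˣ)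
    have h1 := hfix _ hc g
    rw [iterateFrobenius_def, ← Units.val_pow_eq_pow_val] at h1
    have h1' : g ^ (p ^ d - 1) = 1 := by
      have h' : g ^ p ^ d = g := Units.ext h1
      rw [← Nat.sub_add_cancel (Nat.one_le_pow d p hpp.pos), pow_succ] at h'
      exact mul_eq_right.1 h'
    have h2 := orderOf_dvd_of_pow_eq_one h1'
    rw [orderOf_eq_card_of_forall_mem_zpowers hg, Nat.card_units, Nat.card_eq_fintype_card, hq] at h2
    have hlt : p ^ d < p ^ e := Nat.pow_lt_pow_right hpp.one_lt hde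
    have h3 : 1 < p ^ d := Nat.one_lt_pow hd.ne' hpp.one_lt
    have := Nat.le_of_dvd (by omega) h2
    omega
  have hrp : r ≠ p := by
    rintro rfl
    have h1 : ((u₀ : F) - 1) ^ r = 0 := by
      rw [sub_pow_char, ← Units.val_pow_eq_pow_val, hu₀, Units.val_one, one_pow, sub_self]
    exact hu₁ (Units.ext (sub_eq_zero.1 (pow_eq_zero_iff h.prime.ne_zero |>.1 h1)))
  have hsim : N ≤ Cfsg.Geo.similarityGroup (Cfsg.hermForm n F q) := fun g hg => ⟨1, fun u v => by
    rw [Units.val_one, one_mul, herm_sform K, herm_sform K]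
    exact (iso_iff _ _ _).1 (hNiso g hg) u v⟩
  have hnorm : H ≤ Cfsg.Geo.subgroupNormalizer N := fun g hg => Subgroup.mem_normalizer_iff.2 fun w =>
    ⟨fun hw => hN.conj g hg w hw, fun hw => by
      have := hN.conj' hg hw
      simpa [mul_assoc] using this⟩
  have hmf : Cfsg.Geo.IsMinimalFieldFor (Nat.card (Subgroup.center N)) p e F :=
    ⟨hpp, hp, hq, hcen.symm ▸ hdvd, fun d hd hde hh => hmine d hd hde (hcen ▸ hh)⟩
  refine ⟨r, N, p, e, k, h.symplecticType hn1, h.abs, hsim, hrp, hk, hk1, hpp,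
    fun a ha b hb => (h.comm a ha b hb).imp fun _ hu => hu.2, hmf, ?_, hnorm⟩
  rcases hz with ⟨hodd, rfl⟩ | ⟨rfl, rfl⟩
  · exact Or.inl ⟨hodd, hcen, hk1, by rw [hcard, hk]; ring⟩
  · refine Or.inr ⟨rfl, ?_, hcen, by rw [hcard, hk]; ring⟩
    have hcF := K.card
    rw [Nat.card_eq_fintype_card, hq] at hcF
    obtain ⟨f, -, hf⟩ := (Nat.dvd_prime_pow hpp).1 (show q ∣ p ^ e from hcF ▸ dvd_pow_self q two_ne_zero)
    rw [hf, ← pow_mul] at hcF
    have he : e = f * 2 := Nat.pow_right_injective hpp.two_le hcF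
    by_contra hne
    have hop : Odd p := hpp.odd_of_ne_two (Ne.symm hrp)
    refine hmine 2 (by omega) (by omega) ?_
    obtain ⟨j, rfl⟩ := hop
    refine ⟨j * j + j, ?_⟩
    have : (2 * j + 1) ^ 2 = 4 * (j * j + j) + 1 := by ring
    omega

theorem exists_gram_invariant {σ : F ≃+* F} {f : (Fin n → F) → (Fin n → F) → F} (hf : Sesq σ f)
    {N : Subgroup (GL (Fin n) F)} (hfix : ∀ g ∈ N, ∀ u v, f (g.val *ᵥ u) (g.val *ᵥ v) = f u v) :
    ∀ g ∈ N, g.valᵀ * Cfsg.Geo.gramMatrix f * bm σ g.val = Cfsg.Geo.gramMatrix f := fun g hg => by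
  refine (iso_iff σ _ _).2 fun u v => ?_
  rw [← sesq_sform hf, ← sesq_sform hf]
  exact hfix g hg u v

/-- The residual class of the unitary case. -/
abbrev UResidual (H : Subgroup (GL (Fin n) F)) : Prop := Cfsg.Geo.InUnitaryResidualClass H

include K in
theorem unit_simple (hn : 2 ≤ n) {H N : Subgroup (GL (Fin n) F)} (hH : ∀ g ∈ H, Iso K.bar 1 g.val) (hN : Nml H N)
    (habs : ActsAbsolutelyIrreducibly (matrixSet N))
    (hperf : ⁅N, N⁆ = N) (hsimp : IsSimpleGroup (N ⧸ (scalars (Fin n) F).subgroupOf N))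
    (hnab : ¬ IsMulCommutative (N ⧸ (scalars (Fin n) F).subgroupOf N))
    (hcent : ∀ h ∈ H, (∀ x ∈ N, h * x * h⁻¹ * x⁻¹ ∈ scalars (Fin n) F) → h ∈ scalars (Fin n) F) :
    URationalCase q H ∨ UResidual H := by
  classical
  haveI : Nonempty (Fin n) := ⟨⟨0, by omega⟩⟩
  have hn1 : 1 ≤ n := by omega
  by_cases h1 : ∃ F₀ : Subfield F, F₀ ≠ ⊤ ∧ Cfsg.Geo.RealisableOver F₀ (matrixSet N)
  · obtain ⟨F₀, hne, hr⟩ := h1
    exact Or.inl (urational_of_realisable K hn hH hN habs hne hr)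
  have key : ∀ f : (Fin n → F) → (Fin n → F) → F, Sesq (RingEquiv.refl F) f →
      (∀ g ∈ N, ∀ u v, f (g.val *ᵥ u) (g.val *ᵥ v) = f u v) → False := by
    intro f hf hfix
    have hinv := exists_gram_invariant hf hfix
    refine h1 (realisable_of_bilinear K hn1 (fun g hg => hH g (hN.le hg)) habs
      (invariant_isUnit (τ := RingEquiv.refl F) habs.1 ?_ ?_ ?_) fun g hg => hinv g hg)
    · intro e
      obtain ⟨v, hv⟩ := exists_ne (0 : Fin n → F)
      obtain ⟨⟨x, hx⟩, -⟩ := hf.nd v hv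
      exact hx (by rw [sesq_sform hf, e, sform, zero_mulVec, dotProduct_zero])
    · rintro _ ⟨g, -, rfl⟩
      exact g.isUnit
    · rintro _ ⟨g, hg, rfl⟩
      exact hinv g hg
  refine Or.inr ⟨N, ⟨hN.le, hN.conj, hperf, hsimp, hnab, hcent, habs, fun F₀ hne hr => h1 ⟨F₀, hne, hr⟩⟩, ?_, ?_⟩
  · rintro ⟨Q, hQ, hfix⟩
    refine key _ (Sesq.of_bilinear hQ.polar_bilinear hQ.nondegenerate) fun g hg u v => ?_
    simp only [QuadraticMap.polar, ← mulVec_add, hfix _ ⟨g, hg, rfl⟩]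
  · rintro ⟨f, hf, hfix⟩
    exact key _ (Sesq.of_bilinear hf.bilinear hf.nondegenerate) fun g hg u v => hfix _ ⟨g, hg, rfl⟩ u v

end CfsgLib.Asch
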