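import Mathlib

set_option autoImplicit false

/-!
Arithmetic over the field with four elements coded by pairs of Booleans, and the unitary matrices of
dimension three over it: they normalise the group of order twenty-seven.
-/

namespace CfsgLib.Asch.UnitFour

/-- `(x, y)` stands for `x + y ω`. -/
abbrev E := Bool × Bool

def add (a b : E) : E := (xor a.1 b.1, xor a.2 b.2)

def mul (a b : E) : E :=
  (xor (a.1 && b.1) (a.2 && b.2), xor (xor (a.1 && b.2) (a.2 && b.1)) (a.2 && b.2))

def conj (a : E) : E := (xor a.1 a.2, a.2)

def elems : List E := [(false, false), (true, false), (false, true), (true, true)]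

def pw : Fin 3 → E
  | ⟨0, _⟩ => (true, false)
  | ⟨1, _⟩ => (false, true)
  | ⟨_ + 2, _⟩ => (true, true)

abbrev V := E × E × E

def vecs : List V := elems.flatMap fun a => elems.flatMap fun b => elems.map fun c => (a, b, c)

def coord (v : V) : Fin 3 → E
  | ⟨0, _⟩ => v.1
  | ⟨1, _⟩ => v.2.1
  | ⟨_ + 2, _⟩ => v.2.2

def dot (u v : V) : E :=
  add (add (mul u.1 (conj v.1)) (mul u.2.1 (conj v.2.1))) (mul u.2.2 (conj v.2.2))

/-- The entry of a monomial generator of the group of order twenty-seven. -/
def mono (a c s i j : Fin 3) : E := if j = i + s then pw (a + c * i) else (false, false)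

/-- The conjugate of the diagonal generator. -/
def conjDiag (u : Fin 3 → V) (i j : Fin 3) : E :=
  add (add (mul (mul (coord (u i) 0) (pw 0)) (conj (coord (u j) 0)))
    (mul (mul (coord (u i) 1) (pw 1)) (conj (coord (u j) 1))))
    (mul (mul (coord (u i) 2) (pw 2)) (conj (coord (u j) 2)))

/-- The conjugate of the cyclic generator. -/
def conjShift (u : Fin 3 → V) (i j : Fin 3) : E :=
  add (add (mul (coord (u i) 0) (conj (coord (u j) 1)))
    (mul (coord (u i) 1) (conj (coord (u j) 2))))
    (mul (coord (u i) 2) (conj (coord (u j) 0)))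

def fins : List (Fin 3) := [0, 1, 2]

def isMono (M : Fin 3 → Fin 3 → E) : Bool :=
  fins.any fun a => fins.any fun c => fins.any fun s => fins.all fun i => fins.all fun j => M i j == mono a c s i j

def rows (u v w : V) : Fin 3 → V
  | ⟨0, _⟩ => u
  | ⟨1, _⟩ => v
  | ⟨_ + 2, _⟩ => w

def units : List V := vecs.filter fun u => dot u u == (true, false)

def check : Bool :=
  units.all fun u =>
    (units.filter fun v => dot u v == (false, false)).all fun v =>
      (units.filter fun w => dot u w == (false, false) && dot v w == (false, false)).all fun w =>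
        isMono (conjDiag (rows u v w)) && isMono (conjShift (rows u v w))

set_option maxRecDepth 100000 in
theorem check_eq : check = true := by decide +kernel

theorem mem_vecs (u : V) : u ∈ vecs := by
  obtain ⟨⟨a, b⟩, ⟨c, d⟩, e, f⟩ := u
  cases a <;> cases b <;> cases c <;> cases d <;> cases e <;> cases f <;> decide

theorem mem_fins (a : Fin 3) : a ∈ fins := by fin_cases a <;> decide

theorem isMono_spec {M : Fin 3 → Fin 3 → E} (h : isMono M = true) :
    ∃ a c s, ∀ i j, M i j = mono a c s i j := by
  simp only [isMono, List.any_eq_true, List.all_eq_true, beq_iff_eq] at h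
  obtain ⟨a, -, c, -, s, -, h⟩ := h
  exact ⟨a, c, s, fun i j => h i (mem_fins i) j (mem_fins j)⟩

theorem check_spec {u v w : V} (hu : dot u u = (true, false)) (hv : dot v v = (true, false))
    (hw : dot w w = (true, false)) (huv : dot u v = (false, false)) (huw : dot u w = (false, false))
    (hvw : dot v w = (false, false)) :
    (∃ a c s, ∀ i j, conjDiag (rows u v w) i j = mono a c s i j) ∧
      ∃ a c s, ∀ i j, conjShift (rows u v w) i j = mono a c s i j := by
  have h := check_eq
  simp only [check, units, List.all_eq_true, List.mem_filter, beq_iff_eq, Bool.and_eq_true] at h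
  obtain ⟨h1, h2⟩ := h u ⟨mem_vecs u, hu⟩ v ⟨⟨mem_vecs v, hv⟩, huv⟩ w ⟨⟨mem_vecs w, hw⟩, huw, hvw⟩
  exact ⟨isMono_spec h1, isMono_spec h2⟩

end CfsgLib.Asch.UnitFour
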