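import Cfsg.Agent.Lib.Classical.AschUnitTensor
import Cfsg.Agent.Lib.Classical.AschUnitHeis
import Cfsg.Agent.Lib.Classical.AschUnitSquareData

set_option autoImplicit false
set_option linter.unusedSectionVars false

/-!
The tensor square of the unitary group of dimension three over four elements normalises an extraspecial
group of order `3 ^ 5`.
-/

namespace CfsgLib.Asch

open Matrix
open Cfsg.Geo (matrixSet scalars ActsIrreducibly ActsAbsolutelyIrreducibly tensorWreathSubgroup
  tensorWreathStandard glReindex)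
open CfsgLib.PrimeDim (Inv Nml)
open CfsgLib.ClassicalAut (Unitary.Conj)
open scoped MatrixGroups

section Standard

variable {F : Type*} [Field F] {m k : ℕ}

/-- The elements of the standard wreath group. -/
theorem wreathStandard_decomp [Finite F] {g : GL (Fin k → Fin m) F} (hg : g ∈ tensorWreathStandard m k F) :
    ∃ (gs : Fin k → GL (Fin m) F) (σ : Equiv.Perm (Fin k)),
      g.val = pureMat (fun i => (gs i).val) * permMat σ := by
  classical
  have hswap : ∀ (σ : Equiv.Perm (Fin k)) (Z : Fin k → Matrix (Fin m) (Fin m) F),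
      (permMat σ : Matrix (Fin k → Fin m) (Fin k → Fin m) F) * pureMat Z =
        pureMat (fun i => Z (σ.symm i)) * permMat σ := by
    intro σ Z
    have h1 := permMat_congr σ (fun i => Z (σ.symm i))
    simp only [Equiv.symm_apply_apply] at h1
    have ht : (permMat σ : Matrix (Fin k → Fin m) (Fin k → Fin m) F) * (permMat σ)ᵀ = 1 := by
      ext x y
      rw [Matrix.mul_apply, Finset.sum_eq_single (x ∘ σ) (fun z _ hz => by simp [permMat, hz]) (by simp)]
      simp only [permMat, Matrix.of_apply, Matrix.transpose_apply, if_true, one_mul, Matrix.one_apply]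
      exact if_congr (σ.surjective.injective_comp_right.eq_iff) rfl rfl
    conv_lhs => rw [← h1]
    simp only [← mul_assoc]
    rw [ht, one_mul]
  refine Subgroup.closure_induction (p := fun g _ => ∃ (gs : Fin k → GL (Fin m) F) (σ : Equiv.Perm (Fin k)),
    g.val = pureMat (fun i => (gs i).val) * permMat σ) ?_ ⟨fun _ => 1, 1, ?_⟩ ?_ ?_ hg
  · rintro x (⟨gs, hgs⟩ | ⟨σ, hσ⟩)
    · exact ⟨gs, 1, by rw [permMat_one, mul_one]; exact Matrix.ext hgs⟩
    · refine ⟨fun _ => 1, σ, ?_⟩
      simp only [Units.val_one, pureMat_one, one_mul]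
      exact Matrix.ext hσ
  · simp [pureMat_one, permMat_one]
  · rintro x y - - ⟨gs, σ, hx⟩ ⟨hs, ρ, hy⟩
    refine ⟨fun i => gs i * hs (σ.symm i), σ * ρ, ?_⟩
    rw [Units.val_mul, hx, hy, mul_assoc, ← mul_assoc (permMat σ : Matrix _ _ F), hswap, mul_assoc, permMat_mul,
      ← mul_assoc, pureMat_mul]
    simp
  · rintro x - ⟨gs, σ, hx⟩
    refine ⟨fun i => (gs (σ i))⁻¹, σ⁻¹, ?_⟩
    refine x.isUnit.mul_left_cancel ?_
    rw [Units.mul_inv, hx, mul_assoc, ← mul_assoc (permMat σ : Matrix _ _ F), hswap, mul_assoc, permMat_mul,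
      mul_inv_cancel, permMat_one, mul_one, pureMat_mul]
    simp [pureMat_one]

end Standard

namespace UnitFour

variable {F : Type*} [Field F]

/-- The field element with the given code. -/
def emb (ω : F) (a : E) : F := (if a.1 then 1 else 0) + (if a.2 then ω else 0)

variable {ω : F} (hω : ω * ω + ω + 1 = 0) (h2 : (2 : F) = 0)
include hω h2

theorem emb_add (a b : E) : emb ω (add a b) = emb ω a + emb ω b := by
  obtain ⟨a₁, a₂⟩ := a; obtain ⟨b₁, b₂⟩ := b
  cases a₁ <;> cases a₂ <;> cases b₁ <;> cases b₂ <;> simp [emb, add] <;> grind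

theorem emb_mul (a b : E) : emb ω (mul a b) = emb ω a * emb ω b := by
  obtain ⟨a₁, a₂⟩ := a; obtain ⟨b₁, b₂⟩ := b
  cases a₁ <;> cases a₂ <;> cases b₁ <;> cases b₂ <;> simp [emb, mul] <;> grind

theorem emb_injective : Function.Injective (emb ω) := by
  have h0 : ω ≠ 0 := fun e => by rw [e] at hω; simp at hω
  have h1 : ω ≠ 1 := fun e => one_ne_zero (α := F) (by rw [e] at hω; linear_combination hω - h2)
  have h01 : (1 : F) + ω ≠ 0 := fun e => h1 (by linear_combination e - h2)
  rintro ⟨a₁, a₂⟩ ⟨b₁, b₂⟩ e
  cases a₁ <;> cases a₂ <;> cases b₁ <;> cases b₂ <;> simp [emb] at e ⊢ <;>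
    first
      | exact h0 e
      | exact h0 e.symm
      | exact h1 e
      | exact h1 e.symm
      | exact h01 e
      | exact h01 e.symm

end UnitFour

open UnitFour in
/-- A monomial matrix with entries powers of `ω`. -/
def monoMat {F : Type*} [Field F] (ω : F) (a c s : Fin 3) : Matrix (Fin 3) (Fin 3) F :=
  Matrix.of fun i j => UnitFour.emb ω (mono a c s i j)

/-- The element with the given parameters of the group of order `3 ^ 5`. -/
def sqEl {F : Type*} [Field F] (ω : F) (a : Fin 3) (c s : Fin 2 → Fin 3) :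
    Matrix (Fin 2 → Fin 3) (Fin 2 → Fin 3) F :=
  pureMat fun l => monoMat ω (if l = 0 then a else 0) (c l) (s l)

section

variable {F : Type*} [Field F] {ω : F} (hω : ω * ω + ω + 1 = 0) (h2 : (2 : F) = 0)

theorem pw_apply (a : Fin 3) : UnitFour.emb ω (UnitFour.pw a) = if a = 0 then 1 else if a = 1 then ω else 1 + ω := by
  fin_cases a <;> simp [UnitFour.pw, UnitFour.emb]

theorem monoMat_apply (a c s i j : Fin 3) :
    monoMat ω a c s i j = if j = i + s then UnitFour.emb ω (UnitFour.pw (a + c * i)) else 0 := by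
  rw [monoMat, Matrix.of_apply, UnitFour.mono]
  split <;> simp [UnitFour.emb]

include hω h2

theorem pw_add (a b : Fin 3) :
    UnitFour.emb ω (UnitFour.pw (a + b)) = UnitFour.emb ω (UnitFour.pw a) * UnitFour.emb ω (UnitFour.pw b) := by
  rw [← UnitFour.emb_mul hω h2]
  congr 1
  revert a b
  decide

theorem monoMat_one : monoMat ω 0 0 0 = 1 := by
  ext i j
  rw [monoMat_apply, Matrix.one_apply]
  fin_cases i <;> fin_cases j <;> simp [UnitFour.pw, UnitFour.emb]

theorem monoMat_mul (a c s a' c' s' : Fin 3) :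
    monoMat ω a c s * monoMat ω a' c' s' = monoMat ω (a + a' + c' * s) (c + c') (s + s') := by
  ext i j
  rw [Matrix.mul_apply, Finset.sum_eq_single (i + s)]
  · rw [monoMat_apply, monoMat_apply, monoMat_apply, if_pos rfl, mul_ite, mul_zero, ← pw_add hω h2]
    rw [show a + c * i + (a' + c' * (i + s)) = a + a' + c' * s + (c + c') * i by revert a c s a' c' i; decide,
      show i + s + s' = i + (s + s') by revert s s' i; decide]
  · intro z _ hz
    rw [monoMat_apply, if_neg hz, zero_mul]
  · simp

theorem sqEl_eq_pure (a : Fin 2 → Fin 3) (c s : Fin 2 → Fin 3) :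
    (pureMat fun l => monoMat ω (a l) (c l) (s l)) = sqEl ω (a 0 + a 1) c s := by
  ext x y
  simp only [sqEl, pureMat_apply, Fin.prod_univ_two, monoMat_apply, Fin.isValue, if_true,
    show ((1 : Fin 2) = 0) = False from eq_false (by decide), if_false]
  by_cases h0 : y 0 = x 0 + s 0 <;> by_cases h1 : y 1 = x 1 + s 1 <;> simp [h0, h1]
  rw [← pw_add hω h2, ← pw_add hω h2]
  congr 2
  generalize a 0 = u; generalize a 1 = v; generalize c 0 = c₀; generalize c 1 = c₁; generalize x 0 = x₀
  generalize x 1 = x₁
  revert u v c₀ c₁ x₀ x₁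
  decide

theorem sqEl_mul (a a' : Fin 3) (c s c' s' : Fin 2 → Fin 3) :
    sqEl ω a c s * sqEl ω a' c' s' = sqEl ω (a + a' + (c' 0 * s 0 + c' 1 * s 1)) (c + c') (s + s') := by
  rw [sqEl, sqEl, pureMat_mul]
  simp only [monoMat_mul hω h2]
  rw [sqEl_eq_pure hω h2 _ (fun l => c l + c' l) (fun l => s l + s' l)]
  congr 1
  simp only [Fin.isValue, if_true, show ((1 : Fin 2) = 0) = False from eq_false (by decide), if_false]
  generalize c' 0 = u; generalize c' 1 = v; generalize s 0 = s₀; generalize s 1 = s₁
  revert u v s₀ s₁ a a'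
  decide

theorem sqEl_one : sqEl ω 0 0 0 = 1 := by
  rw [sqEl]
  simp only [ite_self, Pi.zero_apply, monoMat_one hω h2]
  exact pureMat_one

theorem sum_pw (d : Fin 3) : (∑ c : Fin 3, UnitFour.emb ω (UnitFour.pw (c * d))) = if d = 0 then 1 else 0 := by
  rw [Fin.sum_univ_three]
  fin_cases d <;> simp [UnitFour.pw, UnitFour.emb] <;>
    first
      | linear_combination h2
      | linear_combination (1 + ω) * h2

theorem sqEl_inj {a a' : Fin 3} {c c' s s' : Fin 2 → Fin 3} (h : sqEl ω a c s = sqEl ω a' c' s') :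
    a = a' ∧ c = c' ∧ s = s' := by
  have hz : ∀ b : Fin 3, UnitFour.emb ω (UnitFour.pw b) ≠ 0 := fun b e => by
    have := UnitFour.emb_injective hω h2 (e.trans (show (0 : F) = UnitFour.emb ω (false, false) by simp [UnitFour.emb]))
    clear e
    revert this; revert b; decide
  have hval : ∀ (a : Fin 3) (c s x : Fin 2 → Fin 3),
      sqEl ω a c s x (x + s) = UnitFour.emb ω (UnitFour.pw (a + c 0 * x 0 + c 1 * x 1)) := fun a c s x => by
    simp only [sqEl, pureMat_apply, Fin.prod_univ_two, monoMat_apply, Pi.add_apply, if_true, Fin.isValue,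
      show ((1 : Fin 2) = 0) = False from eq_false (by decide), if_false, ← pw_add hω h2]
    congr 2
    generalize c 0 = u; generalize c 1 = v; generalize x 0 = x₀; generalize x 1 = x₁
    revert u v x₀ x₁ a
    decide
  have hs : s = s' := by
    by_contra hne
    obtain ⟨l, hl⟩ := Function.ne_iff.1 hne
    have h0 := congrFun (congrFun h 0) (0 + s)
    rw [hval] at h0
    refine hz _ (h0.trans ?_)
    rw [sqEl, pureMat_apply]
    refine Finset.prod_eq_zero (Finset.mem_univ l) ?_
    rw [monoMat_apply, if_neg]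
    simpa using hl
  subst hs
  have hx : ∀ x : Fin 2 → Fin 3, a + c 0 * x 0 + c 1 * x 1 = a' + c' 0 * x 0 + c' 1 * x 1 := fun x => by
    have h0 := congrFun (congrFun h x) (x + s)
    rw [hval, hval] at h0
    have hp := UnitFour.emb_injective hω h2 h0
    generalize a + c 0 * x 0 + c 1 * x 1 = u at hp
    generalize a' + c' 0 * x 0 + c' 1 * x 1 = v at hp
    revert hp; revert u v; decide
  have ha : a = a' := by simpa using hx 0
  subst ha
  refine ⟨rfl, funext fun l => ?_, rfl⟩
  fin_cases l
  · simpa using hx ![1, 0]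
  · simpa using hx ![0, 1]

end

variable {F : Type*} [Field F] [Fintype F] {q n : ℕ} (K : Unitary.Conj F q)

/-- An element with isometric coordinates is an isometry. -/
theorem iso_of_tcoord {ι : Type} [Fintype ι] [DecidableEq ι] {e : Fin n ≃ ι} {P g : GL (Fin n) F}
    (hF : fcoord K.bar (1 : Matrix (Fin n) (Fin n) F) e P = 1)
    (hg : (tcoord e P g.val)ᵀ * bm K.bar (tcoord e P g.val) = 1) : Iso K.bar 1 g.val := by
  have h1 := fcoord_congr (τ := K.bar) (J := (1 : Matrix (Fin n) (Fin n) F)) (e := e) (P := P) g.val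
  rw [hF, mul_one, hg] at h1
  have h0 : ((P : Matrix (Fin n) (Fin n) F)ᵀ * 1 * bm K.bar (P : Matrix (Fin n) (Fin n) F)).submatrix e.symm e.symm =
      ((P : Matrix (Fin n) (Fin n) F)ᵀ * (g.valᵀ * 1 * bm K.bar g.val) *
        bm K.bar (P : Matrix (Fin n) (Fin n) F)).submatrix e.symm e.symm := hF.trans h1
  have h2 : (P : Matrix (Fin n) (Fin n) F)ᵀ * 1 * bm K.bar (P : Matrix (Fin n) (Fin n) F) =
      (P : Matrix (Fin n) (Fin n) F)ᵀ * (g.valᵀ * 1 * bm K.bar g.val) * bm K.bar (P : Matrix (Fin n) (Fin n) F) := by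
    ext i j
    simpa using congrFun (congrFun h0 (e i)) (e j)
  have h3 : IsUnit (P : Matrix (Fin n) (Fin n) F)ᵀ := by
    rw [Matrix.isUnit_iff_isUnit_det, Matrix.det_transpose]
    exact (Matrix.isUnit_iff_isUnit_det _).1 P.isUnit
  exact (h3.mul_left_cancel ((isUnit_bm P.isUnit).mul_right_cancel h2)).symm

set_option maxHeartbeats 1000000 in
theorem uheis_of_squareThree {H : Subgroup (GL (Fin n) F)} (hH : ∀ g ∈ H, Iso K.bar 1 g.val)
    (h : USquareThree K H) : UHeisCase q H := by
  classical
  obtain ⟨hq, e, P, hF, hle⟩ := h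
  haveI : Finite (GL (Fin n) F) := Finite.of_injective _ Units.val_injective
  obtain ⟨ω, hω, -⟩ := Classical.Herm.exists_omega K hq
  have h2 := Classical.Herm.two_eq_zero K hq
  have hn : n = 3 ^ 2 := by simpa using Fintype.card_congr e
  -- the inverse of a standard element
  have hinv : ∀ a c s, sqEl ω a c s * sqEl ω (-a + (c 0 * s 0 + c 1 * s 1)) (-c) (-s) = 1 := by
    intro a c s
    rw [sqEl_mul hω h2, add_neg_cancel, add_neg_cancel, ← sqEl_one hω h2]
    congr 1
    simp only [Pi.neg_apply]
    generalize c 0 = u; generalize c 1 = v; generalize s 0 = s₀; generalize s 1 = s₁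
    revert u v s₀ s₁ a; decide
  have hlift : ∀ a c s, ∃ g : GL (Fin n) F, tcoord e P g.val = sqEl ω a c s := by
    intro a c s
    obtain ⟨X, hX⟩ : IsUnit (sqEl ω a c s) := IsUnit.of_mul_eq_one _ (hinv a c s)
    refine ⟨P * glReindex e.symm X * P⁻¹, ?_⟩
    rw [← hX]
    ext x y
    simp [tcoord, glReindex, mul_assoc]
  let R : Subgroup (GL (Fin n) F) :=
    { carrier := {g | ∃ a c s, tcoord e P g.val = sqEl ω a c s}
      one_mem' := ⟨0, 0, 0, by
        rw [sqEl_one hω h2]
        ext x y
        simp [tcoord, Matrix.one_apply]⟩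
      mul_mem' := by
        rintro g g' ⟨a, c, s, hg⟩ ⟨a', c', s', hg'⟩
        exact ⟨_, _, _, by rw [Units.val_mul, tcoord_mul, hg, hg', sqEl_mul hω h2]⟩
      inv_mem' := by
        rintro g ⟨a, c, s, hg⟩
        obtain ⟨g', hg'⟩ := hlift (-a + (c 0 * s 0 + c 1 * s 1)) (-c) (-s)
        have : g * g' = 1 := Units.ext (tcoord_injective e P (by
          rw [Units.val_mul, tcoord_mul, hg, hg', hinv]
          ext x y
          simp [tcoord, Matrix.one_apply]))
        exact ⟨_, _, _, by rw [inv_eq_of_mul_eq_one_right this, hg']⟩ }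
  have hpick : ∀ r : R, ∃ p : Fin 3 × (Fin 2 → Fin 3) × (Fin 2 → Fin 3),
      tcoord e P (r : GL (Fin n) F).val = sqEl ω p.1 p.2.1 p.2.2 := fun r => by
    obtain ⟨a, c, s, hr⟩ := r.2
    exact ⟨(a, c, s), hr⟩
  choose par hpar using hpick
  have hext : ∀ g g' : R, par g = par g' → g = g' := fun g g' hgg =>
    Subtype.ext (Units.ext (tcoord_injective e P (by rw [hpar, hpar, hgg])))
  have hsurj : Function.Surjective par := fun p => by
    obtain ⟨g, hg⟩ := hlift p.1 p.2.1 p.2.2
    refine ⟨⟨g, _, _, _, hg⟩, ?_⟩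
    obtain ⟨h1, h2', h3⟩ := sqEl_inj hω h2 ((hpar ⟨g, _, _, _, hg⟩).symm.trans hg)
    exact Prod.ext h1 (Prod.ext h2' h3)
  let ψ : R ≃ Fin 3 × (Fin 2 → Fin 3) × (Fin 2 → Fin 3) :=
    Equiv.ofBijective par ⟨fun g g' => hext g g', hsurj⟩
  have hmul : ∀ g g' : R, par (g * g') = ((par g).1 + (par g').1 + ((par g').2.1 0 * (par g).2.2 0 +
      (par g').2.1 1 * (par g).2.2 1), (par g).2.1 + (par g').2.1, (par g).2.2 + (par g').2.2) := fun g g' => by
    have h1 := hpar (g * g')
    rw [Subgroup.coe_mul, Units.val_mul, tcoord_mul, hpar, hpar, sqEl_mul hω h2] at h1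
    obtain ⟨e1, e2, e3⟩ := sqEl_inj hω h2 h1.symm
    exact Prod.ext e1 (Prod.ext e2 e3)
  have hone : par 1 = (0, 0, 0) := by
    have h1 := hmul 1 1
    rw [one_mul] at h1
    generalize par 1 = p at h1 ⊢
    obtain ⟨a, c, s⟩ := p
    simp only [Prod.mk.injEq] at h1
    obtain ⟨h1, h3, h4⟩ := h1
    have hc : c = 0 := right_eq_add.1 h3
    have hs : s = 0 := right_eq_add.1 h4
    subst hc hs
    simp only [Pi.zero_apply, mul_zero, add_zero] at h1
    rw [right_eq_add.1 h1]
  have hcomm : ∀ g g' : R, g * g' = g' * g ↔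
      (par g').2.1 0 * (par g).2.2 0 + (par g').2.1 1 * (par g).2.2 1 =
        (par g).2.1 0 * (par g').2.2 0 + (par g).2.1 1 * (par g').2.2 1 := fun g g' => by
    constructor
    · intro h
      have h1 := congrArg par h
      rw [hmul, hmul, Prod.mk.injEq, add_comm (par g').1] at h1
      exact add_left_cancel h1.1
    · intro h
      apply hext
      rw [hmul, hmul, h, add_comm (par g').1, add_comm (par g').2.1, add_comm (par g').2.2]
  have hcard : Nat.card R = 3 ^ (1 + 2 * 2) := by
    rw [Nat.card_congr ψ]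
    simp
  have hcenmem : ∀ g : R, g ∈ Subgroup.center R ↔ (par g).2.1 = 0 ∧ (par g).2.2 = 0 := fun g => by
    rw [Subgroup.mem_center_iff]
    constructor
    · intro hg
      constructor
      · funext l
        obtain ⟨g', hg'⟩ := hsurj (0, 0, Pi.single l 1)
        have h1 := (hcomm g g').1 (hg g').symm
        rw [hg'] at h1
        fin_cases l <;> simpa using h1.symm
      · funext l
        obtain ⟨g', hg'⟩ := hsurj (0, Pi.single l 1, 0)
        have h1 := (hcomm g g').1 (hg g').symm
        rw [hg'] at h1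
        fin_cases l <;> simpa using h1
    · rintro ⟨h1, h3⟩ g'
      exact ((hcomm g g').2 (by simp [h1, h3])).symm
  have hcen : Nat.card (Subgroup.center R) = 3 := by
    rw [← Nat.card_fin 3]
    refine Nat.card_congr
      { toFun := fun g => (par g.1).1
        invFun := fun a => ⟨ψ.symm (a, 0, 0), (hcenmem _).2 (by
          rw [show par (ψ.symm (a, 0, 0)) = (a, 0, 0) from ψ.apply_symm_apply _]; exact ⟨rfl, rfl⟩)⟩
        left_inv := fun g => Subtype.ext (hext _ _ (by
          rw [show par (ψ.symm _) = _ from ψ.apply_symm_apply _]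
          obtain ⟨h1, h3⟩ := (hcenmem g.1).1 g.2
          exact Prod.ext rfl (Prod.ext h1.symm h3.symm)))
        right_inv := fun a => congrArg Prod.fst (ψ.apply_symm_apply _) }
  have hcube : ∀ g : R, g ^ 3 = 1 := fun g => by
    apply hext
    rw [pow_succ, pow_two, hmul, hmul, hone]
    generalize par g = p
    obtain ⟨a, c, s⟩ := p
    simp only [Pi.add_apply]
    refine Prod.ext ?_ (Prod.ext (funext fun l => ?_) (funext fun l => ?_))
    · dsimp only
      generalize c 0 = u; generalize c 1 = v; generalize s 0 = s₀; generalize s 1 = s₁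
      revert u v s₀ s₁ a; decide
    · simp only [Pi.add_apply, Pi.zero_apply]
      generalize c l = u
      revert u; decide
    · simp only [Pi.add_apply, Pi.zero_apply]
      generalize s l = u
      revert u; decide
  haveI : Fact (Nat.Prime 3) := ⟨Nat.prime_three⟩
  -- automorphisms
  have htrv : ∀ (l : Fin 2) (g : R), (par g).2.2 l ≠ 0 → ∃ φ : R ≃* R, g * φ g ≠ φ g * g := by
    intro l g hg
    let f : Fin 3 × (Fin 2 → Fin 3) × (Fin 2 → Fin 3) → Fin 3 × (Fin 2 → Fin 3) × (Fin 2 → Fin 3) :=
      fun p => (p.1 + 2 * (p.2.2 l * p.2.2 l), p.2.1 + Pi.single l (p.2.2 l), p.2.2)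
    let f' : Fin 3 × (Fin 2 → Fin 3) × (Fin 2 → Fin 3) → Fin 3 × (Fin 2 → Fin 3) × (Fin 2 → Fin 3) :=
      fun p => (p.1 - 2 * (p.2.2 l * p.2.2 l), p.2.1 - Pi.single l (p.2.2 l), p.2.2)
    let φ : R ≃* R :=
      { toFun := fun x => ψ.symm (f (par x))
        invFun := fun x => ψ.symm (f' (par x))
        left_inv := fun x => hext _ _ (by
          simp only [show ∀ p, par (ψ.symm p) = p from ψ.apply_symm_apply, f, f', add_sub_cancel_right])
        right_inv := fun x => hext _ _ (by
          simp only [show ∀ p, par (ψ.symm p) = p from ψ.apply_symm_apply, f, f', sub_add_cancel])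
        map_mul' := fun x y => hext _ _ (by
          simp only [show ∀ p, par (ψ.symm p) = p from ψ.apply_symm_apply, hmul, f, Pi.add_apply]
          refine Prod.ext ?_ (Prod.ext ?_ rfl)
          · simp only
            fin_cases l <;> simp only [Fin.isValue, Pi.single_eq_same, Fin.zero_eta, Fin.mk_one,
              Pi.single_eq_of_ne (show (1 : Fin 2) ≠ 0 by decide), Pi.single_eq_of_ne (show (0 : Fin 2) ≠ 1 by decide),
              add_zero]
            · generalize (par x).1 = a; generalize (par y).1 = b; generalize (par y).2.1 0 = u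
              generalize (par y).2.1 1 = v; generalize (par x).2.2 0 = s₀; generalize (par x).2.2 1 = s₁
              generalize (par y).2.2 0 = t₀
              revert a b u v s₀ s₁ t₀; decide
            · generalize (par x).1 = a; generalize (par y).1 = b; generalize (par y).2.1 0 = u
              generalize (par y).2.1 1 = v; generalize (par x).2.2 0 = s₀; generalize (par x).2.2 1 = s₁
              generalize (par y).2.2 1 = t₀
              revert a b u v s₀ s₁ t₀; decide
          · rw [Pi.single_add]; abel) }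
    refine ⟨φ, fun h => hg ?_⟩
    have h1 := (hcomm g (φ g)).1 h
    rw [show par (φ g) = f (par g) from ψ.apply_symm_apply _] at h1
    simp only [f, Pi.add_apply] at h1
    generalize par g = p at h1 ⊢
    obtain ⟨a, c, s⟩ := p
    simp only at h1 ⊢
    fin_cases l <;> simp only [Fin.isValue, Pi.single_eq_same, Fin.zero_eta, Fin.mk_one,
      Pi.single_eq_of_ne (show (1 : Fin 2) ≠ 0 by decide), Pi.single_eq_of_ne (show (0 : Fin 2) ≠ 1 by decide),
      add_zero] at h1 ⊢
    · generalize c 0 = u at h1; generalize c 1 = v at h1; generalize s 1 = s₁ at h1; generalize s 0 = s₀ at h1 ⊢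
      revert h1; revert u v s₀ s₁; decide
    · generalize c 0 = u at h1; generalize c 1 = v at h1; generalize s 0 = s₀ at h1; generalize s 1 = s₁ at h1 ⊢
      revert h1; revert u v s₀ s₁; decide
  have htrv' : ∀ (l : Fin 2) (g : R), (par g).2.1 l ≠ 0 → ∃ φ : R ≃* R, g * φ g ≠ φ g * g := by
    intro l g hg
    let f : Fin 3 × (Fin 2 → Fin 3) × (Fin 2 → Fin 3) → Fin 3 × (Fin 2 → Fin 3) × (Fin 2 → Fin 3) :=
      fun p => (p.1 + 2 * (p.2.1 l * p.2.1 l), p.2.1, p.2.2 + Pi.single l (p.2.1 l))
    let f' : Fin 3 × (Fin 2 → Fin 3) × (Fin 2 → Fin 3) → Fin 3 × (Fin 2 → Fin 3) × (Fin 2 → Fin 3) :=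
      fun p => (p.1 - 2 * (p.2.1 l * p.2.1 l), p.2.1, p.2.2 - Pi.single l (p.2.1 l))
    let φ : R ≃* R :=
      { toFun := fun x => ψ.symm (f (par x))
        invFun := fun x => ψ.symm (f' (par x))
        left_inv := fun x => hext _ _ (by
          simp only [show ∀ p, par (ψ.symm p) = p from ψ.apply_symm_apply, f, f', add_sub_cancel_right])
        right_inv := fun x => hext _ _ (by
          simp only [show ∀ p, par (ψ.symm p) = p from ψ.apply_symm_apply, f, f', sub_add_cancel])
        map_mul' := fun x y => hext _ _ (by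
          simp only [show ∀ p, par (ψ.symm p) = p from ψ.apply_symm_apply, hmul, f, Pi.add_apply]
          refine Prod.ext ?_ (Prod.ext rfl ?_)
          · simp only
            fin_cases l <;> simp only [Fin.isValue, Pi.single_eq_same, Fin.zero_eta, Fin.mk_one,
              Pi.single_eq_of_ne (show (1 : Fin 2) ≠ 0 by decide), Pi.single_eq_of_ne (show (0 : Fin 2) ≠ 1 by decide),
              add_zero]
            · generalize (par x).1 = a; generalize (par y).1 = b; generalize (par y).2.1 0 = u
              generalize (par y).2.1 1 = v; generalize (par x).2.2 0 = s₀; generalize (par x).2.2 1 = s₁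
              generalize (par x).2.1 0 = w
              revert a b u v s₀ s₁ w; decide
            · generalize (par x).1 = a; generalize (par y).1 = b; generalize (par y).2.1 0 = u
              generalize (par y).2.1 1 = v; generalize (par x).2.2 0 = s₀; generalize (par x).2.2 1 = s₁
              generalize (par x).2.1 1 = w
              revert a b u v s₀ s₁ w; decide
          · rw [Pi.single_add]; abel) }
    refine ⟨φ, fun h => hg ?_⟩
    have h1 := (hcomm g (φ g)).1 h
    rw [show par (φ g) = f (par g) from ψ.apply_symm_apply _] at h1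
    simp only [f, Pi.add_apply] at h1
    generalize par g = p at h1 ⊢
    obtain ⟨a, c, s⟩ := p
    simp only at h1 ⊢
    fin_cases l <;> simp only [Fin.isValue, Pi.single_eq_same, Fin.zero_eta, Fin.mk_one,
      Pi.single_eq_of_ne (show (1 : Fin 2) ≠ 0 by decide), Pi.single_eq_of_ne (show (0 : Fin 2) ≠ 1 by decide),
      add_zero] at h1 ⊢
    · generalize s 0 = s₀ at h1; generalize s 1 = s₁ at h1; generalize c 1 = v at h1; generalize c 0 = u at h1 ⊢
      revert h1; revert u v s₀ s₁; decide
    · generalize s 0 = s₀ at h1; generalize s 1 = s₁ at h1; generalize c 0 = u at h1; generalize c 1 = v at h1 ⊢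
      revert h1; revert u v s₀ s₁; decide
  have hST : Cfsg.Geo.IsSymplecticTypeGroup 3 R := by
    refine ⟨Nat.prime_three, fun g => ⟨1, by rw [pow_one]; exact hcube g⟩, fun A hA hAc => ?_, ?_⟩
    · have hAle : A ≤ Subgroup.center R := by
        intro g hg
        by_contra hng
        rw [hcenmem, not_and_or] at hng
        obtain ⟨φ, hφ⟩ : ∃ φ : R ≃* R, g * φ g ≠ φ g * g := by
          rcases hng with h | h
          · obtain ⟨l, hl⟩ := Function.ne_iff.1 h
            exact htrv' l g hl
          · obtain ⟨l, hl⟩ := Function.ne_iff.1 h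
            exact htrv l g hl
        have hφg : φ g ∈ A := by
          rw [← Subgroup.characteristic_iff_map_eq.1 hA φ]
          exact ⟨g, hg, rfl⟩
        exact hφ (congrArg Subtype.val (hAc.is_comm.comm ⟨g, hg⟩ ⟨φ g, hφg⟩))
      haveI : IsCyclic (Subgroup.center R) := isCyclic_of_prime_card hcen
      exact isCyclic_of_injective (Subgroup.inclusion hAle) (Subgroup.inclusion_injective hAle)
    · show Monoid.exponent R = 3 * Nat.gcd 2 3
      rw [show Nat.gcd 2 3 = 1 by decide, mul_one]
      refine ((Nat.dvd_prime Nat.prime_three).1 (Monoid.exponent_dvd_of_forall_pow_eq_one hcube)).resolve_left ?_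
      intro h1
      haveI : Subsingleton R := Monoid.exp_eq_one_iff.1 h1
      have := Nat.card_of_subsingleton (1 : R)
      omega
  -- the span
  have hspan : ∀ M : Matrix (Fin n) (Fin n) F, M ∈ Submodule.span F (matrixSet R) := by
    let L : Matrix (Fin n) (Fin n) F →ₗ[F] Matrix (Fin 2 → Fin 3) (Fin 2 → Fin 3) F :=
      { toFun := tcoord e P
        map_add' := fun x y => by simp [tcoord, mul_add, add_mul, Matrix.submatrix_add]
        map_smul' := fun c x => by simp [tcoord, Matrix.submatrix_smul] }
    have hsingle : ∀ x y, Matrix.single x y (1 : F) ∈ (Submodule.span F (matrixSet R)).map L := by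
      intro x y
      have e1 : Matrix.single x y (1 : F) = ∑ c : Fin 2 → Fin 3,
          (UnitFour.emb ω (UnitFour.pw (-(c 0 * x 0) + -(c 1 * x 1)))) • sqEl ω 0 c (y - x) := by
        ext u v
        simp only [Matrix.sum_apply, Matrix.smul_apply, smul_eq_mul, sqEl, pureMat_apply, ite_self]
        have e2 : ∀ c : Fin 2 → Fin 3, UnitFour.emb ω (UnitFour.pw (-(c 0 * x 0) + -(c 1 * x 1))) *
            ∏ l, monoMat ω 0 (c l) ((y - x) l) (u l) (v l) =
              ∏ l, if v l = u l + (y - x) l then UnitFour.emb ω (UnitFour.pw (c l * (u l - x l))) else 0 := fun c => by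
          simp only [Fin.prod_univ_two, monoMat_apply, pw_add hω h2, Pi.sub_apply]
          by_cases h0 : v 0 = u 0 + (y 0 - x 0) <;> by_cases h1 : v 1 = u 1 + (y 1 - x 1) <;> simp [h0, h1]
          simp only [← pw_add hω h2]
          congr 2
          generalize c 0 = a; generalize c 1 = b; generalize x 0 = x₀; generalize x 1 = x₁
          generalize u 0 = u₀; generalize u 1 = u₁
          revert a b x₀ x₁ u₀ u₁; decide
        rw [Finset.sum_congr rfl fun c _ => e2 c]
        refine Eq.trans ?_ (Fintype.prod_sum fun l c =>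
          if v l = u l + (y - x) l then UnitFour.emb ω (UnitFour.pw (c * (u l - x l))) else 0)
        simp only [Fin.prod_univ_two, Finset.sum_ite_irrel, Finset.sum_const_zero, sum_pw hω h2]
        rw [Matrix.single_apply]
        have h5 : ∀ l, (v l = u l + (y - x) l) ↔ (v l - y l = u l - x l) := fun l => by
          rw [Pi.sub_apply]
          generalize v l = a; generalize u l = b; generalize y l = c; generalize x l = d
          revert a b c d; decide
        simp only [h5, sub_eq_zero]
        by_cases hxu : x = u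
        · subst hxu
          by_cases hyv : y = v
          · subst hyv; simp
          · obtain ⟨l, hl⟩ := Function.ne_iff.1 hyv
            rw [if_neg (fun h => hyv h.2)]
            fin_cases l
            · rw [if_neg fun h => hl (sub_eq_zero.1 (h.trans (sub_self _))).symm, zero_mul]
            · rw [if_neg (c := v 1 - y 1 = x 1 - x 1) fun h => hl (sub_eq_zero.1 (h.trans (sub_self _))).symm,
                mul_zero]
        · rw [if_neg (fun h => hxu h.1)]
          obtain ⟨l, hl⟩ := Function.ne_iff.1 hxu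
          fin_cases l <;> simp only [Fin.isValue, Fin.zero_eta, Fin.mk_one] at hl
          · simp [Ne.symm hl]
          · simp [Ne.symm hl]
      rw [e1]
      refine Submodule.sum_mem _ fun c _ => Submodule.smul_mem _ _ ?_
      obtain ⟨g, hg⟩ := hlift 0 c (y - x)
      exact ⟨g.val, Submodule.subset_span ⟨g, ⟨_, _, _, hg⟩, rfl⟩, hg⟩
    have htop : (Submodule.span F (matrixSet R)).map L = ⊤ := eq_top_iff.2 fun M _ => by
      rw [Matrix.matrix_eq_sum_single M]
      refine Submodule.sum_mem _ fun x _ => Submodule.sum_mem _ fun y _ => ?_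
      rw [show Matrix.single x y (M x y) = M x y • Matrix.single x y (1 : F) by simp]
      exact Submodule.smul_mem _ _ (hsingle x y)
    intro M
    obtain ⟨M', hM', he⟩ := (show L M ∈ (Submodule.span F (matrixSet R)).map L from htop ▸ Submodule.mem_top)
    exact (tcoord_injective e P he : M' = M) ▸ hM'
  have habs : ActsAbsolutelyIrreducibly (matrixSet R) := by
    refine ⟨PrimeDim.irreducible_iff.2 fun W hW => ?_, fun M hM => ?_⟩
    · have hall : ∀ (S : Matrix (Fin n) (Fin n) F), ∀ v ∈ W, S *ᵥ v ∈ W := by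
        intro S v hv
        have hS := hspan S
        induction hS using Submodule.span_induction with
        | mem s hs => exact hW s hs v hv
        | zero => rw [zero_mulVec]; exact zero_mem W
        | add a b _ _ ha hb => rw [add_mulVec]; exact add_mem ha hb
        | smul c a _ ha => rw [smul_mulVec]; exact W.smul_mem c ha
      by_cases h0 : W = ⊥
      · exact Or.inl h0
      obtain ⟨v, hv, hv0⟩ := (Submodule.ne_bot_iff W).1 h0
      obtain ⟨i, hi⟩ : ∃ i, v i ≠ 0 := Function.ne_iff.1 hv0
      refine Or.inr (eq_top_iff.2 fun w _ => ?_)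
      have hw : Matrix.vecMulVec w (Pi.single i (v i)⁻¹) *ᵥ v = w := by
        rw [vecMulVec_mulVec, single_dotProduct, inv_mul_cancel₀ hi]
        simp
      exact hw ▸ hall _ v hv
    · have hall : ∀ S : Matrix (Fin n) (Fin n) F, M * S = S * M := by
        intro S
        have hS := hspan S
        induction hS using Submodule.span_induction with
        | mem s hs => exact hM s hs
        | zero => rw [mul_zero, zero_mul]
        | add a b _ _ ha hb => rw [mul_add, add_mul, ha, hb]
        | smul c a _ ha => rw [mul_smul_comm, smul_mul_assoc, ha]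
      obtain ⟨c, hc⟩ := Matrix.mem_range_scalar_of_commute_single (M := M) fun i j _ => (hall _).symm
      exact ⟨c, by rw [← hc, Matrix.scalar_apply, Matrix.smul_one_eq_diagonal]⟩
  -- the factors of an element of `H`
  have hbarω : K.bar ω = ω * ω := by rw [K.bar_apply, hq, pow_two]
  have hembbar : ∀ a, K.bar (UnitFour.emb ω a) = UnitFour.emb ω (UnitFour.conj a) := by
    rintro ⟨a, b⟩
    cases a <;> cases b <;> simp [UnitFour.emb, UnitFour.conj, map_add, hbarω] <;>
      first
        | linear_combination hω - (1 + ω) * h2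
        | linear_combination hω - ω * h2
        | linear_combination hω - h2
        | linear_combination hω
  have hmonoU : ∀ a c s, (monoMat ω a c s)ᵀ * bm K.bar (monoMat ω a c s) = 1 := by
    intro a c s
    ext j l
    rw [Matrix.mul_apply, Finset.sum_eq_single (j - s)]
    · rw [Matrix.transpose_apply, bm_apply, monoMat_apply, monoMat_apply, if_pos (sub_add_cancel j s).symm,
        sub_add_cancel, apply_ite K.bar, map_zero, mul_ite, mul_zero, hembbar, ← UnitFour.emb_mul hω h2,
        Matrix.one_apply]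
      by_cases hjl : l = j
      · subst hjl
        rw [if_pos rfl, if_pos rfl]
        generalize a + c * (l - s) = b
        fin_cases b <;> simp [UnitFour.pw, UnitFour.conj, UnitFour.mul, UnitFour.emb]
      · rw [if_neg hjl, if_neg (Ne.symm hjl)]
    · intro z _ hz
      rw [Matrix.transpose_apply, monoMat_apply, if_neg fun e => hz (eq_sub_of_add_eq e.symm), zero_mul]
    · simp
  have hRiso : ∀ g ∈ R, Iso K.bar 1 g.val := by
    rintro g ⟨a, c, s, hg⟩
    refine iso_of_tcoord K hF ?_
    rw [hg, sqEl, pureMat_transpose, bm_pureMat, pureMat_mul]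
    simp only [hmonoU]
    exact pureMat_one
  have hfac : ∀ g : GL (Fin 3) F, g.val * bm K.bar g.valᵀ = 1 → ∀ a c s, ∃ a' c' s',
      g.val * monoMat ω a c s * (g⁻¹).val = monoMat ω a' c' s' := by
    intro g hg
    have hbij : Function.Bijective (UnitFour.emb ω) := by
      refine (Fintype.bijective_iff_injective_and_card _).2 ⟨UnitFour.emb_injective hω h2, ?_⟩
      rw [← Nat.card_eq_fintype_card (α := F), K.card, hq]
      rfl
    obtain ⟨code, hcode⟩ : ∃ code : Fin 3 → Fin 3 → UnitFour.E, ∀ i k, UnitFour.emb ω (code i k) = g.val i k :=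
      ⟨fun i k => (hbij.2 _).choose, fun i k => (hbij.2 _).choose_spec⟩
    let u : Fin 3 → UnitFour.V := fun i => (code i 0, code i 1, code i 2)
    have hinvg : (g⁻¹).val = bm K.bar g.valᵀ := Units.inv_eq_of_mul_eq_one_right hg
    have hco : ∀ i k, UnitFour.emb ω (UnitFour.coord (u i) k) = g.val i k := fun i k => by
      fin_cases k <;> exact hcode i _
    have hdot : ∀ i j, UnitFour.emb ω (UnitFour.dot (u i) (u j)) = if i = j then 1 else 0 := by
      intro i j
      have h1 := congrFun (congrFun hg i) j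
      rw [Matrix.mul_apply, Fin.sum_univ_three, Matrix.one_apply] at h1
      rw [← h1]
      simp only [UnitFour.dot, UnitFour.emb_add hω h2, UnitFour.emb_mul hω h2, ← hembbar, u, hcode]
      rfl
    have e0 : ((0 : F)) = UnitFour.emb ω (false, false) := by simp [UnitFour.emb]
    have e1 : ((1 : F)) = UnitFour.emb ω (true, false) := by simp [UnitFour.emb]
    have hd : ∀ i j, UnitFour.dot (u i) (u j) = if i = j then (true, false) else (false, false) := fun i j =>
      UnitFour.emb_injective hω h2 (by rw [hdot]; split <;> [exact e1; exact e0])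
    obtain ⟨⟨a₁, c₁, s₁, hD⟩, a₂, c₂, s₂, hX⟩ := UnitFour.check_spec (u := u 0) (v := u 1) (w := u 2)
      (by simpa using hd 0 0) (by simpa using hd 1 1) (by simpa using hd 2 2) (by simpa using hd 0 1)
      (by simpa using hd 0 2) (by simpa using hd 1 2)
    have hrows : UnitFour.rows (u 0) (u 1) (u 2) = u := funext fun i => by fin_cases i <;> rfl
    rw [hrows] at hD hX
    have hgD : g.val * monoMat ω 0 1 0 * (g⁻¹).val = monoMat ω a₁ c₁ s₁ := by
      ext i j
      conv_rhs => rw [monoMat, Matrix.of_apply, ← hD i j]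
      rw [hinvg, Matrix.mul_apply]
      simp only [UnitFour.conjDiag, UnitFour.emb_add hω h2, UnitFour.emb_mul hω h2, hco, ← hembbar,
        Fin.sum_univ_three, bm_apply, Matrix.transpose_apply, Matrix.mul_apply, monoMat_apply]
      simp
    have hgX : g.val * monoMat ω 0 0 1 * (g⁻¹).val = monoMat ω a₂ c₂ s₂ := by
      ext i j
      conv_rhs => rw [monoMat, Matrix.of_apply, ← hX i j]
      rw [hinvg, Matrix.mul_apply]
      simp only [UnitFour.conjShift, UnitFour.emb_add hω h2, UnitFour.emb_mul hω h2, hco, ← hembbar,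
        Fin.sum_univ_three, bm_apply, Matrix.transpose_apply, Matrix.mul_apply, monoMat_apply]
      simp [UnitFour.pw, UnitFour.emb]
      ring
    intro a c s
    let S : Set (Matrix (Fin 3) (Fin 3) F) :=
      {M | ∃ a' c' s', g.val * M * (g⁻¹).val = monoMat ω a' c' s'}
    have hS1 : (1 : Matrix (Fin 3) (Fin 3) F) ∈ S := ⟨0, 0, 0, by rw [mul_one, Units.mul_inv, monoMat_one hω h2]⟩
    have hSmul : ∀ M M', M ∈ S → M' ∈ S → M * M' ∈ S := by
      rintro M M' ⟨a, c, s, h⟩ ⟨a', c', s', h'⟩
      refine ⟨a + a' + c' * s, c + c', s + s', ?_⟩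
      rw [← monoMat_mul hω h2, ← h, ← h']
      simp [mul_assoc]
    have hScal : monoMat ω a 0 0 ∈ S := by
      refine ⟨a, 0, 0, ?_⟩
      have e3 : monoMat ω a 0 0 = UnitFour.emb ω (UnitFour.pw a) • 1 := by
        ext i j
        rw [monoMat_apply, Matrix.smul_apply, Matrix.one_apply]
        simp [eq_comm]
      rw [e3, mul_smul_comm, mul_one, smul_mul_assoc, Units.mul_inv]
    have hSd : ∀ c, monoMat ω 0 c 0 ∈ S := by
      intro c
      fin_cases c
      · exact (monoMat_one hω h2).symm ▸ hS1
      · exact ⟨_, _, _, hgD⟩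
      · have := hSmul _ _ ⟨_, _, _, hgD⟩ ⟨_, _, _, hgD⟩
        rwa [monoMat_mul hω h2] at this
    have hSx : ∀ s, monoMat ω 0 0 s ∈ S := by
      intro s
      fin_cases s
      · exact (monoMat_one hω h2).symm ▸ hS1
      · exact ⟨_, _, _, hgX⟩
      · have := hSmul _ _ ⟨_, _, _, hgX⟩ ⟨_, _, _, hgX⟩
        rwa [monoMat_mul hω h2] at this
    have := hSmul _ _ (hSmul _ _ hScal (hSd c)) (hSx s)
    simp only [monoMat_mul hω h2, mul_zero, zero_mul, add_zero, zero_add] at this
    exact this
  have hnorm : ∀ g ∈ H, ∀ z ∈ R, g * z * g⁻¹ ∈ R := by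
    intro g hg z hz
    obtain ⟨a, c, s, hzc⟩ := hz
    obtain ⟨_, ⟨w, hw, rfl⟩, hgw⟩ := hle hg
    have hgc : tcoord e P g.val = w.val := by
      rw [← hgw]
      ext x y
      simp [tcoord, glReindex, mul_assoc]
    obtain ⟨gs, σ, hgs⟩ := wreathStandard_decomp hw
    have hiso := fcoord_iso (e := e) (P := P) (τ := K.bar) (J := (1 : Matrix (Fin n) (Fin n) F)) (hH g hg)
    rw [hF, mul_one, hgc, hgs] at hiso
    have hperm : (permMat σ : Matrix (Fin 2 → Fin 3) (Fin 2 → Fin 3) F).map K.bar = permMat σ := by
      ext p r; simp [permMat, apply_ite K.bar]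
    have h3 : (permMat σ)ᵀ * pureMat (fun i => (gs i).valᵀ * bm K.bar (gs i).val) * permMat σ =
        pureMat (fun _ => (1 : Matrix (Fin 3) (Fin 3) F)) := by
      rw [pureMat_one]
      rw [Matrix.transpose_mul, map_mul, pureMat_transpose, bm_pureMat] at hiso
      conv_rhs => rw [← hiso]
      rw [← pureMat_mul, show bm K.bar (permMat σ : Matrix (Fin 2 → Fin 3) (Fin 2 → Fin 3) F) = permMat σ from hperm]
      simp only [mul_assoc]
    rw [permMat_congr] at h3
    have hgu : ∀ l, (gs l).val * bm K.bar (gs l).valᵀ = 1 := by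
      intro l
      obtain ⟨b, hb, hb'⟩ := pureMat_factor (F := F) (c := (1 : F)) (by simpa only [one_smul] using h3) (fun i => by
        refine IsUnit.ne_zero (IsUnit.mul ?_ (isUnit_bm (gs (σ i)).isUnit))
        rw [Matrix.isUnit_iff_isUnit_det, Matrix.det_transpose]
        exact (Matrix.isUnit_iff_isUnit_det _).1 (gs (σ i)).isUnit) (σ.symm l)
      try simp only [Equiv.apply_symm_apply] at hb'
      have hbf : K.bar b = b := by
        have e3 := congrArg (fun X => (bm K.bar X)ᵀ 0 0) hb'
        simp only [map_mul, bm_bm K.bar_bar, Matrix.transpose_mul, bm_transpose, Matrix.transpose_transpose,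
          bm_smul, map_one, Matrix.transpose_smul, Matrix.transpose_one, Matrix.smul_apply, Matrix.one_apply_eq,
          smul_eq_mul, mul_one] at e3
        have e4 := congrFun (congrFun hb' 0) 0
        rw [e4] at e3
        simpa using e3.symm
      have hb1 : b = 1 := by
        rw [K.bar_apply, hq, pow_two] at hbf
        exact (mul_eq_right₀ hb).1 hbf
      rw [hb1, one_smul] at hb'
      have e5 := congrArg Matrix.transpose hb'
      rw [Matrix.transpose_mul, Matrix.transpose_transpose, Matrix.transpose_one, bm_transpose] at e5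
      exact mul_eq_one_comm.1 e5
    have hσz : (permMat σ : Matrix (Fin 2 → Fin 3) (Fin 2 → Fin 3) F) * sqEl ω a c s =
        (pureMat fun i => monoMat ω (if σ.symm i = 0 then a else 0) (c (σ.symm i)) (s (σ.symm i))) * permMat σ := by
      have h1 := permMat_congr σ (fun i => monoMat ω (if σ.symm i = 0 then a else 0) (c (σ.symm i)) (s (σ.symm i)))
      simp only [Equiv.symm_apply_apply] at h1
      have ht : (permMat σ : Matrix (Fin 2 → Fin 3) (Fin 2 → Fin 3) F) * (permMat σ)ᵀ = 1 := by
        ext x y
        rw [Matrix.mul_apply, Finset.sum_eq_single (x ∘ σ) (fun z _ hz => by simp [permMat, hz]) (by simp)]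
        simp only [permMat, Matrix.of_apply, Matrix.transpose_apply, if_true, one_mul, Matrix.one_apply]
        exact if_congr (σ.surjective.injective_comp_right.eq_iff) rfl rfl
      rw [sqEl]
      conv_lhs => rw [← h1]
      simp only [← mul_assoc]
      rw [ht, one_mul]
    choose a' c' s' hfac' using fun i : Fin 2 =>
      hfac (gs i) (hgu i) (if σ.symm i = 0 then a else 0) (c (σ.symm i)) (s (σ.symm i))
    refine ⟨a' 0 + a' 1, c', s', ?_⟩
    have hid : ∀ i, (gs i).val * monoMat ω (if σ.symm i = 0 then a else 0) (c (σ.symm i)) (s (σ.symm i)) =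
        monoMat ω (a' i) (c' i) (s' i) * (gs i).val := fun i => by
      rw [← hfac' i]
      simp [mul_assoc]
    have hgz : tcoord e P (g * z).val = tcoord e P (g * z * g⁻¹).val * tcoord e P g.val := by
      rw [← tcoord_mul, ← Units.val_mul, inv_mul_cancel_right]
    rw [Units.val_mul, tcoord_mul, hgc, hzc, hgs, mul_assoc, hσz, ← mul_assoc, pureMat_mul] at hgz
    simp only [hid] at hgz
    rw [← pureMat_mul, sqEl_eq_pure hω h2, mul_assoc, ← hgs] at hgz
    exact (w.isUnit.mul_right_cancel hgz).symm
  have hsc : ∀ a ∈ R, ∀ b ∈ R, ∃ u : Fˣ, a * b = PrimeDim.sc u * (b * a) := by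
    intro a ha b hb
    have hzc : (⟨a, ha⟩ * ⟨b, hb⟩ * (⟨b, hb⟩ * ⟨a, ha⟩)⁻¹ : R) ∈ Subgroup.center R := by
      have hz : ∀ x y z : R, z = x * y * (y * x)⁻¹ → z * (y * x) = x * y := fun x y z e => by
        rw [e, inv_mul_cancel_right]
      have h1 := congrArg par (hz ⟨a, ha⟩ ⟨b, hb⟩ _ rfl)
      simp only [hmul, Prod.mk.injEq] at h1
      rw [hcenmem]
      simp only [hmul]
      exact ⟨add_eq_right.1 (h1.2.1.trans (add_comm _ _)), add_eq_right.1 (h1.2.2.trans (add_comm _ _))⟩
    have hs : a * b * (b * a)⁻¹ ∈ Cfsg.Geo.scalars (Fin n) F :=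
      PrimeDim.scalar_of_comm habs fun c hc =>
        (congrArg Subtype.val (Subgroup.mem_center_iff.1 hzc ⟨c, hc⟩)).symm
    obtain ⟨u, hu⟩ := PrimeDim.eq_sc_of_mem_scalars hs
    exact ⟨u, by rw [← hu, inv_mul_cancel_right]⟩
  refine ⟨3, R, 2, 2, 2, hST, habs, fun g hg => ⟨1, fun u v => ?_⟩, by norm_num, hn, one_le_two, Nat.prime_two, hsc,
    ⟨Nat.prime_two, ?_, by rw [← Nat.card_eq_fintype_card, K.card, hq], by rw [hcen]; norm_num, fun d hd hd2 => by
      rw [hcen]; obtain rfl : d = 1 := by omega
      norm_num⟩, Or.inl ⟨⟨1, rfl⟩, hcen, one_le_two, hcard⟩, fun g hg => ?_⟩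
  · rw [Units.val_one, one_mul, herm_sform K, herm_sform K]
    exact (iso_iff _ _ _).1 (hRiso g hg) u v
  · exact CharTwo.of_one_ne_zero_of_two_eq_zero one_ne_zero h2
  · refine Subgroup.mem_normalizer_iff.2 fun z => ⟨fun hz => hnorm g hg z hz, fun hz => ?_⟩
    simpa [mul_assoc] using hnorm g⁻¹ (inv_mem hg) _ hz

end CfsgLib.Asch
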