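import Cfsg.Agent.Lib.Classical.AschUnitField
import Cfsg.Agent.Lib.Classical.AschUnitSquare
import Cfsg.Agent.Lib.Classical.AschUnitHeis

set_option autoImplicit false
set_option linter.unusedSectionVars false

/-!
Aschbacher's theorem for the unitary group in dimension at least three.
-/

namespace CfsgLib.Asch

open Matrix
open Cfsg.Geo (matrixSet scalars ActsIrreducibly ActsAbsolutelyIrreducibly)
open CfsgLib.PrimeDim (Inv Nml)
open CfsgLib.ClassicalAut (Unitary.Conj)
open scoped MatrixGroups Kronecker

variable {F : Type*} [Field F] [Fintype F] {q n : ℕ}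

/-- The union of the unitary classes and the residual class. -/
inductive UnitCases (K : Unitary.Conj F q) (H : Subgroup (GL (Fin n) F)) : Prop
  | ts : TSCase K.bar (1 : Matrix (Fin n) (Fin n) F) H → UnitCases K H
  | nd : NDCase K.bar (1 : Matrix (Fin n) (Fin n) F) H → UnitCases K H
  | ndDecomp : NDDecompCase K.bar (1 : Matrix (Fin n) (Fin n) F) H → UnitCases K H
  | tsPair : TSPairCase K.bar (1 : Matrix (Fin n) (Fin n) F) H → UnitCases K H
  | field : UFieldCase q H → UnitCases K H
  | tensor : UTensorCase K H → UnitCases K H
  | rational : URationalCase q H → UnitCases K H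
  | heis : UHeisCase q H → UnitCases K H
  | power : UPowerCase K H → UnitCases K H
  | residual : UResidual H → UnitCases K H

/-- Aschbacher's theorem for the unitary group. -/
theorem unit_structure (K : Unitary.Conj F q) (hn : 3 ≤ n) {H : Subgroup (GL (Fin n) F)}
    (hH : ∀ g ∈ H, Iso K.bar 1 g.val) : UnitCases K H := by
  classical
  haveI : Finite (GL (Fin n) F) := Finite.of_injective _ Units.val_injective
  have hd := std_data (n := n) K
  by_cases hirr : ActsIrreducibly (matrixSet H)
  swap
  · rcases reducible_form hd hH hirr with h | h | h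
    · exact .ts h
    · exact .nd h
    · exact .ndDecomp h
  by_cases hall : ∀ N, Nml H N → N ≤ scalars (Fin n) F ∨ ActsAbsolutelyIrreducibly (matrixSet N)
  swap
  · push Not at hall
    obtain ⟨N, hN, hNs, hNa⟩ := hall
    rcases clifford_cases (by omega) hirr hN with h | h | ⟨d, L, hd', hL⟩ | ⟨m, t, ρ, e, P, hm, ht, hT⟩ | h
    · exact absurd h hNs
    · rcases split_form hd hirr hH hN h with h | h
      · exact .ndDecomp h
      · exact .tsPair h
    · exact .field (ufield_of_ext K (by omega) hH hN hd' hL)
    · rcases unit_tensor K hH hN hm ht hT with h | h | h | h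
      · exact .tensor h
      · exact .power h
      · exact .heis (uheis_of_squareThree K hH h)
      · exact .rational h
    · exact absurd h hNa
  obtain ⟨N, ⟨hN, hNns⟩, hmin⟩ := (wellFounded_lt (α := Subgroup (GL (Fin n) F))).has_min
    {N | Nml H N ∧ ¬ N ≤ scalars (Fin n) F} ⟨H, Nml.self H, not_le_scalars (by omega) hirr⟩
  have hmin' : ∀ M, Nml H M → M ≤ N → M ≤ scalars (Fin n) F ∨ M = N := fun M hM hle => by
    by_cases hs : M ≤ scalars (Fin n) F
    · exact Or.inl hs
    · exact Or.inr (eq_of_le_of_not_lt hle fun hlt => hmin M ⟨hM, hs⟩ hlt)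
  have habs := (hall N hN).resolve_left hNns
  rcases hmin' _ (nml_commutator hN) (commutator_le_self N) with h | h
  · obtain ⟨r, hr⟩ := exists_heisData (by omega) hN habs hNns hmin' h
    rcases unit_heis K hn hH hr with h | h
    · exact .rational h
    · exact .heis h
  · rcases perfect_split (by omega) hN habs hNns hmin' h with
      ⟨hsimp, hnab, hcent⟩ | ⟨m, k, Mf, ρ, e, P, hm, hk, hcard, hirr', hrep, habs', hMH, hperf, hperm, htrans⟩
    · rcases unit_simple K (by omega) hH hN habs h hsimp hnab hcent with h | h
      · exact .rational h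
      · exact .residual h
    · rcases unit_power K (by omega) hH hN hm hk hcard hirr' hrep habs' hMH hperf hperm htrans with h | h
      · exact .power h
      · exact .rational h

end CfsgLib.Asch
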