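import Cfsg.Agent.Lib.Classical.AschUnitBasic

set_option autoImplicit false
set_option linter.unusedSectionVars false

/-!
An alternating form invariant up to scalars puts a unitary group in a symplectic subfield group.
-/

namespace CfsgLib.Asch

open Matrix
open Cfsg.Geo (matrixSet)
open CfsgLib.ClassicalAut (Unitary.Conj)
open scoped MatrixGroups

variable {F : Type*} [Field F] [Fintype F] {q n : ℕ}

theorem urational_of_alternating (K : Unitary.Conj F q) (hn : Even n) {B : Matrix (Fin n) (Fin n) F}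
    (halt : ∀ v, v ⬝ᵥ B *ᵥ v = 0) (hBB : bm K.bar B * B = 1) {H : Subgroup (GL (Fin n) F)}
    (hH : ∀ g ∈ H, Iso K.bar 1 g.val) (hsim : ∀ g ∈ H, ∃ c : F, g.valᵀ * B * g.val = c • B) :
    URationalCase q H := by
  classical
  obtain ⟨y, hy⟩ := K.exists_moved
  have hy' : y - K.bar y ≠ 0 := sub_ne_zero.2 (Ne.symm hy)
  let M : (Fin n → F) → (Fin n → F) := fun v => ⇑K.bar ∘ (B *ᵥ v)
  have hadd : ∀ v w, M (v + w) = M v + M w := fun v w => by funext i; simp [M, mulVec_add]
  have hsmul : ∀ (c : F) v, M (c • v) = K.bar c • M v := fun c v => by funext i; simp [M, mulVec_smul]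
  have hMM : ∀ v, M (M v) = v := fun v => by
    have h1 : ⇑K.bar ∘ (⇑K.bar ∘ (B *ᵥ v)) = B *ᵥ v := funext fun i => K.bar_bar _
    show ⇑K.bar ∘ (B *ᵥ (⇑K.bar ∘ (B *ᵥ v))) = v
    rw [← bm_mulVec, h1, mulVec_mulVec, hBB, one_mulVec]
  let S : Set (Fin n → F) := {v | M v = v}
  have hspan : Submodule.span F S = ⊤ := by
    refine eq_top_iff.2 fun v _ => ?_
    have hS : ∀ w, w + M w ∈ S := fun w => by
      show M (w + M w) = w + M w
      rw [hadd, hMM, add_comm]
    have e : (y - K.bar y) • v = (y • v + M (y • v)) - K.bar y • (v + M v) := by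
      rw [hsmul, smul_add, sub_smul]; abel
    have h1 : (y - K.bar y) • v ∈ Submodule.span F S := by
      rw [e]
      exact sub_mem (Submodule.subset_span (hS _)) (Submodule.smul_mem _ _ (Submodule.subset_span (hS _)))
    exact (Submodule.smul_mem_iff _ hy').1 h1
  obtain ⟨T, hTS, hTsp, hTli⟩ := exists_linearIndependent F S
  rw [hspan] at hTsp
  let b₀ := Module.Basis.mk hTli (by rw [Subtype.range_coe_subtype, Set.setOf_mem_eq, hTsp])
  let b := b₀.reindex (b₀.indexEquiv (Pi.basisFun F (Fin n)))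
  have hb : ∀ i, M (b i) = b i := fun i => by
    simp only [b, b₀, Module.Basis.reindex_apply, Module.Basis.mk_apply]
    exact hTS (Subtype.coe_prop _)
  let Pm : Matrix (Fin n) (Fin n) F := fun i j => b j i
  have hPm : IsUnit Pm := Matrix.linearIndependent_cols_iff_isUnit.1 b.linearIndependent
  obtain ⟨P, hP⟩ := hPm
  have hPw : ∀ w : Fin n → F, (P : Matrix (Fin n) (Fin n) F) *ᵥ w = ∑ j, w j • b j := fun w => by
    funext i
    rw [hP]
    simp [Pm, mulVec, dotProduct, mul_comm]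
  have hPM : ∀ w : Fin n → F, M ((P : Matrix (Fin n) (Fin n) F) *ᵥ w) =
      (P : Matrix (Fin n) (Fin n) F) *ᵥ (⇑K.bar ∘ w) := fun w => by
    let L : (Fin n → F) →+ (Fin n → F) := AddMonoidHom.mk' M hadd
    change L _ = _
    rw [hPw, hPw, map_sum]
    exact Finset.sum_congr rfl fun j _ => by
      show M _ = _
      rw [hsmul, hb]
      rfl
  let F₁ : Subfield F := RingHom.eqLocusField (K.bar : F →+* F) (RingHom.id F)
  have hcard : Fintype.card F = Nat.card F₁ ^ 2 := by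
    rw [← Nat.card_eq_fintype_card]
    exact (AutPSL.card_fixedField_pow K.orderOf_bar).symm
  have hform : ∀ x z, Cfsg.hermForm n F q x (M z) = x ⬝ᵥ B *ᵥ z := fun x z => by
    rw [herm_sform K, sform, one_mulVec, show ⇑K.bar ∘ M z = B *ᵥ z from funext fun i => K.bar_bar _]
  have hanti : ∀ x z, z ⬝ᵥ B *ᵥ x = -(x ⬝ᵥ B *ᵥ z) := fun x z => by
    have h := halt (x + z)
    rw [mulVec_add, add_dotProduct, dotProduct_add, dotProduct_add, halt, halt] at h
    linear_combination h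
  have hskew : ∀ x z, M x = x → M z = z →
      K.bar (Cfsg.hermForm n F q x z) = -Cfsg.hermForm n F q x z := by
    intro x z hx hz
    rw [← Classical.Herm.h_swap K x z]
    conv_lhs => rw [← hx, hform, hanti]
    conv_rhs => rw [← hz, hform]
  have hfix : ∀ u : Fin n → F, (∀ i, u i ∈ F₁) →
      M ((P : Matrix (Fin n) (Fin n) F) *ᵥ u) = (P : Matrix (Fin n) (Fin n) F) *ᵥ u := fun u hu => by
    rw [hPM, show ⇑K.bar ∘ u = u from funext fun i => hu i]
  refine Or.inr (Or.inr ⟨F₁, P, y - K.bar y, hn, hcard, hy', ?_, fun u v hu hv => ?_, fun u hu => ?_, fun g hg => ?_⟩)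
  · rw [← K.bar_apply, map_sub, K.bar_bar]; ring
  · show K.bar _ = _
    rw [map_mul, map_sub, K.bar_bar, hskew _ _ (hfix u hu) (hfix v hv)]
    simp only [RingHom.id_apply]
    ring
  · conv_lhs => arg 5; rw [← hfix u hu]
    rw [hform, halt]
  obtain ⟨c, hc⟩ := hsim g hg
  have e1 : g.valᵀ * bm K.bar g.val = 1 := by
    have := hH g hg
    rwa [Iso, mul_one] at this
  have e2 : bm K.bar g.val * g.valᵀ = 1 := mul_eq_one_comm.1 e1
  have e3 : c • (bm K.bar g.val * B) = B * g.val := by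
    rw [← mul_smul_comm, ← hc, ← mul_assoc, ← mul_assoc, e2, one_mul]
  have hMg : ∀ z, M ((g : Matrix (Fin n) (Fin n) F) *ᵥ z) = K.bar c • ((g : Matrix (Fin n) (Fin n) F) *ᵥ M z) := by
    intro z
    have e4 : B *ᵥ ((g : Matrix (Fin n) (Fin n) F) *ᵥ z) = c • (bm K.bar g.val *ᵥ (B *ᵥ z)) := by
      rw [mulVec_mulVec, ← e3, smul_mulVec, mulVec_mulVec]
    show ⇑K.bar ∘ (B *ᵥ _) = _
    rw [e4]
    have e5 : ⇑K.bar ∘ (c • (bm K.bar g.val *ᵥ (B *ᵥ z))) = K.bar c • (⇑K.bar ∘ (bm K.bar g.val *ᵥ (B *ᵥ z))) := by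
      funext i; simp
    rw [e5, ← bm_mulVec, bm_bm K.bar_bar]
  rcases Nat.eq_zero_or_pos n with rfl | hn0
  · exact PrimeDim.mem_subfieldSubgroup.2 ⟨1, one_ne_zero, fun i => i.elim0⟩
  haveI : Nonempty (Fin n) := ⟨⟨0, hn0⟩⟩
  have hc1 : c * K.bar c = 1 := by
    obtain ⟨z, hz⟩ : ∃ z : Fin n → F, (g : Matrix (Fin n) (Fin n) F) *ᵥ z ≠ 0 :=
      ⟨Pi.single ⟨0, hn0⟩ 1, fun e => by
        have := PrimeDim.mulVec_injective g (a₁ := Pi.single ⟨0, hn0⟩ 1) (a₂ := 0) (by simpa using e)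
        simpa using congrFun this ⟨0, hn0⟩⟩
    have h1 := hMM ((g : Matrix (Fin n) (Fin n) F) *ᵥ z)
    rw [hMg, hsmul, hMg, hMM, K.bar_bar, smul_smul] at h1
    exact smul_left_injective F hz (h1.trans (one_smul F _).symm)
  obtain ⟨a, ha, hac⟩ := hilbert90 K hc1
  refine PrimeDim.mem_subfieldSubgroup.2 ⟨a, ha, fun i j => ?_⟩
  set w : Fin n → F := fun k => ((P⁻¹ * g * P : GL (Fin n) F) : Matrix (Fin n) (Fin n) F) k j / a with hw
  show K.bar (w i) = w i
  have hPw2 : (P : Matrix (Fin n) (Fin n) F) *ᵥ w = a⁻¹ • ((g : Matrix (Fin n) (Fin n) F) *ᵥ b j) := by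
    have : w = a⁻¹ • (((P⁻¹ * g * P : GL (Fin n) F) : Matrix (Fin n) (Fin n) F) *ᵥ Pi.single j 1) := by
      funext k
      simp [hw, div_eq_inv_mul]
    rw [this, mulVec_smul]
    congr 1
    have hbj : (P : Matrix (Fin n) (Fin n) F) *ᵥ Pi.single j 1 = b j := by
      rw [hPw, Finset.sum_eq_single j (fun k _ hk => by simp [hk]) (by simp)]
      simp
    rw [mulVec_mulVec, ← Units.val_mul, ← hbj, mulVec_mulVec, ← Units.val_mul]
    simp [← mul_assoc]
  have hMw : M ((P : Matrix (Fin n) (Fin n) F) *ᵥ w) = (P : Matrix (Fin n) (Fin n) F) *ᵥ w := by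
    rw [hPw2, hsmul, hMg, hb, smul_smul]
    congr 1
    have hba : K.bar a ≠ 0 := fun e => ha (K.bar.injective (e.trans (map_zero _).symm))
    rw [map_inv₀]
    field_simp
    linear_combination (K.bar a) * hc1 - (K.bar c) * hac
  rw [hPM] at hMw
  exact congrFun (PrimeDim.mulVec_injective P hMw) i

end CfsgLib.Asch
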