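import Cfsg.Agent.Lib.Classical.AschUnitMax

set_option autoImplicit false
set_option linter.unusedSectionVars false

/-!
Arithmetic of the cases for the small unitary groups.
-/

namespace CfsgLib.Asch.UnitArith

open scoped MatrixGroups

variable {F : Type*} [Field F] [Fintype F] {q : ℕ}

theorem prime_sq_root {p : ℕ} (hp : p.Prime) {q : ℕ} (h : q ^ 2 = p ^ 2) : q = p :=
  Nat.pow_left_injective two_ne_zero h

theorem two_group_data (hF : Fintype.card F = q ^ 2) {n r p e k z c : ℕ} {m : ℕ} (hn : n = 2 ^ m) (hm : 1 ≤ m)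
    (hr : r.Prime) (hk : n = r ^ k) (hk1 : 1 ≤ k)
    (hmi : Cfsg.Geo.IsMinimalFieldFor z p e F)
    (hc : (Odd r ∧ z = r ∧ 1 ≤ k ∧ c = r ^ (1 + 2 * k)) ∨ (r = 2 ∧ e = 2 ∧ z = 4 ∧ c = 2 ^ (2 + 2 * k))) :
    r = 2 ∧ k = m ∧ q = p ∧ p % 4 = 3 ∧ z = 4 ∧ c = 2 ^ (2 + 2 * m) := by
  have h2 : r = 2 := by
    have h1 : r ∣ 2 ^ m := hn ▸ hk ▸ dvd_pow_self r (by omega)
    exact (Nat.prime_dvd_prime_iff_eq hr Nat.prime_two).1 (hr.dvd_of_dvd_pow h1)
  subst h2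
  have hkm : k = m := Nat.pow_right_injective le_rfl (hk.symm.trans hn)
  subst hkm
  rcases hc with ⟨ho, -, -, -⟩ | ⟨-, rfl, rfl, hc⟩
  · exact absurd ho (by decide)
  obtain ⟨hp, -, hcard, hdvd, hmin⟩ := hmi
  have hqp : q = p := prime_sq_root hp (hF.symm.trans hcard)
  have h4 := hmin 1 one_pos one_lt_two
  rw [pow_one] at h4
  refine ⟨rfl, rfl, hqp, ?_, rfl, hc⟩
  have h2' := hp.two_le
  rcases hp.eq_two_or_odd with h | h
  · subst h; norm_num at hdvd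
  · omega

theorem three_group_data (hF : Fintype.card F = q ^ 2) {r p e k z c : ℕ}
    (hr : r.Prime) (hk : 9 = r ^ k) (hk1 : 1 ≤ k) (hrp : r ≠ p)
    (hmi : Cfsg.Geo.IsMinimalFieldFor z p e F)
    (hc : (Odd r ∧ z = r ∧ 1 ≤ k ∧ c = r ^ (1 + 2 * k)) ∨ (r = 2 ∧ e = 2 ∧ z = 4 ∧ c = 2 ^ (2 + 2 * k))) :
    r = 3 ∧ k = 2 ∧ q = p ∧ p % 3 = 2 ∧ z = 3 ∧ c = 243 := by
  have h3 : r = 3 := by
    have h1 : r ∣ 3 ^ 2 := by rw [show (3 : ℕ) ^ 2 = r ^ k by rw [← hk]; norm_num]; exact dvd_pow_self r (by omega)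
    exact (Nat.prime_dvd_prime_iff_eq hr Nat.prime_three).1 (hr.dvd_of_dvd_pow h1)
  subst h3
  have hkm : k = 2 := Nat.pow_right_injective (show 2 ≤ 3 by norm_num) (hk.symm.trans (show 9 = 3 ^ 2 by norm_num))
  subst hkm
  rcases hc with ⟨-, rfl, -, hc⟩ | ⟨h, -⟩
  swap
  · exact absurd h (by norm_num)
  obtain ⟨hp, -, hcard, hdvd, hmin⟩ := hmi
  have hp3 : p % 3 ≠ 0 := fun h => hrp ((Nat.prime_dvd_prime_iff_eq Nat.prime_three hp).1 (Nat.dvd_of_mod_eq_zero h))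
  have he0 : 0 < e := by
    rcases Nat.eq_zero_or_pos e with rfl | h
    · have := Fintype.one_lt_card (α := F)
      rw [hcard] at this
      simp at this
    · exact h
  have he : e ≤ 2 := by
    by_contra hlt
    refine hmin 2 two_pos (by omega) ?_
    have : p ^ 2 % 3 = 1 := by
      rw [Nat.pow_mod]
      have h12 : p % 3 = 1 ∨ p % 3 = 2 := by omega
      rcases h12 with h | h <;> rw [h] <;> norm_num
    omega
  have hsq : q ^ 2 = p ^ e := hF.symm.trans hcard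
  have he2 : e = 2 := by
    interval_cases e
    · exfalso
      rw [pow_one] at hsq
      exact Nat.Prime.not_prime_pow le_rfl (hsq ▸ hp)
    · rfl
  subst he2
  refine ⟨rfl, rfl, prime_sq_root hp hsq, ?_, rfl, by rw [hc]; norm_num⟩
  have h1 := hmin 1 one_pos one_lt_two
  rw [pow_one] at h1
  have := hp.two_le
  omega

theorem power_data {k t n : ℕ} (hk : 3 ≤ k) (ht : 2 ≤ t) (h : k ^ t = n) (hn : n < 16) : k = 3 ∧ t = 2 ∧ n = 9 := by
  have h3 : t < 3 := by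
    by_contra hc
    have h1 : 3 ^ 3 ≤ k ^ t := le_trans (Nat.pow_le_pow_left hk 3) (Nat.pow_le_pow_right (by omega) (by omega))
    omega
  obtain rfl : t = 2 := by omega
  have hk4 : k < 4 := by
    by_contra hc
    have h1 : 4 ^ 2 ≤ k ^ 2 := Nat.pow_le_pow_left (by omega) 2
    omega
  obtain rfl : k = 3 := by omega
  exact ⟨rfl, rfl, by rw [← h]; norm_num⟩

end CfsgLib.Asch.UnitArith
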