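import Cfsg.Agent.Lib.Classical.MinIndexPSL
import Cfsg.Prelude.Def_GeometricClasses

set_option autoImplicit false

/-!
Subspace stabilisers of `SL_n`: maximality, transitivity, non-maximal intersections, conjugacy of
transvections.
-/

namespace CfsgLib.Classical.MinIndex

open Matrix
open scoped MatrixGroups

variable {F : Type*} [Field F] {n : ℕ}

/-- The centres all of whose transvections lie in `H`. -/
def centres (H : Subgroup (SpecialLinearGroup (Fin n) F)) : Submodule F (Fin n → F) where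
  carrier := {y | ∀ (φ : Fin n → F) (h : φ ⬝ᵥ y = 0), tv y φ h ∈ H}
  zero_mem' φ h := by
    rw [show tv 0 φ h = 1 from ext_app fun v => by rw [app_tv, smul_zero, add_zero, app_one]]
    exact H.one_mem
  smul_mem' c y hy φ h := by
    have h' : (c • φ) ⬝ᵥ y = 0 := by rwa [smul_dotProduct, ← dotProduct_smul]
    rw [show tv (c • y) φ h = tv y (c • φ) h' from ext_app fun v => by
      rw [app_tv, app_tv, smul_dotProduct, smul_eq_mul, smul_smul, mul_comm]]
    exact hy _ h'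
  add_mem' {y z} hy hz φ h := by
    by_cases hyz : z ∈ Submodule.span F {y}
    · obtain ⟨c, rfl⟩ := Submodule.mem_span_singleton.1 hyz
      have h' : ((1 + c) • φ) ⬝ᵥ y = 0 := by
        rw [smul_dotProduct, ← dotProduct_smul, add_smul, one_smul]; exact h
      rw [show tv (y + c • y) φ h = tv y ((1 + c) • φ) h' from ext_app fun v => by
        rw [app_tv, app_tv, smul_dotProduct, smul_eq_mul]; module]
      exact hy _ h'
    · obtain ⟨ψ, hψ, hψz⟩ := exists_sep _ hyz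
      have hψy : ψ ⬝ᵥ y = 0 := hψ y (Submodule.mem_span_singleton_self y)
      have hg : app (tv y ψ hψy) z = y + z := by rw [app_tv, hψz, one_smul, add_comm]
      have h' : (φ ᵥ* (tv y ψ hψy).1) ⬝ᵥ z = 0 := by
        rw [← dotProduct_mulVec]
        show φ ⬝ᵥ app (tv y ψ hψy) z = 0
        rw [hg]; exact h
      have hc : tv (y + z) φ h = tv y ψ hψy * tv z (φ ᵥ* (tv y ψ hψy).1) h' * (tv y ψ hψy)⁻¹ :=
        ext_app fun v => by
          rw [app_mul, app_mul, app_tv, app_tv z, app_add, app_smul, app_inv', hg, ← dotProduct_mulVec]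
          show _ = v + (φ ⬝ᵥ app (tv y ψ hψy) (app (tv y ψ hψy)⁻¹ v)) • (y + z)
          rw [app_inv']
      rw [hc]
      exact H.mul_mem (H.mul_mem (hy _ _) (hz _ _)) (H.inv_mem (hy _ _))

theorem app_mem_centres {H : Subgroup (SpecialLinearGroup (Fin n) F)} {k : SpecialLinearGroup (Fin n) F}
    (hk : k ∈ H) {y : Fin n → F} (hy : y ∈ centres H) : app k y ∈ centres H := by
  intro φ h
  have h' : (φ ᵥ* k.1) ⬝ᵥ y = 0 := by rw [← dotProduct_mulVec]; exact h
  have hc : tv (app k y) φ h = k * tv y (φ ᵥ* k.1) h' * k⁻¹ := ext_app fun v => by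
    rw [app_mul, app_mul, app_tv, app_tv y, app_add, app_smul, app_inv', ← dotProduct_mulVec]
    show _ = v + (φ ⬝ᵥ app k (app k⁻¹ v)) • app k y
    rw [app_inv']
  rw [hc]
  exact H.mul_mem (H.mul_mem hk (hy _ _)) (H.inv_mem hk)

theorem eq_top_of_centres (hn : 2 ≤ n) {H : Subgroup (SpecialLinearGroup (Fin n) F)}
    (ht : centres H = ⊤) : H = ⊤ := by
  have : Nontrivial (Fin n) := Fin.nontrivial_iff_two_le.2 hn
  refine eq_top_of_transvection_mem H fun i j hij c => ?_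
  have h : (c • (Pi.single j (1 : F))) ⬝ᵥ (Pi.single i 1 : Fin n → F) = 0 := by
    simp [smul_dotProduct, hij]
  have hm : (Pi.single i 1 : Fin n → F) ∈ centres H := ht ▸ Submodule.mem_top
  convert hm _ h
  refine SL_ext_smul fun v => funext fun k => ?_
  rw [transvection_smul_apply]
  show _ = app (tv _ _ h) v k
  rw [app_tv]
  simp [Pi.single_apply]

/-- The stabiliser of `W`. -/
def stab (W : Submodule F (Fin n → F)) : Set (SpecialLinearGroup (Fin n) F) :=
  {g | ∀ w ∈ W, app g w ∈ W}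

theorem tv_mem_stab {W : Submodule F (Fin n → F)} {a φ : Fin n → F} (h : φ ⬝ᵥ a = 0)
    (hW : a ∈ W ∨ ∀ w ∈ W, φ ⬝ᵥ w = 0) : tv a φ h ∈ stab W := by
  intro w hw
  rw [app_tv]
  rcases hW with hW | hW
  · exact W.add_mem hw (W.smul_mem _ hW)
  · rw [hW w hw, zero_smul, add_zero]; exact hw

/-- Subspace stabilisers are maximal. -/
theorem le_stab_or_top {W : Submodule F (Fin n → F)} (hW0 : W ≠ ⊥) (hW1 : W ≠ ⊤)
    (K : Subgroup (SpecialLinearGroup (Fin n) F)) (hK : stab W ⊆ K) :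
    K = ⊤ ∨ (K : Set (SpecialLinearGroup (Fin n) F)) ⊆ stab W := by
  have hle : W ≤ centres K := fun y hy φ h => hK (tv_mem_stab h (Or.inl hy))
  have hn : 2 ≤ n := by
    have h1 := Submodule.finrank_lt hW1
    have h2 : 1 ≤ Module.finrank F W := Submodule.one_le_finrank_iff.2 hW0
    rw [Module.finrank_fin_fun] at h1
    omega
  by_cases hR : centres K ≤ W
  · exact Or.inr fun g hg w hw => hR (app_mem_centres hg (hle hw))
  refine Or.inl (eq_top_of_centres hn ?_)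
  obtain ⟨u, hu, huW⟩ := SetLike.not_le_iff_exists.1 hR
  rw [eq_top_iff]
  intro v _
  by_cases hv : v ∈ W ⊔ Submodule.span F {u}
  · exact (sup_le hle ((Submodule.span_singleton_le_iff_mem _ _).2 hu)) hv
  obtain ⟨ψ, hψ, hψu⟩ := exists_sep (W ⊔ Submodule.span F {v - u}) (u := u) (fun h => by
    obtain ⟨w, hw, z, hz, hwz⟩ := Submodule.mem_sup.1 h
    obtain ⟨c, rfl⟩ := Submodule.mem_span_singleton.1 hz
    by_cases hc : c = 0
    · rw [hc, zero_smul, add_zero] at hwz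
      exact huW (hwz ▸ hw)
    · apply hv
      have e : v = (-c⁻¹) • w + (c⁻¹ + 1) • u := by
        have h2 : c • (v - u) = u - w := eq_sub_of_add_eq' hwz
        have h3 : v - u = c⁻¹ • (u - w) := by rw [← h2, smul_smul, inv_mul_cancel₀ hc, one_smul]
        rw [← sub_add_cancel v u, h3]
        module
      rw [e]
      exact Submodule.add_mem _ (Submodule.mem_sup_left (W.smul_mem _ hw))
        (Submodule.mem_sup_right (Submodule.smul_mem _ _ (Submodule.mem_span_singleton_self u))))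
  have hd : ψ ⬝ᵥ (v - u) = 0 := hψ _ (Submodule.mem_sup_right (Submodule.mem_span_singleton_self _))
  have hg : tv (v - u) ψ hd ∈ K :=
    hK (tv_mem_stab hd (Or.inr fun w hw => hψ w (Submodule.mem_sup_left hw)))
  have h1 := app_mem_centres hg hu
  rwa [app_tv, hψu, one_smul, add_sub_cancel] at h1

theorem stab_of_injOn [Finite F] {W : Submodule F (Fin n → F)} {g : SpecialLinearGroup (Fin n) F}
    (hg : g ∈ stab W) (v : Fin n → F) : v ∈ W ↔ app g v ∈ W := by
  refine ⟨hg v, fun hv => ?_⟩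
  obtain ⟨⟨w, hw⟩, hw'⟩ := (Finite.injective_iff_surjective.1
    (show Function.Injective (fun w : W => (⟨app g w, hg w w.2⟩ : W)) from fun a b e =>
      Subtype.ext (by
        have := congrArg (fun z : W => app g⁻¹ (z : Fin n → F)) e
        simpa [app_inv] using this))) ⟨app g v, hv⟩
  have := congrArg (fun z : W => app g⁻¹ (z : Fin n → F)) hw'
  simp only [app_inv] at this
  rwa [← this]

/-- A transvection moving `U` and stabilising `W`. -/
theorem exists_move {W U : Submodule F (Fin n → F)} {u : Fin n → F} (hu : u ∈ U) (huW : u ∉ W)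
    {a : Fin n → F} (ha : a ∉ U) (hua : u ∉ W ⊔ Submodule.span F {a}) :
    ∃ g ∈ stab W, g ∉ stab U := by
  obtain ⟨ψ, hψ, hψu⟩ := exists_sep _ hua
  have h : ψ ⬝ᵥ a = 0 := hψ a (Submodule.mem_sup_right (Submodule.mem_span_singleton_self a))
  refine ⟨tv a ψ h, tv_mem_stab h (Or.inr fun w hw => hψ w (Submodule.mem_sup_left hw)), fun hg => ha ?_⟩
  have h1 := hg u hu
  rw [app_tv, hψu, one_smul] at h1
  simpa using U.sub_mem h1 hu

theorem exists_notMem_stab {W : Submodule F (Fin n → F)} (hW0 : W ≠ ⊥) (hW1 : W ≠ ⊤) :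
    ∃ g : SpecialLinearGroup (Fin n) F, g ∉ stab W := by
  obtain ⟨w, hw, hw0⟩ := Submodule.exists_mem_ne_zero_of_ne_bot hW0
  obtain ⟨a, ha⟩ := SetLike.exists_not_mem_of_ne_top W hW1 rfl
  obtain ⟨g, -, hg⟩ := exists_move (W := ⊥) hw (by rwa [Submodule.mem_bot]) ha (by
    rw [bot_sup_eq]
    intro h
    obtain ⟨c, hc⟩ := Submodule.mem_span_singleton.1 h
    have hc0 : c ≠ 0 := fun h0 => hw0 (by rw [← hc, h0, zero_smul])
    exact ha (by simpa [← hc, smul_smul, hc0] using W.smul_mem c⁻¹ hw))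
  exact ⟨g, hg⟩

/-! ### Passing to subgroups of `GL_n` -/

theorem mem_subspaceStabilizer_iff [Finite F] (W : Submodule F (Fin n → F))
    (g : SpecialLinearGroup (Fin n) F) :
    (g : GL (Fin n) F) ∈ Cfsg.Geo.subspaceStabilizer W ↔ g ∈ stab W :=
  ⟨fun h w hw => (h w).1 hw, fun h v => stab_of_injOn h v⟩

theorem mem_specialLinear {g : GL (Fin n) F} :
    g ∈ Cfsg.Geo.specialLinear (Fin n) F ↔ ∃ s : SpecialLinearGroup (Fin n) F, (s : GL (Fin n) F) = g := by
  constructor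
  · intro h
    exact ⟨⟨(g : Matrix (Fin n) (Fin n) F), congrArg Units.val (MonoidHom.mem_ker.1 h)⟩, Units.ext rfl⟩
  · rintro ⟨s, rfl⟩
    exact MonoidHom.mem_ker.2 (Units.ext s.2)

theorem isMaximalIn_stab [Finite F] {W : Submodule F (Fin n → F)} (hW0 : W ≠ ⊥) (hW1 : W ≠ ⊤) :
    Cfsg.Geo.IsMaximalIn (Cfsg.Geo.specialLinear (Fin n) F)
      (Cfsg.Geo.subspaceStabilizer W ⊓ Cfsg.Geo.specialLinear (Fin n) F) := by
  refine ⟨lt_of_le_not_ge inf_le_right fun h => ?_, fun M hM hM' => ?_⟩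
  · obtain ⟨g, hg⟩ := exists_notMem_stab hW0 hW1
    exact hg ((mem_subspaceStabilizer_iff W g).1 (h (mem_specialLinear.2 ⟨g, rfl⟩)).1)
  rcases le_stab_or_top hW0 hW1 (M.comap SpecialLinearGroup.toGL) (fun g hg =>
      hM ⟨(mem_subspaceStabilizer_iff W g).2 hg, mem_specialLinear.2 ⟨g, rfl⟩⟩) with h | h
  · refine Or.inr (le_antisymm hM' fun g hg => ?_)
    obtain ⟨s, rfl⟩ := mem_specialLinear.1 hg
    have : s ∈ M.comap SpecialLinearGroup.toGL := h ▸ Subgroup.mem_top s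
    exact this
  · refine Or.inl (le_antisymm (fun g hg => ?_) hM)
    obtain ⟨s, rfl⟩ := mem_specialLinear.1 (hM' hg)
    exact ⟨(mem_subspaceStabilizer_iff W s).2 (h hg), mem_specialLinear.2 ⟨s, rfl⟩⟩

theorem exists_between [Finite F] {W U : Submodule F (Fin n → F)} (hW0 : W ≠ ⊥) (hW1 : W ≠ ⊤)
    (h : ∃ g ∈ stab W, g ∉ stab U) :
    ∃ K : Subgroup (GL (Fin n) F),
      Cfsg.Geo.subspaceStabilizer W ⊓ Cfsg.Geo.subspaceStabilizer U ⊓ Cfsg.Geo.specialLinear (Fin n) F < K ∧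
        K < Cfsg.Geo.specialLinear (Fin n) F := by
  refine ⟨Cfsg.Geo.subspaceStabilizer W ⊓ Cfsg.Geo.specialLinear (Fin n) F, lt_of_le_not_ge (fun g hg => ⟨hg.1.1, hg.2⟩) fun hle => ?_, (isMaximalIn_stab hW0 hW1).1⟩
  obtain ⟨g, hg, hgU⟩ := h
  exact hgU ((mem_subspaceStabilizer_iff U g).1
    (hle ⟨(mem_subspaceStabilizer_iff W g).2 hg, mem_specialLinear.2 ⟨g, rfl⟩⟩).1.2)

/-! ### Conjugacy of transvections -/

/-- Transitivity on functionals killing a fixed vector. -/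
theorem exists_app_functional (hn : 3 ≤ n) {a φ φ' : Fin n → F} (ha : a ≠ 0) (h : φ ⬝ᵥ a = 0)
    (h' : φ' ⬝ᵥ a = 0) (hφ : φ ≠ 0) (hφ' : φ' ≠ 0) :
    ∃ g : SpecialLinearGroup (Fin n) F, app g a = a ∧ φ ᵥ* g.1 = φ' := by
  have key : ∀ φ φ' : Fin n → F, φ ⬝ᵥ a = 0 → φ' ⬝ᵥ a = 0 → φ ≠ 0 → φ' ∉ Submodule.span F {φ} →
      ∃ g : SpecialLinearGroup (Fin n) F, app g a = a ∧ φ ᵥ* g.1 = φ' := by
    intro φ φ' h h' hφ hi
    obtain ⟨b, hb, hb1⟩ := exists_sep (Submodule.span F {φ' - φ}) (u := φ) (fun hmem => by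
      obtain ⟨c, hc⟩ := Submodule.mem_span_singleton.1 hmem
      have hc0 : c ≠ 0 := fun h0 => hφ (by rw [← hc, h0, zero_smul])
      refine hi (Submodule.mem_span_singleton.2 ⟨c⁻¹ + 1, ?_⟩)
      rw [add_smul, one_smul]
      conv_lhs => arg 1; rw [← hc, smul_smul, inv_mul_cancel₀ hc0, one_smul]
      rw [sub_add_cancel])
    have hd : (φ' - φ) ⬝ᵥ b = 0 := by
      rw [dotProduct_comm]; exact hb _ (Submodule.mem_span_singleton_self _)
    refine ⟨tv b (φ' - φ) hd, by rw [app_tv, sub_dotProduct, h, h', sub_zero, zero_smul, add_zero],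
      funext fun j => ?_⟩
    have := dotProduct_mulVec φ (tv b (φ' - φ) hd).1 (Pi.single j 1)
    rw [dotProduct_single, mul_one] at this
    rw [← this]
    show φ ⬝ᵥ app (tv b (φ' - φ) hd) (Pi.single j 1) = _
    rw [app_tv, dotProduct_add, dotProduct_smul, dotProduct_comm φ b, hb1, dotProduct_single,
      dotProduct_single]
    simp
  by_cases hi : φ' ∈ Submodule.span F {φ}
  swap
  · exact key φ φ' h h' hφ hi
  obtain ⟨χ, hχa, hχ⟩ : ∃ χ : Fin n → F, χ ⬝ᵥ a = 0 ∧ χ ∉ Submodule.span F {φ} := by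
    by_contra hc
    push Not at hc
    let L : (Fin n → F) →ₗ[F] F :=
      { toFun := fun χ => χ ⬝ᵥ a
        map_add' := fun x y => add_dotProduct x y a
        map_smul' := fun c x => smul_dotProduct c x a }
    have h1 := L.finrank_range_add_finrank_ker
    have h2 : Module.finrank F (LinearMap.ker L) ≤ 1 := by
      rw [← finrank_span_singleton (K := F) hφ]
      exact Submodule.finrank_mono fun χ hχ => hc χ hχ
    have h3 := Submodule.finrank_le (LinearMap.range L)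
    rw [Module.finrank_self] at h3
    rw [Module.finrank_fin_fun] at h1
    omega
  have hχ' : φ' ∉ Submodule.span F {χ} := fun hm => by
    obtain ⟨c, hc⟩ := Submodule.mem_span_singleton.1 hm
    have hc0 : c ≠ 0 := fun h0 => hφ' (by rw [← hc, h0, zero_smul])
    refine hχ ?_
    have := Submodule.smul_mem _ c⁻¹ hi
    rwa [← hc, smul_smul, inv_mul_cancel₀ hc0, one_smul] at this
  obtain ⟨g, hg, hgφ⟩ := key φ χ h hχa hφ hχ
  obtain ⟨g', hg', hgφ'⟩ := key χ φ' hχa h' (fun h0 => hχ (h0 ▸ Submodule.zero_mem _)) hχ'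
  exact ⟨g * g', by rw [app_mul, hg', hg], by
    show φ ᵥ* (g.1 * g'.1) = φ'
    rw [← vecMul_vecMul, hgφ, hgφ']⟩

theorem isConj_tv (hn : 3 ≤ n) {a a' φ φ' : Fin n → F} (ha : a ≠ 0) (ha' : a' ≠ 0) (h : φ ⬝ᵥ a = 0)
    (h' : φ' ⬝ᵥ a' = 0) (hφ : φ ≠ 0) (hφ' : φ' ≠ 0) : IsConj (tv a φ h) (tv a' φ' h') := by
  obtain ⟨g, hg⟩ := exists_app hn ha ha'
  have h1 : (φ ᵥ* (g⁻¹).1) ⬝ᵥ a' = 0 := by
    rw [← dotProduct_mulVec]
    show φ ⬝ᵥ app g⁻¹ a' = 0
    rw [← hg, app_inv, h]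
  have h10 : φ ᵥ* (g⁻¹).1 ≠ 0 := fun h0 => hφ (by
    have := congrArg (fun χ => χ ᵥ* g.1) h0
    rwa [zero_vecMul, vecMul_vecMul, show (g⁻¹).1 * g.1 = 1 from congrArg Subtype.val (inv_mul_cancel g),
      vecMul_one] at this)
  obtain ⟨k, hk, hkφ⟩ := exists_app_functional hn ha' h1 h' h10 hφ'
  refine isConj_iff.2 ⟨k⁻¹ * g, ext_app fun v => ?_⟩
  have hv : φ ⬝ᵥ app g⁻¹ (app k v) = φ' ⬝ᵥ v := by
    rw [← hkφ, vecMul_vecMul]
    show φ ⬝ᵥ app g⁻¹ (app k v) = _
    rw [← app_mul]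
    exact (dotProduct_mulVec _ _ _)
  rw [_root_.mul_inv_rev, inv_inv, app_mul, app_mul, app_mul, app_mul, app_tv, app_tv, app_add, app_smul,
    app_add, app_smul, app_inv', app_inv, hg, hv]
  congr 2
  conv_lhs => rw [← hk, app_inv]

theorem exists_tv_of_isTransvection {t : SpecialLinearGroup (Fin n) F}
    (ht : Cfsg.IsTransvection (t : Matrix (Fin n) (Fin n) F)) :
    ∃ (a φ : Fin n → F) (h : φ ⬝ᵥ a = 0), a ≠ 0 ∧ φ ≠ 0 ∧ t = tv a φ h := by
  obtain ⟨hr, hsq⟩ := ht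
  set N := (t : Matrix (Fin n) (Fin n) F) - 1
  rw [Matrix.rank_eq_finrank_span_cols] at hr
  obtain ⟨a, ha0, hspan⟩ := finrank_eq_one_iff'.1 hr
  have hcol : ∀ j, ∃ c : F, c • (a : Fin n → F) = fun i => N i j := fun j => by
    obtain ⟨c, hc⟩ := hspan ⟨fun i => N i j, Submodule.subset_span ⟨j, rfl⟩⟩
    exact ⟨c, congrArg Subtype.val hc⟩
  choose φ hφ using hcol
  have ha : (a : Fin n → F) ≠ 0 := fun h => ha0 (Subtype.ext h)
  have hN : ∀ v, N *ᵥ v = (φ ⬝ᵥ v) • (a : Fin n → F) := fun v => funext fun i => by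
    rw [Pi.smul_apply, smul_eq_mul, mulVec, dotProduct, dotProduct, Finset.sum_mul]
    refine Finset.sum_congr rfl fun j _ => ?_
    have h := congrFun (hφ j) i
    simp only [Pi.smul_apply, smul_eq_mul] at h
    rw [← h]; ring
  have hφ0 : φ ≠ 0 := by
    intro h0
    obtain ⟨i, hi⟩ := Function.ne_iff.1 ha
    have hN0 : N = 0 := Matrix.ext_of_mulVec_single fun j => by
      rw [hN, h0, zero_dotProduct, zero_smul, zero_mulVec]
    refine ha ?_
    have hmem := a.2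
    simp only [hN0] at hmem
    exact (Submodule.mem_bot F).1 (Submodule.span_le.2 (fun x hx => by
      obtain ⟨j, rfl⟩ := hx; exact (Submodule.mem_bot F).2 rfl) hmem)
  have ha2 : φ ⬝ᵥ (a : Fin n → F) = 0 := by
    obtain ⟨j, hj⟩ := Function.ne_iff.1 hφ0
    have h1 : (N * N) *ᵥ Pi.single j 1 = 0 := by rw [hsq, zero_mulVec]
    rw [← mulVec_mulVec, hN, hN, dotProduct_smul, dotProduct_single, mul_one, smul_eq_zero,
      smul_eq_mul, mul_eq_zero] at h1
    exact (h1.resolve_right ha).resolve_left hj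
  refine ⟨a, φ, ha2, ha, hφ0, ext_app fun v => ?_⟩
  rw [app_tv, ← hN]
  show _ = v + ((t : Matrix (Fin n) (Fin n) F) - 1) *ᵥ v
  rw [sub_mulVec, one_mulVec, add_sub_cancel]
  rfl

end CfsgLib.Classical.MinIndex
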