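import Cfsg.Agent.Lib.Classical.UnitaryMax
import Cfsg.Agent.Lib.Classical.SubspaceStab
import Cfsg.Agent.Lib.Classical.Forms
import Cfsg.Agent.Lib.AutPSL.Classes

set_option autoImplicit false

/-!
The similarity group of a unitary form is maximal in the special linear group.
-/

namespace CfsgLib.Classical.HermSim

open Matrix Cfsg
open scoped MatrixGroups
open CfsgLib.Classical.MinIndex (app app_one app_mul app_inv app_inv' app_add app_smul ext_app tv app_tv centres eq_top_of_centres mem_specialLinear)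
open CfsgLib.ClassicalAut (Unitary.Conj Unitary.space Unitary.exists_conj Unitary.herm_apply)
open CfsgLib.Classical.Herm (h_add_left h_add_right h_sub_left h_sub_right h_smul_left h_smul_right h_zero_left h_zero_right h_eq_zero_symm h_ne_zero_symm bar_self h_nondeg h_swap orth Nondeg exists_orth_one exists_split isCompl_orth nondeg_orth finrank_orth exists_repr exists_aniso_perp exists_scaled exists_move_norm exists_skew exists_T sub_mem_iso_span exists_siegel gen gen_fix mem_orth_orth exists_isotropic_ne)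

variable {F : Type*} [Field F] [Finite F] {q : ℕ} (K : Unitary.Conj F q) {n : ℕ}

local notation "H" => hermForm n F q
local notation "L" => Matrix.SpecialLinearGroup (Fin n) F

/-- `g` is the transvection `x ↦ x + H(x,u) w`. -/
def IsTr (q : ℕ) (g : L) (w u : Fin n → F) : Prop :=
  ∀ x, app g x = x + hermForm n F q x u • w

/-- The similarities. -/
def sim (q : ℕ) : Set L :=
  {g | ∃ c : Fˣ, ∀ x y, hermForm n F q (app g x) (app g y) = (c : F) * hermForm n F q x y}

omit [Finite F] in
theorem coe_mem_sim (g : SU n F q) : (g : L) ∈ sim (n := n) q :=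
  ⟨1, fun x y => by rw [Units.val_one, one_mul]; exact g.2 x y⟩

include K

theorem exists_isTr {w u : Fin n → F} (h : H w u = 0) : ∃ g : L, IsTr q g w u := by
  let φ : Fin n → F := fun j => K.bar (u j)
  have hφ : ∀ x, φ ⬝ᵥ x = H x u := fun x => by
    rw [Unitary.herm_apply K, dotProduct]
    exact Finset.sum_congr rfl fun i _ => mul_comm _ _
  exact ⟨tv w φ (by rw [hφ, h]), fun x => by rw [app_tv, hφ]⟩

theorem isTr_conj {g t : L} (hg : ∀ x y, H (app g x) (app g y) = H x y) {w u : Fin n → F}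
    (ht : IsTr q t w u) : IsTr q (g * t * g⁻¹) (app g w) (app g u) := fun x => by
  rw [app_mul, app_mul, ht, app_add, app_smul, app_inv']
  congr 2
  conv_rhs => rw [← app_inv' g x, hg]

theorem isTr_mul {t t' : L} {a u u' : Fin n → F} (ht : IsTr q t a u) (ht' : IsTr q t' a u')
    (hau : H a u = 0) : IsTr q (t * t') a (u + u') := fun x => by
  rw [app_mul, ht', ht, h_add_left K, h_smul_left K, hau, mul_zero, add_zero, h_add_right K]
  module

theorem span_single_nondeg {z : Fin n → F} (hz : H z z ≠ 0) :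
    Nondeg (q := q) (Submodule.span F {z}) := by
  intro x hx hx0
  obtain ⟨c, rfl⟩ := Submodule.mem_span_singleton.1 hx
  refine ⟨z, Submodule.mem_span_singleton_self z, ?_⟩
  rw [h_smul_left K]
  exact mul_ne_zero (fun e : c = 0 => hx0 (by rw [e, zero_smul])) hz

theorem top_nondeg : Nondeg (q := q) (⊤ : Submodule F (Fin n → F)) := by
  intro x _ hx
  by_contra hc
  push Not at hc
  exact hx (h_nondeg K fun y => hc y Submodule.mem_top)

/-- An anisotropic vector of `U` orthogonal to two given ones, given one vector orthogonal to both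
outside their span. -/
theorem exists_aniso_perp' {U : Submodule F (Fin n → F)} (hU : Nondeg (q := q) U)
    {b b' : Fin n → F} (hb : b ∈ U) (hb' : b' ∈ U) {x : Fin n → F}
    (hx : x ∈ U ⊓ orth K (Submodule.span F (Set.range ![b, b'])))
    (hxQ : x ∉ Submodule.span F (Set.range ![b, b'])) :
    ∃ p ∈ U, H p b = 0 ∧ H p b' = 0 ∧ H p p ≠ 0 := by
  set Q := Submodule.span F (Set.range ![b, b']) with hQ
  set P := U ⊓ orth K Q with hP
  have hb0 : ∀ p ∈ P, H p b = 0 ∧ H p b' = 0 := fun p hp =>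
    ⟨h_eq_zero_symm K (hp.2 b (Submodule.subset_span ⟨0, rfl⟩)),
      h_eq_zero_symm K (hp.2 b' (Submodule.subset_span ⟨1, rfl⟩))⟩
  by_cases hxx : H x x = 0
  swap
  · exact ⟨x, hx.1, (hb0 x hx).1, (hb0 x hx).2, hxx⟩
  have hQU : Q ≤ U := by
    rw [hQ, Submodule.span_le]
    rintro _ ⟨i, rfl⟩
    fin_cases i <;> assumption
  obtain ⟨z, hz, hzQ, hzx⟩ := Herm.exists_prescribed K hU hQU hx.1 hxQ
  have hzb := hzQ b (Submodule.subset_span ⟨0, rfl⟩)
  have hzb' := hzQ b' (Submodule.subset_span ⟨1, rfl⟩)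
  by_cases hzz : H z z = 0
  swap
  · exact ⟨z, hz, hzb, hzb', hzz⟩
  obtain ⟨y, hy⟩ := K.exists_trace
  refine ⟨z + y • x, U.add_mem hz (U.smul_mem _ hx.1), ?_, ?_, ?_⟩
  · rw [h_add_left K, h_smul_left K, hzb, (hb0 x hx).1, mul_zero, add_zero]
  · rw [h_add_left K, h_smul_left K, hzb', (hb0 x hx).2, mul_zero, add_zero]
  · have hxz : H x z = 1 := by rw [h_swap K z x, hzx, map_one]
    simp only [h_add_left K, h_add_right K, h_smul_left K, h_smul_right K, hzz, hxx, hzx, hxz,
      mul_one, mul_zero, zero_add, add_zero]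
    rwa [add_comm] at hy

/-- The span lemma in dimension four. -/
theorem sub_mem_iso_span' {U : Submodule F (Fin n → F)} (hU : Nondeg (q := q) U)
    (hd : 4 ≤ Module.finrank F U) {P : Submodule F (Fin n → F)}
    (h : ∀ v ∈ U, H v v = 0 → v ∈ P) : U ≤ P := by
  intro x hx
  by_cases hxx : H x x = 0
  · exact h x hx hxx
  obtain ⟨p, hp, hpx, -, hpp⟩ : ∃ p ∈ U, H p x = 0 ∧ H p x = 0 ∧ H p p ≠ 0 := by
    have hd' := Herm.finrank_inf_orth_le K U 2 ![x, x]
    obtain ⟨z, hz, hz0⟩ := Submodule.exists_mem_ne_zero_of_ne_bot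
      (p := U ⊓ orth K (Submodule.span F (Set.range ![x, x]))) fun e => by
        rw [e, finrank_bot] at hd'; omega
    refine exists_aniso_perp' K hU hx hx hz fun hzQ => hz0 ?_
    have hzQ' : z ∈ Submodule.span F {x} := by simpa using hzQ
    obtain ⟨c, rfl⟩ := Submodule.mem_span_singleton.1 hzQ'
    have h1 := hz.2 x (Submodule.subset_span ⟨0, rfl⟩)
    rw [h_smul_right K, mul_eq_zero] at h1
    rw [(map_eq_zero K.bar).1 (h1.resolve_right hxx), zero_smul]
  obtain ⟨t, ht, htt⟩ := exists_scaled K hp hpp (s := -(H x x)) (by rw [map_neg, bar_self K])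
  have hxy : H x (t • p) = 0 := by rw [h_smul_right K, h_eq_zero_symm K hpx, mul_zero]
  have iso : ∀ ζ : F, ζ * K.bar ζ = 1 → x + ζ • (t • p) ∈ P := fun ζ hζ => by
    refine h _ (U.add_mem hx (U.smul_mem _ ht)) ?_
    simp only [h_add_left K, h_add_right K, h_smul_left K ζ, h_smul_right K ζ, htt, hxy,
      h_eq_zero_symm K hxy, mul_zero, add_zero, zero_add]
    linear_combination -(H x x) * hζ
  obtain ⟨⟨ζ, hζ⟩, hζ1⟩ : ∃ z : {a : F // a * K.bar a = 1}, z ≠ ⟨1, by simp⟩ := by
    have : Nontrivial {a : F // a * K.bar a = 1} :=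
      (Finite.one_lt_card_iff_nontrivial).1 (by rw [Herm.card_norm_one K]; have := K.two_le; omega)
    exact exists_ne _
  have h1 := iso 1 (by simp)
  have h2 := iso ζ hζ
  have hne : 1 - ζ ≠ 0 := fun e => hζ1 (Subtype.ext (sub_eq_zero.1 e).symm)
  have hy : t • p ∈ P := by
    have h3 := P.smul_mem (1 - ζ)⁻¹ (P.sub_mem h1 h2)
    rwa [one_smul, add_sub_add_left_eq_sub,
      show (t • p : Fin n → F) - ζ • (t • p) = (1 - ζ) • (t • p) by rw [sub_smul, one_smul], smul_smul,
      inv_mul_cancel₀ hne, one_smul] at h3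
  rw [one_smul] at h1
  simpa using P.sub_mem h1 hy

/-- The transvections of `U` are transitive on its non-zero isotropic vectors. -/
theorem exists_move_iso {U : Submodule F (Fin n → F)} (hU : Nondeg (q := q) U)
    (hd : 4 ≤ Module.finrank F U) {b b' : Fin n → F} (hb : b ∈ U) (hb' : b' ∈ U) (h0 : b ≠ 0)
    (h0' : b' ≠ 0) (hn : H b b = 0) (hn' : H b' b' = 0) : ∃ g ∈ gen K U, app (g : L) b = b' := by
  obtain ⟨θ, hθ0, hθ⟩ := exists_skew K
  have indep : ∀ b b' : Fin n → F, b ∈ U → b' ∈ U → H b b = 0 → H b' b' = 0 →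
      b ∉ Submodule.span F {b'} → b' ∉ Submodule.span F {b} →
      ∃ g ∈ gen K U, app (g : L) b = b' := by
    intro b b' hb hb' hn hn' hi hi'
    obtain ⟨z₁, hz₁, h1, h1'⟩ := Herm.exists_prescribed K hU
      ((Submodule.span_singleton_le_iff_mem _ _).2 hb') hb hi
    obtain ⟨z₂, hz₂, h2, h2'⟩ := Herm.exists_prescribed K hU
      ((Submodule.span_singleton_le_iff_mem _ _).2 hb) hb' hi'
    replace h1 := h1 b' (Submodule.mem_span_singleton_self b')
    replace h2 := h2 b (Submodule.mem_span_singleton_self b)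
    set z₀ := θ • z₁ + θ • z₂
    have hz₀ : z₀ ∈ U := U.add_mem (U.smul_mem _ hz₁) (U.smul_mem _ hz₂)
    have hzb0 : H z₀ b = θ := by
      simp only [z₀, h_add_left K, h_smul_left K, h1', h2]; ring
    have hzb0' : H z₀ b' = θ := by
      simp only [z₀, h_add_left K, h_smul_left K, h1, h2']; ring
    obtain ⟨z, hz, hzz, hzb, hzb'⟩ : ∃ z ∈ U, H z z = 0 ∧ H z b = θ ∧ H z b' = θ := by
      by_cases hbb : H b b' = 0
      · obtain ⟨y, hy⟩ : ∃ y : F, y + K.bar y = 1 := by
          obtain ⟨y, hy⟩ := K.exists_trace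
          refine ⟨y / (y + K.bar y), ?_⟩
          rw [map_div₀, map_add, K.bar_bar, add_comm (K.bar y) y, ← add_div, div_self hy]
        refine ⟨z₀ + (y * H z₀ z₀ / θ) • b, U.add_mem hz₀ (U.smul_mem _ hb), ?_, ?_, ?_⟩
        · have hbz0 : H b z₀ = K.bar θ := by rw [h_swap K z₀ b, hzb0]
          simp only [h_add_left K, h_add_right K, h_smul_left K, h_smul_right K, hn, hzb0, hbz0,
            mul_zero, add_zero]
          have hbar : K.bar (H z₀ z₀) = H z₀ z₀ := bar_self K z₀
          have hbθ : K.bar θ = -θ := eq_neg_of_add_eq_zero_right hθ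
          simp only [map_div₀, map_mul, hbar, hbθ]
          field_simp
          linear_combination (-H z₀ z₀) * hy
        · rw [h_add_left K, h_smul_left K, hn, mul_zero, add_zero, hzb0]
        · rw [h_add_left K, h_smul_left K, hbb, mul_zero, add_zero, hzb0']
      · have hd' := Herm.finrank_inf_orth_le K U 2 ![b, b']
        obtain ⟨x, hx, hx0⟩ := Submodule.exists_mem_ne_zero_of_ne_bot
          (p := U ⊓ orth K (Submodule.span F (Set.range ![b, b']))) fun e => by
            rw [e, finrank_bot] at hd'; omega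
        obtain ⟨p, hp, hpb, hpb', hpp⟩ := exists_aniso_perp' K hU hb hb' hx fun hxQ => hx0 (by
          have hxQ' : x ∈ Submodule.span F {b, b'} := by
            rwa [show Set.range ![b, b'] = {b, b'} by simp [Set.pair_comm]] at hxQ
          obtain ⟨α, β, rfl⟩ := Submodule.mem_span_pair.1 hxQ'
          have e1 := hx.2 b (Submodule.subset_span ⟨0, rfl⟩)
          have e2 := hx.2 b' (Submodule.subset_span ⟨1, rfl⟩)
          rw [h_add_right K, h_smul_right K, h_smul_right K] at e1 e2
          rw [hn, mul_zero, zero_add, mul_eq_zero] at e1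
          rw [hn', mul_zero, add_zero, mul_eq_zero] at e2
          rw [(map_eq_zero K.bar).1 (e1.resolve_right hbb),
            (map_eq_zero K.bar).1 (e2.resolve_right (h_ne_zero_symm K hbb)), zero_smul, zero_smul,
            add_zero])
        set z₃ := z₀ - (H z₀ p / H p p) • p
        have hz₃p : H z₃ p = 0 := by
          rw [h_sub_left K, h_smul_left K, div_mul_cancel₀ _ hpp, sub_self]
        obtain ⟨t, ht, htt⟩ := exists_scaled K hp hpp (s := -(H z₃ z₃))
          (by rw [map_neg, bar_self K])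
        refine ⟨z₃ + t • p, U.add_mem (U.sub_mem hz₀ (U.smul_mem _ hp)) ht, ?_, ?_, ?_⟩
        · rw [h_add_left K, h_add_right K, h_add_right K, htt, h_smul_right K, hz₃p, mul_zero,
            h_smul_left K, h_eq_zero_symm K hz₃p, mul_zero]
          ring
        · simp only [z₃, h_add_left K, h_sub_left K, h_smul_left K, hpb, hzb0, mul_zero, add_zero,
            sub_zero]
        · simp only [z₃, h_add_left K, h_sub_left K, h_smul_left K, hpb', hzb0', mul_zero, add_zero,
            sub_zero]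
    have hbz : H b z = -θ := by
      rw [h_swap K z b, hzb]; exact eq_neg_of_add_eq_zero_right hθ
    obtain ⟨g, hg, hgb⟩ := Herm.exists_step_norm K (U := U) hb hz hn hzz
      (by rw [hbz, sub_zero]; exact neg_ne_zero.2 hθ0)
      (by rw [hbz, sub_zero, map_neg]; linear_combination (-1 : F) * hθ)
    obtain ⟨g', hg', hgz⟩ := Herm.exists_step_norm K (U := U) hz hb' hzz hn'
      (by rw [hzb', sub_zero]; exact hθ0) (by rw [hzb', sub_zero]; exact hθ)
    refine ⟨g' * g, mul_mem hg' hg, ?_⟩
    show app ((g' : L) * (g : L)) b = b'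
    rw [app_mul]
    exact (congrArg (app (g' : L)) hgb).trans hgz
  have swap : ∀ x y : Fin n → F, x ≠ 0 → y ∉ Submodule.span F {x} → x ∉ Submodule.span F {y} :=
    fun x y hx hy h => hy <| by
      obtain ⟨e, he⟩ := Submodule.mem_span_singleton.1 h
      have he0 : e ≠ 0 := fun e0 => hx (by rw [← he, e0, zero_smul])
      exact Submodule.mem_span_singleton.2
        ⟨e⁻¹, by rw [← he, smul_smul, inv_mul_cancel₀ he0, one_smul]⟩
  by_cases hi : b' ∈ Submodule.span F {b}
  swap
  · exact indep b b' hb hb' hn hn' (swap b b' h0 hi) hi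
  obtain ⟨c, rfl⟩ := Submodule.mem_span_singleton.1 hi
  obtain ⟨y, -, hby⟩ := hU b hb h0
  obtain ⟨z, hz, hz0, hzz⟩ := exists_isotropic_ne K
    (P := U ⊓ orth K (Submodule.span F (Set.range ![y]))) (by
      have := Herm.finrank_inf_orth_le K U 1 ![y]
      omega)
  have hzi : z ∉ Submodule.span F {b} := fun h => by
    obtain ⟨e, rfl⟩ := Submodule.mem_span_singleton.1 h
    have h1 := h_eq_zero_symm K (hz.2 y (Submodule.subset_span ⟨0, rfl⟩))
    rw [h_smul_left K] at h1
    exact hz0 (by rw [(mul_eq_zero.1 h1).resolve_right hby, zero_smul])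
  have hc : c ≠ 0 := fun e => h0' (by rw [e, zero_smul])
  have hzi' : z ∉ Submodule.span F {c • b} := by
    rwa [Submodule.span_singleton_smul_eq (IsUnit.mk0 c hc)]
  obtain ⟨g, hg, hgb⟩ := indep b z hb hz.1 hn hzz (swap b z h0 hzi) hzi
  obtain ⟨g', hg', hgz⟩ := indep z (c • b) hz.1 hb' hzz hn' hzi' (swap _ z h0' hzi')
  refine ⟨g' * g, mul_mem hg' hg, ?_⟩
  show app ((g' : L) * (g : L)) b = c • b
  rw [app_mul]
  exact (congrArg (app (g' : L)) hgb).trans hgz

/-- An isotropic vector orthogonal to `u` but not to `w`. -/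
theorem exists_iso_sep (hn : 6 ≤ n) {u w : Fin n → F} (hw : w ∉ Submodule.span F {u}) :
    ∃ v, H v v = 0 ∧ H v u = 0 ∧ H w v ≠ 0 := by
  obtain ⟨z, hz, hwz⟩ := exists_orth_one K hw
  have hzu : H z u = 0 := h_eq_zero_symm K (hz u (Submodule.mem_span_singleton_self u))
  by_cases hzz : H z z = 0
  · exact ⟨z, hzz, hzu, by rw [hwz]; exact one_ne_zero⟩
  have hU : Nondeg (q := q) (orth K (Submodule.span F {z})) := nondeg_orth K (span_single_nondeg K hzz)
  have hd : 5 ≤ Module.finrank F (orth K (Submodule.span F {z})) := by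
    have := finrank_orth K (span_single_nondeg K hzz)
    rw [finrank_span_singleton (fun e => hzz (by rw [e, h_zero_left K]))] at this
    omega
  have mem : ∀ y, H z y = 0 → y ∈ orth K (Submodule.span F {z}) := fun y hy a ha => by
    obtain ⟨c, rfl⟩ := Submodule.mem_span_singleton.1 ha
    rw [h_smul_left K, hy, mul_zero]
  set w' := w - (H w z / H z z) • z
  obtain ⟨p, hp, hpu, hpw, hpp⟩ := exists_aniso_perp K hU hd (mem u hzu)
    (mem w' (h_eq_zero_symm K (by rw [h_sub_left K, h_smul_left K, div_mul_cancel₀ _ hzz, sub_self])))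
  obtain ⟨t, ht, htt⟩ := exists_scaled K hp hpp (s := -(H z z)) (by rw [map_neg, bar_self K])
  have hzp : H z (t • p) = 0 := ht z (Submodule.mem_span_singleton_self z)
  refine ⟨z + t • p, ?_, ?_, ?_⟩
  · rw [h_add_left K, h_add_right K, h_add_right K, htt, hzp, h_eq_zero_symm K hzp]; ring
  · rw [h_add_left K, h_smul_left K, hzu, hpu, mul_zero, add_zero]
  · have hwp : H w (t • p) = 0 := by
      have e : H w p = 0 := by
        have h1 := h_eq_zero_symm K hpw
        rw [h_sub_left K, h_smul_left K, hp z (Submodule.mem_span_singleton_self z), mul_zero,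
          sub_zero] at h1
        exact h1
      rw [h_smul_right K, e, mul_zero]
    rw [h_add_right K, hwp, hwz, add_zero]
    exact one_ne_zero

/-- A pair moved out of the unitary transvections. -/
theorem exists_pair (hn : 6 ≤ n) {M : Subgroup L} (hM : (sim (n := n) q : Set L) ⊆ M) {g : L} (hg : g ∈ M)
    (hgs : g ∉ sim (n := n) q) :
    ∃ w u, w ≠ 0 ∧ H w u = 0 ∧ u ∉ Submodule.span F {w} ∧ ∃ t ∈ M, IsTr q t w u := by
  have hU : ∀ w, ∃ u, ∀ x, H x u = H (app g⁻¹ x) (app g⁻¹ w) := fun w => exists_repr K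
    { toFun := fun x => H (app g⁻¹ x) (app g⁻¹ w)
      map_add' := fun a b => by rw [app_add, h_add_left K]
      map_smul' := fun c a => by rw [app_smul, h_smul_left K]; rfl }
  choose U hU using hU
  by_cases hw : ∀ w, H (app g⁻¹ w) (app g⁻¹ w) = 0 → U w ∈ Submodule.span F {w}
  · exfalso
    have app0 : app g⁻¹ (0 : Fin n → F) = 0 := mulVec_zero _
    have inj : ∀ {x}, app g⁻¹ x = 0 → x = 0 := fun {x} h => by
      rw [← app_inv' g x, h]; exact mulVec_zero _
    have uniq : ∀ a b, (∀ x, H x a = H x b) → a = b := fun a b h =>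
      sub_eq_zero.1 (h_nondeg K fun y => h_eq_zero_symm K (by rw [h_sub_right K, h y, sub_self]))
    let T : (Fin n → F) →ₗ[F] (Fin n → F) :=
      { toFun := U
        map_add' := fun a b => uniq _ _ fun x => by
          rw [h_add_right K, hU, hU, hU, app_add, h_add_right K]
        map_smul' := fun c a => uniq _ _ fun x => by
          rw [RingHom.id_apply, h_smul_right K, hU, hU, app_smul, h_smul_right K] }
    have hT : ∀ w, T w = U w := fun _ => rfl
    have heig : ∀ w, H (app g⁻¹ w) (app g⁻¹ w) = 0 → ∃ κ : F, T w = κ • w := fun w h => by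
      obtain ⟨κ, hκ⟩ := Submodule.mem_span_singleton.1 (hw w h)
      exact ⟨κ, (hT w).trans hκ.symm⟩
    have horth : ∀ (a b : Fin n → F) (κ κ' : F), H (app g⁻¹ a) (app g⁻¹ a) = 0 → H (app g⁻¹ b) (app g⁻¹ b) = 0 →
        H (app g⁻¹ a) (app g⁻¹ b) = 0 → LinearIndependent F ![a, b] →
        T a = κ • a → T b = κ' • b → κ = κ' := by
      intro a b κ κ' ha hb hab hli h1 h2
      obtain ⟨κ'', h3⟩ := heig (a + b) (by
        rw [app_add, h_add_left K, h_add_right K, h_add_right K, ha, hb, hab, h_eq_zero_symm K hab]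
        simp)
      rw [map_add, h1, h2, smul_add] at h3
      have h4 := LinearIndependent.pair_iff.1 hli (κ - κ'') (κ' - κ'') (by
        rw [sub_smul, sub_smul, sub_add_sub_comm, h3, sub_self])
      exact (sub_eq_zero.1 h4.1).trans (sub_eq_zero.1 h4.2).symm
    obtain ⟨a₀, ha₀', ha₀0, ha₀⟩ := exists_isotropic_ne K (P := (⊤ : Submodule F (Fin n → F)))
      (by rw [finrank_top, Module.finrank_fin_fun]; omega)
    have hb₀ : H (app g⁻¹ (app g a₀)) (app g⁻¹ (app g a₀)) = 0 := by rw [app_inv]; exact ha₀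
    obtain ⟨κ, hκ⟩ := heig _ hb₀
    have hall : ∀ v, H v v = 0 → app g v ∈ LinearMap.ker (T - κ • LinearMap.id) := by
      intro v hv
      rw [LinearMap.mem_ker, LinearMap.sub_apply, LinearMap.smul_apply, LinearMap.id_apply, sub_eq_zero]
      by_cases hvs : v ∈ Submodule.span F {a₀}
      · obtain ⟨c, rfl⟩ := Submodule.mem_span_singleton.1 hvs
        rw [app_smul, map_smul, hκ, smul_comm]
      have hv' : H (app g⁻¹ (app g v)) (app g⁻¹ (app g v)) = 0 := by rw [app_inv]; exact hv
      obtain ⟨κ', hκ'⟩ := heig _ hv'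
      -- a third vector orthogonal to both, outside their span
      set S := Submodule.span F (Set.range ![a₀, v])
      set P := (⊤ : Submodule F (Fin n → F)) ⊓ orth K S
      obtain ⟨c, hc, hcS⟩ : ∃ c, (c ∈ P ∧ H c c = 0) ∧ c ∉ S := by
        have hP : n ≤ Module.finrank F P + 2 := by
          have := Herm.finrank_inf_orth_le K (⊤ : Submodule F (Fin n → F)) 2 ![a₀, v]
          rwa [finrank_top, Module.finrank_fin_fun] at this
        obtain ⟨C, hC⟩ := S.exists_isCompl
        have hC2 : 2 ≤ Module.finrank F (P ⊓ C : Submodule F (Fin n → F)) := by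
          have h1 := Submodule.finrank_add_eq_of_isCompl hC
          have h2 : Module.finrank F S ≤ 2 :=
            (finrank_range_le_card (R := F) ![a₀, v]).trans_eq (Fintype.card_fin 2)
          have h3 := Submodule.finrank_sup_add_finrank_inf_eq P C
          have h4 := Submodule.finrank_le (P ⊔ C)
          rw [Module.finrank_fin_fun] at h1 h4
          omega
        obtain ⟨c, hc, hc0, hcc⟩ := exists_isotropic_ne K hC2
        exact ⟨c, ⟨hc.1, hcc⟩, fun h => hc0 ((Submodule.eq_bot_iff _).1 hC.inf_eq_bot c ⟨h, hc.2⟩)⟩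
      have hc' : H (app g⁻¹ (app g c)) (app g⁻¹ (app g c)) = 0 := by rw [app_inv]; exact hc.2
      obtain ⟨κ'', hκ''⟩ := heig _ hc'
      have li : ∀ x : Fin n → F, x ≠ 0 → x ∈ S → LinearIndependent F ![app g x, app g c] := by
        intro x hx0 hx
        refine LinearIndependent.pair_iff.2 fun s t hst => ?_
        rw [← app_smul, ← app_smul, ← app_add] at hst
        have h0 : s • x + t • c = 0 := by
          rw [← app_inv g (s • x + t • c), hst]; exact mulVec_zero _
        by_cases ht : t = 0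
        · rw [ht, zero_smul, add_zero] at h0
          exact ⟨(smul_eq_zero.1 h0).resolve_right hx0, ht⟩
        · refine absurd ?_ hcS
          have e : c = (-(t⁻¹ * s)) • x := by
            rw [neg_smul, ← smul_smul, eq_neg_iff_add_eq_zero]
            calc c + t⁻¹ • s • x = t⁻¹ • (s • x + t • c) := by
                  rw [smul_add t⁻¹, smul_smul t⁻¹ t, inv_mul_cancel₀ ht, one_smul, add_comm]
              _ = 0 := by rw [h0, smul_zero]
          rw [e]; exact S.smul_mem _ hx
      have hv0 : v ≠ 0 := fun e => hvs (e ▸ zero_mem _)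
      have hac : H a₀ c = 0 := hc.1.2 a₀ (Submodule.subset_span ⟨0, rfl⟩)
      have hvc : H v c = 0 := hc.1.2 v (Submodule.subset_span ⟨1, rfl⟩)
      have e1 := horth _ _ κ κ'' hb₀ hc' (by rw [app_inv, app_inv]; exact hac)
        (li a₀ ha₀0 (Submodule.subset_span ⟨0, rfl⟩)) hκ hκ''
      have e2 := horth _ _ κ' κ'' hv' hc' (by rw [app_inv, app_inv]; exact hvc)
        (li v hv0 (Submodule.subset_span ⟨1, rfl⟩)) hκ' hκ''
      rw [hκ', e2, ← e1]
    let gl : (Fin n → F) →ₗ[F] (Fin n → F) :=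
      { toFun := app g, map_add' := app_add g, map_smul' := app_smul g }
    have hker : ∀ v, app g v ∈ LinearMap.ker (T - κ • LinearMap.id) := fun v =>
      sub_mem_iso_span K (top_nondeg K) (by rw [finrank_top, Module.finrank_fin_fun]; omega)
        (P := (LinearMap.ker (T - κ • LinearMap.id)).comap gl) (fun v _ h => hall v h)
        (Submodule.mem_top (x := v))
    have hform : ∀ x y, H (app g⁻¹ x) (app g⁻¹ y) = K.bar κ * H x y := fun x y => by
      have h := hker (app g⁻¹ y)
      rw [app_inv', LinearMap.mem_ker, LinearMap.sub_apply, LinearMap.smul_apply, LinearMap.id_apply,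
        sub_eq_zero, hT] at h
      rw [← hU, h, h_smul_right K]
    have hκ0 : K.bar κ ≠ 0 := fun e => by
      refine ha₀0 (h_nondeg K fun y => ?_)
      rw [← app_inv g a₀, ← app_inv g y, hform, e, zero_mul]
    refine hgs ⟨(Units.mk0 _ hκ0)⁻¹, fun x y => ?_⟩
    have := hform (app g x) (app g y)
    rw [app_inv, app_inv] at this
    rw [Units.val_inv_eq_inv_val, Units.val_mk0, this, ← mul_assoc, inv_mul_cancel₀ hκ0, one_mul]
  push Not at hw
  obtain ⟨w, hw0, hwU⟩ := hw
  obtain ⟨θ, hθ0, hθ⟩ := exists_skew K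
  obtain ⟨t, ht⟩ := exists_T K hw0 hθ
  refine ⟨w, K.bar θ • U w, fun e => hwU ?_, ?_, fun h => hwU ?_, g * (t : L) * g⁻¹,
    M.mul_mem (M.mul_mem hg (hM (coe_mem_sim t))) (M.inv_mem hg), fun x => ?_⟩
  · have : U w = 0 := h_nondeg K fun y => h_eq_zero_symm K (by
      rw [hU, e, show app g⁻¹ (0 : Fin n → F) = 0 from mulVec_zero _, h_zero_right K])
    rw [this]; exact zero_mem _
  · rw [h_smul_right K, hU, hw0, mul_zero]
  · have hb : K.bar θ ≠ 0 := (map_ne_zero K.bar).2 hθ0
    have := Submodule.smul_mem _ (K.bar θ)⁻¹ h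
    rwa [smul_smul, inv_mul_cancel₀ hb, one_smul] at this
  · have ht' : app (t : L) (app g⁻¹ x) = app g⁻¹ x + (θ * H (app g⁻¹ x) (app g⁻¹ w)) • app g⁻¹ w :=
      ht.2.2 _
    rw [app_mul, app_mul, ht', app_add, app_smul, app_inv', app_inv', h_smul_right K, hU, K.bar_bar]

theorem sim_le_or_top (hn : 6 ≤ n) (M : Subgroup L) (hM : (sim (n := n) q : Set L) ⊆ M) :
    M = ⊤ ∨ (M : Set L) ⊆ sim (n := n) q := by
  by_cases hR : (M : Set L) ⊆ sim (n := n) q
  · exact Or.inr hR
  left
  obtain ⟨g, hg, hgs⟩ := Set.not_subset.1 hR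
  obtain ⟨w, u, hw0, hwu, hui, t, ht, htw⟩ := exists_pair K hn hM hg hgs
  have hu0 : u ≠ 0 := fun e => hui (e ▸ zero_mem _)
  -- an isotropic centre
  obtain ⟨a, u', ha0, haa, hau, hai, t', ht', htu⟩ : ∃ a u', a ≠ 0 ∧ H a a = 0 ∧ H a u' = 0 ∧
      u' ∉ Submodule.span F {a} ∧ ∃ t' ∈ M, IsTr q t' a u' := by
    by_cases hww : H w w = 0
    · exact ⟨w, u, hw0, hww, hwu, hui, t, ht, htw⟩
    obtain ⟨v, hvv, hvu, hwv⟩ := exists_iso_sep K hn (u := u) (w := w) (fun h => by
      obtain ⟨c, hc⟩ := Submodule.mem_span_singleton.1 h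
      refine hui (Submodule.mem_span_singleton.2 ⟨c⁻¹, ?_⟩)
      have hc0 : c ≠ 0 := fun e => hww (by rw [← hc, e, zero_smul, h_zero_left K])
      rw [← hc, smul_smul, inv_mul_cancel₀ hc0, one_smul])
    obtain ⟨θ, hθ0, hθ⟩ := exists_skew K
    obtain ⟨s, hs⟩ := exists_T K hvv hθ
    have hs' : ∀ x, app (s : L) x = x + (θ * H x v) • v := hs.2.2
    refine ⟨v, K.bar (-(θ * H w v)) • u, fun e => hwv (by rw [e, h_zero_right K]), hvv, ?_, ?_, t * (s : L) * t⁻¹ * (s : L)⁻¹,
      M.mul_mem (M.mul_mem (M.mul_mem ht (hM (coe_mem_sim s))) (M.inv_mem ht))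
        (M.inv_mem (hM (coe_mem_sim s))), fun x => ?_⟩
    · rw [h_smul_right K, hvu, mul_zero]
    · intro h
      obtain ⟨c, hc⟩ := Submodule.mem_span_singleton.1 h
      have hb : K.bar (-(θ * H w v)) ≠ 0 :=
        (map_ne_zero K.bar).2 (neg_ne_zero.2 (mul_ne_zero hθ0 hwv))
      by_cases hc0 : c = 0
      · rw [hc0, zero_smul] at hc
        exact hu0 ((smul_eq_zero.1 hc.symm).resolve_left hb)
      · refine hwv ?_
        have hv : v = (c⁻¹ * K.bar (-(θ * H w v))) • u := by
          rw [← smul_smul, ← hc, smul_smul, inv_mul_cancel₀ hc0, one_smul]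
        rw [hv, h_smul_right K, hwu, mul_zero]
    · obtain ⟨y, rfl⟩ : ∃ y, x = app (s : L) (app t y) := ⟨app t⁻¹ (app (s : L)⁻¹ x),
        by rw [app_inv', app_inv']⟩
      have e1 : H v (K.bar (-(θ * H w v)) • u) = 0 := by rw [h_smul_right K, hvu, mul_zero]
      rw [app_mul (t * (s : L) * t⁻¹), app_inv, app_mul (t * (s : L)), app_inv, app_mul t, hs',
        hs' (app t y), htw y, htw]
      simp only [h_add_left K, h_smul_left K, h_smul_right K, hwu, hvu, mul_zero, add_zero,
        K.bar_bar]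
      module
  obtain ⟨a', ha', haa'⟩ := (Unitary.space (n := n) K).exists_partner haa ha0
  replace ha' : H a' a' = 0 := ha'
  replace haa' : H a a' = 1 := haa'
  have ha'a : H a' a = 1 := by rw [h_swap K a a', haa', map_one]
  set S := Submodule.span F (Set.range ![a, a']) with hSdef
  have hpair : S = Submodule.span F {a, a'} := by
    rw [hSdef]; congr 1; simp [Set.pair_comm]
  have hS : Nondeg (q := q) S := by
    intro x hx hx0
    have hx' : x ∈ Submodule.span F {a, a'} := by
      rwa [hpair] at hx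
    obtain ⟨α, β, rfl⟩ := Submodule.mem_span_pair.1 hx'
    by_cases hα : α = 0
    · refine ⟨a, Submodule.subset_span ⟨0, rfl⟩, ?_⟩
      rw [h_add_left K, h_smul_left K, h_smul_left K, haa, ha'a, mul_zero, zero_add, mul_one]
      intro hβ
      exact hx0 (by rw [hα, hβ, zero_smul, zero_smul, add_zero])
    · refine ⟨a', Submodule.subset_span ⟨1, rfl⟩, ?_⟩
      rw [h_add_left K, h_smul_left K, h_smul_left K, ha', haa', mul_zero, add_zero, mul_one]
      exact hα
  set P := orth K S
  have hP : Nondeg (q := q) P := nondeg_orth K hS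
  have hPd : 4 ≤ Module.finrank F P := by
    have := finrank_orth K hS
    have h2 : Module.finrank F S ≤ 2 :=
      (finrank_range_le_card (R := F) ![a, a']).trans_eq (Fintype.card_fin 2)
    exact (by omega : 4 ≤ Module.finrank F (orth K S))
  have hPa : ∀ p ∈ P, H a p = 0 := fun p hp => hp a (Submodule.subset_span ⟨0, rfl⟩)
  -- the functionals available at `a`
  let C : Set (Fin n → F) := {y | H a y = 0 ∧ ∃ s ∈ M, IsTr q s a y}
  have Cadd : ∀ y z, y ∈ C → z ∈ C → y + z ∈ C := fun y z ⟨hy, s, hs, hsy⟩ ⟨hz, s', hs', hsz⟩ =>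
    ⟨by rw [h_add_right K, hy, hz, add_zero], _, M.mul_mem hs hs', isTr_mul K hsy hsz hy⟩
  have Cneg : ∀ y, y ∈ C → -y ∈ C := fun y ⟨hy, s, hs, hsy⟩ => by
    refine ⟨by rw [← neg_one_smul F y, h_smul_right K, hy, mul_zero], s⁻¹, M.inv_mem hs, fun x => ?_⟩
    obtain ⟨z, rfl⟩ : ∃ z, x = app s z := ⟨app s⁻¹ x, (app_inv' s x).symm⟩
    rw [app_inv, hsy, ← neg_one_smul F y, h_smul_right K, h_add_left K, h_smul_left K, hy,
      mul_zero, add_zero, map_neg, map_one]
    module
  have Csub : ∀ y z, y ∈ C → z ∈ C → y - z ∈ C := fun y z hy hz => by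
    rw [sub_eq_add_neg]; exact Cadd y _ hy (Cneg z hz)
  have Cmove : ∀ h : SU n F q, app (h : L) a = a → ∀ y ∈ C, app (h : L) y ∈ C :=
    fun h ha y ⟨hy, s, hs, hsy⟩ => by
      refine ⟨?_, _, M.mul_mem (M.mul_mem (hM (coe_mem_sim h)) hs) (M.inv_mem (hM (coe_mem_sim h))),
        by have := isTr_conj K (g := (h : L)) h.2 hsy; rwa [ha] at this⟩
      rw [← ha]; exact (h.2 a y).trans hy
  have hu'C : u' ∈ C := ⟨hau, t', ht', htu⟩
  -- an isotropic vector of `P`
  obtain ⟨y, hy, hy0, hyy, hyC⟩ : ∃ y ∈ P, y ≠ 0 ∧ H y y = 0 ∧ y ∈ C := by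
    obtain ⟨z, hz, hu0'⟩ := exists_split K hS u'
    have hne : u' - z ≠ 0 := by
      intro e
      rw [sub_eq_zero] at e
      apply hai
      have hz' : z ∈ Submodule.span F {a, a'} := by
        rwa [hpair] at hz
      obtain ⟨α, β, hab⟩ := Submodule.mem_span_pair.1 hz'
      have : H a u' = K.bar β := by
        rw [e, ← hab, h_add_right K, h_smul_right K, h_smul_right K, haa, haa', mul_zero, zero_add,
          mul_one]
      rw [hau] at this
      have hβ : β = 0 := (map_eq_zero K.bar).1 this.symm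
      rw [e, ← hab, hβ, zero_smul, add_zero]
      exact Submodule.smul_mem _ _ (Submodule.mem_span_singleton_self a)
    obtain ⟨v, hv, hvv, hvu⟩ : ∃ v ∈ P, H v v = 0 ∧ H (u' - z) v ≠ 0 := by
      by_contra hc
      push Not at hc
      obtain ⟨x, hx, hxy⟩ := hP _ hu0' hne
      have := sub_mem_iso_span' K hP hPd (P := orth K (Submodule.span F {u' - z}))
        (fun v hv hvv b hb => by
          obtain ⟨c, rfl⟩ := Submodule.mem_span_singleton.1 hb
          rw [h_smul_left K, hc v hv hvv, mul_zero]) hx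
      exact hxy (this _ (Submodule.mem_span_singleton_self _))
    obtain ⟨θ, hθ0, hθ⟩ := exists_skew K
    obtain ⟨s, hs⟩ := exists_T K hvv hθ
    have hs' : ∀ x, app (s : L) x = x + (θ * H x v) • v := hs.2.2
    have huv : H u' v ≠ 0 := by
      rw [← add_sub_cancel z u', h_add_left K, hv z hz, zero_add]; exact hvu
    have h1 := Cmove s (by rw [hs', hPa v hv, mul_zero, zero_smul, add_zero]) u' hu'C
    have h2 := Csub _ _ h1 hu'C
    rw [hs', add_sub_cancel_left] at h2
    refine ⟨_, P.smul_mem _ hv, smul_ne_zero (mul_ne_zero hθ0 huv) fun e => hvu (by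
      rw [e, h_zero_right K]), ?_, h2⟩
    rw [h_smul_left K, h_smul_right K, hvv, mul_zero, mul_zero]
  have hPiso : ∀ p ∈ P, H p p = 0 → p ∈ C := fun p hp hpp => by
    by_cases hp0 : p = 0
    · rw [hp0]; simpa using Csub _ _ hyC hyC
    obtain ⟨h, hh, hhy⟩ := exists_move_iso K hP hPd hy hp hy0 hp0 hyy hpp
    rw [← hhy]
    exact Cmove h (gen_fix K (fun v hv => hPa v hv) hh) y hyC
  let CS : Submodule F (Fin n → F) :=
    { carrier := {z | ∀ l : F, l • z ∈ C}
      add_mem' := fun {x y} hx hy l => by rw [smul_add]; exact Cadd _ _ (hx l) (hy l)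
      zero_mem' := fun l => by rw [smul_zero]; simpa using Csub _ _ hyC hyC
      smul_mem' := fun c x hx l => by rw [smul_smul]; exact hx _ }
  have hPC : P ≤ CS := sub_mem_iso_span' K hP hPd fun v hv hvv l => hPiso _ (P.smul_mem l hv)
    (by rw [h_smul_left K, h_smul_right K, hvv, mul_zero, mul_zero])
  have haC : a ∈ CS := by
    intro l
    obtain ⟨b₀, hb₀, hyb⟩ := hP y hy hy0
    set b := K.bar (-l / H y b₀) • b₀
    have hb : b ∈ P := P.smul_mem _ hb₀
    have hyb' : H y b = -l := by rw [h_smul_right K, K.bar_bar, div_mul_cancel₀ _ hyb]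
    obtain ⟨c, hc⟩ := (Unitary.space (n := n) K).tr b
    replace hc : H b b + 1 * c + K.bar c = 0 := hc
    rw [one_mul] at hc
    obtain ⟨h, hh⟩ := exists_siegel K (by omega) haa (h_eq_zero_symm K (hPa b hb)) hc
    have e : ∀ x, app (h : L) x = x + H x a • b - H x b • a + (c * H x a) • a := hh
    have h1 := Cmove h (by rw [e, haa, hPa b hb]; module) y hyC
    have h2 := Csub _ _ h1 hyC
    rw [e, hyb', h_eq_zero_symm K (hPa y hy)] at h2
    convert h2 using 1
    module
  have hperp : ∀ z, H a z = 0 → z ∈ C := by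
    intro z hz
    obtain ⟨s, hs, hzs⟩ := exists_split K hS z
    have hs' : s ∈ Submodule.span F {a, a'} := by
      rwa [hpair] at hs
    obtain ⟨α, β, hab⟩ := Submodule.mem_span_pair.1 hs'
    have h0 := hPa _ hzs
    rw [← hab, h_sub_right K, hz, h_add_right K, h_smul_right K, h_smul_right K, haa, haa', mul_zero,
      zero_add, mul_one, zero_sub, neg_eq_zero] at h0
    rw [(map_eq_zero K.bar).1 h0, zero_smul, add_zero] at hab
    rw [← add_sub_cancel s z, ← hab]
    exact Cadd _ _ (haC α) (by simpa using hPC (hab ▸ hzs) 1)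
  refine eq_top_of_centres (by omega) (eq_top_iff.2 fun x _ => ?_)
  refine sub_mem_iso_span K (top_nondeg K) (by rw [finrank_top, Module.finrank_fin_fun]; omega)
    (fun b _ hbb φ h => ?_) (Submodule.mem_top (x := x))
  by_cases hb0 : b = 0
  · subst hb0
    have : tv (0 : Fin n → F) φ h = 1 := ext_app fun x => by rw [app_tv, smul_zero, add_zero, app_one]
    rw [this]; exact M.one_mem
  obtain ⟨m, -, hm⟩ := exists_move_norm K (top_nondeg K)
    (by rw [finrank_top, Module.finrank_fin_fun]; omega) (Submodule.mem_top (x := a))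
    (Submodule.mem_top (x := b)) ha0 hb0 (haa.trans hbb.symm)
  obtain ⟨z, hz⟩ := exists_repr K
    { toFun := fun x => φ ⬝ᵥ x
      map_add' := fun x y => dotProduct_add _ _ _
      map_smul' := fun c x => by simp [dotProduct_smul] }
  have hbz : H b z = 0 := (hz b).trans h
  have hm' : app (m : L) a = b := hm
  set z' := app (m : L)⁻¹ z
  have hz' : app (m : L) z' = z := app_inv' _ _
  have haz : H a z' = 0 := by
    have := m.2 a z'
    change H (app (m : L) a) (app (m : L) z') = H a z' at this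
    rw [hm', hz', hbz] at this
    exact this.symm
  obtain ⟨-, s, hs, hsz⟩ := hperp z' haz
  have h1 := isTr_conj K (g := (m : L)) m.2 hsz
  rw [hm', hz'] at h1
  have : tv b φ h = (m : L) * s * (m : L)⁻¹ := ext_app fun x => by rw [h1, app_tv, hz]; rfl
  rw [this]
  exact M.mul_mem (M.mul_mem (hM (coe_mem_sim m)) hs) (M.inv_mem (hM (coe_mem_sim m)))

theorem exists_notMem_sim (hn : 6 ≤ n) : ∃ g : L, g ∉ sim (n := n) q := by
  obtain ⟨a, -, ha0, haa⟩ := exists_isotropic_ne K (P := (⊤ : Submodule F (Fin n → F)))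
    (by rw [finrank_top, Module.finrank_fin_fun]; omega)
  obtain ⟨a', ha', haa'⟩ := (Unitary.space (n := n) K).exists_partner haa ha0
  replace haa' : H a a' = 1 := haa'
  obtain ⟨p, -, hpa, hpa', hpp⟩ := exists_aniso_perp K (top_nondeg K)
    (by rw [finrank_top, Module.finrank_fin_fun]; omega) (Submodule.mem_top (x := a))
    (Submodule.mem_top (x := a'))
  obtain ⟨g, hg⟩ := exists_isTr K (h_eq_zero_symm K hpa)
  refine ⟨g, fun ⟨c, hc⟩ => ?_⟩
  have hga : app g a = a := by rw [hg, h_eq_zero_symm K hpa, zero_smul, add_zero]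
  have hga' : app g a' = a' := by rw [hg, h_eq_zero_symm K hpa', zero_smul, add_zero]
  have h1 := hc a a'
  rw [hga, hga', haa', mul_one] at h1
  have h2 := hc p a'
  rw [hga', hg, h_add_left K, h_smul_left K, haa', ← h1, one_mul, mul_one, add_eq_left] at h2
  exact hpp h2

omit K in
theorem mem_similarityGroup_iff (g : L) :
    (g : GL (Fin n) F) ∈ Cfsg.Geo.similarityGroup (hermForm n F q) ↔ g ∈ sim (n := n) q := Iff.rfl

theorem isMaximalIn_std (hn : 6 ≤ n) :
    Cfsg.Geo.IsMaximalIn (Cfsg.Geo.specialLinear (Fin n) F)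
      (Cfsg.Geo.similarityGroup (hermForm n F q) ⊓ Cfsg.Geo.specialLinear (Fin n) F) := by
  refine ⟨lt_of_le_not_ge inf_le_right fun h => ?_, fun M hM hM' => ?_⟩
  · obtain ⟨g, hg⟩ := exists_notMem_sim K hn
    exact hg ((mem_similarityGroup_iff g).1 (h (mem_specialLinear.2 ⟨g, rfl⟩)).1)
  rcases sim_le_or_top K hn (M.comap SpecialLinearGroup.toGL) (fun g hg =>
      hM ⟨(mem_similarityGroup_iff g).2 hg, mem_specialLinear.2 ⟨g, rfl⟩⟩) with h | h
  · refine Or.inr (le_antisymm hM' fun g hg => ?_)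
    obtain ⟨s, rfl⟩ := mem_specialLinear.1 hg
    have : s ∈ M.comap SpecialLinearGroup.toGL := h ▸ Subgroup.mem_top s
    exact this
  · refine Or.inl (le_antisymm (fun g hg => ?_) hM)
    obtain ⟨s, rfl⟩ := mem_specialLinear.1 (hM' hg)
    exact ⟨(mem_similarityGroup_iff s).2 (h hg), mem_specialLinear.2 ⟨s, rfl⟩⟩

omit K

theorem isMaximalIn_map {G : Type*} [Group G] (e : G ≃* G) {A B : Subgroup G}
    (h : Cfsg.Geo.IsMaximalIn A B) :
    Cfsg.Geo.IsMaximalIn (A.map e.toMonoidHom) (B.map e.toMonoidHom) := by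
  have hinj : Function.Injective e.toMonoidHom := e.injective
  refine ⟨(Subgroup.map_lt_map_iff_of_injective hinj).2 h.1, fun M hM hM' => ?_⟩
  have hMM : (M.comap e.toMonoidHom).map e.toMonoidHom = M :=
    Subgroup.map_comap_eq_self_of_surjective e.surjective M
  rcases h.2 (M.comap e.toMonoidHom) (Subgroup.map_le_iff_le_comap.1 hM) (by
      intro x hx
      obtain ⟨y, hy, he⟩ := hM' hx
      rwa [← hinj he]) with h' | h'
  · exact Or.inl (by rw [← hMM, h'])
  · exact Or.inr (by rw [← hMM, h'])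

/-- A unitary form is the standard one in suitable coordinates. -/
theorem exists_coord (σ : F ≃+* F) (f : (Fin n → F) → (Fin n → F) → F)
    (hf : Cfsg.Geo.IsUnitaryForm σ f) :
    ∃ q : ℕ, Nonempty (Unitary.Conj F q) ∧ ∃ P : GL (Fin n) F,
      ∀ x y, f ((P : Matrix (Fin n) (Fin n) F) *ᵥ x) ((P : Matrix (Fin n) (Fin n) F) *ᵥ y) =
        hermForm n F q x y := by
  classical
  cases nonempty_fintype F
  have hσ : orderOf σ = 2 := orderOf_eq_prime (RingEquiv.ext fun x => by
    rw [sq]; exact hf.involutive x) hf.ne_refl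
  obtain ⟨p, hp⟩ := CharP.exists F
  haveI : Fact p.Prime := ⟨CharP.char_is_prime F p⟩
  obtain ⟨e, -, he⟩ := FiniteField.card F p
  obtain ⟨⟨d, hd⟩, hfix⟩ := AutPSL.card_fixedField_eq he two_pos hσ
  rw [hd, Nat.mul_div_cancel_left d two_pos] at hfix
  have hcard : Nat.card F = (p ^ d) ^ 2 := by
    rw [Nat.card_eq_fintype_card, he, hd, ← pow_mul, mul_comm]
  obtain ⟨K⟩ := Unitary.exists_conj rfl hcard
  have hpow : ∀ x, σ x = x → K.bar x = x := fun x hx => by
    rw [K.bar_apply, ← hfix]
    have : Fintype (AutPSL.fixedField σ) := Fintype.ofFinite _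
    rw [Nat.card_eq_fintype_card]
    exact congrArg Subtype.val (FiniteField.pow_card (⟨x, hx⟩ : AutPSL.fixedField σ))
  have hor : ∀ x, K.bar x = x ∨ K.bar x = σ x := fun x => by
    have h1 := hpow (x + σ x) (by rw [map_add, hf.involutive, add_comm])
    have h2 := hpow (x * σ x) (by rw [map_mul, hf.involutive, mul_comm])
    rw [map_add] at h1
    rw [map_mul] at h2
    have : (K.bar x - x) * (K.bar x - σ x) = 0 := by linear_combination K.bar x * h1 - h2
    exact (mul_eq_zero.1 this).imp sub_eq_zero.1 sub_eq_zero.1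
  have hbar : ∀ x, σ x = K.bar x := by
    intro x
    by_contra hc
    obtain ⟨y, hy⟩ := K.exists_moved
    have hy' := (hor y).resolve_left hy
    have hx' : K.bar x = x := (hor x).resolve_right fun h => hc h.symm
    rcases hor (x + y) with h | h
    · rw [map_add, hx'] at h
      exact hy (add_left_cancel h)
    · rw [map_add, map_add, hx', hy'] at h
      exact hc ((add_right_cancel h).symm.trans hx'.symm)
  have fr : ∀ u v w, f u (v + w) = f u v + f u w := fun u v w => by
    rw [hf.herm, hf.add_left, map_add, ← hf.herm, ← hf.herm]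
  have fm : ∀ (c : F) (u v : Fin n → F), f u (c • v) = σ c * f u v := fun c u v => by
    rw [hf.herm, hf.smul_left, map_mul, ← hf.herm]
  let B : (Fin n → F) →ₛₗ[σ.toRingHom] (Fin n → F) →ₗ[F] F :=
    LinearMap.mk₂'ₛₗ σ.toRingHom (RingHom.id F) (fun x y => f y x)
      (fun a b y => fr y a b) (fun c a y => fm c y a)
      (fun a x y => hf.add_left x y a) (fun c a x => hf.smul_left c x a)
  obtain ⟨b, hb⟩ := Forms.exists_orthonormal_basis σ.toRingHom
    (fun h => hf.ne_refl (RingEquiv.ext fun x => RingHom.congr_fun h x)) hf.involutive B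
    (fun x y => (hf.herm x y).symm) (fun v hv => by
      by_contra h0
      obtain ⟨x, hx⟩ := (hf.nondegenerate v h0).1
      exact hx (hv x))
  refine ⟨p ^ d, ⟨K⟩, ?_⟩
  let c := b.reindex (finCongr (Module.finrank_fin_fun F))
  have hc : ∀ i j, f (c i) (c j) = if i = j then 1 else 0 := fun i j => by
    simp only [c, Module.Basis.reindex_apply]
    refine (hb _ _).trans ?_
    simp [eq_comm]
  let P : Matrix (Fin n) (Fin n) F := Matrix.of fun r i => c i r
  have hP : ∀ x, P *ᵥ x = ∑ i, x i • c i := fun x => by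
    funext r
    simp [P, mulVec, dotProduct, Finset.sum_apply, mul_comm]
  have hinj : Function.Injective P.mulVec := fun x y h => funext fun i => by
    rw [hP, hP] at h
    have := congrArg (fun v => c.repr v i) h
    simpa [Finsupp.single_apply] using this
  obtain ⟨u, hu⟩ := Matrix.mulVec_injective_iff_isUnit.1 hinj
  refine ⟨u, fun x y => ?_⟩
  rw [hu, hP, hP, Unitary.herm_apply K]
  rw [show f (∑ i, x i • c i) (∑ j, y j • c j) = ∑ i, f (x i • c i) (∑ j, y j • c j) from
    map_sum (AddMonoidHom.mk' (fun z => f z (∑ j, y j • c j)) fun a b => hf.add_left a b _) _ _]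
  refine Finset.sum_congr rfl fun i _ => ?_
  rw [hf.smul_left, show f (c i) (∑ j, y j • c j) = ∑ j, f (c i) (y j • c j) from
    map_sum (AddMonoidHom.mk' (fun z => f (c i) z) fun a b => fr _ a b) _ _,
    Finset.sum_eq_single i (fun j _ hj => by rw [fm, hc, if_neg (Ne.symm hj), mul_zero]) (by simp),
    fm, hc, if_pos rfl, mul_one, hbar]

theorem isMaximalIn (hn : 6 ≤ n) (σ : F ≃+* F) (f : (Fin n → F) → (Fin n → F) → F)
    (hf : Cfsg.Geo.IsUnitaryForm σ f) :
    Cfsg.Geo.IsMaximalIn (Cfsg.Geo.specialLinear (Fin n) F)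
      (Cfsg.Geo.similarityGroup f ⊓ Cfsg.Geo.specialLinear (Fin n) F) := by
  obtain ⟨q, ⟨K⟩, P, hP⟩ := exists_coord σ f hf
  have h := isMaximalIn_map (MulAut.conj P) (isMaximalIn_std K hn)
  have hinv : ∀ x, f x = fun y => hermForm n F q (((P⁻¹ : GL (Fin n) F) : Matrix (Fin n) (Fin n) F) *ᵥ x)
      (((P⁻¹ : GL (Fin n) F) : Matrix (Fin n) (Fin n) F) *ᵥ y) := fun x => funext fun y => by
    rw [← hP, mulVec_mulVec, mulVec_mulVec, ← Units.val_mul, mul_inv_cancel, Units.val_one,
      one_mulVec, one_mulVec]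
  have hSL : (Cfsg.Geo.specialLinear (Fin n) F).map (MulAut.conj P).toMonoidHom =
      Cfsg.Geo.specialLinear (Fin n) F := by
    have hN : (Cfsg.Geo.specialLinear (Fin n) F).Normal := MonoidHom.normal_ker _
    refine le_antisymm ?_ fun g hg => ⟨P⁻¹ * g * P, ?_, ?_⟩
    · rintro _ ⟨g, hg, rfl⟩
      exact hN.conj_mem g hg P
    · simpa using hN.conj_mem g hg P⁻¹
    · show P * (P⁻¹ * g * P) * P⁻¹ = g
      group
  have hsim : (Cfsg.Geo.similarityGroup (hermForm n F q) ⊓ Cfsg.Geo.specialLinear (Fin n) F).map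
      (MulAut.conj P).toMonoidHom =
      Cfsg.Geo.similarityGroup f ⊓ Cfsg.Geo.specialLinear (Fin n) F := by
    rw [Subgroup.map_inf _ _ _ (MulAut.conj P).injective, hSL]
    congr 1
    ext g
    constructor
    · rintro ⟨k, ⟨c, hc⟩, rfl⟩
      refine ⟨c, fun x y => ?_⟩
      show f (((P * k * P⁻¹ : GL (Fin n) F) : Matrix (Fin n) (Fin n) F) *ᵥ x)
        (((P * k * P⁻¹ : GL (Fin n) F) : Matrix (Fin n) (Fin n) F) *ᵥ y) = _
      rw [Units.val_mul, Units.val_mul, ← mulVec_mulVec, ← mulVec_mulVec, ← mulVec_mulVec,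
        ← mulVec_mulVec, hP, hc, hinv x]
    · rintro ⟨c, hc⟩
      refine ⟨P⁻¹ * g * P, ⟨c, fun x y => ?_⟩, by show P * (P⁻¹ * g * P) * P⁻¹ = g; group⟩
      rw [← hP, ← hP, Units.val_mul, Units.val_mul, mulVec_mulVec, mulVec_mulVec, ← mul_assoc,
        ← mul_assoc, ← Units.val_mul, mul_inv_cancel, Units.val_one, one_mul, ← mulVec_mulVec,
        ← mulVec_mulVec, hc]
  rwa [hSL, hsim] at h

end CfsgLib.Classical.HermSim
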