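import Cfsg.Agent.Lib.Classical.UnitaryMax
import Cfsg.Agent.Lib.Classical.PrimeDimLinear

set_option autoImplicit false
set_option linter.unusedSectionVars false

/-!
`SU(n, q)` lies in none of the geometric candidates for its maximal subgroups.
-/

namespace CfsgLib.PrimeDim

open Matrix Cfsg
open Cfsg.Geo (matrixSet scalars specialLinear ActsIrreducibly ActsAbsolutelyIrreducibly)
open CfsgLib.ClassicalAut (Unitary.Conj Unitary.herm_apply Unitary.normOne Unitary.mem_normOne Unitary.card_normOne)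
open CfsgLib.Classical.Herm (h_add_left h_add_right h_smul_left h_smul_right h_zero_left h_zero_right
  h_eq_zero_symm h_ne_zero_symm bar_self h_nondeg h_swap orth exists_skew)
open scoped MatrixGroups

variable {F : Type*} [Field F] [Finite F] {q : ℕ} {n : ℕ}

/-- `SU(n, q)` inside the general linear group. -/
def SUGL (n : ℕ) (F : Type*) [Field F] (q : ℕ) : Subgroup (GL (Fin n) F) :=
  GU n F q ⊓ specialLinear (Fin n) F

section

variable (K : Unitary.Conj F q)

include K

theorem bar_commute (τ : F ≃+* F) (x : F) : τ (K.bar x) = K.bar (τ x) := by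
  rw [K.bar_apply, K.bar_apply, map_pow]

theorem herm_sesq : Sesq K.bar (hermForm n F q) := by
  refine ⟨h_add_left K, fun c x v => h_smul_left K c x v, fun v x y => h_add_right K v x y,
    fun c v x => h_smul_right K c v x, fun v hv => ?_⟩
  obtain ⟨y, hy⟩ : ∃ y, hermForm n F q v y ≠ 0 := by
    by_contra hc
    push Not at hc
    exact hv (h_nondeg K hc)
  exact ⟨⟨y, h_ne_zero_symm K hy⟩, ⟨y, hy⟩⟩

theorem herm_unitary : Cfsg.Geo.IsUnitaryForm K.bar (hermForm n F q) := by
  refine ⟨fun e => ?_, K.bar_bar, h_add_left K, fun c x v => h_smul_left K c x v, fun v w => h_swap K w v,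
    (herm_sesq K).nd⟩
  obtain ⟨y, hy⟩ := K.exists_moved
  exact hy (by rw [e]; rfl)

/-- A transvection of `SU(n, q)`. -/
theorem exists_utv {u : Fin n → F} (hu : hermForm n F q u u = 0) {l : F} (hl : l + K.bar l = 0) :
    ∃ (t : GL (Fin n) F) (φ : Fin n → F), t ∈ SUGL n F q ∧ (∀ v, φ ⬝ᵥ v = l * hermForm n F q v u) ∧
      t⁻¹.val = 1 - vecMulVec u φ ∧ t.val = 1 + vecMulVec u φ := by
  let φ : Fin n → F := fun i => l * K.bar (u i)
  have hφ : ∀ v, φ ⬝ᵥ v = l * hermForm n F q v u := fun v => by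
    rw [Unitary.herm_apply K, dotProduct, Finset.mul_sum]
    exact Finset.sum_congr rfl fun i _ => by simp only [φ]; ring
  obtain ⟨t, ht, hti, htv⟩ := exists_transvection u φ (by rw [hφ, hu, mul_zero])
  refine ⟨t, φ, ⟨fun x y => ?_, ht⟩, hφ, hti, htv⟩
  show hermForm n F q ((t : Matrix (Fin n) (Fin n) F) *ᵥ x) ((t : Matrix (Fin n) (Fin n) F) *ᵥ y) = _
  rw [transvection_mulVec htv, transvection_mulVec htv, hφ, hφ, h_add_left K, h_add_right K, h_add_right K,
    h_smul_left K, h_smul_left K, h_smul_right K, h_smul_right K, hu, map_mul, ← h_swap K y u]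
  linear_combination (hermForm n F q x u * hermForm n F q u y) * hl

theorem exists_zetas : ∃ S : Finset F, S.card = q + 1 ∧ ∀ z ∈ S, z * K.bar z = -1 := by
  classical
  obtain ⟨z₀, hz₀⟩ := K.exists_norm (-1) (by rw [map_neg, map_one])
  have hz : z₀ ≠ 0 := fun e => by simp [e] at hz₀
  haveI := Fintype.ofFinite (Unitary.normOne K)
  refine ⟨Finset.univ.image fun c : Unitary.normOne K => ((c : Fˣ) : F) * z₀, ?_, ?_⟩
  · rw [Finset.card_image_of_injective _ fun a b e =>
      Subtype.ext (Units.ext (mul_right_cancel₀ hz e)), Finset.card_univ, ← Nat.card_eq_fintype_card,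
      Unitary.card_normOne]
  · intro z hzm
    obtain ⟨c, -, rfl⟩ := Finset.mem_image.1 hzm
    have hc := (Unitary.mem_normOne K).1 c.2
    rw [map_mul]
    linear_combination (z₀ * K.bar z₀) * hc + hz₀

/-- The isotropic vector of a coordinate plane. -/
theorem plane_iso {i j : Fin n} (hij : i ≠ j) {z w : F} :
    hermForm n F q (z • Pi.single i 1 + Pi.single j 1) (w • Pi.single i 1 + Pi.single j 1) =
      z * K.bar w + 1 := by
  classical
  rw [Unitary.herm_apply K, Finset.sum_eq_add i j hij (fun k _ hk => by simp [hk.1, hk.2]) (by simp) (by simp)]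
  simp [hij, hij.symm]

theorem plane_mem {i j : Fin n} {z w : F} (hzw : z ≠ w) {W : Submodule F (Fin n → F)}
    (h1 : z • Pi.single i 1 + Pi.single j 1 ∈ W) (h2 : w • Pi.single i 1 + Pi.single j 1 ∈ W) :
    (Pi.single i 1 : Fin n → F) ∈ W ∧ (Pi.single j 1 : Fin n → F) ∈ W := by
  have hi : (Pi.single i 1 : Fin n → F) ∈ W := by
    have h := W.smul_mem (z - w)⁻¹ (W.sub_mem h1 h2)
    rwa [add_sub_add_right_eq_sub, ← sub_smul, smul_smul, inv_mul_cancel₀ (sub_ne_zero.2 hzw), one_smul] at h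
  exact ⟨hi, by simpa using W.sub_mem h1 (W.smul_mem z hi)⟩

theorem sugl_irreducible (hn : 2 ≤ n) : ActsIrreducibly (matrixSet (SUGL n F q)) := by
  classical
  refine irreducible_iff.2 fun W hW => ?_
  obtain ⟨θ, hθ0, hθ⟩ := exists_skew K
  have key : ∀ u, hermForm n F q u u = 0 → u ∈ W ∨ u ∈ orth K W := by
    intro u hu
    by_cases h : u ∈ orth K W
    · exact Or.inr h
    left
    obtain ⟨w, hw, hwu⟩ : ∃ w ∈ W, hermForm n F q w u ≠ 0 := by
      by_contra hc
      push Not at hc
      exact h hc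
    obtain ⟨t, φ, ht, hφ, -, htv⟩ := exists_utv K hu hθ
    have h1 := hW _ ⟨t, ht, rfl⟩ w hw
    change (t : Matrix (Fin n) (Fin n) F) *ᵥ w ∈ W at h1
    rw [transvection_mulVec htv, hφ, W.add_mem_iff_right hw] at h1
    have h2 := W.smul_mem (θ * hermForm n F q w u)⁻¹ h1
    rwa [smul_smul, inv_mul_cancel₀ (mul_ne_zero hθ0 hwu), one_smul] at h2
  obtain ⟨S, hS, hSn⟩ := exists_zetas K
  obtain ⟨a, b, c, ha, hb, hc, hab, hac, hbc⟩ := Finset.two_lt_card_iff.1
    (show 2 < S.card by rw [hS]; have := K.two_le; omega)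
  have hsame : ∀ i j : Fin n, i ≠ j →
      ((Pi.single i 1 : Fin n → F) ∈ W ∧ (Pi.single j 1 : Fin n → F) ∈ W) ∨
      ((Pi.single i 1 : Fin n → F) ∈ orth K W ∧ (Pi.single j 1 : Fin n → F) ∈ orth K W) := by
    intro i j hij
    have hiso : ∀ z ∈ S, hermForm n F q (z • Pi.single i 1 + Pi.single j 1) (z • Pi.single i 1 + Pi.single j 1) = 0 :=
      fun z hz => by rw [plane_iso K hij, hSn z hz, neg_add_cancel]
    rcases key _ (hiso a ha) with h1 | h1 <;> rcases key _ (hiso b hb) with h2 | h2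
    · exact Or.inl (plane_mem K hab h1 h2)
    · exfalso
      have h := h2 _ h1
      rw [plane_iso K hij] at h
      refine hab (mul_right_cancel₀ (fun e => ?_) (b := K.bar b) ((eq_neg_of_add_eq_zero_left h).trans (hSn b hb).symm))
      have := hSn b hb
      rw [e, mul_zero] at this
      exact one_ne_zero (neg_eq_zero.1 this.symm)
    · exfalso
      have h := h1 _ h2
      rw [plane_iso K hij] at h
      refine hab.symm (mul_right_cancel₀ (fun e => ?_) (b := K.bar a) ((eq_neg_of_add_eq_zero_left h).trans (hSn a ha).symm))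
      have := hSn a ha
      rw [e, mul_zero] at this
      exact one_ne_zero (neg_eq_zero.1 this.symm)
    · exact Or.inr (plane_mem K hab h1 h2)
  have hnotboth : ∀ i : Fin n, (Pi.single i 1 : Fin n → F) ∈ W → (Pi.single i 1 : Fin n → F) ∉ orth K W := by
    intro i h1 h2
    have h := h2 _ h1
    rw [Unitary.herm_apply K, Finset.sum_eq_single i (fun k _ hk => by simp [hk]) (by simp)] at h
    simp at h
  have hcases : (∀ i, (Pi.single i 1 : Fin n → F) ∈ W) ∨ (∀ i, (Pi.single i 1 : Fin n → F) ∈ orth K W) := by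
    set i₀ : Fin n := ⟨0, by omega⟩
    set i₁ : Fin n := ⟨1, by omega⟩
    have h01 : i₀ ≠ i₁ := by simp [i₀, i₁]
    rcases hsame i₀ i₁ h01 with h | h
    · refine Or.inl fun i => ?_
      by_cases hi : i = i₀
      · exact hi ▸ h.1
      rcases hsame i₀ i (Ne.symm hi) with h' | h'
      · exact h'.2
      · exact absurd h'.1 (hnotboth _ h.1)
    · refine Or.inr fun i => ?_
      by_cases hi : i = i₀
      · exact hi ▸ h.1
      rcases hsame i₀ i (Ne.symm hi) with h' | h'
      · exact absurd h.1 (hnotboth _ h'.1)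
      · exact h'.2
  rcases hcases with h | h
  · refine Or.inr (eq_top_iff.2 fun v _ => ?_)
    rw [pi_eq_sum_univ' v]
    exact sum_mem fun i _ => W.smul_mem _ (h i)
  · refine Or.inl (eq_bot_iff.2 fun w hw => (Submodule.mem_bot F).2 (funext fun i => ?_))
    have h' := h i w hw
    rw [Unitary.herm_apply K, Finset.sum_eq_single i (fun k _ hk => by simp [hk]) (by simp)] at h'
    simpa using h'

/-- `SU(n, q)` fixes no proper subspace. -/
theorem sugl_not_le_stab (hn : 2 ≤ n) {W : Submodule F (Fin n → F)} (hW0 : W ≠ ⊥) (hW1 : W ≠ ⊤) :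
    ¬ SUGL n F q ≤ Cfsg.Geo.subspaceStabilizer W := by
  intro hle
  rcases irreducible_iff.1 (sugl_irreducible K hn) W (by
    rintro _ ⟨g, hg, rfl⟩ v hv
    exact (hle hg v).1 hv) with h | h
  · exact hW0 h
  · exact hW1 h

/-- `SU(n, q)` fixes no orthogonal decomposition into lines. -/
theorem sugl_not_le_decomposition (hn : 3 ≤ n) (hq : 3 ≤ q ∨ 4 ≤ n) {D : Fin n → Submodule F (Fin n → F)}
    (hD : Cfsg.Geo.IsNondegenerateMDecomposition (hermForm n F q) 1 D) :
    ¬ SUGL n F q ≤ Cfsg.Geo.decompositionStabilizer D := by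
  classical
  intro hle
  have hd : ∀ i, ∃ v ∈ D i, v ≠ 0 := fun i => Submodule.exists_mem_ne_zero_of_ne_bot fun e => by
    have := hD.decomp.finrank_eq i
    rw [e, finrank_bot] at this
    exact zero_ne_one this
  choose v hv hv0 using hd
  have hli : LinearIndependent F v := iSupIndep.linearIndependent _ hD.decomp.indep hv hv0
  haveI : Nonempty (Fin n) := ⟨⟨0, by omega⟩⟩
  let B := basisOfLinearIndependentOfCardEqFinrank hli (by simp)
  have hB : ∀ i, B i = v i := fun i => by simp [B]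
  have hline : ∀ i, ∀ w ∈ D i, ∃ a : F, a • v i = w := by
    intro i w hw
    obtain ⟨a, ha⟩ := (finrank_eq_one_iff_of_nonzero' (⟨v i, hv i⟩ : D i)
      fun e => hv0 i (congrArg Subtype.val e)).1 (hD.decomp.finrank_eq i) ⟨w, hw⟩
    exact ⟨a, congrArg Subtype.val ha⟩
  have horth : ∀ i j, i ≠ j → hermForm n F q (v i) (v j) = 0 := fun i j h => hD.orthogonal i j h _ (hv i) _ (hv j)
  have hb0 : ∀ i, hermForm n F q (v i) (v i) ≠ 0 := by
    intro i h
    obtain ⟨⟨x, hx, hxi⟩, -⟩ := hD.nondegenerate i _ (hv i) (hv0 i)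
    obtain ⟨a, rfl⟩ := hline i x hx
    exact hxi (by rw [h_smul_left K, h, mul_zero])
  have hherm : ∀ (x : Fin n → F) i, hermForm n F q (v i) x = K.bar (B.repr x i) * hermForm n F q (v i) (v i) := by
    intro x i
    conv_lhs => rw [← B.sum_repr x]
    have hsum : ∀ s : Finset (Fin n), hermForm n F q (v i) (∑ j ∈ s, B.repr x j • B j) =
        ∑ j ∈ s, K.bar (B.repr x j) * hermForm n F q (v i) (v j) := by
      intro s
      induction s using Finset.induction_on with
      | empty => simp [h_zero_right K]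
      | @insert j s hj ih => rw [Finset.sum_insert hj, Finset.sum_insert hj, h_add_right K, h_smul_right K, ih, hB]
    rw [hsum, Finset.sum_eq_single i (fun j _ hj => by rw [horth i j (Ne.symm hj), mul_zero]) (by simp)]
  obtain ⟨u, hu, hu3⟩ : ∃ u, hermForm n F q u u = 0 ∧ ∃ i j k, i ≠ j ∧ i ≠ k ∧ j ≠ k ∧
      B.repr u i ≠ 0 ∧ B.repr u j ≠ 0 ∧ B.repr u k ≠ 0 := by
    have mk : ∀ (s : Finset (Fin n)) (b : Fin n → F), (∀ i ∈ s, K.bar (b i) = b i ∧ b i ≠ 0) → ∑ i ∈ s, b i = 0 →
        3 ≤ s.card → ∃ u, hermForm n F q u u = 0 ∧ ∃ i j k, i ≠ j ∧ i ≠ k ∧ j ≠ k ∧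
          B.repr u i ≠ 0 ∧ B.repr u j ≠ 0 ∧ B.repr u k ≠ 0 := by
      intro s b hb hsum hcard
      have : ∀ i, ∃ y : F, (i ∈ s → y * K.bar y = b i / hermForm n F q (v i) (v i)) ∧ (i ∉ s → y = 0) := by
        intro i
        by_cases hi : i ∈ s
        · obtain ⟨y, hy⟩ := K.exists_norm (b i / hermForm n F q (v i) (v i)) (by
            rw [map_div₀, (hb i hi).1, bar_self K])
          exact ⟨y, fun _ => hy, fun h => absurd hi h⟩
        · exact ⟨0, fun h => absurd h hi, fun _ => rfl⟩
      choose y hy hy' using this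
      let u := ∑ i, y i • B i
      have hrepr : ∀ i, B.repr u i = y i := fun i => by simp [u, Finsupp.single_apply]
      have hne : ∀ i ∈ s, y i ≠ 0 := fun i hi e => by
        have h := hy i hi
        rw [e, zero_mul] at h
        exact div_ne_zero (hb i hi).2 (hb0 i) h.symm
      refine ⟨u, ?_, ?_⟩
      · have h1 : ∀ t : Finset (Fin n), hermForm n F q (∑ i ∈ t, y i • B i) u =
            ∑ i ∈ t, y i * (K.bar (y i) * hermForm n F q (v i) (v i)) := by
          intro t
          induction t using Finset.induction_on with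
          | empty => simp [h_zero_left K]
          | @insert j t hj ih =>
            rw [Finset.sum_insert hj, Finset.sum_insert hj, h_add_left K, h_smul_left K, ih, hB, hherm, hrepr]
        rw [show hermForm n F q u u = hermForm n F q (∑ i, y i • B i) u from rfl, h1,
          ← Finset.sum_subset (Finset.subset_univ s) fun i _ hi => by rw [hy' i hi, zero_mul], ← hsum]
        exact Finset.sum_congr rfl fun i hi => by
          rw [← mul_assoc, hy i hi, div_mul_cancel₀ _ (hb0 i)]
      · obtain ⟨i, j, k, hi, hj, hk, hij, hik, hjk⟩ := Finset.two_lt_card_iff.1 (show 2 < s.card by omega)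
        exact ⟨i, j, k, hij, hik, hjk, by rw [hrepr]; exact hne i hi, by rw [hrepr]; exact hne j hj,
          by rw [hrepr]; exact hne k hk⟩
    set i₀ : Fin n := ⟨0, by omega⟩
    set i₁ : Fin n := ⟨1, by omega⟩
    set i₂ : Fin n := ⟨2, by omega⟩
    have h01 : i₀ ≠ i₁ := by simp [i₀, i₁]
    have h02 : i₀ ≠ i₂ := by simp [i₀, i₂]
    have h12 : i₁ ≠ i₂ := by simp [i₁, i₂]
    by_cases hq2 : q = 2
    · have h4 : 4 ≤ n := hq.resolve_left (by omega)
      set i₃ : Fin n := ⟨3, by omega⟩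
      have h03 : i₀ ≠ i₃ := by simp [i₀, i₃]
      have h13 : i₁ ≠ i₃ := by simp [i₁, i₃]
      have h23 : i₂ ≠ i₃ := by simp [i₂, i₃]
      refine mk {i₀, i₁, i₂, i₃} (fun _ => 1) (fun i _ => ⟨map_one _, one_ne_zero⟩) ?_ ?_
      · rw [Finset.sum_const, nsmul_eq_mul, mul_one]
        rw [show ({i₀, i₁, i₂, i₃} : Finset (Fin n)).card = 4 by simp [h01, h02, h03, h12, h13, h23]]
        have h2 := CfsgLib.Classical.Herm.two_eq_zero K hq2
        push_cast
        linear_combination 2 * h2
      · rw [show ({i₀, i₁, i₂, i₃} : Finset (Fin n)).card = 4 by simp [h01, h02, h03, h12, h13, h23]]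
        norm_num
    · obtain ⟨a, ha0, ha1⟩ : ∃ a : F, a ≠ 0 ∧ a * K.bar a ≠ -1 := by
        by_contra hc
        push Not at hc
        haveI := Fintype.ofFinite F
        have hall : ∀ c : Fˣ, c ∈ Unitary.normOne K := fun c => (Unitary.mem_normOne K).2 (by
          have h1 := hc _ one_ne_zero
          rw [map_one, mul_one] at h1
          rw [hc _ c.ne_zero, ← h1])
        have h1 := Unitary.card_normOne K
        rw [show Unitary.normOne K = ⊤ from eq_top_iff.2 fun c _ => hall c, Subgroup.card_top, Nat.card_units,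
          K.card] at h1
        have := K.two_le
        have : q * 3 ≤ q ^ 2 := by rw [sq]; exact Nat.mul_le_mul_left q (by omega)
        omega
      have hfix : K.bar (a * K.bar a) = a * K.bar a := by rw [map_mul, K.bar_bar, mul_comm]
      let b : Fin n → F := fun i => if i = i₀ then 1 else if i = i₁ then a * K.bar a else -1 - a * K.bar a
      refine mk {i₀, i₁, i₂} b (fun i _ => ?_) ?_ ?_
      · simp only [b]
        split_ifs
        · exact ⟨map_one _, one_ne_zero⟩
        · exact ⟨hfix, mul_ne_zero ha0 ((map_ne_zero _).2 ha0)⟩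
        · refine ⟨by rw [map_sub, map_neg, map_one, hfix], fun e => ha1 ?_⟩
          linear_combination -e
      · rw [Finset.sum_insert (by simp [h01, h02]), Finset.sum_insert (by simp [h12]), Finset.sum_singleton]
        simp [b, h01.symm, h02.symm, h12.symm]
      · rw [show ({i₀, i₁, i₂} : Finset (Fin n)).card = 3 by simp [h01, h02, h12]]
  obtain ⟨θ, hθ0, hθ⟩ := exists_skew K
  obtain ⟨t, φ, ht, hφ, -, htv⟩ := exists_utv K hu hθ
  obtain ⟨σ, hσ⟩ := hle ht
  obtain ⟨i, j, k, hij, hik, hjk, hi, hj, hk⟩ := hu3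
  have hm : (t : Matrix (Fin n) (Fin n) F) *ᵥ v i ∈ D (σ i) := by
    rw [← hσ i]; exact ⟨v i, hv i, Matrix.toLin'_apply _ _⟩
  obtain ⟨a, ha⟩ := hline _ _ hm
  rw [transvection_mulVec htv, hφ, hherm] at ha
  set c := θ * (K.bar (B.repr u i) * hermForm n F q (v i) (v i))
  have hc : c ≠ 0 := mul_ne_zero hθ0 (mul_ne_zero ((map_ne_zero _).2 hi) (hb0 i))
  have hr : ∀ l, l ≠ i → l ≠ σ i → B.repr u l = 0 := by
    intro l hl hl'
    have h := congrArg (fun w => B.repr w l) ha
    simp only [← hB, map_add, map_smul, Finsupp.add_apply, Finsupp.smul_apply, Module.Basis.repr_self,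
      Finsupp.single_eq_of_ne hl, Finsupp.single_eq_of_ne hl', smul_eq_mul, mul_zero, zero_add] at h
    exact (mul_eq_zero.1 h.symm).resolve_left hc
  by_cases hjσ : j = σ i
  · exact hk (hr k hik.symm fun e => hjk (hjσ.trans e.symm))
  · exact hj (hr j hij.symm hjσ)

omit K in
/-- A field of degree `n` is normalised by no transvection. -/
theorem transvection_not_normalises (hn : 3 ≤ n) {A : Subalgebra F (Matrix (Fin n) (Fin n) F)}
    (hA : Cfsg.Geo.IsFieldSubalgebra n A) {t : GL (Fin n) F} {u φ : Fin n → F}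
    (hti : t⁻¹.val = 1 - vecMulVec u φ) (htv : t.val = 1 + vecMulVec u φ) (hu0 : u ≠ 0) (hφ0 : φ ≠ 0) :
    t ∉ Cfsg.Geo.subalgebraNormalizer A := by
  classical
  intro ht
  haveI : Nonempty (Fin n) := ⟨⟨0, by omega⟩⟩
  obtain ⟨j, hj⟩ := Function.ne_iff.1 hφ0
  set w : Fin n → F := Pi.single j (1 / φ j)
  have hw : φ ⬝ᵥ w = 1 := by rw [dotProduct_single, mul_one_div_cancel hj]
  have key : ∀ k ∈ A, ∃ c : F, k = c • 1 := by
    intro k hk
    have hX : t.val * k * t⁻¹.val - k ∈ A := sub_mem ((ht k).1 hk) hk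
    set X := t.val * k * t⁻¹.val - k
    have himg : ∀ v, X *ᵥ v ∈ Submodule.span F ({u, k *ᵥ u} : Set (Fin n → F)) := by
      intro v
      simp only [X, htv, hti, Matrix.sub_mulVec, ← mulVec_mulVec, Matrix.add_mulVec, one_mulVec, vecMulVec_mulVec,
        op_smul_eq_smul, mulVec_sub, mulVec_smul]
      refine (Submodule.mem_span_pair).2 ?_
      exact ⟨φ ⬝ᵥ (k *ᵥ v) - (φ ⬝ᵥ (k *ᵥ u)) * (φ ⬝ᵥ v), -(φ ⬝ᵥ v), by
        module⟩
    have hX0 : X = 0 := by
      by_contra h0
      obtain ⟨Y, -, hY⟩ := hA.inv X hX h0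
      have htop : Submodule.span F ({u, k *ᵥ u} : Set (Fin n → F)) = ⊤ := eq_top_iff.2 fun v _ => by
        have := himg (Y *ᵥ v)
        rwa [mulVec_mulVec, hY, one_mulVec] at this
      have h2 := finrank_span_le_card (R := F) ({u, k *ᵥ u} : Set (Fin n → F))
      rw [htop, finrank_top, Module.finrank_fin_fun] at h2
      have : ({u, k *ᵥ u} : Set (Fin n → F)).toFinset.card ≤ 2 := by
        rw [Set.toFinset_insert, Set.toFinset_singleton]; exact Finset.card_le_two
      omega
    have hcomm : t.val * k = k * t.val := by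
      have e : t.val * k * t⁻¹.val = k := sub_eq_zero.1 hX0
      conv_rhs => rw [← e]
      rw [mul_assoc, Units.inv_mul, mul_one]
    have hv := congrArg (fun A : Matrix (Fin n) (Fin n) F => A *ᵥ w) hcomm
    simp only [← mulVec_mulVec, transvection_mulVec htv, mulVec_add, mulVec_smul] at hv
    rw [hw, one_smul, add_right_inj] at hv
    refine ⟨φ ⬝ᵥ (k *ᵥ w), sub_eq_zero.1 ?_⟩
    by_contra h0
    obtain ⟨Y, hYA, hY⟩ := hA.inv _ (sub_mem hk (A.smul_mem A.one_mem _)) h0
    apply hu0
    rw [← one_mulVec u, ← hY, ← hA.comm Y hYA _ (sub_mem hk (A.smul_mem A.one_mem _)), ← mulVec_mulVec,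
      sub_mulVec, smul_mulVec, one_mulVec, hv, sub_self, mulVec_zero]
  have h1 : A = ⊥ := by
    refine eq_bot_iff.2 fun k hk => ?_
    obtain ⟨c, rfl⟩ := key k hk
    exact Algebra.mem_bot.2 ⟨c, Algebra.algebraMap_eq_smul_one c⟩
  have := hA.finrank_eq
  rw [h1, Subalgebra.finrank_bot] at this
  omega

theorem sugl_not_le_normalizer (hn : 3 ≤ n) {A : Subalgebra F (Matrix (Fin n) (Fin n) F)}
    (hA : Cfsg.Geo.IsFieldSubalgebra n A) : ¬ SUGL n F q ≤ Cfsg.Geo.subalgebraNormalizer A := by
  intro hle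
  obtain ⟨z, hz⟩ := K.exists_norm (-1) (by rw [map_neg, map_one])
  set i₀ : Fin n := ⟨0, by omega⟩
  set i₁ : Fin n := ⟨1, by omega⟩
  have h01 : i₀ ≠ i₁ := by simp [i₀, i₁]
  set u : Fin n → F := z • Pi.single i₀ 1 + Pi.single i₁ 1
  have hu0 : u ≠ 0 := fun e => one_ne_zero (α := F) (by simpa [u, h01.symm] using congrFun e i₁)
  obtain ⟨θ, hθ0, hθ⟩ := exists_skew K
  obtain ⟨t, φ, ht, hφ, hti, htv⟩ := exists_utv K (u := u) (by rw [plane_iso K h01, hz, neg_add_cancel]) hθ
  refine transvection_not_normalises hn hA hti htv hu0 (fun e => ?_) (hle ht)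
  obtain ⟨⟨x, hx⟩, -⟩ := (herm_sesq K).nd u hu0
  have := hφ x
  rw [e, zero_dotProduct] at this
  exact mul_ne_zero hθ0 hx this.symm

/-- A semilinear map with every isotropic vector an eigenvector. -/
theorem eigen_isotropic (hn : 3 ≤ n) {τ : F ≃+* F} {Θ : (Fin n → F) → (Fin n → F)}
    (hadd : ∀ x y, Θ (x + y) = Θ x + Θ y) (hsmul : ∀ (c : F) x, Θ (c • x) = τ c • Θ x)
    (heig : ∀ u, hermForm n F q u u = 0 → ∃ s : F, Θ u = s • u) :
    ∃ d : Fin n → F, (∀ i, Θ (Pi.single i 1) = d i • Pi.single i 1) ∧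
      ∀ i j, i ≠ j → ∀ z : F, z * K.bar z = -1 → τ z * d i = z * d j := by
  classical
  obtain ⟨S, hS, hSn⟩ := exists_zetas K
  obtain ⟨a, b, c, ha, hb, -, hab, -, -⟩ := Finset.two_lt_card_iff.1
    (show 2 < S.card by rw [hS]; have := K.two_le; omega)
  have hplane : ∀ i j : Fin n, i ≠ j → ∀ k, k ≠ i → k ≠ j → Θ (Pi.single i 1) k = 0 := by
    intro i j hij k hki hkj
    obtain ⟨s, hs⟩ := heig _ (show hermForm n F q (a • Pi.single i 1 + Pi.single j 1) _ = 0 by
      rw [plane_iso K hij, hSn a ha, neg_add_cancel])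
    obtain ⟨s', hs'⟩ := heig _ (show hermForm n F q (b • Pi.single i 1 + Pi.single j 1) _ = 0 by
      rw [plane_iso K hij, hSn b hb, neg_add_cancel])
    have h := congrArg (fun f : Fin n → F => f k) (congrArg₂ (· - ·) hs hs')
    simp only [hadd, hsmul, Pi.sub_apply, Pi.add_apply, Pi.smul_apply, smul_eq_mul, Pi.single_eq_of_ne hki,
      Pi.single_eq_of_ne hkj, mul_zero, add_zero, sub_zero] at h
    refine (mul_eq_zero.1 (show (τ a - τ b) * Θ (Pi.single i 1) k = 0 by linear_combination h)).resolve_left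
      (sub_ne_zero.2 fun e => hab (τ.injective e))
  have hdiag : ∀ i k, k ≠ i → Θ (Pi.single i 1) k = 0 := by
    intro i k hki
    obtain ⟨j, hj⟩ : ∃ j : Fin n, j ∉ ({i, k} : Finset (Fin n)) := by
      by_contra hc
      push Not at hc
      have h2 := Finset.card_le_two (a := i) (b := k)
      rw [show ({i, k} : Finset (Fin n)) = Finset.univ from Finset.eq_univ_iff_forall.2 hc, Finset.card_univ,
        Fintype.card_fin] at h2
      omega
    simp only [Finset.mem_insert, Finset.mem_singleton, not_or] at hj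
    exact hplane i j (Ne.symm hj.1) k hki (Ne.symm hj.2)
  have hsingle : ∀ i, Θ (Pi.single i 1) = Θ (Pi.single i 1) i • Pi.single i 1 := by
    intro i
    funext k
    by_cases hki : k = i
    · subst hki; simp
    · simp [hdiag i k hki, hki]
  refine ⟨fun i => Θ (Pi.single i 1) i, hsingle, fun i j hij z hz => ?_⟩
  obtain ⟨s, hs⟩ := heig _ (show hermForm n F q (z • Pi.single i 1 + Pi.single j 1) _ = 0 by
    rw [plane_iso K hij, hz, neg_add_cancel])
  rw [hadd, hsmul, hsingle i, hsingle j] at hs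
  have hi := congrFun hs i
  have hj := congrFun hs j
  simp [hij, hij.symm] at hi hj
  dsimp only
  rw [hi, hj]
  ring

/-- An element commuting with all transvections of `SU(n, q)` is a scalar. -/
theorem scalar_of_comm_utv (hn : 3 ≤ n) {g : GL (Fin n) F} (hg : ∀ t ∈ SUGL n F q, g * t = t * g) :
    g ∈ scalars (Fin n) F := by
  classical
  haveI : Nonempty (Fin n) := ⟨⟨0, by omega⟩⟩
  obtain ⟨θ, hθ0, hθ⟩ := exists_skew K
  obtain ⟨d, hd, hrel⟩ := eigen_isotropic K hn (τ := RingEquiv.refl F)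
    (Θ := fun x => (g : Matrix (Fin n) (Fin n) F) *ᵥ x) (fun x y => mulVec_add _ _ _)
    (fun c x => mulVec_smul _ _ _) fun u hu => by
      by_cases hu0 : u = 0
      · exact ⟨0, by rw [hu0]; simp⟩
      obtain ⟨t, φ, ht, hφ, -, htv⟩ := exists_utv K hu hθ
      obtain ⟨⟨x, hx⟩, -⟩ := (herm_sesq K).nd u hu0
      have h := congrArg (fun z : GL (Fin n) F => (z : Matrix (Fin n) (Fin n) F) *ᵥ x) (hg t ht)
      simp only [Units.val_mul, ← mulVec_mulVec, transvection_mulVec htv, mulVec_add, mulVec_smul,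
        add_right_inj, hφ] at h
      refine ⟨(θ * hermForm n F q ((g : Matrix (Fin n) (Fin n) F) *ᵥ x) u) / (θ * hermForm n F q x u), ?_⟩
      have h2 := congrArg (fun v => (θ * hermForm n F q x u)⁻¹ • v) h
      simp only [smul_smul, inv_mul_cancel₀ (mul_ne_zero hθ0 hx), one_smul] at h2
      rw [h2, div_eq_inv_mul]
  obtain ⟨z, hz⟩ := K.exists_norm (-1) (by rw [map_neg, map_one])
  have hz0 : z ≠ 0 := fun e => by simp [e] at hz
  set i₀ : Fin n := ⟨0, by omega⟩
  have hall : ∀ i, d i = d i₀ := fun i => by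
    by_cases hi : i = i₀
    · rw [hi]
    · exact mul_left_cancel₀ hz0 (hrel i i₀ hi z hz)
  have hm : (g : Matrix (Fin n) (Fin n) F) = d i₀ • 1 := Matrix.ext_of_mulVec_single fun i => by
    rw [hd, hall, smul_mulVec, one_mulVec]
  exact (Cfsg.Geo.mem_scalars_iff g).2 ⟨Units.mk0 _ fun e => g.ne_zero (by
    rw [hm, e, zero_smul]), hm⟩

/-- `SU(n, q)` lies in no proper subfield group. -/
theorem sugl_not_le_subfield [Fintype F] (hn : 3 ≤ n) {F₀ : Subfield F} (hF₀ : F₀ ≠ ⊤) (P : GL (Fin n) F) :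
    ¬ SUGL n F q ≤ Cfsg.Geo.subfieldSubgroup F₀ P := by
  classical
  intro hle
  obtain ⟨F₁, r, τ, hr, hle₁, hne, hcard, hfix⟩ := exists_maximal_subfield hF₀
  haveI : Nonempty (Fin n) := ⟨⟨0, by omega⟩⟩
  obtain ⟨p, hp⟩ := CharP.exists F
  haveI hpp : Fact p.Prime := ⟨(CharP.char_is_prime_or_zero F p).resolve_right (CharP.char_ne_zero_of_finite F p)⟩
  obtain ⟨θ, hθ0, hθ⟩ := exists_skew K
  let Θ : (Fin n → F) → (Fin n → F) := fun v =>
    (P : Matrix (Fin n) (Fin n) F) *ᵥ fun i => τ (((↑P⁻¹ : Matrix (Fin n) (Fin n) F) *ᵥ v) i)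
  obtain ⟨d, hd, hrel⟩ := eigen_isotropic K hn (τ := τ) (Θ := Θ)
    (fun x y => by
      simp only [Θ, mulVec_add, ← mulVec_add]
      congr 1
      funext i
      simp [mulVec_add])
    (fun c x => by
      simp only [Θ, mulVec_smul, ← mulVec_smul]
      congr 1
      funext i
      simp [mulVec_smul])
    fun u hu => by
      by_cases hu0 : u = 0
      · exact ⟨0, by rw [hu0, zero_smul]; simp [Θ]; exact mulVec_zero _⟩
      obtain ⟨t, φ, ht, hφ, -, htv⟩ := exists_utv K hu hθ
      obtain ⟨c, hc0, hc⟩ := mem_subfieldSubgroup.1 (hle ht)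
      set M : Matrix (Fin n) (Fin n) F := ((P⁻¹ * t * P : GL (Fin n) F) : Matrix (Fin n) (Fin n) F)
      set u' : Fin n → F := (↑P⁻¹ : Matrix (Fin n) (Fin n) F) *ᵥ u
      set φ' : Fin n → F := φ ᵥ* (P : Matrix (Fin n) (Fin n) F)
      have hM : M = 1 + vecMulVec u' φ' := by
        simp only [M, Units.val_mul, htv, mul_add, add_mul, mul_one, Units.inv_mul, Matrix.mul_vecMulVec,
          Matrix.vecMulVec_mul, u', φ']
      have hu'0 : u' ≠ 0 := fun e => hu0 (by
        simpa [u', mulVec_inv_cancel] using congrArg (fun v => (P : Matrix (Fin n) (Fin n) F) *ᵥ v) e)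
      obtain ⟨j, hj⟩ : ∃ j, φ' j ≠ 0 := by
        by_contra hall
        push Not at hall
        obtain ⟨⟨x, hx⟩, -⟩ := (herm_sesq K).nd u hu0
        refine mul_ne_zero hθ0 hx ?_
        rw [← hφ, ← mulVec_inv_cancel P x, dotProduct_mulVec, show φ ᵥ* (P : Matrix (Fin n) (Fin n) F) = 0 from
          funext hall, zero_dotProduct]
      have h0 : vecMulVec u' φ' * vecMulVec u' φ' = 0 := by
        have e : φ' ⬝ᵥ u' = 0 := by
          simp only [u', φ']
          rw [← dotProduct_mulVec, mulVec_inv_cancel, hφ, hu, mul_zero]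
        rw [vecMulVec_mul_vecMulVec, e, zero_smul, vecMulVec_zero]
      have hMk : ∀ k : ℕ, M ^ k = 1 + (k : F) • vecMulVec u' φ' := by
        intro k
        induction k with
        | zero => simp
        | succ k ih =>
          rw [pow_succ, ih, hM, add_mul, one_mul, smul_mul_assoc, mul_add, mul_one, h0, add_zero]
          push_cast
          rw [add_smul, one_smul]
          abel
      have hsub : ∀ k : ℕ, ∀ i l, (M ^ k) i l / c ^ k ∈ F₁ := by
        intro k
        induction k with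
        | zero => intro i l; rw [pow_zero, pow_zero, div_one, one_apply]; split <;> simp [F₁.one_mem, F₁.zero_mem]
        | succ k ih =>
          intro i l
          rw [pow_succ, pow_succ, mul_apply, Finset.sum_div]
          refine sum_mem fun m _ => ?_
          rw [mul_div_mul_comm]
          exact F₁.mul_mem (ih i m) (hle₁ (hc m l))
      have hcmem : c ∈ F₁ := by
        have h := hsub p ⟨0, by omega⟩ ⟨0, by omega⟩
        rw [hMk, CharP.cast_eq_zero F p, zero_smul, add_zero, one_apply_eq, one_div] at h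
        rw [← hfix]
        refine frobenius_inj F p ?_
        show (τ c) ^ p = c ^ p
        rw [← map_pow]
        exact (hfix _).2 (by simpa using F₁.inv_mem h)
      have hN : ∀ i l, u' i * φ' l ∈ F₁ := by
        intro i l
        have h := F₁.mul_mem (hle₁ (hc i l)) hcmem
        rw [div_mul_cancel₀ _ hc0, hM,
          Matrix.add_apply, vecMulVec_apply, one_apply] at h
        split at h
        · simpa using F₁.sub_mem h F₁.one_mem
        · simpa using h
      refine ⟨φ' j / τ (φ' j), ?_⟩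
      show (P : Matrix (Fin n) (Fin n) F) *ᵥ (fun i => τ (u' i)) = _
      rw [show u = (P : Matrix (Fin n) (Fin n) F) *ᵥ u' from (mulVec_inv_cancel P u).symm, ← mulVec_smul]
      congr 1
      funext i
      have h := (hfix _).2 (hN i j)
      rw [map_mul] at h
      rw [Pi.smul_apply, smul_eq_mul, div_mul_eq_mul_div, eq_div_iff ((map_ne_zero _).2 hj), h, mul_comm]
  obtain ⟨S, hS, hSn⟩ := exists_zetas K
  set i₀ : Fin n := ⟨0, by omega⟩
  set i₁ : Fin n := ⟨1, by omega⟩
  have h01 : i₀ ≠ i₁ := by simp [i₀, i₁]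
  have hd0 : d i₀ ≠ 0 := by
    intro e
    have h := hd i₀
    rw [e, zero_smul] at h
    have h2 := congrArg (fun v => (↑P⁻¹ : Matrix (Fin n) (Fin n) F) *ᵥ v) h
    simp only [Θ, inv_mulVec_cancel, mulVec_zero] at h2
    have h3 : (↑P⁻¹ : Matrix (Fin n) (Fin n) F) *ᵥ Pi.single i₀ 1 = 0 := funext fun i => by
      have := congrFun h2 i
      exact τ.injective (by simpa using this)
    have h4 : (Pi.single i₀ 1 : Fin n → F) = 0 := by
      rw [← mulVec_inv_cancel P (Pi.single i₀ 1), h3, mulVec_zero]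
    exact one_ne_zero (α := F) (by simpa using congrFun h4 i₀)
  obtain ⟨z₀, hz₀⟩ := Finset.card_pos.1 (show 0 < S.card by omega)
  have hz0 : ∀ z ∈ S, z ≠ 0 := fun z hz e => by
    have := hSn z hz
    rw [e, zero_mul] at this
    exact one_ne_zero (neg_eq_zero.1 this.symm)
  have hmem : ∀ z ∈ S, z / z₀ ∈ F₁ := by
    intro z hz
    refine (hfix _).1 ?_
    rw [map_div₀, div_eq_div_iff ((map_ne_zero _).2 (hz0 _ hz₀)) (hz0 _ hz₀)]
    refine mul_right_cancel₀ hd0 ?_
    linear_combination z₀ * hrel i₀ i₁ h01 z (hSn z hz) - z * hrel i₀ i₁ h01 z₀ (hSn z₀ hz₀)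
  haveI := Fintype.ofFinite F₁
  have hsub : insert 0 (S.image fun z => z / z₀) ⊆ Finset.univ.image (Subtype.val : F₁ → F) := by
    intro x hx
    refine Finset.mem_image.2 ⟨⟨x, ?_⟩, Finset.mem_univ _, rfl⟩
    rcases Finset.mem_insert.1 hx with rfl | hx
    · exact F₁.zero_mem
    · obtain ⟨z, hz, rfl⟩ := Finset.mem_image.1 hx
      exact hmem z hz
  have h0 : (0 : F) ∉ S.image fun z => z / z₀ := fun h => by
    obtain ⟨z, hz, e⟩ := Finset.mem_image.1 h
    exact div_ne_zero (hz0 z hz) (hz0 _ hz₀) e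
  have hc := Finset.card_le_card hsub
  rw [Finset.card_insert_of_notMem h0, Finset.card_image_of_injective _ fun a b e =>
    div_left_inj' (hz0 _ hz₀) |>.1 e, Finset.card_image_of_injective _ Subtype.val_injective,
    Finset.card_univ, ← Nat.card_eq_fintype_card, hS] at hc
  have hq2 := K.card
  rw [Nat.card_eq_fintype_card, hcard] at hq2
  have h1 : Nat.card F₁ ^ 2 ≤ q ^ 2 := hq2 ▸ Nat.pow_le_pow_right (by omega) hr.two_le
  have := (Nat.pow_le_pow_iff_left two_ne_zero).1 h1
  omega

/-- `SU(n, q)` normalises no small group of symplectic type. -/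
theorem sugl_not_le_subgroupNormalizer (hn : n.Prime) (hn2 : n ≠ 2) (hq : 5 ≤ n ∨ 5 ≤ q)
    {R : Subgroup (GL (Fin n) F)} (hR : R ≤ specialLinear (Fin n) F)
    (habs : ActsAbsolutelyIrreducibly (matrixSet R)) (hcard : Nat.card R = n ^ 3)
    (hcen : Nat.card (Subgroup.center R) = n) :
    ¬ SUGL n F q ≤ Cfsg.Geo.subgroupNormalizer R := by
  classical
  intro hle
  haveI : Finite (GL (Fin n) F) := Finite.of_injective _ Units.val_injective
  haveI : Fact n.Prime := ⟨hn⟩
  haveI : Nonempty (Fin n) := ⟨⟨0, hn.pos⟩⟩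
  have h3 : 3 ≤ n := by have := hn.two_le; omega
  -- commutators are central
  have hscal : ∀ a : R, a ∈ Subgroup.center R → (a : GL (Fin n) F) ∈ scalars (Fin n) F := fun a ha =>
    scalar_of_comm habs fun b hb => (congrArg Subtype.val (Subgroup.mem_center_iff.1 ha ⟨b, hb⟩)).symm
  have hcomm : ∀ a ∈ R, ∀ b ∈ R, ∃ u : Fˣ, u ^ n = 1 ∧ a * b = sc u * (b * a) := by
    intro a ha b hb
    have hq : Nat.card (R ⧸ Subgroup.center R) = n ^ 2 := by
      have := (Subgroup.center R).card_eq_card_quotient_mul_card_subgroup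
      rw [hcard, hcen, pow_succ] at this
      exact (Nat.eq_of_mul_eq_mul_right hn.pos this).symm
    have h := IsPGroup.commutative_of_card_eq_prime_sq hq (QuotientGroup.mk (⟨a, ha⟩ : R)) (QuotientGroup.mk ⟨b, hb⟩)
    rw [← QuotientGroup.mk_mul, ← QuotientGroup.mk_mul, QuotientGroup.eq_iff_div_mem] at h
    have hmem : a * b * (b * a)⁻¹ ∈ R := mul_mem (mul_mem ha hb) (inv_mem (mul_mem hb ha))
    obtain ⟨u, hu⟩ := eq_sc_of_mem_scalars (hscal _ h)
    refine ⟨u, ?_, ?_⟩
    · refine pow_eq_one_of_scalar hR ?_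
      rw [← hu]
      exact (_ : R).2
    · rw [← hu]
      simp [div_eq_mul_inv, mul_assoc]
  -- non-scalar elements fix at most a line, and few elements fix a given vector
  have hfixscalar : ∀ (u : Fˣ) (v : Fin n → F), v ≠ 0 →
      ((sc u : GL (Fin n) F) : Matrix (Fin n) (Fin n) F) *ᵥ v = v → u = 1 := by
    intro u v hv h
    rw [sc_mulVec] at h
    refine Units.ext (sub_eq_zero.1 ((smul_eq_zero.1 (show ((u : F) - 1) • v = 0 by
      rw [sub_smul, one_smul, h, sub_self])).resolve_right hv))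
  have hline : ∀ a ∈ R, a ∉ scalars (Fin n) F → ∀ U : Submodule F (Fin n → F),
      (∀ v ∈ U, (a : Matrix (Fin n) (Fin n) F) *ᵥ v = v) → Module.finrank F U ≤ 1 := by
    intro a ha has U hU
    obtain ⟨b, hb, d, hdn, hd, hd1⟩ : ∃ b ∈ R, ∃ d : Fˣ, d ^ n = 1 ∧ a * b = sc d * (b * a) ∧ d ≠ 1 := by
      by_contra hc
      push Not at hc
      refine has (scalar_of_comm habs fun b hb => ?_)
      obtain ⟨d, hdn, hd⟩ := hcomm a ha b hb
      rwa [hc b hb d hdn hd, sc, map_one, one_mul] at hd
    have hord : orderOf d = n := orderOf_eq_prime hdn hd1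
    have hab : ∀ i : ℕ, a * b ^ i = sc (d ^ i) * (b ^ i * a) := by
      intro i
      induction i with
      | zero => simp [sc]
      | succ i ih =>
        rw [pow_succ, ← mul_assoc, ih, mul_assoc (sc (d ^ i)), mul_assoc (b ^ i), hd, ← mul_assoc (b ^ i),
          ← sc_comm d (b ^ i), pow_succ d]
        simp only [sc, map_mul, mul_assoc]
    let E : Fin n → Submodule F (Fin n → F) := fun i =>
      U.map (Matrix.toLin' ((b ^ (i : ℕ) : GL (Fin n) F) : Matrix (Fin n) (Fin n) F))
    have hE : ∀ i, E i ≤ Module.End.eigenspace (Matrix.toLin' (a : Matrix (Fin n) (Fin n) F)) ((d : F) ^ (i : ℕ)) := by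
      rintro i _ ⟨v, hv, rfl⟩
      rw [Module.End.mem_eigenspace_iff]
      have h := congrArg (fun g : GL (Fin n) F => (g : Matrix (Fin n) (Fin n) F) *ᵥ v) (hab i)
      simp only [Units.val_mul, ← mulVec_mulVec, hU v hv, sc_mulVec, Units.val_pow_eq_pow_val] at h
      rw [Matrix.toLin'_apply, Matrix.toLin'_apply, Units.val_pow_eq_pow_val]
      exact h
    have hinj : Function.Injective fun i : Fin n => (d : F) ^ (i : ℕ) := fun i j hij =>
      Fin.ext (pow_injOn_Iio_orderOf (x := d) (by simp [hord]) (by simp [hord]) (Units.ext (by simpa using hij)))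
    have hind : iSupIndep E := ((Module.End.eigenspaces_iSupIndep _).comp hinj).mono hE
    have h := LinearMap.finrank_le_finrank_of_injective hind.dfinsupp_lsum_injective
    have hEd : ∀ i, Module.finrank F (E i) = Module.finrank F U := fun i =>
      (Submodule.equivMapOfInjective _ (mulVec_injective _) U).finrank_eq.symm
    change Module.finrank F (DirectSum (Fin n) fun i => E i) ≤ _ at h
    rw [Module.finrank_directSum, Finset.sum_congr rfl (fun i _ => hEd i), Finset.sum_const, Finset.card_univ,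
      Fintype.card_fin, smul_eq_mul, Module.finrank_fin_fun] at h
    exact Nat.le_of_mul_le_mul_left (h.trans (mul_one n).ge) hn.pos
  have hfew : ∀ v : Fin n → F, v ≠ 0 →
      Nat.card {a : R // ((a : GL (Fin n) F) : Matrix (Fin n) (Fin n) F) *ᵥ v = v} ≤ n := by
    intro v hv
    by_cases hex : ∃ a : R, ((a : GL (Fin n) F) : Matrix (Fin n) (Fin n) F) *ᵥ v = v ∧ a ≠ 1
    swap
    · push Not at hex
      haveI : Subsingleton {a : R // ((a : GL (Fin n) F) : Matrix (Fin n) (Fin n) F) *ᵥ v = v} :=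
        ⟨fun a b => Subtype.ext ((hex _ a.2).trans (hex _ b.2).symm)⟩
      exact Finite.card_le_one_iff_subsingleton.2 inferInstance |>.trans hn.one_le
    obtain ⟨a, hav, ha1⟩ := hex
    have hne : (a : GL (Fin n) F) ∉ scalars (Fin n) F := fun hs => by
      obtain ⟨u, hu⟩ := eq_sc_of_mem_scalars hs
      rw [hu] at hav
      exact ha1 (Subtype.ext (by rw [hu, hfixscalar u v hv hav]; simp [sc]))
    let C := Subgroup.centralizer ({a} : Set R)
    have hC : Nat.card C ≤ n ^ 2 := by
      have hdvd : Nat.card C ∣ n ^ 3 := hcard ▸ C.card_subgroup_dvd_card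
      obtain ⟨k, hk, hCk⟩ := (Nat.dvd_prime_pow hn).1 hdvd
      rcases hk.eq_or_lt with rfl | hk'
      · exfalso
        refine hne (scalar_of_comm habs fun b hb => ?_)
        have htop : C = ⊤ := Subgroup.eq_top_of_card_eq _ (by rw [hCk, hcard])
        have hm : (⟨b, hb⟩ : R) ∈ C := by rw [htop]; exact Subgroup.mem_top _
        exact congrArg Subtype.val (Subgroup.mem_centralizer_singleton_iff.1 hm).symm
      · rw [hCk]; exact Nat.pow_le_pow_right hn.pos (by omega)
    let ψ : {b : R // ((b : GL (Fin n) F) : Matrix (Fin n) (Fin n) F) *ᵥ v = v} × Subgroup.center R → C :=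
      fun bz => ⟨bz.1.1 * bz.2.1, by
        refine mul_mem ?_ (Subgroup.mem_centralizer_singleton_iff.2 ((Subgroup.mem_center_iff.1 bz.2.2 a)).symm)
        rw [Subgroup.mem_centralizer_singleton_iff]
        obtain ⟨u, hun, hu⟩ := hcomm _ bz.1.1.2 _ a.2
        have h := congrArg (fun g : GL (Fin n) F => (g : Matrix (Fin n) (Fin n) F) *ᵥ v) hu
        simp only [Units.val_mul, ← mulVec_mulVec, hav, bz.1.2] at h
        rw [hfixscalar u v hv h.symm] at hu
        exact Subtype.ext (by rw [Subgroup.coe_mul, Subgroup.coe_mul, hu]; simp [sc])⟩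
    have hψ : Function.Injective ψ := by
      rintro ⟨⟨b, hb⟩, z⟩ ⟨⟨b', hb'⟩, z'⟩ e
      have e1 : b * z.1 = b' * z'.1 := congrArg Subtype.val e
      obtain ⟨s, hs⟩ := eq_sc_of_mem_scalars (hscal _ z.2)
      obtain ⟨s', hs'⟩ := eq_sc_of_mem_scalars (hscal _ z'.2)
      have e2 : (b : GL (Fin n) F) * sc s = (b' : GL (Fin n) F) * sc s' := by
        rw [← hs, ← hs']; exact congrArg Subtype.val e1
      have h := congrArg (fun g : GL (Fin n) F => (g : Matrix (Fin n) (Fin n) F) *ᵥ v) e2
      simp only [Units.val_mul, ← mulVec_mulVec, sc_mulVec, mulVec_smul, hb, hb'] at h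
      have hss : s = s' := Units.ext (smul_left_injective F hv h)
      have hz : z = z' := Subtype.ext (Subtype.ext (by rw [hs, hs', hss]))
      subst hz
      exact Prod.ext (Subtype.ext (mul_right_cancel e1)) rfl
    have h := Nat.card_le_card_of_injective ψ hψ
    rw [Nat.card_prod, hcen] at h
    exact Nat.le_of_mul_le_mul_right (h.trans (hC.trans (sq n).le)) hn.pos
  -- a non-scalar element and a transvection not commuting with it
  obtain ⟨z, hz, hzs⟩ : ∃ z ∈ R, z ∉ scalars (Fin n) F := by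
    by_contra hc
    push Not at hc
    have hcenter : Subgroup.center R = ⊤ := eq_top_iff.2 fun a _ => Subgroup.mem_center_iff.2 fun b => by
      obtain ⟨s, hs⟩ := eq_sc_of_mem_scalars (hc a a.2)
      exact Subtype.ext (by rw [Subgroup.coe_mul, Subgroup.coe_mul, hs, sc_comm])
    rw [hcenter, Subgroup.card_top, hcard] at hcen
    exact absurd hcen (by
      have : n ^ 1 < n ^ 3 := Nat.pow_lt_pow_right hn.one_lt (by norm_num)
      rw [pow_one] at this
      omega)
  obtain ⟨u, hu, hu0, hzu⟩ : ∃ u, hermForm n F q u u = 0 ∧ u ≠ 0 ∧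
      ∀ s : F, (z : Matrix (Fin n) (Fin n) F) *ᵥ u ≠ s • u := by
    by_contra hc
    push Not at hc
    refine hzs ?_
    obtain ⟨d, hd, hrel⟩ := eigen_isotropic K h3 (τ := RingEquiv.refl F)
      (Θ := fun x => (z : Matrix (Fin n) (Fin n) F) *ᵥ x) (fun x y => mulVec_add _ _ _)
      (fun c x => mulVec_smul _ _ _) fun u hu => by
        by_cases hu0 : u = 0
        · exact ⟨0, by rw [hu0]; simp⟩
        exact hc u hu hu0
    obtain ⟨w, hw⟩ := K.exists_norm (-1) (by rw [map_neg, map_one])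
    have hw0 : w ≠ 0 := fun e => by simp [e] at hw
    set i₀ : Fin n := ⟨0, hn.pos⟩
    have hall : ∀ i, d i = d i₀ := fun i => by
      by_cases hi : i = i₀
      · rw [hi]
      · exact mul_left_cancel₀ hw0 (hrel i i₀ hi w hw)
    have hm : (z : Matrix (Fin n) (Fin n) F) = d i₀ • 1 := Matrix.ext_of_mulVec_single fun i => by
      rw [hd, hall, smul_mulVec, one_mulVec]
    exact (Cfsg.Geo.mem_scalars_iff z).2 ⟨Units.mk0 _ fun e => z.ne_zero (by rw [hm, e, zero_smul]), hm⟩
  -- the family of commutators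
  choose t φ ht hφ hti htv using fun l : {l : F // l + K.bar l = 0} => exists_utv K hu l.2
  have hw : ∀ l, z⁻¹ * (t l * z * (t l)⁻¹) ∈ R := fun l =>
    mul_mem (inv_mem hz) (((Subgroup.mem_normalizer_iff.1 (hle (ht l))) z).1 hz)
  -- the fixed space
  let f₁ : (Fin n → F) →ₗ[F] F × F :=
    { toFun := fun v => (hermForm n F q v u, hermForm n F q ((z : Matrix (Fin n) (Fin n) F) *ᵥ v) u)
      map_add' := fun x y => by simp [mulVec_add, h_add_left K]
      map_smul' := fun c x => by simp [mulVec_smul, h_smul_left K] }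
  have hU : n - 2 ≤ Module.finrank F (LinearMap.ker f₁) := by
    have h := LinearMap.finrank_range_add_finrank_ker f₁
    have h2 := Submodule.finrank_le (LinearMap.range f₁)
    rw [Module.finrank_prod, Module.finrank_self] at h2
    rw [Module.finrank_fin_fun] at h
    omega
  have hwfix : ∀ l, ∀ v ∈ LinearMap.ker f₁,
      ((z⁻¹ * (t l * z * (t l)⁻¹) : GL (Fin n) F) : Matrix (Fin n) (Fin n) F) *ᵥ v = v := by
    intro l v hv
    have hv' := LinearMap.mem_ker.1 hv
    have h1 : hermForm n F q v u = 0 := congrArg Prod.fst hv'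
    have h2 : hermForm n F q ((z : Matrix (Fin n) (Fin n) F) *ᵥ v) u = 0 := congrArg Prod.snd hv'
    have hti' : (↑(t l)⁻¹ : Matrix (Fin n) (Fin n) F) *ᵥ v = v := by
      rw [show (↑(t l)⁻¹ : Matrix (Fin n) (Fin n) F) = _ from hti l, sub_mulVec, one_mulVec, vecMulVec_mulVec,
        op_smul_eq_smul, hφ, h1, mul_zero, zero_smul, sub_zero]
    rw [Units.val_mul, ← mulVec_mulVec, Units.val_mul, ← mulVec_mulVec, hti', Units.val_mul, ← mulVec_mulVec,
      transvection_mulVec (htv l), hφ, h2, mul_zero, zero_smul, add_zero, inv_mulVec_cancel]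
  obtain ⟨v₀, hv₀, hv₀0⟩ := Submodule.exists_mem_ne_zero_of_ne_bot (p := LinearMap.ker f₁) fun e => by
    rw [e, finrank_bot] at hU
    omega
  have hq' : 5 ≤ n ∨ n = 3 ∧ 5 ≤ q := by
    rcases hn.odd_of_ne_two hn2 with ⟨k, hk⟩
    omega
  rcases hq' with hn5 | ⟨hn3, hq5⟩
  · obtain ⟨θ, hθ0, hθ⟩ := exists_skew K
    set l : {l : F // l + K.bar l = 0} := ⟨θ, hθ⟩
    have hs : z⁻¹ * (t l * z * (t l)⁻¹) ∈ scalars (Fin n) F := by
      by_contra hs
      have := hline _ (hw l) hs _ (hwfix l)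
      omega
    obtain ⟨s, hs⟩ := eq_sc_of_mem_scalars hs
    have h := hwfix l v₀ hv₀
    rw [hs] at h
    rw [hfixscalar s v₀ hv₀0 h, sc, map_one, inv_mul_eq_one, eq_mul_inv_iff_mul_eq] at hs
    obtain ⟨⟨x, hx⟩, -⟩ := (herm_sesq K).nd u hu0
    have h4 := congrArg (fun g : GL (Fin n) F => (g : Matrix (Fin n) (Fin n) F) *ᵥ x) hs
    simp only [Units.val_mul, ← mulVec_mulVec, transvection_mulVec (htv l), mulVec_add, mulVec_smul,
      add_right_inj, hφ] at h4
    have h5 := congrArg (fun v => (θ * hermForm n F q x u)⁻¹ • v) h4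
    simp only [l, smul_smul, inv_mul_cancel₀ (mul_ne_zero hθ0 hx), one_smul] at h5
    exact hzu _ h5
  · let ψ : {l : F // l + K.bar l = 0} →
        {a : R // ((a : GL (Fin n) F) : Matrix (Fin n) (Fin n) F) *ᵥ v₀ = v₀} :=
      fun l => ⟨⟨_, hw l⟩, hwfix l v₀ hv₀⟩
    have hψ : Function.Injective ψ := by
      intro l l' e
      have e1 : t l * z * (t l)⁻¹ = t l' * z * (t l')⁻¹ :=
        mul_left_cancel (congrArg (fun a : {a : R // _} => ((a : R) : GL (Fin n) F)) e)
      have e2 : ((t l')⁻¹ * t l) * z = z * ((t l')⁻¹ * t l) := by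
        calc (t l')⁻¹ * t l * z = (t l')⁻¹ * (t l * z * (t l)⁻¹) * t l := by simp [mul_assoc]
          _ = _ := by rw [e1]; simp [mul_assoc]
      have hT : ∀ x, (((t l')⁻¹ * t l : GL (Fin n) F) : Matrix (Fin n) (Fin n) F) *ᵥ x =
          x + (((l : F) - l') * hermForm n F q x u) • u := by
        intro x
        rw [Units.val_mul, ← mulVec_mulVec, transvection_mulVec (htv l), show (↑(t l')⁻¹ : Matrix (Fin n) (Fin n) F) =
          _ from hti l', sub_mulVec, one_mulVec, vecMulVec_mulVec, op_smul_eq_smul, hφ, hφ, h_add_left K,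
          h_smul_left K, hu, mul_zero, add_zero, sub_mul, sub_smul]
        abel
      by_contra hne
      have hl : (l : F) - l' ≠ 0 := sub_ne_zero.2 fun h => hne (Subtype.ext h)
      obtain ⟨⟨x, hx⟩, -⟩ := (herm_sesq K).nd u hu0
      have h4 := congrArg (fun g : GL (Fin n) F => (g : Matrix (Fin n) (Fin n) F) *ᵥ x) e2
      rw [Units.val_mul, Units.val_mul (z) _, ← mulVec_mulVec, ← mulVec_mulVec, hT, hT, mulVec_add, mulVec_smul,
        add_right_inj] at h4
      have h5 := congrArg (fun v => (((l : F) - l') * hermForm n F q x u)⁻¹ • v) h4.symm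
      simp only [smul_smul, inv_mul_cancel₀ (mul_ne_zero hl hx), one_smul] at h5
      exact hzu _ h5
    have h1 := Nat.card_le_card_of_injective ψ hψ
    have h2 : q ≤ Nat.card {l : F // l + K.bar l = 0} := by
      obtain ⟨θ, hθ0, hθ⟩ := exists_skew K
      have hinj : Function.Injective fun c : AutPSL.fixedField K.bar =>
          (⟨(c : F) * θ, by rw [map_mul, show K.bar (c : F) = c from c.2, ← mul_add, hθ, mul_zero]⟩ :
            {l : F // l + K.bar l = 0}) :=
        fun a b e => Subtype.ext (mul_right_cancel₀ hθ0 (congrArg Subtype.val e))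
      have h := Nat.card_le_card_of_injective _ hinj
      have h' := AutPSL.card_fixedField_pow K.orderOf_bar
      rw [K.card, Nat.pow_left_inj two_ne_zero] at h'
      rwa [h'] at h
    have h3' := hfew v₀ hv₀0
    omega

end

end CfsgLib.PrimeDim
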