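import Cfsg.Agent.Lib.Classical.AschFormTensor
import Cfsg.Agent.Lib.Classical.AschSympTensor
import Cfsg.Agent.Lib.Classical.LinearHerm
import Cfsg.Agent.Lib.Classical.PrimeDimHermitian
import Cfsg.Agent.Lib.Classical.PrimeDimOrthBasic
import Cfsg.Agent.Lib.Classical.UnitaryOrder

set_option autoImplicit false
set_option linter.unusedSectionVars false

/-!
The standard unitary form as a matrix form, hermitian matrices, and subfields carrying the unitary form.
-/

namespace CfsgLib.Asch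

open Matrix
open Cfsg.Geo (matrixSet scalars ActsIrreducibly ActsAbsolutelyIrreducibly)
open CfsgLib.PrimeDim (Inv Nml sc sc_val)
open CfsgLib.ClassicalAut (Unitary.Conj Unitary.herm_apply)
open scoped MatrixGroups

variable {F : Type*} [Field F] [Fintype F] {q n : ℕ} (K : Unitary.Conj F q)

theorem herm_sform (u v : Fin n → F) :
    Cfsg.hermForm n F q u v = sform K.bar 1 u v := by
  rw [Unitary.herm_apply K, sform, one_mulVec]
  rfl

theorem herm_eq : Cfsg.hermForm n F q = sform K.bar (1 : Matrix (Fin n) (Fin n) F) :=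
  funext₂ (herm_sform K)

theorem std_data : FormData K.bar (1 : Matrix (Fin n) (Fin n) F) 1 :=
  ⟨isUnit_one, K.bar_bar, by rw [map_one, Matrix.transpose_one, one_smul]⟩

theorem iso_of_gu {g : GL (Fin n) F} (hg : g ∈ Cfsg.GU n F q) : Iso K.bar 1 g.val := by
  rw [iso_iff]
  intro u v
  rw [← herm_sform K, ← herm_sform K]
  exact hg u v

/-- Hilbert's theorem 90 for the involution. -/
theorem hilbert90 {c : F} (hc : c * K.bar c = 1) : ∃ a : F, a ≠ 0 ∧ K.bar a * c = a := by
  obtain ⟨y, hy⟩ := K.exists_moved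
  have key : ∀ b, K.bar (b + c * K.bar b) * c = b + c * K.bar b := fun b => by
    rw [map_add, map_mul, K.bar_bar]
    linear_combination b * hc
  by_cases h1 : (1 : F) + c * K.bar 1 = 0
  · refine ⟨y + c * K.bar y, fun e => hy ?_, key y⟩
    rw [map_one, mul_one] at h1
    linear_combination -e + K.bar y * h1
  · exact ⟨_, h1, key 1⟩

/-- A reflexive form is a scalar multiple of a hermitian one. -/
theorem exists_herm_scale {B : Matrix (Fin n) (Fin n) F} {c : F} (hB : FormData K.bar B c) (hc : c * K.bar c = 1) :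
    ∃ a : F, a ≠ 0 ∧ FormData K.bar (a • B) 1 := by
  obtain ⟨a, ha, hac⟩ := hilbert90 K hc
  refine ⟨a, ha, ?_, K.bar_bar, ?_⟩
  · rw [Matrix.isUnit_iff_isUnit_det, Matrix.det_smul]
    exact ((Ne.isUnit ha).pow _).mul hB.det
  · rw [bm_smul, Matrix.transpose_smul, hB.herm, smul_smul, hac, one_smul]

theorem unitaryPow {k : ℕ} {B : Matrix (Fin k) (Fin k) F} (hB : FormData K.bar B 1) :
    Cfsg.Geo.IsUnitaryFormPow q (sform K.bar B) :=
  ⟨sform_add_left _ _, sform_smul_left _ _, fun v w => by rw [← K.bar_apply, hB.swap, one_mul], hB.nondegenerate⟩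

/-- Hermitian forms of the same dimension are equivalent. -/
theorem exists_herm_basis {k : ℕ} {B : Matrix (Fin k) (Fin k) F} (hB : FormData K.bar B 1) :
    ∃ C : GL (Fin k) F, C.valᵀ * B * bm K.bar C.val = 1 := by
  obtain ⟨q', ⟨K'⟩, P, hP⟩ := Classical.HermSim.exists_coord K.bar (sform K.bar B)
    ⟨fun e => by obtain ⟨y, hy⟩ := K.exists_moved; exact hy (by rw [e]; rfl), K.bar_bar, sform_add_left _ _,
      sform_smul_left _ _, fun v w => by rw [hB.swap, one_mul], hB.nondegenerate⟩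
  obtain rfl : q' = q := Nat.pow_left_injective two_ne_zero (K'.card.symm.trans K.card)
  refine ⟨P, sform_ext K.bar _ fun u v => ?_⟩
  rw [← sform_mulVec, hP, herm_sform K]

/-- An invariant bilinear form together with the unitary form gives realisability over a proper subfield. -/
theorem realisable_of_bilinear (hn : 1 ≤ n) {N : Subgroup (GL (Fin n) F)}
    (hN : ∀ g ∈ N, Iso K.bar 1 g.val) (habs : ActsAbsolutelyIrreducibly (matrixSet N))
    {B : Matrix (Fin n) (Fin n) F} (hB : IsUnit B) (hfix : ∀ g ∈ N, g.valᵀ * B * g.val = B) :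
    ∃ F₀ : Subfield F, F₀ ≠ ⊤ ∧ Cfsg.Geo.RealisableOver F₀ (matrixSet N) := by
  refine PrimeDim.realisable_of_semilinear hn habs (σ := K.bar)
    (fun e => by obtain ⟨y, hy⟩ := K.exists_moved; exact hy (by rw [e]; rfl)) K.bar_bar
    (M := fun v => ⇑K.bar ∘ (B *ᵥ v)) (fun x y => ?_) (fun c x => ?_) (fun v hv => ?_) fun z hz y => ?_
  · funext i; simp [mulVec_add]
  · funext i; simp [mulVec_smul]
  · refine (Matrix.mulVec_injective_iff_isUnit.2 hB) (funext fun i => ?_)
    have := congrFun hv i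
    simpa using this
  · have e1 : z.valᵀ * bm K.bar z.val = 1 := by
      have := hN z hz
      rwa [Iso, mul_one] at this
    have e2 : bm K.bar z.val * z.valᵀ = 1 := mul_eq_one_comm.1 e1
    have e3 : B * z.val = bm K.bar z.val * B := by
      conv_rhs => rw [← hfix z hz]
      simp only [← mul_assoc]
      rw [e2, one_mul]
    have e4 : B *ᵥ (z.val *ᵥ y) = bm K.bar z.val *ᵥ (B *ᵥ y) := by rw [mulVec_mulVec, mulVec_mulVec, e3]
    show ⇑K.bar ∘ (B *ᵥ (z.val *ᵥ y)) = z.val *ᵥ (⇑K.bar ∘ (B *ᵥ y))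
    rw [e4, ← bm_mulVec, bm_bm K.bar_bar]

/-- `H` lies in a subfield group carrying the unitary form. -/
def URationalCase (q : ℕ) (H : Subgroup (GL (Fin n) F)) : Prop :=
  (∃ (F₀ : Subfield F) (r : ℕ) (P : GL (Fin n) F), r.Prime ∧ Odd r ∧ Fintype.card F = Nat.card F₀ ^ r ∧
    Cfsg.Geo.IsFormRationalStructure (Cfsg.hermForm n F q) F₀ 1 P ∧ H ≤ Cfsg.Geo.subfieldSubgroup F₀ P) ∨
  (∃ (F₀ : Subfield F) (P : GL (Fin n) F), Odd q ∧ Fintype.card F = Nat.card F₀ ^ 2 ∧
    Cfsg.Geo.IsFormRationalStructure (Cfsg.hermForm n F q) F₀ 1 P ∧ H ≤ Cfsg.Geo.subfieldSubgroup F₀ P) ∨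
  (∃ (F₀ : Subfield F) (P : GL (Fin n) F) (ζ : F), Even n ∧ Fintype.card F = Nat.card F₀ ^ 2 ∧ ζ ≠ 0 ∧
    ζ + ζ ^ q = 0 ∧ Cfsg.Geo.IsFormRationalStructure (Cfsg.hermForm n F q) F₀ ζ P ∧
    (∀ u : Fin n → F, (∀ i, u i ∈ F₀) →
      Cfsg.hermForm n F q ((P : Matrix (Fin n) (Fin n) F) *ᵥ u) ((P : Matrix (Fin n) (Fin n) F) *ᵥ u) = 0) ∧
    H ≤ Cfsg.Geo.subfieldSubgroup F₀ P)

include K in
theorem card_fixed_of_two {F₀ : Subfield F} (h : Fintype.card F = Nat.card F₀ ^ 2) : Nat.card F₀ = q := by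
  have h' := K.card
  rw [Nat.card_eq_fintype_card, h] at h'
  exact Nat.pow_left_injective two_ne_zero h'

theorem bar_eq_self_of_mem {F₀ : Subfield F} (h : Fintype.card F = Nat.card F₀ ^ 2) {c : F} (hc : c ∈ F₀) :
    K.bar c = c := by
  haveI := Fintype.ofFinite F₀
  rw [K.bar_apply, ← card_fixed_of_two K h, Nat.card_eq_fintype_card]
  exact congrArg Subtype.val (FiniteField.pow_card (⟨c, hc⟩ : F₀))

/-- A subfield of odd index contains elements moved by the involution. -/
theorem exists_moved_mem {F₀ : Subfield F} {r : ℕ} (hr : Odd r) (h : Fintype.card F = Nat.card F₀ ^ r) :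
    ∃ y ∈ F₀, K.bar y ≠ y := by
  classical
  by_contra hc
  push Not at hc
  let Fq : Subfield F := RingHom.eqLocusField (K.bar : F →+* F) (RingHom.id F)
  have hle : F₀ ≤ Fq := fun c hc' => hc c hc'
  have hFq : Nat.card Fq = q := by
    have h2 := AutPSL.card_fixedField_pow K.orderOf_bar
    rw [K.card] at h2
    exact Nat.pow_left_injective two_ne_zero h2
  letI : Algebra F₀ Fq := (Subfield.inclusion hle).toAlgebra
  have hs := Module.natCard_eq_pow_finrank (K := F₀) (V := Fq)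
  rw [hFq] at hs
  have h1 : 2 ≤ Nat.card F₀ := Finite.one_lt_card
  have hF := K.card
  rw [Nat.card_eq_fintype_card, h, hs, ← pow_mul] at hF
  have e := Nat.pow_right_injective h1 hF
  obtain ⟨l, rfl⟩ := hr
  omega

/-- Realisability over a subfield puts the group in a subfield group carrying the unitary form. -/
theorem urational_of_realisable (hn : 2 ≤ n) {H N : Subgroup (GL (Fin n) F)}
    (hH : ∀ g ∈ H, Iso K.bar 1 g.val) (hN : Nml H N) (habs : ActsAbsolutelyIrreducibly (matrixSet N))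
    {F₀ : Subfield F} (hF₀ : F₀ ≠ ⊤) (hreal : Cfsg.Geo.RealisableOver F₀ (matrixSet N)) :
    URationalCase q H := by
  classical
  have hn1 : 1 ≤ n := by omega
  haveI : Nonempty (Fin n) := ⟨⟨0, hn1⟩⟩
  obtain ⟨F₁, r, P, σ, hr, -, hcard, hfix, hrat, hle⟩ := PrimeDim.subfield_data hn1 hN habs hF₀ hreal
  have hbar : ∀ c ∈ F₁, K.bar c ∈ F₁ := fun c hc => by rw [K.bar_apply]; exact pow_mem hc q
  let e₀ : Fin n ≃ Fin n := Equiv.refl _
  obtain ⟨B, hB⟩ : ∃ B, B = fcoord K.bar 1 e₀ P := ⟨_, rfl⟩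
  have hBd : FormData K.bar B 1 := hB ▸ fcoord_data (std_data K) e₀ P
  obtain ⟨T, hT⟩ : ∃ T : Subgroup (GL (Fin n) F), T = N.map (MulAut.conj P⁻¹).toMonoidHom := ⟨_, rfl⟩
  have hTmem : ∀ z ∈ T, ∃ x ∈ N, z = P⁻¹ * x * P := by
    rw [hT]
    rintro _ ⟨x, hx, rfl⟩
    exact ⟨x, hx, by simp⟩
  have hTrat : ∀ z ∈ T, ∀ i j, z.val i j ∈ F₁ := by
    intro z hz i j
    obtain ⟨x, hx, rfl⟩ := hTmem z hz
    exact hrat x hx i j
  have hTfix : ∀ z ∈ T, bm (σ : F ≃+* F) z.val = z.val := fun z hz =>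
    Matrix.ext fun i j => (hfix _).2 (hTrat z hz i j)
  have hTB : ∀ z ∈ T, z.valᵀ * B * bm K.bar z.val = B := by
    intro z hz
    obtain ⟨x, hx, rfl⟩ := hTmem z hz
    have h1 := fcoord_iso (e := e₀) (P := P) (τ := K.bar) (J := (1 : Matrix (Fin n) (Fin n) F))
      (hH x (hN.le hx))
    rw [hB]
    simpa [tcoord, e₀, mul_assoc] using h1
  have hTmat : matrixSet T = (fun X : Matrix (Fin n) (Fin n) F => (P⁻¹).val * X * P.val) '' matrixSet N := by
    rw [hT]
    ext X
    constructor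
    · rintro ⟨_, ⟨x, hx, rfl⟩, rfl⟩
      exact ⟨_, ⟨x, hx, rfl⟩, by simp⟩
    · rintro ⟨_, ⟨x, hx, rfl⟩, rfl⟩
      exact ⟨_, ⟨x, hx, rfl⟩, by simp⟩
  have hTirr : ActsIrreducibly (matrixSet T) := by
    rw [PrimeDim.irreducible_iff]
    intro W hW
    have hinv : Inv (matrixSet N) (W.map (Matrix.toLin' P.val)) := by
      rintro s hs _ ⟨v, hv, rfl⟩
      refine ⟨((P⁻¹).val * s * P.val) *ᵥ v, hW _ (by rw [hTmat]; exact ⟨s, hs, rfl⟩) v hv, ?_⟩
      simp [mul_assoc]
    have hinj : Function.Injective (Matrix.toLin' P.val) := PrimeDim.mulVec_injective P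
    rcases PrimeDim.irreducible_iff.1 habs.1 _ hinv with h | h
    · exact Or.inl (Submodule.map_injective_of_injective hinj (h.trans (Submodule.map_bot _).symm))
    · refine Or.inr (Submodule.map_injective_of_injective hinj (h.trans ?_))
      rw [Submodule.map_top, eq_comm, LinearMap.range_eq_top]
      exact fun v => ⟨(P⁻¹).val *ᵥ v, by rw [Matrix.toLin'_apply, PrimeDim.mulVec_inv_cancel]⟩
  have hTabs : ActsAbsolutelyIrreducibly (matrixSet T) := by
    refine ⟨hTirr, fun M hM => ?_⟩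
    obtain ⟨c, hc⟩ := habs.2 (P.val * M * (P⁻¹).val) fun s hs => by
      have h1 := hM ((P⁻¹).val * s * P.val) (by rw [hTmat]; exact ⟨s, hs, rfl⟩)
      have h2 := congrArg (fun X => P.val * X * (P⁻¹).val) h1
      simpa [mul_assoc] using h2
    refine ⟨c, ?_⟩
    have h2 := congrArg (fun X => (P⁻¹).val * X * P.val) hc
    simpa [mul_assoc] using h2
  -- the conjugate form
  obtain ⟨d, hd⟩ := invariant_unique (τ := K.bar) K.bar_bar hTabs hBd.unit (B' := bm σ B)
    (by rintro _ ⟨z, hz, rfl⟩; exact hTB z hz) (by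
    rintro _ ⟨z, hz, rfl⟩
    conv_rhs => rw [← hTB z hz]
    rw [map_mul, map_mul, ← bm_transpose, hTfix z hz]
    congr 1
    ext i j
    simp only [bm_apply]
    rw [(hfix _).2 (hbar _ (hTrat z hz i j))])
  obtain ⟨i₀, j₀, hij⟩ : ∃ i j, B i j ≠ 0 := by
    by_contra hc
    push Not at hc
    exact hBd.unit.ne_zero (Matrix.ext hc)
  have hd0 : d ≠ 0 := fun e => hij (by
    have := congrFun (congrFun hd i₀) j₀
    rw [e, zero_smul] at this
    simpa [bm_apply] using this)
  have ha₀ : ∀ i j, (B i₀ j₀)⁻¹ * B i j ∈ F₁ := fun i j => (hfix _).1 (by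
    have e1 : ∀ a b, σ (B a b) = d * B a b := fun a b => congrFun (congrFun hd a) b
    rw [map_mul, map_inv₀, e1, e1]
    field_simp)
  have hbase : ∀ (a : F) (B' : Matrix (Fin n) (Fin n) F), B' = a • B → ∀ u v : Fin n → F,
      a * Cfsg.hermForm n F q (P.val *ᵥ u) (P.val *ᵥ v) = sform K.bar B' u v := by
    intro a B' hB' u v
    rw [herm_sform K, sform_mulVec, hB', sform_smul_matrix, hB]
    simp [fcoord, e₀]
  have hsF : ∀ B' : Matrix (Fin n) (Fin n) F, (∀ i j, B' i j ∈ F₁) → ∀ u v : Fin n → F,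
      (∀ i, u i ∈ F₁) → (∀ i, v i ∈ F₁) → sform K.bar B' u v ∈ F₁ := by
    intro B' hB' u v hu hv
    rw [← formOfGram_eq, Cfsg.Geo.formOfGram]
    exact sum_mem fun a _ => sum_mem fun b _ => mul_mem (mul_mem (hu a) (hB' a b)) (hbar _ (hv b))
  -- rescale by a fixed scalar
  have hscale : ∀ a : F, a ≠ 0 → K.bar a = a → (∀ i j, a * B i j ∈ F₁) → ∃ Q : GL (Fin n) F,
      Cfsg.Geo.IsFormRationalStructure (Cfsg.hermForm n F q) F₁ 1 Q ∧ H ≤ Cfsg.Geo.subfieldSubgroup F₁ Q := by
    intro a ha hafix hent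
    obtain ⟨x, hx⟩ := K.exists_norm a hafix
    have hx0 : x ≠ 0 := fun e => ha (by rw [← hx, e, zero_mul])
    refine ⟨P * sc (Units.mk0 x hx0), fun u v hu hv => ?_, fun g hg => ?_⟩
    · rw [one_mul, Units.val_mul, ← mulVec_mulVec, ← mulVec_mulVec, PrimeDim.sc_mulVec, PrimeDim.sc_mulVec,
        Units.val_mk0, mulVec_smul, mulVec_smul, herm_sform K, sform_smul_left, sform_smul_right, ← mul_assoc, hx,
        ← herm_sform K, hbase a (a • B) rfl]
      exact hsF _ (fun i j => hent i j) u v hu hv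
    · obtain ⟨c, hc0, hc⟩ := PrimeDim.mem_subfieldSubgroup.1 (hle hg)
      refine PrimeDim.mem_subfieldSubgroup.2 ⟨c, hc0, ?_⟩
      have : (P * sc (Units.mk0 x hx0))⁻¹ * g * (P * sc (Units.mk0 x hx0)) = P⁻¹ * g * P := by
        rw [_root_.mul_inv_rev]
        calc (sc (Units.mk0 x hx0))⁻¹ * P⁻¹ * g * (P * sc (Units.mk0 x hx0))
            = (sc (Units.mk0 x hx0))⁻¹ * ((P⁻¹ * g * P) * sc (Units.mk0 x hx0)) := by simp [mul_assoc]
          _ = _ := by rw [← PrimeDim.sc_comm, inv_mul_cancel_left]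
      rw [this]
      exact hc
  obtain ⟨a, ha⟩ : ∃ a, a = (B i₀ j₀)⁻¹ := ⟨_, rfl⟩
  have ha0 : a ≠ 0 := ha ▸ inv_ne_zero hij
  have hae : ∀ i j, a * B i j ∈ F₁ := ha ▸ ha₀
  have hswap : ∀ i j, K.bar (B i j) = B j i := fun i j => by
    have h1 := congrFun (congrFun hBd.herm j) i
    rw [one_smul] at h1
    simpa [bm_apply] using h1
  by_cases hr2 : r = 2
  swap
  · refine Or.inl ?_
    have hodd := hr.odd_of_ne_two hr2
    -- adjust the scalar inside the subfield
    have hκF : K.bar a / a ∈ F₁ := by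
      have h1 : a * B j₀ i₀ ∈ F₁ := hae j₀ i₀
      have h2 : K.bar (a * B i₀ j₀) ∈ F₁ := hbar _ (hae i₀ j₀)
      rw [map_mul, hswap] at h2
      have h3 : B j₀ i₀ ≠ 0 := fun e => hij (by rw [← hswap j₀ i₀, e, map_zero])
      have e : K.bar a / a = K.bar a * B j₀ i₀ / (a * B j₀ i₀) := by field_simp
      rw [e]
      exact F₁.div_mem h2 h1
    obtain ⟨y, hy, hym⟩ := exists_moved_mem K hodd hcard
    have hfix' : ∀ b, K.bar ((b + K.bar a / a * K.bar b) * a) = (b + K.bar a / a * K.bar b) * a := fun b => by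
      rw [map_mul, map_add, map_mul, map_div₀, K.bar_bar, K.bar_bar]
      have : K.bar a ≠ 0 := (map_ne_zero _).2 ha0
      field_simp
      ring
    obtain ⟨b, hb, hb0⟩ : ∃ b ∈ F₁, b + K.bar a / a * K.bar b ≠ 0 := by
      by_contra hall
      push Not at hall
      have h1 := hall 1 (one_mem _)
      have h2 := hall y hy
      rw [map_one, mul_one] at h1
      apply hym
      linear_combination -h2 + K.bar y * h1
    obtain ⟨Q, hQ, hQle⟩ := hscale ((b + K.bar a / a * K.bar b) * a) (mul_ne_zero hb0 ha0) (hfix' b) fun i j => by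
      rw [mul_assoc]
      exact mul_mem (add_mem hb (mul_mem hκF (hbar _ hb))) (hae i j)
    exact ⟨F₁, r, Q, hr, hodd, hcard, hQ, hQle⟩
  subst hr2
  refine Or.inr ?_
  have hbfix : ∀ i j, K.bar (a * B i j) = a * B i j := fun i j => bar_eq_self_of_mem K hcard (hae i j)
  have haB : ∀ i j, K.bar a * B j i = a * B i j := fun i j => by
    have h1 := hbfix i j
    rwa [map_mul, hswap] at h1
  have hev : ∀ {B' : Matrix (Fin n) (Fin n) F}, IsUnit B' →
      (∀ v, sform (RingEquiv.refl F) B' v v = 0) → Even n := by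
    intro B' hB' halt
    by_contra hev
    refine PrimeDim.no_alternating (Nat.not_even_iff_odd.1 hev)
      (⟨sform_add_left _ _, sform_smul_left _ _, sform_add_right _ _, fun c v x => by rw [sform_smul_right]; rfl⟩ :
        Cfsg.Geo.IsBilinearForm (sform (RingEquiv.refl F) B')) halt fun v hv => ?_
    have h1 : matForm B' = sform (RingEquiv.refl F) B' := rfl
    rw [← h1]
    exact matForm_nondegenerate hB' v hv
  have halt3 : ∀ ζ : F, ζ = a → ζ + K.bar ζ = 0 → (∀ v, sform (RingEquiv.refl F) (a • B) v v = 0) →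
      ∃ (F₀ : Subfield F) (P : GL (Fin n) F) (ζ : F), Even n ∧ Fintype.card F = Nat.card F₀ ^ 2 ∧ ζ ≠ 0 ∧
        ζ + ζ ^ q = 0 ∧ Cfsg.Geo.IsFormRationalStructure (Cfsg.hermForm n F q) F₀ ζ P ∧
        (∀ u : Fin n → F, (∀ i, u i ∈ F₀) →
          Cfsg.hermForm n F q ((P : Matrix (Fin n) (Fin n) F) *ᵥ u) ((P : Matrix (Fin n) (Fin n) F) *ᵥ u) = 0) ∧
        H ≤ Cfsg.Geo.subfieldSubgroup F₀ P := by
    rintro ζ rfl hζ halt
    have hu : IsUnit (ζ • B) := by
      rw [Matrix.isUnit_iff_isUnit_det, Matrix.det_smul]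
      exact ((Ne.isUnit ha0).pow _).mul hBd.det
    refine ⟨F₁, P, ζ, hev hu halt, hcard, ha0, by rw [← K.bar_apply]; exact hζ, fun u v hu hv => ?_,
      fun u hu => ?_, hle⟩
    · rw [hbase ζ (ζ • B) rfl]
      exact hsF _ (fun i j => hae i j) u v hu hv
    · have h1 := hbase ζ (ζ • B) rfl u u
      have h2 : ⇑K.bar ∘ u = u := funext fun i => bar_eq_self_of_mem K hcard (hu i)
      have h3 : sform K.bar (ζ • B) u u = sform (RingEquiv.refl F) (ζ • B) u u := by
        rw [sform, sform, h2]; rfl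
      rw [h3, halt] at h1
      exact (mul_eq_zero.1 h1).resolve_left ha0
  have hpm : K.bar a = a ∨ K.bar a = -a := by
    have h1 := haB i₀ j₀
    have h2 := haB j₀ i₀
    have h3 : B j₀ i₀ ≠ 0 := fun e => hij (by rw [← hswap j₀ i₀, e, map_zero])
    have : (K.bar a - a) * (K.bar a + a) = 0 := by
      refine mul_right_cancel₀ (mul_ne_zero hij h3) ?_
      rw [zero_mul]
      linear_combination (K.bar a * B i₀ j₀) * h1 + (a * B i₀ j₀) * h2
    exact (mul_eq_zero.1 this).imp sub_eq_zero.1 eq_neg_of_add_eq_zero_left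
  by_cases hqodd : Odd q
  · have h2 : (2 : F) ≠ 0 := PrimeDim.two_ne_zero_of_odd (by
      rw [← Nat.card_eq_fintype_card, K.card]; exact hqodd.pow)
    rcases hpm with h | h
    · obtain ⟨Q, hQ, hQle⟩ := hscale a ha0 h hae
      exact Or.inl ⟨F₁, Q, hqodd, hcard, hQ, hQle⟩
    · refine Or.inr (halt3 a rfl (by rw [h, add_neg_cancel]) fun v => ?_)
      refine matForm_alternating (B := a • B) (fun i => ?_) ?_ v
      · have h1 := haB i i
        rw [h] at h1
        exact (mul_eq_zero.1 (show (2 : F) * (a • B) i i = 0 by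
          simp only [Matrix.smul_apply, smul_eq_mul]; linear_combination -h1)).resolve_left h2
      · ext i j
        simp only [Matrix.transpose_apply, Matrix.neg_apply, Matrix.smul_apply, smul_eq_mul]
        have h1 := haB i j
        rw [h] at h1
        linear_combination -h1
  · have h20 : (2 : F) = 0 := two_eq_zero_of_not_odd (by
      rw [← Nat.card_eq_fintype_card, K.card]
      exact fun h => hqodd ((Nat.odd_pow_iff two_ne_zero).1 h))
    have hneg : K.bar a = a := hpm.elim id fun h => h.trans (by linear_combination -a * h20)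
    refine Or.inr (halt3 a rfl (by rw [hneg]; linear_combination a * h20) ?_)
    refine alt_of_irreducible hn h20 ?_ hTirr ?_
    · ext i j
      simp only [Matrix.transpose_apply, Matrix.smul_apply, smul_eq_mul]
      have h1 := haB i j
      rw [hneg] at h1
      exact h1
    · rintro _ ⟨z, hz, rfl⟩
      refine ⟨1, ?_⟩
      have h1 : bm K.bar z.val = z.val :=
        Matrix.ext fun i j => bar_eq_self_of_mem K hcard (hTrat z hz i j)
      rw [one_smul]
      conv_rhs => rw [← hTB z hz, h1]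
      simp

end CfsgLib.Asch
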