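import Cfsg.Agent.Lib.Classical.AschUnitBasic

set_option autoImplicit false
set_option linter.unusedSectionVars false

/-!
Fields of matrices closed under hermitian adjoints have odd degree.
-/

namespace CfsgLib.Asch

open Matrix
open Cfsg.Geo (matrixSet ActsIrreducibly ActsAbsolutelyIrreducibly IsFieldSubalgebra subalgebraNormalizer)
open CfsgLib.PrimeDim (Inv Nml)
open CfsgLib.ClassicalAut (Unitary.Conj)
open scoped MatrixGroups

variable {F : Type*} [Field F] [Fintype F] {q n : ℕ} (K : Unitary.Conj F q)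

/-- At most `a` solutions of `x ^ a = x` in a finite field. -/
theorem card_pow_eq_self_le {L : Type*} [Field L] [Finite L] {a : ℕ} (ha : 2 ≤ a) :
    Nat.card {x : L // x ^ a = x} ≤ a := by
  classical
  haveI := Fintype.ofFinite L
  rw [Nat.card_eq_fintype_card, Fintype.card_subtype]
  have hne : (Polynomial.X ^ a - Polynomial.X : Polynomial L) ≠ 0 := FiniteField.X_pow_card_sub_X_ne_zero L ha
  refine (Finset.card_le_card (t := (Polynomial.X ^ a - Polynomial.X : Polynomial L).roots.toFinset) ?_).trans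
    ((Multiset.toFinset_card_le _).trans ?_)
  · intro x hx
    rw [Multiset.mem_toFinset, Polynomial.mem_roots hne]
    simp [(Finset.mem_filter.1 hx).2]
  · have h3 := Polynomial.card_roots' (Polynomial.X ^ a - Polynomial.X : Polynomial L)
    rwa [FiniteField.X_pow_card_sub_X_natDegree_eq L ha] at h3

theorem field_pow_eq_self {d : ℕ} (hd : 0 < d) {L : Subalgebra F (Matrix (Fin n) (Fin n) F)}
    (hL : IsFieldSubalgebra d L) {x : Matrix (Fin n) (Fin n) F} (hx : x ∈ L) : x ^ (Fintype.card F ^ d) = x := by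
  classical
  haveI : Finite L := Finite.of_injective _ Subtype.val_injective
  have hnt : Nontrivial L := by
    have : 0 < Module.finrank F L := by rw [hL.finrank_eq]; exact hd
    exact Module.finrank_pos_iff.1 this
  have hF : IsField L := ⟨hnt.exists_pair_ne, fun a b => Subtype.ext (hL.comm a a.2 b b.2), fun {a} ha => by
    obtain ⟨b, hb, hab⟩ := hL.inv a a.2 fun e => ha (Subtype.ext e)
    exact ⟨⟨b, hb⟩, Subtype.ext hab⟩⟩
  letI : Field L := hF.toField
  haveI := Fintype.ofFinite L
  have h := congrArg Subtype.val (FiniteField.pow_card (⟨x, hx⟩ : L))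
  have hc : Fintype.card L = Fintype.card F ^ d := by
    rw [← Nat.card_eq_fintype_card, Module.natCard_eq_pow_finrank (K := F), hL.finrank_eq, Nat.card_eq_fintype_card]
  rw [hc] at h
  exact h

/-- A subfield inside a field is the set of roots. -/
theorem field_mem_of_pow {d r : ℕ} (hd : 0 < d) (hr : 0 < r) {K' L : Subalgebra F (Matrix (Fin n) (Fin n) F)}
    (hK : IsFieldSubalgebra d K') (hL : IsFieldSubalgebra r L) (hle : L ≤ K') {x : Matrix (Fin n) (Fin n) F}
    (hx : x ∈ K') (hpow : x ^ (Fintype.card F ^ r) = x) : x ∈ L := by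
  classical
  haveI : Finite K' := Finite.of_injective _ Subtype.val_injective
  have hnt : Nontrivial K' := by
    have : 0 < Module.finrank F K' := by rw [hK.finrank_eq]; exact hd
    exact Module.finrank_pos_iff.1 this
  have hF : IsField K' := ⟨hnt.exists_pair_ne, fun a b => Subtype.ext (hK.comm a a.2 b b.2), fun {a} ha => by
    obtain ⟨b, hb, hab⟩ := hK.inv a a.2 fun e => ha (Subtype.ext e)
    exact ⟨⟨b, hb⟩, Subtype.ext hab⟩⟩
  letI : Field K' := hF.toField
  have ha : 2 ≤ Fintype.card F ^ r := Fintype.one_lt_card.trans_le (Nat.le_self_pow hr.ne' _)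
  let f : L → {y : K' // y ^ (Fintype.card F ^ r) = y} := fun y =>
    ⟨⟨y.1, hle y.2⟩, Subtype.ext (field_pow_eq_self hr hL y.2)⟩
  have hinj : Function.Injective f := fun y y' e => Subtype.ext (congrArg (fun z => z.1.1) e)
  have hcard : Nat.card L = Fintype.card F ^ r := by
    rw [Module.natCard_eq_pow_finrank (K := F), hL.finrank_eq, Nat.card_eq_fintype_card]
  have hbij := hinj.bijective_of_nat_card_le (by rw [hcard]; exact card_pow_eq_self_le ha)
  obtain ⟨y, hy⟩ := hbij.2 ⟨⟨x, hx⟩, Subtype.ext hpow⟩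
  exact (congrArg (fun z => z.1.1) hy : y.1 = x) ▸ y.2

theorem adj_pow {J : Matrix (Fin n) (Fin n) F} {ε : F} {τ : F ≃+* F} (h : FormData τ J ε)
    (X : Matrix (Fin n) (Fin n) F) (i : ℕ) : adj τ J (X ^ i) = adj τ J X ^ i := by
  induction i with
  | zero => rw [pow_zero, pow_zero, adj_one h]
  | succ i ih => rw [pow_succ, adj_mul h, ih, ← pow_succ']

/-- A field closed under adjoints has odd degree. -/
theorem adj_field_odd (hn : 1 ≤ n) {d : ℕ} (hd : 0 < d) {L : Subalgebra F (Matrix (Fin n) (Fin n) F)}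
    (hL : IsFieldSubalgebra d L) (hadj : ∀ k ∈ L, adj K.bar 1 k ∈ L) : Odd d := by
  classical
  haveI : Nonempty (Fin n) := ⟨⟨0, hn⟩⟩
  have hJ := std_data (n := n) K
  by_contra hev
  obtain ⟨l, hl⟩ := Nat.not_odd_iff_even.1 hev
  haveI : Finite L := Finite.of_injective _ Subtype.val_injective
  have hnt : Nontrivial L := by
    have : 0 < Module.finrank F L := by rw [hL.finrank_eq]; exact hd
    exact Module.finrank_pos_iff.1 this
  have hF : IsField L := ⟨hnt.exists_pair_ne, fun a b => Subtype.ext (hL.comm a a.2 b b.2), fun {a} ha => by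
    obtain ⟨b, hb, hab⟩ := hL.inv a a.2 fun e => ha (Subtype.ext e)
    exact ⟨⟨b, hb⟩, Subtype.ext hab⟩⟩
  letI : Field L := hF.toField
  let α : L →+* L :=
    { toFun := fun x => ⟨adj K.bar 1 x.1, hadj _ x.2⟩
      map_one' := Subtype.ext (adj_one hJ)
      map_mul' := fun x y => Subtype.ext (by
        show adj K.bar 1 (x.1 * y.1) = adj K.bar 1 x.1 * adj K.bar 1 y.1
        rw [adj_mul hJ, hL.comm _ (hadj _ y.2) _ (hadj _ x.2)])
      map_zero' := Subtype.ext (by show adj K.bar 1 (0 : Matrix (Fin n) (Fin n) F) = 0; simp [adj])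
      map_add' := fun x y => Subtype.ext (adj_add _ _) }
  have hinv : ∀ x, α (α x) = x := fun x => Subtype.ext (adj_adj hJ x.1)
  obtain ⟨y, hy⟩ := K.exists_moved
  let a : L := ⟨y • 1, L.smul_mem (one_mem L) y⟩
  have hαa : (α a : Matrix (Fin n) (Fin n) F) = K.bar y • 1 := by
    show adj K.bar 1 (y • (1 : Matrix (Fin n) (Fin n) F)) = _
    rw [adj_smul, adj_one hJ]
  have hane : a - α a ≠ 0 := by
    intro e
    have e1 : a = α a := sub_eq_zero.1 e
    have e2 := congrArg (fun z : L => (z : Matrix (Fin n) (Fin n) F) ⟨0, hn⟩ ⟨0, hn⟩) e1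
    simp only [hαa] at e2
    simp [a] at e2
    exact hy e2.symm
  let L₀ : Subfield L := RingHom.eqLocusField α (RingHom.id L)
  have hmem : ∀ x, x ∈ L₀ ↔ α x = x := fun x => Iff.rfl
  let ψ : L₀ × L₀ → L := fun uv => (uv.1 : L) + a * uv.2
  have hψ : Function.Bijective ψ := by
    constructor
    · rintro ⟨u, v⟩ ⟨u', v'⟩ e
      have e' : (u : L) + a * v = u' + a * v' := e
      have e2 := congrArg α e'
      simp only [map_add, map_mul, (hmem _).1 u.2, (hmem _).1 v.2, (hmem _).1 u'.2, (hmem _).1 v'.2] at e2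
      have e3 : (a - α a) * ((v : L) - v') = 0 := by linear_combination e' - e2
      have hv : (v : L) = v' := sub_eq_zero.1 ((mul_eq_zero.1 e3).resolve_left hane)
      rw [hv] at e'
      exact Prod.ext (Subtype.ext (add_right_cancel e')) (Subtype.ext hv)
    · intro x
      obtain ⟨v, hv⟩ : ∃ v, v = (x - α x) / (a - α a) := ⟨_, rfl⟩
      have hvm : α v = v := by
        rw [hv, map_div₀, map_sub, map_sub, hinv, hinv, ← neg_sub x, ← neg_sub a, neg_div_neg_eq]
      have hvx : v * (a - α a) = x - α x := by rw [hv, div_mul_cancel₀ _ hane]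
      refine ⟨(⟨x - a * v, (hmem _).2 ?_⟩, ⟨v, (hmem _).2 hvm⟩), sub_add_cancel _ _⟩
      rw [map_sub, map_mul, hvm]
      linear_combination hvx
  have hcard : Nat.card L₀ = Fintype.card F ^ l := by
    refine Nat.pow_left_injective two_ne_zero ?_
    show Nat.card L₀ ^ 2 = (Fintype.card F ^ l) ^ 2
    rw [sq, ← Nat.card_prod, Nat.card_eq_of_bijective ψ hψ, Module.natCard_eq_pow_finrank (K := F), hL.finrank_eq,
      Nat.card_eq_fintype_card, ← pow_mul, hl, mul_two]
  haveI := Fintype.ofFinite L₀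
  have hl0 : 0 < l := by omega
  have ha2 : 2 ≤ Fintype.card F ^ l := Fintype.one_lt_card.trans_le (Nat.le_self_pow hl0.ne' _)
  let f : L₀ → {x : L // x ^ (Fintype.card F ^ l) = x} := fun z => ⟨z.1, by
    have := congrArg Subtype.val (FiniteField.pow_card z)
    rwa [← Nat.card_eq_fintype_card, hcard] at this⟩
  have hinj : Function.Injective f := fun z z' e => Subtype.ext (congrArg (fun w => w.1) e)
  have hbij := hinj.bijective_of_nat_card_le (by rw [hcard]; exact card_pow_eq_self_le ha2)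
  obtain ⟨z, hz⟩ := hbij.2 ⟨a, Subtype.ext (by
    show (y • (1 : Matrix (Fin n) (Fin n) F)) ^ (Fintype.card F ^ l) = y • 1
    rw [smul_pow, one_pow, FiniteField.pow_card_pow])⟩
  have hza : (z : L) = a := congrArg (fun w => w.1) hz
  exact hane (sub_eq_zero.2 (by rw [← hza]; exact ((hmem _).1 z.2).symm))

/-- `H` normalises a field of odd prime degree closed under adjoints. -/
def UFieldCase (q : ℕ) (H : Subgroup (GL (Fin n) F)) : Prop :=
  ∃ (r : ℕ) (L : Subalgebra F (Matrix (Fin n) (Fin n) F)), r.Prime ∧ Odd r ∧ r ∣ n ∧ IsFieldSubalgebra r L ∧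
    Cfsg.Geo.IsAdjointClosedFor (Cfsg.hermForm n F q) L ∧ H ≤ subalgebraNormalizer L

include K in
theorem ufield_of_ext (hn : 1 ≤ n) {H N : Subgroup (GL (Fin n) F)} (hH : ∀ g ∈ H, Iso K.bar 1 g.val)
    (hN : Nml H N) {d : ℕ} (hd : 2 ≤ d) {L : Subalgebra F (Matrix (Fin n) (Fin n) F)} (hL : ExtData H N d L) :
    UFieldCase q H := by
  have hJ := std_data (n := n) K
  have hadj : ∀ k ∈ L, adj K.bar 1 k ∈ L := fun k hk => ext_adj hJ (fun g hg => hH g (hN.le hg)) hL hk
  have hodd := adj_field_odd K hn (by omega) hL.1 hadj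
  obtain ⟨r, hr, hrd⟩ := Nat.exists_prime_and_dvd (n := d) (by omega)
  obtain ⟨L', hle, hL', hnorm⟩ := exists_subfield_degree hrd (by omega) hL.1
  refine ⟨r, L', hr, Odd.of_dvd_nat hodd hrd, field_degree_dvd hr.ne_zero hL', hL', fun k hk =>
    ⟨adj K.bar 1 k, ?_, fun u v => by rw [herm_sform K, herm_sform K, sform_adj hJ]⟩, hL.2.1.trans hnorm⟩
  refine field_mem_of_pow (by omega) hr.pos hL.1 hL' hle (hadj k (hle hk)) ?_
  rw [← adj_pow hJ, field_pow_eq_self hr.pos hL' hk]

end CfsgLib.Asch
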