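import Mathlib

set_option autoImplicit false

/-!
A computable field of four elements and matrices for `L₂(11)` inside `SU(5, 2)`.
-/

namespace CfsgLib.Asch.UnitFive

/-- The field with four elements, by codes. -/
structure F4 where
  /-- The code. -/
  code : Fin 4
deriving DecidableEq

namespace F4

instance : Fintype F4 :=
  ⟨⟨(([⟨0⟩, ⟨1⟩, ⟨2⟩, ⟨3⟩] : List F4) : Multiset F4), by decide⟩, by rintro ⟨a⟩; fin_cases a <;> decide⟩

theorem forall_iff {p : F4 → Prop} : (∀ x, p x) ↔ ∀ a : Fin 4, p ⟨a⟩ := ⟨fun h a => h _, fun h x => h x.code⟩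

/-- Addition of codes. -/
def addT : Fin 4 → Fin 4 → Fin 4 := ![![0, 1, 2, 3], ![1, 0, 3, 2], ![2, 3, 0, 1], ![3, 2, 1, 0]]

/-- Multiplication of codes. -/
def mulT : Fin 4 → Fin 4 → Fin 4 := ![![0, 0, 0, 0], ![0, 1, 2, 3], ![0, 2, 3, 1], ![0, 3, 1, 2]]

instance : Add F4 := ⟨fun a b => ⟨addT a.code b.code⟩⟩
instance : Mul F4 := ⟨fun a b => ⟨mulT a.code b.code⟩⟩
instance : Zero F4 := ⟨⟨0⟩⟩
instance : One F4 := ⟨⟨1⟩⟩
instance : Neg F4 := ⟨id⟩

theorem distribT : ∀ a b c : Fin 4,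
    mulT a (addT b c) = addT (mulT a b) (mulT a c) ∧ mulT (addT a b) c = addT (mulT a c) (mulT b c) := by
  decide

instance : CommRing F4 where
  add_assoc := by decide +kernel
  zero_add := by decide +kernel
  add_zero := by decide +kernel
  add_comm := by decide +kernel
  neg_add_cancel := by decide +kernel
  mul_assoc := by decide +kernel
  mul_comm := by decide +kernel
  left_distrib a b c := congrArg F4.mk (distribT a.code b.code c.code).1
  right_distrib a b c := congrArg F4.mk (distribT a.code b.code c.code).2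
  zero_mul := by decide +kernel
  mul_zero := by decide +kernel
  one_mul := by decide +kernel
  mul_one := by decide +kernel
  nsmul := nsmulRec
  zsmul := zsmulRec

end F4

open Matrix

/-- Matrices given by codes. -/
def ofCodes (M : Matrix (Fin 5) (Fin 5) (Fin 4)) : Matrix (Fin 5) (Fin 5) F4 := M.map F4.mk

/-- Conjugation of the entries. -/
def conjM (M : Matrix (Fin 5) (Fin 5) F4) : Matrix (Fin 5) (Fin 5) F4 := M.map fun a => a * a

/-- The trace of a power of the generator. -/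
def tau : Fin 11 → Fin 4 := ![1, 2, 3, 2, 2, 2, 3, 3, 3, 2, 3]

/-- The companion matrix of the generator. -/
def mC : Matrix (Fin 5) (Fin 5) F4 :=
  ofCodes !![0, 0, 0, 0, 1; 1, 0, 0, 0, 3; 0, 1, 0, 0, 1; 0, 0, 1, 0, 1; 0, 0, 0, 1, 2]

/-- The coefficients of the fifth power. -/
def mrel : Fin 5 → F4 := fun i => ⟨![1, 3, 1, 1, 2] i⟩

/-- The Gram matrix of the hermitian form. -/
def mG : Matrix (Fin 5) (Fin 5) F4 :=
  ofCodes !![1, 3, 2, 3, 3; 2, 1, 3, 2, 3; 3, 2, 1, 3, 2; 2, 3, 2, 1, 3; 2, 2, 3, 2, 1]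

/-- The semilinear generator of the normaliser. -/
def mS : Matrix (Fin 5) (Fin 5) F4 :=
  ofCodes !![1, 0, 0, 0, 1; 0, 0, 2, 1, 3; 0, 0, 3, 0, 1; 0, 0, 2, 0, 1; 0, 1, 3, 0, 2]

/-- The additional generator. -/
def mA : Matrix (Fin 5) (Fin 5) F4 :=
  ofCodes !![1, 2, 0, 3, 1; 0, 1, 3, 3, 2; 0, 1, 1, 2, 3; 0, 2, 1, 3, 2; 0, 1, 2, 0, 3]

/-- The trace pairing. -/
def mH : Matrix (Fin 5) (Fin 5) F4 :=
  ofCodes !![1, 2, 3, 2, 2; 2, 3, 2, 2, 2; 3, 2, 2, 2, 3; 2, 2, 2, 3, 3; 2, 2, 3, 3, 3]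

/-- The inverse of the trace pairing. -/
def mHi : Matrix (Fin 5) (Fin 5) F4 :=
  ofCodes !![1, 2, 0, 1, 3; 2, 0, 0, 2, 3; 0, 0, 0, 1, 1; 1, 2, 1, 0, 3; 3, 3, 1, 3, 0]

/-- The vector of an outside transvection. -/
def mw : Fin 5 → F4 := fun i => ⟨![0, 0, 0, 1, 3] i⟩

/-- A vector moved out of the orbit. -/
def mx : Fin 5 → F4 := fun i => ⟨![0, 1, 0, 2, 2] i⟩

/-- The number of a vector. -/
def num (v : Fin 5 → F4) : ℕ :=
  (v 0).code.val + 4 * ((v 1).code.val + 4 * ((v 2).code.val + 4 * ((v 3).code.val + 4 * (v 4).code.val)))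

/-- The vectors on the orbit of lines. -/
def Orb (v : Fin 5 → F4) : Prop :=
  Nat.testBit 0xc4a005a10103a080000001600282280a302520000100000606050400020080000190c0883000000c1160020c03c0900a08040000018484000800aa00324000000100c4002044229440000165000000006910610a08560090080004c00c020001540100241004001820301200100020100081401908800064208a2084c00000 (num v) = true

instance (v : Fin 5 → F4) : Decidable (Orb v) := by unfold Orb; infer_instance

/-- A vector from its entries. -/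
def vec5 (a b c d e : F4) : Fin 5 → F4 := ![a, b, c, d, e]

/-- One entry of a product of a matrix with a vector, on codes. -/
def rowT (r : Fin 5 → F4) (a b c d e : Fin 4) : Fin 4 :=
  F4.addT (F4.addT (F4.addT (F4.addT (F4.mulT (r 0).code a) (F4.mulT (r 1).code b)) (F4.mulT (r 2).code c))
    (F4.mulT (r 3).code d)) (F4.mulT (r 4).code e)

/-- The number of the image of a vector, on codes. -/
def imT (M : Matrix (Fin 5) (Fin 5) F4) (a b c d e : Fin 4) : ℕ :=
  (rowT (M 0) a b c d e).val + 4 * ((rowT (M 1) a b c d e).val + 4 * ((rowT (M 2) a b c d e).val +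
    4 * ((rowT (M 3) a b c d e).val + 4 * (rowT (M 4) a b c d e).val)))

theorem num_mulVec (M : Matrix (Fin 5) (Fin 5) F4) (a b c d e : Fin 4) :
    num (M *ᵥ vec5 ⟨a⟩ ⟨b⟩ ⟨c⟩ ⟨d⟩ ⟨e⟩) = imT M a b c d e := by
  simp only [num, imT, Matrix.mulVec, dotProduct, Fin.sum_univ_five]
  rfl

/-- The mask of the orbit. -/
def mask : ℕ :=
  0xc4a005a10103a080000001600282280a302520000100000606050400020080000190c0883000000c1160020c03c0900a08040000018484000800aa00324000000100c4002044229440000165000000006910610a08560090080004c00c020001540100241004001820301200100020100081401908800064208a2084c00000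

theorem orb_codes : ∀ a b c d e : Fin 4,
    Nat.testBit mask (a.val + 4 * (b.val + 4 * (c.val + 4 * (d.val + 4 * e.val)))) = true →
    Nat.testBit mask (imT mC a b c d e) = true ∧ Nat.testBit mask (imT mS a b c d e) = true ∧
      Nat.testBit mask (imT mA a b c d e) = true := by
  decide +kernel

theorem orb_gens (a b c d e : F4) (h : Orb (vec5 a b c d e)) :
    Orb (mC *ᵥ vec5 a b c d e) ∧ Orb (mS *ᵥ vec5 a b c d e) ∧ Orb (mA *ᵥ vec5 a b c d e) := by
  obtain ⟨a⟩ := a; obtain ⟨b⟩ := b; obtain ⟨c⟩ := c; obtain ⟨d⟩ := d; obtain ⟨e⟩ := e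
  simp only [Orb, num_mulVec]
  exact orb_codes a b c d e h

theorem orb_x : Orb mx := by decide +kernel

theorem orb_moved : (mw ⬝ᵥ mG *ᵥ fun i => mw i * mw i) = 0 ∧
    ¬ Orb (mx + (mx ⬝ᵥ mG *ᵥ fun i => mw i * mw i) • mw) := by decide +kernel

theorem gram_C : mCᵀ * mG * conjM mC = mG := by decide +kernel
theorem gram_S : mSᵀ * mG * conjM mS = mG := by decide +kernel
theorem gram_A : mAᵀ * mG * conjM mA = mG := by decide +kernel

theorem gram_tau : ∀ i j : Fin 5,
    (mG i j).code = tau ⟨(i.val + 10 * j.val) % 11, Nat.mod_lt _ (by norm_num)⟩ := by decide +kernel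

theorem pairing_tau : ∀ i j : Fin 5,
    (mH i j).code = tau ⟨(i.val + j.val) % 11, Nat.mod_lt _ (by norm_num)⟩ := by decide +kernel

theorem pairing_inv : mHi * mH = 1 := by decide +kernel

theorem rel_tau : ∀ s : Fin 5, (mH *ᵥ mrel) s = ⟨tau ⟨(s.val + 5) % 11, Nat.mod_lt _ (by norm_num)⟩⟩ := by
  decide +kernel

theorem mC_cols : ∀ i j : Fin 5,
    (mC i j).code = if j.val = 4 then (mrel i).code else if i.val = j.val + 1 then 1 else 0 := by
  decide +kernel

theorem A_sq : mA * mA = 1 := by decide +kernel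

theorem A_moves : mA * mC * mA * mC ≠ mC * (mA * mC * mA) := by decide +kernel

/-- The square of the companion matrix. -/
def mC2 : Matrix (Fin 5) (Fin 5) F4 :=
  ofCodes !![0, 0, 0, 1, 2; 0, 0, 0, 3, 0; 1, 0, 0, 1, 1; 0, 1, 0, 1, 3; 0, 0, 1, 2, 2]

/-- The fourth power of the companion matrix. -/
def mC4 : Matrix (Fin 5) (Fin 5) F4 :=
  ofCodes !![0, 1, 2, 2, 0; 0, 3, 0, 3, 2; 0, 1, 1, 2, 3; 0, 1, 3, 3, 2; 1, 2, 2, 0, 3]

/-- The square of the semilinear generator. -/
def mS2 : Matrix (Fin 5) (Fin 5) F4 :=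
  ofCodes !![1, 1, 3, 0, 3; 0, 3, 1, 0, 2; 0, 1, 1, 0, 1; 0, 1, 2, 0, 0; 0, 2, 1, 1, 3]

/-- The fourth power of the semilinear generator. -/
def mS4 : Matrix (Fin 5) (Fin 5) F4 :=
  ofCodes !![1, 0, 2, 3, 0; 0, 0, 0, 2, 1; 0, 0, 1, 1, 0; 0, 1, 3, 0, 0; 0, 0, 2, 3, 0]

theorem C_two : mC * mC = mC2 := by decide +kernel
theorem C_four : mC2 * mC2 = mC4 := by decide +kernel
theorem S_two : mS * mS = mS2 := by decide +kernel
theorem S_four : mS2 * mS2 = mS4 := by decide +kernel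
theorem S_last : mS4 * mS = 1 := by decide +kernel
/-- The product of the two generators. -/
def mSC : Matrix (Fin 5) (Fin 5) F4 :=
  ofCodes !![0, 0, 0, 1, 3; 0, 2, 1, 3, 2; 0, 3, 0, 1, 1; 0, 2, 0, 1, 0; 1, 3, 0, 2, 3]

theorem S_C : mS * mC = mSC := by decide +kernel
theorem C4_S : mC4 * mS = mSC := by decide +kernel
theorem S_last' : mS * mC = mC4 * mS := S_C.trans C4_S.symm

theorem S_five : mS * mS * (mS * mS) * mS = 1 := by rw [S_two, S_four, S_last]

theorem S_conj : mS * mC = mC * mC * (mC * mC) * mS := by rw [C_two, C_four, S_last']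

end CfsgLib.Asch.UnitFive
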