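import Cfsg.Agent.Lib.Classical.AschUnitAlt
import Cfsg.Agent.Lib.Classical.AschUnitField

set_option autoImplicit false
set_option linter.unusedSectionVars false

/-!
For `q = 2` the normaliser of a cubic field of matrices in dimension six lies in a symplectic subfield group.
-/

namespace CfsgLib.Asch.UnitSix

open Matrix
open Cfsg.Geo (IsFieldSubalgebra IsAdjointClosedFor subalgebraNormalizer)
open CfsgLib.ClassicalAut (Unitary.Conj)
open scoped MatrixGroups

variable {F : Type*} [Field F] [Fintype F] {n : ℕ} (K : Unitary.Conj F 2)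

include K in
theorem pow_four (x : F) : x ^ 4 = x := by
  have h := FiniteField.pow_card x
  rwa [← Nat.card_eq_fintype_card, K.card] at h

include K in
theorem two_eq_zero : (2 : F) = 0 := by
  have h := pow_four K (2 : F)
  have h14 : (14 : F) = 0 := by linear_combination h
  have h' := pow_four K (-1 : F)
  linear_combination h'

theorem fixed_cases {x : F} (h : K.bar x = x) : x = 0 ∨ x = 1 := by
  rw [K.bar_apply] at h
  rcases mul_eq_zero.1 (show x * (x - 1) = 0 by linear_combination h) with h0 | h0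
  · exact Or.inl h0
  · exact Or.inr (sub_eq_zero.1 h0)

include K in
theorem cube_eq_one {x : F} (hx : x ≠ 0) : x ^ 3 = 1 :=
  mul_left_cancel₀ hx (by linear_combination pow_four K x)

/-- The hermitian form. -/
abbrev uh (u v : Fin n → F) : F := sform K.bar (1 : Matrix (Fin n) (Fin n) F) u v

theorem uh_swap (u v : Fin n → F) : uh K v u = K.bar (uh K u v) := by
  show sform K.bar 1 v u = K.bar (sform K.bar 1 u v)
  rw [← herm_sform K, ← herm_sform K]
  exact Classical.Herm.h_swap K u v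

theorem uh_self_cases (v : Fin n → F) : uh K v v = 0 ∨ uh K v v = 1 :=
  fixed_cases K (uh_swap K v v).symm

theorem uh_ext {X Y : Matrix (Fin n) (Fin n) F} (h : ∀ u v, uh K u (X *ᵥ v) = uh K u (Y *ᵥ v)) : X = Y := by
  ext i j
  have := h (Pi.single i 1) (Pi.single j 1)
  simpa [uh, sform] using this

/-- A scalar in a field of matrices is recognised by its fourth power. -/
theorem scalar_of_pow (hn : 0 < n) {r : ℕ} (hr : 0 < r) {L : Subalgebra F (Matrix (Fin n) (Fin n) F)}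
    (hL : IsFieldSubalgebra r L) (K : Unitary.Conj F 2) {x : Matrix (Fin n) (Fin n) F} (hx : x ∈ L)
    (h4 : x ^ 4 = x) : ∃ c : F, x = c • 1 := by
  classical
  haveI : Finite L := Finite.of_injective _ Subtype.val_injective
  have hnt : Nontrivial L := by
    have : 0 < Module.finrank F L := by rw [hL.finrank_eq]; exact hr
    exact Module.finrank_pos_iff.1 this
  have hFL : IsField L := ⟨hnt.exists_pair_ne, fun a b => Subtype.ext (hL.comm a a.2 b b.2), fun {a} ha => by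
    obtain ⟨b, hb, hab⟩ := hL.inv a a.2 fun e => ha (Subtype.ext e)
    exact ⟨⟨b, hb⟩, Subtype.ext hab⟩⟩
  letI : Field L := hFL.toField
  let f : F → {y : L // y ^ 4 = y} := fun c =>
    ⟨⟨c • 1, L.smul_mem (one_mem L) c⟩, Subtype.ext (by
      show (c • (1 : Matrix (Fin n) (Fin n) F)) ^ 4 = c • 1
      rw [smul_pow, one_pow, pow_four K])⟩
  have hinj : Function.Injective f := fun c d e => by
    have := congrArg (fun z => z.1.1 ⟨0, hn⟩ ⟨0, hn⟩) e
    simpa [f] using this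
  have hbij := hinj.bijective_of_nat_card_le (by
    rw [K.card]; exact card_pow_eq_self_le (show 2 ≤ 4 by norm_num))
  obtain ⟨c, hc⟩ := hbij.2 ⟨⟨x, hx⟩, Subtype.ext h4⟩
  exact ⟨c, (congrArg (fun z => z.1.1) hc).symm⟩

/-- A cubic field contains an isometry of order nine cubing to a scalar, moved by scalars under the normaliser. -/
theorem exists_unit_nine (hn : 0 < n) {L : Subalgebra F (Matrix (Fin n) (Fin n) F)} (hL : IsFieldSubalgebra 3 L)
    (hcl : IsAdjointClosedFor (Cfsg.hermForm n F 2) L) :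
    ∃ (Z : Matrix (Fin n) (Fin n) F) (ω : F), ω ^ 2 + ω + 1 = 0 ∧ Z * (Z * Z) = ω • 1 ∧
      (∀ u v, uh K (Z *ᵥ u) (Z *ᵥ v) = uh K u v) ∧
      ∀ g ∈ subalgebraNormalizer L, ∃ c : F, c ^ 3 = 1 ∧
        (g : Matrix (Fin n) (Fin n) F) * Z = c • (Z * (g : Matrix (Fin n) (Fin n) F)) := by
  classical
  haveI : Nonempty (Fin n) := ⟨⟨0, hn⟩⟩
  haveI : Finite L := Finite.of_injective _ Subtype.val_injective
  have hnt : Nontrivial L := by
    have : 0 < Module.finrank F L := by rw [hL.finrank_eq]; norm_num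
    exact Module.finrank_pos_iff.1 this
  have hFL : IsField L := ⟨hnt.exists_pair_ne, fun a b => Subtype.ext (hL.comm a a.2 b b.2), fun {a} ha => by
    obtain ⟨b, hb, hab⟩ := hL.inv a a.2 fun e => ha (Subtype.ext e)
    exact ⟨⟨b, hb⟩, Subtype.ext hab⟩⟩
  letI : Field L := hFL.toField
  have hcard : Nat.card Lˣ = 63 := by
    rw [Nat.card_units, Module.natCard_eq_pow_finrank (K := F), hL.finrank_eq, K.card]
    norm_num
  obtain ⟨g₀, hg₀⟩ := IsCyclic.exists_ofOrder_eq_natCard (α := Lˣ)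
  rw [hcard] at hg₀
  let Z : Matrix (Fin n) (Fin n) F := ((g₀ ^ 7 : Lˣ) : L).1
  have hZ : Z ∈ L := ((g₀ ^ 7 : Lˣ) : L).2
  have hpow : ∀ k, Z ^ k = ((g₀ ^ (7 * k) : Lˣ) : L).1 := fun k => by
    rw [pow_mul, Units.val_pow_eq_pow_val]; rfl
  have h63 : g₀ ^ 63 = 1 := hg₀ ▸ pow_orderOf_eq_one g₀
  have hZ9 : Z ^ 9 = 1 := by rw [hpow, h63]; rfl
  obtain ⟨ω, hω⟩ := scalar_of_pow hn (by norm_num) hL K (pow_mem hZ 3)
    (show (Z ^ 3) ^ 4 = Z ^ 3 by rw [← pow_mul, show 3 * 4 = 9 + 3 from rfl, pow_add, hZ9, one_mul])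
  have hω1 : ω ≠ 1 := by
    rintro rfl
    rw [one_smul, hpow] at hω
    have h2 : g₀ ^ (7 * 3) = 1 := Units.ext (Subtype.ext hω)
    have h3 := orderOf_dvd_of_pow_eq_one h2
    rw [hg₀] at h3
    exact absurd (Nat.le_of_dvd (by norm_num) h3) (by norm_num)
  have hsmul : ∀ a b : F, a • (1 : Matrix (Fin n) (Fin n) F) = b • 1 → a = b := fun a b e => by
    have := congrFun (congrFun e ⟨0, hn⟩) ⟨0, hn⟩
    simpa using this
  have hω3 : ω ^ 3 = 1 := hsmul _ _ (by conv_rhs => rw [one_smul, ← hZ9, show 9 = 3 * 3 from rfl, pow_mul, hω, smul_pow, one_pow])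
  have hω2 : ω ^ 2 + ω + 1 = 0 :=
    (mul_eq_zero.1 (show (ω - 1) * (ω ^ 2 + ω + 1) = 0 by linear_combination hω3)).resolve_left (sub_ne_zero.2 hω1)
  have hroot : ∀ x ∈ L, x ^ 3 = 1 → ∃ c : F, c ^ 3 = 1 ∧ x = c • 1 := fun x hx h3 => by
    obtain ⟨c, hc⟩ := scalar_of_pow hn (by norm_num) hL K hx (by rw [pow_succ, h3, one_mul])
    exact ⟨c, hsmul _ _ (by conv_rhs => rw [one_smul, ← h3, hc, smul_pow, one_pow]), hc⟩
  refine ⟨Z, ω, hω2, by rw [← hω, pow_succ', pow_succ', pow_one], ?_, fun g hg => ?_⟩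
  · obtain ⟨Z', hZ'L, hZ'⟩ := hcl Z hZ
    simp only [herm_sform K] at hZ'
    have hk : ∀ (k : ℕ) u v, uh K (Z ^ k *ᵥ u) v = uh K u (Z' ^ k *ᵥ v) := by
      intro k
      induction k with
      | zero => simp
      | succ k ih =>
        intro u v
        rw [pow_succ', pow_succ, ← mulVec_mulVec, ← mulVec_mulVec]
        exact (hZ' _ _).trans (ih u (Z' *ᵥ v))
    have hX3 : (Z' * Z) ^ 3 = 1 := by
      refine uh_ext K fun u v => ?_
      rw [(show Commute Z' Z from hL.comm _ hZ'L _ hZ).mul_pow, ← mulVec_mulVec, ← hk, one_mulVec, hω, smul_mulVec,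
        smul_mulVec, one_mulVec, one_mulVec]
      show sform K.bar 1 _ _ = _
      rw [sform_smul_left, sform_smul_right, ← mul_assoc, K.bar_apply, ← pow_succ', hω3, one_mul]
    obtain ⟨c, hc3, hc⟩ := hroot _ (mul_mem hZ'L hZ) hX3
    have hiso : ∀ u v, uh K (Z *ᵥ u) (Z *ᵥ v) = K.bar c * uh K u v := fun u v => by
      show sform K.bar 1 _ _ = _
      rw [hZ', mulVec_mulVec, hc, smul_mulVec, one_mulVec, sform_smul_right]
    have hc1 : K.bar c = 1 := by
      have hone : uh K (Pi.single (⟨0, hn⟩ : Fin n) 1) (Pi.single ⟨0, hn⟩ 1) = 1 := by simp [uh, sform]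
      rcases uh_self_cases K (Z *ᵥ Pi.single ⟨0, hn⟩ 1) with h | h <;> rw [hiso, hone, mul_one] at h
      · rw [K.bar_apply, pow_eq_zero_iff (by norm_num)] at h
        simp [h] at hc3
      · exact h
    intro u v
    rw [hiso, hc1, one_mul]
  · have hWm := (hg Z).1 hZ
    obtain ⟨W, hW⟩ : ∃ W, W = (g : Matrix (Fin n) (Fin n) F) * Z * ((g⁻¹ : GL (Fin n) F) : Matrix (Fin n) (Fin n) F) :=
      ⟨_, rfl⟩
    rw [← hW] at hWm
    have hW3 : W ^ 3 = ω • 1 := by
      rw [hW, Units.conj_pow, hω, mul_smul_comm, mul_one, smul_mul_assoc, Units.mul_inv]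
    obtain ⟨c, hc3, hc⟩ := hroot (Z ^ 8 * W) (mul_mem (pow_mem hZ 8) hWm) (by
      rw [(show Commute (Z ^ 8) W from hL.comm _ (pow_mem hZ 8) _ hWm).mul_pow, ← pow_mul,
        show 8 * 3 = 3 * 8 from rfl, pow_mul, hW3, hω, smul_pow, one_pow, smul_mul_smul_comm, one_mul,
        ← pow_succ, show (8 : ℕ) + 1 = 3 * 3 from rfl, pow_mul, hω3, one_pow, one_smul])
    refine ⟨c, hc3, ?_⟩
    have hW' : W = c • Z := by
      calc W = Z ^ 9 * W := by rw [hZ9, one_mul]
        _ = Z * (Z ^ 8 * W) := by rw [pow_succ' Z 8, mul_assoc]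
        _ = c • Z := by rw [hc, mul_smul_comm, mul_one]
    calc (g : Matrix (Fin n) (Fin n) F) * Z = W * g := by rw [hW]; simp [mul_assoc]
      _ = c • (Z * g) := by rw [hW', smul_mul_assoc]

/-- Two suitable vectors generate orthogonal pieces of a frame. -/
theorem pair_table {Z : Matrix (Fin n) (Fin n) F} {ω : F} (hZ3 : Z * (Z * Z) = ω • 1)
    (hZu : ∀ u v, uh K (Z *ᵥ u) (Z *ᵥ v) = uh K u v) {v w : Fin n → F} {a : F}
    (h0 : uh K v w = a) (h1 : uh K (Z *ᵥ v) w = 0) (h2 : uh K v (Z *ᵥ w) = 0) :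
    ∀ i k : Fin 3, uh K (![v, Z *ᵥ v, Z *ᵥ (Z *ᵥ v)] i) (![w, Z *ᵥ w, Z *ᵥ (Z *ᵥ w)] k) = if i = k then a else 0 := by
  have hz : ∀ x, Z *ᵥ (Z *ᵥ (Z *ᵥ x)) = ω • x := fun x => by
    rw [mulVec_mulVec, mulVec_mulVec, mul_assoc, hZ3, smul_mulVec, one_mulVec]
  have h20 : uh K (Z *ᵥ (Z *ᵥ v)) w = 0 := by
    rw [← hZu, hz]; show sform K.bar 1 _ _ = 0; rw [sform_smul_left]
    exact mul_eq_zero_of_right _ h2
  have h02 : uh K v (Z *ᵥ (Z *ᵥ w)) = 0 := by
    rw [← hZu, hz]; show sform K.bar 1 _ _ = 0; rw [sform_smul_right]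
    exact mul_eq_zero_of_right _ h1
  intro i k
  fin_cases i <;> fin_cases k <;> simp [hZu, h0, h1, h2, h20, h02, -mulVec_mulVec]

/-- A vector of norm one can be chosen orthogonal to its image. -/
theorem exists_good {Z : Matrix (Fin n) (Fin n) F} {ω : F} (hω : ω ^ 2 + ω + 1 = 0) (hZ3 : Z * (Z * Z) = ω • 1)
    (hZu : ∀ u v, uh K (Z *ᵥ u) (Z *ᵥ v) = uh K u v) {v : Fin n → F} (hv : uh K v v = 1) :
    ∃ c : F, uh K (v + c • (Z *ᵥ v)) (v + c • (Z *ᵥ v)) = 1 ∧
      uh K (Z *ᵥ (v + c • (Z *ᵥ v))) (v + c • (Z *ᵥ v)) = 0 := by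
  by_cases hb : uh K (Z *ᵥ v) v = 0
  · exact ⟨0, by simpa using hv, by simpa using hb⟩
  obtain ⟨b, hbd⟩ : ∃ b, b = uh K (Z *ᵥ v) v := ⟨_, rfl⟩
  rw [← hbd] at hb
  have hb3 := cube_eq_one K hb
  have h2 := two_eq_zero K
  have e1 : uh K v (Z *ᵥ v) = b ^ 2 := by rw [uh_swap K (Z *ᵥ v) v, ← hbd, K.bar_apply]
  have e2 : uh K (Z *ᵥ (Z *ᵥ v)) v = ω * b ^ 2 := by
    rw [← hZu, mulVec_mulVec, mulVec_mulVec, mul_assoc, hZ3, smul_mulVec, one_mulVec]
    show sform K.bar 1 _ _ = _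
    rw [sform_smul_left]
    exact congrArg _ e1
  refine ⟨ω * b ^ 2, ?_, ?_⟩
  · simp only [uh, sform_add_left, sform_add_right, sform_smul_left, sform_smul_right, K.bar_apply] at *
    rw [hZu, hv, e1, ← hbd]
    grind
  · simp only [uh, mulVec_add, mulVec_smul, sform_add_left, sform_add_right, sform_smul_left, sform_smul_right,
      K.bar_apply] at *
    rw [hZu, hv, e2, hZu (Z *ᵥ v) v, ← hbd]
    grind

/-- A vector orthogonal to a cyclic triple stays so after applying the generator. -/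
theorem orth_shift {Z : Matrix (Fin n) (Fin n) F} {ω : F} (hω0 : ω ≠ 0) (hZ3 : Z * (Z * Z) = ω • 1)
    (hZu : ∀ u v, uh K (Z *ᵥ u) (Z *ᵥ v) = uh K u v) {v w : Fin n → F}
    (h : ∀ k : Fin 3, uh K w (![v, Z *ᵥ v, Z *ᵥ (Z *ᵥ v)] k) = 0) :
    ∀ k : Fin 3, uh K (Z *ᵥ w) (![v, Z *ᵥ v, Z *ᵥ (Z *ᵥ v)] k) = 0 := by
  intro k
  fin_cases k
  · have e : uh K (Z *ᵥ w) (Z *ᵥ (Z *ᵥ (Z *ᵥ v))) = 0 := by rw [hZu]; exact h 2
    rw [mulVec_mulVec, mulVec_mulVec, mul_assoc, hZ3, smul_mulVec, one_mulVec] at e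
    simp only [uh, sform_smul_right] at e
    exact (mul_eq_zero.1 e).resolve_left (by simpa using hω0)
  · exact (hZu w v).trans (h 0)
  · exact (hZu w (Z *ᵥ v)).trans (h 1)

/-- An orthonormal frame adapted to the element of order nine. -/
theorem exists_frame {Z : Matrix (Fin 6) (Fin 6) F} {ω : F} (hω : ω ^ 2 + ω + 1 = 0) (hZ3 : Z * (Z * Z) = ω • 1)
    (hZu : ∀ u v, uh K (Z *ᵥ u) (Z *ᵥ v) = uh K u v) :
    ∃ v w : Fin 6 → F, ∀ r s : Fin 6,
      uh K (![v, Z *ᵥ v, Z *ᵥ (Z *ᵥ v), w, Z *ᵥ w, Z *ᵥ (Z *ᵥ w)] r)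
        (![v, Z *ᵥ v, Z *ᵥ (Z *ᵥ v), w, Z *ᵥ w, Z *ᵥ (Z *ᵥ w)] s) = if r = s then 1 else 0 := by
  have h2 := two_eq_zero K
  have hω0 : ω ≠ 0 := fun e => by simp [e] at hω
  obtain ⟨c, hv1, hv2⟩ := exists_good K hω hZ3 hZu
    (v := Pi.single 0 1) (by simp [uh, sform])
  obtain ⟨v, hv⟩ : ∃ v, v = Pi.single 0 1 + c • (Z *ᵥ Pi.single 0 1) := ⟨_, rfl⟩
  rw [← hv] at hv1 hv2
  have hv3 : uh K v (Z *ᵥ v) = 0 := by rw [uh_swap, hv2, map_zero]
  have hT := pair_table K hZ3 hZu hv1 hv2 hv3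
  obtain ⟨t, ht⟩ : ∃ t, t = ![v, Z *ᵥ v, Z *ᵥ (Z *ᵥ v)] := ⟨_, rfl⟩
  rw [← ht] at hT
  obtain ⟨p, hp⟩ : ∃ p : Fin 6 → Fin 6 → F,
      p = fun j => Pi.single j 1 + ∑ i : Fin 3, uh K (Pi.single j 1) (t i) • t i := ⟨_, rfl⟩
  have hpt : ∀ j k, uh K (p j) (t k) = 0 := by
    intro j k
    simp only [hp, uh, sform_add_left, Fin.sum_univ_three, sform_smul_left]
    have e0 := hT 0 k; have e1 := hT 1 k; have e2 := hT 2 k
    simp only [uh] at e0 e1 e2
    rw [e0, e1, e2]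
    fin_cases k <;> simp <;> linear_combination (_ : F) * h2
  have hpp : ∀ j, uh K (p j) (p j) = 1 + ∑ i : Fin 3, t i j * K.bar (t i j) := by
    intro j
    conv_lhs => arg 3; rw [hp]
    have e0 := hpt j 0; have e1 := hpt j 1; have e2 := hpt j 2
    simp only [uh] at e0 e1 e2 ⊢
    simp only [sform_add_right, Fin.sum_univ_three, sform_smul_right, e0, e1, e2, mul_zero, add_zero]
    have hb : ∀ (x : Fin 6 → F), x ⬝ᵥ ⇑K.bar ∘ Pi.single j 1 = x j := fun x => by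
      simp [dotProduct, Pi.single_apply, apply_ite K.bar]
    simp [hp, sform, Fin.sum_univ_three, add_dotProduct, hb, mul_comm]
  obtain ⟨j, hj⟩ : ∃ j, uh K (p j) (p j) = 1 := by
    by_contra hne
    push Not at hne
    have h0 : ∑ j, uh K (p j) (p j) = 0 :=
      Finset.sum_eq_zero fun j _ => (uh_self_cases K (p j)).resolve_right (hne j)
    simp only [hpp, Finset.sum_add_distrib, Finset.sum_const, Finset.card_univ, Fintype.card_fin] at h0
    rw [Finset.sum_comm] at h0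
    have e : ∀ i, ∑ j, t i j * K.bar (t i j) = 1 := fun i => by
      have := hT i i
      simpa [uh, sform, dotProduct] using this
    simp only [e, Fin.sum_univ_three, nsmul_eq_mul, Nat.cast_ofNat, mul_one] at h0
    exact one_ne_zero (show (1 : F) = 0 by linear_combination h0 - 4 * h2)
  obtain ⟨d, hw1, hw2⟩ := exists_good K hω hZ3 hZu hj
  refine ⟨v, p j + d • (Z *ᵥ p j), ?_⟩
  obtain ⟨w, hw⟩ : ∃ w, w = p j + d • (Z *ᵥ p j) := ⟨_, rfl⟩
  rw [← hw] at hw1 hw2 ⊢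
  have hw3 : uh K w (Z *ᵥ w) = 0 := by rw [uh_swap, hw2, map_zero]
  have hW := pair_table K hZ3 hZu hw1 hw2 hw3
  have hshift := orth_shift K hω0 hZ3 hZu (v := v) (w := p j) (fun k => by rw [← ht]; exact hpt j k)
  have hwt : ∀ k, uh K w (t k) = 0 := fun k => by
    rw [← ht] at hshift
    have e1 := hpt j k; have e2 := hshift k
    simp only [hw, uh, sform_add_left, sform_smul_left] at e1 e2 ⊢
    rw [e1, e2, mul_zero, add_zero]
  have hwv := pair_table K hZ3 hZu (v := w) (w := v) (a := 0) (by simpa [ht] using hwt 0)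
    (by simpa [ht] using orth_shift K hω0 hZ3 hZu (fun k => by rw [← ht]; exact hwt k) 0)
    (by simpa [ht] using hwt 1)
  have hvw : ∀ i k : Fin 3,
      uh K (![v, Z *ᵥ v, Z *ᵥ (Z *ᵥ v)] i) (![w, Z *ᵥ w, Z *ᵥ (Z *ᵥ w)] k) = 0 := fun i k => by
    rw [uh_swap, hwv]; simp
  rw [ht] at hT
  intro r s
  obtain ⟨r', rfl⟩ := (finSumFinEquiv : Fin 3 ⊕ Fin 3 ≃ Fin 6).surjective r
  obtain ⟨s', rfl⟩ := (finSumFinEquiv : Fin 3 ⊕ Fin 3 ≃ Fin 6).surjective s
  have e : ∀ x : Fin 3 ⊕ Fin 3, ![v, Z *ᵥ v, Z *ᵥ (Z *ᵥ v), w, Z *ᵥ w, Z *ᵥ (Z *ᵥ w)] (finSumFinEquiv x) =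
      Sum.elim ![v, Z *ᵥ v, Z *ᵥ (Z *ᵥ v)] ![w, Z *ᵥ w, Z *ᵥ (Z *ᵥ w)] x := by
    rintro (x | x) <;> fin_cases x <;> rfl
  rcases r' with a | a <;> rcases s' with b | b <;> simp [e, hT, hW, hwv, hvw, -mulVec_mulVec, -finSumFinEquiv_apply_left,
    -finSumFinEquiv_apply_right]

/-- The successor in the two cycles. -/
def nx : Fin 6 → Fin 6 := ![1, 2, 0, 4, 5, 3]

/-- The generator in the adapted frame. -/
def gen (ω : F) : Matrix (Fin 6) (Fin 6) F :=
  Matrix.of fun r s => if r = nx s then ![1, 1, ω, 1, 1, ω] s else 0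

/-- The alternating form in the adapted frame. -/
def alt (ω : F) : Matrix (Fin 6) (Fin 6) F :=
  !![0, 0, 0, 1, 0, 0; 0, 0, 0, 0, 0, ω; 0, 0, 0, 0, ω, 0; 1, 0, 0, 0, 0, 0; 0, 0, ω, 0, 0, 0; 0, ω, 0, 0, 0, 0]

theorem alt_sym (ω : F) : (alt ω)ᵀ * gen ω = (gen ω)ᵀ * alt ω := by
  ext r s
  rw [Matrix.mul_apply, Matrix.mul_apply, Fin.sum_univ_six, Fin.sum_univ_six]
  fin_cases r <;> fin_cases s <;> simp [alt, gen, nx]

theorem det_gen (ω : F) (h2 : (2 : F) = 0) : (gen ω).det = ω ^ 2 := by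
  simp [gen, nx, Matrix.det_succ_row_zero, Fin.sum_univ_succ, Fin.succAbove]
  grind

theorem alt_gen (ω : F) : alt ω * gen ω = !![0, 0, 0, 0, 0, ω; 0, 0, 0, 0, ω, 0; 0, 0, 0, ω, 0, 0;
    0, 0, ω, 0, 0, 0; 0, ω, 0, 0, 0, 0; ω, 0, 0, 0, 0, 0] := by
  ext r s
  rw [Matrix.mul_apply, Fin.sum_univ_six]
  fin_cases r <;> fin_cases s <;> simp [alt, gen, nx]

theorem alt_gen_gen (ω : F) : alt ω * (gen ω * gen ω) = !![0, 0, 0, 0, ω, 0; 0, 0, 0, ω, 0, 0; 0, 0, 0, 0, 0, ω * ω;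
    0, ω, 0, 0, 0, 0; ω, 0, 0, 0, 0, 0; 0, 0, ω * ω, 0, 0, 0] := by
  rw [← mul_assoc, alt_gen]
  ext r s
  rw [Matrix.mul_apply, Fin.sum_univ_six]
  fin_cases r <;> fin_cases s <;> simp [gen, nx]

set_option maxHeartbeats 1600000 in
theorem core {ω : F} (hω : ω ^ 2 + ω + 1 = 0) {g : Matrix (Fin 6) (Fin 6) F} {c : F} (hc : c ^ 3 = 1)
    (hg : gᵀ * bm K.bar g = 1) (hd : g.det = 1) (hgz : g * gen ω = c • (gen ω * g)) :
    ∃ d : F, gᵀ * alt ω * g = d • alt ω := by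
  have h2 := two_eq_zero K
  have hω0 : ω ≠ 0 := fun e => by simp [e] at hω
  have hω3 : ω ^ 3 = 1 := by linear_combination (ω - 1) * hω
  have hc0 : c ≠ 0 := fun e => by simp [e] at hc
  obtain ⟨B, hB⟩ : ∃ B, B = gᵀ * alt ω * g := ⟨_, rfl⟩
  have hsymA : (alt ω)ᵀ = alt ω := by ext r s; fin_cases r <;> fin_cases s <;> rfl
  have hz : gen ω * g = c ^ 2 • (g * gen ω) := by
    rw [hgz, smul_smul, ← pow_succ, hc, one_smul]
  have hcomm : (gen ω)ᵀ * B = B * gen ω := by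
    have e1 : (gen ω)ᵀ * gᵀ = c • (gᵀ * (gen ω)ᵀ) := by
      rw [← transpose_mul, hgz, transpose_smul, transpose_mul]
    have e2 : (gen ω)ᵀ * alt ω = alt ω * gen ω := by
      have := alt_sym ω; rw [hsymA] at this; exact this.symm
    calc (gen ω)ᵀ * B = c • (gᵀ * ((gen ω)ᵀ * alt ω) * g) := by
          rw [hB, ← mul_assoc, ← mul_assoc, e1, smul_mul_assoc, smul_mul_assoc]; simp only [mul_assoc]
      _ = c • (gᵀ * alt ω * (gen ω * g)) := by rw [e2]; simp only [mul_assoc]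
      _ = B * gen ω := by rw [hz, mul_smul_comm, smul_smul, ← pow_succ', hc, one_smul, hB, mul_assoc _ g]
  have hsymB : ∀ r s, B s r = B r s := fun r s => by
    have : Bᵀ = B := by rw [hB, transpose_mul, transpose_mul, transpose_transpose, hsymA, mul_assoc]
    exact congrFun (congrFun this r) s
  have hdiag : ∀ r, B r r = 0 := fun r => by
    rw [hB, Matrix.mul_apply, Fin.sum_univ_six]
    simp [Matrix.mul_apply, Fin.sum_univ_six, alt]
    linear_combination (g 0 r * g 3 r + ω * (g 1 r * g 5 r) + ω * (g 2 r * g 4 r)) * h2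
  have he : ∀ r s : Fin 6, ![1, 1, ω, 1, 1, ω] r * B (nx r) s = B r (nx s) * ![1, 1, ω, 1, 1, ω] s := fun r s => by
    have := congrFun (congrFun hcomm r) s
    simpa [Matrix.mul_apply, gen] using this
  have hbb : B * bm K.bar B = 1 := by
    have e1 : g * (bm K.bar g)ᵀ = 1 := by
      refine mul_eq_one_comm.1 ?_
      have := congrArg transpose hg
      rwa [transpose_mul, transpose_transpose, transpose_one] at this
    have e2 : alt ω * bm K.bar (alt ω) = 1 := by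
      ext r s
      rw [Matrix.mul_apply, Fin.sum_univ_six]
      fin_cases r <;> fin_cases s <;>
        simp [alt, bm_apply, Matrix.one_apply, K.bar_apply, ← pow_succ', hω3]
    rw [hB, map_mul, map_mul, ← bm_transpose]
    calc gᵀ * alt ω * g * ((bm K.bar g)ᵀ * bm K.bar (alt ω) * bm K.bar g)
        = gᵀ * alt ω * (g * (bm K.bar g)ᵀ) * bm K.bar (alt ω) * bm K.bar g := by simp only [mul_assoc]
      _ = gᵀ * (alt ω * bm K.bar (alt ω)) * bm K.bar g := by rw [e1, mul_one]; simp only [mul_assoc]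
      _ = 1 := by rw [e2, mul_one, hg]
  have hdet : B.det = (alt ω).det := by
    rw [hB, det_mul, det_mul, det_transpose, hd]; simp
  -- the entries
  have a01 := he 0 0; have a02 := he 0 1; have a11 := he 1 1; have a12 := he 0 2; have a22 := he 1 2
  have b01 := he 3 3; have b02 := he 3 4; have b11 := he 4 4; have b12 := he 3 5; have b22 := he 4 5
  have c10 := he 0 3; have c11 := he 0 4; have c12 := he 0 5; have c20 := he 1 3; have c21 := he 1 4
  have c22 := he 1 5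
  simp [nx] at a01 a02 a11 a12 a22 b01 b02 b11 b12 b22 c10 c11 c12 c20 c21 c22
  have d0 := hdiag 0; have d1 := hdiag 1; have d2 := hdiag 2
  have d3 := hdiag 3; have d4 := hdiag 4; have d5 := hdiag 5
  obtain ⟨x, hx⟩ : ∃ x, x = B 0 3 := ⟨_, rfl⟩
  obtain ⟨y, hy⟩ : ∃ y, y = B 0 4 := ⟨_, rfl⟩
  obtain ⟨z, hz'⟩ : ∃ z, z = B 0 5 := ⟨_, rfl⟩
  have f02 : B 0 2 = 0 := by rw [← a02, d1]
  have f12 : B 1 2 = 0 := by rw [a12, d0, zero_mul]
  have f01 : B 0 1 = 0 := by
    rw [d2] at a22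
    exact (mul_eq_zero.1 ((hsymB 0 1 ▸ a22).symm)).resolve_right hω0
  have f35 : B 3 5 = 0 := by rw [← b02, d4]
  have f45 : B 4 5 = 0 := by rw [b12, d3, zero_mul]
  have f34 : B 3 4 = 0 := by
    rw [d5] at b22
    exact (mul_eq_zero.1 ((hsymB 3 4 ▸ b22).symm)).resolve_right hω0
  have hBeq : B = !![0, 0, 0, x, y, z; 0, 0, 0, y, z, ω * x; 0, 0, 0, z, ω * x, ω * y;
      x, y, z, 0, 0, 0; y, z, ω * x, 0, 0, 0; z, ω * x, ω * y, 0, 0, 0] := by
    ext r s
    have g14 : B 1 3 = y := by rw [c10, hy]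
    have g15 : B 1 4 = z := by rw [c11, hz']
    have g16 : B 1 5 = ω * x := by rw [c12, hx, mul_comm]
    have g24 : B 2 3 = z := by rw [c20, g15]
    have g25 : B 2 4 = ω * x := by rw [c21, g16]
    have g26 : B 2 5 = ω * y := by rw [c22, g14, mul_comm]
    fin_cases r <;> fin_cases s <;>
      simp [d0, d1, d2, d3, d4, d5, f01, f02, f12, f34, f35, f45, ← hx, ← hy, ← hz', g14, g15, g16, g24, g25, g26,
        hsymB 0 1, hsymB 0 2, hsymB 0 3, hsymB 0 4, hsymB 0 5, hsymB 1 2, hsymB 1 3, hsymB 1 4, hsymB 1 5,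
        hsymB 2 3, hsymB 2 4, hsymB 2 5, hsymB 3 4, hsymB 3 5, hsymB 4 5]
  have q00 : x ^ 3 + y ^ 3 + z ^ 3 = 1 := by
    have := congrFun (congrFun hbb 0) 0
    rw [hBeq, Matrix.mul_apply, Fin.sum_univ_six] at this
    simp [bm_apply, K.bar_apply] at this
    linear_combination this
  have q01 : x * y ^ 2 + y * z ^ 2 + z * (ω * x) ^ 2 = 0 := by
    have := congrFun (congrFun hbb 0) 1
    rw [hBeq, Matrix.mul_apply, Fin.sum_univ_six] at this
    simp [bm_apply, K.bar_apply] at this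
    linear_combination this
  have hone : (1 : F) ≠ 0 := one_ne_zero
  have hscal : y = 0 → z = 0 → ∃ d : F, B = d • alt ω := by
    rintro rfl rfl
    refine ⟨x, ?_⟩
    ext r s
    rw [hBeq]
    fin_cases r <;> fin_cases s <;> simp [alt, mul_comm]
  have hnot : ∀ (e : F) (Z' : Matrix (Fin 6) (Fin 6) F), e ^ 3 = 1 → Z'.det ≠ 1 → B ≠ e • (alt ω * Z') := by
    intro e Z' he3 hZ' hcon
    rw [hcon, det_smul, det_mul, Fintype.card_fin, show e ^ 6 = (e ^ 3) ^ 2 by ring, he3, one_pow, one_mul] at hdet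
    have hA : (alt ω).det ≠ 0 := by
      intro h0
      have h1 := congrArg Matrix.det hbb
      rw [det_mul, hcon, det_smul, det_mul, h0] at h1
      simp at h1
    exact hZ' (mul_left_cancel₀ hA (hdet.trans (mul_one _).symm))
  rw [← hB]
  rcases eq_or_ne x 0 with hx0 | hx0 <;> rcases eq_or_ne y 0 with hy0 | hy0 <;> rcases eq_or_ne z 0 with hz0 | hz0
  · subst hx0 hy0 hz0; simp at q00
  · refine absurd ?_ (hnot (ω ^ 2 * z) (gen ω) ?_ ?_)
    · ext r s
      rw [hBeq, hx0, hy0, alt_gen, Matrix.smul_apply]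
      fin_cases r <;> fin_cases s <;> simp <;> linear_combination (-z) * hω3
    · have := cube_eq_one K (mul_ne_zero (pow_ne_zero 2 hω0) hz0); exact this
    · rw [det_gen ω h2]; intro e; exact hone (by grind)
  · refine absurd ?_ (hnot (ω ^ 2 * y) (gen ω * gen ω) ?_ ?_)
    · ext r s
      rw [hBeq, hx0, hz0, alt_gen_gen, Matrix.smul_apply]
      fin_cases r <;> fin_cases s <;> simp <;> first
        | linear_combination (-y) * hω3
        | linear_combination (-(ω * y)) * hω3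
    · exact cube_eq_one K (mul_ne_zero (pow_ne_zero 2 hω0) hy0)
    · rw [det_mul, det_gen ω h2]; intro e; exact hone (by grind)
  · have := cube_eq_one K hy0; have := cube_eq_one K hz0; subst hx0; exact absurd q00 (by grind)
  · exact hscal hy0 hz0
  · have := cube_eq_one K hx0; have := cube_eq_one K hz0; subst hy0; exact absurd q00 (by grind)
  · have := cube_eq_one K hx0; have := cube_eq_one K hy0; subst hz0; exact absurd q00 (by grind)
  · have := cube_eq_one K hx0; have := cube_eq_one K hy0; have := cube_eq_one K hz0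
    exfalso; exact hone (by grind)

/-- The normaliser of a cubic field lies in a symplectic subfield group. -/
theorem urational_of_field {H : Subgroup (GL (Fin 6) F)} (hH : ∀ g ∈ H, Iso K.bar 1 g.val)
    (hdet : ∀ g ∈ H, g.val.det = 1) {L : Subalgebra F (Matrix (Fin 6) (Fin 6) F)} (hL : IsFieldSubalgebra 3 L)
    (hcl : IsAdjointClosedFor (Cfsg.hermForm 6 F 2) L) (hle : H ≤ subalgebraNormalizer L) :
    URationalCase 2 H := by
  obtain ⟨Z, ω, hω, hZ3, hZu, hgen⟩ := exists_unit_nine K (by norm_num) hL hcl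
  obtain ⟨v, w, hfr⟩ := exists_frame K hω hZ3 hZu
  obtain ⟨u, hu⟩ : ∃ u, u = ![v, Z *ᵥ v, Z *ᵥ (Z *ᵥ v), w, Z *ᵥ w, Z *ᵥ (Z *ᵥ w)] := ⟨_, rfl⟩
  rw [← hu] at hfr
  obtain ⟨P, hP⟩ : ∃ P : Matrix (Fin 6) (Fin 6) F, P = Matrix.of fun i r => u r i := ⟨_, rfl⟩
  have hPP : Pᵀ * bm K.bar P = 1 := by
    ext r s
    rw [Matrix.one_apply, ← hfr r s]
    simp [hP, uh, sform, Matrix.mul_apply, dotProduct, bm_apply]
  have hPP' : bm K.bar P * Pᵀ = 1 := mul_eq_one_comm.1 hPP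
  have hPP'' : P * (bm K.bar P)ᵀ = 1 := by
    have := congrArg transpose hPP'
    rwa [transpose_mul, transpose_transpose, transpose_one] at this
  have hPQ : (bm K.bar P)ᵀ * P = 1 := mul_eq_one_comm.1 hPP''
  have hconj : Z * P = P * gen ω := by
    have hz : ∀ x, Z *ᵥ (Z *ᵥ (Z *ᵥ x)) = ω • x := fun x => by
      rw [mulVec_mulVec, mulVec_mulVec, mul_assoc, hZ3, smul_mulVec, one_mulVec]
    have hcol : ∀ s, Z *ᵥ u s = ![1, 1, ω, 1, 1, ω] s • u (nx s) := by
      intro s; fin_cases s <;> simp [hu, nx, hz, -mulVec_mulVec]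
    ext i s
    have e := congrFun (hcol s) i
    rw [hP, Matrix.mul_apply, Matrix.mul_apply]
    simp only [Matrix.of_apply, gen, mul_ite, mul_zero, Finset.sum_ite_eq', Finset.mem_univ, if_true]
    rw [mul_comm]
    exact e
  have h2 := two_eq_zero K
  have hω3 : ω ^ 3 = 1 := by linear_combination (ω - 1) * hω
  refine urational_of_alternating K (by decide) (B := bm K.bar P * alt ω * (bm K.bar P)ᵀ) (fun x => ?_) ?_ hH
    fun g hg => ?_
  · obtain ⟨y, hy⟩ : ∃ y, y = (bm K.bar P)ᵀ *ᵥ x := ⟨_, rfl⟩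
    rw [← mulVec_mulVec, ← mulVec_mulVec, dotProduct_mulVec, ← mulVec_transpose, ← hy]
    simp [alt, dotProduct, mulVec, Fin.sum_univ_six]
    linear_combination (y 0 * y 3 + ω * (y 1 * y 5) + ω * (y 2 * y 4)) * h2
  · have e2 : bm K.bar (alt ω) * alt ω = 1 := by
      ext r s
      rw [Matrix.mul_apply, Fin.sum_univ_six]
      fin_cases r <;> fin_cases s <;> simp [alt, bm_apply, Matrix.one_apply, K.bar_apply, ← pow_succ, hω3]
    rw [map_mul, map_mul, ← bm_transpose, bm_bm K.bar_bar]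
    calc P * bm K.bar (alt ω) * Pᵀ * (bm K.bar P * alt ω * (bm K.bar P)ᵀ)
        = P * bm K.bar (alt ω) * (Pᵀ * bm K.bar P) * alt ω * (bm K.bar P)ᵀ := by simp only [mul_assoc]
      _ = P * (bm K.bar (alt ω) * alt ω) * (bm K.bar P)ᵀ := by rw [hPP, mul_one]; simp only [mul_assoc]
      _ = 1 := by rw [e2, mul_one, hPP'']
  · obtain ⟨c, hc3, hgc⟩ := hgen g (hle hg)
    obtain ⟨g₁, hg₁⟩ : ∃ g₁, g₁ = (bm K.bar P)ᵀ * g.val * P := ⟨_, rfl⟩
    have e1 : g.valᵀ * bm K.bar g.val = 1 := by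
      have := hH g hg
      rwa [Iso, mul_one] at this
    have hiso : g₁ᵀ * bm K.bar g₁ = 1 := by
      rw [hg₁, transpose_mul, transpose_mul, transpose_transpose, map_mul, map_mul, ← bm_transpose,
        bm_bm K.bar_bar]
      calc Pᵀ * (g.valᵀ * bm K.bar P) * (Pᵀ * bm K.bar g.val * bm K.bar P)
          = Pᵀ * g.valᵀ * (bm K.bar P * Pᵀ) * bm K.bar g.val * bm K.bar P := by simp only [mul_assoc]
        _ = Pᵀ * (g.valᵀ * bm K.bar g.val) * bm K.bar P := by rw [hPP', mul_one]; simp only [mul_assoc]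
        _ = 1 := by rw [e1, mul_one, hPP]
    have hd : g₁.det = 1 := by
      rw [hg₁, det_mul, det_mul, hdet g hg, mul_one, ← det_mul, hPQ, det_one]
    have hPg : P * g₁ = g.val * P := by rw [hg₁, ← mul_assoc, ← mul_assoc, hPP'', one_mul]
    have hgz : g₁ * gen ω = c • (gen ω * g₁) := by
      calc g₁ * gen ω = (bm K.bar P)ᵀ * (g.val * Z) * P := by
            rw [hg₁, mul_assoc _ P, ← hconj]; simp only [mul_assoc]
        _ = c • ((bm K.bar P)ᵀ * (Z * P) * g₁) := by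
            rw [hgc, mul_smul_comm, smul_mul_assoc]
            congr 1
            rw [mul_assoc, mul_assoc _ (Z * P) g₁, mul_assoc Z, mul_assoc Z P, hPg]
        _ = c • (gen ω * g₁) := by rw [hconj, ← mul_assoc _ P, hPQ, one_mul]
    obtain ⟨d, hd'⟩ := core K hω hc3 hiso hd hgz
    refine ⟨d, ?_⟩
    have hgP : (bm K.bar P)ᵀ * g.val = g₁ * (bm K.bar P)ᵀ := by
      rw [hg₁, mul_assoc _ P, hPP'', mul_one]
    calc g.valᵀ * (bm K.bar P * alt ω * (bm K.bar P)ᵀ) * g.val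
        = ((bm K.bar P)ᵀ * g.val)ᵀ * alt ω * ((bm K.bar P)ᵀ * g.val) := by
          rw [transpose_mul, transpose_transpose]; simp only [mul_assoc]
      _ = bm K.bar P * (g₁ᵀ * alt ω * g₁) * (bm K.bar P)ᵀ := by
          rw [hgP, transpose_mul, transpose_transpose]; simp only [mul_assoc]
      _ = d • (bm K.bar P * alt ω * (bm K.bar P)ᵀ) := by rw [hd', mul_smul_comm, smul_mul_assoc]

end CfsgLib.Asch.UnitSix
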