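import Cfsg.Agent.Lib.Classical.AschUnitFiveData
import Cfsg.Agent.Lib.Classical.AschUnitSixField

set_option autoImplicit false
set_option linter.unusedSectionVars false

/-!
For `q = 2` the normaliser of a field of degree five is contained in a copy of `L₂(11)`, so is not maximal.
-/

namespace CfsgLib.Asch.UnitFive

open Matrix
open Cfsg.Geo (IsFieldSubalgebra IsAdjointClosedFor subalgebraNormalizer)
open CfsgLib.PrimeDim (SUGL)
open CfsgLib.ClassicalAut (Unitary.Conj)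
open CfsgLib.Asch.UnitSix (uh uh_ext uh_swap scalar_of_pow pow_four two_eq_zero cube_eq_one)
open scoped MatrixGroups

variable {F : Type*} [Field F] [Fintype F]

/-- The embedding of the codes. -/
def embVal (ω : F) (a : F4) : F := ![0, 1, ω, ω + 1] a.code

/-- The embedding of the computable field. -/
def emb {ω : F} (hω : ω ^ 2 + ω + 1 = 0) (h2 : (2 : F) = 0) : F4 →+* F where
  toFun := embVal ω
  map_one' := rfl
  map_zero' := rfl
  map_add' := by
    rintro ⟨a⟩ ⟨b⟩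
    show embVal ω ⟨F4.addT a b⟩ = _
    fin_cases a <;> fin_cases b <;> simp [embVal, F4.addT] <;> grind
  map_mul' := by
    rintro ⟨a⟩ ⟨b⟩
    show embVal ω ⟨F4.mulT a b⟩ = _
    fin_cases a <;> fin_cases b <;> simp [embVal, F4.mulT] <;> grind

theorem emb_inj {ω : F} (hω : ω ^ 2 + ω + 1 = 0) (h2 : (2 : F) = 0) : Function.Injective (emb hω h2) := by
  rintro ⟨a⟩ ⟨b⟩
  show embVal ω ⟨a⟩ = embVal ω ⟨b⟩ → _
  fin_cases a <;> fin_cases b <;> simp [embVal] <;> grind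

theorem emb_bar (K : Unitary.Conj F 2) {ω : F} (hω : ω ^ 2 + ω + 1 = 0) (h2 : (2 : F) = 0) (a : F4) :
    K.bar (emb hω h2 a) = emb hω h2 (a * a) := by rw [map_mul, K.bar_apply, pow_two]

theorem emb_surj (K : Unitary.Conj F 2) {ω : F} (hω : ω ^ 2 + ω + 1 = 0) (h2 : (2 : F) = 0) :
    Function.Surjective (emb hω h2) :=
  ((emb_inj hω h2).bijective_of_nat_card_le (by rw [K.card, Nat.card_eq_fintype_card]; decide)).2

theorem two_eq_zero_mat (K : Unitary.Conj F 2) (x : Matrix (Fin 5) (Fin 5) F) : x + x = 0 := by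
  ext i j
  have h2 := two_eq_zero K
  simp only [Matrix.add_apply, Matrix.zero_apply]
  linear_combination (x i j) * h2

theorem frob_add (K : Unitary.Conj F 2) {x y : Matrix (Fin 5) (Fin 5) F} (h : Commute x y) (k : ℕ) :
    (x + y) ^ 2 ^ k = x ^ 2 ^ k + y ^ 2 ^ k := by
  induction k with
  | zero => simp
  | succ k ih =>
    rw [pow_succ, pow_mul, ih, pow_mul, pow_mul, pow_two, pow_two, pow_two]
    obtain ⟨a, ha⟩ : ∃ a, a = x ^ 2 ^ k := ⟨_, rfl⟩
    obtain ⟨b, hb⟩ : ∃ b, b = y ^ 2 ^ k := ⟨_, rfl⟩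
    have hab : b * a = a * b := by rw [ha, hb]; exact ((h.pow_pow _ _).eq).symm
    rw [← ha, ← hb, add_mul, mul_add, mul_add, hab,
      show a * a + a * b + (a * b + b * b) = a * a + b * b + (a * b + a * b) from by abel,
      two_eq_zero_mat K, add_zero]

theorem frob_sum (K : Unitary.Conj F 2) {ι : Type*} (s : Finset ι) (f : ι → Matrix (Fin 5) (Fin 5) F)
    (h : ∀ i j, Commute (f i) (f j)) (k : ℕ) : (∑ i ∈ s, f i) ^ 2 ^ k = ∑ i ∈ s, f i ^ 2 ^ k := by
  classical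
  induction s using Finset.induction_on with
  | empty => simp [zero_pow (pow_ne_zero k two_ne_zero)]
  | @insert a s ha ih =>
    rw [Finset.sum_insert ha, Finset.sum_insert ha, frob_add K (Commute.sum_right _ _ _ fun i _ => h a i), ih]

/-- The trace of the field. -/
def tr (x : Matrix (Fin 5) (Fin 5) F) : Matrix (Fin 5) (Fin 5) F :=
  x + x ^ 4 + x ^ 16 + x ^ 64 + x ^ 256

theorem tr_add (K : Unitary.Conj F 2) {x y : Matrix (Fin 5) (Fin 5) F} (h : Commute x y) :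
    tr (x + y) = tr x + tr y := by
  simp only [tr]
  rw [show (4 : ℕ) = 2 ^ 2 from rfl, show (16 : ℕ) = 2 ^ 4 from rfl, show (64 : ℕ) = 2 ^ 6 from rfl,
    show (256 : ℕ) = 2 ^ 8 from rfl, frob_add K h, frob_add K h, frob_add K h, frob_add K h]
  abel

theorem pow_scalar (K : Unitary.Conj F 2) (c : F) :
    c ^ 4 = c ∧ c ^ 16 = c ∧ c ^ 64 = c ∧ c ^ 256 = c := by
  have h := pow_four K c
  have h16 : c ^ 16 = c := by rw [show 16 = 4 * 4 from rfl, pow_mul, h, h]
  have h64 : c ^ 64 = c := by rw [show 64 = 16 * 4 from rfl, pow_mul, h16, h]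
  exact ⟨h, h16, h64, by rw [show 256 = 64 * 4 from rfl, pow_mul, h64, h]⟩

theorem tr_smul (K : Unitary.Conj F 2) (c : F) (x : Matrix (Fin 5) (Fin 5) F) : tr (c • x) = c • tr x := by
  obtain ⟨h1, h2, h3, h4⟩ := pow_scalar K c
  simp only [tr, smul_pow, h1, h2, h3, h4, smul_add]

theorem smul_one_inj {a b : F} (e : a • (1 : Matrix (Fin 5) (Fin 5) F) = b • 1) : a = b := by
  have := congrFun (congrFun e 0) 0
  simpa using this

/-- The facts about a generator of the torus. -/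
structure Gen (K : Unitary.Conj F 2) (L : Subalgebra F (Matrix (Fin 5) (Fin 5) F)) (φ : F4 →+* F)
    (Z : Matrix (Fin 5) (Fin 5) F) : Prop where
  mem : Z ∈ L
  pow11 : Z ^ 11 = 1
  tr_eq : ∀ d : Fin 11, tr (Z ^ (d : ℕ)) = φ ⟨tau d⟩ • 1
  unit : ∀ u v, uh K (Z *ᵥ u) (Z *ᵥ v) = uh K u v
  roots : ∀ x ∈ L, x ^ 11 = 1 → ∃ k : Fin 11, x = Z ^ (k : ℕ)

theorem pow_red {Z : Matrix (Fin 5) (Fin 5) F} (h : Z ^ 11 = 1) (k : ℕ) : Z ^ k = Z ^ (k % 11) := by
  conv_lhs => rw [← Nat.mod_add_div k 11, pow_add, pow_mul, h, one_pow, mul_one]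

theorem exists_gen (K : Unitary.Conj F 2) {L : Subalgebra F (Matrix (Fin 5) (Fin 5) F)}
    (hL : IsFieldSubalgebra 5 L) (hcl : IsAdjointClosedFor (Cfsg.hermForm 5 F 2) L) :
    ∃ (φ : F4 →+* F) (Z : Matrix (Fin 5) (Fin 5) F), Function.Injective φ ∧
      (∀ a, K.bar (φ a) = φ (a * a)) ∧ Function.Surjective φ ∧ Gen K L φ Z := by
  classical
  haveI : Finite L := Finite.of_injective _ Subtype.val_injective
  have hnt : Nontrivial L := by
    have : 0 < Module.finrank F L := by rw [hL.finrank_eq]; norm_num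
    exact Module.finrank_pos_iff.1 this
  have hFL : IsField L := ⟨hnt.exists_pair_ne, fun a b => Subtype.ext (hL.comm a a.2 b b.2), fun {a} ha => by
    obtain ⟨b, hb, hab⟩ := hL.inv a a.2 fun e => ha (Subtype.ext e)
    exact ⟨⟨b, hb⟩, Subtype.ext hab⟩⟩
  letI : Field L := hFL.toField
  have hcard : Nat.card Lˣ = 1023 := by
    rw [Nat.card_units, Module.natCard_eq_pow_finrank (K := F), hL.finrank_eq, K.card]
    norm_num
  obtain ⟨g₀, hg₀⟩ := IsCyclic.exists_ofOrder_eq_natCard (α := Lˣ)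
  rw [hcard] at hg₀
  have hord : orderOf (g₀ ^ 93) = 11 := by
    rw [orderOf_pow' g₀ (by norm_num), hg₀]; norm_num
  have hprim : IsPrimitiveRoot ((g₀ ^ 93 : Lˣ) : L) 11 :=
    (IsPrimitiveRoot.orderOf ((g₀ ^ 93 : Lˣ) : L)) |> fun h => by rwa [orderOf_units, hord] at h
  obtain ⟨Z, hZdef⟩ : ∃ Z : Matrix (Fin 5) (Fin 5) F, Z = ((g₀ ^ 93 : Lˣ) : L).1 := ⟨_, rfl⟩
  have hZ : Z ∈ L := hZdef ▸ ((g₀ ^ 93 : Lˣ) : L).2
  have hpow : ∀ k : ℕ, Z ^ k = (((g₀ ^ 93 : Lˣ) : L) ^ k : L).1 := fun k => by rw [hZdef]; rfl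
  have h11 : Z ^ 11 = 1 := by rw [hpow, hprim.pow_eq_one]; rfl
  have hroots : ∀ x ∈ L, x ^ 11 = 1 → ∃ k : Fin 11, x = Z ^ (k : ℕ) := fun x hx h => by
    obtain ⟨k, hk, hk'⟩ := hprim.eq_pow_of_pow_eq_one (ξ := (⟨x, hx⟩ : L)) (Subtype.ext h)
    exact ⟨⟨k, hk⟩, (congrArg Subtype.val hk').symm.trans (hpow k).symm⟩
  have hsum : ∑ k ∈ Finset.range 11, Z ^ k = 0 := by
    have := hprim.geom_sum_eq_zero (by norm_num)
    have e := congrArg Subtype.val this
    rw [AddSubmonoidClass.coe_finsetSum] at e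
    simp only [← hpow] at e
    exact e
  have hmod := pow_red h11
  have hη4 : (Z + Z ^ 4 + Z ^ 16 + Z ^ 64 + Z ^ 256) ^ 4 = Z + Z ^ 4 + Z ^ 16 + Z ^ 64 + Z ^ 256 := by
    have hc : ∀ a b : ℕ, Commute (Z ^ a) (Z ^ b) := fun a b => Commute.pow_pow (Commute.refl Z) a b
    have e1 : Commute Z (Z ^ 4) := Commute.self_pow Z 4
    rw [show (4 : ℕ) = 2 ^ 2 from rfl]
    rw [frob_add K, frob_add K, frob_add K, frob_add K]
    · simp only [← pow_mul]
      rw [hmod (2 ^ 2 * 2 ^ 2), hmod (16 * 2 ^ 2), hmod (64 * 2 ^ 2), hmod (256 * 2 ^ 2), hmod (2 ^ 2), hmod 16,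
        hmod 64, hmod 256]
      norm_num
      abel
    · exact e1
    · exact Commute.add_left (Commute.self_pow Z 16) (hc 4 16)
    · exact (Commute.add_left (Commute.add_left (Commute.self_pow Z 64) (hc 4 64)) (hc 16 64))
    · exact (Commute.add_left (Commute.add_left (Commute.add_left (Commute.self_pow Z 256) (hc 4 256)) (hc 16 256))
        (hc 64 256))
  have hηmem : Z + Z ^ 4 + Z ^ 16 + Z ^ 64 + Z ^ 256 ∈ L :=
    add_mem (add_mem (add_mem (add_mem hZ (pow_mem hZ _)) (pow_mem hZ _)) (pow_mem hZ _)) (pow_mem hZ _)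
  obtain ⟨ω, hω⟩ := scalar_of_pow (by norm_num) (by norm_num) hL K hηmem hη4
  have hη : Z + Z ^ 4 + Z ^ 5 + Z ^ 9 + Z ^ 3 = ω • 1 := by
    rw [← hω, hmod 16, hmod 64, hmod 256]
  have hexp := hsum
  simp only [Finset.sum_range_succ, Finset.sum_range_zero, zero_add, pow_zero, pow_one] at hexp
  have hη' : Z ^ 2 + Z ^ 6 + Z ^ 7 + Z ^ 8 + Z ^ 10 = (ω + 1) • 1 := by
    rw [add_smul, one_smul, ← hη]
    apply eq_of_sub_eq_zero
    rw [show (0 : Matrix (Fin 5) (Fin 5) F) = 1 + Z + Z ^ 2 + Z ^ 3 + Z ^ 4 + Z ^ 5 + Z ^ 6 + Z ^ 7 + Z ^ 8 + Z ^ 9 + Z ^ 10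
      from hexp.symm, sub_eq_iff_eq_add]
    have e := two_eq_zero_mat K (1 + Z + Z ^ 3 + Z ^ 4 + Z ^ 5 + Z ^ 9)
    calc Z ^ 2 + Z ^ 6 + Z ^ 7 + Z ^ 8 + Z ^ 10
        = Z ^ 2 + Z ^ 6 + Z ^ 7 + Z ^ 8 + Z ^ 10 +
          ((1 + Z + Z ^ 3 + Z ^ 4 + Z ^ 5 + Z ^ 9) + (1 + Z + Z ^ 3 + Z ^ 4 + Z ^ 5 + Z ^ 9)) := by
          rw [e, add_zero]
      _ = _ := by abel
  have h2 := two_eq_zero K
  have hω2 : ω ^ 2 + ω + 1 = 0 := by
    apply smul_one_inj
    rw [zero_smul]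
    have h22 : (Z + Z ^ 4 + Z ^ 5 + Z ^ 9 + Z ^ 3) ^ 2 = Z ^ 2 + Z ^ 6 + Z ^ 7 + Z ^ 8 + Z ^ 10 := by
      have hc : ∀ a b : ℕ, Commute (Z ^ a) (Z ^ b) := fun a b => Commute.pow_pow (Commute.refl Z) a b
      rw [show (2 : ℕ) = 2 ^ 1 from rfl, frob_add K, frob_add K, frob_add K, frob_add K]
      · simp only [← pow_mul]
        rw [hmod (4 * 2 ^ 1), hmod (5 * 2 ^ 1), hmod (9 * 2 ^ 1), hmod (3 * 2 ^ 1), hmod (2 ^ 1)]
        norm_num
        abel
      · exact Commute.self_pow Z 4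
      · exact Commute.add_left (Commute.self_pow Z 5) (hc 4 5)
      · exact Commute.add_left (Commute.add_left (Commute.self_pow Z 9) (hc 4 9)) (hc 5 9)
      · exact Commute.add_left (Commute.add_left (Commute.add_left (Commute.self_pow Z 3) (hc 4 3)) (hc 5 3)) (hc 9 3)
    rw [hη, hη', smul_pow, one_pow] at h22
    have := smul_one_inj h22
    rw [show ω ^ 2 + ω + 1 = 0 by linear_combination this + (ω + 1) * h2, zero_smul]
  refine ⟨emb hω2 h2, Z, emb_inj hω2 h2, emb_bar K hω2 h2, emb_surj K hω2 h2,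
    ⟨hZ, h11, fun d => ?_, ?_, hroots⟩⟩
  · have e1 : emb hω2 h2 ⟨tau d⟩ = embVal ω ⟨tau d⟩ := rfl
    rw [e1, tr]
    fin_cases d <;>
      (simp only [← pow_mul]
       simp [embVal, tau, hmod 12, hmod 16, hmod 20, hmod 24, hmod 28, hmod 32, hmod 36, hmod 40, hmod 48, hmod 64,
         hmod 80, hmod 96, hmod 112, hmod 128, hmod 144, hmod 160, hmod 192, hmod 256, hmod 320, hmod 384,
         hmod 448, hmod 512, hmod 576, hmod 640, hmod 768, hmod 1024, hmod 1280, hmod 1536, hmod 1792, hmod 2048,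
         hmod 2304, hmod 2560, -add_smul]
       first
        | exact hη.symm.trans (by abel) |>.symm
        | (rw [← hη']; abel)
        | (calc (1 : Matrix (Fin 5) (Fin 5) F) + 1 + 1 + 1 = (1 + 1) + (1 + 1) := by abel
             _ = 0 := by rw [two_eq_zero_mat K]))
  · obtain ⟨Z', hZ'L, hZ'⟩ := hcl Z hZ
    simp only [herm_sform K] at hZ'
    have hk : ∀ (k : ℕ) u v, uh K (Z ^ k *ᵥ u) v = uh K u (Z' ^ k *ᵥ v) := by
      intro k
      induction k with
      | zero => simp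
      | succ k ih =>
        intro u v
        rw [pow_succ', pow_succ, ← mulVec_mulVec, ← mulVec_mulVec]
        exact (hZ' _ _).trans (ih u (Z' *ᵥ v))
    have hZ'11 : Z' ^ 11 = 1 := uh_ext K fun u v => by rw [← hk, h11, one_mulVec, one_mulVec]
    obtain ⟨a, ha⟩ := hroots Z' hZ'L hZ'11
    have hiso : ∀ u v, uh K (Z *ᵥ u) (Z *ᵥ v) = uh K u (Z ^ ((a : ℕ) + 1) *ᵥ v) := fun u v => by
      show sform K.bar 1 _ _ = _
      rw [hZ', mulVec_mulVec, pow_succ, ← ha]
    -- the adjoint of the adjoint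
    have hsw : ∀ u v, uh K u (Z *ᵥ v) = uh K (Z' *ᵥ u) v := fun u v => by
      rw [uh_swap K (Z *ᵥ v) u, show uh K (Z *ᵥ v) u = uh K v (Z' *ᵥ u) from hZ' v u, ← uh_swap]
    have hZZ : Z = Z ^ ((a : ℕ) * a) := by
      refine uh_ext K fun u v => ?_
      rw [hsw, ha, hk, pow_mul, ← ha]
    have hA : (a : ℕ) * a % 11 = 1 := by
      have h' : ((g₀ ^ 93 : Lˣ) : L) ^ 1 = ((g₀ ^ 93 : Lˣ) : L) ^ ((a : ℕ) * a % 11) :=
        Subtype.ext (by rw [← hpow, ← hpow, pow_one, ← hmod]; exact hZZ)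
      exact (hprim.pow_inj (by norm_num) (Nat.mod_lt _ (by norm_num)) h').symm
    have ha10 : a.val = 10 := by
      have h1 : a.val = 1 ∨ a.val = 10 := (show ∀ a : Fin 11, (a : ℕ) * a % 11 = 1 → a.val = 1 ∨ a.val = 10 by decide) a hA
      refine h1.resolve_left fun h => ?_
      rw [h, pow_one] at ha
      have hfix : ∀ u v, uh K (Z *ᵥ u) v = uh K u (Z *ᵥ v) := fun u v => by
        have := hZ' u v; rw [ha] at this; exact this
      have hpk : ∀ (k : ℕ) u v, uh K (Z ^ k *ᵥ u) v = uh K u (Z ^ k *ᵥ v) := fun k u v => by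
        rw [hk, ha]
      have e : ∀ u v, uh K ((ω • (1 : Matrix (Fin 5) (Fin 5) F)) *ᵥ u) v = uh K u ((ω • (1 : Matrix (Fin 5) (Fin 5) F)) *ᵥ v) := by
        intro u v
        simp only [← hη, Matrix.add_mulVec, uh, sform_add_left, sform_add_right]
        exact congrArg₂ (· + ·) (congrArg₂ (· + ·) (congrArg₂ (· + ·) (congrArg₂ (· + ·)
          (hfix u v) (hpk 4 u v)) (hpk 5 u v)) (hpk 9 u v)) (hpk 3 u v)
      have e1 := e (Pi.single 0 1) (Pi.single 0 1)
      have hone : sform K.bar (1 : Matrix (Fin 5) (Fin 5) F) (Pi.single 0 1) (Pi.single 0 1) = 1 := by simp [sform]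
      simp only [smul_mulVec, one_mulVec, uh, sform_smul_left, sform_smul_right, hone, mul_one, K.bar_apply] at e1
      exact one_ne_zero (show (1 : F) = 0 by linear_combination hω2 + e1 - ω * h2)
    intro u v
    rw [hiso, ha10, h11, one_mulVec]

/-- The model matrix of a family. -/
def embM (φ : F4 →+* F) : Matrix (Fin 5) (Fin 5) F4 →+* Matrix (Fin 5) (Fin 5) F := φ.mapMatrix

theorem embM_conj (K : Unitary.Conj F 2) {φ : F4 →+* F} (hb : ∀ a, K.bar (φ a) = φ (a * a))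
    (X : Matrix (Fin 5) (Fin 5) F4) : bm K.bar (embM φ X) = embM φ (conjM X) :=
  Matrix.ext fun i j => hb (X i j)

theorem embM_inj {φ : F4 →+* F} (hi : Function.Injective φ) : Function.Injective (embM φ) := fun X Y e =>
  Matrix.ext fun i j => hi (congrFun (congrFun e i) j)

/-- The frame of the normaliser. -/
theorem exists_frame (K : Unitary.Conj F 2) {L : Subalgebra F (Matrix (Fin 5) (Fin 5) F)}
    (hL : IsFieldSubalgebra 5 L) (hcl : IsAdjointClosedFor (Cfsg.hermForm 5 F 2) L) {φ : F4 →+* F}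
    {Z : Matrix (Fin 5) (Fin 5) F} (hi : Function.Injective φ) (hb : ∀ a, K.bar (φ a) = φ (a * a))
    (hG : Gen K L φ Z) :
    ∃ P : GL (Fin 5) F, Pᵀ * bm K.bar (P : Matrix (Fin 5) (Fin 5) F) = embM φ mG ∧
      Z * (P : Matrix (Fin 5) (Fin 5) F) = (P : Matrix (Fin 5) (Fin 5) F) * embM φ mC ∧
      (∀ x : Matrix (Fin 5) (Fin 5) F, Commute x Z → x ∈ L) ∧
      (∀ x ∈ L, (∀ u v, uh K (x *ᵥ u) (x *ᵥ v) = uh K u v) → x ^ 33 = 1) := by
  classical
  have h11 := hG.pow11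
  have hmod := pow_red h11
  obtain ⟨Φ, hΦ⟩ : ∃ Φ : (Fin 5 → F) →ₗ[F] Matrix (Fin 5) (Fin 5) F,
      ∀ a, Φ a = ∑ i, a i • Z ^ (i : ℕ) :=
    ⟨{ toFun := fun a => ∑ i, a i • Z ^ (i : ℕ)
       map_add' := fun a b => by simp [add_smul, Finset.sum_add_distrib]
       map_smul' := fun c a => by simp [Finset.smul_sum, smul_smul] }, fun a => rfl⟩
  have hΦL : ∀ a, Φ a ∈ L := fun a => by
    rw [hΦ]; exact sum_mem fun i _ => L.smul_mem (pow_mem hG.mem _) _
  have hcm : ∀ x ∈ L, ∀ y ∈ L, Commute x y := fun x hx y hy => hL.comm x hx y hy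
  have htrsum : ∀ a : Fin 5 → F, ∀ s : Fin 5,
      tr (Z ^ (s : ℕ) * Φ a) = (embM φ mH *ᵥ a) s • 1 := by
    intro a s
    have e : ∀ i : Fin 5, tr (Z ^ (s : ℕ) * (a i • Z ^ (i : ℕ))) = (a i * φ (mH s i)) • 1 := fun i => by
      rw [mul_smul_comm, tr_smul K, ← pow_add, hmod, hG.tr_eq ⟨_, Nat.mod_lt _ (by norm_num)⟩, smul_smul,
        ← pairing_tau s i]
    rw [hΦ, Finset.mul_sum]
    have hm : ∀ i : Fin 5, Z ^ (s : ℕ) * (a i • Z ^ (i : ℕ)) ∈ L := fun i =>
      mul_mem (pow_mem hG.mem _) (L.smul_mem (pow_mem hG.mem _) _)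
    simp only [Fin.sum_univ_five]
    rw [tr_add K (hcm _ (add_mem (add_mem (add_mem (hm 0) (hm 1)) (hm 2)) (hm 3)) _ (hm 4)),
      tr_add K (hcm _ (add_mem (add_mem (hm 0) (hm 1)) (hm 2)) _ (hm 3)),
      tr_add K (hcm _ (add_mem (hm 0) (hm 1)) _ (hm 2)), tr_add K (hcm _ (hm 0) _ (hm 1)), e, e, e, e, e,
      ← add_smul, ← add_smul, ← add_smul, ← add_smul]
    congr 1
    simp [embM, Matrix.mulVec, dotProduct, Fin.sum_univ_five, mul_comm]
  have hΦinj : Function.Injective Φ := by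
    refine (injective_iff_map_eq_zero Φ).2 fun a ha => ?_
    have hs : embM φ mH *ᵥ a = 0 := by
      funext s
      refine smul_one_inj ?_
      rw [← htrsum, ha, mul_zero, Pi.zero_apply, zero_smul]
      simp [tr]
    have := congrArg (embM φ mHi *ᵥ ·) hs
    rwa [mulVec_mulVec, ← map_mul, pairing_inv, map_one, one_mulVec, mulVec_zero] at this
  have hspan : ∀ x ∈ L, ∃ a, Φ a = x := by
    intro x hx
    have hle : LinearMap.range Φ ≤ Subalgebra.toSubmodule L := by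
      rintro _ ⟨a, rfl⟩; exact hΦL a
    have := Submodule.eq_of_le_of_finrank_le hle (by
      rw [LinearMap.finrank_range_of_inj hΦinj, Module.finrank_fin_fun]
      exact hL.finrank_eq.le)
    exact LinearMap.mem_range.1 (this ▸ (show x ∈ Subalgebra.toSubmodule L from hx))
  -- the adjoint is a Frobenius power
  have hZ10 : ∀ u v, uh K (Z *ᵥ u) v = uh K u (Z ^ 10 *ᵥ v) := fun u v => by
    conv_lhs => rw [← one_mulVec v, ← h11, pow_succ' Z 10, ← mulVec_mulVec, hG.unit]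
  have hadjk : ∀ (k : ℕ) u v, uh K (Z ^ k *ᵥ u) v = uh K u (Z ^ (10 * k) *ᵥ v) := by
    intro k
    induction k with
    | zero => simp
    | succ k ih =>
      intro u v
      rw [pow_succ', ← mulVec_mulVec, hZ10, ih, mulVec_mulVec, ← pow_add, mul_add, mul_one]
  have hfrob : ∀ (c : F), c ^ 32 = K.bar c := fun c => by
    rw [K.bar_apply, show 32 = 4 * 4 * 2 from rfl, pow_mul, pow_mul, pow_four K, pow_four K]
  have hadj : ∀ x ∈ L, ∀ u v, uh K (x *ᵥ u) v = uh K u (x ^ 32 *ᵥ v) := by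
    intro x hx u v
    obtain ⟨a, rfl⟩ := hspan x hx
    rw [hΦ, show (32 : ℕ) = 2 ^ 5 from rfl, frob_sum K _ _ (fun i j => ((Commute.refl Z).pow_pow _ _).smul_left _ |>.smul_right _)]
    simp only [smul_pow, Fin.sum_univ_five, Matrix.add_mulVec, smul_mulVec, uh, sform_add_left, sform_add_right,
      sform_smul_left, sform_smul_right, ← pow_mul, show (2 : ℕ) ^ 5 = 32 from rfl, hfrob, K.bar_bar]
    have e : ∀ i : ℕ, sform K.bar 1 (Z ^ i *ᵥ u) v = sform K.bar 1 u (Z ^ (i * 32) *ᵥ v) := fun i => by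
      have := hadjk i u v
      rw [hmod (10 * i)] at this
      rw [hmod (i * 32), show i * 32 % 11 = 10 * i % 11 by omega]
      exact this
    rw [e, e, e, e, e]
  have h1024 : ∀ x ∈ L, x ^ 1024 = x := fun x hx => by
    have := field_pow_eq_self (by norm_num) hL hx
    rwa [← Nat.card_eq_fintype_card, K.card] at this
  -- a cyclic vector
  obtain ⟨v₀, hv₀⟩ : ∃ v₀ : Fin 5 → F, v₀ = Pi.single 0 1 := ⟨_, rfl⟩
  obtain ⟨E, hE⟩ : ∃ E : L →ₗ[F] (Fin 5 → F), ∀ x : L, E x = (x : Matrix (Fin 5) (Fin 5) F) *ᵥ v₀ :=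
    ⟨{ toFun := fun x => (x : Matrix (Fin 5) (Fin 5) F) *ᵥ v₀
       map_add' := fun x y => Matrix.add_mulVec _ _ _
       map_smul' := fun c x => smul_mulVec _ _ _ }, fun x => rfl⟩
  have hEinj : Function.Injective E := by
    refine (injective_iff_map_eq_zero E).2 fun x hx => ?_
    by_contra h
    obtain ⟨y, hy, hxy⟩ := hL.inv x x.2 fun e => h (Subtype.ext e)
    have e := congrArg (y *ᵥ ·) ((hE x).symm.trans hx)
    simp only [mulVec_mulVec, mulVec_zero, ← hL.comm _ x.2 _ hy, hxy, one_mulVec] at e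
    have := congrFun e 0
    simp [hv₀] at this
  have hbij : Function.Surjective E :=
    (LinearMap.injective_iff_surjective_of_finrank_eq_finrank
      (by rw [hL.finrank_eq, Module.finrank_fin_fun])).1 hEinj
  let Ee := LinearEquiv.ofBijective E ⟨hEinj, hbij⟩
  have htrs : ∀ x ∈ L, ∃ c : F, tr x = c • 1 := by
    intro x hx
    refine scalar_of_pow (by norm_num) (by norm_num) hL K
      (add_mem (add_mem (add_mem (add_mem hx (pow_mem hx _)) (pow_mem hx _)) (pow_mem hx _)) (pow_mem hx _)) ?_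
    have hc : ∀ a b : ℕ, Commute (x ^ a) (x ^ b) := fun a b => Commute.pow_pow (Commute.refl x) a b
    simp only [tr]
    rw [show (4 : ℕ) = 2 ^ 2 from rfl, frob_add K, frob_add K, frob_add K, frob_add K]
    · simp only [← pow_mul]
      norm_num [h1024 x hx]
      abel
    · exact Commute.self_pow x _
    · exact Commute.add_left (Commute.self_pow x _) (hc _ _)
    · exact (Commute.add_left (Commute.add_left (Commute.self_pow x _) (hc _ _)) (hc _ _))
    · exact (Commute.add_left (Commute.add_left (Commute.add_left (Commute.self_pow x _) (hc _ _)) (hc _ _)) (hc _ _))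
  choose t ht using htrs
  have hvec : ∀ u, ∃ x : L, E x = u := hbij
  choose inv hinv using hvec
  obtain ⟨ℓ, hℓ⟩ : ∃ ℓ : (Fin 5 → F) → F, ℓ = fun u => t (inv u).1 (inv u).2 := ⟨_, rfl⟩
  have hℓadd : ∀ u w, ℓ (u + w) = ℓ u + ℓ w := fun u w => by
    have e : inv (u + w) = inv u + inv w := hEinj (by rw [map_add, hinv, hinv, hinv])
    refine smul_one_inj ?_
    simp only [hℓ]
    rw [add_smul, ← ht, ← ht, ← ht, e]
    exact tr_add K (hcm _ (inv u).2 _ (inv w).2)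
  have hℓsmul : ∀ (c : F) u, ℓ (c • u) = c * ℓ u := fun c u => by
    have e : inv (c • u) = c • inv u := hEinj (by rw [map_smul, hinv, hinv])
    refine smul_one_inj ?_
    simp only [hℓ]
    rw [mul_smul, ← ht, ← ht, e]
    exact tr_smul K c _
  obtain ⟨w, hw⟩ : ∃ w : Fin 5 → F, w = fun i => K.bar (ℓ (Pi.single i 1)) := ⟨_, rfl⟩
  have hriesz : ∀ z, uh K z w = ℓ z := by
    intro z
    let ℓ' : (Fin 5 → F) →ₗ[F] F := { toFun := ℓ, map_add' := hℓadd, map_smul' := hℓsmul }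
    show _ = ℓ' z
    conv_rhs => rw [pi_eq_sum_univ' z]
    simp [uh, sform, hw, dotProduct, K.bar_bar, ℓ', -LinearMap.coe_mk]
    rfl
  obtain ⟨m, hm⟩ := hbij w
  rw [hE] at hm
  have htrm : ∀ x ∈ L, uh K (x *ᵥ v₀) ((m : Matrix (Fin 5) (Fin 5) F) *ᵥ v₀) • (1 : Matrix (Fin 5) (Fin 5) F) = tr x := by
    intro x hx
    rw [hm, hriesz]
    have e : inv (x *ᵥ v₀) = ⟨x, hx⟩ := hEinj (by rw [hinv, hE])
    simp only [hℓ]
    rw [← ht, e]
  -- the functional is self-adjoint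
  have hm32 : ((m : Matrix (Fin 5) (Fin 5) F)) ^ 32 = m := by
    have hz : (⟨_, pow_mem m.2 32⟩ : L) = m := by
      refine hEinj ?_
      rw [hE, hE]
      funext i
      apply K.bar.injective
      obtain ⟨j, hj⟩ := hbij (Pi.single i 1)
      rw [hE] at hj
      have hval : ∀ x ∈ L, ∀ c : F, tr x = c • 1 →
          uh K (x *ᵥ v₀) ((m : Matrix (Fin 5) (Fin 5) F) *ᵥ v₀) = c := fun x hx c hc =>
        smul_one_inj ((htrm x hx).trans hc)
      obtain ⟨c, hc⟩ : ∃ c, tr ((j : Matrix (Fin 5) (Fin 5) F)) = c • 1 := ⟨_, ht _ j.2⟩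
      have e2 : tr ((j : Matrix (Fin 5) (Fin 5) F) ^ 32) = K.bar c • 1 := by
        have : tr ((j : Matrix (Fin 5) (Fin 5) F) ^ 32) = tr (j : Matrix (Fin 5) (Fin 5) F) ^ 32 := by
          have hp : ∀ a b : ℕ, Commute ((j : Matrix (Fin 5) (Fin 5) F) ^ a) ((j : Matrix (Fin 5) (Fin 5) F) ^ b) :=
            fun a b => Commute.pow_pow (Commute.refl _) a b
          simp only [tr]
          rw [show (32 : ℕ) = 2 ^ 5 from rfl, frob_add K, frob_add K, frob_add K, frob_add K]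
          · simp only [← pow_mul]; norm_num
          · exact Commute.self_pow _ _
          · exact Commute.add_left (Commute.self_pow _ _) (hp _ _)
          · exact (Commute.add_left (Commute.add_left (Commute.self_pow _ _) (hp _ _)) (hp _ _))
          · exact (Commute.add_left (Commute.add_left (Commute.add_left (Commute.self_pow _ _) (hp _ _)) (hp _ _)) (hp _ _))
        rw [this, hc, smul_pow, one_pow, hfrob]
      have key : uh K ((j : Matrix (Fin 5) (Fin 5) F) *ᵥ v₀) (((m : Matrix (Fin 5) (Fin 5) F)) ^ 32 *ᵥ v₀) =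
          uh K ((j : Matrix (Fin 5) (Fin 5) F) *ᵥ v₀) ((m : Matrix (Fin 5) (Fin 5) F) *ᵥ v₀) := by
        rw [← hadj _ m.2, mulVec_mulVec, hL.comm _ m.2 _ j.2, ← mulVec_mulVec, hadj _ j.2,
          uh_swap K ((j : Matrix (Fin 5) (Fin 5) F) ^ 32 *ᵥ v₀) ((m : Matrix (Fin 5) (Fin 5) F) *ᵥ v₀),
          hval _ (pow_mem j.2 32) _ e2, K.bar_bar, hval _ j.2 _ hc]
      rw [hj] at key
      simpa [uh, sform] using key
    exact congrArg Subtype.val hz
  obtain ⟨y, hy⟩ : ∃ y : Matrix (Fin 5) (Fin 5) F, y = (m : Matrix (Fin 5) (Fin 5) F) ^ 16 := ⟨_, rfl⟩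
  have hyL : y ∈ L := hy ▸ pow_mem m.2 16
  have hyy : y ^ 32 * y = m := by
    rw [hy, ← pow_mul, ← pow_add]
    rw [show 16 * 32 + 16 = 32 * 16 + 16 from rfl, pow_add, pow_mul, hm32, ← pow_add, hm32]
  obtain ⟨v, hv⟩ : ∃ v, v = y *ᵥ v₀ := ⟨_, rfl⟩
  have hgram : ∀ x ∈ L, uh K (x *ᵥ v) v • (1 : Matrix (Fin 5) (Fin 5) F) = tr x := by
    intro x hx
    rw [← htrm x hx]
    congr 1
    rw [hv, mulVec_mulVec, hL.comm _ hx _ hyL, ← mulVec_mulVec, hadj _ hyL, mulVec_mulVec, hyy]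
  obtain ⟨Pm, hPm⟩ : ∃ Pm : Matrix (Fin 5) (Fin 5) F, Pm = Matrix.of fun i (r : Fin 5) => (Z ^ (r : ℕ) *ᵥ v) i :=
    ⟨_, rfl⟩
  have hPP : Pmᵀ * bm K.bar Pm = embM φ mG := by
    ext r s
    have e : uh K (Z ^ (r : ℕ) *ᵥ v) (Z ^ (s : ℕ) *ᵥ v) = φ (mG r s) := by
      have e1 : uh K (Z ^ ((r : ℕ) + 10 * s) *ᵥ v) v = φ (mG r s) := by
        refine smul_one_inj ?_
        rw [hgram _ (pow_mem hG.mem _), hmod, hG.tr_eq ⟨_, Nat.mod_lt _ (by norm_num)⟩, ← gram_tau r s]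
      rw [← e1, add_comm, pow_add, ← mulVec_mulVec, hadjk (10 * (s : ℕ)), hmod (10 * (10 * (s : ℕ))),
        show 10 * (10 * (s : ℕ)) % 11 = (s : ℕ) % 11 by omega, ← hmod]
    rw [show embM φ mG r s = φ (mG r s) from rfl, ← e]
    simp [hPm, uh, sform, Matrix.mul_apply, dotProduct, bm_apply]
  have hPu : IsUnit Pm := by
    refine (Matrix.linearIndependent_cols_iff_isUnit).1 ?_
    rw [Fintype.linearIndependent_iff]
    intro a ha
    have e : Φ a *ᵥ v = 0 := by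
      rw [hΦ, Matrix.sum_mulVec]
      funext i
      have := congrFun ha i
      simpa [hPm, smul_mulVec, Matrix.col] using this
    have hv0 : v ≠ 0 := by
      intro h0
      have := hgram 1 (one_mem L)
      rw [h0] at this
      have e1 := hG.tr_eq 0
      rw [Fin.val_zero, pow_zero, ← this] at e1
      have e2 := smul_one_inj e1
      simp [uh, sform] at e2
      exact absurd (hi ((map_zero φ).trans e2)) (by decide)
    by_contra hne
    have hΦ0 : Φ a ≠ 0 := fun h => hne fun i => by rw [hΦinj (h.trans (map_zero Φ).symm)]; rfl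
    obtain ⟨z, hz, hz'⟩ := hL.inv _ (hΦL a) hΦ0
    have := congrArg (z *ᵥ ·) e
    simp only [mulVec_mulVec, ← hL.comm _ (hΦL a) _ hz, hz', one_mulVec, mulVec_zero] at this
    exact hv0 this
  obtain ⟨P, hP⟩ := hPu
  have hrel : Z ^ 5 = Φ (fun i => φ (mrel i)) := by
    obtain ⟨a, ha⟩ := hspan _ (pow_mem hG.mem 5)
    rw [← ha]
    congr 1
    have hs : embM φ mH *ᵥ a = fun s => φ ((mH *ᵥ mrel) s) := by
      funext s
      refine smul_one_inj ?_
      rw [← htrsum, ha, ← pow_add, hmod, hG.tr_eq ⟨_, Nat.mod_lt _ (by norm_num)⟩, ← rel_tau s]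
    have hs' : embM φ mH *ᵥ (fun i => φ (mrel i)) = fun s => φ ((mH *ᵥ mrel) s) := by
      funext s; exact (RingHom.map_mulVec φ mH mrel s).symm
    have := congrArg (embM φ mHi *ᵥ ·) (hs.trans hs'.symm)
    simpa only [mulVec_mulVec, ← map_mul, pairing_inv, map_one, one_mulVec] using this
  refine ⟨P, by rw [hP]; exact hPP, ?_, fun x hx => ?_, fun x hx hiso => ?_⟩
  · ext i j
    have hcol : (Z * (P : Matrix (Fin 5) (Fin 5) F)) i j = (Z ^ ((j : ℕ) + 1) *ᵥ v) i := by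
      rw [pow_succ', ← mulVec_mulVec, hP, hPm]
      rfl
    rw [hcol, hP, Matrix.mul_apply, Fin.sum_univ_five]
    have hc := fun k => mC_cols k j
    have he : ∀ k, (embM φ mC) k j = φ (if j.val = 4 then mrel k else if k.val = j.val + 1 then 1 else 0) := fun k => by
      show φ (mC k j) = _
      congr 1
      have := hc k
      revert this
      generalize mC k j = c
      obtain ⟨c⟩ := c
      intro this
      split_ifs at this ⊢ <;> simp_all <;> rfl
    simp only [he, hPm, Matrix.of_apply]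
    fin_cases j
    · simp
    · simp
    · simp
    · simp
    · simp [hrel, hΦ, Fin.sum_univ_five, Matrix.add_mulVec, smul_mulVec, mul_comm]
  · obtain ⟨b, hb'⟩ := hbij (x *ᵥ v₀)
    rw [hE] at hb'
    have hzc : ∀ z ∈ L, Commute x z := fun z hz => by
      obtain ⟨a, rfl⟩ := hspan z hz
      rw [hΦ]
      exact Commute.sum_right _ _ _ fun i _ => (hx.pow_right _).smul_right _
    have : x = b := Matrix.ext_of_mulVec_single fun i => by
      obtain ⟨j, hj⟩ := hbij (Pi.single i 1)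
      rw [hE] at hj
      rw [← hj, mulVec_mulVec, (hzc _ j.2).eq, ← mulVec_mulVec, ← hb', mulVec_mulVec, mulVec_mulVec,
        hL.comm _ j.2 _ b.2]
    exact this ▸ b.2
  · refine uh_ext K fun u w => ?_
    rw [one_mulVec, pow_succ x 32, ← mulVec_mulVec, ← hadj x hx, hiso]

/-- The normaliser of a field of degree five is never maximal. -/
theorem field_not_maximal (K : Unitary.Conj F 2) {H : Subgroup (GL (Fin 5) F)}
    (hH : Cfsg.Geo.IsMaximalIn (SUGL 5 F 2) H) {L : Subalgebra F (Matrix (Fin 5) (Fin 5) F)}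
    (hL : IsFieldSubalgebra 5 L) (hcl : IsAdjointClosedFor (Cfsg.hermForm 5 F 2) L)
    (hle : H ≤ subalgebraNormalizer L) : False := by
  classical
  obtain ⟨φ, Z, hi, hb, hsur, hG⟩ := exists_gen K hL hcl
  obtain ⟨P, hPG, hPC, hcent, h33⟩ := exists_frame K hL hcl hi hb hG
  have hmod := pow_red hG.pow11
  let mkU : ∀ X Y : Matrix (Fin 5) (Fin 5) F4, X * Y = 1 → Y * X = 1 → GL (Fin 5) F := fun X Y h h' =>
    ⟨embM φ X, embM φ Y, by rw [← map_mul, h, map_one], by rw [← map_mul, h', map_one]⟩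
  have hS1 : mS * (mS * mS * (mS * mS)) = 1 := mul_eq_one_comm.1 S_five
  obtain ⟨S, hS⟩ : ∃ S : GL (Fin 5) F, S = P * mkU mS _ hS1 S_five * P⁻¹ := ⟨_, rfl⟩
  obtain ⟨T, hT⟩ : ∃ T : GL (Fin 5) F, T = P * mkU mA mA A_sq A_sq * P⁻¹ := ⟨_, rfl⟩
  have hZu : IsUnit Z := IsUnit.of_mul_eq_one (Z ^ 10) (by rw [← pow_succ']; exact hG.pow11)
  obtain ⟨Zu, hZu⟩ := hZu
  have hZc : P⁻¹ * Zu * P = P⁻¹ * (Zu * P) := mul_assoc _ _ _
  have hZval : ((P⁻¹ * Zu * P : GL (Fin 5) F) : Matrix (Fin 5) (Fin 5) F) = embM φ mC := by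
    rw [hZc, Units.val_mul, Units.val_mul, hZu, hPC, ← mul_assoc, Units.inv_mul, one_mul]
  have hform : ∀ x y : Fin 5 → F, uh K ((P : Matrix (Fin 5) (Fin 5) F) *ᵥ x) ((P : Matrix (Fin 5) (Fin 5) F) *ᵥ y) =
      sform K.bar (embM φ mG) x y := fun x y => by
    show sform K.bar 1 _ _ = _
    rw [sform_mulVec, mul_one, hPG]
  have hdet1 : ∀ (g : GL (Fin 5) F) (k : ℕ), (k = 2 ∨ k = 5) → g ^ k = 1 → (g : Matrix (Fin 5) (Fin 5) F).det = 1 := by
    intro g k hk hgk
    have h1 : (g : Matrix (Fin 5) (Fin 5) F).det ^ k = 1 := by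
      rw [← det_pow, ← Units.val_pow_eq_pow_val, hgk, Units.val_one, det_one]
    have h0 : (g : Matrix (Fin 5) (Fin 5) F).det ≠ 0 := fun e => by
      rw [e, zero_pow (by omega)] at h1; exact zero_ne_one h1
    have h3 := cube_eq_one K h0
    have h2 := two_eq_zero K
    rcases hk with rfl | rfl
    · exact sub_eq_zero.1 (pow_eq_zero_iff (n := 2) (by norm_num) |>.1
        (by linear_combination h1 - ((g : Matrix (Fin 5) (Fin 5) F).det - 1) * h2))
    · calc (g : Matrix (Fin 5) (Fin 5) F).det = ((g : Matrix (Fin 5) (Fin 5) F).det ^ 3) ^ 2 * ((g : Matrix (Fin 5) (Fin 5) F).det) := by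
            rw [h3, one_pow, one_mul]
        _ = ((g : Matrix (Fin 5) (Fin 5) F).det ^ 5) * ((g : Matrix (Fin 5) (Fin 5) F).det ^ 2) := by ring
        _ = (g : Matrix (Fin 5) (Fin 5) F).det ^ 2 := by rw [h1, one_mul]
        _ = 1 := by
          have e6 : ((g : Matrix (Fin 5) (Fin 5) F).det ^ 2) ^ 1 = (g : Matrix (Fin 5) (Fin 5) F).det ^ 2 := pow_one _
          calc (g : Matrix (Fin 5) (Fin 5) F).det ^ 2 = ((g : Matrix (Fin 5) (Fin 5) F).det ^ 3) * ((g : Matrix (Fin 5) (Fin 5) F).det ^ 2) := by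
                rw [h3, one_mul]
            _ = (g : Matrix (Fin 5) (Fin 5) F).det ^ 5 := by ring
            _ = 1 := h1
  have hmemSU : ∀ (X Y : Matrix (Fin 5) (Fin 5) F4) (h : X * Y = 1) (h' : Y * X = 1) (k : ℕ), (k = 2 ∨ k = 5) →
      X ^ k = 1 → Xᵀ * mG * conjM X = mG → P * mkU X Y h h' * P⁻¹ ∈ SUGL 5 F 2 := by
    intro X Y h h' k hk hXk hgram
    refine ⟨fun u w => ?_, ?_⟩
    · have e : ∀ z : Fin 5 → F, ((P * mkU X Y h h' * P⁻¹ : GL (Fin 5) F) : Matrix (Fin 5) (Fin 5) F) *ᵥ z =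
          (P : Matrix (Fin 5) (Fin 5) F) *ᵥ (embM φ X *ᵥ ((↑P⁻¹ : Matrix (Fin 5) (Fin 5) F) *ᵥ z)) := fun z => by
        rw [Units.val_mul, Units.val_mul, mulVec_mulVec, mulVec_mulVec]
      rw [herm_sform K, herm_sform K]
      show uh K (((P * mkU X Y h h' * P⁻¹ : GL (Fin 5) F) : Matrix (Fin 5) (Fin 5) F) *ᵥ u)
        (((P * mkU X Y h h' * P⁻¹ : GL (Fin 5) F) : Matrix (Fin 5) (Fin 5) F) *ᵥ w) = uh K u w
      rw [e, e, hform, sform_mulVec, embM_conj K hb]
      have eg : (embM φ X)ᵀ * embM φ mG * embM φ (conjM X) = embM φ mG := by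
        rw [show (embM φ X)ᵀ = embM φ Xᵀ from rfl, ← map_mul, ← map_mul, hgram]
      rw [eg, ← hform, PrimeDim.mulVec_inv_cancel, PrimeDim.mulVec_inv_cancel]
    · have hpow : (mkU X Y h h') ^ k = 1 := Units.ext (by
        rw [Units.val_pow_eq_pow_val, Units.val_one, show ((mkU X Y h h' : GL (Fin 5) F) : Matrix (Fin 5) (Fin 5) F) = embM φ X from rfl,
          ← map_pow, hXk, map_one])
      have := hdet1 (mkU X Y h h') k hk hpow
      simpa [Cfsg.Geo.specialLinear, MonoidHom.mem_ker, Units.ext_iff] using this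
  have hSSU : S ∈ SUGL 5 F 2 := hS ▸ hmemSU mS _ hS1 S_five 5 (Or.inr rfl)
    (by rw [pow_succ, pow_succ, pow_succ, pow_succ, pow_one]; simpa only [mul_assoc] using S_five) gram_S
  have hTSU : T ∈ SUGL 5 F 2 := hT ▸ hmemSU mA mA A_sq A_sq 2 (Or.inl rfl) (by rw [pow_two, A_sq]) gram_A
  have hSZ : S * Zu = Zu ^ 4 * S := by
    have e : P⁻¹ * (S * Zu) * P = P⁻¹ * (Zu ^ 4 * S) * P := by
      apply Units.ext
      have e1 : P⁻¹ * (S * Zu) * P = mkU mS _ hS1 S_five * (P⁻¹ * Zu * P) := by rw [hS]; group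
      have e2 : P⁻¹ * (Zu ^ 4 * S) * P = (P⁻¹ * Zu * P) * (P⁻¹ * Zu * P) * ((P⁻¹ * Zu * P) * (P⁻¹ * Zu * P)) *
          mkU mS _ hS1 S_five := by
        rw [hS, show Zu ^ 4 = Zu * Zu * (Zu * Zu) by rw [pow_succ, pow_succ, pow_two, mul_assoc]]; group
      rw [e1, e2]
      simp only [Units.val_mul, hZval, mkU]
      rw [← map_mul, ← map_mul, ← map_mul, ← map_mul, S_conj]
    simpa using e
  have hSj : ∀ j : ℕ, S ^ j * Zu = Zu ^ (4 ^ j) * S ^ j := by
    intro j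
    induction j with
    | zero => simp
    | succ j ih =>
      have hpw : ∀ i : ℕ, S * Zu ^ i = Zu ^ (4 * i) * S := by
        intro i
        induction i with
        | zero => simp
        | succ i ihi => rw [pow_succ, ← mul_assoc, ihi, mul_assoc, hSZ, ← mul_assoc, ← pow_add, mul_add, mul_one]
      rw [pow_succ' S, mul_assoc, ih, ← mul_assoc, hpw, mul_assoc, ← pow_succ' S, pow_succ' 4 j]
  -- the group
  have hgen : ∀ g ∈ H, ∃ i j : ℕ, g = S ^ j * Zu ^ i := by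
    intro g hg
    have hgS : g ∈ SUGL 5 F 2 := hH.1.le hg
    have hWm := (hle hg Z).1 hG.mem
    have hW11 : ((g : Matrix (Fin 5) (Fin 5) F) * Z * (↑g⁻¹ : Matrix (Fin 5) (Fin 5) F)) ^ 11 = 1 := by
      rw [Units.conj_pow, hG.pow11, mul_one, Units.mul_inv]
    obtain ⟨k, hk⟩ := hG.roots _ hWm hW11
    obtain ⟨j, hj⟩ : ∃ j : Fin 5, 4 ^ (j : ℕ) % 11 = (k : ℕ) := by
      have e1 : (g : Matrix (Fin 5) (Fin 5) F) * tr Z * (↑g⁻¹ : Matrix (Fin 5) (Fin 5) F) = tr (Z ^ (k : ℕ)) := by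
        rw [← hk, tr, tr, Units.conj_pow, Units.conj_pow, Units.conj_pow, Units.conj_pow]
        simp only [mul_add, add_mul]
      have e2 := hG.tr_eq 1
      rw [show ((1 : Fin 11) : ℕ) = 1 from rfl, pow_one] at e2
      rw [e2, hG.tr_eq k, mul_smul_comm, mul_one, smul_mul_assoc, Units.mul_inv] at e1
      have e3 : tau 1 = tau k := congrArg F4.code (hi (smul_one_inj e1))
      exact (show ∀ k : Fin 11, tau 1 = tau k → ∃ j : Fin 5, 4 ^ (j : ℕ) % 11 = (k : ℕ) by decide) k e3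
    have hgZ : g * Zu = Zu ^ (k : ℕ) * g := Units.ext (by
      rw [Units.val_mul, Units.val_mul, Units.val_pow_eq_pow_val, hZu, ← hk, Units.inv_mul_cancel_right])
    have hjk : Zu ^ (4 ^ (j : ℕ)) = Zu ^ (k : ℕ) := Units.ext (by
      rw [Units.val_pow_eq_pow_val, Units.val_pow_eq_pow_val, hZu, hmod, hj])
    obtain ⟨h, hh⟩ : ∃ h : GL (Fin 5) F, h = (S ^ (j : ℕ))⁻¹ * g := ⟨_, rfl⟩
    have hcomm : h * Zu = Zu * h := by
      rw [hh, mul_assoc, hgZ, ← hjk, inv_mul_eq_iff_eq_mul, ← mul_assoc, ← mul_assoc, hSj, mul_inv_cancel_right]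
    have hhSU : h ∈ SUGL 5 F 2 := hh ▸ mul_mem (inv_mem (pow_mem hSSU _)) hgS
    have hhL : (h : Matrix (Fin 5) (Fin 5) F) ∈ L := hcent _ (by
      have := congrArg Units.val hcomm
      rwa [Units.val_mul, Units.val_mul, hZu] at this)
    have h33' := h33 _ hhL fun u w => by
      show sform K.bar 1 _ _ = sform K.bar 1 _ _
      rw [← herm_sform K, ← herm_sform K]; exact hhSU.1 u w
    obtain ⟨c, hc⟩ := scalar_of_pow (by norm_num) (by norm_num) hL K (pow_mem hhL 11)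
      (by rw [← pow_mul, show 11 * 4 = 33 + 11 from rfl, pow_add, h33', one_mul])
    have h4 : h ∈ Cfsg.Geo.specialLinear (Fin 5) F := hhSU.2
    have hdh : (h : Matrix (Fin 5) (Fin 5) F).det = 1 := by
      simpa [Cfsg.Geo.specialLinear, MonoidHom.mem_ker, Units.ext_iff] using h4
    have hc5 : c ^ 5 = 1 := by
      have := congrArg Matrix.det hc
      rw [det_pow, hdh, one_pow, det_smul, det_one, mul_one, Fintype.card_fin] at this
      exact this.symm
    have hc0 : c ≠ 0 := fun e => by simp [e] at hc5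
    have hc1 : c = 1 := by
      have h3 := cube_eq_one K hc0
      calc c = (c ^ 3) ^ 2 * c := by rw [h3, one_pow, one_mul]
        _ = c ^ 5 * c ^ 2 := by ring
        _ = c ^ 2 := by rw [hc5, one_mul]
        _ = c ^ 3 * c ^ 2 := by rw [h3, one_mul]
        _ = c ^ 5 := by ring
        _ = 1 := hc5
    rw [hc1, one_smul] at hc
    obtain ⟨i, hi'⟩ := hG.roots _ hhL hc
    refine ⟨i, j, ?_⟩
    have : h = Zu ^ (i : ℕ) := Units.ext (by rw [Units.val_pow_eq_pow_val, hZu]; exact hi')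
    rw [← this, hh, mul_inv_cancel_left]
  -- the larger group
  let SO : (Fin 5 → F) → Prop := fun x => ∃ c : Fin 5 → F4, Orb c ∧ x = φ ∘ c
  let St : Subgroup (GL (Fin 5) F) :=
    { carrier := {g | ∀ x, SO ((g : Matrix (Fin 5) (Fin 5) F) *ᵥ x) ↔ SO x}
      mul_mem' := fun {a b} ha hb x => by rw [Units.val_mul, ← mulVec_mulVec]; exact (ha _).trans (hb x)
      one_mem' := fun x => by rw [Units.val_one, one_mulVec]
      inv_mem' := fun {a} ha x => by
        have := ha ((↑a⁻¹ : Matrix (Fin 5) (Fin 5) F) *ᵥ x)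
        rw [mulVec_mulVec, Units.mul_inv, one_mulVec] at this
        exact this.symm }
  let M := St.comap (MulAut.conj P⁻¹).toMonoidHom
  have hM : ∀ g, g ∈ M ↔ ∀ x, SO (((P⁻¹ * g * P : GL (Fin 5) F) : Matrix (Fin 5) (Fin 5) F) *ᵥ x) ↔ SO x := fun g => by
    show MulAut.conj P⁻¹ g ∈ St ↔ _
    rw [MulAut.conj_apply, inv_inv]; rfl
  have hkeep : ∀ (X : Matrix (Fin 5) (Fin 5) F4) (g : GL (Fin 5) F),
      ((P⁻¹ * g * P : GL (Fin 5) F) : Matrix (Fin 5) (Fin 5) F) = embM φ X →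
      (∀ a b c d e : F4, Orb (vec5 a b c d e) → Orb (X *ᵥ vec5 a b c d e)) → (∃ k : ℕ, g ^ (k + 1) = 1) → g ∈ M := by
    intro X g hX horb hfin
    obtain ⟨k, hk⟩ := hfin
    have hfwd : ∀ (n : ℕ) x, SO x → SO (((P⁻¹ * g * P : GL (Fin 5) F) : Matrix (Fin 5) (Fin 5) F) ^ n *ᵥ x) := by
      intro n
      induction n with
      | zero => intro x hx; rwa [pow_zero, one_mulVec]
      | succ n ih =>
        intro x hx
        obtain ⟨c, hc, hxc⟩ := ih x hx
        rw [pow_succ', ← mulVec_mulVec, hxc, hX]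
        refine ⟨X *ᵥ c, ?_, funext fun i => (RingHom.map_mulVec φ X c i).symm⟩
        have e : c = vec5 (c 0) (c 1) (c 2) (c 3) (c 4) := by funext i; fin_cases i <;> rfl
        rw [e] at hc ⊢
        exact horb _ _ _ _ _ hc
    refine (hM g).2 fun x => ⟨fun h => ?_, fun h => by simpa using hfwd 1 x h⟩
    have := hfwd k _ h
    rwa [mulVec_mulVec, ← pow_succ, ← Units.val_pow_eq_pow_val, show (P⁻¹ * g * P) ^ (k + 1) = 1 by
      rw [show P⁻¹ * g * P = P⁻¹ * g * (P⁻¹)⁻¹ by rw [inv_inv], conj_pow, hk, mul_one, mul_inv_cancel],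
      Units.val_one, one_mulVec] at this
  have hSM : S ∈ M := hkeep mS S (by
    rw [hS, show P⁻¹ * (P * mkU mS _ hS1 S_five * P⁻¹) * P = mkU mS _ hS1 S_five by group]) (fun a b c d e h => (orb_gens a b c d e h).2.1)
    ⟨4, by
      rw [hS, conj_pow]
      have : (mkU mS _ hS1 S_five : GL (Fin 5) F) ^ (4 + 1) = 1 := Units.ext (by
        rw [Units.val_pow_eq_pow_val, Units.val_one]
        show embM φ mS ^ 5 = 1
        rw [← map_pow, pow_succ, pow_succ, pow_succ, pow_succ, pow_one, show mS * mS * mS * mS * mS = 1 by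
          simpa only [mul_assoc] using S_five, map_one])
      rw [this, mul_one, mul_inv_cancel]⟩
  have hZM : Zu ∈ M := hkeep mC Zu hZval (fun a b c d e h => (orb_gens a b c d e h).1)
    ⟨10, Units.ext (by rw [Units.val_pow_eq_pow_val, hZu, hG.pow11, Units.val_one])⟩
  have hTM : T ∈ M := hkeep mA T (by
    rw [hT, show P⁻¹ * (P * mkU mA mA A_sq A_sq * P⁻¹) * P = mkU mA mA A_sq A_sq by group])
    (fun a b c d e h => (orb_gens a b c d e h).2.2)
    ⟨1, by rw [hT, pow_two]; apply Units.ext; simp only [Units.val_mul, Units.val_one]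
           show (P : Matrix (Fin 5) (Fin 5) F) * embM φ mA * _ * ((P : Matrix (Fin 5) (Fin 5) F) * embM φ mA * _) = 1
           simp only [mul_assoc, Units.inv_mul_cancel_left]
           rw [← mul_assoc (embM φ mA), ← map_mul, A_sq, map_one, one_mul, Units.mul_inv]⟩
  have hHM : H ≤ M := fun g hg => by
    obtain ⟨i, j, rfl⟩ := hgen g hg
    exact mul_mem (pow_mem hSM _) (pow_mem hZM _)
  have hTH : T ∉ H := by
    intro h
    have hW := (hle h Z).1 hG.mem
    have e := hL.comm _ hW _ hG.mem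
    have e' : (T * Zu * T⁻¹) * Zu = Zu * (T * Zu * T⁻¹) := Units.ext (by simpa only [Units.val_mul, hZu] using e)
    have hTi : T⁻¹ = P * mkU mA mA A_sq A_sq * P⁻¹ := by
      rw [hT, _root_.mul_inv_rev, _root_.mul_inv_rev, inv_inv, ← mul_assoc,
        show (mkU mA mA A_sq A_sq : GL (Fin 5) F)⁻¹ = mkU mA mA A_sq A_sq from Units.ext rfl]
    have e'' := congrArg (fun x => ((P⁻¹ * x * P : GL (Fin 5) F) : Matrix (Fin 5) (Fin 5) F)) e'
    have l1 : P⁻¹ * (T * Zu * T⁻¹ * Zu) * P = mkU mA mA A_sq A_sq * (P⁻¹ * Zu * P) * mkU mA mA A_sq A_sq * (P⁻¹ * Zu * P) := by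
      rw [hTi, hT]; group
    have l2 : P⁻¹ * (Zu * (T * Zu * T⁻¹)) * P = (P⁻¹ * Zu * P) * (mkU mA mA A_sq A_sq * (P⁻¹ * Zu * P) * mkU mA mA A_sq A_sq) := by
      rw [hTi, hT]; group
    simp only [l1, l2] at e''
    simp only [Units.val_mul, hZval, mkU, ← map_mul] at e''
    exact A_moves (embM_inj hi e'')
  rcases hH.2 (M ⊓ SUGL 5 F 2) (le_inf hHM hH.1.le) inf_le_right with h | h
  · exact hTH (h ▸ ⟨hTM, hTSU⟩)
  obtain ⟨w, hw⟩ : ∃ w : Fin 5 → F, w = φ ∘ mw := ⟨_, rfl⟩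
  have hdot : ∀ x : Fin 5 → F4, uh K ((P : Matrix (Fin 5) (Fin 5) F) *ᵥ (φ ∘ x)) ((P : Matrix (Fin 5) (Fin 5) F) *ᵥ w) =
      φ (x ⬝ᵥ mG *ᵥ fun i => mw i * mw i) := fun x => by
    rw [hform, sform, show ⇑K.bar ∘ w = φ ∘ fun i => mw i * mw i from funext fun i => by rw [hw]; exact hb _,
      RingHom.map_dotProduct]
    congr 1
    funext i
    exact (RingHom.map_mulVec φ mG _ i).symm
  obtain ⟨T', φ', hT', hφ', -, hTv'⟩ := PrimeDim.exists_utv K (u := (P : Matrix (Fin 5) (Fin 5) F) *ᵥ w) (l := (1 : F))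
    (by
      rw [herm_sform K]
      have e := hdot mw
      rw [← hw] at e
      exact e.trans (by rw [orb_moved.1, map_zero]))
    (by rw [map_one]; linear_combination two_eq_zero K)
  have hmem := ((hM T').1 ((h.symm.le hT').1) (φ ∘ mx)).2 ⟨mx, orb_x, rfl⟩
  rw [Units.val_mul, Units.val_mul, ← mulVec_mulVec, ← mulVec_mulVec, PrimeDim.transvection_mulVec hTv', hφ', one_mul,
    herm_sform K, show sform K.bar 1 _ _ = φ (mx ⬝ᵥ mG *ᵥ fun i => mw i * mw i) from hdot mx, mulVec_add, mulVec_smul,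
    PrimeDim.inv_mulVec_cancel, PrimeDim.inv_mulVec_cancel] at hmem
  obtain ⟨c, hc, hce⟩ := hmem
  refine orb_moved.2 ?_
  convert hc using 1
  funext i
  refine hi ?_
  have := congrFun hce i
  simp only [Pi.add_apply, Pi.smul_apply, Function.comp_apply, smul_eq_mul, map_add, map_mul, hw] at this ⊢
  exact this

end CfsgLib.Asch.UnitFive
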