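import Mathlib

set_option autoImplicit false
set_option maxRecDepth 100000

/-!
Combinatorics of the extraspecial group of monomial matrices in dimension four.
-/

namespace CfsgLib.Asch.UnitLines

/-- Translations of a four-point affine plane. -/
def xr : Fin 4 → Fin 4 → Fin 4 := ![![0,1,2,3], ![1,0,3,2], ![2,3,0,1], ![3,2,1,0]]

/-- The pairing of two points. -/
def dt : Fin 4 → Fin 4 → Fin 4 := ![![0,0,0,0], ![0,1,0,1], ![0,0,1,1], ![0,1,1,0]]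

/-- Parameters: translation, scalar and character. -/
abbrev Idx := Fin 4 × Fin 4 × Fin 4

/-- The exponents of an element. -/
def ex (a : Idx) (j : Fin 4) : Fin 4 := a.2.1 + 2 * dt a.2.2 j

/-- The product. -/
def op (a b : Idx) : Idx := (xr a.1 b.1, a.2.1 + b.2.1 + 2 * dt a.2.2 b.1, xr a.2.2 b.2.2)

/-- The inverse. -/
def iv (a : Idx) : Idx := (a.1, -a.2.1 + 2 * dt a.2.2 a.1, a.2.2)

/-- Four automorphisms. -/
def au (m : Fin 4) (a : Idx) : Idx :=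
  match m with
  | 0 => (a.1, a.2.1 + dt a.1 1, xr a.2.2 (dt a.1 1))
  | 1 => (a.1, a.2.1 + dt a.1 2, xr a.2.2 (2 * dt a.1 2))
  | 2 => (xr a.1 (dt a.2.2 1), a.2.1 + dt a.2.2 1, a.2.2)
  | 3 => (xr a.1 (2 * dt a.2.2 2), a.2.1 + dt a.2.2 2, a.2.2)

/-- Their inverses. -/
def au' (m : Fin 4) (a : Idx) : Idx :=
  match m with
  | 0 => (a.1, a.2.1 - dt a.1 1, xr a.2.2 (dt a.1 1))
  | 1 => (a.1, a.2.1 - dt a.1 2, xr a.2.2 (2 * dt a.1 2))
  | 2 => (xr a.1 (dt a.2.2 1), a.2.1 - dt a.2.2 1, a.2.2)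
  | 3 => (xr a.1 (2 * dt a.2.2 2), a.2.1 - dt a.2.2 2, a.2.2)

theorem op_spec : ∀ v w x : Fin 4, xr v (xr w x) = xr (xr v w) x ∧
    ∀ c l c' l' : Fin 4, ex (v, c, l) (xr w x) + ex (w, c', l') x = ex (op (v, c, l) (w, c', l')) x := by
  decide +kernel

theorem op_iv : ∀ a, op a (iv a) = (0, 0, 0) ∧ op (iv a) a = (0, 0, 0) := by decide +kernel

theorem one_spec : ∀ x : Fin 4, xr 0 x = x ∧ (∀ c, ex (0, c, 0) x = c) ∧ ∀ v, xr v (xr v x) = x := by decide +kernel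

theorem par_inj : ∀ a b : Idx, xr a.1 = xr b.1 → ex a = ex b → a = b := by decide +kernel

theorem au_inv : ∀ m a, au' m (au m a) = a ∧ au m (au' m a) = a := by decide +kernel

theorem au_mul : ∀ m a b, au m (op a b) = op (au m a) (au m b) := by decide +kernel

theorem au_move : ∀ a : Idx, (a.1 = 0 ∧ a.2.2 = 0) ∨ ∃ m, op a (au m a) ≠ op (au m a) a := by decide +kernel

theorem central : ∀ a : Idx, (∀ b, op a b = op b a) ↔ a.1 = 0 ∧ a.2.2 = 0 := by decide +kernel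

theorem comm_spec : ∀ a b : Idx, ∃ d : Fin 4, op a b = op (0, d, 0) (op b a) := by decide +kernel

theorem pow_four : ∀ a : Idx, op a (op a (op a a)) = (0, 0, 0) := by decide +kernel

theorem decompose : ∀ a : Idx, ∃ c : Fin 4, a = op (0, c, 0) (op (0, 0, a.2.2) (a.1, 0, 0)) := by decide +kernel

theorem diag_norm : ∀ e₀ e₁ e₂ e₃ : Fin 4, 2 * (e₀ + e₁ + e₂ + e₃) = 0 → ∀ v : Fin 4, ∃ c l : Fin 4,
    ∀ x, ![e₀, e₁, e₂, e₃] (xr v x) + ex (v, 0, 0) x = ex (v, c, l) x + ![e₀, e₁, e₂, e₃] x := by decide +kernel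

theorem perm_norm : ∀ p₀ p₁ p₂ p₃ : Fin 4, p₀ ≠ p₁ → p₀ ≠ p₂ → p₀ ≠ p₃ → p₁ ≠ p₂ → p₁ ≠ p₃ → p₂ ≠ p₃ →
    (∀ v : Fin 4, ∃ w : Fin 4, ∀ x, ![p₀, p₁, p₂, p₃] (xr v x) = xr w (![p₀, p₁, p₂, p₃] x)) ∧
    ∀ l : Fin 4, ∃ c m : Fin 4, ∀ x, ex (0, 0, l) x = ex (0, c, m) (![p₀, p₁, p₂, p₃] x) := by decide +kernel

end CfsgLib.Asch.UnitLines
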