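import Cfsg.Agent.Lib.Classical.AschUnitHeis
import Cfsg.Agent.Lib.Classical.AschUnitLinesData

set_option autoImplicit false
set_option linter.unusedSectionVars false

/-!
For `q = 3` an orthogonal frame in dimension four is fixed by the normaliser of a group of symplectic type.
-/

namespace CfsgLib.Asch.UnitLines

open Matrix
open Cfsg (hermForm GU)
open Cfsg.Geo (matrixSet scalars decompositionStabilizer IsNondegenerateMDecomposition ActsIrreducibly
  ActsAbsolutelyIrreducibly)
open CfsgLib.ClassicalAut (Unitary.Conj)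
open CfsgLib.PrimeDim (sc sc_val)
open scoped MatrixGroups

variable {F : Type*} [Field F] [Fintype F]

/-- The powers of a fourth root of unity. -/
def eps (i : F) : Fin 4 → F := ![1, i, -1, -i]

/-- A monomial matrix: column `x` has `i ^ e x` in row `f x`. -/
def mat (i : F) (f e : Fin 4 → Fin 4) : Matrix (Fin 4) (Fin 4) F :=
  Matrix.of fun y x => if y = f x then eps i (e x) else 0

variable {i : F}

theorem eps_add (hi : i * i = -1) (a b : Fin 4) : eps i (a + b) = eps i a * eps i b := by
  fin_cases a <;> fin_cases b <;> simp [eps] <;> first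
    | linear_combination hi
    | linear_combination -hi

theorem eps_ne (hi : i * i = -1) (a : Fin 4) : eps i a ≠ 0 := by
  have : i ≠ 0 := fun e => by simp [e] at hi
  fin_cases a <;> simp [eps, this]

theorem eps_inj (hi : i * i = -1) (h2 : (2 : F) ≠ 0) : Function.Injective (eps i) := by
  have h0 : i ≠ 0 := fun e => by simp [e] at hi
  have h1 : i ≠ 1 := fun e => h2 (by rw [e] at hi; linear_combination hi)
  have h1' : i ≠ -1 := fun e => h2 (by rw [e] at hi; linear_combination hi)
  intro a b h
  fin_cases a <;> fin_cases b <;> first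
    | rfl
    | (exfalso
       simp [eps] at h
       first
         | exact h2 (by linear_combination h)
         | exact h2 (by linear_combination -h)
         | exact h1 h
         | exact h1 h.symm
         | exact h1' h
         | exact h1' h.symm
         | exact h1 (by linear_combination -h)
         | exact h1 (by linear_combination h)
         | exact h1' (by linear_combination -h)
         | exact h1' (by linear_combination h)
         | exact h0 ((mul_eq_zero.1 (show (2 : F) * i = 0 by linear_combination h)).resolve_left h2)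
         | exact h0 ((mul_eq_zero.1 (show (2 : F) * i = 0 by linear_combination -h)).resolve_left h2))

theorem mat_mul (hi : i * i = -1) (f e f' e' : Fin 4 → Fin 4) :
    mat i f e * mat i f' e' = mat i (fun x => f (f' x)) (fun x => e (f' x) + e' x) := by
  ext y x
  rw [Matrix.mul_apply, Finset.sum_eq_single (f' x) (fun z _ hz => by simp [mat, hz]) (by simp)]
  by_cases h : y = f (f' x) <;> simp [mat, h, eps_add hi]

theorem mat_scalar (c : Fin 4) : mat i id (fun _ => c) = eps i c • (1 : Matrix (Fin 4) (Fin 4) F) := by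
  ext y x
  by_cases h : y = x <;> simp [mat, h]

/-- The standard element with given parameters. -/
def el (i : F) (a : Idx) : Matrix (Fin 4) (Fin 4) F := mat i (xr a.1) (ex a)

theorem el_mul (hi : i * i = -1) (a b : Idx) : el i a * el i b = el i (op a b) := by
  rw [el, el, el, mat_mul hi]
  congr 1
  · funext x; exact (op_spec a.1 b.1 x).1
  · funext x; exact (op_spec a.1 b.1 x).2 a.2.1 a.2.2 b.2.1 b.2.2

theorem el_scalar (c : Fin 4) : el i (0, c, 0) = eps i c • (1 : Matrix (Fin 4) (Fin 4) F) := by
  rw [← mat_scalar, el, show xr 0 = id from funext fun x => (one_spec x).1,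
    show ex (0, c, 0) = fun _ => c from funext fun x => (one_spec x).2.1 c]

theorem el_inj (hi : i * i = -1) (h2 : (2 : F) ≠ 0) : Function.Injective (el i) := by
  intro a b h
  have hh : ∀ x, xr a.1 x = xr b.1 x ∧ ex a x = ex b x := fun x => by
    have h1 := congrFun (congrFun h (xr a.1 x)) x
    simp only [el, mat, Matrix.of_apply, if_true] at h1
    by_cases e : xr a.1 x = xr b.1 x
    · rw [if_pos e] at h1
      exact ⟨e, eps_inj hi h2 h1⟩
    · rw [if_neg e] at h1
      exact absurd h1 (eps_ne hi _)
  exact par_inj a b (funext fun x => (hh x).1) (funext fun x => (hh x).2)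

theorem mat_unitary (hi : i * i = -1) (K : Unitary.Conj F 3) {f : Fin 4 → Fin 4} (hf : Function.Injective f)
    (e : Fin 4 → Fin 4) : (mat i f e)ᵀ * bm K.bar (mat i f e) = 1 := by
  have hn : ∀ a, eps i a * K.bar (eps i a) = 1 := fun a => by
    rw [K.bar_apply, ← pow_succ']
    have h4 : i ^ 4 = 1 := by linear_combination (i * i - 1) * hi
    fin_cases a <;> simp [eps] <;> first
      | linear_combination h4
      | linear_combination -h4
      | linear_combination (0 : F) * h4
  ext x y
  rw [Matrix.mul_apply, Finset.sum_eq_single (f x) (fun z _ hz => by simp [mat, hz]) (by simp)]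
  by_cases h : x = y
  · subst h; simp [mat, bm_apply, hn]
  · simp [mat, bm_apply, hf.ne h, h]

theorem mul_self_four {lam : F} (h : lam * lam * (lam * lam) = 1) (hi : i * i = -1) : ∃ a, lam = eps i a := by
  rcases mul_eq_zero.1 (show (lam * lam - 1) * (lam * lam + 1) = 0 by linear_combination h) with h1 | h1
  · rcases mul_eq_zero.1 (show (lam - 1) * (lam + 1) = 0 by linear_combination h1) with h2 | h2
    · exact ⟨0, by simp [eps]; linear_combination h2⟩
    · exact ⟨2, by simp [eps]; linear_combination h2⟩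
  · rcases mul_eq_zero.1 (show (lam - i) * (lam + i) = 0 by linear_combination h1 - hi) with h2 | h2
    · exact ⟨1, by simp [eps]; linear_combination h2⟩
    · exact ⟨3, by simp [eps]; linear_combination h2⟩

set_option maxHeartbeats 1000000 in
/-- The stabiliser of an orthogonal frame normalises a group of symplectic type. -/
theorem uheis_of_lines (K : Unitary.Conj F 3) {D : Fin 4 → Submodule F (Fin 4 → F)}
    (hD : IsNondegenerateMDecomposition (hermForm 4 F 3) 1 D) {H : Subgroup (GL (Fin 4) F)}
    (hH : H ≤ PrimeDim.SUGL 4 F 3) (hle : H ≤ decompositionStabilizer D) : UHeisCase 3 H := by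
  classical
  haveI : Finite (GL (Fin 4) F) := Finite.of_injective _ Units.val_injective
  have hcardF : Fintype.card F = 9 := by rw [← Nat.card_eq_fintype_card, K.card]; norm_num
  have h30 : (3 : F) = 0 := by
    have h9 : ((9 : ℕ) : F) = 0 := by
      rw [← hcardF]; exact FiniteField.cast_card_eq_zero F
    have : (3 : F) * 3 = 0 := by push_cast at h9; linear_combination h9
    exact (mul_self_eq_zero).1 this
  have h2 : (2 : F) ≠ 0 := fun e => one_ne_zero (α := F) (by linear_combination h30 - e)
  obtain ⟨i, hi⟩ : ∃ i : F, i * i = -1 := by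
    obtain ⟨i, hi⟩ := FiniteField.isSquare_neg_one_iff.2 (show Fintype.card F % 4 ≠ 3 by rw [hcardF]; norm_num)
    exact ⟨i, hi.symm⟩
  -- an orthonormal basis of the lines
  have hv : ∀ x, ∃ v ∈ D x, hermForm 4 F 3 v v = 1 ∧ ∀ w ∈ D x, ∃ c : F, w = c • v := by
    intro x
    obtain ⟨v, hv, hv0⟩ := Submodule.exists_mem_ne_zero_of_ne_bot (p := D x) fun e => by
      have := hD.decomp.finrank_eq x
      rw [e, finrank_bot] at this
      omega
    have hspan : ∀ w ∈ D x, ∃ c : F, w = c • v := fun w hw => by
      obtain ⟨c, hc⟩ := exists_smul_eq_of_finrank_eq_one (hD.decomp.finrank_eq x) (x := (⟨v, hv⟩ : D x))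
        (fun e => hv0 (congrArg Subtype.val e)) ⟨w, hw⟩
      exact ⟨c, (congrArg Subtype.val hc).symm⟩
    have hvv : hermForm 4 F 3 v v ≠ 0 := fun e => by
      obtain ⟨y, hy, hne⟩ := (hD.nondegenerate x v hv hv0).2
      obtain ⟨c, rfl⟩ := hspan y hy
      rw [Classical.Herm.h_smul_right K, e, mul_zero] at hne
      exact hne rfl
    obtain ⟨μ, hμ⟩ := K.exists_norm (hermForm 4 F 3 v v)⁻¹ (by rw [map_inv₀, Classical.Herm.bar_self K])
    have hμ0 : μ ≠ 0 := fun e => by simp [e] at hμ; exact hvv hμ.symm
    refine ⟨μ • v, (D x).smul_mem _ hv, ?_, fun w hw => ?_⟩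
    · rw [Classical.Herm.h_smul_left K, Classical.Herm.h_smul_right K, ← mul_assoc, hμ, inv_mul_cancel₀ hvv]
    · obtain ⟨c, rfl⟩ := hspan w hw
      exact ⟨c / μ, by rw [smul_smul, div_mul_cancel₀ _ hμ0]⟩
  choose v hvD hvv hvspan using hv
  let Pm : Matrix (Fin 4) (Fin 4) F := fun r x => v x r
  have hgram : Pmᵀ * bm K.bar Pm = 1 := by
    ext x y
    have e : (Pmᵀ * bm K.bar Pm) x y = hermForm 4 F 3 (v x) (v y) := by
      rw [ClassicalAut.Unitary.herm_apply K]
      rfl
    rw [e, Matrix.one_apply]
    split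
    · subst y; exact hvv x
    · rename_i hne
      exact hD.orthogonal x y hne _ (hvD x) _ (hvD y)
  have hgram' : bm K.bar Pm * Pmᵀ = 1 := mul_eq_one_comm.1 hgram
  obtain ⟨P, hP⟩ : IsUnit Pm := by
    rw [Matrix.isUnit_iff_isUnit_det]
    have h := congrArg Matrix.det hgram
    rw [Matrix.det_mul, Matrix.det_transpose, Matrix.det_one] at h
    exact IsUnit.of_mul_eq_one _ h
  set Q : Matrix (Fin 4) (Fin 4) F := (↑P⁻¹ : Matrix (Fin 4) (Fin 4) F) with hQ
  have hQP : Q * P.val = 1 := Units.inv_mul P
  have hPQ : P.val * Q = 1 := Units.mul_inv P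
  have hop : ∀ a b : Idx, P.val * el i a * Q * (P.val * el i b * Q) = P.val * el i (op a b) * Q := fun a b => by
    rw [← el_mul hi]
    calc P.val * el i a * Q * (P.val * el i b * Q) = P.val * el i a * (Q * P.val) * el i b * Q := by
          simp only [mul_assoc]
      _ = _ := by rw [hQP, mul_one]; simp only [mul_assoc]
  have hone : P.val * el i (0, 0, 0) * Q = 1 := by
    rw [el_scalar, show eps i 0 = 1 by simp [eps], one_smul, mul_one, hPQ]
  let Φ : Idx → GL (Fin 4) F := fun a =>
    ⟨P.val * el i a * Q, P.val * el i (iv a) * Q, by rw [hop, (op_iv a).1, hone], by rw [hop, (op_iv a).2, hone]⟩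
  have hΦ : ∀ a b, Φ a * Φ b = Φ (op a b) := fun a b => Units.ext (hop a b)
  have hΦv : ∀ a, (Φ a).val = P.val * el i a * Q := fun a => rfl
  have hΦinj : Function.Injective Φ := fun a b h => el_inj hi h2 (by
    have h1 := congrArg (fun g : GL (Fin 4) F => Q * g.val * P.val) h
    simp only [hΦv, ← mul_assoc, hQP, one_mul] at h1
    simpa only [mul_assoc, hQP, mul_one] using h1)
  have hΦs : ∀ c, Φ (0, c, 0) = sc (Units.mk0 (eps i c) (eps_ne hi c)) := fun c => Units.ext (by
    rw [hΦv, el_scalar, sc_val, mul_smul_comm, smul_mul_assoc, mul_one, hPQ]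
    rfl)
  have hΦ1 : Φ (0, 0, 0) = 1 := Units.ext hone
  let R : Subgroup (GL (Fin 4) F) :=
    { carrier := Set.range Φ
      one_mem' := ⟨_, hΦ1⟩
      mul_mem' := by rintro _ _ ⟨a, rfl⟩ ⟨b, rfl⟩; exact ⟨_, (hΦ a b).symm⟩
      inv_mem' := by
        rintro _ ⟨a, rfl⟩
        exact ⟨iv a, (inv_eq_of_mul_eq_one_right (by rw [hΦ, (op_iv a).1, hΦ1])).symm⟩ }
  let ψ : Idx ≃ R := Equiv.ofBijective (fun a => ⟨Φ a, a, rfl⟩)
    ⟨fun a b h => hΦinj (congrArg Subtype.val h), fun ⟨g, a, ha⟩ => ⟨a, Subtype.ext ha⟩⟩
  have hψ : ∀ a b, ψ a * ψ b = ψ (op a b) := fun a b => Subtype.ext (hΦ a b)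
  have hcard : Nat.card R = 64 := by
    rw [← Nat.card_congr ψ]; simp
  have hcen : ∀ a, ψ a ∈ Subgroup.center R ↔ a.1 = 0 ∧ a.2.2 = 0 := fun a => by
    rw [Subgroup.mem_center_iff, ← central]
    constructor
    · intro h b
      exact (ψ.injective (by rw [← hψ, ← hψ]; exact h (ψ b))).symm
    · intro h g
      obtain ⟨b, rfl⟩ := ψ.surjective g
      rw [hψ, hψ, h b]
  have hcencard : Nat.card (Subgroup.center R) = 4 := by
    rw [← Nat.card_congr (Equiv.ofBijective (fun c : Fin 4 =>
      (⟨ψ (0, c, 0), (hcen _).2 ⟨rfl, rfl⟩⟩ : Subgroup.center R)) ⟨fun c d h => by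
        have := ψ.injective (congrArg Subtype.val h)
        simpa using this, fun ⟨g, hg⟩ => by
        obtain ⟨a, rfl⟩ := ψ.surjective g
        obtain ⟨h1, h2⟩ := (hcen a).1 hg
        obtain ⟨a₁, a₂, a₃⟩ := a
        simp only at h1 h2
        subst h1 h2
        exact ⟨a₂, rfl⟩⟩)]
    simp
  have hscal : ∀ g ∈ Subgroup.center R, (g : GL (Fin 4) F) ∈ scalars (Fin 4) F := fun g hg => by
    obtain ⟨a, rfl⟩ := ψ.surjective g
    obtain ⟨h1, h2⟩ := (hcen a).1 hg
    obtain ⟨a₁, a₂, a₃⟩ := a
    simp only at h1 h2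
    subst h1 h2
    exact ⟨_, (hΦs a₂).symm⟩
  have hmem : ∀ a, P.val * el i a * Q ∈ matrixSet R := fun a => ⟨Φ a, ⟨a, rfl⟩, rfl⟩
  have habs : ActsAbsolutelyIrreducibly (matrixSet R) := by
    have hdiag : ∀ l z : Fin 4, ∀ w : Fin 4 → F, (el i (0, 0, l) *ᵥ w) z = eps i (ex (0, 0, l) z) * w z := by
      intro l z w
      rw [mulVec, dotProduct, Finset.sum_eq_single z (fun x _ hx => by
        simp [el, mat, show xr 0 x = x from (one_spec x).1, Ne.symm hx]) (by simp)]
      simp [el, mat, show xr 0 z = z from (one_spec z).1]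
    have hproj : ∀ x z : Fin 4, ∑ l, eps i (ex (0, 0, l) x) * eps i (ex (0, 0, l) z) =
        if x = z then (4 : F) else 0 := by
      intro x z
      fin_cases x <;> fin_cases z <;> simp [Fin.sum_univ_four, eps, ex, dt] <;> norm_num
    have h4 : (4 : F) ≠ 0 := fun e => one_ne_zero (α := F) (by linear_combination e - h30)
    refine ⟨?_, fun M hM => ?_⟩
    · rw [PrimeDim.irreducible_iff]
      intro W hW
      by_cases hW0 : W = ⊥
      · exact Or.inl hW0
      right
      obtain ⟨w, hw, hw0⟩ := Submodule.exists_mem_ne_zero_of_ne_bot hW0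
      set u := Q *ᵥ w with hu
      have hwu : w = P.val *ᵥ u := by rw [hu, mulVec_mulVec, hPQ, one_mulVec]
      have hu0 : u ≠ 0 := fun e => hw0 (by rw [hwu, e, mulVec_zero])
      obtain ⟨x, hx⟩ := Function.ne_iff.1 hu0
      rw [Pi.zero_apply] at hx
      have hact : ∀ a, ∀ u', P.val *ᵥ u' ∈ W → P.val *ᵥ (el i a *ᵥ u') ∈ W := fun a u' h' => by
        have := hW _ (hmem a) _ h'
        rwa [mulVec_mulVec, mul_assoc (P.val * el i a), hQP, mul_one, ← mulVec_mulVec] at this
      have hex : P.val *ᵥ Pi.single x 1 ∈ W := by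
        have he : Pi.single x (1 : F) = (4 * u x)⁻¹ • ∑ l, eps i (ex (0, 0, l) x) • (el i (0, 0, l) *ᵥ u) := by
          funext z
          simp only [Pi.smul_apply, Finset.sum_apply, smul_eq_mul, hdiag, ← mul_assoc, ← Finset.sum_mul, hproj]
          by_cases h : x = z
          · subst h
            rw [if_pos rfl, Pi.single_eq_same]
            field_simp
          · simp [h, Ne.symm h]
        rw [he, mulVec_smul, mulVec_sum]
        refine W.smul_mem _ (sum_mem fun l _ => ?_)
        rw [mulVec_smul]
        exact W.smul_mem _ (hact _ u (hwu ▸ hw))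
      have hall : ∀ z, P.val *ᵥ Pi.single z 1 ∈ W := fun z => by
        have h1 : el i (xr x z, 0, 0) *ᵥ Pi.single x 1 = Pi.single z 1 := by
          funext y
          have hz : xr (xr x z) x = z := (show ∀ x z, xr (xr x z) x = z by decide) x z
          rw [mulVec_single_one]
          simp [el, mat, ex, hz, eps, Pi.single_apply, show ∀ j, dt 0 j = 0 by decide]
        rw [← h1]
        exact hact _ _ hex
      refine eq_top_iff.2 fun y _ => ?_
      have hy : y = P.val *ᵥ (∑ z, (Q *ᵥ y) z • Pi.single z (1 : F)) := by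
        rw [← pi_eq_sum_univ' (Q *ᵥ y), mulVec_mulVec, hPQ, one_mulVec]
      rw [hy, mulVec_sum]
      exact sum_mem fun z _ => by rw [mulVec_smul]; exact W.smul_mem _ (hall z)
    · set X := Q * M * P.val with hX
      have hXc : ∀ a, X * el i a = el i a * X := fun a => by
        have h1 := congrArg (fun Y => Q * Y * P.val) (hM _ (hmem a))
        calc X * el i a = Q * (M * (P.val * el i a * Q)) * P.val := by
              rw [hX]; simp only [mul_assoc, hQP, mul_one]
          _ = Q * (P.val * el i a * Q * M) * P.val := h1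
          _ = el i a * X := by rw [hX]; simp only [← mul_assoc, hQP, one_mul]
      have hd : ∀ x z, x ≠ z → X x z = 0 := by
        intro x z hxz
        have key : ∀ l, X x z * eps i (ex (0, 0, l) z) = eps i (ex (0, 0, l) x) * X x z := fun l => by
          have h1 := congrFun (congrFun (hXc (0, 0, l)) x) z
          rw [Matrix.mul_apply, Matrix.mul_apply, Finset.sum_eq_single z (fun y _ hy => by
            simp [el, mat, show xr 0 z = z from (one_spec z).1, hy]) (by simp),
            Finset.sum_eq_single x (fun y _ hy => by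
              simp [el, mat, show xr 0 y = y from (one_spec y).1, Ne.symm hy]) (by simp)] at h1
          simpa [el, mat, show xr 0 z = z from (one_spec z).1, show xr 0 x = x from (one_spec x).1] using h1
        obtain ⟨l, hl⟩ : ∃ l, ex (0, 0, l) x ≠ ex (0, 0, l) z :=
          (show ∀ x z : Fin 4, x ≠ z → ∃ l, ex (0, 0, l) x ≠ ex (0, 0, l) z by decide) x z hxz
        exact (mul_eq_zero.1 (show (eps i (ex (0, 0, l) z) - eps i (ex (0, 0, l) x)) * X x z = 0 by
          linear_combination key l)).resolve_left (sub_ne_zero.2 fun e => hl (eps_inj hi h2 e).symm)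
      have hdiag' : ∀ z, X z z = X 0 0 := by
        intro z
        have h1 := congrFun (congrFun (hXc (z, 0, 0)) z) 0
        have hz : xr z 0 = z := (show ∀ z, xr z 0 = z by decide) z
        have e0 : ∀ j, ex (z, 0, 0) j = 0 := (show ∀ z j, ex (z, 0, 0) j = 0 by decide) z
        rw [Matrix.mul_apply, Matrix.mul_apply, Finset.sum_eq_single z (fun y _ hy => by
          simp [el, mat, hz, hy]) (by simp), Finset.sum_eq_single 0 (fun y _ hy => by
          rw [hd y 0 hy, mul_zero]) (by simp)] at h1
        simpa [el, mat, hz, e0, eps] using h1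
      refine ⟨X 0 0, ?_⟩
      have hXs : X = X 0 0 • 1 := Matrix.ext fun x z => by
        by_cases h : x = z
        · subst h; simp [hdiag' x]
        · simp [hd x z h, h]
      calc M = (P.val * Q) * M * (P.val * Q) := by rw [hPQ, one_mul, mul_one]
        _ = P.val * X * Q := by rw [hX]; simp only [mul_assoc]
        _ = _ := by rw [hXs, mul_smul_comm, smul_mul_assoc, mul_one, hPQ]; simp
  haveI : Fact (Nat.Prime 2) := ⟨Nat.prime_two⟩
  have hST : Cfsg.Geo.IsSymplecticTypeGroup 2 R := by
    refine ⟨Nat.prime_two, IsPGroup.of_card (n := 6) (by rw [hcard]; norm_num), fun A hA hAc => ?_, ?_⟩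
    · have hAle : A ≤ Subgroup.center R := by
        intro g hg
        obtain ⟨a, rfl⟩ := ψ.surjective g
        rw [hcen]
        refine (au_move a).resolve_right ?_
        rintro ⟨m, hm⟩
        let φ : R ≃* R :=
          { toFun := fun g => ψ (au m (ψ.symm g))
            invFun := fun g => ψ (au' m (ψ.symm g))
            left_inv := fun g => by simp [(au_inv m _).1]
            right_inv := fun g => by simp [(au_inv m _).2]
            map_mul' := fun g g' => by
              obtain ⟨b, rfl⟩ := ψ.surjective g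
              obtain ⟨b', rfl⟩ := ψ.surjective g'
              simp [hψ, au_mul] }
        have h1 : φ (ψ a) ∈ A := by
          rw [← Subgroup.characteristic_iff_map_eq.1 hA φ]
          exact ⟨ψ a, hg, rfl⟩
        have h2 := congrArg Subtype.val (hAc.is_comm.comm ⟨ψ a, hg⟩ ⟨φ (ψ a), h1⟩)
        refine hm (ψ.injective ?_)
        rw [← hψ, ← hψ]
        simpa [φ] using h2
      let ι : Subgroup.center R → Fˣ := fun g => (PrimeDim.eq_sc_of_mem_scalars (hscal g g.2)).choose
      have hι : ∀ g : Subgroup.center R, ((g : R) : GL (Fin 4) F) = sc (ι g) :=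
        fun g => (PrimeDim.eq_sc_of_mem_scalars (hscal g g.2)).choose_spec
      let ιh : Subgroup.center R →* Fˣ := MonoidHom.mk' ι fun a b => sc_injective (n := 4) (by norm_num) (by
        rw [sc_mul, ← hι, ← hι, ← hι]; rfl)
      have hinj : Function.Injective ιh := fun a b e =>
        Subtype.ext (Subtype.ext (by rw [hι a, hι b]; exact congrArg sc e))
      haveI : IsCyclic (Subgroup.center R) := isCyclic_of_injective ιh hinj
      exact isCyclic_of_injective (Subgroup.inclusion hAle) (Subgroup.inclusion_injective hAle)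
    · show Monoid.exponent R = 2 * Nat.gcd 2 2
      have hd : Monoid.exponent R ∣ 4 := Monoid.exponent_dvd_of_forall_pow_eq_one fun g => by
        obtain ⟨a, rfl⟩ := ψ.surjective g
        rw [pow_succ', pow_succ', pow_succ', pow_one, hψ, hψ, hψ, pow_four a]
        exact Subtype.ext hΦ1
      refine Nat.dvd_antisymm (by simpa using hd) ?_
      have h4 : orderOf (ψ (0, 1, 0)) = 2 ^ (1 + 1) := by
        refine orderOf_eq_prime_pow ?_ ?_
        · rw [show (2 : ℕ) ^ 1 = 2 from rfl, pow_two, hψ, show (1 : R) = ψ (0, 0, 0) from (Subtype.ext hΦ1).symm,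
            ψ.injective.eq_iff]
          decide
        · rw [show (2 : ℕ) ^ (1 + 1) = 4 from rfl, pow_succ', pow_succ', pow_succ', pow_one, hψ, hψ, hψ, pow_four]
          exact Subtype.ext hΦ1
      have := Monoid.order_dvd_exponent (ψ (0, 1, 0))
      rw [h4] at this
      simpa using this
  have hnorm : ∀ g ∈ H, ∀ z ∈ R, g * z * g⁻¹ ∈ R := by
    intro g hg
    obtain ⟨σ, hσ⟩ := hle hg
    have hgv : ∀ x, ∃ c : F, g.val *ᵥ v x = c • v (σ x) := fun x =>
      hvspan (σ x) _ (hσ x ▸ ⟨v x, hvD x, Matrix.toLin'_apply _ _⟩)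
    choose c hc using hgv
    have hc4 : ∀ x, ∃ a, c x = eps i a := fun x => by
      refine mul_self_four ?_ hi
      have h1 : hermForm 4 F 3 (g.val *ᵥ v x) (g.val *ᵥ v x) = 1 := ((hH hg).1 _ _).trans (hvv x)
      rw [hc, Classical.Herm.h_smul_left K, Classical.Herm.h_smul_right K, hvv, mul_one, K.bar_apply] at h1
      linear_combination h1
    choose e he using hc4
    set C := mat i (⇑σ) e with hC
    have hgP : g.val * P.val = P.val * C := by
      refine Matrix.ext_of_mulVec_single fun x => ?_
      rw [← mulVec_mulVec, ← mulVec_mulVec, show P.val *ᵥ Pi.single x 1 = v x by rw [hP, mulVec_single_one]; rfl,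
        hc, he, show C *ᵥ Pi.single x 1 = eps i (e x) • Pi.single (σ x) 1 by
          funext y
          rw [mulVec_single_one, hC]
          by_cases h : y = σ x <;> simp [mat, h], mulVec_smul,
        show P.val *ᵥ Pi.single (σ x) 1 = v (σ x) by rw [hP, mulVec_single_one]; rfl]
    have hsum : 2 * (e 0 + e 1 + e 2 + e 3) = 0 := by
      have hdet : C.det = 1 := by
        have h1 : g.val.det = 1 := congrArg Units.val (MonoidHom.mem_ker.1 (hH hg).2)
        have h2 := congrArg Matrix.det hgP
        rw [Matrix.det_mul, Matrix.det_mul, h1, one_mul] at h2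
        have hPdet : P.val.det ≠ 0 := ((Matrix.isUnit_iff_isUnit_det _).1 P.isUnit).ne_zero
        exact (mul_eq_left₀ hPdet).1 h2.symm
      have hsplit : C = mat i σ 0 * mat i id e := by
        rw [mat_mul hi, hC]
        congr 1
        funext x
        simp
      have hp : (mat i σ 0)ᵀ * mat i σ 0 = 1 := by
        ext x y
        rw [Matrix.mul_apply, Finset.sum_eq_single (σ x) (fun z _ hz => by simp [mat, hz]) (by simp)]
        by_cases h : x = y
        · subst h; simp [mat, eps]
        · simp [mat, h, eps]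
      have hdd : (mat i σ 0).det * (mat i σ 0).det = 1 := by
        have := congrArg Matrix.det hp
        rwa [Matrix.det_mul, Matrix.det_transpose, Matrix.det_one] at this
      have hdiag : (mat i id e).det = eps i (e 0 + e 1 + e 2 + e 3) := by
        rw [show mat i id e = Matrix.diagonal fun x => eps i (e x) by
          ext y x; by_cases h : y = x <;> simp [mat, h], Matrix.det_diagonal, Fin.prod_univ_four, eps_add hi,
          eps_add hi, eps_add hi]
      rw [hsplit, Matrix.det_mul, hdiag] at hdet
      refine eps_inj hi h2 ?_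
      rw [show eps i 0 = 1 by simp [eps], show ∀ s : Fin 4, 2 * s = s + s by decide, eps_add hi]
      linear_combination (eps i (e 0 + e 1 + e 2 + e 3) * (mat i σ 0).det + 1) * hdet -
        eps i (e 0 + e 1 + e 2 + e 3) * eps i (e 0 + e 1 + e 2 + e 3) * hdd
    have hev : (fun x => ![e 0, e 1, e 2, e 3] x) = e := by funext x; fin_cases x <;> rfl
    have hsv : (fun x => ![σ 0, σ 1, σ 2, σ 3] x) = σ := by funext x; fin_cases x <;> rfl
    have hp := perm_norm (σ 0) (σ 1) (σ 2) (σ 3) (σ.injective.ne (by decide)) (σ.injective.ne (by decide))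
      (σ.injective.ne (by decide)) (σ.injective.ne (by decide)) (σ.injective.ne (by decide))
      (σ.injective.ne (by decide))
    have hsplit : C = mat i σ 0 * mat i id e := by
      rw [mat_mul hi, hC]
      congr 1
      funext x
      simp
    -- conjugation of the generators
    have hv' : ∀ v₀, ∃ b, C * el i (v₀, 0, 0) = el i b * C := by
      intro v₀
      obtain ⟨c₁, l₁, h1⟩ := diag_norm (e 0) (e 1) (e 2) (e 3) hsum v₀
      obtain ⟨w, hw⟩ := hp.1 v₀
      obtain ⟨c₂, m, hm⟩ := hp.2 l₁
      have k1 : mat i id e * el i (v₀, 0, 0) = el i (v₀, c₁, l₁) * mat i id e := by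
        rw [el, el, mat_mul hi, mat_mul hi]
        congr 1
        funext x
        have := h1 x
        rw [← hev]
        simpa [(show ∀ v j, ex (v, 0, 0) j = 0 by decide) v₀] using this
      have k2 : mat i σ 0 * el i (v₀, 0, 0) = el i (w, 0, 0) * mat i σ 0 := by
        rw [el, el, mat_mul hi, mat_mul hi]
        congr 1
        · funext x
          have := hw x
          rw [← hsv]
          exact this
        · funext x
          simp [show ∀ v j, ex (v, 0, 0) j = 0 by decide]
      have k3 : mat i σ 0 * el i (0, 0, l₁) = el i (0, c₂, m) * mat i σ 0 := by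
        rw [el, el, mat_mul hi, mat_mul hi]
        congr 1
        · funext x
          simp [show ∀ y, xr 0 y = y by decide]
        · funext x
          have := hm x
          rw [← hsv]
          simpa using this
      obtain ⟨c₃, hc₃⟩ := decompose (v₀, c₁, l₁)
      refine ⟨op (0, c₃, 0) (op (0, c₂, m) (w, 0, 0)), ?_⟩
      rw [hsplit, mul_assoc, k1, hc₃, ← el_mul hi, ← el_mul hi, ← el_mul hi, ← el_mul hi, el_scalar]
      simp only [smul_mul_assoc, mul_smul_comm, one_mul]
      congr 1
      rw [← mul_assoc, ← mul_assoc, k3, mul_assoc (el i (0, c₂, m)), k2]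
      simp only [mul_assoc]
    have hl' : ∀ l, ∃ b, C * el i (0, 0, l) = el i b * C := by
      intro l
      obtain ⟨c₂, m, hm⟩ := hp.2 l
      refine ⟨(0, c₂, m), ?_⟩
      rw [hC, el, el, mat_mul hi, mat_mul hi]
      congr 1
      · funext x; simp [show ∀ y, xr 0 y = y by decide]
      · funext x
        have := hm x
        rw [← hsv]
        simp [show ∀ y, xr 0 y = y by decide, this, add_comm]
    rintro _ ⟨a, rfl⟩
    obtain ⟨c₀, ha⟩ := decompose a
    obtain ⟨b₁, hb₁⟩ := hl' a.2.2
    obtain ⟨b₂, hb₂⟩ := hv' a.1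
    refine ⟨op (0, c₀, 0) (op b₁ b₂), ?_⟩
    rw [eq_mul_inv_iff_mul_eq]
    refine Units.ext ?_
    rw [Units.val_mul, Units.val_mul, hΦv, hΦv, ha, ← el_mul hi, ← el_mul hi, ← el_mul hi, ← el_mul hi, el_scalar]
    simp only [smul_mul_assoc, mul_smul_comm, one_mul]
    congr 1
    have hgC : g.val = P.val * C * Q := by rw [← hgP, mul_assoc, hPQ, mul_one]
    calc P.val * (el i b₁ * el i b₂) * Q * g.val
        = P.val * (el i b₁ * el i b₂) * (Q * P.val) * C * Q := by rw [hgC]; simp only [mul_assoc]
      _ = P.val * (el i b₁ * (el i b₂ * C)) * Q := by rw [hQP, mul_one]; simp only [mul_assoc]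
      _ = P.val * (el i b₁ * (C * el i (a.1, 0, 0))) * Q := by rw [hb₂]
      _ = P.val * (C * (el i (0, 0, a.2.2) * el i (a.1, 0, 0))) * Q := by
          rw [← mul_assoc (el i b₁) C, ← hb₁]; simp only [mul_assoc]
      _ = P.val * C * (Q * P.val) * (el i (0, 0, a.2.2) * el i (a.1, 0, 0)) * Q := by
          rw [hQP, mul_one]; simp only [mul_assoc]
      _ = g.val * (P.val * (el i (0, 0, a.2.2) * el i (a.1, 0, 0)) * Q) := by rw [hgC]; simp only [mul_assoc]
  have hiso : ∀ a, Iso K.bar 1 (P.val * el i a * Q) := by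
    intro a
    have hinj : Function.Injective (xr a.1) := fun x y h => by
      have := congrArg (xr a.1) h
      rwa [((one_spec x).2.2 a.1), ((one_spec y).2.2 a.1)] at this
    have hQQ : Qᵀ * bm K.bar Q = 1 := by
      have h1 : bm K.bar Q * Qᵀ = 1 := by
        calc bm K.bar Q * Qᵀ = bm K.bar Q * (bm K.bar P.val * P.valᵀ) * Qᵀ := by rw [hP, hgram', mul_one]
          _ = (bm K.bar Q * bm K.bar P.val) * (P.valᵀ * Qᵀ) := by simp only [mul_assoc]
          _ = 1 := by rw [← map_mul, hQP, map_one, one_mul, ← Matrix.transpose_mul, hQP, Matrix.transpose_one]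
      exact mul_eq_one_comm.1 h1
    rw [Iso, mul_one]
    calc (P.val * el i a * Q)ᵀ * bm K.bar (P.val * el i a * Q)
        = Qᵀ * ((el i a)ᵀ * (P.valᵀ * bm K.bar P.val) * bm K.bar (el i a)) * bm K.bar Q := by
          rw [Matrix.transpose_mul, Matrix.transpose_mul, map_mul, map_mul]; simp only [mul_assoc]
      _ = 1 := by rw [hP, hgram, mul_one, el, mat_unitary hi K hinj, mul_one, hQQ]
  haveI hchar : CharP F 3 := by
    haveI : Fact (Nat.Prime 3) := ⟨Nat.prime_three⟩
    refine CharP.charP_iff_prime_eq_zero Nat.prime_three |>.2 ?_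
    exact_mod_cast h30
  refine ⟨2, R, 3, 2, 2, hST, habs, fun g hg => ⟨1, fun x y => ?_⟩, by norm_num, by norm_num, one_le_two,
    Nat.prime_three, ?_, ⟨Nat.prime_three, hchar, by rw [hcardF]; norm_num, by rw [hcencard]; norm_num, fun d hd hd2 => by
      rw [hcencard]; obtain rfl : d = 1 := by omega
      norm_num⟩, Or.inr ⟨rfl, rfl, hcencard, by rw [hcard]; norm_num⟩, fun g hg => ?_⟩
  · obtain ⟨a, rfl⟩ := hg
    rw [Units.val_one, one_mul, herm_sform K, herm_sform K]
    exact (iso_iff _ _ _).1 (hiso a) x y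
  · rintro _ ⟨a, rfl⟩ _ ⟨b, rfl⟩
    obtain ⟨d, hd⟩ := comm_spec a b
    exact ⟨Units.mk0 (eps i d) (eps_ne hi d), by rw [← hΦs, hΦ, hΦ, hΦ, hd]⟩
  · refine Subgroup.mem_normalizer_iff.2 fun z => ⟨fun hz => hnorm g hg z hz, fun hz => ?_⟩
    simpa [mul_assoc] using hnorm g⁻¹ (inv_mem hg) _ hz

end CfsgLib.Asch.UnitLines
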