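import Cfsg.Agent.Lib.Classical.AschUnitArith
import Cfsg.Agent.Lib.Classical.AschUnitLines

set_option autoImplicit false
set_option linter.unusedSectionVars false

/-!
For `q = 3` a maximal subgroup fixing an orthogonal frame in dimension four is a normaliser of symplectic type.
-/

namespace CfsgLib.Asch

open Cfsg.Geo (subgroupNormalizer decompositionStabilizer)
open CfsgLib.PrimeDim (SUGL)
open CfsgLib.ClassicalAut (Unitary.Conj)
open scoped MatrixGroups

variable {F : Type*} [Field F] [Fintype F]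

theorem lines_three (K : Unitary.Conj F 3) (hF : Fintype.card F = 3 ^ 2) {H : Subgroup (GL (Fin 4) F)}
    (hH : Cfsg.Geo.IsMaximalIn (SUGL 4 F 3) H) {D : Fin 4 → Submodule F (Fin 4 → F)}
    (hD : Cfsg.Geo.IsNondegenerateMDecomposition (Cfsg.hermForm 4 F 3) 1 D) (hle : H ≤ decompositionStabilizer D) :
    ∃ (p : ℕ) (R : Subgroup (GL (Fin 4) F)), p.Prime ∧ 3 = p ∧ p % 4 = 3 ∧ Cfsg.Geo.IsSymplecticTypeGroup 2 R ∧
      Cfsg.Geo.ActsAbsolutelyIrreducibly (Cfsg.Geo.matrixSet R) ∧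
      R ≤ Cfsg.Geo.similarityGroup (Cfsg.hermForm 4 F 3) ∧ Nat.card R = 64 ∧ Nat.card (Subgroup.center R) = 4 ∧
      H = subgroupNormalizer R ⊓ SUGL 4 F 3 := by
  obtain ⟨r, R, p, e, k, hR, ha, hs, hrp, hk, hk1, hp, hcomm, hmi, hc, hle'⟩ :=
    UnitLines.uheis_of_lines K hD hH.1.le hle
  obtain ⟨rfl, rfl, hqp, hp4, hz, hcard⟩ :=
    UnitArith.two_group_data hF (m := 2) (by norm_num) (by norm_num) hR.prime hk hk1 hmi hc
  haveI : CharP F p := hmi.2.1
  haveI : Nonempty (Fin 4) := ⟨0⟩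
  have hcop : Nat.Coprime (2 * Nat.gcd 2 2) p := by
    have h1 : Nat.Coprime 2 p := (Nat.coprime_primes Nat.prime_two hp).2 hrp
    exact Nat.Coprime.mul_left h1 (by simpa using h1)
  refine ⟨p, R, hp, hqp, hp4, hR, ha, hs, hcard.trans (by norm_num), hz, key_unit hH _ hle'
    (UnitNotLe.not_le_heis K le_rfl hcop (fun g hg => ?_) ha (not_le_scalars (by norm_num) ha.1) hcomm hs)⟩
  have := Monoid.pow_exponent_eq_one (⟨g, hg⟩ : R)
  rw [hR.exponent_eq] at this
  simpa using congrArg Subtype.val this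

end CfsgLib.Asch
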