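import Cfsg.Agent.Lib.Classical.AschUnitBasic
import Cfsg.Agent.Lib.Classical.AschNotLe

set_option autoImplicit false
set_option linter.unusedSectionVars false

/-!
The special unitary group lies in no member of the geometric classes.
-/

namespace CfsgLib.Asch.UnitNotLe

open Matrix
open Cfsg (hermForm GU)
open Cfsg.Geo (matrixSet scalars decompositionStabilizer subalgebraNormalizer tensorProductSubgroup
  tensorWreathSubgroup subgroupNormalizer glReindex ActsIrreducibly ActsAbsolutelyIrreducibly)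
open CfsgLib.PrimeDim (SUGL sc sc_mulVec exists_utv herm_sesq eigen_isotropic irreducible_iff sugl_irreducible
  transvection_mulVec inv_mulVec_cancel mulVec_inv_cancel eq_sc_of_mem_scalars scalar_of_comm)
open CfsgLib.ClassicalAut (Unitary.Conj Unitary.herm_apply)
open CfsgLib.Classical.Herm (h_add_left h_add_right h_smul_left h_smul_right h_eq_zero_symm h_ne_zero_symm
  h_nondeg exists_skew exists_isotropic_ne h_sub_left)
open scoped MatrixGroups Kronecker

variable {F : Type*} [Field F] [Fintype F] {q n : ℕ} (K : Unitary.Conj F q)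

include K in
theorem h_ne {u : Fin n → F} (hu0 : u ≠ 0) : ∃ x, hermForm n F q x u ≠ 0 :=
  ((herm_sesq K).nd u hu0).1

include K in
theorem exists_iso_outside (hn : 2 ≤ n) {W : Submodule F (Fin n → F)} (hW : W ≠ ⊤) :
    ∃ u, hermForm n F q u u = 0 ∧ u ∉ W := by
  by_contra hc
  push Not at hc
  let S : Set (Fin n → F) := {u | hermForm n F q u u = 0}
  rcases irreducible_iff.1 (sugl_irreducible K hn) (Submodule.span F S) (by
      rintro _ ⟨g, hg, rfl⟩ v hv
      have h1 : (Submodule.span F S).map (Matrix.toLin' (g : Matrix (Fin n) (Fin n) F)) ≤ Submodule.span F S := by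
        rw [Submodule.map_span, Submodule.span_le]
        rintro _ ⟨x, hx, rfl⟩
        refine Submodule.subset_span ?_
        show hermForm n F q _ _ = 0
        rw [Matrix.toLin'_apply]
        exact (hg.1 x x).trans hx
      exact h1 ⟨v, hv, Matrix.toLin'_apply _ _⟩) with h | h
  · obtain ⟨x, -, hx0, hx⟩ := exists_isotropic_ne K (P := (⊤ : Submodule F (Fin n → F)))
      (by rw [finrank_top, Module.finrank_fin_fun]; exact hn)
    have : x ∈ Submodule.span F S := Submodule.subset_span hx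
    rw [h, Submodule.mem_bot] at this
    exact hx0 this
  · exact hW (eq_top_iff.2 (h ▸ Submodule.span_le.2 hc))

include K in
/-- `SU(n, q)` preserves no decomposition into subspaces of dimension at least two. -/
theorem not_le_decomp {t m : ℕ} (hm : 2 ≤ m) {D : Fin t → Submodule F (Fin n → F)}
    (hD : Cfsg.Geo.IsMDecomposition m D) : ¬ SUGL n F q ≤ decompositionStabilizer D := by
  classical
  intro hle
  obtain ⟨θ, hθ0, hθ⟩ := exists_skew K
  have hdim : ∀ i, Module.finrank F (D i) = m := hD.finrank_eq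
  have ht := hD.two_le
  have hn : 2 ≤ n := by
    have := Submodule.finrank_le (D ⟨0, by omega⟩)
    rw [hdim, Module.finrank_fin_fun] at this
    omega
  have hmem : ∀ u, hermForm n F q u u = 0 → u ≠ 0 → ∃ l, u ∈ D l := by
    intro u hu hu0
    let L : (Fin n → F) →ₗ[F] F :=
      { toFun := fun x => hermForm n F q x u
        map_add' := fun x y => h_add_left K x y u
        map_smul' := fun c x => h_smul_left K c x u }
    obtain ⟨l, x, hx, hxu⟩ : ∃ l, ∃ x ∈ D l, hermForm n F q x u ≠ 0 := by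
      by_contra hc
      push Not at hc
      have h1 : (⨆ i, D i) ≤ LinearMap.ker L := iSup_le fun i x hx => LinearMap.mem_ker.2 (hc i x hx)
      rw [show (⨆ i, D i) = ⊤ from hD.iSup_eq_top] at h1
      obtain ⟨x, hx⟩ := h_ne K hu0
      exact hx (LinearMap.mem_ker.1 (h1 (Submodule.mem_top (x := x))))
    refine ⟨l, ?_⟩
    obtain ⟨T, φ, hT, hφ, -, hTv⟩ := exists_utv K hu hθ
    obtain ⟨σ, hσ⟩ := hle hT
    have hmap : ∀ z ∈ D l, z + (θ * hermForm n F q z u) • u ∈ D (σ l) := fun z hz => by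
      rw [← hσ l]
      exact ⟨z, hz, by rw [Matrix.toLin'_apply, transvection_mulVec hTv, hφ]⟩
    obtain ⟨y, hy, hy0, hyu⟩ : ∃ y ∈ D l, y ≠ 0 ∧ hermForm n F q y u = 0 := by
      have h2 := LinearMap.finrank_range_add_finrank_ker (L.domRestrict (D l))
      have h3 : Module.finrank F (LinearMap.range (L.domRestrict (D l))) ≤ 1 :=
        (Submodule.finrank_le _).trans (Module.finrank_self F).le
      rw [hdim] at h2
      obtain ⟨y, hy, hy0⟩ := Submodule.exists_mem_ne_zero_of_ne_bot
        (p := LinearMap.ker (L.domRestrict (D l))) fun e => by rw [e, finrank_bot] at h2; omega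
      exact ⟨y.1, y.2, fun e => hy0 (Subtype.ext e), hy⟩
    have hl : σ l = l := by
      by_contra hne'
      have hy' := hmap y hy
      rw [hyu, mul_zero, zero_smul, add_zero] at hy'
      exact hy0 (Submodule.disjoint_def.1 (hD.indep.pairwiseDisjoint hne') y hy' hy)
    have hx' := hmap x hx
    rw [hl] at hx'
    exact ((D l).smul_mem_iff (mul_ne_zero hθ0 hxu)).1 (((D l).add_mem_iff_right hx).1 hx')
  obtain ⟨u, -, hu0, huu⟩ := exists_isotropic_ne K (P := (⊤ : Submodule F (Fin n → F)))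
    (by rw [finrank_top, Module.finrank_fin_fun]; exact hn)
  obtain ⟨l, hul⟩ := hmem u huu hu0
  obtain ⟨w, hww, hwl⟩ := exists_iso_outside K hn (W := D l) (fun e => by
    have h1 := hdim l
    rw [e, finrank_top, Module.finrank_fin_fun] at h1
    let l' : Fin t := if (l : ℕ) = 0 then ⟨1, by omega⟩ else ⟨0, by omega⟩
    have hne : l ≠ l' := fun e' => by
      have := congrArg Fin.val e'
      simp only [l'] at this
      split_ifs at this with h <;> simp_all
    have hd := hD.indep.pairwiseDisjoint hne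
    simp only [Function.onFun, e, top_disjoint] at hd
    have := hdim l'
    rw [hd, finrank_bot] at this
    omega)
  have hw0 : w ≠ 0 := fun e => hwl (e ▸ zero_mem _)
  obtain ⟨l', hwl'⟩ := hmem w hww hw0
  obtain ⟨c, hc0, hc⟩ : ∃ c : F, c ≠ 0 ∧ hermForm n F q (u + c • w) (u + c • w) = 0 := by
    have hsw : hermForm n F q u w = K.bar (hermForm n F q w u) := (Classical.Herm.h_swap K w u).symm.symm
    by_cases h0 : hermForm n F q w u = 0
    · refine ⟨1, one_ne_zero, ?_⟩
      rw [one_smul, h_add_left K, h_add_right K, h_add_right K, hsw, h0, huu, hww, map_zero]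
      ring
    · refine ⟨θ / hermForm n F q w u, div_ne_zero hθ0 h0, ?_⟩
      rw [h_add_left K, h_add_right K, h_add_right K, h_smul_left K, h_smul_left K, h_smul_right K,
        h_smul_right K, hsw, huu, hww, map_div₀]
      have hb : K.bar (hermForm n F q w u) ≠ 0 := fun e => h0 (K.bar.injective (e.trans (map_zero _).symm))
      have e1 := div_mul_cancel₀ θ h0
      have e2 := div_mul_cancel₀ (K.bar θ) hb
      linear_combination e1 + e2 + hθ
  have hne : u + c • w ≠ 0 := fun e => hwl (((D l).smul_mem_iff hc0).1 (by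
    rw [eq_neg_of_add_eq_zero_right e]; exact neg_mem hul))
  obtain ⟨j, hj⟩ := hmem _ hc hne
  by_cases hjl : j = l
  · exact hwl (((D l).smul_mem_iff hc0).1 (((D l).add_mem_iff_right hul).1 (hjl ▸ hj)))
  by_cases hjl' : j = l'
  · subst hjl'
    have h1 : u ∈ D j := ((D j).add_mem_iff_left ((D j).smul_mem c hwl')).1 hj
    exact hu0 (Submodule.disjoint_def.1 (hD.indep.pairwiseDisjoint hjl) u h1 hul)
  · refine hne (Submodule.disjoint_def.1 (hD.indep j) _ hj (add_mem ?_ (Submodule.smul_mem _ c ?_)))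
    · exact Submodule.mem_iSup_of_mem l (Submodule.mem_iSup_of_mem (Ne.symm hjl) hul)
    · exact Submodule.mem_iSup_of_mem l' (Submodule.mem_iSup_of_mem (Ne.symm hjl') hwl')

include K in
/-- `SU(n, q)` normalises no field of matrices. -/
theorem not_le_normalizer (hn : 3 ≤ n) {r : ℕ} (hr : 2 ≤ r) {A : Subalgebra F (Matrix (Fin n) (Fin n) F)}
    (hA : Cfsg.Geo.IsFieldSubalgebra r A) : ¬ SUGL n F q ≤ subalgebraNormalizer A := by
  classical
  intro hle
  obtain ⟨θ, hθ0, hθ⟩ := exists_skew K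
  obtain ⟨u, -, hu0, hu⟩ := exists_isotropic_ne K (P := (⊤ : Submodule F (Fin n → F)))
    (by rw [finrank_top, Module.finrank_fin_fun]; omega)
  obtain ⟨t, φ, ht, hφ, hti, htv⟩ := exists_utv K hu hθ
  obtain ⟨x₀, hx₀⟩ := h_ne K hu0
  set w : Fin n → F := (θ * hermForm n F q x₀ u)⁻¹ • x₀
  have hw : φ ⬝ᵥ w = 1 := by
    rw [dotProduct_smul, hφ, smul_eq_mul, inv_mul_cancel₀ (mul_ne_zero hθ0 hx₀)]
  have key : ∀ k ∈ A, ∃ c : F, k = c • 1 := by
    intro k hk
    have hX : t.val * k * t⁻¹.val - k ∈ A := sub_mem ((hle ht k).1 hk) hk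
    set X := t.val * k * t⁻¹.val - k
    have himg : ∀ v, X *ᵥ v ∈ Submodule.span F ({u, k *ᵥ u} : Set (Fin n → F)) := by
      intro v
      simp only [X, htv, hti, Matrix.sub_mulVec, ← mulVec_mulVec, Matrix.add_mulVec, one_mulVec, vecMulVec_mulVec,
        op_smul_eq_smul, mulVec_sub, mulVec_smul]
      refine (Submodule.mem_span_pair).2 ?_
      exact ⟨φ ⬝ᵥ (k *ᵥ v) - (φ ⬝ᵥ (k *ᵥ u)) * (φ ⬝ᵥ v), -(φ ⬝ᵥ v), by
        module⟩
    have hX0 : X = 0 := by
      by_contra h0
      obtain ⟨Y, -, hY⟩ := hA.inv X hX h0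
      have htop : Submodule.span F ({u, k *ᵥ u} : Set (Fin n → F)) = ⊤ := eq_top_iff.2 fun v _ => by
        have := himg (Y *ᵥ v)
        rwa [mulVec_mulVec, hY, one_mulVec] at this
      have h2 := finrank_span_le_card (R := F) ({u, k *ᵥ u} : Set (Fin n → F))
      rw [htop, finrank_top, Module.finrank_fin_fun] at h2
      have : ({u, k *ᵥ u} : Set (Fin n → F)).toFinset.card ≤ 2 := by
        rw [Set.toFinset_insert, Set.toFinset_singleton]; exact Finset.card_le_two
      omega
    have hcomm : t.val * k = k * t.val := by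
      have e : t.val * k * t⁻¹.val = k := sub_eq_zero.1 hX0
      conv_rhs => rw [← e]
      rw [mul_assoc, Units.inv_mul, mul_one]
    have hv := congrArg (fun A : Matrix (Fin n) (Fin n) F => A *ᵥ w) hcomm
    simp only [← mulVec_mulVec, transvection_mulVec htv, mulVec_add, mulVec_smul] at hv
    rw [hw, one_smul, add_right_inj] at hv
    refine ⟨φ ⬝ᵥ (k *ᵥ w), sub_eq_zero.1 ?_⟩
    by_contra h0
    obtain ⟨Y, hYA, hY⟩ := hA.inv _ (sub_mem hk (A.smul_mem A.one_mem _)) h0
    apply hu0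
    rw [← one_mulVec u, ← hY, ← hA.comm Y hYA _ (sub_mem hk (A.smul_mem A.one_mem _)), ← mulVec_mulVec,
      sub_mulVec, smul_mulVec, one_mulVec, hv, sub_self, mulVec_zero]
  have h1 : A = ⊥ := by
    refine eq_bot_iff.2 fun k hk => ?_
    obtain ⟨c, rfl⟩ := key k hk
    exact Algebra.mem_bot.2 ⟨c, Algebra.algebraMap_eq_smul_one c⟩
  haveI : Nonempty (Fin n) := ⟨⟨0, by omega⟩⟩
  have := hA.finrank_eq
  rw [h1, Subalgebra.finrank_bot] at this
  omega

theorem tcoord_transvection {ι : Type} [Fintype ι] [DecidableEq ι] (e : Fin n ≃ ι) (P : GL (Fin n) F)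
    {g : GL (Fin n) F} {u φ : Fin n → F} (hg : g.val = 1 + vecMulVec u φ) :
    tcoord e P g.val = 1 + vecMulVec (((↑P⁻¹ : Matrix (Fin n) (Fin n) F) *ᵥ u) ∘ e.symm)
      ((φ ᵥ* (P : Matrix (Fin n) (Fin n) F)) ∘ e.symm) := by
  rw [tcoord, show g.val = _ from hg, mul_add, add_mul, mul_one, Units.inv_mul, mul_vecMulVec, vecMulVec_mul]
  ext i j
  simp [Matrix.one_apply, vecMulVec_apply]

/-- A transvection is no tensor product. -/
theorem kron_ne_transvection {n₁ n₂ : ℕ} (h1 : 2 ≤ n₁) (h2 : 2 ≤ n₂) (A : Matrix (Fin n₁) (Fin n₁) F)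
    {B : Matrix (Fin n₂) (Fin n₂) F} (hB : IsUnit B) {u φ : Fin n₁ × Fin n₂ → F} (hu : u ≠ 0) (hφ : φ ≠ 0) :
    A ⊗ₖ B ≠ 1 + vecMulVec u φ := by
  classical
  intro h
  have hval : ∀ i j b d, A i j * B b d = (if i = j ∧ b = d then 1 else 0) + u (i, b) * φ (j, d) := by
    intro i j b d
    have := congrFun (congrFun h (i, b)) (j, d)
    simpa [Matrix.one_apply, vecMulVec_apply] using this
  have hker : ∀ j, ∃ x : Fin n₂ → F, x ≠ 0 ∧ ∑ d, φ (j, d) * x d = 0 := by
    intro j
    let L : (Fin n₂ → F) →ₗ[F] F :=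
      { toFun := fun x => ∑ d, φ (j, d) * x d
        map_add' := fun x y => by simp [mul_add, Finset.sum_add_distrib]
        map_smul' := fun c x => by simp [Finset.mul_sum, mul_left_comm] }
    have h' := LinearMap.finrank_range_add_finrank_ker L
    have h'' : Module.finrank F (LinearMap.range L) ≤ 1 := (Submodule.finrank_le _).trans (Module.finrank_self F).le
    rw [Module.finrank_fin_fun] at h'
    obtain ⟨x, hx, hx0⟩ := Submodule.exists_mem_ne_zero_of_ne_bot (p := LinearMap.ker L)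
      fun e => by rw [e, finrank_bot] at h'; omega
    exact ⟨x, hx0, hx⟩
  have hBinj : Function.Injective B.mulVec := Matrix.mulVec_injective_iff_isUnit.2 hB
  have hblock : ∀ i j, ∀ x : Fin n₂ → F, ∑ d, φ (j, d) * x d = 0 →
      A i j • (B *ᵥ x) = if i = j then x else 0 := by
    intro i j x hx
    funext b
    simp only [Pi.smul_apply, smul_eq_mul, mulVec, dotProduct, Finset.mul_sum, ← mul_assoc, hval, add_mul,
      Finset.sum_add_distrib]
    rw [show ∑ d, u (i, b) * φ (j, d) * x d = 0 by simp only [mul_assoc, ← Finset.mul_sum, hx, mul_zero], add_zero]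
    by_cases hij : i = j <;> simp [hij]
  have hoff : ∀ i j, i ≠ j → A i j = 0 := by
    intro i j hij
    obtain ⟨x, hx0, hx⟩ := hker j
    have h' := hblock i j x hx
    rw [if_neg hij] at h'
    refine (smul_eq_zero.1 h').resolve_right fun e => hx0 (hBinj ?_)
    rw [e, mulVec_zero]
  obtain ⟨⟨i0, b0⟩, hu0⟩ := Function.ne_iff.1 hu
  obtain ⟨⟨j0, d0⟩, hφ0⟩ := Function.ne_iff.1 hφ
  rw [Pi.zero_apply] at hu0 hφ0
  have hout : ∀ i j b d, i ≠ j → u (i, b) * φ (j, d) = 0 := fun i j b d hij => by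
    have h' := hval i j b d
    rw [hoff i j hij, zero_mul, if_neg (fun e => hij e.1), zero_add] at h'
    exact h'.symm
  obtain rfl : j0 = i0 := by
    by_contra hne
    exact mul_ne_zero hu0 hφ0 (hout i0 j0 b0 d0 (Ne.symm hne))
  obtain ⟨i, hi⟩ : ∃ i : Fin n₁, i ≠ j0 := by
    by_cases h0 : (j0 : ℕ) = 0
    · exact ⟨⟨1, by omega⟩, fun e => by rw [← e] at h0; simp at h0⟩
    · exact ⟨⟨0, by omega⟩, fun e => h0 (by rw [← e])⟩
  have hφi : ∀ d, φ (i, d) = 0 := fun d =>
    (mul_eq_zero.1 (hout j0 i b0 d (Ne.symm hi))).resolve_left hu0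
  have hAB : ∀ b d, A i i * B b d = if b = d then 1 else 0 := fun b d => by
    rw [hval, hφi, mul_zero, add_zero]; simp
  obtain ⟨x, hx0, hx⟩ := hker j0
  have h' := hblock j0 j0 x hx
  rw [if_pos rfl] at h'
  have hBx : A i i • (B *ᵥ x) = x := by
    funext b
    simp only [Pi.smul_apply, smul_eq_mul, mulVec, dotProduct, Finset.mul_sum, ← mul_assoc, hAB]
    simp
  have hA : A j0 j0 = A i i := by
    refine smul_left_injective F (fun e => hx0 (hBinj ?_) : B *ᵥ x ≠ 0) (h'.trans hBx.symm)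
    rw [e, mulVec_zero]
  have h0 := hval j0 j0 b0 d0
  rw [hA, hAB] at h0
  exact mul_ne_zero hu0 hφ0 (by simpa using h0.symm)

include K in
theorem exists_coord_transvection {ι : Type} [Fintype ι] [DecidableEq ι] (hn : 2 ≤ n) (e : Fin n ≃ ι)
    (P : GL (Fin n) F) : ∃ g ∈ SUGL n F q, ∃ u φ : ι → F, u ≠ 0 ∧ φ ≠ 0 ∧
      tcoord e P g.val = 1 + vecMulVec u φ := by
  obtain ⟨θ, hθ0, hθ⟩ := exists_skew K
  obtain ⟨u, -, hu0, hu⟩ := exists_isotropic_ne K (P := (⊤ : Submodule F (Fin n → F)))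
    (by rw [finrank_top, Module.finrank_fin_fun]; omega)
  obtain ⟨g, φ, hg, hφ, -, hgv⟩ := exists_utv K hu hθ
  refine ⟨g, hg, _, _, fun e0 => ?_, fun e0 => ?_, tcoord_transvection e P hgv⟩
  · refine hu0 ?_
    rw [← mulVec_inv_cancel P u, show (↑P⁻¹ : Matrix (Fin n) (Fin n) F) *ᵥ u = 0 from
      funext fun i => by simpa using congrFun e0 (e i), mulVec_zero]
  · obtain ⟨x, hx⟩ := h_ne K hu0
    have h0 : φ ᵥ* (P : Matrix (Fin n) (Fin n) F) = 0 := funext fun i => by simpa using congrFun e0 (e i)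
    have h1 := hφ x
    rw [← mulVec_inv_cancel P x, dotProduct_mulVec, h0, zero_dotProduct, mulVec_inv_cancel] at h1
    exact mul_ne_zero hθ0 hx h1.symm

include K in
/-- `SU(n, q)` preserves no tensor decomposition. -/
theorem not_le_tensor {n₁ n₂ : ℕ} (h1 : 2 ≤ n₁) (h2 : 2 ≤ n₂) (e : Fin n ≃ Fin n₁ × Fin n₂) (P : GL (Fin n) F) :
    ¬ SUGL n F q ≤ tensorProductSubgroup n₁ n₂ e P := by
  intro hle
  have hn : 2 ≤ n := by
    have := Fintype.card_congr e
    simp at this
    nlinarith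
  obtain ⟨g, hg, u, φ, hu, hφ, hgv⟩ := exists_coord_transvection K hn e P
  obtain ⟨_, ⟨w, ⟨A, B, hw⟩, rfl⟩, hgw⟩ := hle hg
  refine kron_ne_transvection h1 h2 A.val B.isUnit hu hφ ?_
  rw [← hw, ← hgv, ← hgw]
  ext x y
  simp [tcoord, glReindex, mul_assoc]

/-- A transvection moves some pure tensor to a vector that is not pure. -/
theorem transvection_not_pure {k t : ℕ} (hk : 3 ≤ k) (ht : 2 ≤ t) {u φ : (Fin t → Fin k) → F} (hu : u ≠ 0)
    (hφ : φ ≠ 0) : ∃ v ∈ pureVecs F k t, v + (φ ⬝ᵥ v) • u ∉ pureVecs F k t := by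
  classical
  by_contra hc
  push Not at hc
  let i0 : Fin t := ⟨0, by omega⟩
  let i1 : Fin t := ⟨1, by omega⟩
  have hi : i1 ≠ i0 := by simp [i0, i1]
  let rest : (Fin t → Fin k → F) → (Fin t → Fin k) → F :=
    fun us x => ∏ i ∈ Finset.univ.erase i0, us i (x i)
  have hP : ∀ us x, ∏ i, us i (x i) = us i0 (x i0) * rest us x := fun us x =>
    (Finset.mul_prod_erase Finset.univ (fun i => us i (x i)) (Finset.mem_univ i0)).symm
  have hrest : ∀ us x a, rest us (Function.update x i0 a) = rest us x := fun us x a =>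
    Finset.prod_congr rfl fun i hi' => by rw [Function.update_of_ne (Finset.ne_of_mem_erase hi')]
  let pv : (Fin t → Fin k → F) → (Fin k → F) → (Fin t → Fin k) → F := fun us a x => a (x i0) * rest us x
  have hpv : ∀ us a, pv us a ∈ pureVecs F k t := fun us a => by
    refine ⟨Function.update us i0 a, fun x => ?_⟩
    rw [hP, Function.update_self]
    exact congrArg (a (x i0) * ·) (Finset.prod_congr rfl fun i hi' => by
      rw [Function.update_of_ne (Finset.ne_of_mem_erase hi')])
  have step : ∀ us a₁, φ ⬝ᵥ pv us a₁ ≠ 0 → ∃ w : Fin k → F, ∀ x, u x = w (x i0) * rest us x := by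
    intro us a₁ ha₁
    let col : (Fin t → Fin k) → Fin k → F := fun x a => u (Function.update x i0 a)
    let U : Submodule F (Fin k → F) := Submodule.span F (Set.range col)
    have hU : U ≠ ⊤ := by
      obtain ⟨us', hus'⟩ := hc _ (hpv us a₁)
      have hle : U ≤ Submodule.span F ({a₁, us' i0} : Set (Fin k → F)) := by
        refine Submodule.span_le.2 ?_
        rintro _ ⟨x, rfl⟩
        refine Submodule.mem_span_pair.2
          ⟨-(rest us x) / (φ ⬝ᵥ pv us a₁), rest us' x / (φ ⬝ᵥ pv us a₁), funext fun a => ?_⟩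
        have h := hus' (Function.update x i0 a)
        simp only [Pi.add_apply, Pi.smul_apply, smul_eq_mul, hP, pv, hrest, Function.update_self] at h
        simp only [Pi.add_apply, Pi.smul_apply, smul_eq_mul, col]
        field_simp
        linear_combination -h
      intro e
      rw [e, top_le_iff] at hle
      have h2 := finrank_span_le_card (R := F) ({a₁, us' i0} : Set (Fin k → F))
      rw [hle, finrank_top, Module.finrank_fin_fun] at h2
      have : ({a₁, us' i0} : Set (Fin k → F)).toFinset.card ≤ 2 := by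
        rw [Set.toFinset_insert, Set.toFinset_singleton]; exact Finset.card_le_two
      omega
    have hadd : ∀ a b, φ ⬝ᵥ pv us (a + b) = φ ⬝ᵥ pv us a + φ ⬝ᵥ pv us b := fun a b => by
      rw [← dotProduct_add]
      exact congrArg (φ ⬝ᵥ ·) (funext fun x => add_mul _ _ _)
    obtain ⟨a, haU, ha⟩ : ∃ a, a ∉ U ∧ φ ⬝ᵥ pv us a ≠ 0 := by
      obtain ⟨a₀, ha₀⟩ : ∃ a₀, a₀ ∉ U := by
        by_contra h
        push Not at h
        exact hU (eq_top_iff.2 fun v _ => h v)
      by_cases h1 : a₁ ∈ U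
      · by_cases h0 : φ ⬝ᵥ pv us a₀ = 0
        · exact ⟨a₀ + a₁, fun h => ha₀ ((U.add_mem_iff_left h1).1 h), by rwa [hadd, h0, zero_add]⟩
        · exact ⟨a₀, ha₀, h0⟩
      · exact ⟨a₁, h1, ha₁⟩
    obtain ⟨us', hus'⟩ := hc _ (hpv us a)
    set c := φ ⬝ᵥ pv us a
    have hcol : ∀ x b, c * col x b = us' i0 b * rest us' x - a b * rest us x := fun x b => by
      have h := hus' (Function.update x i0 b)
      simp only [Pi.add_apply, Pi.smul_apply, smul_eq_mul, hP, pv, hrest, Function.update_self] at h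
      linear_combination h
    have hdep : ∀ x y, rest us' x * rest us y = rest us' y * rest us x := by
      intro x y
      by_contra hne
      refine haU ?_
      have hne' : rest us' x * rest us y - rest us' y * rest us x ≠ 0 := sub_ne_zero.2 hne
      have : a = (c * rest us' y / (rest us' x * rest us y - rest us' y * rest us x)) • col x -
          (c * rest us' x / (rest us' x * rest us y - rest us' y * rest us x)) • col y := by
        funext b
        simp only [Pi.sub_apply, Pi.smul_apply, smul_eq_mul]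
        field_simp
        linear_combination (-rest us' y) * hcol x b + rest us' x * hcol y b
      rw [this]
      exact sub_mem (U.smul_mem _ (Submodule.subset_span ⟨x, rfl⟩)) (U.smul_mem _ (Submodule.subset_span ⟨y, rfl⟩))
    obtain ⟨y, hy⟩ : ∃ y, rest us y ≠ 0 := by
      by_contra h
      push Not at h
      refine ha ?_
      show φ ⬝ᵥ pv us a = 0
      rw [show pv us a = 0 from funext fun x => by simp [pv, h x], dotProduct_zero]
    refine ⟨fun b => (us' i0 b * (rest us' y / rest us y) - a b) / c, fun x => ?_⟩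
    have h := hcol x (x i0)
    simp only [col, Function.update_eq_self] at h
    field_simp
    linear_combination (rest us y) * h + us' i0 (x i0) * hdep x y
  obtain ⟨xs, hxs⟩ := Function.ne_iff.1 hφ
  let single : (Fin t → Fin k) → Fin t → Fin k → F := fun z i => Pi.single (z i) 1
  have hsingle : ∀ z, pv (single z) (Pi.single (z i0) 1) = Pi.single z 1 := by
    intro z
    funext x
    show (Pi.single (z i0) (1 : F) : Fin k → F) (x i0) * rest (single z) x = _
    rw [show (Pi.single (z i0) (1 : F) : Fin k → F) (x i0) = single z i0 (x i0) from rfl, ← hP]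
    by_cases h : x = z
    · subst h; simp [single]
    · obtain ⟨i, hi'⟩ := Function.ne_iff.1 h
      rw [Pi.single_eq_of_ne h]
      exact Finset.prod_eq_zero (Finset.mem_univ i) (by simp [single, hi'])
  have hsupp : ∀ z, φ z ≠ 0 → ∀ x, u x ≠ 0 → x i1 = z i1 := by
    intro z hz x hx
    obtain ⟨w, hw⟩ := step (single z) (Pi.single (z i0) 1) (by rwa [hsingle, dotProduct_single, mul_one])
    by_contra hne
    refine hx ?_
    rw [hw, show rest (single z) x = 0 from Finset.prod_eq_zero (Finset.mem_erase.2 ⟨hi, Finset.mem_univ _⟩)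
      (by simp [single, hne]), mul_zero]
  obtain ⟨x₀, hx₀⟩ := Function.ne_iff.1 hu
  rw [Pi.zero_apply] at hx₀ hxs
  obtain ⟨d, hd⟩ : ∃ d : Fin k, d ≠ xs i1 := by
    by_cases h0 : (xs i1 : ℕ) = 0
    · exact ⟨⟨1, by omega⟩, fun e => by rw [← e] at h0; simp at h0⟩
    · exact ⟨⟨0, by omega⟩, fun e => h0 (by rw [← e])⟩
  set xd := Function.update xs i1 d
  by_cases hφd : φ xd ≠ 0
  · have h1 := hsupp xd hφd x₀ hx₀
    rw [hsupp xs hxs x₀ hx₀] at h1
    simp [xd] at h1
    exact hd h1.symm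
  push Not at hφd
  let us : Fin t → Fin k → F := Function.update (single xs) i1 (Pi.single (xs i1) 1 + Pi.single d 1)
  have hus : pv us (Pi.single (xs i0) 1) = Pi.single xs 1 + Pi.single xd 1 := by
    rw [← hsingle xs, ← hsingle xd, show xd i0 = xs i0 by simp [xd, Function.update_of_ne hi.symm]]
    funext x
    simp only [Pi.add_apply, pv, ← mul_add]
    congr 1
    simp only [rest]
    rw [← Finset.mul_prod_erase (Finset.univ.erase i0) _ (Finset.mem_erase.2 ⟨hi, Finset.mem_univ i1⟩),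
      ← Finset.mul_prod_erase (Finset.univ.erase i0) (fun i => single xs i (x i))
        (Finset.mem_erase.2 ⟨hi, Finset.mem_univ i1⟩),
      ← Finset.mul_prod_erase (Finset.univ.erase i0) (fun i => single xd i (x i))
        (Finset.mem_erase.2 ⟨hi, Finset.mem_univ i1⟩)]
    have e : ∀ i ∈ (Finset.univ.erase i0).erase i1, us i (x i) = single xs i (x i) ∧
        single xd i (x i) = single xs i (x i) := fun i hi' => by
      simp [us, single, xd, Function.update_of_ne (Finset.ne_of_mem_erase hi')]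
    rw [Finset.prod_congr rfl (fun i hi' => (e i hi').1), Finset.prod_congr rfl (fun i hi' => (e i hi').2)]
    simp [us, single, xd, add_mul]
  obtain ⟨w, hw⟩ := step us _ (by
    rw [hus, dotProduct_add, dotProduct_single, dotProduct_single, mul_one, mul_one, hφd, add_zero]; exact hxs)
  have h1 : x₀ i1 = xs i1 := hsupp xs hxs x₀ hx₀
  have h2 : u (Function.update x₀ i1 d) = u x₀ := by
    rw [hw, hw, Function.update_of_ne hi.symm]
    congr 1
    refine Finset.prod_congr rfl fun i _ => ?_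
    by_cases hii : i = i1
    · subst hii; simp [us, h1, hd, hd.symm]
    · rw [Function.update_of_ne hii]
  have h3 := hsupp xs hxs (Function.update x₀ i1 d) (h2.symm ▸ hx₀)
  simp at h3
  exact hd h3

include K in
/-- `SU(n, q)` preserves no tensor power decomposition. -/
theorem not_le_wreath {k t : ℕ} (hn : 2 ≤ n) (hk : 3 ≤ k) (ht : 2 ≤ t) (e : Fin n ≃ (Fin t → Fin k))
    (P : GL (Fin n) F) : ¬ SUGL n F q ≤ tensorWreathSubgroup k t e P := by
  classical
  intro hle
  obtain ⟨g, hg, u, φ, hu, hφ, hgv⟩ := exists_coord_transvection K hn e P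
  obtain ⟨_, ⟨w, hw, rfl⟩, hgw⟩ := hle hg
  have hwv : (w : Matrix (Fin t → Fin k) (Fin t → Fin k) F) = 1 + vecMulVec u φ := by
    rw [← hgv, ← hgw]
    ext x y
    simp [tcoord, glReindex, mul_assoc]
  obtain ⟨v, hv, hnot⟩ := transvection_not_pure hk ht hu hφ
  refine hnot ?_
  have := wreathStandard_pure hw v hv
  rwa [hwv, add_mulVec, one_mulVec, vecMulVec_mulVec, op_smul_eq_smul] at this

theorem transvection_pow {T : GL (Fin n) F} {D : (Fin n → F) → Fin n → F}
    (hT : ∀ x, (T : Matrix (Fin n) (Fin n) F) *ᵥ x = x + D x) (hD : ∀ x, D (x + D x) = D x) (j : ℕ)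
    (x : Fin n → F) : ((T ^ j : GL (Fin n) F) : Matrix (Fin n) (Fin n) F) *ᵥ x = x + (j : F) • D x := by
  induction j generalizing x with
  | zero => simp
  | succ j ih =>
    rw [pow_succ, Units.val_mul, ← mulVec_mulVec, hT, ih, hD, Nat.cast_succ, add_smul, one_smul]
    abel

include K in
/-- `SU(n, q)` normalises no group of symplectic type. -/
theorem not_le_heis (hn : 4 ≤ n) {p z : ℕ} [CharP F p] (hcop : Nat.Coprime z p)
    {R : Subgroup (GL (Fin n) F)} (hexp : ∀ g ∈ R, g ^ z = 1)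
    (habs : ActsAbsolutelyIrreducibly (matrixSet R)) (hns : ¬ R ≤ scalars (Fin n) F)
    (hcomm : ∀ a ∈ R, ∀ b ∈ R, ∃ u : Fˣ, a * b = sc u * (b * a))
    (hsim : R ≤ Cfsg.Geo.similarityGroup (hermForm n F q)) : ¬ SUGL n F q ≤ subgroupNormalizer R := by
  classical
  intro hle
  haveI : Nonempty (Fin n) := ⟨⟨0, by omega⟩⟩
  obtain ⟨θ, hθ0, hθ⟩ := exists_skew K
  have hnorm : ∀ g ∈ SUGL n F q, ∀ r ∈ R, g * r * g⁻¹ ∈ R := fun g hg r hr =>
    ((Subgroup.mem_normalizer_iff.1 (hle hg)) r).1 hr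
  obtain ⟨r₀, hr₀, u, hu, hu0, hru⟩ : ∃ r₀ ∈ R, ∃ u, hermForm n F q u u = 0 ∧ u ≠ 0 ∧
      ∀ s : F, (r₀ : Matrix (Fin n) (Fin n) F) *ᵥ u ≠ s • u := by
    by_contra hc
    push Not at hc
    refine hns fun r hr => ?_
    obtain ⟨d, hd, hrel⟩ := eigen_isotropic K (by omega) (τ := RingEquiv.refl F)
      (Θ := fun x => (r : Matrix (Fin n) (Fin n) F) *ᵥ x) (fun x y => mulVec_add _ _ _)
      (fun c x => mulVec_smul _ _ _) fun u hu => by
        by_cases hu0 : u = 0
        · exact ⟨0, by rw [hu0]; simp⟩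
        exact hc r hr u hu hu0
    obtain ⟨w, hw⟩ := K.exists_norm (-1) (by rw [map_neg, map_one])
    have hw0 : w ≠ 0 := fun e => by simp [e] at hw
    set i₀ : Fin n := ⟨0, by omega⟩
    have hall : ∀ i, d i = d i₀ := fun i => by
      by_cases hi : i = i₀
      · rw [hi]
      · exact mul_left_cancel₀ hw0 (hrel i i₀ hi w hw)
    have hm : (r : Matrix (Fin n) (Fin n) F) = d i₀ • 1 := Matrix.ext_of_mulVec_single fun i => by
      rw [hd, hall, smul_mulVec, one_mulVec]
    exact (Cfsg.Geo.mem_scalars_iff r).2 ⟨Units.mk0 _ fun e => r.ne_zero (by rw [hm, e, zero_smul]), hm⟩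
  obtain ⟨T, φ, hT, hφ, hTi, hTv⟩ := exists_utv K hu hθ
  set y := T * r₀ * T⁻¹ * r₀⁻¹ with hy
  have hyR : y ∈ R := mul_mem (hnorm T hT r₀ hr₀) (inv_mem hr₀)
  let L : (Fin n → F) →ₗ[F] F × F :=
    { toFun := fun v => (hermForm n F q v u,
        hermForm n F q ((↑r₀⁻¹ : Matrix (Fin n) (Fin n) F) *ᵥ v) u)
      map_add' := fun x y => by simp [mulVec_add, h_add_left K]
      map_smul' := fun c x => by simp [mulVec_smul, h_smul_left K] }
  set W := LinearMap.ker L with hW
  have hWdim : 2 ≤ Module.finrank F W := by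
    have h := LinearMap.finrank_range_add_finrank_ker L
    have h2 := Submodule.finrank_le (LinearMap.range L)
    rw [Module.finrank_prod, Module.finrank_self] at h2
    rw [Module.finrank_fin_fun] at h
    rw [hW]
    omega
  have hTfix : ∀ x, hermForm n F q x u = 0 → (↑T⁻¹ : Matrix (Fin n) (Fin n) F) *ᵥ x = x ∧
      (T : Matrix (Fin n) (Fin n) F) *ᵥ x = x := fun x hx => by
    constructor
    · rw [show (↑T⁻¹ : Matrix (Fin n) (Fin n) F) = _ from hTi, sub_mulVec, one_mulVec, vecMulVec_mulVec,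
        op_smul_eq_smul, hφ, hx, mul_zero, zero_smul, sub_zero]
    · rw [transvection_mulVec hTv, hφ, hx, mul_zero, zero_smul, add_zero]
  have hfix : ∀ x ∈ W, (y : Matrix (Fin n) (Fin n) F) *ᵥ x = x := fun x hx => by
    obtain ⟨h1, h2⟩ : hermForm n F q x u = 0 ∧ hermForm n F q ((↑r₀⁻¹ : Matrix (Fin n) (Fin n) F) *ᵥ x) u = 0 :=
      Prod.mk.inj (LinearMap.mem_ker.1 hx)
    rw [hy, Units.val_mul, Units.val_mul, Units.val_mul, ← mulVec_mulVec, ← mulVec_mulVec, ← mulVec_mulVec,
      (hTfix _ h2).1, mulVec_inv_cancel, (hTfix _ h1).2]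
  have hyiso : ∀ a b, hermForm n F q ((y : Matrix (Fin n) (Fin n) F) *ᵥ a) ((y : Matrix (Fin n) (Fin n) F) *ᵥ b) =
      hermForm n F q a b := fun a b => by
    obtain ⟨c, hc⟩ := hsim hr₀
    simp only [hy, Units.val_mul, ← mulVec_mulVec]
    refine (hT.1 _ _).trans ?_
    rw [hc]
    refine (congrArg ((c : F) * ·) ((inv_mem hT).1 _ _)).trans ?_
    rw [← hc, mulVec_inv_cancel, mulVec_inv_cancel]
  -- a partner moving the fixed space to another eigenspace
  obtain ⟨z', hz', μ, hzy, hμ⟩ : ∃ z' ∈ R, ∃ μ : Fˣ, y * z' = sc μ * (z' * y) ∧ μ ≠ 1 := by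
    by_contra hc
    push Not at hc
    have hys : y ∈ scalars (Fin n) F := scalar_of_comm habs fun a ha => by
      obtain ⟨μ, hμ⟩ := hcomm y hyR a ha
      rw [hμ, hc a ha μ hμ, show (sc 1 : GL (Fin n) F) = 1 from map_one _, one_mul]
    obtain ⟨s, hs⟩ := eq_sc_of_mem_scalars hys
    obtain ⟨x, hx, hx0⟩ := Submodule.exists_mem_ne_zero_of_ne_bot (p := W) fun e => by
      rw [e, finrank_bot] at hWdim; omega
    have h1 := hfix x hx
    rw [hs, sc_mulVec] at h1
    have hs1 : s = 1 := Units.ext (sub_eq_zero.1 ((smul_eq_zero.1 (show ((s : F) - 1) • x = 0 by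
      rw [sub_smul, one_smul, h1, sub_self])).resolve_right hx0))
    rw [hs1, show (sc 1 : GL (Fin n) F) = 1 from map_one _, hy, mul_inv_eq_one, mul_inv_eq_iff_eq_mul] at hs
    obtain ⟨x₁, hx₁⟩ := h_ne K hu0
    have h4 := congrArg (fun g : GL (Fin n) F => (g : Matrix (Fin n) (Fin n) F) *ᵥ x₁) hs.symm
    simp only [Units.val_mul, ← mulVec_mulVec, transvection_mulVec hTv, mulVec_add, mulVec_smul,
      add_right_inj, hφ] at h4
    have h5 := congrArg (fun v => (θ * hermForm n F q x₁ u)⁻¹ • v) h4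
    simp only [smul_smul, inv_mul_cancel₀ (mul_ne_zero hθ0 hx₁), one_smul] at h5
    exact hru _ h5
  have hμ' : (μ : F) ≠ 1 := fun e => hμ (Units.ext e)
  obtain ⟨a, ha, ha0, haa⟩ := exists_isotropic_ne K (P := W) hWdim
  obtain ⟨b, hb, hb0, hbb⟩ := exists_isotropic_ne K
    (P := W.map (Matrix.toLin' (z' : Matrix (Fin n) (Fin n) F))) (hWdim.trans_eq
      (Submodule.equivMapOfInjective _ (PrimeDim.mulVec_injective z') W).finrank_eq)
  have hya : (y : Matrix (Fin n) (Fin n) F) *ᵥ a = a := hfix a ha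
  have hyb : (y : Matrix (Fin n) (Fin n) F) *ᵥ b = (μ : F) • b := by
    obtain ⟨x, hx, rfl⟩ := hb
    rw [Matrix.toLin'_apply, mulVec_mulVec, ← Units.val_mul, hzy, Units.val_mul, ← mulVec_mulVec, sc_mulVec,
      Units.val_mul, ← mulVec_mulVec, hfix x hx]
  have hab : hermForm n F q a b = 0 := by
    have h1 := hyiso a b
    rw [hya, hyb, h_smul_right K] at h1
    refine (mul_eq_zero.1 (show (K.bar (μ : F) - 1) * hermForm n F q a b = 0 by
      linear_combination h1)).resolve_left (sub_ne_zero.2 fun e => hμ' (K.bar.injective (e.trans (map_one _).symm)))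
  have hba := h_eq_zero_symm K hab
  set u₂ := a + b with hu₂
  set u₃ := (y : Matrix (Fin n) (Fin n) F) *ᵥ u₂ with hu₃
  have hu₃' : u₃ = a + (μ : F) • b := by rw [hu₃, hu₂, mulVec_add, hya, hyb]
  have hu22 : hermForm n F q u₂ u₂ = 0 := by simp [hu₂, h_add_left K, h_add_right K, haa, hbb, hab, hba]
  have hu23 : hermForm n F q u₂ u₃ = 0 := by
    simp [hu₃', hu₂, h_add_left K, h_add_right K, h_smul_right K, haa, hbb, hab, hba]
  have hu32 := h_eq_zero_symm K hu23
  have hu33 : hermForm n F q u₃ u₃ = 0 := by rw [hu₃, hyiso, hu22]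
  obtain ⟨T₂, φ₂, hT₂, hφ₂, hT₂i, hT₂v⟩ := exists_utv K hu22 hθ
  set s := T₂ * (y * T₂⁻¹ * y⁻¹) with hs
  have hsR : s ∈ R := by
    rw [show s = T₂ * y * T₂⁻¹ * y⁻¹ by rw [hs]; simp only [mul_assoc]]
    exact mul_mem (hnorm T₂ hT₂ y hyR) (inv_mem hyR)
  let D : (Fin n → F) → Fin n → F := fun x =>
    θ • (hermForm n F q x u₂ • u₂ - hermForm n F q x u₃ • u₃)
  have hsv : ∀ x, (s : Matrix (Fin n) (Fin n) F) *ᵥ x = x + D x := by
    intro x
    have h1 : ((y * T₂⁻¹ * y⁻¹ : GL (Fin n) F) : Matrix (Fin n) (Fin n) F) *ᵥ x =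
        x - (θ * hermForm n F q x u₃) • u₃ := by
      have h2 : hermForm n F q ((↑y⁻¹ : Matrix (Fin n) (Fin n) F) *ᵥ x) u₂ = hermForm n F q x u₃ := by
        rw [← hyiso ((↑y⁻¹ : Matrix (Fin n) (Fin n) F) *ᵥ x) u₂, mulVec_inv_cancel]
      rw [Units.val_mul, Units.val_mul, ← mulVec_mulVec, ← mulVec_mulVec,
        show (↑T₂⁻¹ : Matrix (Fin n) (Fin n) F) = _ from hT₂i, sub_mulVec, one_mulVec, vecMulVec_mulVec,
        op_smul_eq_smul, mulVec_sub, mulVec_smul, hφ₂, mulVec_inv_cancel, h2]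
    rw [hs, Units.val_mul, ← mulVec_mulVec, h1, transvection_mulVec hT₂v, hφ₂, h_sub_left K, h_smul_left K,
      hu32, mul_zero, sub_zero]
    simp only [D]
    module
  have hDD : ∀ x, D (x + D x) = D x := by
    intro x
    simp only [D, h_add_left K, h_smul_left K, h_sub_left K, hu22, hu23, hu32, hu33, mul_zero, sub_zero, add_zero]
  have hsp : s ^ p = 1 := Units.ext (Matrix.toLin'.injective (LinearMap.ext fun x => by
    rw [Matrix.toLin'_apply, Matrix.toLin'_apply, transvection_pow hsv hDD, CharP.cast_eq_zero, zero_smul, add_zero,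
      Units.val_one, one_mulVec]))
  have hs1 : s = 1 := by
    have := pow_gcd_eq_one.2 ⟨hexp s hsR, hsp⟩
    rwa [hcop.gcd_eq_one, pow_one] at this
  have hu20 : u₂ ≠ 0 := fun e => by
    have h1 : (y : Matrix (Fin n) (Fin n) F) *ᵥ u₂ = u₂ := by rw [e, mulVec_zero]
    rw [← hu₃, hu₃', hu₂, add_right_inj] at h1
    exact hμ' (smul_left_injective F hb0 (h1.trans (one_smul F b).symm))
  obtain ⟨x, hx⟩ := h_ne K hu20
  have h3 := hsv x
  rw [hs1, Units.val_one, one_mulVec, left_eq_add] at h3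
  have h4 : (hermForm n F q x u₂ - hermForm n F q x u₃) • a +
      (hermForm n F q x u₂ - hermForm n F q x u₃ * μ) • b = 0 := by
    rw [← (smul_eq_zero.1 h3).resolve_left hθ0, hu₂, hu₃']
    module
  set α := hermForm n F q x u₂ - hermForm n F q x u₃ with hα
  set β := hermForm n F q x u₂ - hermForm n F q x u₃ * μ with hβ
  have h5 : α • a + (β * μ) • b = 0 := by
    have := congrArg (fun v => (y : Matrix (Fin n) (Fin n) F) *ᵥ v) h4
    simpa only [mulVec_add, mulVec_smul, hya, hyb, smul_smul, mulVec_zero] using this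
  have hβ0 : β = 0 := by
    have h6 : (β * μ - β) • b = 0 := by
      have : (β * μ - β) • b = (α • a + (β * μ) • b) - (α • a + β • b) := by module
      rw [this, h5, h4, sub_self]
    exact (mul_eq_zero.1 (show β * ((μ : F) - 1) = 0 by
      linear_combination (smul_eq_zero.1 h6).resolve_right hb0)).resolve_right (sub_ne_zero.2 hμ')
  have hα0 : α = 0 := by
    rw [hβ0, zero_smul, add_zero] at h4
    exact (smul_eq_zero.1 h4).resolve_right ha0
  refine hx ?_
  rw [hα, sub_eq_zero] at hα0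
  rw [hβ, ← hα0] at hβ0
  exact (mul_eq_zero.1 (show hermForm n F q x u₂ * (1 - (μ : F)) = 0 by linear_combination hβ0)).resolve_right
    (sub_ne_zero.2 (Ne.symm hμ'))

end CfsgLib.Asch.UnitNotLe
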