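import Cfsg.Agent.Lib.Classical.AschUnitAlt

set_option autoImplicit false
set_option linter.unusedSectionVars false

/-!
Over few elements a pair of totally isotropic planes gives a symplectic subfield group.
-/

namespace CfsgLib.Asch

open Matrix
open Cfsg (hermForm GU)
open Cfsg.Geo (decompositionStabilizer IsMDecomposition IsTotallySingularFor)
open CfsgLib.ClassicalAut (Unitary.Conj)
open CfsgLib.Classical.Herm (h_add_left h_add_right h_smul_left h_smul_right h_zero_left h_zero_right h_eq_zero_symm)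
open scoped MatrixGroups

variable {F : Type*} [Field F] [Fintype F] {q : ℕ}

/-- The form of a pair of isotropic planes. -/
def pairJ (F : Type*) [Field F] : Matrix (Fin 4) (Fin 4) F := !![0,0,1,0; 0,0,0,1; 1,0,0,0; 0,1,0,0]

/-- The alternating form on a pair of isotropic planes. -/
def pairB (F : Type*) [Field F] : Matrix (Fin 4) (Fin 4) F := !![0,-1,0,0; 1,0,0,0; 0,0,0,1; 0,0,-1,0]

theorem pairB_pairJ : pairB F * pairJ F * pairB F = pairJ F := by
  ext i j
  simp [pairB, pairJ, Matrix.mul_apply, Fin.sum_univ_four]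
  fin_cases i <;> fin_cases j <;> simp

/-- The determinants of the two blocks agree. -/
theorem pair_det (K : Unitary.Conj F q) (hq : q ≤ 3) {x y : F} (h1 : x * K.bar y = 1) (h2 : x * y = 1) : x = y := by
  have hx : x ≠ 0 := left_ne_zero_of_mul_eq_one h2
  have hy : y ^ q = y := by
    rw [← K.bar_apply]
    exact mul_left_cancel₀ hx (h1.trans h2.symm)
  have hy0 : y ≠ 0 := right_ne_zero_of_mul_eq_one h2
  have hy2 : y * y = 1 := by
    have h3 := K.two_le
    interval_cases q
    · have : y = 1 := mul_right_cancel₀ hy0 (by linear_combination hy)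
      rw [this, mul_one]
    · exact mul_right_cancel₀ hy0 (by linear_combination hy)
  exact mul_right_cancel₀ hy0 (h2.trans hy2.symm)

/-- A block diagonal isometry is a similitude of the alternating form. -/
theorem pair_diag (K : Unitary.Conj F q) (hq : q ≤ 3) {a b c d a' b' c' d' : F} {C : Matrix (Fin 4) (Fin 4) F}
    (hC : C = !![a,b,0,0; c,d,0,0; 0,0,a',b'; 0,0,c',d']) (hdet : C.det = 1)
    (hiso : Cᵀ * pairJ F * bm K.bar C = pairJ F) : ∃ s : F, Cᵀ * pairB F * C = s • pairB F := by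
  have hd : (a * d - b * c) * (a' * d' - b' * c') = 1 := by
    rw [← hdet, hC, Matrix.det_succ_row_zero]
    simp [Fin.sum_univ_succ, Matrix.det_fin_three, Fin.succAbove]
    ring
  have h00 := congrFun (congrFun hiso 0) 2
  have h01 := congrFun (congrFun hiso 0) 3
  have h10 := congrFun (congrFun hiso 1) 2
  have h11 := congrFun (congrFun hiso 1) 3
  simp [hC, pairJ, Matrix.mul_apply, Fin.sum_univ_four, bm_apply] at h00 h01 h10 h11
  have hb : (a * d - b * c) * K.bar (a' * d' - b' * c') = 1 := by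
    rw [map_sub, map_mul, map_mul]
    linear_combination (b * K.bar b' + d * K.bar d') * h00 + h11 - (b * K.bar a' + d * K.bar c') * h01
  have he := pair_det K hq hb hd
  refine ⟨a * d - b * c, ?_⟩
  rw [hC]
  ext i j
  fin_cases i <;> fin_cases j <;>
    simp [pairB, Matrix.mul_apply, Fin.sum_univ_four] <;> first
      | linear_combination (0 : F) * he
      | linear_combination he
      | linear_combination -he

/-- A block antidiagonal isometry is a similitude of the alternating form. -/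
theorem pair_swap (K : Unitary.Conj F q) (hq : q ≤ 3) {a b c d a' b' c' d' : F} {C : Matrix (Fin 4) (Fin 4) F}
    (hC : C = !![0,0,a',b'; 0,0,c',d'; a,b,0,0; c,d,0,0]) (hdet : C.det = 1)
    (hiso : Cᵀ * pairJ F * bm K.bar C = pairJ F) : ∃ s : F, Cᵀ * pairB F * C = s • pairB F := by
  have hd : (a * d - b * c) * (a' * d' - b' * c') = 1 := by
    rw [← hdet, hC, Matrix.det_succ_row_zero]
    simp [Fin.sum_univ_succ, Matrix.det_fin_three, Fin.succAbove]
    ring
  have h00 := congrFun (congrFun hiso 0) 2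
  have h01 := congrFun (congrFun hiso 0) 3
  have h10 := congrFun (congrFun hiso 1) 2
  have h11 := congrFun (congrFun hiso 1) 3
  simp [hC, pairJ, Matrix.mul_apply, Fin.sum_univ_four, bm_apply] at h00 h01 h10 h11
  have hb : (a * d - b * c) * K.bar (a' * d' - b' * c') = 1 := by
    rw [map_sub, map_mul, map_mul]
    linear_combination (b * K.bar b' + d * K.bar d') * h00 + h11 - (b * K.bar a' + d * K.bar c') * h01
  have he := pair_det K hq hb hd
  refine ⟨-(a * d - b * c), ?_⟩
  rw [hC]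
  ext i j
  fin_cases i <;> fin_cases j <;>
    simp [pairB, Matrix.mul_apply, Fin.sum_univ_four] <;> first
      | linear_combination (0 : F) * he
      | linear_combination he
      | linear_combination -he

set_option maxHeartbeats 1000000 in
/-- The stabiliser of a pair of isotropic planes for `q ≤ 3`. -/
theorem urational_of_pair (K : Unitary.Conj F q) (hq : q ≤ 3) {D : Fin 2 → Submodule F (Fin 4 → F)}
    (hD : IsMDecomposition 2 D) (hts : ∀ i, IsTotallySingularFor (hermForm 4 F q) (D i))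
    {H : Subgroup (GL (Fin 4) F)} (hH : H ≤ PrimeDim.SUGL 4 F q) (hle : H ≤ decompositionStabilizer D) :
    URationalCase q H := by
  classical
  let b0 := Module.finBasisOfFinrankEq F (D 0) (hD.finrank_eq 0)
  let b1 := Module.finBasisOfFinrankEq F (D 1) (hD.finrank_eq 1)
  let M : Matrix (Fin 2) (Fin 2) F := fun i j => hermForm 4 F q (b0 i) (b1 j)
  have hdis : Disjoint (D 0) (D 1) := hD.indep.pairwiseDisjoint (show (0 : Fin 2) ≠ 1 by decide)
  have htop : D 0 ⊔ D 1 = ⊤ := by
    refine eq_top_iff.2 (hD.iSup_eq_top ▸ iSup_le fun i => ?_)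
    fin_cases i <;> simp
  have hspan : ∀ v ∈ D 1, ∃ w : Fin 2 → F, v = w 0 • (b1 0 : Fin 4 → F) + w 1 • (b1 1 : Fin 4 → F) := fun v hv =>
    ⟨⇑(b1.repr ⟨v, hv⟩), by
      have := congrArg Subtype.val (b1.sum_repr ⟨v, hv⟩)
      rw [Fin.sum_univ_two] at this
      exact this.symm⟩
  have hM : IsUnit M := by
    refine Matrix.mulVec_injective_iff_isUnit.1 ?_
    show Function.Injective M.mulVecLin
    rw [injective_iff_map_eq_zero]
    intro w hw
    rw [Matrix.mulVecLin_apply] at hw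
    let y : Fin 4 → F := K.bar (w 0) • (b1 0 : Fin 4 → F) + K.bar (w 1) • (b1 1 : Fin 4 → F)
    have hy : y ∈ D 1 := add_mem ((D 1).smul_mem _ (b1 0).2) ((D 1).smul_mem _ (b1 1).2)
    have hy0 : y = 0 := by
      refine Classical.Herm.h_nondeg K fun z => h_eq_zero_symm K ?_
      obtain ⟨p, hp, r, hr, rfl⟩ := Submodule.mem_sup.1 (htop ▸ Submodule.mem_top (x := z))
      rw [h_add_left K, hts 1 r hr y hy, add_zero]
      have h1 := congrArg Subtype.val (b0.sum_repr ⟨p, hp⟩)
      rw [Fin.sum_univ_two] at h1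
      change _ = p at h1
      rw [← h1]
      have e : ∀ i, hermForm 4 F q (b0 i : Fin 4 → F) y = 0 := fun i => by
        have h2 := congrFun hw i
        simp [mulVec, dotProduct, Fin.sum_univ_two, M] at h2
        simp only [y, h_add_right K, h_smul_right K, K.bar_bar]
        linear_combination h2
      simp [h_add_left K, h_smul_left K, e]
    have h3 : K.bar (w 0) • b1 0 + K.bar (w 1) • b1 1 = 0 := Subtype.ext hy0
    have h4 := Fintype.linearIndependent_iff.1 b1.linearIndependent ![K.bar (w 0), K.bar (w 1)]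
      (by simpa [Fin.sum_univ_two] using h3)
    have h5 := h4 0
    have h6 := h4 1
    simp at h5 h6
    funext i
    fin_cases i
    · exact h5
    · exact h6
  obtain ⟨N, hN⟩ := hM.exists_right_inv
  let f : Fin 2 → Fin 4 → F := fun j => K.bar (N 0 j) • (b1 0 : Fin 4 → F) + K.bar (N 1 j) • (b1 1 : Fin 4 → F)
  have hfD : ∀ j, f j ∈ D 1 := fun j => add_mem ((D 1).smul_mem _ (b1 0).2) ((D 1).smul_mem _ (b1 1).2)
  have hef : ∀ i j, hermForm 4 F q (b0 i : Fin 4 → F) (f j) = if i = j then 1 else 0 := fun i j => by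
    have h := congrFun (congrFun hN i) j
    rw [Matrix.mul_apply, Fin.sum_univ_two, Matrix.one_apply] at h
    rw [← h]
    simp only [f, h_add_right K, h_smul_right K, K.bar_bar, M]
    ring
  let vec : Fin 4 → Fin 4 → F := ![(b0 0 : Fin 4 → F), (b0 1 : Fin 4 → F), f 0, f 1]
  let Pm : Matrix (Fin 4) (Fin 4) F := fun i j => vec j i
  have hgram : Pmᵀ * bm K.bar Pm = pairJ F := by
    ext i j
    have e : (Pmᵀ * bm K.bar Pm) i j = hermForm 4 F q (vec i) (vec j) := by
      rw [ClassicalAut.Unitary.herm_apply K]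
      rfl
    rw [e]
    have hfe : ∀ i j, hermForm 4 F q (f j) (b0 i : Fin 4 → F) = if i = j then 1 else 0 := fun i j => by
      rw [Classical.Herm.h_swap K (b0 i : Fin 4 → F) (f j), hef]
      split <;> simp
    fin_cases i <;> fin_cases j <;>
      simp [vec, pairJ, hef, hfe, hts 0 _ (b0 0).2 _ (b0 0).2, hts 0 _ (b0 0).2 _ (b0 1).2,
        hts 0 _ (b0 1).2 _ (b0 0).2, hts 0 _ (b0 1).2 _ (b0 1).2, hts 1 _ (hfD 0) _ (hfD 0),
        hts 1 _ (hfD 0) _ (hfD 1), hts 1 _ (hfD 1) _ (hfD 0), hts 1 _ (hfD 1) _ (hfD 1)]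
  have hJJ : pairJ F * pairJ F = 1 := by
    ext i j
    simp [pairJ, Matrix.mul_apply, Fin.sum_univ_four]
    fin_cases i <;> fin_cases j <;> simp
  have hPu : IsUnit Pm := by
    rw [Matrix.isUnit_iff_isUnit_det]
    have h := congrArg Matrix.det hgram
    rw [Matrix.det_mul, Matrix.det_transpose] at h
    have hj : IsUnit (pairJ F).det := (Matrix.isUnit_iff_isUnit_det _).1 (IsUnit.of_mul_eq_one _ hJJ)
    rw [← h] at hj
    exact (IsUnit.mul_iff.1 hj).1
  obtain ⟨P, hP⟩ := hPu
  set Q : Matrix (Fin 4) (Fin 4) F := (↑P⁻¹ : Matrix (Fin 4) (Fin 4) F) with hQ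
  have hQP : Q * P.val = 1 := Units.inv_mul P
  have hPQ : P.val * Q = 1 := Units.mul_inv P
  have hgr : P.valᵀ * bm K.bar P.val = pairJ F := by rw [hP]; exact hgram
  have hQQ : bm K.bar Q * Qᵀ = pairJ F := by
    have h1 : (bm K.bar Q * Qᵀ) * pairJ F = 1 := by
      rw [← hgr, mul_assoc, ← mul_assoc Qᵀ, ← Matrix.transpose_mul, hPQ, Matrix.transpose_one, one_mul,
        ← map_mul, hQP, map_one]
    calc bm K.bar Q * Qᵀ = (bm K.bar Q * Qᵀ) * (pairJ F * pairJ F) := by rw [hJJ, mul_one]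
      _ = pairJ F := by rw [← mul_assoc, h1, one_mul]
  have hbB : bm K.bar (pairB F) = pairB F := by
    ext i j; fin_cases i <;> fin_cases j <;> simp [pairB, bm_apply]
  have hbJ : bm K.bar (pairJ F) = pairJ F := by
    ext i j; fin_cases i <;> fin_cases j <;> simp [pairJ, bm_apply]
  refine urational_of_alternating K (by decide) (B := Qᵀ * pairB F * Q) (fun v => ?_) ?_
    (fun g hg => iso_of_gu K (hH hg).1) fun g hg => ?_
  · rw [mul_assoc, ← mulVec_mulVec, ← mulVec_mulVec, dotProduct_mulVec, vecMul_transpose]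
    generalize Q *ᵥ v = w
    simp [pairB, mulVec, dotProduct, Fin.sum_univ_four]
    ring
  · rw [map_mul, map_mul, ← bm_transpose, hbB]
    calc (bm K.bar Q)ᵀ * pairB F * bm K.bar Q * (Qᵀ * pairB F * Q)
        = (bm K.bar Q)ᵀ * (pairB F * (bm K.bar Q * Qᵀ) * pairB F) * Q := by simp only [mul_assoc]
      _ = (bm K.bar Q)ᵀ * bm K.bar (pairJ F) * Q := by rw [hQQ, pairB_pairJ, hbJ]
      _ = (bm K.bar Q)ᵀ * ((bm K.bar P.val)ᵀ * P.val) * Q := by
          rw [← hgr, map_mul, bm_bm K.bar_bar]; simp only [bm_transpose]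
      _ = ((bm K.bar P.val * bm K.bar Q))ᵀ * (P.val * Q) := by rw [Matrix.transpose_mul]; simp only [mul_assoc]
      _ = 1 := by rw [← map_mul, hPQ, map_one, Matrix.transpose_one, one_mul]
  set C : Matrix (Fin 4) (Fin 4) F := Q * g.val * P.val with hC
  clear_value C
  have hgC : g.val * P.val = P.val * C := by rw [hC, ← mul_assoc, ← mul_assoc, hPQ, one_mul]
  have hiso : Cᵀ * pairJ F * bm K.bar C = pairJ F := by
    have h := iso_of_gu K (hH hg).1
    rw [Iso, mul_one] at h
    rw [← hgr]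
    calc Cᵀ * (P.valᵀ * bm K.bar P.val) * bm K.bar C = (P.val * C)ᵀ * bm K.bar (P.val * C) := by
          rw [Matrix.transpose_mul, map_mul]; simp only [mul_assoc]
      _ = P.valᵀ * (g.valᵀ * bm K.bar g.val) * bm K.bar P.val := by
          rw [← hgC, Matrix.transpose_mul, map_mul]; simp only [mul_assoc]
      _ = _ := by rw [h, mul_one]
  have hdet : C.det = 1 := by
    have h2 : g.val.det = 1 := congrArg Units.val (MonoidHom.mem_ker.1 (hH hg).2)
    rw [hC, Matrix.det_mul, Matrix.det_mul, h2, mul_one, ← Matrix.det_mul, hQP, Matrix.det_one]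
  have hcol : ∀ j (w : Fin 4 → F), g.val *ᵥ vec j = P.val *ᵥ w → ∀ i, C i j = w i := fun j w h i => by
    have e : P.val *ᵥ Pi.single j 1 = vec j := by rw [hP, mulVec_single_one]; rfl
    have h2 := congrArg (fun z => Q *ᵥ z) h
    simp only [mulVec_mulVec, hQP, one_mulVec] at h2
    rw [← h2, ← e, mulVec_mulVec, ← hC, mulVec_single_one]
    rfl
  have hPw : ∀ w : Fin 4 → F, P.val *ᵥ w =
      w 0 • (b0 0 : Fin 4 → F) + w 1 • (b0 1 : Fin 4 → F) + w 2 • f 0 + w 3 • f 1 := fun w => by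
    funext i
    rw [hP]
    simp [Pm, vec, mulVec, dotProduct, Fin.sum_univ_four]
    ring
  have hD0 : ∀ v ∈ D 0, ∃ a c : F, v = P.val *ᵥ ![a, c, 0, 0] := fun v hv => by
    refine ⟨b0.repr ⟨v, hv⟩ 0, b0.repr ⟨v, hv⟩ 1, ?_⟩
    have h := congrArg Subtype.val (b0.sum_repr ⟨v, hv⟩)
    rw [Fin.sum_univ_two] at h
    rw [hPw]
    simpa using h.symm
  have hD1 : ∀ v ∈ D 1, ∃ a c : F, v = P.val *ᵥ ![0, 0, a, c] := fun v hv => by
    have hz : ∀ i, hermForm 4 F q (f i) v = 0 := fun i => hts 1 _ (hfD i) _ hv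
    set w := Q *ᵥ v with hw
    have hv' : v = P.val *ᵥ w := by rw [hw, mulVec_mulVec, hPQ, one_mulVec]
    refine ⟨w 2, w 3, hv'.trans (congrArg _ ?_)⟩
    have e : v = w 0 • (b0 0 : Fin 4 → F) + w 1 • (b0 1 : Fin 4 → F) + w 2 • f 0 + w 3 • f 1 := hv'.trans (hPw w)
    have hfe : ∀ i j, hermForm 4 F q (f j) (b0 i : Fin 4 → F) = if i = j then 1 else 0 := fun i j => by
      rw [Classical.Herm.h_swap K (b0 i : Fin 4 → F) (f j), hef]
      split <;> simp
    have h0 := hz 0
    have h1 := hz 1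
    rw [e] at h0 h1
    simp [h_add_right K, h_smul_right K, hfe, hts 1 _ (hfD 0) _ (hfD 0), hts 1 _ (hfD 0) _ (hfD 1),
      hts 1 _ (hfD 1) _ (hfD 0), hts 1 _ (hfD 1) _ (hfD 1)] at h0 h1
    funext i
    fin_cases i <;> simp [h0, h1]
  obtain ⟨σ, hσ⟩ := hle hg
  have hmap : ∀ i, ∀ v ∈ D i, g.val *ᵥ v ∈ D (σ i) := fun i v hv => hσ i ▸ ⟨v, hv, Matrix.toLin'_apply _ _⟩
  have hv0 : ∀ j : Fin 2, (vec (Fin.castLE (by norm_num) j)) ∈ D 0 := fun j => by fin_cases j <;> simp [vec]
  have key : ∃ s : F, Cᵀ * pairB F * C = s • pairB F := by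
    have m0 := hmap 0 (vec 0) (hv0 0)
    have m1 := hmap 0 (vec 1) (hv0 1)
    have m2 := hmap 1 (vec 2) (hfD 0)
    have m3 := hmap 1 (vec 3) (hfD 1)
    rcases (show ∀ σ : Equiv.Perm (Fin 2), σ 0 = 0 ∧ σ 1 = 1 ∨ σ 0 = 1 ∧ σ 1 = 0 by decide) σ with ⟨e0, e1⟩ | ⟨e0, e1⟩
    · rw [e0] at m0 m1
      rw [e1] at m2 m3
      obtain ⟨a, c, h0⟩ := hD0 _ m0
      obtain ⟨b, d, h1⟩ := hD0 _ m1
      obtain ⟨a', c', h2⟩ := hD1 _ m2
      obtain ⟨b', d', h3⟩ := hD1 _ m3
      refine pair_diag K hq (a := a) (b := b) (c := c) (d := d) (a' := a') (b' := b') (c' := c') (d' := d') ?_ hdet hiso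
      ext i j
      fin_cases j
      · refine (hcol 0 _ h0 i).trans ?_; fin_cases i <;> simp
      · refine (hcol 1 _ h1 i).trans ?_; fin_cases i <;> simp
      · refine (hcol 2 _ h2 i).trans ?_; fin_cases i <;> simp
      · refine (hcol 3 _ h3 i).trans ?_; fin_cases i <;> simp
    · rw [e0] at m0 m1
      rw [e1] at m2 m3
      obtain ⟨a, c, h0⟩ := hD1 _ m0
      obtain ⟨b, d, h1⟩ := hD1 _ m1
      obtain ⟨a', c', h2⟩ := hD0 _ m2
      obtain ⟨b', d', h3⟩ := hD0 _ m3
      refine pair_swap K hq (a := a) (b := b) (c := c) (d := d) (a' := a') (b' := b') (c' := c') (d' := d') ?_ hdet hiso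
      ext i j
      fin_cases j
      · refine (hcol 0 _ h0 i).trans ?_; fin_cases i <;> simp
      · refine (hcol 1 _ h1 i).trans ?_; fin_cases i <;> simp
      · refine (hcol 2 _ h2 i).trans ?_; fin_cases i <;> simp
      · refine (hcol 3 _ h3 i).trans ?_; fin_cases i <;> simp
  obtain ⟨s, hs⟩ := key
  refine ⟨s, ?_⟩
  calc g.valᵀ * (Qᵀ * pairB F * Q) * g.val = (Q * g.val)ᵀ * pairB F * (Q * g.val) := by
        rw [Matrix.transpose_mul]; simp only [mul_assoc]
    _ = (C * Q)ᵀ * pairB F * (C * Q) := by rw [hC, mul_assoc _ P.val Q, hPQ, mul_one]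
    _ = Qᵀ * (Cᵀ * pairB F * C) * Q := by rw [Matrix.transpose_mul]; simp only [mul_assoc]
    _ = s • (Qᵀ * pairB F * Q) := by rw [hs, mul_smul_comm, smul_mul_assoc]

end CfsgLib.Asch
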