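import Cfsg.Agent.Lib.Classical.UnitaryStab

set_option autoImplicit false

/-!
The subspace stabilisers of special unitary groups are maximal.
-/

namespace CfsgLib.Classical.Herm

open Matrix Cfsg
open CfsgLib.ClassicalAut (Unitary.Conj Unitary.space Unitary.rep)

variable {F : Type*} [Field F] [Finite F] {q : ℕ} (K : Unitary.Conj F q) {n : ℕ}

local notation "H" => hermForm n F q
local notation "V" => (Fin n → F)
local notation "G" => SU n F q

omit [Finite F] in
theorem app_injective (g : G) : Function.Injective (app g) := Function.LeftInverse.injective (app_inv g)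

/-- `app g` as a linear map. -/
def lin (g : G) : V →ₗ[F] V where
  toFun := app g
  map_add' := app_add g
  map_smul' := app_smul g

/-- The stabiliser of `W`. -/
def stab (W : Submodule F V) : Set G := {g | ∀ w ∈ W, app g w ∈ W}

omit [Finite F] in
theorem exists_preimage {W : Submodule F V} {g : G} (hg : g ∈ stab W) {v : V} (hv : v ∈ W) :
    ∃ w ∈ W, app g w = v := by
  obtain ⟨⟨w, hw⟩, hw'⟩ := ((lin g).restrict hg).surjective_of_injective
    (fun a b e => Subtype.ext (app_injective g (congrArg Subtype.val e))) ⟨v, hv⟩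
  exact ⟨w, hw, congrArg Subtype.val hw'⟩

omit [Finite F] in
theorem stab_iff {W : Submodule F V} {g : G} (hg : g ∈ stab W) (v : V) : v ∈ W ↔ app g v ∈ W := by
  refine ⟨hg v, fun hv => ?_⟩
  obtain ⟨w, hw, e⟩ := exists_preimage hg hv
  rwa [← app_injective g e]

include K

/-- The isotropic centres all of whose transvections lie in `M`. -/
def centres (M : Subgroup G) : Set V :=
  {v | hermForm n F q v v = 0 ∧ ∀ g c, IsT K g v c → g ∈ M}

theorem app_mem_centres {M : Subgroup G} {g : G} (hg : g ∈ M) {v : V} (hv : v ∈ centres K M) :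
    app g v ∈ centres K M := by
  refine ⟨by rw [h_app]; exact hv.1, fun t c ht => ?_⟩
  have h1 : IsT K (g⁻¹ * t * g) v c := ⟨hv.1, ht.2.1, fun x => by
    rw [app_mul, app_mul, ht.2.2, app_add, app_smul, app_inv, app_inv, h_app]⟩
  have h2 := M.mul_mem (M.mul_mem hg (hv.2 _ _ h1)) (M.inv_mem hg)
  rwa [show g * (g⁻¹ * t * g) * g⁻¹ = t by group] at h2

theorem smul_mem_centres {M : Subgroup G} (a : F) {v : V} (hv : v ∈ centres K M) :
    a • v ∈ centres K M := by
  refine ⟨by rw [h_smul_left K, h_smul_right K, hv.1, mul_zero, mul_zero], fun t c ht => ?_⟩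
  refine hv.2 t (c * a * K.bar a) ⟨hv.1, ?_, fun x => ?_⟩
  · rw [map_mul, map_mul, K.bar_bar]
    linear_combination (a * K.bar a) * ht.2.1
  · rw [ht.2.2, h_smul_right K, smul_smul]; ring_nf

theorem gen_le {M : Subgroup G} {U : Submodule F V}
    (hU : ∀ v ∈ U, H v v = 0 → v ∈ centres K M) : gen K U ≤ M := by
  rw [gen, Subgroup.closure_le]
  rintro g ⟨v, hv, c, hT⟩
  exact (hU v hv hT.1).2 g c hT

theorem eq_top_of_centres (hn : 4 ≤ n) {M : Subgroup G}
    (h : ∀ v, H v v = 0 → v ∈ centres K M) : M = ⊤ := by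
  rw [eq_top_iff, ← gen_top K (n := n) (by omega) (fun h' => by omega)]
  exact gen_le K fun v _ hv => h v hv

theorem T_mem_stab {W : Submodule F V} {v : V} (h : v ∈ W ∨ v ∈ orth K W) {g : G} {c : F}
    (hg : IsT K g v c) : g ∈ stab W := fun w hw => by
  rw [hg.2.2]
  rcases h with h | h
  · exact W.add_mem hw (W.smul_mem _ h)
  · rw [h w hw, mul_zero, zero_smul, add_zero]; exact hw

theorem mem_centres_of_stab {M : Subgroup G} {W : Submodule F V} (hM : (stab W : Set G) ⊆ M) {v : V}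
    (h : v ∈ W ∨ v ∈ orth K W) (hv : H v v = 0) : v ∈ centres K M :=
  ⟨hv, fun _ _ hg => hM (T_mem_stab K h hg)⟩

/-- A Siegel transformation. -/
theorem exists_siegel (hn : 3 ≤ n) {a b : V} {c : F} (ha : H a a = 0) (hb : H b a = 0)
    (hc : H b b + c + K.bar c = 0) :
    ∃ g : G, ∀ x, app g x = x + H x a • b - H x b • a + (c * H x a) • a := by
  obtain ⟨p, hp⟩ := CharP.exists F
  have : Fact p.Prime := ⟨CharP.char_is_prime F p⟩
  set S := Unitary.space (n := n) K
  set R := Unitary.rep K hn p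
  obtain ⟨g, hg⟩ := R.root a b c ha hb (show H b b + 1 * c + K.bar c = 0 by rw [one_mul]; exact hc)
  refine ⟨g, fun x => ?_⟩
  rw [← app_eq_rho K p hn g x, hg, S.E_apply]
  show x + H x a • b - (1 * H x b) • a + (c * H x a) • a = _
  rw [one_mul]

/-! ### Totally singular subspaces -/

theorem singular_le_or_top (hn : 4 ≤ n) {W : Submodule F V}
    (hW : Cfsg.Geo.IsTotallySingularFor (H) W) (M : Subgroup G) (hM : (stab W : Set G) ⊆ M) :
    M = ⊤ ∨ (M : Set G) ⊆ stab W := by
  by_cases hR : ∀ u ∈ centres K M, u ∈ orth K W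
  · refine Or.inr fun g hg w hw => ?_
    set P : Set V := {y | y ∈ orth K W ∧ H y y = 0}
    have hgP : ∀ y ∈ P, app g y ∈ P := fun y hy =>
      ⟨hR _ (app_mem_centres K hg (mem_centres_of_stab K hM (Or.inr hy.1) hy.2)),
        by rw [h_app]; exact hy.2⟩
    have hx : app g w ∈ P := hgP w ⟨fun w' hw' => hW w' hw' w hw, hW w hw w hw⟩
    by_contra hxW
    obtain ⟨v, hv, hv1⟩ := exists_orth_one K hxW
    obtain ⟨t, ht⟩ := (Unitary.space (n := n) K).tr v
    replace ht : H v v + 1 * t + K.bar t = 0 := ht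
    have hv' : v + t • app g w ∈ P := by
      refine ⟨(orth K W).add_mem hv ((orth K W).smul_mem _ hx.1), ?_⟩
      simp only [h_add_left K, h_add_right K, h_smul_left K, h_smul_right K, hx.2, hv1,
        h_swap K (app g w) v, map_one, mul_one, mul_zero, add_zero]
      linear_combination ht
    have : Finite P := inferInstance
    obtain ⟨⟨y, hy⟩, hye⟩ := Finite.surjective_of_injective
      (f := fun y : P => (⟨app g y, hgP y y.2⟩ : P))
      (fun a b e => Subtype.ext (app_injective g (congrArg Subtype.val e))) ⟨_, hv'⟩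
    have hye' : app g y = v + t • app g w := congrArg Subtype.val hye
    have h0 : H (app g w) (v + t • app g w) = 0 := by rw [← hye', h_app]; exact hy.1 w hw
    rw [h_add_right K, h_smul_right K, hx.2, mul_zero, add_zero, hv1] at h0
    exact one_ne_zero h0
  left
  push Not at hR
  obtain ⟨u, hu, huW⟩ := hR
  refine eq_top_of_centres K hn fun v hvv => ?_
  by_cases hv : v ∈ orth K W
  · exact mem_centres_of_stab K hM (Or.inr hv) hvv
  obtain ⟨w₁, hw₁, h₁⟩ : ∃ w ∈ W, H w u ≠ 0 := by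
    by_contra hc; push Not at hc; exact huW hc
  obtain ⟨w₂, hw₂, h₂⟩ : ∃ w ∈ W, H w v ≠ 0 := by
    by_contra hc; push Not at hc; exact hv hc
  obtain ⟨a, ha, h1, h2⟩ : ∃ a ∈ W, H u a ≠ 0 ∧ H v a ≠ 0 := by
    by_cases e1 : H v w₁ = 0
    · by_cases e2 : H u w₂ = 0
      · exact ⟨w₁ + w₂, W.add_mem hw₁ hw₂,
          by rw [h_add_right K, e2, add_zero]; exact h_ne_zero_symm K h₁,
          by rw [h_add_right K, e1, zero_add]; exact h_ne_zero_symm K h₂⟩
      · exact ⟨w₂, hw₂, e2, h_ne_zero_symm K h₂⟩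
    · exact ⟨w₁, hw₁, h_ne_zero_symm K h₁, e1⟩
  set u' := (H u a)⁻¹ • u
  set v' := (H v a)⁻¹ • v
  have hu' : H u' a = 1 := by rw [h_smul_left K, inv_mul_cancel₀ h1]
  have hv' : H v' a = 1 := by rw [h_smul_left K, inv_mul_cancel₀ h2]
  have huu : H u' u' = 0 := by rw [h_smul_left K, h_smul_right K, hu.1, mul_zero, mul_zero]
  have hvv' : H v' v' = 0 := by rw [h_smul_left K, h_smul_right K, hvv, mul_zero, mul_zero]
  have haa : H a a = 0 := hW a ha a ha
  obtain ⟨g, hg⟩ := exists_siegel K (by omega) (c := H u' v') haa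
    (b := v' - u') (by rw [h_sub_left K, hu', hv', sub_self]) (by
      rw [h_sub_left K, h_sub_right K, h_sub_right K, huu, hvv', h_swap K u' v']; ring)
  have hgs : g ∈ stab W := fun x hx => by
    rw [hg, hW x hx a ha, zero_smul, add_zero, mul_zero, zero_smul, add_zero]
    exact W.sub_mem hx (W.smul_mem _ ha)
  have h3 := app_mem_centres K (hM hgs) (smul_mem_centres K (H u a)⁻¹ hu)
  rw [hg, hu', h_sub_right K, huu, sub_zero, mul_one, one_smul, add_sub_cancel,
    sub_add_cancel] at h3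
  simpa [v', smul_smul, h2] using smul_mem_centres K (H v a) h3

/-! ### Non-degenerate subspaces -/

theorem sub_mem_iso_span {U : Submodule F V} (hU : Nondeg (q := q) U)
    (hd : 4 ≤ Module.finrank F U) {P : Submodule F V} (h : ∀ v ∈ U, H v v = 0 → v ∈ P) : U ≤ P := by
  intro x hx
  by_cases hxx : H x x = 0
  · exact h x hx hxx
  obtain ⟨p, hp, hpx, hpp⟩ := exists_aniso_perp_one K hU (by omega) hx
  obtain ⟨t, ht, htt⟩ := exists_scaled K hp hpp (s := -(H x x)) (by rw [map_neg, bar_self K])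
  have hxy : H x (t • p) = 0 := by rw [h_smul_right K, h_eq_zero_symm K hpx, mul_zero]
  have iso : ∀ ζ : F, ζ * K.bar ζ = 1 → x + ζ • (t • p) ∈ P := fun ζ hζ => by
    refine h _ (U.add_mem hx (U.smul_mem _ ht)) ?_
    simp only [h_add_left K, h_add_right K, h_smul_left K ζ, h_smul_right K ζ, htt, hxy,
      h_eq_zero_symm K hxy, mul_zero, add_zero, zero_add]
    linear_combination -(H x x) * hζ
  obtain ⟨⟨ζ, hζ⟩, hζ1⟩ : ∃ z : {a : F // a * K.bar a = 1}, z ≠ ⟨1, by simp⟩ := by
    have : Nontrivial {a : F // a * K.bar a = 1} :=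
      (Finite.one_lt_card_iff_nontrivial).1 (by rw [card_norm_one K]; have := K.two_le; omega)
    exact exists_ne _
  have h1 := iso 1 (by simp)
  have h2 := iso ζ hζ
  have hne : 1 - ζ ≠ 0 := fun e => hζ1 (Subtype.ext (sub_eq_zero.1 e).symm)
  have hy : t • p ∈ P := by
    have h3 := P.smul_mem (1 - ζ)⁻¹ (P.sub_mem h1 h2)
    rwa [one_smul, add_sub_add_left_eq_sub,
      show (t • p : V) - ζ • (t • p) = (1 - ζ) • (t • p) by rw [sub_smul, one_smul], smul_smul,
      inv_mul_cancel₀ hne, one_smul] at h3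
  rw [one_smul] at h1
  simpa using P.sub_mem h1 hy

theorem mem_orth_orth {U : Submodule F V} {x : V} (hx : x ∈ U) : x ∈ orth K (orth K U) :=
  fun b hb => h_eq_zero_symm K (hb x hx)

/-- Either `g` preserves `U`, or the centres have a vector with both components non-zero. -/
theorem exists_mixed {U : Submodule F V} (hU : Nondeg (q := q) U) (hd : 4 ≤ Module.finrank F U)
    (hd' : Module.finrank F (orth K U) < Module.finrank F U) {M : Subgroup G}
    (hC : ∀ v ∈ U, H v v = 0 → v ∈ centres K M) {g : G} (hg : g ∈ M) (hgU : g ∉ stab U) :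
    ∃ a ∈ orth K U, ∃ b ∈ U, a ≠ 0 ∧ b ≠ 0 ∧ a + b ∈ centres K M := by
  by_contra hc
  push Not at hc
  have hR : ∀ v ∈ U, H v v = 0 → app g v ∈ U ∨ app g v ∈ orth K U := by
    intro v hv hvv
    obtain ⟨b, hb, hab⟩ := exists_split K hU (app g v)
    by_cases hb0 : b = 0
    · right; rwa [hb0, sub_zero] at hab
    by_cases ha0 : app g v - b = 0
    · left; rwa [sub_eq_zero.1 ha0]
    have := hc _ hab b hb ha0 hb0
    rw [sub_add_cancel] at this
    exact absurd (app_mem_centres K hg (hC v hv hvv)) this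
  have key : ∀ x y : V, x ∈ U → H x x = 0 → y ∈ U → H y y = 0 → app g x ∈ U → app g y ∈ orth K U →
      app g x = 0 ∨ app g y = 0 := by
    intro x y hx hxx hy hyy h1 h2
    by_cases hxy : H x y = 0
    · rcases hR (x + y) (U.add_mem hx hy) (by
        simp only [h_add_left K, h_add_right K, hxx, hyy, hxy, h_eq_zero_symm K hxy, add_zero])
        with h | h <;> rw [app_add] at h
      · exact Or.inr ((Submodule.eq_bot_iff _).1 (isCompl_orth K hU).inf_eq_bot _
          ⟨(U.add_mem_iff_right h1).1 h, h2⟩)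
      · exact Or.inl ((Submodule.eq_bot_iff _).1 (isCompl_orth K hU).inf_eq_bot _
          ⟨h1, ((orth K U).add_mem_iff_left h2).1 h⟩)
    · exact absurd (h_app g x y ▸ h2 _ h1) hxy
  obtain ⟨y, hy, hyy, hgy⟩ : ∃ y ∈ U, H y y = 0 ∧ app g y ∉ U := by
    by_contra hc'
    push Not at hc'
    exact hgU fun v hv => sub_mem_iso_span K hU hd (P := U.comap (lin g)) hc' hv
  have h2 := (hR y hy hyy).resolve_left hgy
  have hall : ∀ v ∈ U, H v v = 0 → app g v ∈ orth K U := fun v hv hvv => by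
    rcases hR v hv hvv with h | h
    · rcases key v y hv hvv hy hyy h h2 with e | e
      · rw [e]; exact zero_mem _
      · exact absurd (e ▸ U.zero_mem) hgy
    · exact h
  have hmap : ∀ v ∈ U, lin g v ∈ orth K U :=
    fun v hv => sub_mem_iso_span K hU hd (P := (orth K U).comap (lin g)) hall hv
  have := LinearMap.finrank_le_finrank_of_injective (f := (lin g).restrict hmap)
    fun a b e => Subtype.ext (app_injective g (congrArg Subtype.val e))
  omega

/-- An element of the stabiliser acting on `W` as a non-trivial transvection or quasi-reflection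
with centre `w`. -/
theorem exists_actor {W : Submodule F V} (hW : Nondeg (q := q) W)
    (hd : 4 ≤ Module.finrank F (orth K W)) {w : V} (hw : w ∈ W) :
    ∃ g ∈ stab (n := n) (q := q) W, ∃ lam : F, lam ≠ 0 ∧
      (∀ x ∈ W, app g x = x + (lam * H x w) • w) ∧
      ∀ U : Submodule F V, orth K W ≤ U → w ∈ orth K U → g ∈ stab U := by
  obtain ⟨θ, hθ0, hθ⟩ := exists_skew K
  by_cases hww : H w w = 0
  · obtain ⟨g, hg⟩ := exists_T K hww hθ
    exact ⟨g, T_mem_stab K (Or.inl hw) hg, θ, hθ0, fun x _ => hg.2.2 x,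
      fun U _ hwU => T_mem_stab K (Or.inr hwU) hg⟩
  obtain ⟨p, hp, -, hpp⟩ := exists_aniso_perp_one K (nondeg_orth K hW) (by omega) (zero_mem (orth K W))
  have hwp : H w p = 0 := hp w hw
  obtain ⟨⟨ζ, hζ⟩, hζ1⟩ : ∃ z : {a : F // a * K.bar a = 1}, z ≠ ⟨1, by simp⟩ := by
    have : Nontrivial {a : F // a * K.bar a = 1} :=
      (Finite.one_lt_card_iff_nontrivial).1 (by rw [card_norm_one K]; have := K.two_le; omega)
    exact exists_ne _
  have hl : ∀ (z : V) (e : F), H z z ≠ 0 → e * K.bar e = 1 →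
      (e - 1) / H z z + K.bar ((e - 1) / H z z) +
        (e - 1) / H z z * K.bar ((e - 1) / H z z) * H z z = 0 := fun z e hz he => by
    rw [map_div₀, map_sub, map_one, bar_self K]
    field_simp
    linear_combination he
  have hζ' : K.bar ζ * K.bar (K.bar ζ) = 1 := by rw [K.bar_bar, mul_comm]; exact hζ
  set l₁ := (ζ - 1) / H w w
  set l₂ := (K.bar ζ - 1) / H p p
  have hdet : (quasi K w l₁ * quasi K p l₂).det = 1 := by
    rw [det_mul, det_quasi, det_quasi, div_mul_cancel₀ _ hww, div_mul_cancel₀ _ hpp]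
    linear_combination hζ
  set g : G := ⟨⟨quasi K w l₁ * quasi K p l₂, hdet⟩, fun x y => by
    show H ((quasi K w l₁ * quasi K p l₂) *ᵥ x) ((quasi K w l₁ * quasi K p l₂) *ᵥ y) = _
    rw [← mulVec_mulVec, ← mulVec_mulVec, quasi_isometry K (hl w ζ hww hζ),
      quasi_isometry K (hl p _ hpp hζ')]⟩
  have happ : ∀ x, app g x = x + (l₂ * H x p) • p + (l₁ * H x w) • w := fun x => by
    show (quasi K w l₁ * quasi K p l₂) *ᵥ x = _
    rw [← mulVec_mulVec, quasi_apply, quasi_apply, h_add_left K, h_smul_left K,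
      h_eq_zero_symm K hwp, mul_zero, add_zero]
  have hW' : ∀ x ∈ W, app g x = x + (l₁ * H x w) • w := fun x hx => by
    rw [happ, hp x hx, mul_zero, zero_smul, add_zero]
  refine ⟨g, fun x hx => by rw [hW' x hx]; exact W.add_mem hx (W.smul_mem _ hw), l₁,
    div_ne_zero (sub_ne_zero.2 fun e => hζ1 (Subtype.ext e)) hww, hW', fun U hU hwU x hx => ?_⟩
  rw [happ, hwU x hx, mul_zero, zero_smul, add_zero]
  exact U.add_mem hx (U.smul_mem _ (hU hp))

/-- From a mixed vector with anisotropic first component, enlarge `U`. -/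
theorem enlarge {U : Submodule F V} (hU : Nondeg (q := q) U) (hd : 4 ≤ Module.finrank F U)
    {M : Subgroup G} (hC : ∀ v ∈ U, H v v = 0 → v ∈ centres K M) {a b : V} (ha : a ∈ orth K U)
    (hb : b ∈ U) (haa : H a a ≠ 0) (hab : a + b ∈ centres K M) :
    Nondeg (q := q) (U ⊔ Submodule.span F {a}) ∧ a ∉ U ∧
      ∀ v ∈ U ⊔ Submodule.span F {a}, H v v = 0 → v ∈ centres K M := by
  have hUa : ∀ y ∈ U, H y a = 0 := ha
  have hbb : H b b = -(H a a) := by
    have := hab.1
    rw [h_add_left K, h_add_right K, h_add_right K, hUa b hb, h_eq_zero_symm K (hUa b hb),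
      add_zero, zero_add] at this
    linear_combination this
  refine ⟨fun x hx hx0 => ?_, fun h => haa (hUa a h), fun v hv hvv => ?_⟩
  · obtain ⟨y, hy, z, hz, rfl⟩ := Submodule.mem_sup.1 hx
    obtain ⟨t, rfl⟩ := Submodule.mem_span_singleton.1 hz
    by_cases ht : t = 0
    · rw [ht, zero_smul, add_zero] at hx0 ⊢
      obtain ⟨y', hy', h⟩ := hU y hy hx0
      exact ⟨y', Submodule.mem_sup_left hy', h⟩
    · refine ⟨a, Submodule.mem_sup_right (Submodule.mem_span_singleton_self a), ?_⟩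
      rw [h_add_left K, hUa y hy, zero_add, h_smul_left K]
      exact mul_ne_zero ht haa
  · obtain ⟨y, hy, z, hz, rfl⟩ := Submodule.mem_sup.1 hv
    obtain ⟨t, rfl⟩ := Submodule.mem_span_singleton.1 hz
    by_cases ht : t = 0
    · rw [ht, zero_smul, add_zero] at hvv ⊢
      exact hC y hy hvv
    have hy' := U.smul_mem t⁻¹ hy
    have hn : H b b = H (t⁻¹ • y) (t⁻¹ • y) := by
      have e : y + t • a = t • (t⁻¹ • y + a) := by
        rw [smul_add, smul_smul, mul_inv_cancel₀ ht, one_smul]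
      rw [e, h_smul_left K, h_smul_right K] at hvv
      have h1 := (mul_eq_zero.1 ((mul_eq_zero.1 hvv).resolve_left ht)).resolve_left
        ((map_ne_zero K.bar).2 ht)
      rw [h_add_left K, h_add_right K, h_add_right K, hUa _ hy', h_eq_zero_symm K (hUa _ hy'),
        add_zero, zero_add] at h1
      rw [hbb]
      linear_combination (-1 : F) * h1
    have hb0 : H b b ≠ 0 := by rw [hbb]; exact neg_ne_zero.2 haa
    obtain ⟨g, hg, hgb⟩ := exists_move_norm K hU hd hb hy' (ne_zero_of_h K hb0)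
      (ne_zero_of_h K (hn ▸ hb0)) hn
    have := smul_mem_centres K t (app_mem_centres K (gen_le K hC hg) hab)
    rwa [app_add, hgb, gen_fix K (fun v hv => h_eq_zero_symm K (hUa v hv)) hg, smul_add,
      smul_smul, mul_inv_cancel₀ ht, one_smul, add_comm] at this

/-- A mixed vector may be assumed to have anisotropic first component. -/
theorem exists_mixed_aniso {W : Submodule F V} (hW : Nondeg (q := q) W)
    (hdW : 4 ≤ Module.finrank F (orth K W)) {U : Submodule F V} (hU : Nondeg (q := q) U)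
    (hWU : orth K W ≤ U) (hd : 4 ≤ Module.finrank F U) {M : Subgroup G} (hM : (stab W : Set G) ⊆ M)
    (hC : ∀ v ∈ U, H v v = 0 → v ∈ centres K M) {a b : V} (ha : a ∈ orth K U) (hb : b ∈ U)
    (ha0 : a ≠ 0) (hb0 : b ≠ 0) (hab : a + b ∈ centres K M) :
    ∃ a' ∈ orth K U, ∃ b' ∈ U, H a' a' ≠ 0 ∧ a' + b' ∈ centres K M := by
  by_cases haa : H a a = 0
  swap
  · exact ⟨a, ha, b, hb, haa, hab⟩
  have hsub : ∀ x ∈ orth K U, x ∈ W := fun x hx =>
    mem_of_orth_orth K fun v hv => h_eq_zero_symm K (hx v (hWU hv))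
  have hbb : H b b = 0 := by
    have := hab.1
    rwa [h_add_left K, h_add_right K, h_add_right K, ha b hb, h_eq_zero_symm K (ha b hb), haa,
      add_zero, zero_add, zero_add] at this
  obtain ⟨w, hw, haw⟩ := nondeg_orth K hU a ha ha0
  obtain ⟨g, hgW, lam, hl, hgx, hgU⟩ := exists_actor K hW hdW (hsub w hw)
  have hg2 := app_mem_centres K (hM hgW) hab
  have hgb : app g b ∈ U := hgU U hWU hw b hb
  rw [app_add, hgx a (hsub a ha)] at hg2
  set a' := a + (lam * H a w) • w
  have ha' : a' ∈ orth K U := (orth K U).add_mem ha ((orth K U).smul_mem _ hw)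
  have ha'a' : H a' a' = 0 := by
    rw [show a' = app g a from (hgx a (hsub a ha)).symm, h_app]; exact haa
  have hgb0 : app g b ≠ 0 := fun e => hb0 (app_injective g (e.trans (by
    show (0 : V) = app g 0
    rw [app, mulVec_zero])))
  have hgbb : H (app g b) (app g b) = 0 := by rw [h_app]; exact hbb
  set α := H a' a with hα
  have hα0 : α ≠ 0 := by
    show H a' a ≠ 0
    rw [h_add_left K, haa, zero_add, h_smul_left K]
    exact mul_ne_zero (mul_ne_zero hl haw) (h_ne_zero_symm K haw)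
  obtain ⟨y, hy⟩ := K.exists_moved
  have hy0 : y ≠ 0 := fun e => hy (by rw [e, map_zero])
  set h := α * y with hh
  -- a partner of `b`
  obtain ⟨z, hz, hzb⟩ := hU b hb hb0
  set z₁ := (H z b)⁻¹ • z
  have hz₁ : H z₁ b = 1 := by rw [h_smul_left K, inv_mul_cancel₀ (h_ne_zero_symm K hzb)]
  obtain ⟨t₀, ht₀⟩ := (Unitary.space (n := n) K).tr z₁
  replace ht₀ : H z₁ z₁ + 1 * t₀ + K.bar t₀ = 0 := ht₀
  set f := z₁ + K.bar t₀ • b
  have hf : H f b = 1 := by rw [h_add_left K, hz₁, h_smul_left K, hbb, mul_zero, add_zero]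
  have hff : H f f = 0 := by
    simp only [f, h_add_left K, h_add_right K, h_smul_left K, h_smul_right K, hz₁, hbb,
      h_swap K z₁ b, map_one, K.bar_bar, mul_one, mul_zero, add_zero]
    linear_combination ht₀
  have hfU : f ∈ U := U.add_mem (U.smul_mem _ hz) (U.smul_mem _ hb)
  set b₂ := h • f
  have hh0 : h ≠ 0 := mul_ne_zero hα0 hy0
  obtain ⟨e, he, heb⟩ := exists_move_norm K hU hd hgb (U.smul_mem h hfU) hgb0
    (smul_ne_zero hh0 (ne_zero_of_h K (hf ▸ one_ne_zero)))
    (by rw [hgbb, h_smul_left K, h_smul_right K, hff, mul_zero, mul_zero])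
  have hu₂ := app_mem_centres K (gen_le K hC he) hg2
  rw [app_add, heb, gen_fix K (fun v hv => h_eq_zero_symm K (ha' v hv)) he] at hu₂
  obtain ⟨c, hc0, hc⟩ := exists_skew K
  obtain ⟨T, hT⟩ := exists_T K hab.1 hc
  have hu₃ := app_mem_centres K (hab.2 T c hT) hu₂
  have hH : H (a' + h • f) (a + b) = α + h := by
    rw [h_add_left K, h_add_right K, h_add_right K, h_smul_left K, h_smul_left K,
      h_eq_zero_symm K (ha' b hb), ha f hfU, hf]
    rw [hα]; ring
  rw [hT.2.2, hH] at hu₃
  set t := c * (α + h)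
  refine ⟨a' + t • a, (orth K U).add_mem ha' ((orth K U).smul_mem _ ha), h • f + t • b,
    U.add_mem (U.smul_mem _ hfU) (U.smul_mem _ hb), ?_, ?_⟩
  · simp only [h_add_left K, h_add_right K, h_smul_left K, h_smul_right K, ha'a', haa,
      ← hα, h_swap K a' a, mul_zero, add_zero, zero_add]
    intro he0
    refine hy ?_
    have hne : c * (α * K.bar α) ≠ 0 :=
      mul_ne_zero hc0 (mul_ne_zero hα0 ((map_ne_zero K.bar).2 hα0))
    have : c * (α * K.bar α) * (y - K.bar y) = 0 := by
      rw [show t = c * (α + α * y) from rfl, map_mul, map_add, map_mul] at he0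
      linear_combination he0 - (α * K.bar α + α * K.bar α * K.bar y) * hc
    exact (sub_eq_zero.1 ((mul_eq_zero.1 this).resolve_left hne)).symm
  · rw [add_add_add_comm, ← smul_add t]
    exact hu₃

theorem nondegenerate_le_or_top {W : Submodule F V} (hW : Nondeg (q := q) W)
    (hn : 12 ≤ n) (hdim : 2 * Module.finrank F W < n) (M : Subgroup G) (hM : (stab W : Set G) ⊆ M) :
    M = ⊤ ∨ (M : Set G) ⊆ stab W := by
  have hU₀ := nondeg_orth K hW
  have hdU := finrank_orth K hW
  have hd₀ : 4 ≤ Module.finrank F (orth K W) := by omega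
  have hC₀ : ∀ v ∈ orth K W, H v v = 0 → v ∈ centres K M := fun v hv hvv =>
    mem_centres_of_stab K hM (Or.inr hv) hvv
  by_cases hR : (M : Set G) ⊆ stab W
  · exact Or.inr hR
  left
  obtain ⟨g₀, hg₀, hg₀W⟩ := Set.not_subset.1 hR
  refine eq_top_of_centres K (by omega) fun v hvv => ?_
  suffices key : ∀ k, ∀ U : Submodule F V, n ≤ Module.finrank F U + k → Nondeg (q := q) U →
      orth K W ≤ U → (∀ v ∈ U, H v v = 0 → v ∈ centres K M) → v ∈ centres K M from
    key n (orth K W) (by omega) hU₀ le_rfl hC₀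
  intro k
  induction k with
  | zero =>
    intro U hle _ _ hC
    refine hC v ?_ hvv
    rw [Submodule.eq_top_of_finrank_eq (S := U) (le_antisymm (Submodule.finrank_le U)
      (by rw [Module.finrank_fin_fun]; omega))]
    exact Submodule.mem_top
  | succ k ih =>
    intro U hle hU hWU hC
    have hd : 4 ≤ Module.finrank F U := hd₀.trans (Submodule.finrank_mono hWU)
    have hsum := finrank_orth K hU
    have hd' : Module.finrank F (orth K U) < Module.finrank F U := by
      have := Submodule.finrank_mono hWU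
      omega
    have hsub : ∀ x ∈ orth K U, x ∈ W := fun x hx =>
      mem_of_orth_orth K fun v hv => h_eq_zero_symm K (hx v (hWU hv))
    by_cases hUtop : orth K U = ⊥
    · refine hC v ?_ hvv
      obtain ⟨a, ha, hva⟩ := exists_split K hU v
      rw [hUtop, Submodule.mem_bot, sub_eq_zero] at hva
      rwa [hva]
    obtain ⟨g, hg, hgU⟩ : ∃ g ∈ M, g ∉ stab U := by
      by_cases hUW : U ≤ orth K W
      · have : U = orth K W := le_antisymm hUW hWU
        refine ⟨g₀, hg₀, fun hgs => hg₀W fun w hw => ?_⟩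
        refine mem_of_orth_orth K fun v hv => ?_
        obtain ⟨y, hy, hyv⟩ := exists_preimage hgs (this ▸ hv : v ∈ U)
        rw [← hyv, h_app]
        exact (this ▸ hy : y ∈ orth K W) w hw
      obtain ⟨x, hx, hxW⟩ := SetLike.not_le_iff_exists.1 hUW
      obtain ⟨a, ha, hxa⟩ := exists_split K hW x
      have haU : a ∈ U := by
        have := U.sub_mem hx (hWU hxa)
        rwa [sub_sub_cancel] at this
      have ha0 : a ≠ 0 := fun e => hxW (by rw [e, sub_zero] at hxa; exact hxa)
      obtain ⟨z, hz, hz0⟩ := Submodule.exists_mem_ne_zero_of_ne_bot hUtop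
      obtain ⟨y, hy, hay⟩ := hU a haU ha0
      obtain ⟨x', hx', hyx⟩ := exists_split K hW y
      have hx'U : x' ∈ U := by
        have := U.sub_mem hy (hWU hyx)
        rwa [sub_sub_cancel] at this
      obtain ⟨e, heW, lam, hl, hex, -⟩ := exists_actor K hW hd₀ (W.add_mem ha (hsub z hz))
      refine ⟨e, hM heW, fun hes => ?_⟩
      have h1 := hes x' hx'U
      rw [hex x' hx', U.add_mem_iff_right hx'U] at h1
      have hH : H x' (a + z) ≠ 0 := by
        rw [h_add_right K, hz x' hx'U, add_zero]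
        refine h_ne_zero_symm K fun e0 => hay ?_
        rw [← add_sub_cancel x' y, h_add_right K, e0, hyx a ha, add_zero]
      have h2 := U.smul_mem (lam * H x' (a + z))⁻¹ h1
      rw [smul_smul, inv_mul_cancel₀ (mul_ne_zero hl hH), one_smul, U.add_mem_iff_right haU] at h2
      exact hz0 ((Submodule.eq_bot_iff _).1 (isCompl_orth K hU).inf_eq_bot z ⟨h2, hz⟩)
    obtain ⟨a, ha, b, hb, ha0, hb0, hab⟩ := exists_mixed K hU hd hd' hC hg hgU
    obtain ⟨a', ha', b', hb', haa, hab'⟩ :=
      exists_mixed_aniso K hW hd₀ hU hWU hd hM hC ha hb ha0 hb0 hab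
    obtain ⟨h1, h2, h3⟩ := enlarge K hU hd hC ha' hb' haa hab'
    refine ih _ ?_ h1 (hWU.trans le_sup_left) h3
    have : U < U ⊔ Submodule.span F {a'} := lt_of_le_not_ge le_sup_left fun hle' =>
      h2 (hle' (Submodule.mem_sup_right (Submodule.mem_span_singleton_self a')))
    have := Submodule.finrank_lt_finrank_of_lt this
    omega

/-! ### Properness -/

theorem exists_notMem_stab_singular {W : Submodule F V} (hW0 : W ≠ ⊥)
    (hW : Cfsg.Geo.IsTotallySingularFor (H) W) : ∃ g : G, g ∉ stab W := by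
  obtain ⟨w, hw, hw0⟩ := Submodule.exists_mem_ne_zero_of_ne_bot hW0
  obtain ⟨f, hf, hwf⟩ := (Unitary.space (n := n) K).exists_partner (hW w hw w hw) hw0
  replace hf : H f f = 0 := hf
  replace hwf : H w f = 1 := hwf
  obtain ⟨θ, hθ0, hθ⟩ := exists_skew K
  obtain ⟨g, hg⟩ := exists_T K hf hθ
  refine ⟨g, fun h => ?_⟩
  have h1 := h w hw
  rw [hg.2.2, hwf, mul_one, W.add_mem_iff_right hw] at h1
  have h2 := W.smul_mem θ⁻¹ h1
  rw [smul_smul, inv_mul_cancel₀ hθ0, one_smul] at h2
  exact one_ne_zero (hwf.symm.trans (hW w hw f h2))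

theorem exists_notMem_stab_nondeg {W : Submodule F V} (hW0 : W ≠ ⊥) (hW : Nondeg (q := q) W)
    (hd : 4 ≤ Module.finrank F (orth K W)) : ∃ g : G, g ∉ stab W := by
  obtain ⟨a, ha, ha0⟩ := Submodule.exists_mem_ne_zero_of_ne_bot hW0
  obtain ⟨x', hx', hax⟩ := hW a ha ha0
  obtain ⟨z, hz, -, hz0, hzz⟩ : ∃ z ∈ orth K W, z ∈ orth K W ∧ z ≠ 0 ∧ H z z = -(H a a) := by
    have hs : K.bar (-(H a a)) = -(H a a) := by rw [map_neg, bar_self K]
    obtain ⟨p, hp, -, hpp⟩ := exists_aniso_perp_one K (nondeg_orth K hW) (by omega) (zero_mem (orth K W))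
    obtain ⟨z, hz, -, hz0, hzz⟩ := exists_norm_perp K (nondeg_orth K hW) hd hp
      (ne_zero_of_h K hpp) hs
    exact ⟨z, hz, hz, hz0, hzz⟩
  have hww : H (a + z) (a + z) = 0 := by
    rw [h_add_left K, h_add_right K, h_add_right K, hz a ha, h_eq_zero_symm K (hz a ha), hzz]; ring
  obtain ⟨θ, hθ0, hθ⟩ := exists_skew K
  obtain ⟨g, hg⟩ := exists_T K hww hθ
  refine ⟨g, fun h => hz0 ?_⟩
  have h1 := h x' hx'
  rw [hg.2.2, W.add_mem_iff_right hx', h_add_right K, hz x' hx', add_zero] at h1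
  have h2 := W.smul_mem (θ * H x' a)⁻¹ h1
  rw [smul_smul, inv_mul_cancel₀ (mul_ne_zero hθ0 (h_ne_zero_symm K hax)), one_smul,
    W.add_mem_iff_right ha] at h2
  exact (Submodule.eq_bot_iff _).1 (isCompl_orth K hW).inf_eq_bot z ⟨h2, hz⟩

/-! ### Passing to subgroups of `GL_n` -/

omit K

/-- `SU_n(q)` inside the general linear group. -/
def toGLHom : G →* GL (Fin n) F := SpecialLinearGroup.toGL.comp (SU n F q).subtype

omit [Finite F] in
theorem mem_range_iff (g : GL (Fin n) F) :
    g ∈ GU n F q ⊓ Cfsg.Geo.specialLinear (Fin n) F ↔ ∃ s : G, toGLHom s = g := by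
  constructor
  · rintro ⟨h1, h2⟩
    refine ⟨⟨⟨(g : Matrix (Fin n) (Fin n) F), congrArg Units.val (MonoidHom.mem_ker.1 h2)⟩, h1⟩,
      Units.ext rfl⟩
  · rintro ⟨s, rfl⟩
    exact ⟨s.2, MonoidHom.mem_ker.2 (Units.ext s.1.2)⟩

omit [Finite F] in
theorem mem_subspaceStabilizer_iff (W : Submodule F V) (g : G) :
    toGLHom g ∈ Cfsg.Geo.subspaceStabilizer W ↔ g ∈ stab W :=
  ⟨fun h w hw => (h w).1 hw, fun h v => stab_iff h v⟩

omit [Finite F] in
theorem isMaximalIn_of {W : Submodule F V} (hne : ∃ g : G, g ∉ stab W)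
    (h : ∀ M : Subgroup G, (stab W : Set G) ⊆ M → M = ⊤ ∨ (M : Set G) ⊆ stab W) :
    Cfsg.Geo.IsMaximalIn (GU n F q ⊓ Cfsg.Geo.specialLinear (Fin n) F)
      (Cfsg.Geo.subspaceStabilizer W ⊓ (GU n F q ⊓ Cfsg.Geo.specialLinear (Fin n) F)) := by
  refine ⟨lt_of_le_not_ge inf_le_right fun hle => ?_, fun M hM hM' => ?_⟩
  · obtain ⟨g, hg⟩ := hne
    exact hg ((mem_subspaceStabilizer_iff W g).1 (hle ((mem_range_iff _).2 ⟨g, rfl⟩)).1)
  rcases h (M.comap toGLHom) (fun g hg =>
      hM ⟨(mem_subspaceStabilizer_iff W g).2 hg, (mem_range_iff _).2 ⟨g, rfl⟩⟩) with h | h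
  · refine Or.inr (le_antisymm hM' fun g hg => ?_)
    obtain ⟨s, rfl⟩ := (mem_range_iff g).1 hg
    have : s ∈ M.comap toGLHom := h ▸ Subgroup.mem_top s
    exact this
  · refine Or.inl (le_antisymm (fun g hg => ?_) hM)
    obtain ⟨s, rfl⟩ := (mem_range_iff g).1 (hM' hg)
    exact ⟨(mem_subspaceStabilizer_iff W s).2 (h hg), (mem_range_iff _).2 ⟨s, rfl⟩⟩

end CfsgLib.Classical.Herm
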