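import Cfsg.Agent.Lib.Classical.TensorMonomial
import Cfsg.Agent.Lib.Classical.UnitaryMax

set_option autoImplicit false
set_option linter.unusedSectionVars false

/-!
Over the field of four elements `GU_2 ⊗ GU_m` is not maximal in `SU_{2m}(2)`.
-/

namespace CfsgLib.Classical.TensorMonoUnitary

open Matrix Cfsg CfsgLib.Classical.Herm
open CfsgLib.ClassicalAut (Unitary.Conj Unitary.space)

variable {F : Type*} [Field F] [Fintype F] (K : Unitary.Conj F 2)

include K

section form

variable {d : ℕ} {f : (Fin d → F) → (Fin d → F) → F} (hf : Cfsg.Geo.IsUnitaryFormPow 2 f)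

include hf

theorem add_right (v x y : Fin d → F) : f v (x + y) = f v x + f v y := by
  rw [hf.herm, hf.add_left, hf.herm v x, hf.herm v y, ← K.bar_apply, ← K.bar_apply, ← K.bar_apply,
    map_add]

theorem smul_right (c : F) (v x : Fin d → F) : f v (c • x) = K.bar c * f v x := by
  rw [hf.herm, hf.smul_left, hf.herm v x, ← K.bar_apply, ← K.bar_apply, map_mul]

theorem swap {x y : Fin d → F} (h : f x y ≠ 0) : f y x ≠ 0 := fun e => h (by
  rw [hf.herm, e, zero_pow two_ne_zero])

theorem swap_zero {x y : Fin d → F} (h : f x y = 0) : f y x = 0 := by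
  by_contra e
  exact swap K hf e h

theorem zero_left (v : Fin d → F) : f 0 v = 0 := by
  simpa using hf.smul_left 0 0 v

theorem self_cases (v : Fin d → F) : f v v = 0 ∨ f v v = 1 := by
  have h := hf.herm v v
  rcases mul_eq_zero.1 (show f v v * (f v v - 1) = 0 by linear_combination -h) with h | h
  · exact Or.inl h
  · exact Or.inr (sub_eq_zero.1 h)

theorem exists_aniso (hd : 1 ≤ d) : ∃ v, f v v ≠ 0 := by
  by_contra hc
  push Not at hc
  obtain ⟨⟨x, hx⟩, -⟩ := hf.nondegenerate (Pi.single ⟨0, hd⟩ 1) (by simp)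
  set y : Fin d → F := Pi.single ⟨0, hd⟩ 1
  have h1 : ∀ a b, f a b * (f a b - 1) = 0 := by
    intro a b
    have h := hc (a + b)
    rw [hf.add_left, add_right K hf, add_right K hf, hc, hc, hf.herm b a] at h
    have h2 := two_eq_zero K rfl
    linear_combination h - f a b * h2
  obtain ⟨ω, hω, -⟩ := exists_omega K rfl
  have hxy : f x y = 1 := sub_eq_zero.1 ((mul_eq_zero.1 (h1 x y)).resolve_left hx)
  have h := h1 (ω • x) y
  rw [hf.smul_left, hxy, mul_one] at h
  have h2 := two_eq_zero K rfl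
  exact one_ne_zero (α := F) (by linear_combination hω - h - ω * h2)

theorem exists_orth {z : Fin d → F} (hd : 2 ≤ d) : ∃ y, y ≠ 0 ∧ f y z = 0 := by
  let L : (Fin d → F) →ₗ[F] F :=
    { toFun := fun y => f y z
      map_add' := fun p q => hf.add_left _ _ _
      map_smul' := fun r p => hf.smul_left r _ _ }
  have h1 := L.finrank_range_add_finrank_ker
  have h2 : Module.finrank F (LinearMap.range L) ≤ 1 :=
    (Submodule.finrank_le _).trans_eq (Module.finrank_self F)
  rw [Module.finrank_fin_fun] at h1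
  obtain ⟨y, hy, hy0⟩ := Submodule.exists_mem_ne_zero_of_ne_bot (p := LinearMap.ker L) fun e => by
    rw [e, finrank_bot] at h1; omega
  exact ⟨y, hy0, LinearMap.mem_ker.1 hy⟩

end form

theorem plane_frame {f : (Fin 2 → F) → (Fin 2 → F) → F} (hf : Cfsg.Geo.IsUnitaryFormPow 2 f) :
    ∃ a : Fin 2 → Fin 2 → F, (∀ i j, i ≠ j → f (a i) (a j) = 0) ∧ (∀ i, f (a i) (a i) = 1) ∧
      ∀ v, f v v ≠ 0 → ∃ (j : Fin 2) (l : F), v = l • a j := by
  have h2 := two_eq_zero K rfl
  obtain ⟨a₀, ha₀⟩ := exists_aniso K hf (by norm_num)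
  obtain ⟨a₁, ha₁0, ha₁⟩ := exists_orth K hf (z := a₀) le_rfl
  have ha₀1 := (self_cases K hf a₀).resolve_left ha₀
  have hli : LinearIndependent F ![a₀, a₁] := by
    rw [LinearIndependent.pair_iff]
    intro s t h
    have hs : s = 0 := by
      have := congrArg (fun v => f v a₀) h
      simp only [hf.add_left, hf.smul_left, ha₁, ha₀1, zero_left K hf] at this
      simpa using this
    refine ⟨hs, ?_⟩
    rw [hs, zero_smul, zero_add] at h
    exact (smul_eq_zero.1 h).resolve_right ha₁0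
  have hexp : ∀ v, ∃ s t : F, v = s • a₀ + t • a₁ := by
    intro v
    have hspan := hli.span_eq_top_of_card_eq_finrank (by simp)
    have hv : v ∈ Submodule.span F (Set.range ![a₀, a₁]) := hspan ▸ Submodule.mem_top
    rw [Matrix.range_cons, Matrix.range_cons, Matrix.range_empty, Set.union_empty,
      Set.singleton_union, Submodule.mem_span_pair] at hv
    obtain ⟨s, t, h⟩ := hv
    exact ⟨s, t, h.symm⟩
  have ha₁1 : f a₁ a₁ = 1 := by
    refine (self_cases K hf a₁).resolve_left fun h => ?_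
    obtain ⟨x, hx⟩ := (hf.nondegenerate a₁ ha₁0).2
    obtain ⟨s, t, rfl⟩ := hexp x
    rw [add_right K hf, smul_right K hf, smul_right K hf, ha₁, h] at hx
    simp at hx
  have hnorm : ∀ x : F, x ≠ 0 → x * K.bar x = 1 := by
    intro x hx
    have h := FiniteField.pow_card_sub_one_eq_one x hx
    rw [← Nat.card_eq_fintype_card, K.card] at h
    rw [K.bar_apply, ← h]
    norm_num [pow_succ]
    ring
  refine ⟨![a₀, a₁], fun i j hij => ?_, fun i => ?_, fun v hv => ?_⟩
  · fin_cases i <;> fin_cases j <;> first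
      | exact absurd rfl hij
      | exact ha₁
      | exact swap_zero K hf ha₁
  · fin_cases i
    · exact ha₀1
    · exact ha₁1
  · obtain ⟨s, t, rfl⟩ := hexp v
    by_cases hs : s = 0
    · exact ⟨1, t, by simp [hs]⟩
    by_cases ht : t = 0
    · exact ⟨0, s, by simp [ht]⟩
    exfalso
    apply hv
    rw [hf.add_left, hf.smul_left, hf.smul_left, add_right K hf, add_right K hf, smul_right K hf,
      smul_right K hf, smul_right K hf, smul_right K hf, ha₁, swap_zero K hf ha₁, ha₀1, ha₁1]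
    linear_combination hnorm s hs + hnorm t ht + h2

theorem exists_between {n n₂ : ℕ} (hn₂ : 3 ≤ n₂) (e : Fin n ≃ Fin 2 × Fin n₂) (P : GL (Fin n) F)
    {f₁ : (Fin 2 → F) → (Fin 2 → F) → F} {f₂ : (Fin n₂ → F) → (Fin n₂ → F) → F}
    (hf₁ : Cfsg.Geo.IsUnitaryFormPow 2 f₁) (hf₂ : Cfsg.Geo.IsUnitaryFormPow 2 f₂)
    (hT : Cfsg.Geo.IsTensorFormStructure (fun x : F => x ^ 2) (hermForm n F 2) f₁ f₂ e P) :
    ∃ M : Subgroup (GL (Fin n) F),
      Cfsg.Geo.tensorProductSubgroup 2 n₂ e P ⊓ (GU n F 2 ⊓ Cfsg.Geo.specialLinear (Fin n) F) < M ∧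
        M < GU n F 2 ⊓ Cfsg.Geo.specialLinear (Fin n) F := by
  classical
  have h2 := two_eq_zero K rfl
  obtain ⟨c, hc, hf⟩ := TensorMonomial.exists_form (σ := (K.bar : F →+* F))
    (fun x => (K.bar_apply x).symm)
    (TensorMonomial.eq_formOfGram hf₁.add_left hf₁.smul_left (add_right K hf₁) (smul_right K hf₁))
    (TensorMonomial.eq_formOfGram hf₂.add_left hf₂.smul_left (add_right K hf₂) (smul_right K hf₂))
    hT
  obtain ⟨a, horth, hone, hmono⟩ := plane_frame K hf₁
  obtain ⟨z, hz⟩ := exists_aniso K hf₂ (by omega)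
  obtain ⟨z', hz'0, hz'⟩ := exists_orth K hf₂ (z := z) (by omega)
  obtain ⟨w, hw0, hw⟩ : ∃ w, w ≠ 0 ∧ f₂ w w = 0 := by
    rcases self_cases K hf₂ z' with h | h
    · exact ⟨z', hz'0, h⟩
    refine ⟨z + z', fun e => hz ?_, ?_⟩
    · have := congrArg (fun v => f₂ v z) e
      simp only [hf₂.add_left, hz', zero_left K hf₂, add_zero] at this
      exact this
    · rw [hf₂.add_left, add_right K hf₂, add_right K hf₂, h, hz', swap_zero K hf₂ hz',
        (self_cases K hf₂ z).resolve_left hz]
      linear_combination h2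
  obtain ⟨⟨y, hy⟩, -⟩ := hf₂.nondegenerate w hw0
  have hndeg : ∀ v, v ≠ 0 → ∃ x, f₂ v x ≠ 0 := fun v hv => (hf₂.nondegenerate v hv).2
  refine TensorMonomial.exists_between_trans (k := 2) (T := TensorMonomial.tv e P)
    (f := hermForm n F 2) (p := f₁) (h := f₂) (c := c) (a := a)
    (fun w => h_zero_left K w) hc (h_add_left K) (h_smul_left K) (h_add_right K) hf hndeg horth
    (fun i => (hone i).symm ▸ one_ne_zero) (fun g hg hgG => ?_)
    (fun g hg => TensorMonomial.exists_factors e P hg) (fun u hu => ?_)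
    (i₀ := 0) (i₁ := 1) (by decide) hw0 hw hy (swap K hf₂ hy) (z := z) (y' := z)
    (by rw [hone, hone, (self_cases K hf₂ z).resolve_left hz]; linear_combination h2)
    hz hz hz'0 hz'
  · obtain ⟨A, B, hAB⟩ := TensorMonomial.exists_factors e P hg
    refine ⟨A, B, hAB, fun i => hmono _ fun h0 => ?_⟩
    have e := hgG.1 (TensorMonomial.tv e P (a i) z) (TensorMonomial.tv e P (a i) z)
    simp only [Units.coeHom_apply, hAB, hf, h0, hone, mul_zero, zero_mul, mul_one] at e
    exact mul_ne_zero hc hz e.symm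
  · obtain ⟨g, hg⟩ := exists_T K (c := (1 : F)) hu (by rw [map_one]; linear_combination h2)
    exact ⟨toGLHom g, (mem_range_iff _).2 ⟨g, rfl⟩, 1, one_ne_zero, hg.2.2⟩

end CfsgLib.Classical.TensorMonoUnitary
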