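import Cfsg.Agent.Lib.Classical.UnitaryMax

set_option autoImplicit false
set_option linter.unusedSectionVars false

/-!
For `q = 2` the stabiliser of a decomposition of a unitary space into non-degenerate planes fixes the
refined decomposition into anisotropic lines, so it is not maximal.
-/

namespace CfsgLib.Classical.HermDecompNotMax

open Matrix Cfsg CfsgLib.Classical.Herm
open CfsgLib.ClassicalAut (Unitary.Conj Unitary.space Unitary.rep)

variable {F : Type*} [Field F] [Fintype F] (K : Unitary.Conj F 2) {n t : ℕ}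

local notation "H" => hermForm n F 2
local notation "G" => SU n F 2

include K

theorem norm_zero_or_one (v : Fin n → F) : H v v = 0 ∨ H v v = 1 := by
  have h := bar_self K v
  rw [K.bar_apply] at h
  rcases mul_eq_zero.1 (show H v v * (H v v - 1) = 0 by linear_combination h) with h | h
  · exact Or.inl h
  · exact Or.inr (sub_eq_zero.1 h)

theorem cube_eq_one {x : F} (hx : x ≠ 0) : K.bar x * x = 1 := by
  have h := FiniteField.pow_card_sub_one_eq_one x hx
  rw [← Nat.card_eq_fintype_card, K.card] at h
  rw [K.bar_apply, ← h]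
  norm_num [pow_succ]

variable {D : Fin t → Submodule F (Fin n → F)}

theorem exists_norm_one (hD : Cfsg.Geo.IsNondegenerateMDecomposition H 2 D) (i : Fin t) :
    ∃ a ∈ D i, H a a = 1 := by
  by_contra hc
  push Not at hc
  have h0 : ∀ v ∈ D i, H v v = 0 := fun v hv => (norm_zero_or_one K v).resolve_right (hc v hv)
  obtain ⟨v, hv, hv0⟩ := Submodule.exists_mem_ne_zero_of_ne_bot (p := D i) fun e => by
    have := hD.decomp.finrank_eq i
    rw [e, finrank_bot] at this
    omega
  obtain ⟨y, hy, hvy⟩ := (hD.nondegenerate i v hv hv0).2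
  obtain ⟨w, hw, -⟩ := exists_omega K rfl
  have hwb : w + K.bar w = 1 := by
    have h2 := two_eq_zero K rfl
    rw [K.bar_apply]
    linear_combination hw - h2
  have := h0 (v + K.bar (w / H v y) • y) ((D i).add_mem hv ((D i).smul_mem _ hy))
  rw [h_add_left K, h_add_right K, h_add_right K, h_smul_left K, h_smul_left K, h_smul_right K,
    h_smul_right K, h0 v hv, h0 y hy, h_swap K v y] at this
  have e : K.bar (K.bar (w / H v y)) * H v y = w := by
    rw [K.bar_bar]
    exact div_mul_cancel₀ _ hvy
  have e' : K.bar (w / H v y) * K.bar (H v y) = K.bar w := by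
    rw [← map_mul, div_mul_cancel₀ _ hvy]
  rw [e, e'] at this
  exact one_ne_zero (α := F) (by linear_combination this - hwb)

theorem norm_one_cases (hD : Cfsg.Geo.IsNondegenerateMDecomposition H 2 D) {i : Fin t}
    {a v : Fin n → F} (ha : a ∈ D i) (haa : H a a = 1) (hv : v ∈ D i) (hvv : H v v = 1) :
    H v a = 0 ∨ v = H v a • a := by
  by_cases h : H v a = 0
  · exact Or.inl h
  right
  set w := v - H v a • a
  have hw : w ∈ D i := (D i).sub_mem hv ((D i).smul_mem _ ha)
  have hwa : H w a = 0 := by rw [h_sub_left K, h_smul_left K, haa, mul_one, sub_self]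
  have hva : v = w + H v a • a := (sub_add_cancel v _).symm
  have hn : H v v = H w w + 1 := by
    conv_lhs => rw [hva]
    rw [h_add_left K, h_add_right K, h_add_right K, h_smul_left K, h_smul_left K, h_smul_right K,
      h_smul_right K, hwa, h_eq_zero_symm K hwa, haa]
    rw [mul_zero, mul_zero, add_zero, zero_add, mul_one, mul_comm (H v a), cube_eq_one K h]
  have hww : H w w = 0 := by linear_combination hvv - hn
  by_contra hne
  have hw0 : w ≠ 0 := fun e => hne (sub_eq_zero.1 e)
  obtain ⟨y, hy, hwy⟩ := (hD.nondegenerate i w hw hw0).2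
  have hli : LinearIndependent F ![(⟨w, hw⟩ : D i), ⟨a, ha⟩] := by
    rw [LinearIndependent.pair_iff]
    intro s u hsu
    have h' : s • w + u • a = 0 := congrArg Subtype.val hsu
    have h1 := congrArg (fun z => H z a) h'
    simp only [h_add_left K, h_smul_left K, hwa, haa, h_zero_left K, mul_zero, mul_one, zero_add] at h1
    subst h1
    rw [zero_smul, add_zero, smul_eq_zero] at h'
    exact ⟨h'.resolve_right hw0, rfl⟩
  have hspan := hli.span_eq_top_of_card_eq_finrank (by rw [hD.decomp.finrank_eq]; simp)
  have hy' : (⟨y, hy⟩ : D i) ∈ Submodule.span F (Set.range ![(⟨w, hw⟩ : D i), ⟨a, ha⟩]) :=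
    hspan ▸ Submodule.mem_top
  rw [Matrix.range_cons, Matrix.range_cons, Matrix.range_empty, Set.union_empty,
    Set.singleton_union, Submodule.mem_span_pair] at hy'
  obtain ⟨s, u, hsu⟩ := hy'
  have h' : s • w + u • a = y := congrArg Subtype.val hsu
  apply hwy
  rw [← h', h_add_right K, h_smul_right K, h_smul_right K, hww, hwa, mul_zero, mul_zero, add_zero]

omit K in
/-- The norm-one vectors in the members of the decomposition. -/
def frame (D : Fin t → Submodule F (Fin n → F)) : Set (Fin n → F) :=
  {v | ∃ i, v ∈ D i ∧ hermForm n F 2 v v = 1}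

omit K in
/-- The stabiliser of the frame. -/
def fixer (D : Fin t → Submodule F (Fin n → F)) : Subgroup (SU n F 2) where
  carrier := {g | ∀ v, v ∈ frame D ↔ app g v ∈ frame D}
  one_mem' v := by rw [app_one]
  mul_mem' {a b} ha hb v := by rw [app_mul, ← ha, ← hb]
  inv_mem' {a} ha v := by rw [ha (app a⁻¹ v), app_inv']

theorem exists_between (hn : 13 ≤ n) (hD : Cfsg.Geo.IsNondegenerateMDecomposition H 2 D) :
    ∃ M : Subgroup (GL (Fin n) F),
      Cfsg.Geo.decompositionStabilizer D ⊓ (GU n F 2 ⊓ Cfsg.Geo.specialLinear (Fin n) F) < M ∧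
        M < GU n F 2 ⊓ Cfsg.Geo.specialLinear (Fin n) F := by
  classical
  choose a ha haa using exists_norm_one K hD
  have ht : 4 ≤ t := by
    by_contra h
    have h2 : Module.finrank F (Fin n → F) ≤ ∑ i, Module.finrank F (D i) := by
      calc Module.finrank F (Fin n → F) = Module.finrank F (⊤ : Submodule F (Fin n → F)) :=
            (finrank_top F _).symm
        _ ≤ Module.finrank F ↥(iSup D) := Submodule.finrank_mono hD.decomp.iSup_eq_top.ge
        _ ≤ _ := by
          rw [show iSup D = Finset.univ.sup D from (Finset.sup_univ_eq_iSup D).symm]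
          induction (Finset.univ : Finset (Fin t)) using Finset.induction_on with
          | empty => simp
          | @insert a s ha ih =>
            rw [Finset.sup_insert, Finset.sum_insert ha]
            exact (Submodule.finrank_add_le_finrank_add_finrank _ _).trans (Nat.add_le_add_left ih _)
    rw [Finset.sum_congr rfl fun i _ => hD.decomp.finrank_eq i, Finset.sum_const, Finset.card_univ,
      Fintype.card_fin, Module.finrank_fin_fun, smul_eq_mul] at h2
    omega
  let c : Fin 4 → Fin t := fun i => ⟨i, by omega⟩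
  have hc : Function.Injective c := fun i j h => Fin.ext (congrArg Fin.val h : _)
  have horth : ∀ i j, i ≠ j → ∀ x ∈ D i, ∀ y ∈ D j, H x y = 0 := hD.orthogonal
  have h2 := two_eq_zero K rfl
  have hone : (1 : F) + K.bar 1 = 0 := by rw [map_one]; linear_combination h2
  have hne : ∀ i, a i ≠ 0 := fun i e => one_ne_zero (α := F) (by rw [← haa i, e, h_zero_left K])
  refine ⟨(fixer D).map toGLHom, lt_of_le_not_ge ?_ fun hge => ?_,
    lt_of_le_not_ge (by rintro _ ⟨s, -, rfl⟩; exact (mem_range_iff _).2 ⟨s, rfl⟩) fun hge => ?_⟩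
  · intro g hg
    obtain ⟨s, rfl⟩ := (mem_range_iff g).1 hg.2
    refine ⟨s, fun v => ?_, rfl⟩
    obtain ⟨σ, hσ⟩ := hg.1
    constructor
    · rintro ⟨i, hi, hv⟩
      exact ⟨σ i, hσ i ▸ ⟨v, hi, rfl⟩, by rw [h_app]; exact hv⟩
    · rintro ⟨i, hi, hv⟩
      rw [h_app] at hv
      have h := hσ (σ.symm i)
      rw [Equiv.apply_symm_apply] at h
      obtain ⟨w, hw, e⟩ := (h.symm ▸ hi : app s v ∈ _)
      refine ⟨σ.symm i, ?_, hv⟩
      have e' : app s w = app s v := e
      have e2 := congrArg (app s⁻¹) e'
      rw [app_inv, app_inv] at e2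
      exact e2 ▸ hw
  · set u := a (c 0) + a (c 1)
    have h01 : c 0 ≠ c 1 := by simp [hc.eq_iff]
    have hu : H u u = 0 := by
      rw [h_add_left K, h_add_right K, h_add_right K, haa, haa, horth _ _ h01 _ (ha _) _ (ha _),
        horth _ _ h01.symm _ (ha _) _ (ha _), add_zero, zero_add]
      linear_combination h2
    obtain ⟨T, hT⟩ := exists_T K hu hone
    have hTT : ∀ x, app T (app T x) = x := fun x => by
      rw [hT.2.2, hT.2.2, h_add_left K, h_smul_left K, hu, mul_zero, add_zero, add_assoc,
        ← add_smul, ← two_mul, h2, zero_mul, zero_smul, add_zero]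
    have hfwd : ∀ v ∈ frame D, app T v ∈ frame D := by
      rintro v ⟨l, hl, hv⟩
      rw [hT.2.2, one_mul]
      have hnorm : ∀ m, H (H v u • a m) (H v u • a m) = H v u * K.bar (H v u) := fun m => by
        rw [h_smul_left K, h_smul_right K, haa, mul_one]
      have move : ∀ i j, i ≠ j → v ∈ D i → u = a i + a j → v + H v u • u ∈ frame D := by
        intro i j hij hvi he
        have hvu : H v u = H v (a i) := by
          rw [he, h_add_right K, horth i j hij v hvi _ (ha j), add_zero]
        rcases norm_one_cases K hD (ha i) (haa i) hvi hv with h | h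
        · rw [hvu, h, zero_smul, add_zero]; exact ⟨i, hvi, hv⟩
        · have hx : H v (a i) ≠ 0 := fun e => by
            rw [e, zero_smul] at h
            rw [h, h_zero_left K] at hv
            exact zero_ne_one hv
          have e : v + H v u • u = H v u • a j := by
            rw [hvu, he]
            conv_lhs => arg 1; rw [h]
            rw [smul_add, ← add_assoc, ← add_smul, ← two_mul, h2, zero_mul, zero_smul, zero_add]
          rw [e]
          exact ⟨j, (D j).smul_mem _ (ha j), by rw [hnorm, hvu, mul_comm, cube_eq_one K hx]⟩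
      by_cases l0 : l = c 0
      · subst l0; exact move (c 0) (c 1) h01 hl rfl
      by_cases l1 : l = c 1
      · subst l1; exact move (c 1) (c 0) h01.symm hl (add_comm _ _)
      rw [show H v u = 0 by
        rw [h_add_right K, horth l _ l0 v hl _ (ha _), horth l _ l1 v hl _ (ha _), add_zero],
        zero_smul, add_zero]
      exact ⟨l, hl, hv⟩
    have hTK : T ∈ fixer D := fun v => ⟨hfwd v, fun h => hTT v ▸ hfwd _ h⟩
    obtain ⟨σ, hσ⟩ := (hge ⟨T, hTK, rfl⟩).1
    have hmap : ∀ i, ∀ x ∈ D i, app T x ∈ D (σ i) := fun i x hx => hσ i ▸ ⟨x, hx, rfl⟩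
    have h1 : app T (a (c 0)) = a (c 1) := by
      rw [hT.2.2, one_mul, h_add_right K, haa, horth _ _ h01 _ (ha _) _ (ha _), add_zero, one_smul,
        ← add_assoc, ← two_smul F, h2, zero_smul, zero_add]
    obtain ⟨y, hy, hy0, hya⟩ : ∃ y ∈ D (c 0), y ≠ 0 ∧ H y (a (c 0)) = 0 := by
      let L : D (c 0) →ₗ[F] F :=
        { toFun := fun y => H (y : Fin n → F) (a (c 0))
          map_add' := fun p q => h_add_left K _ _ _
          map_smul' := fun r p => h_smul_left K r _ _ }
      have h1 := L.finrank_range_add_finrank_ker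
      have h2 : Module.finrank F (LinearMap.range L) ≤ 1 :=
        (Submodule.finrank_le _).trans_eq (Module.finrank_self F)
      rw [hD.decomp.finrank_eq] at h1
      obtain ⟨y, hy, hy0⟩ := Submodule.exists_mem_ne_zero_of_ne_bot (p := LinearMap.ker L) fun e => by
        rw [e, finrank_bot] at h1; omega
      exact ⟨y, y.2, fun e => hy0 (Subtype.ext e), LinearMap.mem_ker.1 hy⟩
    have h2' : app T y = y := by
      rw [hT.2.2, one_mul, h_add_right K, hya, horth _ _ h01 y hy _ (ha _), add_zero, zero_smul, add_zero]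
    have e1 : σ (c 0) = c 1 := by
      by_contra hne'
      have h := hmap _ _ (ha (c 0))
      rw [h1] at h
      exact one_ne_zero (α := F) ((haa (c 1)).symm.trans (horth _ _ hne' _ h _ (ha _)))
    have h := hmap _ _ hy
    rw [h2', e1] at h
    obtain ⟨z, hz, hyz⟩ := (hD.nondegenerate _ y hy hy0).2
    exact hyz (horth _ _ h01.symm y h z hz)
  · set u := a (c 0) + a (c 1) + a (c 2) + a (c 3)
    have o : ∀ i j, i ≠ j → H (a (c i)) (a (c j)) = 0 := fun i j h =>
      horth _ _ (hc.ne h) _ (ha _) _ (ha _)
    have hau : ∀ i, H (a (c i)) u = 1 := by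
      intro i
      simp only [u, h_add_right K]
      fin_cases i <;>
        simp [haa, o 0 1, o 0 2, o 0 3, o 1 0, o 1 2, o 1 3, o 2 0, o 2 1, o 2 3, o 3 0, o 3 1, o 3 2]
    have hu : H u u = 0 := by
      conv_lhs => arg 4; rw [show u = a (c 0) + a (c 1) + a (c 2) + a (c 3) from rfl]
      rw [h_add_left K, h_add_left K, h_add_left K, hau, hau, hau, hau]
      linear_combination (2 : F) * h2
    obtain ⟨T, hT⟩ := exists_T K hu hone
    obtain ⟨s, hs, e⟩ := hge ((mem_range_iff (toGLHom T)).2 ⟨T, rfl⟩)
    obtain rfl : s = T := ext_app fun x =>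
      congrArg (fun g : GL (Fin n) F => (g : Matrix (Fin n) (Fin n) F) *ᵥ x) e
    obtain ⟨l, hl, -⟩ := (hs (a (c 0))).1 ⟨c 0, ha _, haa _⟩
    rw [hT.2.2, one_mul, hau, one_smul] at hl
    set w := a (c 0) + u
    have hw1 : H w (a (c 1)) = 1 := by
      simp only [w, u, h_add_left K]
      simp [haa, o 0 1, o 2 1, o 3 1]
    have hw2 : H w (a (c 2)) = 1 := by
      simp only [w, u, h_add_left K]
      simp [haa, o 0 2, o 1 2, o 3 2]
    have hl1 : l = c 1 := by
      by_contra h
      exact one_ne_zero (α := F) (hw1.symm.trans (horth _ _ h w hl _ (ha _)))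
    have hl2 : l = c 2 := by
      by_contra h
      exact one_ne_zero (α := F) (hw2.symm.trans (horth _ _ h w hl _ (ha _)))
    exact absurd (hc (hl1.symm.trans hl2)) (by decide)

end CfsgLib.Classical.HermDecompNotMax
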