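import Cfsg.Agent.Lib.Classical.AschUnitBasic
import Cfsg.Agent.Lib.Classical.UnitaryDecompNotMax
import Cfsg.Agent.Lib.Classical.TensorMonoUnitary

set_option autoImplicit false
set_option linter.unusedSectionVars false

/-!
For `q = 2`: planes refine to lines, and a product with a plane is a decomposition into two parts.
-/

namespace CfsgLib.Asch.UnitSmall

open Matrix
open Cfsg (hermForm GU)
open Cfsg.Geo (decompositionStabilizer IsMDecomposition IsNondegenerateMDecomposition tensorProductSubgroup)
open CfsgLib.ClassicalAut (Unitary.Conj)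
open CfsgLib.Classical.Herm (h_add_left h_add_right h_smul_left h_smul_right h_zero_left h_eq_zero_symm)
open scoped MatrixGroups

variable {F : Type*} [Field F] [Fintype F] {n : ℕ}

/-- Mapping each member into some member is enough to stabilise a decomposition. -/
theorem mem_decomp_of_maps {t k : ℕ} {D : Fin t → Submodule F (Fin n → F)} (hD : IsMDecomposition k D)
    {g : GL (Fin n) F} (h : ∀ i, ∃ j, ∀ v ∈ D i, (g : Matrix (Fin n) (Fin n) F) *ᵥ v ∈ D j) :
    g ∈ decompositionStabilizer D := by
  classical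
  choose π hπ using h
  have hmap : ∀ i, (D i).map (Matrix.toLin' (g : Matrix (Fin n) (Fin n) F)) = D (π i) := fun i => by
    refine Submodule.eq_of_le_of_finrank_eq ?_ ?_
    · rintro _ ⟨v, hv, rfl⟩
      rw [Matrix.toLin'_apply]
      exact hπ i v hv
    · rw [← (Submodule.equivMapOfInjective _ (PrimeDim.mulVec_injective g) (D i)).finrank_eq, hD.finrank_eq,
        hD.finrank_eq]
  have hne : ∀ i, D i ≠ ⊥ := fun i e => by
    have := hD.finrank_eq i
    rw [e, finrank_bot] at this
    have := hD.pos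
    omega
  have hinj : Function.Injective π := fun i j e => by
    by_contra hij
    have h1 : D i = D j := Submodule.map_injective_of_injective (f := Matrix.toLin' (g : Matrix (Fin n) (Fin n) F))
      (PrimeDim.mulVec_injective g) (by rw [hmap, hmap, e])
    have hd := hD.indep.pairwiseDisjoint hij
    simp only [Function.onFun, ← h1, disjoint_self] at hd
    exact hne i hd
  exact ⟨Equiv.ofBijective π ⟨hinj, Finite.injective_iff_surjective.1 hinj⟩, hmap⟩

variable (K : Unitary.Conj F 2)

include K in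
/-- Non-degenerate planes over four elements refine to orthogonal lines. -/
theorem planes_lines {t : ℕ} {D : Fin t → Submodule F (Fin n → F)} (htn : t * 2 = n)
    (hD : IsNondegenerateMDecomposition (hermForm n F 2) 2 D) :
    ∃ D' : Fin n → Submodule F (Fin n → F), IsNondegenerateMDecomposition (hermForm n F 2) 1 D' ∧
      GU n F 2 ⊓ decompositionStabilizer D ≤ decompositionStabilizer D' := by
  classical
  choose a ha haa using Classical.HermDecompNotMax.exists_norm_one K hD
  have hb : ∀ i, ∃ b ∈ D i, b ≠ 0 ∧ hermForm n F 2 b (a i) = 0 := fun i => by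
    let L : D i →ₗ[F] F :=
      { toFun := fun y => hermForm n F 2 (y : Fin n → F) (a i)
        map_add' := fun p q => h_add_left K _ _ _
        map_smul' := fun r p => h_smul_left K r _ _ }
    have h1 := L.finrank_range_add_finrank_ker
    have h2 : Module.finrank F (LinearMap.range L) ≤ 1 :=
      (Submodule.finrank_le _).trans_eq (Module.finrank_self F)
    rw [hD.decomp.finrank_eq] at h1
    obtain ⟨y, hy, hy0⟩ := Submodule.exists_mem_ne_zero_of_ne_bot (p := LinearMap.ker L) fun e => by
      rw [e, finrank_bot] at h1; omega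
    exact ⟨y, y.2, fun e => hy0 (Subtype.ext e), LinearMap.mem_ker.1 hy⟩
  choose b hb hb0 hba using hb
  have hspan : ∀ i, ∀ v ∈ D i, ∃ s u : F, v = s • a i + u • b i := by
    intro i v hv
    have hli : LinearIndependent F ![(⟨a i, ha i⟩ : D i), ⟨b i, hb i⟩] := by
      rw [LinearIndependent.pair_iff]
      intro s u hsu
      have h' : s • a i + u • b i = 0 := congrArg Subtype.val hsu
      have h1 := congrArg (fun z => hermForm n F 2 z (a i)) h'
      simp only [h_add_left K, h_smul_left K, hba, haa, h_zero_left K, mul_zero, mul_one, add_zero] at h1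
      subst h1
      rw [zero_smul, zero_add, smul_eq_zero] at h'
      exact ⟨rfl, h'.resolve_right (hb0 i)⟩
    have hs := hli.span_eq_top_of_card_eq_finrank (by rw [hD.decomp.finrank_eq]; simp)
    have hy' : (⟨v, hv⟩ : D i) ∈ Submodule.span F (Set.range ![(⟨a i, ha i⟩ : D i), ⟨b i, hb i⟩]) :=
      hs ▸ Submodule.mem_top
    rw [Matrix.range_cons, Matrix.range_cons, Matrix.range_empty, Set.union_empty,
      Set.singleton_union, Submodule.mem_span_pair] at hy'
    obtain ⟨s, u, hsu⟩ := hy'
    exact ⟨s, u, (congrArg Subtype.val hsu).symm⟩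
  have hbb : ∀ i, hermForm n F 2 (b i) (b i) = 1 := fun i => by
    refine (Classical.HermDecompNotMax.norm_zero_or_one K _).resolve_left fun h0 => ?_
    obtain ⟨y, hy, hne⟩ := (hD.nondegenerate i (b i) (hb i) (hb0 i)).2
    obtain ⟨s, u, rfl⟩ := hspan i y hy
    rw [h_add_right K, h_smul_right K, h_smul_right K, hba, h0, mul_zero, mul_zero, add_zero] at hne
    exact hne rfl
  let e : Fin n ≃ Fin t × Fin 2 := (finCongr htn.symm).trans finProdFinEquiv.symm
  let vec : Fin n → Fin n → F := fun l => if (e l).2 = 0 then a (e l).1 else b (e l).1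
  have hvD : ∀ l, vec l ∈ D (e l).1 := fun l => by simp only [vec]; split <;> simp [ha, hb]
  have hvv : ∀ l, hermForm n F 2 (vec l) (vec l) = 1 := fun l => by simp only [vec]; split <;> simp [haa, hbb]
  have hvo : ∀ l l', l ≠ l' → hermForm n F 2 (vec l) (vec l') = 0 := by
    intro l l' hne
    by_cases h1 : (e l).1 = (e l').1
    · have h2 : (e l).2 ≠ (e l').2 := fun h2 => hne (e.injective (Prod.ext h1 h2))
      simp only [vec, h1]
      generalize (e l).2 = c at h2 ⊢
      generalize (e l').2 = c' at h2 ⊢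
      fin_cases c <;> fin_cases c' <;> first
        | exact absurd rfl h2
        | simp [hba, h_eq_zero_symm K (hba (e l').1)]
    · exact hD.orthogonal _ _ h1 _ (hvD l) _ (hvD l')
  have hv0 : ∀ l, vec l ≠ 0 := fun l e0 => one_ne_zero (α := F) (by rw [← hvv l, e0, h_zero_left K])
  have hind : LinearIndependent F vec := by
    refine Fintype.linearIndependent_iff.2 fun g hg l => ?_
    have h1 := congrArg (fun z => hermForm n F 2 z (vec l)) hg
    let L : (Fin n → F) →ₗ[F] F :=
      { toFun := fun z => hermForm n F 2 z (vec l)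
        map_add' := fun x y => h_add_left K x y _
        map_smul' := fun c x => h_smul_left K c x _ }
    change L _ = L _ at h1
    rw [map_sum, map_zero, Finset.sum_eq_single l] at h1
    · simpa [L, h_smul_left K, hvv] using h1
    · intro l' _ hl
      simp [L, h_smul_left K, hvo l' l hl]
    · simp
  have hdec : IsMDecomposition 1 (fun l => Submodule.span F {vec l}) := by
    refine ⟨?_, one_pos, fun l => finrank_span_singleton (hv0 l), hind.iSupIndep_span_singleton, ?_⟩
    · have := hD.decomp.two_le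
      omega
    · rw [← Submodule.span_range_eq_iSup]
      exact hind.span_eq_top_of_card_eq_finrank' (by simp)
  refine ⟨_, ⟨hdec, fun l x hx hx0 => ?_, fun l l' hne x hx y hy => ?_⟩, fun g hg => ?_⟩
  · obtain ⟨c, rfl⟩ := Submodule.mem_span_singleton.1 hx
    have hc : c ≠ 0 := fun e0 => hx0 (by rw [e0, zero_smul])
    refine ⟨⟨vec l, Submodule.mem_span_singleton_self _, ?_⟩, ⟨vec l, Submodule.mem_span_singleton_self _, ?_⟩⟩
    · rw [h_smul_right K, hvv, mul_one]
      exact fun h => hc (K.bar.injective (h.trans (map_zero _).symm))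
    · rwa [h_smul_left K, hvv, mul_one]
  · obtain ⟨c, rfl⟩ := Submodule.mem_span_singleton.1 hx
    obtain ⟨c', rfl⟩ := Submodule.mem_span_singleton.1 hy
    rw [h_smul_left K, h_smul_right K, hvo l l' hne, mul_zero, mul_zero]
  · obtain ⟨hgu, σ, hσ⟩ := hg
    refine mem_decomp_of_maps hdec fun l => ?_
    set w := (g : Matrix (Fin n) (Fin n) F) *ᵥ vec l with hw
    set i := σ (e l).1
    have hwD : w ∈ D i := by
      rw [← hσ (e l).1]
      exact ⟨vec l, hvD l, Matrix.toLin'_apply _ _⟩
    have hww : hermForm n F 2 w w = 1 := (hgu _ _).trans (hvv l)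
    obtain ⟨j, hj⟩ : ∃ j, ∃ c : F, w = c • vec j := by
      rcases Classical.HermDecompNotMax.norm_one_cases K hD (ha i) (haa i) hwD hww with h | h
      · refine ⟨e.symm (i, 1), ?_⟩
        simp only [vec, Equiv.apply_symm_apply]
        obtain ⟨s, u, hsu⟩ := hspan i w hwD
        refine ⟨u, ?_⟩
        rw [hsu, h_add_left K, h_smul_left K, h_smul_left K, hba, haa, mul_one, mul_zero, add_zero] at h
        rw [hsu, h]
        simp
      · refine ⟨e.symm (i, 0), hermForm n F 2 w (a i), ?_⟩
        simp only [vec, Equiv.apply_symm_apply, if_true]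
        exact h
    obtain ⟨c, hc⟩ := hj
    refine ⟨j, fun v hv => ?_⟩
    obtain ⟨x, rfl⟩ := Submodule.mem_span_singleton.1 hv
    rw [mulVec_smul, ← hw, hc, smul_smul]
    exact Submodule.mem_span_singleton.2 ⟨_, rfl⟩

include K in
/-- A product with a plane over four elements is a decomposition into two parts. -/
theorem tensor_decomp {n₂ : ℕ} (hn₂ : 1 ≤ n₂) (e : Fin n ≃ Fin 2 × Fin n₂) (P : GL (Fin n) F)
    {f₁ : (Fin 2 → F) → (Fin 2 → F) → F} {f₂ : (Fin n₂ → F) → (Fin n₂ → F) → F}
    (hf₁ : Cfsg.Geo.IsUnitaryFormPow 2 f₁) (hf₂ : Cfsg.Geo.IsUnitaryFormPow 2 f₂)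
    (hT : Cfsg.Geo.IsTensorFormStructure (fun x : F => x ^ 2) (hermForm n F 2) f₁ f₂ e P) :
    ∃ D : Fin 2 → Submodule F (Fin n → F), IsNondegenerateMDecomposition (hermForm n F 2) n₂ D ∧
      GU n F 2 ⊓ tensorProductSubgroup 2 n₂ e P ≤ decompositionStabilizer D := by
  classical
  obtain ⟨c, hc, hf⟩ := Classical.TensorMonomial.exists_form (σ := (K.bar : F →+* F))
    (fun x => (K.bar_apply x).symm)
    (Classical.TensorMonomial.eq_formOfGram hf₁.add_left hf₁.smul_left
      (Classical.TensorMonoUnitary.add_right K hf₁) (Classical.TensorMonoUnitary.smul_right K hf₁))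
    (Classical.TensorMonomial.eq_formOfGram hf₂.add_left hf₂.smul_left
      (Classical.TensorMonoUnitary.add_right K hf₂) (Classical.TensorMonoUnitary.smul_right K hf₂))
    hT
  obtain ⟨a, horth, hone, hmono⟩ := Classical.TensorMonoUnitary.plane_frame K hf₁
  set T := Classical.TensorMonomial.tv e P with hTdef
  have hnd : ∀ i, ∀ y, y ≠ 0 → ∃ z, hermForm n F 2 (T (a i) y) (T (a i) z) ≠ 0 := fun i y hy => by
    obtain ⟨z, hz⟩ := (hf₂.nondegenerate y hy).2
    exact ⟨z, by rw [hf, hone, mul_one]; exact mul_ne_zero hc hz⟩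
  have hinj : ∀ i, Function.Injective (T (a i)) := fun i => by
    refine LinearMap.ker_eq_bot.1 (LinearMap.ker_eq_bot'.2 fun y hy => ?_)
    by_contra hy0
    obtain ⟨z, hz⟩ := hnd i y hy0
    rw [hy, h_zero_left K] at hz
    exact hz rfl
  have hdim : ∀ i, Module.finrank F (LinearMap.range (T (a i))) = n₂ := fun i => by
    rw [LinearMap.finrank_range_of_inj (hinj i), Module.finrank_fin_fun]
  have ho : ∀ i j, i ≠ j → ∀ x ∈ LinearMap.range (T (a i)), ∀ y ∈ LinearMap.range (T (a j)),
      hermForm n F 2 x y = 0 := by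
    rintro i j hij _ ⟨x, rfl⟩ _ ⟨y, rfl⟩
    rw [hf, horth i j hij, mul_zero, zero_mul]
  have hdec : IsMDecomposition n₂ fun i => LinearMap.range (T (a i)) := by
    have hdisj : Disjoint (LinearMap.range (T (a 0))) (LinearMap.range (T (a 1))) := by
      rw [Submodule.disjoint_def]
      rintro x hx hx1
      by_contra hx0
      obtain ⟨y, rfl⟩ := hx
      obtain ⟨z, hz⟩ := hnd 0 y (fun e0 => hx0 (by rw [e0, map_zero]))
      exact hz (ho 1 0 (by decide) _ hx1 _ ⟨z, rfl⟩)
    refine ⟨le_rfl, hn₂, hdim, ?_, ?_⟩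
    · rw [iSupIndep_pair (show (0 : Fin 2) ≠ 1 by decide) (fun k => by fin_cases k <;> simp)]
      exact hdisj
    · have h1 := Submodule.finrank_sup_add_finrank_inf_eq (LinearMap.range (T (a 0))) (LinearMap.range (T (a 1)))
      rw [hdisj.eq_bot, finrank_bot, hdim, hdim, add_zero] at h1
      have h2 : n = n₂ + n₂ := by simpa [two_mul] using Fintype.card_congr e
      have h3 : LinearMap.range (T (a 0)) ⊔ LinearMap.range (T (a 1)) = ⊤ :=
        Submodule.eq_top_of_finrank_eq (by rw [h1, Module.finrank_fin_fun, h2])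
      refine eq_top_iff.2 (h3 ▸ sup_le ?_ ?_) <;>
        exact le_iSup (fun i => LinearMap.range (T (a i))) _
  refine ⟨_, ⟨hdec, fun i x hx hx0 => ?_, ho⟩, fun g hg => ?_⟩
  · obtain ⟨y, rfl⟩ := hx
    obtain ⟨z, hz⟩ := hnd i y (fun e0 => hx0 (by rw [e0, map_zero]))
    exact ⟨⟨T (a i) z, ⟨z, rfl⟩, fun h => hz (h_eq_zero_symm K h)⟩, ⟨T (a i) z, ⟨z, rfl⟩, hz⟩⟩
  · obtain ⟨A, B, hAB⟩ := Classical.TensorMonomial.exists_factors e P hg.2
    refine mem_decomp_of_maps hdec fun i => ?_
    obtain ⟨y₀, hy₀⟩ := Classical.TensorMonoUnitary.exists_aniso K hf₂ hn₂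
    have hne : f₁ (A (a i)) (A (a i)) ≠ 0 := fun h0 => by
      have h1 := hg.1 (T (a i) y₀) (T (a i) y₀)
      simp only [Units.coeHom_apply] at h1
      rw [hTdef, hAB, ← hTdef, hf, hf, h0, hone, mul_zero, zero_mul, mul_one] at h1
      exact mul_ne_zero hc hy₀ h1.symm
    obtain ⟨j, l, hl⟩ := hmono _ hne
    refine ⟨j, ?_⟩
    rintro _ ⟨y, rfl⟩
    refine ⟨l • B y, ?_⟩
    rw [hTdef, hAB, hl, map_smul, map_smul, LinearMap.smul_apply]

end CfsgLib.Asch.UnitSmall
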