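import Cfsg.Agent.Lib.Classical.AschUnit
import Cfsg.Agent.Lib.Classical.AschUnitNotLe
import Cfsg.Agent.Lib.Classical.AschUnitSmall
import Cfsg.Agent.Lib.Classical.AschUnitPair

set_option autoImplicit false
set_option linter.unusedSectionVars false

/-!
Maximal subgroups of the special unitary group in dimension at least four.
-/

namespace CfsgLib.Asch

open Matrix
open Cfsg (hermForm GU)
open Cfsg.Geo (subspaceStabilizer decompositionStabilizer subalgebraNormalizer tensorProductSubgroup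
  tensorWreathSubgroup subgroupNormalizer)
open CfsgLib.PrimeDim (SUGL)
open CfsgLib.ClassicalAut (Unitary.Conj)
open scoped MatrixGroups Kronecker

variable {F : Type*} [Field F] [Fintype F] {q n : ℕ}

theorem key_unit {H : Subgroup (GL (Fin n) F)} (hH : Cfsg.Geo.IsMaximalIn (SUGL n F q) H)
    (M : Subgroup (GL (Fin n) F)) (hle : H ≤ M) (hnot : ¬ SUGL n F q ≤ M) : H = M ⊓ SUGL n F q := by
  rcases hH.2 (M ⊓ SUGL n F q) (le_inf hle hH.1.le) inf_le_right with h | h
  · exact h.symm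
  · exact absurd (h.symm.le.trans inf_le_left) hnot

/-- The kinds of maximal subgroups of the special unitary group. -/
inductive UnitMaxCases (q : ℕ) (H : Subgroup (GL (Fin n) F)) : Prop
  | ts (W : Submodule F (Fin n → F)) : W ≠ ⊥ → Cfsg.Geo.IsTotallySingularFor (hermForm n F q) W →
      H = subspaceStabilizer W ⊓ SUGL n F q → UnitMaxCases q H
  | nd (W : Submodule F (Fin n → F)) : W ≠ ⊥ → Cfsg.Geo.IsNondegenerateOn (hermForm n F q) W →
      2 * Module.finrank F W < n → H = subspaceStabilizer W ⊓ SUGL n F q → UnitMaxCases q H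
  | decomp (t k : ℕ) (D : Fin t → Submodule F (Fin n → F)) : t * k = n → 2 ≤ t → (k = 2 → 3 ≤ q) →
      Cfsg.Geo.IsNondegenerateMDecomposition (hermForm n F q) k D →
      H = decompositionStabilizer D ⊓ SUGL n F q → UnitMaxCases q H
  | tsPair (k : ℕ) (D : Fin 2 → Submodule F (Fin n → F)) : 2 * k = n → (n = 4 → 4 ≤ q) →
      Cfsg.Geo.IsMDecomposition k D → (∀ i, Cfsg.Geo.IsTotallySingularFor (hermForm n F q) (D i)) →
      H = decompositionStabilizer D ⊓ SUGL n F q → UnitMaxCases q H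
  | field (r : ℕ) (L : Subalgebra F (Matrix (Fin n) (Fin n) F)) : r.Prime → Odd r → r ∣ n →
      Cfsg.Geo.IsFieldSubalgebra r L → Cfsg.Geo.IsAdjointClosedFor (hermForm n F q) L →
      H = subalgebraNormalizer L ⊓ SUGL n F q → UnitMaxCases q H
  | tensor (n₁ n₂ : ℕ) (e : Fin n ≃ Fin n₁ × Fin n₂) (P : GL (Fin n) F)
      (f₁ : (Fin n₁ → F) → (Fin n₁ → F) → F) (f₂ : (Fin n₂ → F) → (Fin n₂ → F) → F) :
      2 ≤ n₁ → n₁ < n₂ → n₁ * n₂ = n → (n₁ = 2 → 3 ≤ q) → Cfsg.Geo.IsUnitaryFormPow q f₁ →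
      Cfsg.Geo.IsUnitaryFormPow q f₂ →
      Cfsg.Geo.IsTensorFormStructure (fun x : F => x ^ q) (hermForm n F q) f₁ f₂ e P →
      H = tensorProductSubgroup n₁ n₂ e P ⊓ SUGL n F q → UnitMaxCases q H
  | rational (F₀ : Subfield F) (r : ℕ) (P : GL (Fin n) F) : r.Prime → Odd r →
      Fintype.card F = Nat.card F₀ ^ r → Cfsg.Geo.IsFormRationalStructure (hermForm n F q) F₀ 1 P →
      H = Cfsg.Geo.subfieldSubgroup F₀ P ⊓ SUGL n F q → UnitMaxCases q H
  | rationalSkew (F₀ : Subfield F) (P : GL (Fin n) F) (ζ : F) : Even n → Fintype.card F = Nat.card F₀ ^ 2 →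
      ζ ≠ 0 → ζ + ζ ^ q = 0 → Cfsg.Geo.IsFormRationalStructure (hermForm n F q) F₀ ζ P →
      (∀ u : Fin n → F, (∀ i, u i ∈ F₀) → hermForm n F q ((P : Matrix (Fin n) (Fin n) F) *ᵥ u)
        ((P : Matrix (Fin n) (Fin n) F) *ᵥ u) = 0) →
      H = Cfsg.Geo.subfieldSubgroup F₀ P ⊓ SUGL n F q → UnitMaxCases q H
  | rationalTwo (F₀ : Subfield F) (P : GL (Fin n) F) : Odd q → Fintype.card F = Nat.card F₀ ^ 2 →
      Cfsg.Geo.IsFormRationalStructure (hermForm n F q) F₀ 1 P →
      H = Cfsg.Geo.subfieldSubgroup F₀ P ⊓ SUGL n F q → UnitMaxCases q H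
  | heis (r : ℕ) (R : Subgroup (GL (Fin n) F)) (p e k : ℕ) : Cfsg.Geo.IsSymplecticTypeGroup r R →
      Cfsg.Geo.ActsAbsolutelyIrreducibly (Cfsg.Geo.matrixSet R) →
      R ≤ Cfsg.Geo.similarityGroup (hermForm n F q) → r ≠ p → n = r ^ k → 1 ≤ k → p.Prime →
      Cfsg.Geo.IsMinimalFieldFor (Nat.card (Subgroup.center R)) p e F →
      ((Odd r ∧ Nat.card (Subgroup.center R) = r ∧ 1 ≤ k ∧ Nat.card R = r ^ (1 + 2 * k)) ∨
        (r = 2 ∧ e = 2 ∧ Nat.card (Subgroup.center R) = 4 ∧ Nat.card R = 2 ^ (2 + 2 * k))) →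
      H = subgroupNormalizer R ⊓ SUGL n F q → UnitMaxCases q H
  | power (k t : ℕ) (e : Fin n ≃ (Fin t → Fin k)) (P : GL (Fin n) F) (f₁ : (Fin k → F) → (Fin k → F) → F) :
      3 ≤ k → 2 ≤ t → ¬ (q = 2 ∧ k = 3) → k ^ t = n → Cfsg.Geo.IsUnitaryFormPow q f₁ →
      Cfsg.Geo.IsTensorPowerFormStructure (fun x : F => x ^ q) (hermForm n F q) f₁ e P →
      H = tensorWreathSubgroup k t e P ⊓ SUGL n F q → UnitMaxCases q H
  | residual : Cfsg.Geo.InUnitaryResidualClass H → UnitMaxCases q H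

theorem decomp_unit (K : Unitary.Conj F q) (hn : 4 ≤ n) {H : Subgroup (GL (Fin n) F)}
    (hH : Cfsg.Geo.IsMaximalIn (SUGL n F q) H) {t k : ℕ} {D : Fin t → Submodule F (Fin n → F)} (htk : t * k = n)
    (hD : Cfsg.Geo.IsNondegenerateMDecomposition (hermForm n F q) k D) (hle : H ≤ decompositionStabilizer D) :
    UnitMaxCases q H := by
  have hline : ∀ D' : Fin n → Submodule F (Fin n → F),
      Cfsg.Geo.IsNondegenerateMDecomposition (hermForm n F q) 1 D' → H ≤ decompositionStabilizer D' →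
      UnitMaxCases q H := fun D' hD' hle' =>
    .decomp n 1 D' (mul_one n) (by omega) (fun h => absurd h (by norm_num)) hD'
      (key_unit hH _ hle' (PrimeDim.sugl_not_le_decomposition K (by omega) (Or.inr hn) hD'))
  rcases Nat.lt_or_ge k 2 with hk | hk
  · obtain rfl : k = 1 := by have := hD.decomp.pos; omega
    obtain rfl : t = n := by omega
    exact hline D hD hle
  by_cases hex : k = 2 ∧ q = 2
  · obtain ⟨rfl, rfl⟩ := hex
    obtain ⟨D', hD', hle'⟩ := UnitSmall.planes_lines K htk hD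
    exact hline D' hD' (fun g hg => hle' ⟨(hH.1.le hg).1, hle hg⟩)
  · exact .decomp t k D htk hD.decomp.two_le (fun h => by have := K.two_le; by_contra hlt; exact hex ⟨h, by omega⟩)
      hD (key_unit hH _ hle (UnitNotLe.not_le_decomp K hk hD.decomp))

theorem subfield_ne_top {F₀ : Subfield F} {r : ℕ} (hr : 2 ≤ r) (h : Fintype.card F = Nat.card F₀ ^ r) : F₀ ≠ ⊤ := by
  rintro rfl
  rw [← Nat.card_eq_fintype_card, show Nat.card (⊤ : Subfield F) = Nat.card F from
    Nat.card_congr (Subfield.topEquiv).toEquiv] at h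
  have := Nat.pow_right_injective (Finite.one_lt_card (α := F)) ((pow_one _).trans h)
  omega

theorem rational_unit (K : Unitary.Conj F q) (hn : 3 ≤ n) {H : Subgroup (GL (Fin n) F)}
    (hH : Cfsg.Geo.IsMaximalIn (SUGL n F q) H) (h : URationalCase q H) : UnitMaxCases q H := by
  rcases h with ⟨F₀, r, P, hr, hro, hcard, hrat, hle⟩ | ⟨F₀, P, hq, hcard, hrat, hle⟩ |
    ⟨F₀, P, ζ, hev, hcard, hζ, hζ', hrat, hiso, hle⟩
  · exact .rational F₀ r P hr hro hcard hrat
      (key_unit hH _ hle (PrimeDim.sugl_not_le_subfield K hn (subfield_ne_top hr.two_le hcard) P))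
  · exact .rationalTwo F₀ P hq hcard hrat
      (key_unit hH _ hle (PrimeDim.sugl_not_le_subfield K hn (subfield_ne_top le_rfl hcard) P))
  · exact .rationalSkew F₀ P ζ hev hcard hζ hζ' hrat hiso
      (key_unit hH _ hle (PrimeDim.sugl_not_le_subfield K hn (subfield_ne_top le_rfl hcard) P))

/-- Every maximal subgroup of the special unitary group is of one of these kinds. -/
theorem unit_max_cases (K : Unitary.Conj F q) (hn : 4 ≤ n) {H : Subgroup (GL (Fin n) F)}
    (hH : Cfsg.Geo.IsMaximalIn (SUGL n F q) H) : UnitMaxCases q H := by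
  classical
  haveI : Nonempty (Fin n) := ⟨⟨0, by omega⟩⟩
  have hiso : ∀ g ∈ H, Iso K.bar 1 g.val := fun g hg => iso_of_gu K (hH.1.le hg).1
  have hf := herm_eq (n := n) K
  have hd := std_data (n := n) K
  have hbar : (fun x : F => x ^ q) = ⇑K.bar := funext fun x => (K.bar_apply x).symm
  rcases unit_structure K (by omega) hiso with
    ⟨W, h0, hW, hle⟩ | ⟨W, h0, hW, hdim, hle⟩ | ⟨t, k, D, htk, hD, hle⟩ | ⟨k, D, hk, hD, hts, hle⟩ |
    ⟨r, L, hr, hro, hrn, hL, hcl, hle⟩ | ⟨n₁, n₂, e, P, J₁, J₂, hn₁, hn₂, hnn, hJ₁, hJ₂, hco, hle⟩ |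
    h | ⟨r, R, p, e, k, hR, ha, hs, hrp, hk, hk1, hp, hcomm, hmi, hc, hle⟩ |
    ⟨k, t, e, P, J₀, c, hk, ht, hex, hkt, hJ₀, hc, hco, hle⟩ | h
  · refine .ts W h0 (hf ▸ hW) (key_unit hH _ hle (PrimeDim.sugl_not_le_stab K (by omega) h0 fun e => ?_))
    subst e
    obtain ⟨v, hv⟩ : ∃ v : Fin n → F, v ≠ 0 := exists_ne 0
    exact hv (hd.eq_zero fun u => hW u Submodule.mem_top v Submodule.mem_top)
  · refine .nd W h0 (hf ▸ hW) hdim (key_unit hH _ hle (PrimeDim.sugl_not_le_stab K (by omega) h0 fun e => ?_))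
    rw [e, finrank_top, Module.finrank_fin_fun] at hdim
    omega
  · exact decomp_unit K hn hH htk (hf ▸ hD) hle
  · rw [← hf] at hts
    by_cases hex : n = 4 ∧ q ≤ 3
    · obtain ⟨rfl, hq⟩ := hex
      obtain rfl : k = 2 := by omega
      exact rational_unit K (by omega) hH (urational_of_pair K hq hD hts hH.1.le hle)
    · exact .tsPair k D hk (fun h => by by_contra hlt; exact hex ⟨h, by omega⟩) hD hts
        (key_unit hH _ hle (UnitNotLe.not_le_decomp K (by omega) hD))
  · exact .field r L hr hro hrn hL hcl (key_unit hH _ hle (UnitNotLe.not_le_normalizer K (by omega) hr.two_le hL))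
  · have hs : Cfsg.Geo.IsTensorFormStructure (fun x : F => x ^ q) (hermForm n F q) (sform K.bar J₁) (sform K.bar J₂) e P := by
      refine ⟨1, one_ne_zero, fun x y => ?_⟩
      rw [hf, hbar, sform_gram, sform_gram, one_mul, sform_fcoord, hco]
      exact (formOfGram_eq K.bar _ x y).symm
    by_cases hex : n₁ = 2 ∧ q = 2
    · obtain ⟨rfl, rfl⟩ := hex
      obtain ⟨D, hD, hle'⟩ := UnitSmall.tensor_decomp K (by omega) e P (unitaryPow K hJ₁) (unitaryPow K hJ₂) hs
      exact decomp_unit K hn hH (by omega) hD (fun g hg => hle' ⟨(hH.1.le hg).1, hle hg⟩)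
    · exact .tensor n₁ n₂ e P _ _ hn₁ hn₂ hnn (fun h => by have := K.two_le; by_contra hlt; exact hex ⟨h, by omega⟩)
        (unitaryPow K hJ₁) (unitaryPow K hJ₂) hs
        (key_unit hH _ hle (UnitNotLe.not_le_tensor K hn₁ (by omega) e P))
  · exact rational_unit K (by omega) hH h
  · haveI : CharP F p := hmi.2.1
    have hcop : Nat.Coprime (r * Nat.gcd 2 r) p := by
      have h1 : Nat.Coprime r p := (Nat.coprime_primes hR.prime hp).2 hrp
      rcases hR.prime.eq_two_or_odd' with h2 | h2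
      · subst h2
        exact Nat.Coprime.mul_left h1 (by simpa using h1)
      · rwa [Nat.coprime_two_left.2 h2, mul_one]
    refine .heis r R p e k hR ha hs hrp hk hk1 hp hmi hc (key_unit hH _ hle
      (UnitNotLe.not_le_heis K hn hcop (fun g hg => ?_) ha (not_le_scalars (by omega) ha.1) hcomm hs))
    have := Monoid.pow_exponent_eq_one (⟨g, hg⟩ : R)
    rw [hR.exponent_eq] at this
    simpa using congrArg Subtype.val this
  · refine .power k t e P (sform K.bar J₀) hk ht hex hkt (unitaryPow K hJ₀) ⟨c, hc, fun x y => ?_⟩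
      (key_unit hH _ hle (UnitNotLe.not_le_wreath K (by omega) hk ht e P))
    rw [hf, hbar, sform_fcoord, hco, sform_smul_matrix, sform_gram, ← formOfGram_eq]
    rfl
  · exact .residual h

end CfsgLib.Asch
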