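import Cfsg.Agent.Lib.Classical.AschUnitSixField
import Cfsg.Agent.Lib.Classical.AschUnitMax

set_option autoImplicit false
set_option linter.unusedSectionVars false

/-!
For `q = 2` no orthogonal frame in dimension six has a maximal stabiliser in the special unitary group.
-/

namespace CfsgLib.Asch.UnitSix

open Matrix
open Cfsg.Geo (decompositionStabilizer)
open CfsgLib.PrimeDim (SUGL)
open CfsgLib.ClassicalAut (Unitary.Conj)
open scoped MatrixGroups

/-- The code of addition. -/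
def add4 : Fin 4 → Fin 4 → Fin 4 := ![![0, 1, 2, 3], ![1, 0, 3, 2], ![2, 3, 0, 1], ![3, 2, 1, 0]]

/-- The code of multiplication. -/
def mul4 : Fin 4 → Fin 4 → Fin 4 := ![![0, 0, 0, 0], ![0, 1, 2, 3], ![0, 2, 3, 1], ![0, 3, 1, 2]]

/-- The code of the weight. -/
def wt4 (a : Fin 4) : ℕ := if a = 0 then 0 else 1

/-- The code of the invariant set. -/
def Good (a b c d e f : Fin 4) : Prop :=
  wt4 a + wt4 b + wt4 c + wt4 d + wt4 e + wt4 f = 2 ∨ mul4 (mul4 (mul4 (mul4 (mul4 a b) c) d) e) f = 1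

instance (a b c d e f : Fin 4) : Decidable (Good a b c d e f) := by unfold Good; infer_instance

theorem good_shift : ∀ a b c d e f : Fin 4, ∀ s : Fin 4, s = add4 (add4 (add4 (add4 (add4 a b) c) d) e) f →
    Good a b c d e f → Good (add4 a s) (add4 b s) (add4 c s) (add4 d s) (add4 e s) (add4 f s) := by
  decide +kernel

variable {F : Type*} [Field F] [Fintype F]

/-- The invariant set of vectors. -/
def Sp [DecidableEq F] (x : Fin 6 → F) : Prop :=
  (Finset.univ.filter fun i => x i ≠ 0).card = 2 ∨ ∏ i, x i = 1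

/-- The stabiliser of the set. -/
def spStab (F : Type*) [Field F] [DecidableEq F] : Subgroup (GL (Fin 6) F) where
  carrier := {g | ∀ x, Sp ((g : Matrix (Fin 6) (Fin 6) F) *ᵥ x) ↔ Sp x}
  mul_mem' {a b} ha hb x := by rw [Units.val_mul, ← mulVec_mulVec, ha, hb]
  one_mem' x := by rw [Units.val_one, one_mulVec]
  inv_mem' {a} ha x := by
    rw [← ha ((↑a⁻¹ : Matrix (Fin 6) (Fin 6) F) *ᵥ x), mulVec_mulVec, Units.mul_inv, one_mulVec]

include F in
theorem shift_mem (K : Unitary.Conj F 2) [DecidableEq F] (x : Fin 6 → F) (hx : Sp x) :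
    Sp (fun i => x i + ∑ j, x j) := by
  have h2 := two_eq_zero K
  obtain ⟨y, hy⟩ := K.exists_moved
  have hy0 : y ≠ 0 := fun e => hy (by rw [e, map_zero])
  have hy1 : y - 1 ≠ 0 := fun e => hy (by rw [sub_eq_zero.1 e, map_one])
  have hy3 : y ^ 2 + y + 1 = 0 := (mul_eq_zero.1 (show (y - 1) * (y ^ 2 + y + 1) = 0 by
    linear_combination cube_eq_one K hy0)).resolve_left hy1
  obtain ⟨φ, hφ⟩ : ∃ φ : Fin 4 → F, φ = ![0, 1, y, y + 1] := ⟨_, rfl⟩
  have hadd : ∀ a b, φ (add4 a b) = φ a + φ b := by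
    intro a b; fin_cases a <;> fin_cases b <;> simp [hφ, add4] <;> grind
  have hmul : ∀ a b, φ (mul4 a b) = φ a * φ b := by
    intro a b; fin_cases a <;> fin_cases b <;> simp [hφ, mul4] <;> grind
  have hinj : Function.Injective φ := by
    intro a b
    fin_cases a <;> fin_cases b <;> simp [hφ] <;> grind
  have hsur : Function.Surjective φ :=
    (hinj.bijective_of_nat_card_le (by rw [K.card, Nat.card_eq_fintype_card, Fintype.card_fin]; norm_num)).2
  choose c hc using fun i => hsur (x i)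
  have h0 : ∀ a, φ a = 0 ↔ a = 0 := fun a => ⟨fun e => hinj (e.trans (by simp [hφ])), fun e => by simp [e, hφ]⟩
  have h1 : ∀ a, φ a = 1 ↔ a = 1 := fun a => ⟨fun e => hinj (e.trans (by simp [hφ])), fun e => by simp [e, hφ]⟩
  have hS : ∀ z : Fin 6 → Fin 4, Sp (fun i => φ (z i)) ↔ Good (z 0) (z 1) (z 2) (z 3) (z 4) (z 5) := by
    intro z
    have e : (Finset.univ.filter fun i => φ (z i) ≠ 0).card =
        wt4 (z 0) + wt4 (z 1) + wt4 (z 2) + wt4 (z 3) + wt4 (z 4) + wt4 (z 5) := by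
      rw [Finset.card_filter, Fin.sum_univ_six]
      simp [wt4, h0]
    simp only [Sp, Good, e, Fin.prod_univ_six, ← hmul, h1]
  obtain rfl : (fun i => φ (c i)) = x := funext hc
  have hg := good_shift (c 0) (c 1) (c 2) (c 3) (c 4) (c 5) _ rfl ((hS c).1 hx)
  have e := (hS fun i => add4 (c i) (add4 (add4 (add4 (add4 (add4 (c 0) (c 1)) (c 2)) (c 3)) (c 4)) (c 5))).2 hg
  simpa [hadd, Fin.sum_univ_six] using e

/-- An orthogonal frame has no maximal stabiliser. -/
theorem lines_not_maximal (K : Unitary.Conj F 2) {H : Subgroup (GL (Fin 6) F)}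
    (hH : Cfsg.Geo.IsMaximalIn (SUGL 6 F 2) H) {D : Fin 6 → Submodule F (Fin 6 → F)}
    (hD : Cfsg.Geo.IsNondegenerateMDecomposition (Cfsg.hermForm 6 F 2) 1 D) (hle : H ≤ decompositionStabilizer D) :
    False := by
  classical
  have h2 := two_eq_zero K
  have hd : ∀ i, ∃ v ∈ D i, v ≠ 0 := fun i => Submodule.exists_mem_ne_zero_of_ne_bot fun e => by
    have := hD.decomp.finrank_eq i
    rw [e, finrank_bot] at this
    exact zero_ne_one this
  choose v hv hv0 using hd
  have hline : ∀ i, ∀ w ∈ D i, ∃ a : F, a • v i = w := by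
    intro i w hw
    obtain ⟨a, ha⟩ := (finrank_eq_one_iff_of_nonzero' (⟨v i, hv i⟩ : D i)
      fun e => hv0 i (congrArg Subtype.val e)).1 (hD.decomp.finrank_eq i) ⟨w, hw⟩
    exact ⟨a, congrArg Subtype.val ha⟩
  have hunit : ∀ i, uh K (v i) (v i) = 1 := fun i => (uh_self_cases K (v i)).resolve_left fun h => by
    obtain ⟨⟨x, hx, hxi⟩, -⟩ := hD.nondegenerate i _ (hv i) (hv0 i)
    obtain ⟨a, rfl⟩ := hline i x hx
    exact hxi (by rw [herm_sform K, sform_smul_left]; exact mul_eq_zero_of_right _ h)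
  obtain ⟨Pm, hPm⟩ : ∃ P : Matrix (Fin 6) (Fin 6) F, P = Matrix.of fun i r => v r i := ⟨_, rfl⟩
  have hPP : Pmᵀ * bm K.bar Pm = 1 := by
    ext r s
    have e : uh K (v r) (v s) = if r = s then 1 else 0 := by
      by_cases h : r = s
      · subst h; rw [if_pos rfl]; exact hunit r
      · rw [if_neg h]
        exact (herm_sform K _ _).symm.trans (hD.orthogonal r s h _ (hv r) _ (hv s))
    rw [Matrix.one_apply, ← e]
    simp [hPm, uh, sform, Matrix.mul_apply, dotProduct, bm_apply]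
  have hu : IsUnit Pm := by
    rw [Matrix.isUnit_iff_isUnit_det, ← Matrix.det_transpose]
    have := congrArg Matrix.det hPP
    rw [det_mul, det_one] at this
    exact .of_mul_eq_one _ this
  obtain ⟨P, hP⟩ := hu
  have hcol : ∀ i, (P : Matrix (Fin 6) (Fin 6) F) *ᵥ Pi.single i 1 = v i := fun i => by
    funext r; simp [hP, hPm]
  have hform : ∀ x y : Fin 6 → F, Cfsg.hermForm 6 F 2 ((P : Matrix (Fin 6) (Fin 6) F) *ᵥ x)
      ((P : Matrix (Fin 6) (Fin 6) F) *ᵥ y) = ∑ i, x i * K.bar (y i) := fun x y => by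
    rw [herm_sform K, sform_mulVec, hP, mul_one, hPP, sform, one_mulVec]; rfl
  let M := (spStab F).comap (MulAut.conj P⁻¹).toMonoidHom
  have hM : ∀ g, g ∈ M ↔ ∀ x, Sp (((P⁻¹ * g * P : GL (Fin 6) F) : Matrix (Fin 6) (Fin 6) F) *ᵥ x) ↔ Sp x := fun g => by
    simp [M, spStab]
  have hHM : H ≤ M := by
    intro g hg
    obtain ⟨σ, hσ⟩ := hle hg
    have hc : ∀ i, ∃ a : F, a • v (σ i) = (g : Matrix (Fin 6) (Fin 6) F) *ᵥ v i := fun i =>
      hline _ _ (by rw [← hσ i]; exact ⟨v i, hv i, Matrix.toLin'_apply _ _⟩)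
    choose c hc using hc
    obtain ⟨g₁, hg₁⟩ : ∃ g₁ : GL (Fin 6) F, g₁ = P⁻¹ * g * P := ⟨_, rfl⟩
    have hmat : (g₁ : Matrix (Fin 6) (Fin 6) F) = (Matrix.diagonal c).submatrix σ.symm id := by
      ext r s
      have e : (g₁ : Matrix (Fin 6) (Fin 6) F) *ᵥ Pi.single s 1 = c s • Pi.single (σ s) 1 := by
        rw [hg₁, Units.val_mul, Units.val_mul, ← mulVec_mulVec, ← mulVec_mulVec, hcol, ← hc, mulVec_smul]
        congr 1
        rw [← hcol, mulVec_mulVec, Units.inv_mul, one_mulVec]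
      have := congrFun e r
      simp [Pi.single_apply, Matrix.mulVec_single] at this
      rw [this, submatrix_apply, diagonal_apply]
      by_cases h : r = σ s
      · subst h; simp
      · rw [if_neg h, if_neg (fun e => h (by rw [← show σ.symm r = s from e]; simp))]
    have hdet : ∏ i, c i = 1 := by
      have h1 : (g₁ : Matrix (Fin 6) (Fin 6) F).det = 1 := by
        have h4 : g ∈ Cfsg.Geo.specialLinear (Fin 6) F := (hH.1.le hg).2
        have h3 : (g : Matrix (Fin 6) (Fin 6) F).det = 1 := by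
          simpa [Cfsg.Geo.specialLinear, MonoidHom.mem_ker, Units.ext_iff] using h4
        rw [hg₁, Units.val_mul, Units.val_mul, det_mul, det_mul, h3, mul_one, ← det_mul, Units.inv_mul, det_one]
      rw [hmat, det_permute, det_diagonal] at h1
      rcases Int.units_eq_one_or (Equiv.Perm.sign σ.symm) with h | h <;> rw [h] at h1 <;> simp at h1
      · exact h1
      · linear_combination -h1 - h2
    have hc0 : ∀ i, c i ≠ 0 := fun i e => by
      rw [Finset.prod_eq_zero (Finset.mem_univ i) e] at hdet; exact zero_ne_one hdet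
    refine (hM g).2 fun x => ?_
    rw [← hg₁, hmat]
    have e : ((Matrix.diagonal c).submatrix σ.symm id) *ᵥ x = fun r => c (σ.symm r) * x (σ.symm r) := by
      funext r
      simp [Matrix.mulVec, dotProduct, diagonal_apply]
    rw [e]
    unfold Sp
    rw [Finset.prod_mul_distrib, Equiv.prod_comp σ.symm c, Equiv.prod_comp σ.symm x, hdet, one_mul]
    have hcard : (Finset.univ.filter fun r => c (σ.symm r) * x (σ.symm r) ≠ 0).card =
        (Finset.univ.filter fun i => x i ≠ 0).card :=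
      Finset.card_equiv σ.symm fun r => by simp [hc0]
    rw [hcard]
  obtain ⟨o, ho⟩ : ∃ o : Fin 6 → F, o = fun _ => 1 := ⟨_, rfl⟩
  have hsk : (1 : F) + K.bar 1 = 0 := by rw [map_one]; linear_combination h2
  obtain ⟨T, φ, hT, hφ, -, hTv⟩ := PrimeDim.exists_utv K (u := (P : Matrix (Fin 6) (Fin 6) F) *ᵥ o)
    (by rw [hform]; simp [ho]; linear_combination (3 : F) * h2) hsk
  have hTx : ∀ (u : Fin 6 → F) (T' : GL (Fin 6) F) (φ' : Fin 6 → F),
      (∀ z, φ' ⬝ᵥ z = 1 * Cfsg.hermForm 6 F 2 z ((P : Matrix (Fin 6) (Fin 6) F) *ᵥ u)) →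
      T'.val = 1 + vecMulVec ((P : Matrix (Fin 6) (Fin 6) F) *ᵥ u) φ' → ∀ x,
      ((P⁻¹ * T' * P : GL (Fin 6) F) : Matrix (Fin 6) (Fin 6) F) *ᵥ x = x + (∑ i, x i * K.bar (u i)) • u := by
    intro u T' φ' hφ' hT' x
    rw [Units.val_mul, Units.val_mul, ← mulVec_mulVec, ← mulVec_mulVec, PrimeDim.transvection_mulVec hT', hφ', one_mul,
      hform, mulVec_add, mulVec_smul, mulVec_mulVec, mulVec_mulVec, Units.inv_mul, one_mulVec, one_mulVec]
  have hTo : ∀ x, ((P⁻¹ * T * P : GL (Fin 6) F) : Matrix (Fin 6) (Fin 6) F) *ᵥ x = fun i => x i + ∑ j, x j := by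
    intro x; rw [hTx o T φ hφ hTv]; funext i; simp [ho]
  have hTM : T ∈ M := (hM T).2 fun x => by
    refine ⟨fun h => ?_, fun h => by rw [hTo]; exact shift_mem K x h⟩
    rw [hTo] at h
    have := shift_mem K _ h
    convert this using 1
    funext i
    simp only [Fin.sum_univ_six]
    linear_combination (-(3 : F) * (x 0 + x 1 + x 2 + x 3 + x 4 + x 5) - (x 0 + x 1 + x 2 + x 3 + x 4 + x 5)) * h2
  have hTH : T ∉ H := by
    intro h
    obtain ⟨σ, hσ⟩ := hle h
    obtain ⟨a, ha⟩ := hline _ _ (show (T : Matrix (Fin 6) (Fin 6) F) *ᵥ v 0 ∈ D (σ 0) by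
      rw [← hσ 0]; exact ⟨v 0, hv 0, Matrix.toLin'_apply _ _⟩)
    have e := hTo (Pi.single 0 1)
    rw [Units.val_mul, Units.val_mul, ← mulVec_mulVec, ← mulVec_mulVec, hcol, ← ha, mulVec_smul, ← hcol,
      mulVec_mulVec, Units.inv_mul, one_mulVec] at e
    have e1 := congrFun e 1
    have e2 := congrFun e 2
    simp [Pi.single_apply, Fin.sum_univ_six] at e1 e2
    rcases eq_or_ne (σ 0) 1 with h1 | h1
    · rw [h1] at e2; simp at e2
    · rw [if_neg (Ne.symm h1)] at e1; simp at e1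
  rcases hH.2 (M ⊓ SUGL 6 F 2) (le_inf hHM hH.1.le) inf_le_right with h | h
  · exact hTH (h ▸ ⟨hTM, hT⟩)
  obtain ⟨w, hw⟩ : ∃ w : Fin 6 → F, w = ![1, 1, 1, 1, 0, 0] := ⟨_, rfl⟩
  obtain ⟨T', φ', hT', hφ', -, hTv'⟩ := PrimeDim.exists_utv K (u := (P : Matrix (Fin 6) (Fin 6) F) *ᵥ w)
    (by rw [hform]; simp [hw, Fin.sum_univ_six]; linear_combination (2 : F) * h2) hsk
  have hmem := (hM T').1 ((h.symm.le hT').1) ![1, 0, 0, 0, 1, 0]
  rw [hTx w T' φ' hφ' hTv'] at hmem
  have hs : Sp (![1, 0, 0, 0, 1, 0] : Fin 6 → F) := Or.inl (by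
    rw [Finset.card_filter, Fin.sum_univ_six]; simp)
  rcases hmem.2 hs with h' | h'
  · rw [Finset.card_filter, Fin.sum_univ_six] at h'
    simp [hw, Fin.sum_univ_six, (show (1 : F) + 1 = 0 by linear_combination h2)] at h'
  · rw [Fin.prod_univ_six] at h'
    simp [hw, Fin.sum_univ_six, (show (1 : F) + 1 = 0 by linear_combination h2)] at h'

end CfsgLib.Asch.UnitSix
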