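import Cfsg.Agent.Lib.Classical.AschUnitBasic
import Cfsg.Agent.Lib.FourOrbit.Basic

set_option autoImplicit false
set_option linter.unusedSectionVars false

/-!
Tensor decompositions and tensor powers of hermitian forms.
-/

namespace CfsgLib.Asch

open Matrix
open Cfsg.Geo (matrixSet scalars ActsIrreducibly ActsAbsolutelyIrreducibly tensorProductSubgroup
  tensorWreathSubgroup glReindex)
open CfsgLib.PrimeDim (Inv Nml sc sc_val cent mem_cent)
open CfsgLib.ClassicalAut (Unitary.Conj)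
open scoped MatrixGroups Kronecker

variable {F : Type*} [Field F] [Fintype F] {q n : ℕ} (K : Unitary.Conj F q)

/-- `H` stabilises a tensor decomposition of the hermitian form. -/
def UTensorCase (K : Unitary.Conj F q) (H : Subgroup (GL (Fin n) F)) : Prop :=
  ∃ (n₁ n₂ : ℕ) (e : Fin n ≃ Fin n₁ × Fin n₂) (P : GL (Fin n) F) (J₁ : Matrix (Fin n₁) (Fin n₁) F)
    (J₂ : Matrix (Fin n₂) (Fin n₂) F),
    2 ≤ n₁ ∧ n₁ < n₂ ∧ n₁ * n₂ = n ∧ FormData K.bar J₁ 1 ∧ FormData K.bar J₂ 1 ∧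
      fcoord K.bar (1 : Matrix (Fin n) (Fin n) F) e P = J₁ ⊗ₖ J₂ ∧ H ≤ tensorProductSubgroup n₁ n₂ e P

/-- `H` stabilises a tensor power of the hermitian form. -/
def UPowerCase (K : Unitary.Conj F q) (H : Subgroup (GL (Fin n) F)) : Prop :=
  ∃ (k t : ℕ) (e : Fin n ≃ (Fin t → Fin k)) (P : GL (Fin n) F) (J₀ : Matrix (Fin k) (Fin k) F) (c : F),
    3 ≤ k ∧ 2 ≤ t ∧ ¬ (q = 2 ∧ k = 3) ∧ k ^ t = n ∧ FormData K.bar J₀ 1 ∧ c ≠ 0 ∧
      fcoord K.bar (1 : Matrix (Fin n) (Fin n) F) e P = c • pureMat (fun _ : Fin t => J₀) ∧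
      H ≤ tensorWreathSubgroup k t e P

/-- The exceptional tensor square over four elements. -/
def USquareThree (K : Unitary.Conj F q) (H : Subgroup (GL (Fin n) F)) : Prop :=
  q = 2 ∧ ∃ (e : Fin n ≃ (Fin 2 → Fin 3)) (P : GL (Fin n) F),
    fcoord K.bar (1 : Matrix (Fin n) (Fin n) F) e P = 1 ∧ H ≤ tensorWreathSubgroup 3 2 e P

theorem exists_herm_equiv {k : ℕ} {B B' : Matrix (Fin k) (Fin k) F} (hB : FormData K.bar B 1)
    (hB' : FormData K.bar B' 1) : ∃ C : GL (Fin k) F, C.valᵀ * B * bm K.bar C.val = B' := by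
  obtain ⟨C, hC⟩ := exists_herm_basis K hB
  obtain ⟨D, hD⟩ := exists_herm_basis K hB'
  refine ⟨C * D⁻¹, ?_⟩
  rw [Units.val_mul, Matrix.transpose_mul, map_mul]
  calc (D⁻¹).valᵀ * C.valᵀ * B * (bm K.bar C.val * bm K.bar (D⁻¹).val)
      = (D⁻¹).valᵀ * (C.valᵀ * B * bm K.bar C.val) * bm K.bar (D⁻¹).val := by simp only [mul_assoc]
    _ = (D⁻¹).valᵀ * (D.valᵀ * B' * bm K.bar D.val) * bm K.bar (D⁻¹).val := by rw [hC, hD]
    _ = B' := by
      simp only [← mul_assoc]
      rw [← Matrix.transpose_mul, Units.mul_inv, Matrix.transpose_one, one_mul, mul_assoc, ← map_mul, Units.mul_inv,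
        map_one, mul_one]

theorem isUnit_kron {a b : ℕ} (C₁ : GL (Fin a) F) (C₂ : GL (Fin b) F) :
    ∃ X : GL (Fin a × Fin b) F, X.val = C₁.val ⊗ₖ C₂.val ∧ (X⁻¹).val = (C₁⁻¹).val ⊗ₖ (C₂⁻¹).val :=
  ⟨⟨C₁.val ⊗ₖ C₂.val, (C₁⁻¹).val ⊗ₖ (C₂⁻¹).val,
    by rw [← Matrix.mul_kronecker_mul, Units.mul_inv, Units.mul_inv, one_kronecker_one],
    by rw [← Matrix.mul_kronecker_mul, Units.inv_mul, Units.inv_mul, one_kronecker_one]⟩, rfl, rfl⟩

theorem fcoord_mul {ι : Type} [Fintype ι] [DecidableEq ι] {τ : F ≃+* F} (J : Matrix (Fin n) (Fin n) F)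
    (e : Fin n ≃ ι) (P : GL (Fin n) F) (X : GL ι F) :
    fcoord τ J e (P * glReindex e.symm X) = X.valᵀ * fcoord τ J e P * bm τ X.val := by
  have e2 : ((glReindex e.symm X : GL (Fin n) F) : Matrix (Fin n) (Fin n) F) = X.val.submatrix e e := by
    ext i j; simp [glReindex]
  rw [fcoord, fcoord, Units.val_mul, e2, Matrix.transpose_mul, map_mul, bm_submatrix, Matrix.transpose_submatrix]
  rw [← mul_assoc, mul_assoc (X.valᵀ.submatrix e e), mul_assoc (X.valᵀ.submatrix e e),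
    ← Matrix.submatrix_mul_equiv _ _ e.symm e.symm e.symm, ← Matrix.submatrix_mul_equiv _ _ e.symm e.symm e.symm]
  simp [Matrix.submatrix_submatrix]

theorem tcoord_mul_reindex {ι : Type} [Fintype ι] [DecidableEq ι] (e : Fin n ≃ ι) (P : GL (Fin n) F) (X : GL ι F)
    (x : Matrix (Fin n) (Fin n) F) :
    tcoord e (P * glReindex e.symm X) x = (X⁻¹).val * tcoord e P x * X.val := by
  have e2 : ((glReindex e.symm X : GL (Fin n) F) : Matrix (Fin n) (Fin n) F) = X.val.submatrix e e := by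
    ext i j; simp [glReindex]
  have e3 : ((glReindex e.symm X : GL (Fin n) F)⁻¹ : GL (Fin n) F).val = (X⁻¹).val.submatrix e e := by
    rw [← map_inv]; ext i j; simp [glReindex]
  rw [tcoord, tcoord, _root_.mul_inv_rev, Units.val_mul, Units.val_mul, e2, e3]
  rw [mul_assoc, mul_assoc, ← mul_assoc (P⁻¹).val, ← mul_assoc ((P⁻¹).val * x),
    ← Matrix.submatrix_mul_equiv _ _ e.symm e.symm e.symm, ← Matrix.submatrix_mul_equiv _ _ e.symm e.symm e.symm]
  simp [Matrix.submatrix_submatrix, mul_assoc]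

/-- A similitude of a skew hermitian plane is rational up to a scalar. -/
theorem plane_rational {ζ : F} (hζ : ζ ≠ 0) {A : GL (Fin 2) F} {a : F} (ha : a ≠ 0)
    (hA : A.valᵀ * (ζ • jTwo F) * bm K.bar A.val = a • (ζ • jTwo F)) :
    ∃ x : F, x ≠ 0 ∧ ∀ i j, K.bar (A.val i j / x) = A.val i j / x := by
  have hd : A.val.det ≠ 0 := ((Matrix.isUnit_iff_isUnit_det _).1 A.isUnit).ne_zero
  have h1 : A.valᵀ * jTwo F * bm K.bar A.val = a • jTwo F := by
    rw [mul_smul_comm, smul_mul_assoc, smul_comm a ζ] at hA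
    exact smul_right_injective _ hζ hA
  have h2 := jTwo_congr A.val
  have hu : IsUnit (A.valᵀ * jTwo F) := by
    refine IsUnit.mul ?_ (IsUnit.of_mul_eq_one _ (jTwo_mul (F := F)))
    rw [Matrix.isUnit_iff_isUnit_det, Matrix.det_transpose]
    exact (Matrix.isUnit_iff_isUnit_det _).1 A.isUnit
  have h3 : bm K.bar A.val = (a / A.val.det) • A.val := hu.mul_left_cancel (by
    rw [h1, mul_smul_comm, h2, smul_smul, div_mul_cancel₀ _ hd])
  obtain ⟨i₀, j₀, hij⟩ : ∃ i j, A.val i j ≠ 0 := by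
    by_contra hc
    push Not at hc
    exact A.ne_zero (Matrix.ext hc)
  refine ⟨_, hij, fun i j => ?_⟩
  have e : ∀ i j, K.bar (A.val i j) = a / A.val.det * A.val i j := fun i j => congrFun (congrFun h3 i) j
  rw [map_div₀, e, e, mul_div_mul_left _ _ (div_ne_zero ha hd)]

/-- A product of two planes is rational over the fixed field. -/
theorem urational_planes (hn : 4 = n) {H : Subgroup (GL (Fin n) F)} {e : Fin n ≃ Fin 2 × Fin 2} {P : GL (Fin n) F}
    {J₁ J₂ : Matrix (Fin 2) (Fin 2) F} (h₁ : FormData K.bar J₁ 1) (h₂ : FormData K.bar J₂ 1)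
    (hF : fcoord K.bar (1 : Matrix (Fin n) (Fin n) F) e P = J₁ ⊗ₖ J₂)
    (hHt : ∀ g ∈ H, ∃ (A : GL (Fin 2) F) (C : GL (Fin 2) F) (a b : F),
      coord e P (g : Matrix (Fin n) (Fin n) F) = (A : Matrix (Fin 2) (Fin 2) F) ⊗ₖ (C : Matrix (Fin 2) (Fin 2) F) ∧
      a ≠ 0 ∧ b ≠ 0 ∧ A.valᵀ * J₁ * bm K.bar A.val = a • J₁ ∧ C.valᵀ * J₂ * bm K.bar C.val = b • J₂) :
    URationalCase q H := by
  classical
  obtain ⟨y, hy⟩ := K.exists_moved
  obtain ⟨ζ, hζ, hζ'⟩ : ∃ ζ : F, ζ ≠ 0 ∧ K.bar ζ = -ζ :=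
    ⟨y - K.bar y, sub_ne_zero.2 (Ne.symm hy), by rw [map_sub, K.bar_bar, neg_sub]⟩
  have hjd : FormData K.bar (ζ • jTwo F) 1 := by
    refine ⟨?_, K.bar_bar, ?_⟩
    · rw [Matrix.isUnit_iff_isUnit_det, Matrix.det_smul]
      exact ((Ne.isUnit hζ).pow _).mul ((Matrix.isUnit_iff_isUnit_det _).1 (IsUnit.of_mul_eq_one _ (jTwo_mul (F := F))))
    · rw [bm_smul, Matrix.transpose_smul, hζ', show bm K.bar (jTwo F) = jTwo F from by
        ext i j; fin_cases i <;> fin_cases j <;> simp [bm_apply, jTwo], jTwo_transpose, smul_smul, one_smul]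
      simp
  obtain ⟨C₁, hC₁⟩ := exists_herm_equiv K h₁ hjd
  obtain ⟨C₂, hC₂⟩ := exists_herm_equiv K h₂ hjd
  obtain ⟨X, hX, hX'⟩ := isUnit_kron C₁ C₂
  obtain ⟨P', hP'⟩ : ∃ P', P' = P * glReindex e.symm X := ⟨_, rfl⟩
  have hF' : fcoord K.bar (1 : Matrix (Fin n) (Fin n) F) e P' = (ζ • jTwo F) ⊗ₖ (ζ • jTwo F) := by
    rw [hP', fcoord_mul, hF, hX, bm_kron, ← Matrix.kroneckerMap_transpose, ← Matrix.mul_kronecker_mul,
      ← Matrix.mul_kronecker_mul, hC₁, hC₂]
  let F₁ : Subfield F := RingHom.eqLocusField (K.bar : F →+* F) (RingHom.id F)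
  have hmem : ∀ x, x ∈ F₁ ↔ K.bar x = x := fun x => Iff.rfl
  have hcard : Fintype.card F = Nat.card F₁ ^ 2 := by
    rw [← Nat.card_eq_fintype_card]
    exact (AutPSL.card_fixedField_pow K.orderOf_bar).symm
  have hle : H ≤ Cfsg.Geo.subfieldSubgroup F₁ P' := by
    intro g hg
    obtain ⟨A, C, a, b, hAC, ha, hb, hA, hC⟩ := hHt g hg
    have htr : ∀ {J : Matrix (Fin 2) (Fin 2) F} {D A : GL (Fin 2) F} {a : F},
        D.valᵀ * J * bm K.bar D.val = ζ • jTwo F → A.valᵀ * J * bm K.bar A.val = a • J →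
        (D⁻¹ * A * D).valᵀ * (ζ • jTwo F) * bm K.bar (D⁻¹ * A * D).val = a • (ζ • jTwo F) := by
      intro J D A a hD hA
      rw [← hD, Units.val_mul, Units.val_mul, Matrix.transpose_mul, Matrix.transpose_mul, map_mul, map_mul]
      calc _ = D.valᵀ * (A.valᵀ * ((D⁻¹).valᵀ * D.valᵀ) * J * ((bm K.bar D.val * bm K.bar (D⁻¹).val)) *
            bm K.bar A.val) * bm K.bar D.val := by simp only [mul_assoc]
        _ = a • (D.valᵀ * J * bm K.bar D.val) := by
          rw [← Matrix.transpose_mul, Units.mul_inv, Matrix.transpose_one, mul_one, ← map_mul, Units.mul_inv,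
            map_one, mul_one, hA]
          simp
    obtain ⟨x, hx, hxA⟩ := plane_rational K hζ ha (htr hC₁ hA)
    obtain ⟨z, hz, hzC⟩ := plane_rational K hζ hb (htr hC₂ hC)
    refine PrimeDim.mem_subfieldSubgroup.2 ⟨x * z, mul_ne_zero hx hz, fun i j => (hmem _).2 ?_⟩
    have hco : coord e P' g.val = (C₁⁻¹ * A * C₁ : GL (Fin 2) F).val ⊗ₖ (C₂⁻¹ * C * C₂ : GL (Fin 2) F).val := by
      rw [show coord e P' g.val = tcoord e P' g.val from rfl, hP', tcoord_mul_reindex,
        show tcoord e P g.val = coord e P g.val from rfl, hAC, hX, hX', ← Matrix.mul_kronecker_mul,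
        ← Matrix.mul_kronecker_mul]
      rfl
    have e1 : ((P'⁻¹ * g * P' : GL (Fin n) F) : Matrix (Fin n) (Fin n) F) i j = coord e P' g.val (e i) (e j) := by
      simp [coord]
    rw [e1, hco, Matrix.kroneckerMap_apply, mul_div_mul_comm, map_mul, hxA, hzC]
  have hJrat : ∀ p p', ((ζ • jTwo F) ⊗ₖ (ζ • jTwo F)) p p' ∈ F₁ := fun p p' => (hmem _).2 (by
    simp only [Matrix.kroneckerMap_apply, Matrix.smul_apply, smul_eq_mul, map_mul, hζ']
    have : ∀ i j : Fin 2, K.bar (jTwo F i j) = jTwo F i j := fun i j => by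
      fin_cases i <;> fin_cases j <;> simp [jTwo]
    rw [this, this]
    ring)
  have hval : ∀ u v : Fin n → F, Cfsg.hermForm n F q (P'.val *ᵥ u) (P'.val *ᵥ v) =
      sform K.bar ((ζ • jTwo F) ⊗ₖ (ζ • jTwo F)) (u ∘ e.symm) (v ∘ e.symm) := fun u v => by
    rw [herm_sform K, ← hF', ← sform_fcoord]
    simp [Function.comp_assoc]
  have hrat : Cfsg.Geo.IsFormRationalStructure (Cfsg.hermForm n F q) F₁ 1 P' := fun u v hu hv => by
    rw [one_mul, hval, ← formOfGram_eq, Cfsg.Geo.formOfGram]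
    refine sum_mem fun a _ => sum_mem fun b _ => mul_mem (mul_mem (hu _) (hJrat a b)) ?_
    rw [show K.bar ((v ∘ e.symm) b) = (v ∘ e.symm) b from (hmem _).1 (hv _)]
    exact hv _
  by_cases hq : Odd q
  · exact Or.inr (Or.inl ⟨F₁, P', hq, hcard, hrat, hle⟩)
  have h20 : (2 : F) = 0 := two_eq_zero_of_not_odd (by
    rw [← Nat.card_eq_fintype_card, K.card]
    exact fun h => hq ((Nat.odd_pow_iff two_ne_zero).1 h))
  refine Or.inr (Or.inr ⟨F₁, P', 1, ⟨2, hn.symm⟩, hcard, one_ne_zero, ?_, hrat, fun u hu => ?_, hle⟩)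
  · rw [one_pow, one_add_one_eq_two, h20]
  rw [hval, sform, show ⇑K.bar ∘ (u ∘ e.symm) = u ∘ e.symm from funext fun p => (hmem _).1 (hu _)]
  obtain ⟨a, ha⟩ : ∃ a, a = u ∘ e.symm := ⟨_, rfl⟩
  rw [← ha]
  simp only [dotProduct, mulVec, Fintype.sum_prod_type, Fin.sum_univ_two, Matrix.kroneckerMap_apply,
    Matrix.smul_apply, smul_eq_mul]
  simp [jTwo]
  linear_combination (a (0, 0) * a (1, 1) * ζ * ζ - a (0, 1) * a (1, 0) * ζ * ζ) * h20

/-- A tensor decomposition in the unitary group. -/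
theorem unit_tensor {H N : Subgroup (GL (Fin n) F)} (hH : ∀ g ∈ H, Iso K.bar 1 g.val) (hN : Nml H N)
    {m t : ℕ} {ρ : N → Matrix (Fin m) (Fin m) F} {e : Fin n ≃ Fin m × Fin t} {P : GL (Fin n) F}
    (hm : 2 ≤ m) (ht : 2 ≤ t) (hT : TensorData H N m t ρ e P) :
    UTensorCase K H ∨ UPowerCase K H ∨ USquareThree K H ∨ URationalCase q H := by
  classical
  obtain ⟨J₁, J₂, c₁, c₂, hc, hF, hd₁, hd₂, -, hsim⟩ :=
    tensor_form (std_data K) hH hN (by omega) (by omega) hT
  have hc₁ : c₁ * K.bar c₁ = 1 := by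
    have h1 := congrArg (fun X => (bm K.bar X)ᵀ) hd₁.herm
    simp only [bm_transpose, Matrix.transpose_transpose, bm_bm K.bar_bar, bm_smul, Matrix.transpose_smul] at h1
    rw [show bm K.bar J₁ᵀ = c₁ • J₁ from hd₁.herm, smul_smul, mul_comm] at h1
    obtain ⟨i, j, hij⟩ : ∃ i j, J₁ i j ≠ 0 := by
      by_contra hc'
      push Not at hc'
      haveI : Nonempty (Fin m) := ⟨⟨0, by omega⟩⟩
      exact hd₁.unit.ne_zero (Matrix.ext hc')
    exact (mul_eq_right₀ hij).1 (congrFun (congrFun h1 i) j).symm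
  obtain ⟨a, ha, haJ⟩ := exists_herm_scale K hd₁ hc₁
  have haJ₂ : FormData K.bar (a⁻¹ • J₂) 1 := by
    haveI : Nonempty (Fin m) := ⟨⟨0, by omega⟩⟩
    refine ⟨?_, K.bar_bar, ?_⟩
    · rw [Matrix.isUnit_iff_isUnit_det, Matrix.det_smul]
      exact ((Ne.isUnit (inv_ne_zero ha)).pow _).mul hd₂.det
    · have h1 := haJ.herm
      rw [bm_smul, Matrix.transpose_smul, hd₁.herm, smul_smul, one_smul] at h1
      obtain ⟨i, j, hij⟩ : ∃ i j, J₁ i j ≠ 0 := by
        by_contra hc'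
        push Not at hc'
        exact hd₁.unit.ne_zero (Matrix.ext hc')
      have h2 : K.bar a * c₁ = a := mul_right_cancel₀ hij (congrFun (congrFun h1 i) j)
      have h3 : K.bar a ≠ 0 := (map_ne_zero _).2 ha
      rw [bm_smul, Matrix.transpose_smul, hd₂.herm, smul_smul, one_smul, map_inv₀]
      congr 1
      field_simp
      linear_combination (K.bar a) * hc - c₂ * h2
  have hF' : fcoord K.bar (1 : Matrix (Fin n) (Fin n) F) e P = (a • J₁) ⊗ₖ (a⁻¹ • J₂) := by
    rw [hF, Matrix.smul_kronecker, Matrix.kronecker_smul, smul_smul, mul_inv_cancel₀ ha, one_smul]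
  have hab : m * t = n := by simpa using (Fintype.card_congr e).symm
  rcases lt_trichotomy m t with hlt | rfl | hgt
  · exact Or.inl ⟨m, t, e, P, _, _, hm, hlt, hab, haJ, haJ₂, hF', hT.le⟩
  swap
  · refine Or.inl ⟨t, m, e.trans (Equiv.prodComm _ _), P, _, _, ht, hgt, by rw [mul_comm]; exact hab, haJ₂, haJ,
      ?_, fun g hg => ?_⟩
    · ext p p'
      have := congrFun (congrFun hF' (p.2, p.1)) (p'.2, p'.1)
      simpa [fcoord, Prod.swap, mul_comm] using this
    · obtain ⟨A, C, hgc⟩ := hT.2.2 g hg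
      exact mem_tensor (A := C) (C := A) (coord_prodComm e P _ _ _ hgc)
  by_cases hm3 : 3 ≤ m
  swap
  · obtain rfl : m = 2 := by omega
    refine Or.inr (Or.inr (Or.inr (urational_planes K (by omega) haJ haJ₂ hF' fun g hg => ?_)))
    obtain ⟨A, C, a', b', hAC, ha', hb', hA, hC⟩ := hsim g hg
    refine ⟨A, C, a', b', hAC, ha', hb', ?_, ?_⟩
    · rw [mul_smul_comm, smul_mul_assoc, hA, smul_comm]
    · rw [mul_smul_comm, smul_mul_assoc, hC, smul_comm]
  obtain ⟨C₁, hC₁⟩ := exists_herm_basis K haJ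
  obtain ⟨C₂, hC₂⟩ := exists_herm_basis K haJ₂
  obtain ⟨X, hX, hX'⟩ := isUnit_kron C₁ C₂
  obtain ⟨P', hP'⟩ : ∃ P', P' = P * glReindex e.symm X := ⟨_, rfl⟩
  let e₂ : Fin n ≃ (Fin 2 → Fin m) := e.trans (finTwoArrowEquiv (Fin m)).symm
  have hF₁ : fcoord K.bar (1 : Matrix (Fin n) (Fin n) F) e P' = 1 := by
    rw [hP', fcoord_mul, hF', hX, bm_kron, ← Matrix.kroneckerMap_transpose, ← Matrix.mul_kronecker_mul,
      ← Matrix.mul_kronecker_mul, hC₁, hC₂, one_kronecker_one]
  have hF₂ : fcoord K.bar (1 : Matrix (Fin n) (Fin n) F) e₂ P' = 1 := by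
    ext x y
    have h1 := congrFun (congrFun hF₁ (x 0, x 1)) (y 0, y 1)
    have h2 : (x 0, x 1) = (y 0, y 1) ↔ x = y := by
      refine ⟨fun h => ?_, fun h => by rw [h]⟩
      funext i
      fin_cases i
      · exact congrArg Prod.fst h
      · exact congrArg Prod.snd h
    rw [Matrix.one_apply] at h1 ⊢
    simp only [h2] at h1
    simpa [fcoord, e₂] using h1
  have hle : H ≤ tensorWreathSubgroup m 2 e₂ P' := by
    intro g hg
    obtain ⟨A, C, hgc⟩ := hT.2.2 g hg
    refine mem_tensorWreath (gs := ![C₁⁻¹ * A * C₁, C₂⁻¹ * C * C₂]) (σ := 1) ?_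
    rw [permMat_one, mul_one]
    have hco : tcoord e P' g.val = (C₁⁻¹ * A * C₁ : GL (Fin m) F).val ⊗ₖ (C₂⁻¹ * C * C₂ : GL (Fin m) F).val := by
      rw [hP', tcoord_mul_reindex, show tcoord e P g.val = coord e P g.val from rfl, hgc, hX, hX',
        ← Matrix.mul_kronecker_mul, ← Matrix.mul_kronecker_mul]
      rfl
    ext x y
    have := congrFun (congrFun hco (x 0, x 1)) (y 0, y 1)
    simp only [tcoord, Matrix.submatrix_apply, Matrix.kroneckerMap_apply] at this
    simpa [tcoord, e₂, pureMat_apply, Fin.prod_univ_two] using this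
  by_cases hex : q = 2 ∧ m = 3
  · obtain ⟨hq, rfl⟩ := hex
    exact Or.inr (Or.inr (Or.inl ⟨hq, e₂, P', hF₂, hle⟩))
  refine Or.inr (Or.inl ⟨m, 2, e₂, P', 1, 1, hm3, le_rfl, hex, by rw [← hab, pow_two], std_data K, one_ne_zero, ?_,
    hle⟩)
  rw [hF₂, one_smul, pureMat_one]

/-- No non-trivial perfect group in dimension three over four elements. -/
theorem perfect_three_four (hq : q = 2) {G : Type*} [Group G] (M : Subgroup G) (hperf : ⁅M, M⁆ = M)
    (φ : M →* GL (Fin 3) F) (hφ : ∀ x, Iso K.bar 1 (φ x).val) : ∀ x : M, φ x = 1 := by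
  classical
  haveI : Finite (GL (Fin 3) F) := Finite.of_injective _ Units.val_injective
  let L := φ.range
  have hK : ⁅L, L⁆ = L := by
    have h1 : (⊤ : Subgroup M).map φ = L := (MonoidHom.range_eq_map φ).symm
    have h2 : ⁅(⊤ : Subgroup M), (⊤ : Subgroup M)⁆ = ⊤ := by
      apply Subgroup.map_injective M.subtype_injective
      rw [Subgroup.map_commutator, ← MonoidHom.range_eq_map, Subgroup.range_subtype, hperf]
    rw [← h1, ← Subgroup.map_commutator, h2]
  have hle : L ≤ Cfsg.GU 3 F q := by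
    rintro _ ⟨x, rfl⟩ u v
    show Cfsg.hermForm 3 F q ((φ x).val *ᵥ u) ((φ x).val *ᵥ v) = Cfsg.hermForm 3 F q u v
    rw [herm_sform K, herm_sform K]
    exact (iso_iff _ _ _).1 (hφ x) u v
  have hcard : Nat.card L ∣ 2 ^ 3 * 3 ^ 4 := by
    refine (Subgroup.card_dvd_of_le hle).trans (dvd_of_eq ?_)
    rw [Classical.Herm.card_GU K]
    subst hq
    simp [Finset.prod_range_succ, parity_simps]
  have hbot : L = ⊥ := by
    by_contra hne
    haveI : Nontrivial L := (Subgroup.nontrivial_iff_ne_bot L).2 hne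
    haveI : Group.IsSolvable L := CfsgLib.FourOrbit.isSolvable_of_two_primes Nat.prime_two Nat.prime_three
      (by norm_num) fun s hs hdvd => by
        rcases (Nat.Prime.dvd_mul hs).1 (hdvd.trans hcard) with h' | h'
        · exact Or.inl ((Nat.prime_dvd_prime_iff_eq hs Nat.prime_two).1 (hs.dvd_of_dvd_pow h'))
        · exact Or.inr ((Nat.prime_dvd_prime_iff_eq hs Nat.prime_three).1 (hs.dvd_of_dvd_pow h'))
    obtain ⟨d, hd⟩ := Group.IsSolvable.solvable (G := L)
    have h2 : ⁅(⊤ : Subgroup L), (⊤ : Subgroup L)⁆ = ⊤ := by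
      apply Subgroup.map_injective L.subtype_injective
      rw [Subgroup.map_commutator, ← MonoidHom.range_eq_map, Subgroup.range_subtype, hK]
    have h3 : ∀ d, derivedSeries L d = ⊤ := fun d => by
      induction d with
      | zero => rfl
      | succ d ih => rw [derivedSeries_succ, ih, h2]
    rw [h3] at hd
    exact top_ne_bot hd
  exact fun x => (Subgroup.eq_bot_iff_forall L).1 hbot _ ⟨x, rfl⟩

/-- The tensor power case. -/
theorem unit_power (hn : 2 ≤ n) {H N : Subgroup (GL (Fin n) F)} (hH : ∀ g ∈ H, Iso K.bar 1 g.val) (hN : Nml H N)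
    {m k : ℕ} {Mf : Fin k → Subgroup (GL (Fin n) F)} {ρ : ∀ i, Mf i → Matrix (Fin m) (Fin m) F}
    {e : Fin n ≃ (Fin k → Fin m)} {P : GL (Fin n) F} (hm : 2 ≤ m) (hk : 2 ≤ k) (hcard : m ^ k = n)
    (hirr : ∀ i, ActsIrreducibly (Set.range (ρ i)))
    (hrep : ∀ i (x : Mf i), tcoord e P ((x : GL (Fin n) F) : Matrix (Fin n) (Fin n) F) = slot i (ρ i x))
    (habs : ActsAbsolutelyIrreducibly (matrixSet (⨆ i, Mf i))) (hMH : ∀ i, Mf i ≤ H)
    (hperf : ∀ i, ⁅Mf i, Mf i⁆ = Mf i)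
    (hperm : ∀ g ∈ H, ∃ σ : Equiv.Perm (Fin k), ∀ i, ∀ x ∈ Mf i, g * x * g⁻¹ ∈ Mf (σ i))
    (htrans : ∀ i₀ l, ∃ g ∈ H, ∃ σ : Equiv.Perm (Fin k), σ i₀ = l ∧ ∀ i, ∀ x ∈ Mf i, g * x * g⁻¹ ∈ Mf (σ i)) :
    UPowerCase K H ∨ URationalCase q H := by
  classical
  have hslot : ∀ i (A B : Matrix (Fin m) (Fin m) F), slot (k := k) i (A * B) = slot i A * slot i B := fun i A B => by
    rw [slot, slot, slot, pureMat_mul]
    congr 1
    funext l
    by_cases hl : l = i
    · subst hl; simp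
    · simp [Function.update_of_ne hl]
  have hinjs : ∀ i (A B : Matrix (Fin m) (Fin m) F), slot (k := k) i A = slot i B → A = B := fun i A B hAB => by
    ext u v
    have := congrFun (congrFun hAB (Function.update (fun _ => ⟨0, by omega⟩) i u))
      (Function.update (fun _ => ⟨0, by omega⟩) i v)
    rw [slot_apply, slot_apply, if_pos (fun l hl => by simp [Function.update_of_ne hl]),
      if_pos (fun l hl => by simp [Function.update_of_ne hl])] at this
    simpa using this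
  have hone : ∀ i, slot (k := k) i (1 : Matrix (Fin m) (Fin m) F) = 1 := fun i => by
    rw [slot]
    have e1 : (Function.update (fun _ : Fin k => (1 : Matrix (Fin m) (Fin m) F)) i 1) = fun _ => 1 := by
      funext l
      by_cases hl : l = i
      · subst hl; simp
      · simp [Function.update_of_ne hl]
    rw [e1, pureMat_one]
  let φ₀ : ∀ i, Mf i →* Matrix (Fin m) (Fin m) F := fun i =>
    { toFun := ρ i
      map_one' := hinjs i _ _ (by
        rw [← hrep, hone]
        ext p q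
        simp [tcoord, Matrix.one_apply])
      map_mul' := fun x y => hinjs i _ _ (by
        rw [hslot, ← hrep, ← hrep, ← hrep, ← tcoord_mul]
        rfl) }
  by_cases hm3 : 3 ≤ m
  swap
  · obtain rfl : m = 2 := by omega
    right
    have hdet : ∀ i (x : Mf i), (ρ i x).det = 1 := by
      intro i x
      let d : Mf i →* Fˣ := (Units.map (Matrix.detMonoidHom : Matrix (Fin 2) (Fin 2) F →* F)).comp (φ₀ i).toHomUnits
      have hd : ∀ y ∈ ⁅(⊤ : Subgroup (Mf i)), (⊤ : Subgroup (Mf i))⁆, d y = 1 := by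
        intro y hy
        have hle : ⁅(⊤ : Subgroup (Mf i)), (⊤ : Subgroup (Mf i))⁆ ≤ d.ker := by
          rw [Subgroup.commutator_le]
          intro a _ b _
          rw [MonoidHom.mem_ker, map_commutatorElement, commutatorElement_eq_one_iff_mul_comm]
          exact mul_comm _ _
        exact hle hy
      have htop : ⁅(⊤ : Subgroup (Mf i)), (⊤ : Subgroup (Mf i))⁆ = ⊤ := by
        apply Subgroup.map_injective (Mf i).subtype_injective
        rw [Subgroup.map_commutator, ← MonoidHom.range_eq_map, Subgroup.range_subtype, hperf]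
      have := congrArg Units.val (hd x (by rw [htop]; exact Subgroup.mem_top x))
      simpa [d, φ₀] using this
    obtain ⟨B, hB⟩ : ∃ B : Matrix (Fin n) (Fin n) F,
        B = (P⁻¹).valᵀ * (pureMat fun _ : Fin k => jTwo F).submatrix e e * (P⁻¹).val := ⟨_, rfl⟩
    have hBu : IsUnit B := by
      rw [hB]
      refine (IsUnit.mul ?_ ?_).mul P⁻¹.isUnit
      · rw [Matrix.isUnit_iff_isUnit_det, Matrix.det_transpose]
        exact (Matrix.isUnit_iff_isUnit_det _).1 P⁻¹.isUnit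
      · rw [Matrix.isUnit_iff_isUnit_det, Matrix.det_submatrix_equiv_self, ← Matrix.isUnit_iff_isUnit_det]
        exact IsUnit.of_mul_eq_one (pureMat fun _ : Fin k => (-1 : F) • jTwo F)
          (by rw [pureMat_mul]; simp only [jTwo_mul]; exact pureMat_one)
    let S : Subgroup (GL (Fin n) F) :=
      { carrier := {g | g.valᵀ * B * g.val = B}
        one_mem' := by simp
        mul_mem' := fun {a b} ha hb => by
          show (a * b).valᵀ * B * (a * b).val = B
          rw [Units.val_mul, Matrix.transpose_mul]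
          conv_rhs => rw [← show b.valᵀ * B * b.val = B from hb, ← show a.valᵀ * B * a.val = B from ha]
          simp only [mul_assoc]
        inv_mem' := fun {a} ha => by
          show (a⁻¹).valᵀ * B * (a⁻¹).val = B
          conv_lhs => rw [← show a.valᵀ * B * a.val = B from ha]
          simp only [← mul_assoc]
          rw [← Matrix.transpose_mul, Units.mul_inv, Matrix.transpose_one, one_mul, mul_assoc, Units.mul_inv, mul_one] }
    have hS : (⨆ i, Mf i) ≤ S := iSup_le fun i x hx => by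
      show x.valᵀ * B * x.val = B
      have hxP : x.val = P.val * (tcoord e P x.val).submatrix e e * (P⁻¹).val := by
        simp [tcoord, mul_assoc, Matrix.submatrix_submatrix]
      have h1 : (slot i (ρ i ⟨x, hx⟩))ᵀ * pureMat (fun _ : Fin k => jTwo F) * slot i (ρ i ⟨x, hx⟩) =
          pureMat fun _ => jTwo F := by
        rw [slot, pureMat_transpose, pureMat_mul, pureMat_mul]
        congr 1
        funext l
        by_cases hl : l = i
        · subst hl; simp [jTwo_congr, hdet]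
        · simp [Function.update_of_ne hl]
      rw [hxP, show tcoord e P x.val = slot i (ρ i ⟨x, hx⟩) from hrep i ⟨x, hx⟩, hB]
      conv_rhs => rw [← h1]
      simp only [Matrix.transpose_mul, Matrix.transpose_submatrix, mul_assoc, Units.inv_mul_cancel_left]
      rw [← mul_assoc P.valᵀ, ← Matrix.transpose_mul, Units.inv_mul, Matrix.transpose_one, one_mul,
        ← mul_assoc ((slot i (ρ i ⟨x, hx⟩))ᵀ.submatrix e e), Matrix.submatrix_mul_equiv]
      rw [← mul_assoc (Matrix.submatrix (_ * _) (⇑e) (⇑e)), Matrix.submatrix_mul_equiv]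
      simp only [mul_assoc]
    have hnml : Nml H (⨆ i, Mf i) := ⟨iSup_le hMH, fun g hg z hz => by
      obtain ⟨σ, hσ⟩ := hperm g hg
      have hmap : (⨆ i, Mf i).map (MulAut.conj g).toMonoidHom ≤ ⨆ i, Mf i := by
        rw [Subgroup.map_iSup]
        refine iSup_le fun i => ?_
        rintro _ ⟨y, hy, rfl⟩
        exact Subgroup.mem_iSup_of_mem (σ i) (hσ i y hy)
      exact hmap ⟨z, hz, rfl⟩⟩
    obtain ⟨F₀, hne, hreal⟩ := realisable_of_bilinear K (by omega) (fun g hg => hH g (hnml.le hg)) habs hBu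
      (fun g hg => hS hg)
    exact urational_of_realisable K hn hH hnml habs hne hreal
  left
  let i₀ : Fin k := ⟨0, by omega⟩
  obtain ⟨J₀, c₀, c, P', hc, hc₀, hd₀, hF, habs₀, hρ₀, hle⟩ :=
    wreath_form (std_data K) (by omega) hH (by omega) hirr hrep habs hMH hperm i₀ (htrans i₀)
  haveI : Nonempty (Fin m) := ⟨⟨0, by omega⟩⟩
  obtain ⟨a, ha, haJ⟩ := exists_herm_scale K hd₀ hc₀
  refine ⟨m, k, e, P', a • J₀, c / a ^ k, hm3, hk, ?_, hcard, haJ, div_ne_zero hc (pow_ne_zero _ ha), ?_, hle⟩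
  · rintro ⟨hq, rfl⟩
    obtain ⟨C, hC⟩ := exists_herm_basis K haJ
    let ψ : Mf i₀ →* GL (Fin 3) F := (MulAut.conj C⁻¹).toMonoidHom.comp (φ₀ i₀).toHomUnits
    have hψ : ∀ x, Iso K.bar 1 (ψ x).val := fun x => by
      have hv : (ψ x).val = (C⁻¹).val * ρ i₀ x * C.val := by simp [ψ, φ₀]
      rw [hv, Iso, Matrix.transpose_mul, Matrix.transpose_mul, map_mul, map_mul, mul_one]
      conv_rhs => rw [← hC]
      have h1 : (ρ i₀ x)ᵀ * (a • J₀) * bm K.bar (ρ i₀ x) = a • J₀ := by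
        rw [mul_smul_comm, smul_mul_assoc, hρ₀]
      conv_rhs => rw [← h1]
      have h2 : (C⁻¹).valᵀ * bm K.bar (C⁻¹).val = a • J₀ := by
        have := congrArg (fun X => (C⁻¹).valᵀ * X * bm K.bar (C⁻¹).val) hC
        simp only [← mul_assoc, ← Matrix.transpose_mul, Units.mul_inv, Matrix.transpose_one, one_mul] at this
        rw [mul_assoc (a • J₀), ← map_mul, Units.mul_inv, map_one, mul_one] at this
        rw [this, mul_one]
      rw [← h2]
      simp only [mul_assoc]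
    have htriv := perfect_three_four K hq (Mf i₀) (hperf i₀) ψ hψ
    have h1 : ∀ x : Mf i₀, ρ i₀ x = 1 := fun x => by
      have hx := congrArg (fun g : GL (Fin 3) F => C * g * C⁻¹) (htriv x)
      have := congrArg Units.val hx
      simpa [ψ, φ₀, mul_assoc] using this
    obtain ⟨s, hs⟩ := habs₀.2 (Matrix.single 0 1 1) (by
      rintro _ ⟨x, rfl⟩
      rw [h1, mul_one, one_mul])
    have := congrFun (congrFun hs 0) 1
    simp at this
  · rw [hF, show pureMat (fun _ : Fin k => a • J₀) = (∏ _i : Fin k, a) • pureMat fun _ : Fin k => J₀ from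
      pureMat_smul _ _, Finset.prod_const, Finset.card_univ, Fintype.card_fin, smul_smul,
      div_mul_cancel₀ _ (pow_ne_zero _ ha)]

end CfsgLib.Asch
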