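import Cfsg.Agent.Lib.Classical.AschUnitThreeData

set_option autoImplicit false

/-!
Verified properties of the generated data in dimension three.
-/

namespace CfsgLib.Asch.UnitThree

theorem aC_keeps : keeps 3 aC aL aCCert = true := by decide +kernel

theorem aS_keeps : keeps 3 aS aL aSCert = true := by decide +kernel

theorem aT_keeps : keeps 3 aT aL aTCert = true := by decide +kernel

theorem aW_iso : cdot 3 aW (cmv 3 aG (cvbar 3 aW)) = 0 := by decide +kernel

theorem aX_mem : aX ∈ aL := by decide +kernel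

theorem aX_moved : aL.all (indep 3
      (cadd 3 aX.1 (cmul 3 (cmul 3 3 (cdot 3 aX (cmv 3 aG (cvbar 3 aW)))) aW.1),
       cadd 3 aX.2.1 (cmul 3 (cmul 3 3 (cdot 3 aX (cmv 3 aG (cvbar 3 aW)))) aW.2.1),
       cadd 3 aX.2.2 (cmul 3 (cmul 3 3 (cdot 3 aX (cmv 3 aG (cvbar 3 aW)))) aW.2.2))) = true := by
  decide +kernel

theorem bC_keeps : keeps 5 bC bL bCCert = true := by decide +kernel

theorem bS_keeps : keeps 5 bS bL bSCert = true := by decide +kernel

theorem bT_keeps : keeps 5 bT bL bTCert = true := by decide +kernel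

theorem bW_iso : cdot 5 bW (cmv 5 bG (cvbar 5 bW)) = 0 := by decide +kernel

theorem bX_mem : bX ∈ bL := by decide +kernel

theorem bX_moved : bL.all (indep 5
      (cadd 5 bX.1 (cmul 5 (cmul 5 5 (cdot 5 bX (cmv 5 bG (cvbar 5 bW)))) bW.1),
       cadd 5 bX.2.1 (cmul 5 (cmul 5 5 (cdot 5 bX (cmv 5 bG (cvbar 5 bW)))) bW.2.1),
       cadd 5 bX.2.2 (cmul 5 (cmul 5 5 (cdot 5 bX (cmv 5 bG (cvbar 5 bW)))) bW.2.2))) = true := by
  decide +kernel

theorem cD1_keeps : keeps 5 cD1 cL cD1Cert = true := by decide +kernel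

theorem cD2_keeps : keeps 5 cD2 cL cD2Cert = true := by decide +kernel

theorem cP0_keeps : keeps 5 cP0 cL cP0Cert = true := by decide +kernel

theorem cP1_keeps : keeps 5 cP1 cL cP1Cert = true := by decide +kernel

theorem cP2_keeps : keeps 5 cP2 cL cP2Cert = true := by decide +kernel

theorem cP3_keeps : keeps 5 cP3 cL cP3Cert = true := by decide +kernel

theorem cP4_keeps : keeps 5 cP4 cL cP4Cert = true := by decide +kernel

theorem cP5_keeps : keeps 5 cP5 cL cP5Cert = true := by decide +kernel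

theorem cR0_keeps : keeps 5 cR0 cL cR0Cert = true := by decide +kernel

theorem cR1_keeps : keeps 5 cR1 cL cR1Cert = true := by decide +kernel

theorem cR2_keeps : keeps 5 cR2 cL cR2Cert = true := by decide +kernel

theorem cR3_keeps : keeps 5 cR3 cL cR3Cert = true := by decide +kernel

theorem cR4_keeps : keeps 5 cR4 cL cR4Cert = true := by decide +kernel

theorem cW_iso : cdot 5 cW (cmv 5 cone (cvbar 5 cW)) = 0 := by decide +kernel

theorem cX_mem : cX ∈ cL := by decide +kernel

theorem cX_moved : cL.all (indep 5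
      (cadd 5 cX.1 (cmul 5 (cmul 5 5 (cdot 5 cX (cmv 5 cone (cvbar 5 cW)))) cW.1),
       cadd 5 cX.2.1 (cmul 5 (cmul 5 5 (cdot 5 cX (cmv 5 cone (cvbar 5 cW)))) cW.2.1),
       cadd 5 cX.2.2 (cmul 5 (cmul 5 5 (cdot 5 cX (cmv 5 cone (cvbar 5 cW)))) cW.2.2))) = true := by
  decide +kernel

theorem dT_keeps : keeps 5 dT dL dTCert = true := by decide +kernel

theorem dXX_keeps : keeps 5 dXX dL dXXCert = true := by decide +kernel

theorem dYY_keeps : keeps 5 dYY dL dYYCert = true := by decide +kernel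

theorem dW0_keeps : keeps 5 dW0 dL dW0Cert = true := by decide +kernel

theorem dW1_keeps : keeps 5 dW1 dL dW1Cert = true := by decide +kernel

theorem dW2_keeps : keeps 5 dW2 dL dW2Cert = true := by decide +kernel

theorem dW3_keeps : keeps 5 dW3 dL dW3Cert = true := by decide +kernel

theorem dW4_keeps : keeps 5 dW4 dL dW4Cert = true := by decide +kernel

theorem dW5_keeps : keeps 5 dW5 dL dW5Cert = true := by decide +kernel

theorem dW6_keeps : keeps 5 dW6 dL dW6Cert = true := by decide +kernel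

theorem dW7_keeps : keeps 5 dW7 dL dW7Cert = true := by decide +kernel

theorem dW_iso : cdot 5 dW (cmv 5 cone (cvbar 5 dW)) = 0 := by decide +kernel

theorem dX_mem : dX ∈ dL := by decide +kernel

theorem dX_moved : dL.all (indep 5
      (cadd 5 dX.1 (cmul 5 (cmul 5 5 (cdot 5 dX (cmv 5 cone (cvbar 5 dW)))) dW.1),
       cadd 5 dX.2.1 (cmul 5 (cmul 5 5 (cdot 5 dX (cmv 5 cone (cvbar 5 dW)))) dW.2.1),
       cadd 5 dX.2.2 (cmul 5 (cmul 5 5 (cdot 5 dX (cmv 5 cone (cvbar 5 dW)))) dW.2.2))) = true := by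
  decide +kernel

theorem aS_gram : cmm 3 (cmm 3 (ctr aS) aG) (cmbar 3 aS) = aG := by decide +kernel

theorem aS_det : cdet 3 aS = 1 := by decide +kernel

theorem aT_gram : cmm 3 (cmm 3 (ctr aT) aG) (cmbar 3 aT) = aG := by decide +kernel

theorem aT_det : cdet 3 aT = 1 := by decide +kernel

theorem bS_gram : cmm 5 (cmm 5 (ctr bS) bG) (cmbar 5 bS) = bG := by decide +kernel

theorem bS_det : cdet 5 bS = 1 := by decide +kernel

theorem bT_gram : cmm 5 (cmm 5 (ctr bT) bG) (cmbar 5 bT) = bG := by decide +kernel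

theorem bT_det : cdet 5 bT = 1 := by decide +kernel

theorem cR1_gram : cmm 5 (cmm 5 (ctr cR1) cone) (cmbar 5 cR1) = cone := by decide +kernel

theorem cR1_det : cdet 5 cR1 = 1 := by decide +kernel

theorem cD1_gram : cmm 5 (cmm 5 (ctr cD1) cone) (cmbar 5 cD1) = cone := by decide +kernel

theorem cD1_det : cdet 5 cD1 = 1 := by decide +kernel

theorem dT_gram : cmm 5 (cmm 5 (ctr dT) cone) (cmbar 5 dT) = cone := by decide +kernel

theorem dT_det : cdet 5 dT = 1 := by decide +kernel

theorem aT_moves : cmm 3 (cmm 3 (cmm 3 aT aC) aT) aC ≠ cmm 3 aC (cmm 3 (cmm 3 aT aC) aT) := by decide +kernel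

theorem aT_sq : cmm 3 aT aT = cone := by decide +kernel

theorem aS_conj : cmm 3 aS aC = cmm 3 (cmm 3 aC aC) aS := by decide +kernel

theorem aH_inv : cmm 3 aHi aH = cone := by decide +kernel

theorem bT_moves : cmm 5 (cmm 5 (cmm 5 bT bC) bT) bC ≠ cmm 5 bC (cmm 5 (cmm 5 bT bC) bT) := by decide +kernel

theorem bT_sq : cmm 5 bT bT = cone := by decide +kernel

theorem bS_conj : cmm 5 bS bC = cmm 5 (cmm 5 (cmm 5 bC bC) (cmm 5 bC bC)) bS := by decide +kernel

theorem bH_inv : cmm 5 bHi bH = cone := by decide +kernel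

theorem dT_sq : cmm 5 dT dT = cone := by decide +kernel

end CfsgLib.Asch.UnitThree
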