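import Cfsg.Agent.Lib.Classical.AschUnitThreeModel

set_option autoImplicit false

/-!
Generated data for orbits of lines in dimension three over the fields with nine and twenty-five elements.
-/

namespace CfsgLib.Asch.UnitThree

/-- Representatives of an orbit of lines. -/
def aL : List CV :=
  [(0, 1, 6), (1, 0, 6), (1, 1, 2), (1, 2, 2), (1, 2, 3), (1, 2, 7), (1, 3, 1), (1, 4, 2), (1, 5, 1), (1, 5, 2), (1, 5, 3), (1, 5, 6), (1, 6, 0), (1, 6, 1), (1, 6, 3), (1, 6, 4), (1, 7, 3), (1, 7, 5), (1, 7, 6), (1, 7, 8), (1, 8, 1)]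

/-- An element preserving the orbit. -/
def aC : CM :=
  ((0, 0, 1), (1, 0, 8), (0, 1, 7))

/-- The permutation of the lines by the element. -/
def aCCert : List (ℕ × ℕ) :=
  [(6, 20), (6, 5), (2, 18), (2, 19), (3, 8), (7, 7), (1, 13), (2, 16), (1, 12), (2, 17), (3, 9), (6, 4), (1, 0), (1, 15), (3, 11), (4, 2), (3, 10), (5, 1), (6, 3), (8, 6), (1, 14)]

/-- An element preserving the orbit. -/
def aS : CM :=
  ((1, 0, 7), (0, 0, 2), (0, 1, 2))

/-- The permutation of the lines by the element. -/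
def aSCert : List (ℕ × ℕ) :=
  [(8, 7), (6, 3), (3, 14), (3, 12), (5, 16), (4, 6), (8, 11), (3, 15), (8, 9), (3, 13), (5, 19), (6, 5), (1, 1), (8, 8), (5, 17), (8, 0), (5, 18), (7, 2), (6, 4), (2, 20), (8, 10)]

/-- An element preserving the orbit. -/
def aT : CM :=
  ((4, 4, 3), (6, 1, 4), (2, 3, 6))

/-- The permutation of the lines by the element. -/
def aTCert : List (ℕ × ℕ) :=
  [(5, 6), (5, 15), (5, 10), (6, 11), (2, 4), (4, 13), (4, 0), (7, 8), (8, 7), (2, 9), (4, 2), (3, 3), (2, 12), (5, 5), (1, 20), (4, 1), (5, 18), (2, 17), (4, 16), (1, 19), (1, 14)]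

/-- An isotropic vector of an outside transvection. -/
def aW : CV :=
  (0, 0, 1)

/-- A line moved out of the orbit. -/
def aX : CV :=
  (0, 1, 6)

/-- The Gram matrix. -/
def aG : CM :=
  ((0, 4, 4), (7, 0, 4), (7, 7, 0))

/-- The trace pairing. -/
def aH : CM :=
  ((0, 7, 7), (7, 7, 4), (7, 4, 7))

/-- The inverse pairing. -/
def aHi : CM :=
  ((3, 4, 4), (4, 3, 6), (4, 6, 3))

/-- The cube of the generator. -/
def aRel : CV :=
  (1, 8, 7)

/-- Representatives of an orbit of lines. -/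
def bL : List CV :=
  [(0, 1, 12), (0, 1, 15), (0, 1, 20), (1, 0, 12), (1, 0, 15), (1, 0, 20), (1, 1, 13), (1, 1, 18), (1, 1, 21), (1, 2, 1), (1, 2, 4), (1, 2, 13), (1, 3, 4), (1, 3, 5), (1, 3, 6), (1, 4, 5), (1, 4, 21), (1, 4, 23), (1, 5, 2), (1, 5, 4), (1, 5, 10), (1, 5, 11), (1, 5, 16), (1, 6, 4), (1, 6, 16), (1, 6, 19), (1, 6, 22), (1, 6, 23), (1, 7, 1), (1, 7, 2), (1, 7, 3), (1, 7, 5), (1, 7, 9), (1, 7, 11), (1, 7, 13), (1, 7, 17), (1, 8, 12), (1, 8, 17), (1, 8, 24), (1, 9, 4), (1, 9, 9), (1, 9, 14), (1, 10, 3), (1, 10, 13), (1, 10, 17), (1, 10, 19), (1, 10, 22), (1, 11, 3), (1, 11, 6), (1, 11, 15), (1, 11, 16), (1, 11, 23), (1, 12, 0), (1, 12, 17), (1, 12, 24), (1, 13, 7), (1, 13, 11), (1, 13, 13), (1, 14, 6), (1, 14, 8), (1, 14, 21), (1, 15, 0), (1, 15, 4), (1, 15, 10), (1, 15, 11), (1, 15, 14), (1, 15, 17), (1, 15, 22), (1, 15, 24), (1, 16, 8), (1, 16, 14), (1, 16, 15), (1, 17, 3), (1, 17, 11), (1,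 17, 22), (1, 18, 7), (1, 18, 18), (1, 18, 23), (1, 19, 2), (1, 19, 3), (1, 19, 23), (1, 20, 0), (1, 20, 7), (1, 20, 14), (1, 21, 4), (1, 21, 8), (1, 21, 9), (1, 21, 10), (1, 21, 13), (1, 21, 14), (1, 21, 20), (1, 21, 22), (1, 22, 1), (1, 22, 12), (1, 22, 13), (1, 22, 17), (1, 22, 18), (1, 23, 2), (1, 23, 13), (1, 23, 17), (1, 24, 2), (1, 24, 4), (1, 24, 17), (1, 24, 19), (1, 24, 20)]

/-- An element preserving the orbit. -/
def bC : CM :=
  ((0, 0, 1), (1, 0, 8), (0, 1, 7))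

/-- The permutation of the lines by the element. -/
def bCCert : List (ℕ × ℕ) :=
  [(12, 38), (15, 36), (20, 37), (12, 82), (15, 55), (20, 75), (13, 90), (18, 71), (21, 9), (1, 40), (4, 31), (13, 88), (4, 32), (5, 97), (6, 54), (5, 99), (21, 11), (23, 96), (2, 26), (4, 29), (10, 13), (11, 45), (16, 4), (4, 28), (16, 3), (19, 7), (22, 101), (23, 95), (1, 41), (2, 27), (3, 22), (5, 98), (9, 60), (11, 42), (13, 84), (17, 63), (12, 83), (17, 67), (24, 17), (4, 30), (9, 59), (14, 50), (3, 18), (13, 89), (17, 61), (19, 6), (22, 103), (3, 19), (6, 52), (15, 56), (16, 5), (23, 94), (1, 0), (17, 68), (24, 15), (7, 80), (11, 44), (13, 85), (6, 53), (8, 73), (21, 10), (1, 1), (4, 35), (10, 14), (11, 43), (14, 47), (17, 65), (22, 104), (24, 16), (8, 72), (14, 48), (15, 57), (3, 21), (11, 46), (22, 100), (7, 78), (18, 69), (23, 93), (2, 23), (3, 20), (23, 92), (1, 2), (7, 79), (14, 49), (4, 33), (8, 74), (9, 58), (10,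 12), (13, 86), (14, 51), (20, 76), (22, 102), (1, 39), (12, 81), (13, 91), (17, 66), (18, 70), (2, 24), (13, 87), (17, 62), (2, 25), (4, 34), (17, 64), (19, 8), (20, 77)]

/-- An element preserving the orbit. -/
def bS : CM :=
  ((1, 7, 0), (0, 4, 1), (0, 4, 0))

/-- The permutation of the lines by the element. -/
def bSCert : List (ℕ × ℕ) :=
  [(7, 103), (7, 25), (7, 45), (1, 52), (1, 61), (1, 81), (8, 50), (8, 22), (8, 24), (10, 20), (10, 63), (10, 87), (17, 54), (17, 38), (17, 68), (24, 16), (24, 60), (24, 8), (13, 65), (13, 89), (13, 70), (13, 41), (13, 83), (15, 77), (15, 17), (15, 80), (15, 27), (15, 51), (22, 37), (22, 102), (22, 44), (22, 99), (22, 35), (22, 66), (22, 95), (22, 53), (4, 85), (4, 69), (4, 59), (6, 36), (6, 3), (6, 93), (20, 29), (20, 18), (20, 100), (20, 78), (20, 97), (2, 91), (2, 46), (2, 74), (2, 67), (2, 26), (9, 40), (9, 32), (9, 86), (11, 49), (11, 71), (11, 4), (18, 31), (18,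 13), (18, 15), (7, 57), (7, 11), (7, 88), (7, 34), (7, 43), (7, 94), (7, 6), (7, 98), (14, 28), (14, 9), (14, 92), (16, 75), (16, 82), (16, 55), (23, 104), (23, 5), (23, 90), (13, 2), (14, 0), (9, 1), (19, 76), (19, 96), (19, 7), (21, 19), (21, 39), (21, 12), (21, 62), (21, 10), (21, 84), (21, 23), (21, 101), (3, 56), (3, 21), (3, 33), (3, 64), (3, 73), (5, 48), (5, 14), (5, 58), (12, 30), (12, 47), (12, 42), (12, 79), (12, 72)]

/-- An element preserving the orbit. -/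
def bT : CM :=
  ((5, 22, 7), (21, 14, 8), (17, 20, 10))

/-- The permutation of the lines by the element. -/
def bTCert : List (ℕ × ℕ) :=
  [(4, 0), (3, 45), (10, 74), (13, 82), (11, 62), (23, 31), (12, 85), (24, 80), (22, 44), (1, 95), (17, 20), (9, 89), (14, 55), (3, 18), (5, 102), (20, 64), (8, 28), (17, 48), (2, 13), (11, 36), (12, 10), (19, 70), (1, 78), (8, 61), (23, 93), (14, 33), (12, 42), (19, 99), (14, 16), (16, 81), (23, 37), (19, 5), (12, 97), (8, 25), (17, 84), (22, 75), (7, 19), (19, 30), (10, 68), (19, 58), (1, 65), (13, 92), (17, 26), (11, 90), (16, 8), (2, 1), (3, 51), (14, 63), (12, 17), (4, 49), (6, 69), (2, 46), (15, 53), (5, 52), (1, 54), (8, 12), (13, 104), (22, 91), (23, 39), (7, 67), (4, 60), (14, 23), (7, 4), (8, 47), (10, 15), (1, 40), (4, 66), (11, 59), (20, 38), (9, 50), (23, 21), (12, 76), (19, 101), (4, 73), (20, 2), (16, 35), (17, 71), (4, 77), (1, 22), (8, 83), (21, 7), (22,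 29), (18, 3), (14, 79), (12, 34), (17, 6), (24, 94), (13, 98), (4, 88), (6, 11), (7, 43), (16, 57), (18, 41), (19, 24), (21, 86), (1, 9), (8, 100), (17, 32), (18, 87), (23, 27), (14, 96), (23, 72), (15, 14), (4, 103), (18, 56)]

/-- An isotropic vector of an outside transvection. -/
def bW : CV :=
  (0, 1, 1)

/-- A line moved out of the orbit. -/
def bX : CV :=
  (0, 1, 12)

/-- The Gram matrix. -/
def bG : CM :=
  ((3, 22, 22), (7, 3, 22), (7, 7, 3))

/-- The trace pairing. -/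
def bH : CM :=
  ((3, 7, 7), (7, 7, 22), (7, 22, 7))

/-- The inverse pairing. -/
def bHi : CM :=
  ((5, 12, 12), (12, 15, 20), (12, 20, 15))

/-- The cube of the generator. -/
def bRel : CV :=
  (1, 8, 7)

/-- Representatives of an orbit of lines. -/
def cL : List CV :=
  [(0, 0, 1), (0, 1, 0), (0, 1, 1), (0, 1, 4), (0, 1, 12), (0, 1, 13), (0, 1, 17), (0, 1, 18), (1, 0, 0), (1, 0, 1), (1, 0, 4), (1, 0, 12), (1, 0, 13), (1, 0, 17), (1, 0, 18), (1, 1, 0), (1, 1, 1), (1, 1, 2), (1, 1, 3), (1, 1, 4), (1, 1, 10), (1, 1, 15), (1, 2, 1), (1, 2, 2), (1, 2, 3), (1, 2, 4), (1, 3, 1), (1, 3, 2), (1, 3, 3), (1, 3, 4), (1, 4, 0), (1, 4, 1), (1, 4, 2), (1, 4, 3), (1, 4, 4), (1, 4, 10), (1, 4, 15), (1, 5, 5), (1, 5, 20), (1, 6, 9), (1, 6, 13), (1, 6, 17), (1, 6, 21), (1, 7, 13), (1, 7, 17), (1, 8, 12), (1, 8, 18), (1, 9, 6), (1, 9, 12), (1, 9, 18), (1, 9, 24), (1, 10, 1), (1, 10, 4), (1, 11, 14), (1, 11, 16), (1, 12, 0),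 (1, 12, 8), (1, 12, 9), (1, 12, 13), (1, 12, 17), (1, 12, 21), (1, 12, 22), (1, 13, 0), (1, 13, 6), (1, 13, 7), (1, 13, 12), (1, 13, 18), (1, 13, 23), (1, 13, 24), (1, 14, 11), (1, 14, 19), (1, 15, 1), (1, 15, 4), (1, 16, 11), (1, 16, 19), (1, 17, 0), (1, 17, 6), (1, 17, 7), (1, 17, 12), (1, 17, 18), (1, 17, 23), (1, 17, 24), (1, 18, 0), (1, 18, 8), (1, 18, 9), (1, 18, 13), (1, 18, 17), (1, 18, 21), (1, 18, 22), (1, 19, 14), (1, 19, 16), (1, 20, 5), (1, 20, 20), (1, 21, 6), (1, 21, 12), (1, 21, 18), (1, 21, 24), (1, 22, 12), (1, 22, 18), (1, 23, 13), (1, 23, 17), (1, 24, 9), (1, 24, 13), (1, 24, 17), (1, 24, 21)]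

/-- An element preserving the orbit. -/
def cD1 : CM :=
  ((13, 0, 0), (0, 18, 0), (0, 0, 1))

/-- The permutation of the lines by the element. -/
def cD1Cert : List (ℕ × ℕ) :=
  [(1, 0), (18, 1), (18, 5), (18, 6), (18, 3), (18, 4), (18, 7), (18, 2), (13, 8), (13, 14), (13, 11), (13, 12), (13, 9), (13, 10), (13, 13), (13, 75), (13, 79), (13, 76), (13, 81), (13, 78), (13, 77), (13, 80), (13, 49), (13, 47), (13, 50), (13, 48), (13, 95), (13, 93), (13, 96), (13, 94), (13, 62), (13, 66), (13, 63), (13, 68), (13, 65), (13, 64), (13, 67), (13, 54), (13, 53), (13, 28), (13, 26), (13, 29), (13, 27), (13, 71), (13, 72), (13, 43), (13, 44), (13, 101), (13, 102), (13, 103), (13, 104), (13, 98), (13, 97), (13, 70), (13, 69), (13, 15), (13, 20), (13, 18), (13, 16), (13, 19), (13, 17), (13, 21), (13, 82), (13, 84), (13, 88), (13, 85), (13, 86), (13, 83), (13, 87), (13, 38), (13, 37), (13, 46), (13, 45), (13, 92), (13,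 91), (13, 55), (13, 57), (13, 61), (13, 58), (13, 59), (13, 56), (13, 60), (13, 30), (13, 35), (13, 33), (13, 31), (13, 34), (13, 32), (13, 36), (13, 74), (13, 73), (13, 90), (13, 89), (13, 39), (13, 40), (13, 41), (13, 42), (13, 99), (13, 100), (13, 51), (13, 52), (13, 24), (13, 22), (13, 25), (13, 23)]

/-- An element preserving the orbit. -/
def cD2 : CM :=
  ((1, 0, 0), (0, 13, 0), (0, 0, 18))

/-- The permutation of the lines by the element. -/
def cD2Cert : List (ℕ × ℕ) :=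
  [(18, 0), (13, 1), (13, 6), (13, 5), (13, 2), (13, 7), (13, 4), (13, 3), (1, 8), (1, 14), (1, 11), (1, 12), (1, 9), (1, 10), (1, 13), (1, 62), (1, 66), (1, 63), (1, 68), (1, 65), (1, 64), (1, 67), (1, 95), (1, 93), (1, 96), (1, 94), (1, 49), (1, 47), (1, 50), (1, 48), (1, 75), (1, 79), (1, 76), (1, 81), (1, 78), (1, 77), (1, 80), (1, 90), (1, 89), (1, 24), (1, 22), (1, 25), (1, 23), (1, 51), (1, 52), (1, 99), (1, 100), (1, 39), (1, 40), (1, 41), (1, 42), (1, 46), (1, 45), (1, 74), (1, 73), (1, 30), (1, 35), (1, 33), (1, 31), (1, 34), (1, 32), (1, 36), (1, 55), (1, 57), (1, 61), (1, 58), (1, 59), (1, 56), (1, 60), (1, 92), (1, 91), (1, 98), (1, 97), (1, 38), (1, 37), (1, 82), (1, 84), (1, 88), (1, 85), (1, 86), (1, 83), (1, 87), (1, 15), (1, 20), (1, 18), (1, 16), (1, 19), (1, 17), (1, 21), (1, 70), (1, 69), (1, 54), (1, 53), (1, 101), (1, 102), (1, 103), (1, 104), (1, 43), (1, 44), (1, 71), (1, 72), (1,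 28), (1, 26), (1, 29), (1, 27)]

/-- An element preserving the orbit. -/
def cP0 : CM :=
  ((1, 0, 0), (0, 1, 0), (0, 0, 1))

/-- The permutation of the lines by the element. -/
def cP0Cert : List (ℕ × ℕ) :=
  [(1, 0), (1, 1), (1, 2), (1, 3), (1, 4), (1, 5), (1, 6), (1, 7), (1, 8), (1, 9), (1, 10), (1, 11), (1, 12), (1, 13), (1, 14), (1, 15), (1, 16), (1, 17), (1, 18), (1, 19), (1, 20), (1, 21), (1, 22), (1, 23), (1, 24), (1, 25), (1, 26), (1, 27), (1, 28), (1, 29), (1, 30), (1, 31), (1, 32), (1, 33), (1, 34), (1, 35), (1, 36), (1, 37), (1, 38), (1, 39), (1, 40), (1, 41), (1, 42), (1, 43), (1, 44), (1, 45), (1, 46), (1, 47), (1, 48), (1, 49), (1, 50), (1, 51), (1, 52), (1, 53), (1, 54), (1, 55), (1, 56), (1, 57), (1, 58), (1, 59), (1, 60), (1, 61), (1, 62), (1, 63), (1, 64), (1, 65), (1, 66), (1, 67), (1, 68), (1, 69), (1, 70), (1, 71), (1, 72), (1, 73), (1, 74), (1, 75), (1, 76), (1, 77), (1, 78), (1, 79),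 (1, 80), (1, 81), (1, 82), (1, 83), (1, 84), (1, 85), (1, 86), (1, 87), (1, 88), (1, 89), (1, 90), (1, 91), (1, 92), (1, 93), (1, 94), (1, 95), (1, 96), (1, 97), (1, 98), (1, 99), (1, 100), (1, 101), (1, 102), (1, 103), (1, 104)]

/-- An element preserving the orbit. -/
def cP1 : CM :=
  ((1, 0, 0), (0, 0, 4), (0, 1, 0))

/-- The permutation of the lines by the element. -/
def cP1Cert : List (ℕ × ℕ) :=
  [(4, 1), (1, 0), (4, 3), (1, 2), (18, 5), (17, 4), (13, 7), (12, 6), (1, 8), (1, 30), (1, 15), (1, 82), (1, 75), (1, 62), (1, 55), (1, 9), (1, 31), (1, 26), (1, 22), (1, 16), (1, 71), (1, 51), (1, 32), (1, 27), (1, 23), (1, 17), (1, 33), (1, 28), (1, 24), (1, 18), (1, 10), (1, 34), (1, 29), (1, 25), (1, 19), (1, 72), (1, 52), (1, 91), (1, 37), (1, 93), (1, 76), (1, 63), (1, 47), (1, 77), (1, 64), (1, 83), (1, 56), (1, 101), (1, 84), (1, 57), (1, 39), (1, 35), (1, 20), (1, 73), (1, 69), (1, 11), (1, 97), (1,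 94), (1, 78), (1, 65), (1, 48), (1, 45), (1, 12), (1, 102), (1, 99), (1, 85), (1, 58), (1, 43), (1, 40), (1, 89), (1, 53), (1, 36), (1, 21), (1, 90), (1, 54), (1, 13), (1, 103), (1, 100), (1, 86), (1, 59), (1, 44), (1, 41), (1, 14), (1, 98), (1, 95), (1, 79), (1, 66), (1, 49), (1, 46), (1, 74), (1, 70), (1, 92), (1, 38), (1, 104), (1, 87), (1, 60), (1, 42), (1, 88), (1, 61), (1, 80), (1, 67), (1, 96), (1, 81), (1, 68), (1, 50)]

/-- An element preserving the orbit. -/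
def cP2 : CM :=
  ((0, 1, 0), (1, 0, 0), (0, 0, 4))

/-- The permutation of the lines by the element. -/
def cP2Cert : List (ℕ × ℕ) :=
  [(4, 0), (1, 8), (1, 10), (1, 9), (1, 14), (1, 13), (1, 12), (1, 11), (1, 1), (1, 3), (1, 2), (1, 7), (1, 6), (1, 5), (1, 4), (1, 15), (1, 19), (1, 18), (1, 17), (1, 16), (1, 21), (1, 20), (2, 27), (2, 29), (2, 26), (2, 28), (3, 24), (3, 22), (3, 25), (3, 23), (4, 30), (4, 31), (4, 32), (4, 33), (4, 34), (4, 35), (4, 36), (5, 72), (5, 71), (6, 48), (6, 50), (6, 47), (6, 49), (7, 53), (7, 54), (8, 70), (8, 69), (9, 41), (9, 39), (9, 42), (9, 40), (10, 91), (10, 92), (11, 43), (11, 44), (12, 75), (12, 80), (12, 76), (12, 78), (12, 79), (12, 81), (12, 77), (13, 82), (13, 87), (13, 83), (13, 86), (13, 85), (13, 88), (13, 84), (14, 46), (14, 45), (15, 38), (15, 37), (16, 97), (16, 98), (17, 55), (17, 57), (17, 61), (17, 58), (17, 59), (17, 56), (17, 60), (18, 62), (18, 64), (18,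 68), (18, 66), (18, 65), (18, 63), (18, 67), (19, 100), (19, 99), (20, 51), (20, 52), (21, 102), (21, 104), (21, 101), (21, 103), (22, 73), (22, 74), (23, 90), (23, 89), (24, 95), (24, 93), (24, 96), (24, 94)]

/-- An element preserving the orbit. -/
def cP3 : CM :=
  ((0, 0, 1), (1, 0, 0), (0, 1, 0))

/-- The permutation of the lines by the element. -/
def cP3Cert : List (ℕ × ℕ) :=
  [(1, 8), (1, 0), (1, 9), (4, 10), (12, 13), (13, 14), (17, 11), (18, 12), (1, 1), (1, 15), (4, 30), (12, 75), (13, 82), (17, 55), (18, 62), (1, 2), (1, 16), (2, 28), (3, 23), (4, 34), (10, 92), (15, 37), (1, 17), (2, 26), (3, 25), (4, 33), (1, 18), (2, 29), (3, 22), (4, 32), (1, 3), (1, 19), (2, 27), (3, 24), (4, 31), (10, 91), (15, 38), (5, 71), (20, 52), (9, 40), (13, 84), (17, 60), (21, 103), (13, 88), (17, 56), (12, 77), (18, 67), (6, 49), (12, 81), (18, 63), (24, 94), (1, 20), (4, 36), (14, 45), (16, 98), (1, 4), (8, 69),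 (9, 42), (13, 85), (17, 59), (21, 101), (22, 74), (1, 5), (6, 47), (7, 54), (12, 79), (18, 65), (23, 89), (24, 96), (11, 44), (19, 99), (1, 21), (4, 35), (11, 43), (19, 100), (1, 6), (6, 50), (7, 53), (12, 78), (18, 66), (23, 90), (24, 93), (1, 7), (8, 70), (9, 39), (13, 86), (17, 58), (21, 104), (22, 73), (14, 46), (16, 97), (5, 72), (20, 51), (6, 48), (12, 76), (18, 68), (24, 95), (12, 80), (18, 64), (13, 83), (17, 61), (9, 41), (13, 87), (17, 57), (21, 102)]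

/-- An element preserving the orbit. -/
def cP4 : CM :=
  ((0, 1, 0), (0, 0, 1), (1, 0, 0))

/-- The permutation of the lines by the element. -/
def cP4Cert : List (ℕ × ℕ) :=
  [(1, 1), (1, 8), (1, 15), (1, 30), (1, 55), (1, 62), (1, 75), (1, 82), (1, 0), (1, 2), (4, 3), (12, 6), (13, 7), (17, 4), (18, 5), (1, 9), (1, 16), (1, 22), (1, 26), (1, 31), (1, 51), (1, 71), (2, 28), (2, 18), (2, 33), (2, 24), (3, 23), (3, 32), (3, 17), (3, 27), (4, 10), (4, 34), (4, 29), (4, 25), (4, 19), (4, 72), (4, 52), (5, 21), (5, 36), (6, 84), (6, 39), (6, 101), (6, 57), (7, 73), (7, 69), (8, 53), (8, 89), (9, 63), (9, 93), (9, 47), (9, 76), (10, 92), (10, 38), (11, 77), (11, 64), (12, 13), (12, 44), (12, 103), (12, 86), (12, 59), (12, 41), (12, 100), (13, 14), (13, 49), (13, 98), (13, 66), (13, 79), (13, 46), (13, 95), (14, 56), (14, 83), (15, 37), (15, 91), (16, 88), (16, 61), (17, 11), (17, 94), (17, 45), (17, 78), (17,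 65), (17, 97), (17, 48), (18, 12), (18, 99), (18, 40), (18, 58), (18, 85), (18, 102), (18, 43), (19, 67), (19, 80), (20, 35), (20, 20), (21, 81), (21, 50), (21, 96), (21, 68), (22, 90), (22, 54), (23, 70), (23, 74), (24, 60), (24, 104), (24, 42), (24, 87)]

/-- An element preserving the orbit. -/
def cP5 : CM :=
  ((0, 0, 4), (0, 1, 0), (1, 0, 0))

/-- The permutation of the lines by the element. -/
def cP5Cert : List (ℕ × ℕ) :=
  [(4, 8), (1, 1), (4, 30), (1, 15), (18, 62), (17, 55), (13, 82), (12, 75), (1, 0), (4, 10), (1, 9), (18, 12), (17, 11), (13, 14), (12, 13), (1, 2), (4, 34), (3, 23), (2, 28), (1, 16), (15, 37), (10, 92), (4, 29), (3, 32), (2, 18), (1, 22), (4, 25), (3, 17), (2, 33), (1, 26), (4, 3), (4, 19), (3, 27), (2, 24), (1, 31), (15, 91), (10, 38), (20, 35), (5, 21), (21, 81), (17, 94), (13, 49), (9, 63), (17, 45), (13, 98), (18, 99), (12, 44), (24, 60), (18, 40), (12, 103), (6, 84), (4, 72),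 (1, 51), (16, 88), (14, 56), (12, 6), (22, 90), (21, 50), (17, 78), (13, 66), (9, 93), (8, 53), (13, 7), (24, 104), (23, 70), (18, 58), (12, 86), (7, 73), (6, 39), (19, 67), (11, 77), (4, 52), (1, 71), (19, 80), (11, 64), (17, 4), (24, 42), (23, 74), (18, 85), (12, 59), (7, 69), (6, 101), (18, 5), (22, 54), (21, 96), (17, 65), (13, 79), (9, 47), (8, 89), (16, 61), (14, 83), (20, 20), (5, 36), (24, 87), (18, 102), (12, 41), (6, 57), (18, 43), (12, 100), (17, 97), (13, 46), (21, 68), (17, 48), (13, 95), (9, 76)]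

/-- An element preserving the orbit. -/
def cR0 : CM :=
  ((1, 0, 0), (0, 1, 0), (0, 0, 1))

/-- The permutation of the lines by the element. -/
def cR0Cert : List (ℕ × ℕ) :=
  [(1, 0), (1, 1), (1, 2), (1, 3), (1, 4), (1, 5), (1, 6), (1, 7), (1, 8), (1, 9), (1, 10), (1, 11), (1, 12), (1, 13), (1, 14), (1, 15), (1, 16), (1, 17), (1, 18), (1, 19), (1, 20), (1, 21), (1, 22), (1, 23), (1, 24), (1, 25), (1, 26), (1, 27), (1, 28), (1, 29), (1, 30), (1, 31), (1, 32), (1, 33), (1, 34), (1, 35), (1, 36), (1, 37), (1, 38), (1, 39), (1, 40), (1, 41), (1, 42), (1, 43), (1, 44), (1, 45), (1, 46), (1, 47), (1, 48), (1, 49), (1, 50), (1, 51), (1, 52), (1, 53), (1, 54), (1, 55), (1, 56), (1, 57), (1, 58), (1, 59), (1, 60), (1, 61), (1, 62), (1, 63), (1, 64), (1, 65), (1, 66), (1, 67), (1, 68), (1, 69), (1, 70), (1, 71), (1, 72), (1, 73), (1, 74), (1, 75), (1, 76), (1, 77), (1, 78), (1, 79), (1, 80), (1, 81), (1, 82), (1,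 83), (1, 84), (1, 85), (1, 86), (1, 87), (1, 88), (1, 89), (1, 90), (1, 91), (1, 92), (1, 93), (1, 94), (1, 95), (1, 96), (1, 97), (1, 98), (1, 99), (1, 100), (1, 101), (1, 102), (1, 103), (1, 104)]

/-- An element preserving the orbit. -/
def cR1 : CM :=
  ((1, 1, 2), (1, 2, 1), (2, 1, 1))

/-- The permutation of the lines by the element. -/
def cR1Cert : List (ℕ × ℕ) :=
  [(2, 28), (1, 22), (3, 19), (4, 30), (20, 83), (22, 60), (5, 67), (7, 76), (1, 17), (3, 31), (4, 10), (20, 46), (22, 94), (5, 99), (7, 41), (2, 34), (4, 16), (1, 8), (3, 23), (2, 2), (22, 37), (7, 92), (1, 1), (2, 18), (4, 24), (1, 33), (1, 26), (3, 29), (3, 0), (2, 27), (4, 3), (2, 9), (4, 32), (1, 25), (3, 15), (20, 85), (5, 66), (16, 20), (21, 79), (15, 53), (3, 77), (11, 14), (24, 57), (4, 43), (12, 47), (3, 84), (10, 11), (17, 44), (4, 48), (11, 69), (23, 82), (13, 71), (14, 65), (5, 39), (19, 64), (13, 70), (24, 63), (21, 42), (9,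 91), (17, 78), (16, 5), (2, 95), (14, 101), (21, 56), (23, 54), (8, 52), (15, 36), (15, 6), (2, 100), (7, 49), (18, 55), (18, 51), (19, 86), (14, 88), (20, 96), (18, 89), (11, 7), (2, 40), (12, 59), (24, 38), (9, 87), (6, 93), (19, 50), (10, 4), (2, 45), (10, 35), (23, 72), (6, 80), (8, 73), (13, 75), (22, 102), (6, 58), (11, 21), (9, 81), (16, 12), (3, 61), (10, 74), (17, 104), (4, 98), (15, 13), (3, 68), (8, 62), (16, 90), (4, 103), (12, 97)]

/-- An element preserving the orbit. -/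
def cR2 : CM :=
  ((1, 1, 3), (1, 2, 4), (3, 4, 1))

/-- The permutation of the lines by the element. -/
def cR2Cert : List (ℕ × ℕ) :=
  [(3, 27), (1, 25), (4, 30), (3, 16), (7, 81), (5, 64), (22, 57), (20, 88), (1, 18), (4, 9), (3, 34), (7, 40), (5, 100), (22, 95), (20, 45), (2, 31), (2, 3), (3, 24), (1, 8), (4, 19), (7, 91), (22, 38), (1, 32), (4, 23), (2, 17), (1, 1), (2, 28), (2, 0), (3, 26), (1, 29), (4, 2), (3, 15), (1, 22), (4, 33), (2, 10), (5, 65), (20, 86), (21, 78), (16, 21), (24, 60), (11, 11), (3, 80), (15, 54), (12, 50), (4, 44), (10, 14), (3, 87), (23, 82), (11, 70), (4, 49), (17, 43), (14, 66), (13, 72), (19, 67), (5, 42), (13, 69), (2, 94), (16, 6), (17, 79), (9, 92), (21, 39), (24, 68), (14, 104), (2, 99), (15, 5), (15, 35), (8, 51), (23, 53), (21, 61), (18, 55), (7, 48), (19, 85), (18, 52), (20, 93), (14, 83), (18, 90), (6, 96), (9, 84), (24, 37), (12, 58), (2, 41), (11, 4), (19, 47), (8,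 74), (6, 77), (23, 71), (10, 36), (2, 46), (10, 7), (22, 103), (13, 75), (11, 20), (6, 59), (10, 73), (3, 56), (16, 13), (9, 76), (4, 97), (17, 101), (3, 63), (15, 12), (12, 98), (4, 102), (16, 89), (8, 62)]

/-- An element preserving the orbit. -/
def cR3 : CM :=
  ((1, 3, 1), (1, 4, 2), (2, 4, 1))

/-- The permutation of the lines by the element. -/
def cR3Cert : List (ℕ × ℕ) :=
  [(1, 22), (3, 28), (4, 30), (2, 19), (10, 60), (11, 83), (15, 76), (16, 67), (1, 17), (2, 34), (4, 3), (13, 70), (14, 101), (18, 89), (19, 50), (4, 10), (2, 2), (1, 33), (2, 27), (3, 15), (14, 65), (19, 86), (3, 23), (4, 24), (3, 0), (1, 25), (1, 8), (2, 18), (3, 29), (4, 32), (3, 31), (4, 16), (1, 1), (1, 26), (2, 9), (13, 71), (18, 51), (21, 79), (11, 21), (23, 82), (2, 100), (6, 93), (10, 74), (15, 6), (9, 87), (2, 95), (8, 73), (24, 57), (16, 5), (6, 80), (12, 97), (7, 92), (5, 66), (18, 55), (20, 96), (7, 41), (10, 11), (11,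 69), (15, 36), (24, 38), (3, 61), (4, 98), (5, 99), (11, 14), (12, 47), (17, 78), (23, 72), (3, 68), (4, 103), (19, 64), (22, 102), (22, 37), (20, 85), (5, 39), (13, 75), (22, 94), (3, 77), (4, 43), (9, 91), (10, 35), (15, 13), (16, 90), (20, 46), (3, 84), (4, 48), (8, 52), (12, 59), (16, 12), (17, 104), (7, 49), (14, 88), (16, 20), (6, 58), (15, 53), (21, 42), (2, 45), (8, 62), (24, 63), (10, 4), (23, 54), (2, 40), (17, 44), (21, 56), (11, 7), (9, 81)]

/-- An element preserving the orbit. -/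
def cR4 : CM :=
  ((1, 3, 4), (1, 4, 3), (3, 1, 1))

/-- The permutation of the lines by the element. -/
def cR4Cert : List (ℕ × ℕ) :=
  [(4, 25), (3, 27), (2, 16), (4, 30), (16, 64), (15, 81), (11, 88), (10, 57), (1, 18), (4, 2), (2, 31), (19, 47), (18, 90), (14, 104), (13, 69), (4, 9), (3, 15), (2, 28), (1, 32), (2, 3), (19, 85), (14, 66), (1, 22), (2, 0), (4, 23), (3, 24), (4, 33), (3, 26), (2, 17), (1, 8), (3, 34), (2, 10), (1, 29), (1, 1), (4, 19), (18, 52), (13, 72), (11, 20), (21, 78), (10, 73), (6, 96), (2, 99), (23, 82), (9, 84), (15, 5), (8, 74), (2, 94), (12, 98), (6, 77), (16, 6), (24, 60), (5, 65), (7, 91), (20, 93), (18, 55), (7, 40), (4, 97), (3, 56), (24, 37), (15, 35), (11, 70), (10, 14), (5, 100), (4, 102), (3, 63), (23, 71), (17, 79), (12, 50), (11, 11), (22, 103), (19, 67), (20, 86), (22, 38), (13, 75), (5, 42), (22, 95), (16, 89), (15, 12), (10, 36), (9, 92), (4, 44), (3, 80), (20, 45),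 (17, 101), (16, 13), (12, 58), (8, 51), (4, 49), (3, 87), (14, 83), (7, 48), (6, 59), (16, 21), (8, 62), (2, 46), (21, 39), (15, 54), (10, 7), (24, 68), (2, 41), (23, 53), (9, 76), (11, 4), (21, 61), (17, 43)]

/-- An isotropic vector of an outside transvection. -/
def cW : CV :=
  (0, 1, 2)

/-- A line moved out of the orbit. -/
def cX : CV :=
  (0, 0, 1)

/-- Representatives of an orbit of lines. -/
def dL : List CV :=
  [(1, 1, 5), (1, 1, 14), (1, 1, 19), (1, 1, 20), (1, 5, 1), (1, 5, 12), (1, 7, 8), (1, 7, 15), (1, 8, 7), (1, 8, 8), (1, 10, 10), (1, 10, 22), (1, 11, 12), (1, 11, 17), (1, 12, 5), (1, 12, 11), (1, 12, 16), (1, 12, 19), (1, 14, 1), (1, 14, 17), (1, 15, 7), (1, 15, 15), (1, 16, 12), (1, 16, 17), (1, 17, 11), (1, 17, 14), (1, 17, 16), (1, 17, 20), (1, 19, 1), (1, 19, 12), (1, 20, 1), (1, 20, 17), (1, 22, 10), (1, 22, 23), (1, 23, 22), (1, 23, 23)]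

/-- An element preserving the orbit. -/
def dT : CM :=
  ((0, 5, 5), (20, 2, 3), (20, 3, 2))

/-- The permutation of the lines by the element. -/
def dTCert : List (ℕ × ℕ) :=
  [(7, 5), (4, 1), (1, 28), (8, 27), (7, 14), (11, 0), (4, 6), (13, 15), (4, 8), (9, 35), (3, 21), (12, 26), (18, 20), (15, 29), (11, 4), (18, 7), (15, 19), (5, 24), (4, 18), (5, 16), (13, 12), (2, 10), (15, 25), (17, 32), (15, 17), (5, 22), (17, 11), (14, 3), (1, 2), (5, 13), (8, 31), (14, 30), (12, 23), (1, 34), (1, 33), (6, 9)]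

/-- An element preserving the orbit. -/
def dXX : CM :=
  ((1, 0, 0), (0, 12, 0), (0, 0, 17))

/-- The permutation of the lines by the element. -/
def dXXCert : List (ℕ × ℕ) :=
  [(1, 15), (1, 14), (1, 16), (1, 17), (1, 19), (1, 18), (1, 8), (1, 9), (1, 21), (1, 20), (1, 34), (1, 35), (1, 4), (1, 5), (1, 24), (1, 25), (1, 27), (1, 26), (1, 13), (1, 12), (1, 7), (1, 6), (1, 28), (1, 29), (1, 1), (1, 0), (1, 3), (1, 2), (1, 31), (1, 30), (1, 23), (1, 22), (1, 11), (1, 10), (1, 33), (1, 32)]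

/-- An element preserving the orbit. -/
def dYY : CM :=
  ((0, 0, 1), (1, 0, 0), (0, 1, 0))

/-- The permutation of the lines by the element. -/
def dYYCert : List (ℕ × ℕ) :=
  [(5, 21), (14, 9), (19, 35), (20, 10), (1, 0), (12, 24), (8, 19), (15, 5), (7, 12), (8, 18), (10, 30), (22, 22), (12, 25), (17, 14), (5, 20), (11, 6), (16, 32), (19, 34), (1, 1), (17, 15), (7, 13), (15, 4), (12, 27), (17, 17), (11, 7), (14, 8), (16, 33), (20, 11), (1, 2), (12, 26), (1, 3), (17, 16), (10, 31), (23, 29), (22, 23), (23, 28)]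

/-- An element preserving the orbit. -/
def dW0 : CM :=
  ((1, 0, 0), (0, 0, 1), (0, 1, 0))

/-- The permutation of the lines by the element. -/
def dW0Cert : List (ℕ × ℕ) :=
  [(1, 4), (1, 18), (1, 28), (1, 30), (1, 0), (1, 14), (1, 8), (1, 20), (1, 6), (1, 9), (1, 10), (1, 32), (1, 15), (1, 24), (1, 5), (1, 12), (1, 22), (1, 29), (1, 1), (1, 25), (1, 7), (1, 21), (1, 16), (1, 26), (1, 13), (1, 19), (1, 23), (1, 31), (1, 2), (1, 17), (1, 3), (1, 27), (1, 11), (1, 34), (1, 33), (1, 35)]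

/-- An element preserving the orbit. -/
def dW1 : CM :=
  ((1, 0, 0), (0, 1, 0), (0, 0, 1))

/-- The permutation of the lines by the element. -/
def dW1Cert : List (ℕ × ℕ) :=
  [(1, 0), (1, 1), (1, 2), (1, 3), (1, 4), (1, 5), (1, 6), (1, 7), (1, 8), (1, 9), (1, 10), (1, 11), (1, 12), (1, 13), (1, 14), (1, 15), (1, 16), (1, 17), (1, 18), (1, 19), (1, 20), (1, 21), (1, 22), (1, 23), (1, 24), (1, 25), (1, 26), (1, 27), (1, 28), (1, 29), (1, 30), (1, 31), (1, 32), (1, 33), (1, 34), (1, 35)]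

/-- An element preserving the orbit. -/
def dW2 : CM :=
  ((7, 7, 7), (7, 8, 15), (7, 15, 8))

/-- The permutation of the lines by the element. -/
def dW2Cert : List (ℕ × ℕ) :=
  [(21, 11), (1, 33), (13, 8), (2, 7), (21, 32), (22, 23), (1, 2), (9, 30), (1, 28), (8, 10), (20, 9), (3, 4), (11, 31), (23, 17), (22, 26), (11, 27), (23, 25), (14, 24), (1, 34), (14, 16), (9, 3), (19, 35), (23, 19), (5, 14), (23, 29), (14, 22), (5, 5), (10, 12), (13, 6), (14, 13), (2, 20), (10, 15), (3, 0), (13, 18), (13, 1), (15, 21)]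

/-- An element preserving the orbit. -/
def dW3 : CM :=
  ((7, 7, 7), (7, 15, 8), (7, 8, 15))

/-- The permutation of the lines by the element. -/
def dW3Cert : List (ℕ × ℕ) :=
  [(21, 32), (1, 34), (13, 6), (2, 20), (21, 11), (22, 26), (1, 28), (9, 3), (1, 2), (8, 10), (20, 9), (3, 0), (11, 27), (23, 29), (22, 23), (11, 31), (23, 19), (14, 13), (1, 33), (14, 22), (9, 30), (19, 35), (23, 25), (5, 5), (23, 17), (14, 16), (5, 14), (10, 15), (13, 8), (14, 24), (2, 7), (10, 12), (3, 4), (13, 1), (13, 18), (15, 21)]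

/-- An element preserving the orbit. -/
def dW4 : CM :=
  ((7, 7, 8), (7, 8, 7), (15, 8, 8))

/-- The permutation of the lines by the element. -/
def dW4Cert : List (ℕ × ℕ) :=
  [(1, 32), (10, 20), (2, 6), (22, 34), (22, 22), (9, 14), (9, 31), (24, 7), (8, 11), (11, 1), (5, 3), (20, 8), (23, 16), (10, 9), (2, 24), (22, 27), (14, 25), (3, 26), (2, 5), (1, 35), (11, 13), (9, 2), (5, 15), (22, 10), (9, 18), (23, 28), (21, 30), (5, 4), (14, 12), (21, 17), (3, 29), (2, 21), (13, 19), (6, 33), (5, 23), (13, 0)]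

/-- An element preserving the orbit. -/
def dW5 : CM :=
  ((7, 7, 8), (15, 8, 8), (7, 8, 7))

/-- The permutation of the lines by the element. -/
def dW5Cert : List (ℕ × ℕ) :=
  [(1, 11), (10, 7), (2, 8), (22, 33), (22, 16), (9, 5), (9, 27), (24, 20), (8, 32), (11, 18), (5, 30), (20, 6), (23, 22), (10, 9), (2, 13), (22, 31), (14, 19), (3, 23), (2, 14), (1, 35), (11, 24), (9, 28), (5, 12), (22, 10), (9, 1), (23, 2), (21, 3), (5, 0), (14, 15), (21, 29), (3, 17), (2, 21), (13, 25), (6, 34), (5, 26), (13, 4)]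

/-- An element preserving the orbit. -/
def dW6 : CM :=
  ((7, 8, 8), (7, 15, 7), (8, 8, 7))

/-- The permutation of the lines by the element. -/
def dW6Cert : List (ℕ × ℕ) :=
  [(2, 25), (11, 26), (3, 27), (23, 24), (2, 4), (14, 17), (11, 0), (1, 29), (11, 12), (19, 34), (15, 20), (5, 22), (9, 15), (21, 33), (14, 23), (9, 19), (21, 31), (10, 13), (11, 30), (10, 8), (1, 3), (24, 6), (21, 16), (13, 7), (21, 10), (10, 21), (13, 9), (22, 35), (3, 28), (10, 14), (23, 18), (22, 11), (5, 2), (3, 5), (3, 1), (6, 32)]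

/-- An element preserving the orbit. -/
def dW7 : CM :=
  ((7, 8, 8), (8, 8, 7), (7, 15, 7))

/-- The permutation of the lines by the element. -/
def dW7Cert : List (ℕ × ℕ) :=
  [(2, 19), (11, 23), (3, 31), (23, 13), (2, 0), (14, 29), (11, 4), (1, 17), (11, 15), (19, 33), (15, 7), (5, 16), (9, 12), (21, 34), (14, 26), (9, 25), (21, 27), (10, 24), (11, 3), (10, 6), (1, 30), (24, 8), (21, 22), (13, 20), (21, 10), (10, 21), (13, 9), (22, 35), (3, 2), (10, 5), (23, 1), (22, 32), (5, 28), (3, 14), (3, 18), (6, 11)]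

/-- An isotropic vector of an outside transvection. -/
def dW : CV :=
  (0, 1, 2)

/-- A line moved out of the orbit. -/
def dX : CV :=
  (1, 1, 5)

/-- The representatives of the normaliser modulo the Heisenberg group and scalars. -/
def dTab : List CM :=
  [((1, 0, 0), (0, 0, 1), (0, 1, 0)),
    ((1, 0, 0), (0, 1, 0), (0, 0, 1)),
    ((7, 7, 7), (7, 8, 15), (7, 15, 8)),
    ((7, 7, 7), (7, 15, 8), (7, 8, 15)),
    ((7, 7, 8), (7, 8, 7), (15, 8, 8)),
    ((7, 7, 8), (15, 8, 8), (7, 8, 7)),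
    ((7, 8, 8), (7, 15, 7), (8, 8, 7)),
    ((7, 8, 8), (8, 8, 7), (7, 15, 7)),
    ((1, 0, 0), (0, 0, 1), (0, 12, 0)),
    ((1, 0, 0), (0, 0, 1), (0, 17, 0)),
    ((1, 0, 0), (0, 12, 0), (0, 0, 1)),
    ((1, 0, 0), (0, 17, 0), (0, 0, 1)),
    ((7, 7, 7), (7, 8, 15), (8, 7, 15)),
    ((7, 7, 7), (7, 8, 15), (15, 8, 7)),
    ((7, 7, 7), (8, 7, 15), (7, 8, 15)),
    ((7, 7, 7), (15, 8, 7), (7, 8, 15)),
    ((7, 7, 8), (7, 8, 7), (7, 15, 15)),
    ((7, 7, 8), (7, 8, 7), (8, 7, 7)),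
    ((7, 7, 8), (7, 15, 15), (7, 8, 7)),
    ((7, 7, 8), (8, 7, 7), (7, 8, 7)),
    ((7, 7, 15), (7, 8, 8), (7, 15, 7)),
    ((7, 7, 15), (7, 15, 7), (7, 8, 8)),
    ((7, 15, 7), (7, 7, 15), (15, 7, 7)),
    ((7, 15, 7), (15, 7, 7), (7, 7, 15))]

/-- For each pair of images, one more than the number of a representative, or zero. -/
def dCode : List ℕ :=
  [0, 0, 0, 0, 0, 0, 0, 0, 0, 0, 0, 0, 0, 0, 0, 0, 0, 0, 0, 0, 0, 0, 0, 0, 0, 0, 0, 0, 0, 0, 0, 0, 0, 28, 163, 190, 0, 0, 0, 0, 0, 0, 31, 166, 193, 0, 0, 0, 0, 0, 0, 34, 169, 196, 0, 0, 0, 19, 181, 145, 0, 0, 0, 0, 0, 0, 22, 184, 148, 0, 0, 0, 0, 0, 0, 25, 187, 151, 0, 0, 0, 0, 10, 0, 0, 91, 0, 0, 100, 0, 0, 13, 0, 0, 94, 0, 0, 103, 0, 0, 16, 0, 0, 97, 0, 0, 106, 0, 0, 172, 0, 0, 0, 64, 127, 0, 0, 0, 175, 0, 0, 0, 67, 130, 0, 0, 0, 178, 0, 0, 0, 70, 133, 0, 0, 0, 199, 0, 118, 0, 0, 0, 0, 37, 0, 202, 0, 121, 0, 0, 0, 0, 40, 0, 205, 0, 124, 0, 0, 0, 0, 43, 0,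 0, 1, 0, 0, 82, 0, 0, 73, 0, 0, 4, 0, 0, 85, 0, 0, 76, 0, 0, 7, 0, 0, 88, 0, 0, 79, 0, 0, 208, 0, 46, 0, 136, 0, 0, 0, 0, 211, 0, 49, 0, 139, 0, 0, 0, 0, 214, 0, 52, 0, 142, 0, 0, 0, 0, 154, 109, 0, 0, 0, 55, 0, 0, 0, 157, 112, 0, 0, 0, 58, 0, 0, 0, 160, 115, 0, 0, 0, 61, 0, 0, 0, 0, 0, 0, 0, 0, 0, 0, 0, 0, 0, 0, 0, 0, 0, 0, 0, 0, 0, 0, 0, 0, 0, 0, 0, 0, 0, 0, 0, 0, 0, 0, 30, 165, 192, 0, 0, 0, 0, 0, 0, 33, 168, 195, 0, 0, 0, 0, 0, 0, 36, 171, 198, 0, 0, 0, 21, 183, 147, 0, 0, 0, 0, 0, 0, 24, 186, 150, 0, 0, 0, 0, 0, 0, 27, 189, 153, 0, 0, 0, 0, 12, 0, 0, 93, 0, 0, 102, 0, 0, 15, 0, 0, 96, 0, 0, 105, 0, 0, 18, 0, 0, 99, 0, 0, 108, 0, 0, 174, 0, 0, 0, 66, 129, 0, 0, 0, 177, 0, 0, 0, 69, 132, 0, 0, 0, 180, 0, 0, 0, 72, 135, 0, 0, 0, 201, 0, 120, 0, 0, 0, 0, 39, 0, 204, 0, 123, 0, 0, 0, 0, 42, 0, 207, 0, 126, 0, 0, 0, 0, 45, 0, 0, 3, 0, 0, 84, 0, 0, 75, 0, 0, 6, 0, 0, 87, 0, 0, 78, 0, 0, 9, 0, 0, 90, 0, 0, 81,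 0, 0, 210, 0, 48, 0, 138, 0, 0, 0, 0, 213, 0, 51, 0, 141, 0, 0, 0, 0, 216, 0, 54, 0, 144, 0, 0, 0, 0, 156, 111, 0, 0, 0, 57, 0, 0, 0, 159, 114, 0, 0, 0, 60, 0, 0, 0, 162, 117, 0, 0, 0, 63, 0, 0, 0, 0, 0, 0, 0, 0, 0, 0, 0, 0, 0, 0, 0, 0, 0, 0, 0, 0, 0, 0, 0, 0, 0, 0, 0, 0, 0, 0, 0, 0, 0, 0, 29, 164, 191, 0, 0, 0, 0, 0, 0, 32, 167, 194, 0, 0, 0, 0, 0, 0, 35, 170, 197, 0, 0, 0, 20, 182, 146, 0, 0, 0, 0, 0, 0, 23, 185, 149, 0, 0, 0, 0, 0, 0, 26, 188, 152, 0, 0, 0, 0, 11, 0, 0, 92, 0, 0, 101, 0, 0, 14, 0, 0, 95, 0, 0, 104, 0, 0, 17, 0, 0, 98, 0, 0, 107, 0, 0, 173, 0, 0, 0, 65, 128, 0, 0, 0, 176, 0, 0, 0, 68, 131, 0, 0, 0, 179, 0, 0, 0, 71, 134, 0, 0, 0, 200, 0, 119, 0, 0, 0, 0, 38, 0, 203, 0, 122, 0, 0, 0, 0, 41, 0, 206, 0, 125, 0, 0, 0, 0, 44, 0, 0, 2, 0, 0, 83, 0, 0, 74, 0, 0, 5, 0, 0, 86, 0, 0, 77, 0, 0, 8, 0, 0, 89, 0, 0, 80, 0, 0, 209, 0, 47, 0, 137, 0, 0, 0, 0, 212, 0, 50, 0, 140, 0, 0, 0, 0, 215, 0, 53,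 0, 143, 0, 0, 0, 0, 155, 110, 0, 0, 0, 56, 0, 0, 0, 158, 113, 0, 0, 0, 59, 0, 0, 0, 161, 116, 0, 0, 0, 62, 0]

end CfsgLib.Asch.UnitThree
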