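import Cfsg.Agent.Lib.Classical.AschUnitThreeModel

set_option autoImplicit false
set_option linter.unusedSectionVars false

/-!
For `q = 3, 5` the normaliser of a cubic field in dimension three stabilises an orbit of lines of an overgroup.
-/

namespace CfsgLib.Asch.UnitThree

open Matrix
open Cfsg.Geo (IsFieldSubalgebra IsAdjointClosedFor subalgebraNormalizer)
open CfsgLib.PrimeDim (SUGL)
open CfsgLib.ClassicalAut (Unitary.Conj)
open scoped MatrixGroups

/-- The trace of a power of the generator. -/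
def tauC (p d : ℕ) : ℕ :=
  if d % 7 = 0 then 3 % p
  else if d % 7 = 1 ∨ d % 7 = 2 ∨ d % 7 = 4 then 7 else cadd p (cneg p 1) (cneg p 7)

/-- A matrix given by a function of the indices. -/
def cmat (f : ℕ → ℕ → ℕ) : CM := ((f 0 0, f 0 1, f 0 2), (f 1 0, f 1 1, f 1 2), (f 2 0, f 2 1, f 2 2))

variable {F : Type*} [Field F] [Fintype F] {q : ℕ}

/-- The hermitian form. -/
abbrev hh (K : Unitary.Conj F q) (u v : Fin 3 → F) : F := sform K.bar (1 : Matrix (Fin 3) (Fin 3) F) u v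

theorem hh_swap (K : Unitary.Conj F q) (u v : Fin 3 → F) : hh K v u = K.bar (hh K u v) := by
  show sform K.bar 1 v u = K.bar (sform K.bar 1 u v)
  rw [← herm_sform K, ← herm_sform K]
  exact Classical.Herm.h_swap K u v

theorem hh_ext (K : Unitary.Conj F q) {X Y : Matrix (Fin 3) (Fin 3) F}
    (h : ∀ u v, hh K u (X *ᵥ v) = hh K u (Y *ᵥ v)) : X = Y := by
  ext i j
  have := h (Pi.single i 1) (Pi.single j 1)
  simpa [hh, sform] using this

theorem hh_single (K : Unitary.Conj F q) :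
    hh K (Pi.single (0 : Fin 3) (1 : F)) (Pi.single 0 1) = 1 := by simp [hh, sform]

theorem smul_one_cancel {a b : F} (e : a • (1 : Matrix (Fin 3) (Fin 3) F) = b • 1) : a = b := by
  have := congrFun (congrFun e 0) 0
  simpa using this

theorem char_facts (K : Unitary.Conj F q) (hq : q = 3 ∨ q = 5) :
    q.Prime ∧ (q : F) = 0 ∧ Fintype.card F = q * q := by
  have hc : Fintype.card F = q * q := by rw [← Nat.card_eq_fintype_card, K.card, pow_two]
  have hp : q.Prime := by rcases hq with rfl | rfl <;> norm_num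
  refine ⟨hp, ?_, hc⟩
  have := FiniteField.cast_card_eq_zero F
  rw [hc, Nat.cast_mul] at this
  exact mul_self_eq_zero.1 this

/-- The Frobenius power fixing the field. -/
theorem frob_two (K : Unitary.Conj F q) (hq : q = 3 ∨ q = 5) {x y : Matrix (Fin 3) (Fin 3) F} (h : Commute x y)
    (k : ℕ) : (x + y) ^ q ^ k = x ^ q ^ k + y ^ q ^ k := by
  obtain ⟨hp, hc, -⟩ := char_facts K hq
  haveI : Fact q.Prime := ⟨hp⟩
  haveI : CharP F q := (CharP.charP_iff_prime_eq_zero hp).2 hc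
  exact add_pow_char_pow_of_commute _ _ h

/-- The trace of the field. -/
def tr (q : ℕ) (x : Matrix (Fin 3) (Fin 3) F) : Matrix (Fin 3) (Fin 3) F := x + x ^ q ^ 2 + x ^ q ^ 4

theorem tr_add (K : Unitary.Conj F q) (hq : q = 3 ∨ q = 5) {x y : Matrix (Fin 3) (Fin 3) F} (h : Commute x y) :
    tr q (x + y) = tr q x + tr q y := by
  simp only [tr]
  rw [frob_two K hq h, frob_two K hq h]
  abel

theorem pow_sq (K : Unitary.Conj F q) (c : F) : c ^ q ^ 2 = c ∧ c ^ q ^ 4 = c := by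
  have h := FiniteField.pow_card c
  rw [← Nat.card_eq_fintype_card, K.card] at h
  refine ⟨h, ?_⟩
  rw [show q ^ 4 = q ^ 2 * q ^ 2 by ring, pow_mul, h, h]

theorem tr_smul (K : Unitary.Conj F q) (c : F) (x : Matrix (Fin 3) (Fin 3) F) : tr q (c • x) = c • tr q x := by
  simp only [tr, smul_pow, (pow_sq K c).1, (pow_sq K c).2, smul_add]

/-- A scalar in a field of matrices is recognised by a power. -/
theorem scalar_of_pow (K : Unitary.Conj F q) {r : ℕ} (hr : 0 < r) {L : Subalgebra F (Matrix (Fin 3) (Fin 3) F)}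
    (hL : IsFieldSubalgebra r L) {x : Matrix (Fin 3) (Fin 3) F} (hx : x ∈ L) (h4 : x ^ q ^ 2 = x) :
    ∃ c : F, x = c • 1 := by
  classical
  haveI : Finite L := Finite.of_injective _ Subtype.val_injective
  have hnt : Nontrivial L := by
    have : 0 < Module.finrank F L := by rw [hL.finrank_eq]; exact hr
    exact Module.finrank_pos_iff.1 this
  have hFL : IsField L := ⟨hnt.exists_pair_ne, fun a b => Subtype.ext (hL.comm a a.2 b b.2), fun {a} ha => by
    obtain ⟨b, hb, hab⟩ := hL.inv a a.2 fun e => ha (Subtype.ext e)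
    exact ⟨⟨b, hb⟩, Subtype.ext hab⟩⟩
  letI : Field L := hFL.toField
  let f : F → {y : L // y ^ q ^ 2 = y} := fun c =>
    ⟨⟨c • 1, L.smul_mem (one_mem L) c⟩, Subtype.ext (by
      show (c • (1 : Matrix (Fin 3) (Fin 3) F)) ^ q ^ 2 = c • 1
      rw [smul_pow, one_pow, (pow_sq K c).1])⟩
  have hinj : Function.Injective f := fun c d e => by
    have := congrArg (fun z => z.1.1 0 0) e
    simpa [f] using this
  have hbij := hinj.bijective_of_nat_card_le (by
    rw [K.card]; exact card_pow_eq_self_le (Nat.le_trans K.two_le (Nat.le_self_pow two_ne_zero q)))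
  obtain ⟨c, hc⟩ := hbij.2 ⟨⟨x, hx⟩, Subtype.ext h4⟩
  exact ⟨c, (congrArg (fun z => z.1.1) hc).symm⟩

theorem pow_red7 {Z : Matrix (Fin 3) (Fin 3) F} (h : Z ^ 7 = 1) (k : ℕ) : Z ^ k = Z ^ (k % 7) := by
  conv_lhs => rw [← Nat.mod_add_div k 7, pow_add, pow_mul, h, one_pow, mul_one]

/-- The facts about a generator of the torus. -/
structure Gen3 {p : ℕ} {K : Unitary.Conj F q} (E : Ev p K) (L : Subalgebra F (Matrix (Fin 3) (Fin 3) F))
    (Z : Matrix (Fin 3) (Fin 3) F) : Prop where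
  mem : Z ∈ L
  pow7 : Z ^ 7 = 1
  tr_eq : ∀ d : ℕ, tr q (Z ^ d) = E.ev (tauC p d) • 1
  unit : ∀ u v, hh K (Z *ᵥ u) (Z *ᵥ v) = hh K u v
  roots : ∀ x ∈ L, x ^ 7 = 1 → ∃ k : Fin 7, x = Z ^ (k : ℕ)

set_option maxHeartbeats 1000000 in
theorem exists_gen3 (K : Unitary.Conj F q) (hq : q = 3 ∨ q = 5) {L : Subalgebra F (Matrix (Fin 3) (Fin 3) F)}
    (hL : IsFieldSubalgebra 3 L) (hcl : IsAdjointClosedFor (Cfsg.hermForm 3 F q) L) :
    ∃ (E : Ev q K) (Z : Matrix (Fin 3) (Fin 3) F), Gen3 E L Z := by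
  classical
  obtain ⟨hp, hchar, hcF⟩ := char_facts K hq
  haveI : Finite L := Finite.of_injective _ Subtype.val_injective
  have hnt : Nontrivial L := by
    have : 0 < Module.finrank F L := by rw [hL.finrank_eq]; norm_num
    exact Module.finrank_pos_iff.1 this
  have hFL : IsField L := ⟨hnt.exists_pair_ne, fun a b => Subtype.ext (hL.comm a a.2 b b.2), fun {a} ha => by
    obtain ⟨b, hb, hab⟩ := hL.inv a a.2 fun e => ha (Subtype.ext e)
    exact ⟨⟨b, hb⟩, Subtype.ext hab⟩⟩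
  letI : Field L := hFL.toField
  have hcard : Nat.card Lˣ = (q ^ 2) ^ 3 - 1 := by
    rw [Nat.card_units, Module.natCard_eq_pow_finrank (K := F), hL.finrank_eq, K.card]
  obtain ⟨g₀, hg₀⟩ := IsCyclic.exists_ofOrder_eq_natCard (α := Lˣ)
  rw [hcard] at hg₀
  obtain ⟨g, hg⟩ : ∃ g : Lˣ, orderOf g = 7 := by
    refine ⟨g₀ ^ (((q ^ 2) ^ 3 - 1) / 7), ?_⟩
    rcases hq with rfl | rfl <;> norm_num at hg₀ ⊢ <;>
      rw [orderOf_pow' g₀ (by norm_num), hg₀] <;> norm_num
  have hprim : IsPrimitiveRoot ((g : Lˣ) : L) 7 :=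
    (IsPrimitiveRoot.orderOf ((g : Lˣ) : L)) |> fun h => by rwa [orderOf_units, hg] at h
  obtain ⟨Z, hZdef⟩ : ∃ Z : Matrix (Fin 3) (Fin 3) F, Z = ((g : Lˣ) : L).1 := ⟨_, rfl⟩
  have hZ : Z ∈ L := hZdef ▸ ((g : Lˣ) : L).2
  have hpow : ∀ k : ℕ, Z ^ k = (((g : Lˣ) : L) ^ k : L).1 := fun k => by rw [hZdef]; rfl
  have h7 : Z ^ 7 = 1 := by rw [hpow, hprim.pow_eq_one]; rfl
  have hroots : ∀ x ∈ L, x ^ 7 = 1 → ∃ k : Fin 7, x = Z ^ (k : ℕ) := fun x hx h => by
    obtain ⟨k, hk, hk'⟩ := hprim.eq_pow_of_pow_eq_one (ξ := (⟨x, hx⟩ : L)) (Subtype.ext h)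
    exact ⟨⟨k, hk⟩, (congrArg Subtype.val hk').symm.trans (hpow k).symm⟩
  have hsum : ∑ k ∈ Finset.range 7, Z ^ k = 0 := by
    have := hprim.geom_sum_eq_zero (by norm_num)
    have e := congrArg Subtype.val this
    rw [AddSubmonoidClass.coe_finsetSum] at e
    simp only [← hpow] at e
    exact e
  simp only [Finset.sum_range_succ, Finset.sum_range_zero, zero_add, pow_zero, pow_one] at hsum
  have hmod := pow_red7 h7
  have hcm : ∀ a b : ℕ, Commute (Z ^ a) (Z ^ b) := fun a b => Commute.pow_pow (Commute.refl Z) a b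
  have hη4 : (Z + Z ^ 2 + Z ^ 4) ^ q ^ 2 = Z + Z ^ 2 + Z ^ 4 := by
    rw [frob_two K hq (Commute.add_left (Commute.self_pow Z 4) (hcm 2 4)), frob_two K hq (Commute.self_pow Z 2)]
    simp only [← pow_mul]
    rw [hmod (q ^ 2), hmod (2 * q ^ 2), hmod (4 * q ^ 2)]
    rcases hq with rfl | rfl <;> norm_num <;> abel
  have hηmem : Z + Z ^ 2 + Z ^ 4 ∈ L := add_mem (add_mem hZ (pow_mem hZ _)) (pow_mem hZ _)
  obtain ⟨η, hη⟩ := scalar_of_pow K (by norm_num) hL hηmem hη4
  have hη' : Z ^ 3 + Z ^ 5 + Z ^ 6 = (-1 - η) • 1 := by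
    rw [sub_smul, neg_smul, one_smul, ← hη]
    apply eq_of_sub_eq_zero
    rw [← hsum]
    abel
  have hquad : η ^ 2 + η + 2 = 0 := by
    apply smul_one_cancel
    rw [zero_smul, add_smul, add_smul, pow_two, mul_smul, ← hη,
      show η • (Z + Z ^ 2 + Z ^ 4) = (η • (1 : Matrix (Fin 3) (Fin 3) F)) * (Z + Z ^ 2 + Z ^ 4) by
        rw [smul_mul_assoc, one_mul], ← hη, show (2 : F) • (1 : Matrix (Fin 3) (Fin 3) F) = 1 + 1 by
        rw [show (2 : F) = 1 + 1 by norm_num, add_smul, one_smul]]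
    simp only [add_mul, mul_add, ← pow_succ', ← pow_succ, ← pow_add]
    norm_num
    rw [show Z * Z = Z ^ 2 by rw [pow_two], hmod 8]
    norm_num
    rw [← zero_add (0 : Matrix (Fin 3) (Fin 3) F)]
    nth_rewrite 1 [← hsum]
    nth_rewrite 1 [← hsum]
    simp only [← one_add_one_eq_two]
    abel
  -- the adjoint
  obtain ⟨Z', hZ'L, hZ'⟩ := hcl Z hZ
  simp only [herm_sform K] at hZ'
  have hk : ∀ (k : ℕ) u v, hh K (Z ^ k *ᵥ u) v = hh K u (Z' ^ k *ᵥ v) := by
    intro k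
    induction k with
    | zero => simp
    | succ k ih =>
      intro u v
      rw [pow_succ', pow_succ, ← mulVec_mulVec, ← mulVec_mulVec]
      exact (hZ' _ _).trans (ih u (Z' *ᵥ v))
  obtain ⟨a, ha⟩ := hroots Z' hZ'L (hh_ext K fun u v => by rw [← hk, h7, one_mulVec, one_mulVec])
  have hsw : ∀ u v, hh K u (Z *ᵥ v) = hh K (Z' *ᵥ u) v := fun u v => by
    rw [hh_swap K (Z *ᵥ v) u, show hh K (Z *ᵥ v) u = hh K v (Z' *ᵥ u) from hZ' v u, ← hh_swap]
  have hZZ : Z = Z ^ ((a : ℕ) * a) := hh_ext K fun u v => by rw [hsw, ha, hk, pow_mul, ← ha]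
  have hA : (a : ℕ) * a % 7 = 1 := by
    have h' : ((g : Lˣ) : L) ^ 1 = ((g : Lˣ) : L) ^ ((a : ℕ) * a % 7) :=
      Subtype.ext (by rw [← hpow, ← hpow, pow_one, ← hmod]; exact hZZ)
    exact (hprim.pow_inj (by norm_num) (Nat.mod_lt _ (by norm_num)) h').symm
  have hsingle := hh_single K
  have hηbar : (a : ℕ) = 1 → K.bar η = η := fun h => by
    rw [h, pow_one] at ha
    have hpk : ∀ (k : ℕ) u v, hh K (Z ^ k *ᵥ u) v = hh K u (Z ^ k *ᵥ v) := fun k u v => by rw [hk, ha]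
    have e : ∀ u v, hh K ((η • (1 : Matrix (Fin 3) (Fin 3) F)) *ᵥ u) v = hh K u ((η • (1 : Matrix (Fin 3) (Fin 3) F)) *ᵥ v) := by
      intro u v
      have h1 := hpk 1 u v
      rw [pow_one] at h1
      simp only [← hη, Matrix.add_mulVec, hh, sform_add_left, sform_add_right]
      exact congrArg₂ (· + ·) (congrArg₂ (· + ·) h1 (hpk 2 u v)) (hpk 4 u v)
    have e1 := e (Pi.single 0 1) (Pi.single 0 1)
    simp only [hh] at hsingle
    simp only [smul_mulVec, one_mulVec, hh, sform_smul_left, sform_smul_right, hsingle, mul_one] at e1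
    exact e1.symm
  have ha6 : a.val = 6 := by
    refine ((show ∀ a : Fin 7, (a : ℕ) * a % 7 = 1 → a.val = 1 ∨ a.val = 6 by decide) a hA).resolve_left fun h => ?_
    have hfix := hηbar h
    rw [K.bar_apply] at hfix
    rcases hq with rfl | rfl
    · push_cast at hchar
      have : η = 1 := by grind
      subst this
      have h4 : (4 : F) = 0 := by linear_combination hquad
      exact one_ne_zero (show (1 : F) = 0 by linear_combination h4 - hchar)
    · push_cast at hchar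
      have : η = 2 := by grind
      subst this
      have h8 : (8 : F) = 0 := by linear_combination hquad
      exact one_ne_zero (show (1 : F) = 0 by linear_combination 2 * h8 - 3 * hchar)
  have hunit : ∀ u v, hh K (Z *ᵥ u) (Z *ᵥ v) = hh K u v := fun u v => by
    show sform K.bar 1 _ _ = _
    rw [hZ', mulVec_mulVec, ha, ha6, ← pow_succ, h7, one_mulVec]
  have hbar : K.bar η = -1 - η := by
    have e : hh K ((η • (1 : Matrix (Fin 3) (Fin 3) F)) *ᵥ Pi.single 0 1) (Pi.single 0 1) =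
        hh K (Pi.single 0 1) (((-1 - η) • (1 : Matrix (Fin 3) (Fin 3) F)) *ᵥ Pi.single 0 1) := by
      rw [← hη, ← hη']
      have h1 := hk 1 (Pi.single (0 : Fin 3) (1 : F)) (Pi.single 0 1)
      rw [pow_one] at h1
      have hp2 : Z' ^ 2 = Z ^ 5 := by rw [ha, ha6, ← pow_mul, hmod]
      have hp4 : Z' ^ 4 = Z ^ 3 := by rw [ha, ha6, ← pow_mul, hmod]
      simp only [Matrix.add_mulVec, hh, sform_add_left, sform_add_right] at *
      rw [h1, hk 2, hk 4, pow_one, hp2, hp4, ha, ha6]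
      ring
    simp only [hh] at hsingle
    simp only [smul_mulVec, one_mulVec, hh, sform_smul_left, sform_smul_right, hsingle, mul_one] at e
    have := congrArg K.bar e
    rwa [K.bar_bar] at this
  obtain ⟨c, hc⟩ : ∃ c : F, c = if q = 3 then 1 else 3 := ⟨_, rfl⟩
  have hs2 : (c * (2 * η + 1)) * (c * (2 * η + 1)) = 2 := by
    rcases hq with rfl | rfl
    · push_cast at hchar; rw [hc, if_pos rfl]; linear_combination 4 * hquad - 3 * hchar
    · push_cast at hchar; rw [hc, if_neg (by norm_num)]; linear_combination 36 * hquad - 13 * hchar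
  let E : Ev q K :=
    { s := c * (2 * η + 1)
      prime := hp
      card := hcF
      two := hs2
      char := hchar
      bar_s := by
        rcases hq with rfl | rfl
        · rw [hc, if_pos rfl]; simp only [map_mul, map_add, map_one, map_ofNat, hbar]; ring
        · rw [hc, if_neg (by norm_num)]; simp only [map_mul, map_add, map_one, map_ofNat, hbar]; ring
      s_ne := by
        intro h
        have h4 : (4 : F) = 0 := by linear_combination (c * (2 * η + 1)) * h - 2 * hs2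
        rcases hq with rfl | rfl <;> push_cast at hchar
        · exact one_ne_zero (show (1 : F) = 0 by linear_combination h4 - hchar)
        · exact one_ne_zero (show (1 : F) = 0 by linear_combination hchar - h4) }
  refine ⟨E, Z, hZ, h7, fun d => ?_, hunit, hroots⟩
  have e7 : E.ev 7 = η := by
    rw [E.ev_eq]
    rcases hq with rfl | rfl
    · push_cast at hchar
      show ((7 : ℕ) : F) + ((2 : ℕ) : F) * (c * (2 * η + 1)) = η
      rw [hc, if_pos rfl]; push_cast; linear_combination (3 + η) * hchar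
    · push_cast at hchar
      show ((7 : ℕ) : F) + ((1 : ℕ) : F) * (c * (2 * η + 1)) = η
      rw [hc, if_neg (by norm_num)]; push_cast; linear_combination (2 + η) * hchar
  have etr : tr q (Z ^ d) = tr q (Z ^ (d % 7)) := by rw [← hmod]
  have etau : tauC q d = tauC q (d % 7) := by simp [tauC]
  rw [etr, etau]
  have hd := Nat.mod_lt d (show 7 > 0 by norm_num)
  simp only [tr, ← pow_mul]
  rw [hmod (d % 7 * q ^ 2), hmod (d % 7 * q ^ 4)]
  have e3 : E.ev (3 % q) • (1 : Matrix (Fin 3) (Fin 3) F) = 1 + 1 + 1 := by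
    rw [E.ev_small (Nat.mod_lt _ hp.pos), E.cast_mod, Nat.cast_ofNat, show (3 : F) = 1 + 1 + 1 by norm_num, add_smul,
      add_smul, one_smul]
  have e7' : E.ev 7 • (1 : Matrix (Fin 3) (Fin 3) F) = Z + Z ^ 2 + Z ^ 4 := by rw [e7, hη]
  have en : E.ev (cadd q (cneg q 1) (cneg q 7)) • (1 : Matrix (Fin 3) (Fin 3) F) = Z ^ 3 + Z ^ 5 + Z ^ 6 := by
    rw [E.ev_add, E.ev_neg, E.ev_neg, E.ev_one, e7, hη']
    ring_nf
  obtain ⟨r, hr⟩ : ∃ r, r = d % 7 := ⟨_, rfl⟩
  rw [← hr] at hd ⊢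
  rcases hq with rfl | rfl <;> interval_cases r <;>
    first
      | (rw [show tauC _ 0 = 3 % _ from rfl, e3]; norm_num)
      | (simp only [tauC]; norm_num [e7', en] <;> abel)

/-- A frame for the cubic field. -/
theorem exists_frame3 (K : Unitary.Conj F q) (hq : q = 3 ∨ q = 5) {L : Subalgebra F (Matrix (Fin 3) (Fin 3) F)}
    (hL : IsFieldSubalgebra 3 L) (hcl : IsAdjointClosedFor (Cfsg.hermForm 3 F q) L) {E : Ev q K}
    {Z : Matrix (Fin 3) (Fin 3) F} (hG : Gen3 E L Z) {H Hi : CM} {R : CV}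
    (hH : H = cmat fun i j => tauC q (i + j)) (hHi : cmm q Hi H = cone)
    (hR : cmv q H R = (tauC q 3, tauC q 4, tauC q 5)) :
    ∃ P : GL (Fin 3) F, (P : Matrix (Fin 3) (Fin 3) F)ᵀ * bm K.bar (P : Matrix (Fin 3) (Fin 3) F) =
        E.evM (cmat fun i j => tauC q (i + 6 * j)) ∧
      Z * (P : Matrix (Fin 3) (Fin 3) F) =
        (P : Matrix (Fin 3) (Fin 3) F) * E.evM ((0, 0, R.1), (1, 0, R.2.1), (0, 1, R.2.2)) ∧
      (∀ x : Matrix (Fin 3) (Fin 3) F, Commute x Z → x ∈ L) ∧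
      (∀ x ∈ L, (∀ u v, hh K (x *ᵥ u) (x *ᵥ v) = hh K u v) → x ^ (q ^ 3 + 1) = 1) ∧
      (∀ x ∈ L, x.det • (1 : Matrix (Fin 3) (Fin 3) F) = x ^ (q ^ 4 + q ^ 2 + 1)) := by
  classical
  obtain ⟨hp, hchar, hcF⟩ := char_facts K hq
  haveI : Fact q.Prime := ⟨hp⟩
  have h7 := hG.pow7
  have hmod := pow_red7 h7
  obtain ⟨Φ, hΦ⟩ : ∃ Φ : (Fin 3 → F) →ₗ[F] Matrix (Fin 3) (Fin 3) F, ∀ a, Φ a = ∑ i, a i • Z ^ (i : ℕ) :=
    ⟨{ toFun := fun a => ∑ i, a i • Z ^ (i : ℕ)
       map_add' := fun a b => by simp [add_smul, Finset.sum_add_distrib]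
       map_smul' := fun c a => by simp [Finset.smul_sum, smul_smul] }, fun a => rfl⟩
  have hΦL : ∀ a, Φ a ∈ L := fun a => by
    rw [hΦ]; exact sum_mem fun i _ => L.smul_mem (pow_mem hG.mem _) _
  have hcm : ∀ x ∈ L, ∀ y ∈ L, Commute x y := fun x hx y hy => hL.comm x hx y hy
  have hHe : ∀ s i : Fin 3, E.evM H s i = E.ev (tauC q ((s : ℕ) + i)) := fun s i => by
    rw [hH]; fin_cases s <;> fin_cases i <;> simp [Ev.evM, cmat]
  have htrsum : ∀ a : Fin 3 → F, ∀ s : Fin 3, tr q (Z ^ (s : ℕ) * Φ a) = (E.evM H *ᵥ a) s • 1 := by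
    intro a s
    have e : ∀ i : Fin 3, tr q (Z ^ (s : ℕ) * (a i • Z ^ (i : ℕ))) = (a i * E.evM H s i) • 1 := fun i => by
      rw [mul_smul_comm, tr_smul K, ← pow_add, hG.tr_eq, smul_smul, hHe]
    have hm : ∀ i : Fin 3, Z ^ (s : ℕ) * (a i • Z ^ (i : ℕ)) ∈ L := fun i =>
      mul_mem (pow_mem hG.mem _) (L.smul_mem (pow_mem hG.mem _) _)
    rw [hΦ, Finset.mul_sum, Fin.sum_univ_three, tr_add K hq (hcm _ (add_mem (hm 0) (hm 1)) _ (hm 2)),
      tr_add K hq (hcm _ (hm 0) _ (hm 1)), e, e, e, ← add_smul, ← add_smul]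
    congr 1
    simp [Matrix.mulVec, dotProduct, Fin.sum_univ_three, mul_comm]
  have hHinv : E.evM Hi * E.evM H = 1 := by rw [← E.evM_mul, hHi, E.evM_one]
  have hΦinj : Function.Injective Φ := by
    refine (injective_iff_map_eq_zero Φ).2 fun a ha => ?_
    have hs : E.evM H *ᵥ a = 0 := by
      funext s
      refine smul_one_cancel ?_
      rw [← htrsum, ha, mul_zero, Pi.zero_apply, zero_smul]
      simp [tr, zero_pow (pow_ne_zero _ hp.ne_zero)]
    have := congrArg (E.evM Hi *ᵥ ·) hs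
    rwa [mulVec_mulVec, hHinv, one_mulVec, mulVec_zero] at this
  have hspan : ∀ x ∈ L, ∃ a, Φ a = x := by
    intro x hx
    have hle : LinearMap.range Φ ≤ Subalgebra.toSubmodule L := by rintro _ ⟨a, rfl⟩; exact hΦL a
    have := Submodule.eq_of_le_of_finrank_le hle (by
      rw [LinearMap.finrank_range_of_inj hΦinj, Module.finrank_fin_fun]
      exact hL.finrank_eq.le)
    exact LinearMap.mem_range.1 (this ▸ (show x ∈ Subalgebra.toSubmodule L from hx))
  have hZ6 : ∀ u v, hh K (Z *ᵥ u) v = hh K u (Z ^ 6 *ᵥ v) := fun u v => by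
    conv_lhs => rw [← one_mulVec v, ← h7, pow_succ' Z 6, ← mulVec_mulVec, hG.unit]
  have hadjk : ∀ (k : ℕ) u v, hh K (Z ^ k *ᵥ u) v = hh K u (Z ^ (6 * k) *ᵥ v) := by
    intro k
    induction k with
    | zero => simp
    | succ k ih =>
      intro u v
      rw [pow_succ', ← mulVec_mulVec, hZ6, ih, mulVec_mulVec, ← pow_add, mul_add, mul_one]
  have hfrob : ∀ c : F, c ^ q ^ 3 = K.bar c := fun c => by
    rw [K.bar_apply, show q ^ 3 = q ^ 2 * q by ring, pow_mul, (pow_sq K c).1]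
  have hq7 : q ^ 3 % 7 = 6 := by rcases hq with rfl | rfl <;> norm_num
  have hadj : ∀ x ∈ L, ∀ u v, hh K (x *ᵥ u) v = hh K u (x ^ q ^ 3 *ᵥ v) := by
    intro x hx u v
    obtain ⟨a, rfl⟩ := hspan x hx
    have hc : ∀ i j : Fin 3, Commute (a i • Z ^ (i : ℕ)) (a j • Z ^ (j : ℕ)) := fun i j =>
      ((Commute.refl Z).pow_pow _ _).smul_left _ |>.smul_right _
    rw [hΦ, Fin.sum_univ_three, frob_two K hq (Commute.add_left (hc 0 2) (hc 1 2)), frob_two K hq (hc 0 1)]
    simp only [smul_pow, Matrix.add_mulVec, smul_mulVec, hh, sform_add_left, sform_add_right,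
      sform_smul_left, sform_smul_right, ← pow_mul, hfrob, K.bar_bar]
    have e : ∀ i : ℕ, sform K.bar 1 (Z ^ i *ᵥ u) v = sform K.bar 1 u (Z ^ (i * q ^ 3) *ᵥ v) := fun i => by
      have := hadjk i u v
      rw [hmod (6 * i)] at this
      rw [hmod (i * q ^ 3), Nat.mul_mod, hq7, show i % 7 * 6 % 7 = 6 * i % 7 by omega]
      exact this
    rw [e, e, e]
  have hbig : ∀ x ∈ L, x ^ q ^ 6 = x := fun x hx => by
    have := field_pow_eq_self (by norm_num) hL hx
    rwa [hcF, show (q * q) ^ 3 = q ^ 6 by ring] at this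
  have htrs : ∀ x ∈ L, ∃ c : F, tr q x = c • 1 := by
    intro x hx
    refine scalar_of_pow K (by norm_num) hL (add_mem (add_mem hx (pow_mem hx _)) (pow_mem hx _)) ?_
    simp only [tr]
    rw [frob_two K hq (Commute.add_left (Commute.self_pow x _) ((Commute.refl x).pow_pow _ _)),
      frob_two K hq (Commute.self_pow x _), ← pow_mul, ← pow_mul, ← pow_add, ← pow_add, hbig x hx]
    abel
  choose t ht using htrs
  obtain ⟨v₀, hv₀⟩ : ∃ v₀ : Fin 3 → F, v₀ = Pi.single 0 1 := ⟨_, rfl⟩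
  obtain ⟨Em, hE⟩ : ∃ Em : L →ₗ[F] (Fin 3 → F), ∀ x : L, Em x = (x : Matrix (Fin 3) (Fin 3) F) *ᵥ v₀ :=
    ⟨{ toFun := fun x => (x : Matrix (Fin 3) (Fin 3) F) *ᵥ v₀
       map_add' := fun x y => Matrix.add_mulVec _ _ _
       map_smul' := fun c x => smul_mulVec _ _ _ }, fun x => rfl⟩
  have hEinj : Function.Injective Em := by
    refine (injective_iff_map_eq_zero Em).2 fun x hx => ?_
    by_contra h
    obtain ⟨y, hy, hxy⟩ := hL.inv x x.2 fun e => h (Subtype.ext e)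
    have e := congrArg (y *ᵥ ·) ((hE x).symm.trans hx)
    simp only [mulVec_mulVec, mulVec_zero, ← hL.comm _ x.2 _ hy, hxy, one_mulVec] at e
    have := congrFun e 0
    simp [hv₀] at this
  have hsur : Function.Surjective Em :=
    (LinearMap.injective_iff_surjective_of_finrank_eq_finrank
      (by rw [hL.finrank_eq, Module.finrank_fin_fun])).1 hEinj
  choose inv hinv using hsur
  obtain ⟨ℓ, hℓ⟩ : ∃ ℓ : (Fin 3 → F) → F, ℓ = fun u => t (inv u).1 (inv u).2 := ⟨_, rfl⟩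
  have hℓadd : ∀ u w, ℓ (u + w) = ℓ u + ℓ w := fun u w => by
    have e : inv (u + w) = inv u + inv w := hEinj (by rw [map_add, hinv, hinv, hinv])
    refine smul_one_cancel ?_
    simp only [hℓ]
    rw [add_smul, ← ht, ← ht, ← ht, e]
    exact tr_add K hq (hcm _ (inv u).2 _ (inv w).2)
  have hℓsmul : ∀ (c : F) u, ℓ (c • u) = c * ℓ u := fun c u => by
    have e : inv (c • u) = c • inv u := hEinj (by rw [map_smul, hinv, hinv])
    refine smul_one_cancel ?_
    simp only [hℓ]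
    rw [mul_smul, ← ht, ← ht, e]
    exact tr_smul K c _
  obtain ⟨w, hw⟩ : ∃ w : Fin 3 → F, w = fun i => K.bar (ℓ (Pi.single i 1)) := ⟨_, rfl⟩
  have hriesz : ∀ z, hh K z w = ℓ z := by
    intro z
    let ℓ' : (Fin 3 → F) →ₗ[F] F := { toFun := ℓ, map_add' := hℓadd, map_smul' := hℓsmul }
    show _ = ℓ' z
    conv_rhs => rw [pi_eq_sum_univ' z]
    simp [hh, sform, hw, dotProduct, K.bar_bar, ℓ', -LinearMap.coe_mk]
    rfl
  obtain ⟨m, hm⟩ : ∃ m : L, Em m = w := ⟨inv w, hinv w⟩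
  rw [hE] at hm
  have htrm : ∀ x ∈ L, ∀ c : F, tr q x = c • 1 → hh K (x *ᵥ v₀) ((m : Matrix (Fin 3) (Fin 3) F) *ᵥ v₀) = c := by
    intro x hx c hc
    rw [hm, hriesz]
    have e : inv (x *ᵥ v₀) = ⟨x, hx⟩ := hEinj (by rw [hinv, hE])
    refine smul_one_cancel ?_
    simp only [hℓ]
    rw [← ht, e, hc]
  have hm3 : ((m : Matrix (Fin 3) (Fin 3) F)) ^ q ^ 3 = m := by
    have hz : (⟨_, pow_mem m.2 (q ^ 3)⟩ : L) = m := by
      refine hEinj ?_
      rw [hE, hE]
      funext i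
      apply K.bar.injective
      obtain ⟨j, hj⟩ : ∃ j : L, Em j = Pi.single i 1 := ⟨_, hinv _⟩
      rw [hE] at hj
      obtain ⟨c, hc⟩ : ∃ c, tr q ((j : Matrix (Fin 3) (Fin 3) F)) = c • 1 := ⟨_, ht _ j.2⟩
      have e2 : tr q ((j : Matrix (Fin 3) (Fin 3) F) ^ q ^ 3) = K.bar c • 1 := by
        have : tr q ((j : Matrix (Fin 3) (Fin 3) F) ^ q ^ 3) = tr q (j : Matrix (Fin 3) (Fin 3) F) ^ q ^ 3 := by
          simp only [tr]
          rw [frob_two K hq (Commute.add_left (Commute.self_pow _ _) ((Commute.refl _).pow_pow _ _)),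
            frob_two K hq (Commute.self_pow _ _)]
          simp only [← pow_mul, mul_comm]
        rw [this, hc, smul_pow, one_pow, hfrob]
      have key : hh K ((j : Matrix (Fin 3) (Fin 3) F) *ᵥ v₀) (((m : Matrix (Fin 3) (Fin 3) F)) ^ q ^ 3 *ᵥ v₀) =
          hh K ((j : Matrix (Fin 3) (Fin 3) F) *ᵥ v₀) ((m : Matrix (Fin 3) (Fin 3) F) *ᵥ v₀) := by
        rw [← hadj _ m.2, mulVec_mulVec, hL.comm _ m.2 _ j.2, ← mulVec_mulVec, hadj _ j.2,
          hh_swap K ((j : Matrix (Fin 3) (Fin 3) F) ^ q ^ 3 *ᵥ v₀) ((m : Matrix (Fin 3) (Fin 3) F) *ᵥ v₀),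
          htrm _ (pow_mem j.2 _) _ e2, K.bar_bar, htrm _ j.2 _ hc]
      rw [hj] at key
      simpa [hh, sform] using key
    exact congrArg Subtype.val hz
  -- a norm
  haveI : Finite L := Finite.of_injective _ Subtype.val_injective
  have hnt : Nontrivial L := by
    have : 0 < Module.finrank F L := by rw [hL.finrank_eq]; norm_num
    exact Module.finrank_pos_iff.1 this
  have hFL : IsField L := ⟨hnt.exists_pair_ne, fun a b => Subtype.ext (hL.comm a a.2 b b.2), fun {a} ha => by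
    obtain ⟨b, hb, hab⟩ := hL.inv a a.2 fun e => ha (Subtype.ext e)
    exact ⟨⟨b, hb⟩, Subtype.ext hab⟩⟩
  letI : Field L := hFL.toField
  have hcardL : Nat.card L = q ^ 6 := by
    rw [Module.natCard_eq_pow_finrank (K := F), hL.finrank_eq, K.card]; ring
  have htr1 : tr q (1 : Matrix (Fin 3) (Fin 3) F) = E.ev (tauC q 0) • 1 := by
    simpa using hG.tr_eq 0
  have hm0 : m ≠ 0 := by
    intro h0
    have hd : ∀ d : Fin 3, E.ev (tauC q d) = 0 := fun d => by
      rw [← htrm _ (pow_mem hG.mem (d : ℕ)) _ (hG.tr_eq d), h0]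
      simp [hh, sform]
    have h1 := hd 1
    rw [show tauC q ((1 : Fin 3) : ℕ) = 7 from rfl] at h1
    exact E.ev_ne_zero (show 7 < q * q by rcases hq with rfl | rfl <;> norm_num) (by norm_num) h1
  obtain ⟨g, hg⟩ := IsCyclic.exists_generator (α := Lˣ)
  have hog : orderOf g = q ^ 6 - 1 := by
    rw [orderOf_eq_card_of_forall_mem_zpowers hg, Nat.card_units, hcardL]
  obtain ⟨k, hk⟩ : ∃ k : ℕ, g ^ k = Units.mk0 m hm0 := by
    obtain ⟨k, hk⟩ := mem_powers_iff_mem_zpowers.2 (hg (Units.mk0 m hm0))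
    exact ⟨k, hk⟩
  have hmL : m ^ q ^ 3 = m := Subtype.ext hm3
  obtain ⟨l, hl⟩ : q ^ 3 + 1 ∣ k := by
    have e : g ^ (k * (q ^ 3 - 1)) = 1 := by
      rw [pow_mul, hk]
      refine Units.ext ?_
      rw [Units.val_pow_eq_pow_val, Units.val_one, Units.val_mk0]
      exact mul_left_cancel₀ hm0 (by
        rw [← pow_succ', Nat.sub_add_cancel (Nat.one_le_pow _ _ hp.pos), hmL, mul_one])
    have e' := orderOf_dvd_of_pow_eq_one e
    rw [hog] at e'
    rcases hq with rfl | rfl <;> norm_num at e' ⊢ <;> omega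
  obtain ⟨y, hy⟩ : ∃ y : Matrix (Fin 3) (Fin 3) F, y = ((g ^ l : Lˣ) : L).1 := ⟨_, rfl⟩
  have hyL : y ∈ L := hy ▸ ((g ^ l : Lˣ) : L).2
  have hyy : y ^ q ^ 3 * y = m := by
    rw [hy, ← pow_succ]
    have : ((g ^ l : Lˣ) : L) ^ (q ^ 3 + 1) = m := by
      rw [← Units.val_pow_eq_pow_val, ← pow_mul, mul_comm, ← hl, hk, Units.val_mk0]
    exact congrArg Subtype.val this
  obtain ⟨v, hv⟩ : ∃ v, v = y *ᵥ v₀ := ⟨_, rfl⟩
  have hgram : ∀ x ∈ L, ∀ c : F, tr q x = c • 1 → hh K (x *ᵥ v) v = c := by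
    intro x hx c hc
    rw [← htrm x hx c hc, hv, mulVec_mulVec, hL.comm _ hx _ hyL, ← mulVec_mulVec, hadj _ hyL, mulVec_mulVec, hyy]
  obtain ⟨Pm, hPm⟩ : ∃ Pm : Matrix (Fin 3) (Fin 3) F, Pm = Matrix.of fun i (r : Fin 3) => (Z ^ (r : ℕ) *ᵥ v) i :=
    ⟨_, rfl⟩
  have hPP : Pmᵀ * bm K.bar Pm = E.evM (cmat fun i j => tauC q (i + 6 * j)) := by
    ext r s
    have e : hh K (Z ^ (r : ℕ) *ᵥ v) (Z ^ (s : ℕ) *ᵥ v) = E.ev (tauC q ((r : ℕ) + 6 * s)) := by
      rw [← hgram _ (pow_mem hG.mem _) _ (hG.tr_eq ((r : ℕ) + 6 * s)), add_comm, pow_add, ← mulVec_mulVec,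
        hadjk (6 * (s : ℕ)), hmod (6 * (6 * (s : ℕ))), show 6 * (6 * (s : ℕ)) % 7 = (s : ℕ) % 7 by omega, ← hmod]
    rw [show E.evM (cmat fun i j => tauC q (i + 6 * j)) r s = E.ev (tauC q ((r : ℕ) + 6 * s)) by
      fin_cases r <;> fin_cases s <;> simp [Ev.evM, cmat], ← e]
    simp [hPm, hh, sform, Matrix.mul_apply, dotProduct, bm_apply]
  have hPu : IsUnit Pm := by
    refine (Matrix.linearIndependent_cols_iff_isUnit).1 ?_
    rw [Fintype.linearIndependent_iff]
    intro a ha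
    have e : Φ a *ᵥ v = 0 := by
      rw [hΦ, Matrix.sum_mulVec]
      funext i
      have := congrFun ha i
      simpa [hPm, smul_mulVec, Matrix.col] using this
    have hv0 : v ≠ 0 := by
      intro h0
      have := hgram _ (pow_mem hG.mem 1) _ (hG.tr_eq 1)
      rw [h0, show tauC q 1 = 7 from rfl] at this
      simp [hh, sform] at this
      exact E.ev_ne_zero (show 7 < q * q by rcases hq with rfl | rfl <;> norm_num) (by norm_num) this.symm
    by_contra hne
    have hΦ0 : Φ a ≠ 0 := fun h => hne fun i => by rw [hΦinj (h.trans (map_zero Φ).symm)]; rfl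
    obtain ⟨z, hz, hz'⟩ := hL.inv _ (hΦL a) hΦ0
    have := congrArg (z *ᵥ ·) e
    simp only [mulVec_mulVec, ← hL.comm _ (hΦL a) _ hz, hz', one_mulVec, mulVec_zero] at this
    exact hv0 this
  obtain ⟨P, hP⟩ := hPu
  have hrel : Z ^ 3 = Φ (E.evV R) := by
    obtain ⟨a, ha⟩ := hspan _ (pow_mem hG.mem 3)
    rw [← ha]
    congr 1
    have hs : E.evM H *ᵥ a = E.evM H *ᵥ E.evV R := by
      rw [← E.evV_cmv, hR]
      funext s
      refine smul_one_cancel ?_
      rw [← htrsum, ha, ← pow_add, hG.tr_eq]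
      fin_cases s <;> simp [Ev.evV]
    have := congrArg (E.evM Hi *ᵥ ·) hs
    simpa only [mulVec_mulVec, hHinv, one_mulVec] using this
  refine ⟨P, by rw [hP]; exact hPP, ?_, fun x hx => ?_, fun x hx hiso => ?_, fun x hx => ?_⟩
  · ext i j
    have hcol : (Z * (P : Matrix (Fin 3) (Fin 3) F)) i j = (Z ^ ((j : ℕ) + 1) *ᵥ v) i := by
      rw [pow_succ', ← mulVec_mulVec, hP, hPm]
      rfl
    rw [hcol, hP, Matrix.mul_apply, Fin.sum_univ_three]
    simp only [hPm, Matrix.of_apply]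
    fin_cases j
    · simp [Ev.evM, E.ev_zero, E.ev_one]
    · simp [Ev.evM, E.ev_zero, E.ev_one]
    · simp [Ev.evM, Ev.evV, hrel, hΦ, Fin.sum_univ_three, Matrix.add_mulVec, smul_mulVec, mul_comm]
  · obtain ⟨b, hb'⟩ : ∃ b : L, Em b = x *ᵥ v₀ := ⟨_, hinv _⟩
    rw [hE] at hb'
    have hzc : ∀ z ∈ L, Commute x z := fun z hz => by
      obtain ⟨a, rfl⟩ := hspan z hz
      rw [hΦ]
      exact Commute.sum_right _ _ _ fun i _ => (hx.pow_right _).smul_right _
    have : x = b := Matrix.ext_of_mulVec_single fun i => by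
      obtain ⟨j, hj⟩ : ∃ j : L, Em j = Pi.single i 1 := ⟨_, hinv _⟩
      rw [hE] at hj
      rw [← hj, mulVec_mulVec, (hzc _ j.2).eq, ← mulVec_mulVec, ← hb', mulVec_mulVec, mulVec_mulVec,
        hL.comm _ j.2 _ b.2]
    exact this ▸ b.2
  · refine hh_ext K fun u w => ?_
    rw [one_mulVec, pow_succ, ← mulVec_mulVec, ← hadj x hx, hiso]
  · have hnorm := FiniteField.algebraMap_norm_eq_pow (K := F) (K' := L) (x := (⟨x, hx⟩ : L))
    rw [hcardL, K.card] at hnorm
    have hexp : (q ^ 6 - 1) / (q ^ 2 - 1) = q ^ 4 + q ^ 2 + 1 := by rcases hq with rfl | rfl <;> norm_num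
    rw [hexp] at hnorm
    have hval : algebraMap F L (Algebra.norm F (⟨x, hx⟩ : L)) = ⟨(Algebra.norm F (⟨x, hx⟩ : L)) • 1,
        L.smul_mem (one_mem L) _⟩ := by
      refine Subtype.ext ?_
      show (algebraMap F (Matrix (Fin 3) (Fin 3) F)) _ = _
      rw [Algebra.algebraMap_eq_smul_one]
    rw [hval] at hnorm
    have e := congrArg Subtype.val hnorm
    rw [SubmonoidClass.coe_pow] at e
    rw [← e]
    congr 1
    rw [Algebra.norm_apply]
    let e' := LinearEquiv.ofBijective Em ⟨hEinj, fun u => ⟨inv u, hinv u⟩⟩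
    rw [← LinearMap.det_toLin', ← LinearMap.det_conj (Algebra.lmul F L (⟨x, hx⟩ : L)) e']
    congr 1
    refine LinearMap.ext fun u => ?_
    simp only [LinearMap.coe_comp, LinearEquiv.coe_coe, Function.comp_apply, Matrix.toLin'_apply]
    obtain ⟨j, hj⟩ : ∃ j, e'.symm u = j := ⟨_, rfl⟩
    rw [hj, show u = e' j by rw [← hj, e'.apply_symm_apply]]
    show x *ᵥ (Em j) = Em ((⟨x, hx⟩ : L) * j)
    rw [hE, hE, mulVec_mulVec]
    rfl

end CfsgLib.Asch.UnitThree
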