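import Cfsg.Agent.Lib.Classical.AschUnitThreeField
import Cfsg.Agent.Lib.Classical.AschUnitThreeChecks

set_option autoImplicit false
set_option linter.unusedSectionVars false

/-!
For `q = 3, 5` the normaliser of a cubic field is not maximal in the special unitary group in dimension three.
-/

namespace CfsgLib.Asch.UnitThree

open Matrix
open Cfsg.Geo (IsFieldSubalgebra IsAdjointClosedFor subalgebraNormalizer)
open CfsgLib.PrimeDim (SUGL)
open CfsgLib.ClassicalAut (Unitary.Conj)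
open scoped MatrixGroups

/-- Powers of a matrix of codes. -/
def cmpow (p : ℕ) (A : CM) : ℕ → CM
  | 0 => cone
  | k + 1 => cmm p (cmpow p A k) A

variable {F : Type*} [Field F] [Fintype F] {q : ℕ}

theorem evM_pow {K : Unitary.Conj F q} {p : ℕ} (E : Ev p K) (A : CM) (k : ℕ) :
    E.evM (cmpow p A k) = E.evM A ^ k := by
  induction k with
  | zero => rw [pow_zero]; exact E.evM_one
  | succ k ih => rw [cmpow, E.evM_mul, ih, pow_succ]

/-- The data of an overgroup of the normaliser. -/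
structure OverField (q : ℕ) where
  HH : CM
  Hi : CM
  R : CV
  S : CM
  T : CM
  O : List CV
  cC : List (ℕ × ℕ)
  cS : List (ℕ × ℕ)
  cT : List (ℕ × ℕ)
  w : CV
  x : CV
  hHH : HH = cmat fun i j => tauC q (i + j)
  hHi : cmm q Hi HH = cone
  hR : cmv q HH R = (tauC q 3, tauC q 4, tauC q 5)
  hkC : keeps q ((0, 0, R.1), (1, 0, R.2.1), (0, 1, R.2.2)) O cC = true
  hkS : keeps q S O cS = true
  hkT : keeps q T O cT = true
  hSg : cmm q (cmm q (ctr S) (cmat fun i j => tauC q (i + 6 * j))) (cmbar q S) = cmat fun i j => tauC q (i + 6 * j)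
  hSd : cdet q S = 1
  hSC : cmm q S ((0, 0, R.1), (1, 0, R.2.1), (0, 1, R.2.2)) =
    cmm q (cmpow q ((0, 0, R.1), (1, 0, R.2.1), (0, 1, R.2.2)) (q ^ 2 % 7)) S
  hTg : cmm q (cmm q (ctr T) (cmat fun i j => tauC q (i + 6 * j))) (cmbar q T) = cmat fun i j => tauC q (i + 6 * j)
  hTd : cdet q T = 1
  hT2 : cmm q T T = cone
  hlt : ∀ A : CM, ∀ B : CM, A = cmm q (cmm q T ((0, 0, R.1), (1, 0, R.2.1), (0, 1, R.2.2))) T →
    B = ((0, 0, R.1), (1, 0, R.2.1), (0, 1, R.2.2)) → ∃ i j : Fin 3,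
      (![![(cmm q A B).1.1, (cmm q A B).1.2.1, (cmm q A B).1.2.2],
        ![(cmm q A B).2.1.1, (cmm q A B).2.1.2.1, (cmm q A B).2.1.2.2],
        ![(cmm q A B).2.2.1, (cmm q A B).2.2.2.1, (cmm q A B).2.2.2.2]] i j) ≠
      (![![(cmm q B A).1.1, (cmm q B A).1.2.1, (cmm q B A).1.2.2],
        ![(cmm q B A).2.1.1, (cmm q B A).2.1.2.1, (cmm q B A).2.1.2.2],
        ![(cmm q B A).2.2.1, (cmm q B A).2.2.2.1, (cmm q B A).2.2.2.2]] i j)
  hw : cdot q w (cmv q (cmat fun i j => tauC q (i + 6 * j)) (cvbar q w)) = 0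
  hx : x ∈ O
  hmv : O.all (indep q
    (cadd q x.1 (cmul q (cmul q q (cdot q x (cmv q (cmat fun i j => tauC q (i + 6 * j)) (cvbar q w)))) w.1),
     cadd q x.2.1 (cmul q (cmul q q (cdot q x (cmv q (cmat fun i j => tauC q (i + 6 * j)) (cvbar q w)))) w.2.1),
     cadd q x.2.2 (cmul q (cmul q q (cdot q x (cmv q (cmat fun i j => tauC q (i + 6 * j)) (cvbar q w)))) w.2.2))) = true

theorem cadd_lt {p : ℕ} (hp : 0 < p) (x y : ℕ) : cadd p x y < p * p := by
  have h1 := Nat.mod_lt (x + y) hp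
  have h2 := Nat.mod_lt (x / p + y / p) hp
  unfold cadd
  nlinarith

/-- Excluding maximality for the normaliser of a cubic field. -/
theorem field_not_maximal3 (K : Unitary.Conj F q) (hq : q = 3 ∨ q = 5) (D : OverField q)
    {H : Subgroup (GL (Fin 3) F)} (hH : Cfsg.Geo.IsMaximalIn (SUGL 3 F q) H)
    {L : Subalgebra F (Matrix (Fin 3) (Fin 3) F)} (hL : IsFieldSubalgebra 3 L)
    (hcl : IsAdjointClosedFor (Cfsg.hermForm 3 F q) L) (hle : H ≤ subalgebraNormalizer L) : False := by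
  classical
  obtain ⟨E, Z, hG⟩ := exists_gen3 K hq hL hcl
  obtain ⟨P, hPG, hPC, hcent, hU, hN⟩ := exists_frame3 K hq hL hcl hG D.hHH D.hHi D.hR
  obtain ⟨C, hC⟩ : ∃ C : CM, C = ((0, 0, D.R.1), (1, 0, D.R.2.1), (0, 1, D.R.2.2)) := ⟨_, rfl⟩
  rw [← hC] at hPC
  have hmod := pow_red7 hG.pow7
  obtain ⟨S, hSSU, hSv⟩ := E.exists_el D.hSg D.hSd hPG
  obtain ⟨T, hTSU, hTv⟩ := E.exists_el D.hTg D.hTd hPG
  have hZu : IsUnit Z := IsUnit.of_mul_eq_one (Z ^ 6) (by rw [← pow_succ']; exact hG.pow7)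
  obtain ⟨Zu, hZu⟩ := hZu
  have hZc : P⁻¹ * Zu * P = P⁻¹ * (Zu * P) := mul_assoc _ _ _
  have hZv : ((P⁻¹ * Zu * P : GL (Fin 3) F) : Matrix (Fin 3) (Fin 3) F) = E.evM C := by
    rw [hZc, Units.val_mul, Units.val_mul, hZu, hPC, ← mul_assoc, Units.inv_mul, one_mul]
  have hsymm : ∀ A B : GL (Fin 3) F, ((P⁻¹ * A * P : GL (Fin 3) F) : Matrix (Fin 3) (Fin 3) F) =
      ((P⁻¹ * B * P : GL (Fin 3) F) : Matrix (Fin 3) (Fin 3) F) → A = B := fun A B e => by
    simpa using Units.ext e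
  have hpowP : ∀ (g : GL (Fin 3) F) (k : ℕ), P⁻¹ * g ^ k * P = (P⁻¹ * g * P) ^ k := fun g k => by
    have h := conj_pow (i := k) (a := P⁻¹) (b := g)
    rwa [inv_inv, eq_comm] at h
  have hmulP : ∀ A B : GL (Fin 3) F, P⁻¹ * (A * B) * P = (P⁻¹ * A * P) * (P⁻¹ * B * P) := fun A B => by group
  have hvm : ∀ A B : GL (Fin 3) F, ((P⁻¹ * (A * B) * P : GL (Fin 3) F) : Matrix (Fin 3) (Fin 3) F) =
      ((P⁻¹ * A * P : GL (Fin 3) F) : Matrix (Fin 3) (Fin 3) F) * ((P⁻¹ * B * P : GL (Fin 3) F) : Matrix (Fin 3) (Fin 3) F) :=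
    fun A B => by rw [hmulP]; exact Units.val_mul _ _
  have hvp : ∀ (g : GL (Fin 3) F) (k : ℕ), ((P⁻¹ * g ^ k * P : GL (Fin 3) F) : Matrix (Fin 3) (Fin 3) F) =
      ((P⁻¹ * g * P : GL (Fin 3) F) : Matrix (Fin 3) (Fin 3) F) ^ k :=
    fun g k => by rw [hpowP]; exact Units.val_pow_eq_pow_val _ _
  have hSZ : S * Zu = Zu ^ (q ^ 2 % 7) * S := hsymm _ _ (by
    rw [hvm, hvm, hvp, hSv, hZv, ← evM_pow, ← E.evM_mul, ← E.evM_mul, hC, D.hSC])
  have hpw : ∀ i : ℕ, S * Zu ^ i = Zu ^ (q ^ 2 % 7 * i) * S := by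
    intro i
    induction i with
    | zero => simp
    | succ i ihi => rw [pow_succ, ← mul_assoc, ihi, mul_assoc, hSZ, ← mul_assoc, ← pow_add, mul_add, mul_one]
  have hSj : ∀ j : ℕ, S ^ j * Zu = Zu ^ ((q ^ 2 % 7) ^ j) * S ^ j := by
    intro j
    induction j with
    | zero => simp
    | succ j ih => rw [pow_succ' S, mul_assoc, ih, ← mul_assoc, hpw, mul_assoc, ← pow_succ' S, pow_succ' (q ^ 2 % 7) j]
  have hgen : ∀ g ∈ H, ∃ (i j : ℕ) (c : F), c ≠ 0 ∧
      (g : Matrix (Fin 3) (Fin 3) F) = c • ((S ^ j * Zu ^ i : GL (Fin 3) F) : Matrix (Fin 3) (Fin 3) F) := by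
    intro g hg
    have hgS : g ∈ SUGL 3 F q := hH.1.le hg
    have hWm := (hle hg Z).1 hG.mem
    obtain ⟨k, hk⟩ := hG.roots _ hWm (by rw [Units.conj_pow, hG.pow7, mul_one, Units.mul_inv])
    obtain ⟨j, hj⟩ : ∃ j : Fin 3, (q ^ 2 % 7) ^ (j : ℕ) % 7 = (k : ℕ) := by
      have e1 : (g : Matrix (Fin 3) (Fin 3) F) * tr q Z * (↑g⁻¹ : Matrix (Fin 3) (Fin 3) F) = tr q (Z ^ (k : ℕ)) := by
        rw [← hk, tr, tr, Units.conj_pow, Units.conj_pow]
        simp only [mul_add, add_mul]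
      have e2 := hG.tr_eq 1
      rw [pow_one] at e2
      rw [e2, hG.tr_eq k, mul_smul_comm, mul_one, smul_mul_assoc, Units.mul_inv] at e1
      have hlt : ∀ d : Fin 7, tauC q d < q * q := fun d => by
        rcases hq with rfl | rfl <;> revert d <;> decide
      have e3 : tauC q 1 = tauC q k := E.ev_inj (hlt 1) (hlt k) (smul_one_cancel e1)
      rcases hq with rfl | rfl
      · exact (show ∀ k : Fin 7, tauC 3 1 = tauC 3 k → ∃ j : Fin 3, (3 ^ 2 % 7) ^ (j : ℕ) % 7 = (k : ℕ) by decide) k e3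
      · exact (show ∀ k : Fin 7, tauC 5 1 = tauC 5 k → ∃ j : Fin 3, (5 ^ 2 % 7) ^ (j : ℕ) % 7 = (k : ℕ) by decide) k e3
    have hgZ : g * Zu = Zu ^ (k : ℕ) * g := Units.ext (by
      rw [Units.val_mul, Units.val_mul, Units.val_pow_eq_pow_val, hZu, ← hk, Units.inv_mul_cancel_right])
    have hjk : Zu ^ ((q ^ 2 % 7) ^ (j : ℕ)) = Zu ^ (k : ℕ) := Units.ext (by
      rw [Units.val_pow_eq_pow_val, Units.val_pow_eq_pow_val, hZu, hmod, hj])
    obtain ⟨h, hh'⟩ : ∃ h : GL (Fin 3) F, h = (S ^ (j : ℕ))⁻¹ * g := ⟨_, rfl⟩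
    have hcomm : h * Zu = Zu * h := by
      rw [hh', mul_assoc, hgZ, ← hjk, inv_mul_eq_iff_eq_mul, ← mul_assoc, ← mul_assoc, hSj, mul_inv_cancel_right]
    have hhSU : h ∈ SUGL 3 F q := hh' ▸ mul_mem (inv_mem (pow_mem hSSU _)) hgS
    have hhL : (h : Matrix (Fin 3) (Fin 3) F) ∈ L := hcent _ (by
      have := congrArg Units.val hcomm
      rwa [Units.val_mul, Units.val_mul, hZu] at this)
    have hU' := hU _ hhL fun u w => by
      show sform K.bar 1 _ _ = sform K.bar 1 _ _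
      rw [← herm_sform K, ← herm_sform K]; exact hhSU.1 u w
    have h4 : h ∈ Cfsg.Geo.specialLinear (Fin 3) F := hhSU.2
    have hdh : (h : Matrix (Fin 3) (Fin 3) F).det = 1 := by
      simpa [Cfsg.Geo.specialLinear, MonoidHom.mem_ker, Units.ext_iff] using h4
    have hN' := hN _ hhL
    rw [hdh, one_smul] at hN'
    obtain ⟨h', hh1⟩ : ∃ h' : Matrix (Fin 3) (Fin 3) F, h' = h := ⟨_, rfl⟩
    rw [← hh1] at hU' hN' hhL
    have hdiv : ∀ a b : ℕ, a % b = 0 → h' ^ b = 1 → h' ^ a = 1 := fun a b hab hb => by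
      rw [← Nat.mod_add_div a b, hab, zero_add, pow_mul, hb, one_pow]
    obtain ⟨c, hc0, hc⟩ : ∃ c : F, c ≠ 0 ∧ (c • h') ^ 7 = 1 := by
      rcases hq with rfl | rfl
      · refine ⟨1, one_ne_zero, ?_⟩
        rw [one_smul]
        have e28 : h' ^ 28 = 1 := hU'
        have e91 : h' ^ 91 = 1 := hN'.symm
        have := hdiv 84 28 rfl e28
        calc h' ^ 7 = h' ^ 84 * h' ^ 7 := by rw [this, one_mul]
          _ = 1 := by rw [← pow_add]; exact e91
      · have e126 : h' ^ 126 = 1 := hU'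
        have e651 : h' ^ 651 = 1 := hN'.symm
        have h630 := hdiv 630 126 rfl e126
        have h21 : h' ^ 21 = 1 := by
          calc h' ^ 21 = h' ^ 630 * h' ^ 21 := by rw [h630, one_mul]
            _ = 1 := by rw [← pow_add]; exact e651
        obtain ⟨d, hd⟩ := scalar_of_pow K (by norm_num) hL (pow_mem hhL 7) (by
          rw [← pow_mul, show 7 * 5 ^ 2 = 21 * 8 + 7 from rfl, pow_add, pow_mul, h21, one_pow, one_mul])
        have hd3 : d ^ 3 = 1 := smul_one_cancel (by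
          rw [one_smul]
          calc d ^ 3 • (1 : Matrix (Fin 3) (Fin 3) F) = (h' ^ 7) ^ 3 := by rw [hd, smul_pow, one_pow]
            _ = 1 := by rw [← pow_mul]; exact h21)
        have hd0 : d ≠ 0 := fun e => by simp [e] at hd3
        refine ⟨d ^ 2, pow_ne_zero _ hd0, ?_⟩
        rw [smul_pow, hd, smul_smul, ← pow_mul, ← pow_succ, show 2 * 7 + 1 = 3 * 5 from rfl, pow_mul, hd3, one_pow,
          one_smul]
    obtain ⟨i, hi⟩ := hG.roots _ (L.smul_mem hhL c) hc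
    refine ⟨i, j, c⁻¹, inv_ne_zero hc0, ?_⟩
    have hh2 : (h : Matrix (Fin 3) (Fin 3) F) = c⁻¹ • Z ^ (i : ℕ) := by
      rw [← hi, smul_smul, inv_mul_cancel₀ hc0, one_smul, hh1]
    have : g = S ^ (j : ℕ) * h := by rw [hh', mul_inv_cancel_left]
    rw [this, Units.val_mul, hh2, mul_smul_comm, Units.val_mul, Units.val_pow_eq_pow_val Zu, hZu]
  have hle' : H ≤ E.stab D.O P := fun g hg => by
    obtain ⟨i, j, c, hc, e⟩ := hgen g hg
    refine E.mem_stab.2 ?_
    have e' : ((P⁻¹ * g * P : GL (Fin 3) F) : Matrix (Fin 3) (Fin 3) F) =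
        c • (E.evM D.S ^ j * E.evM C ^ i) := by
      rw [← hSv, ← hZv, ← hvp, ← hvp, ← hvm]
      simp only [Units.val_mul, e, mul_smul_comm, smul_mul_assoc]
    intro x hx
    rw [e']
    exact E.keep_smul hc (E.keep_mul (E.keep_pow (E.keep_of_cert D.hkS) j)
      (E.keep_pow (E.keep_of_cert (hC ▸ D.hkC)) i)) x hx
  refine E.false_of_stab D.hw D.hx D.hmv hPG hH hle' hTSU
    (by rw [hTv]; exact E.keep_of_cert D.hkT) fun hTH => ?_
  have hW := (hle hTH Z).1 hG.mem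
  have e := hL.comm _ hW _ hG.mem
  have e' : (T * Zu * T⁻¹) * Zu = Zu * (T * Zu * T⁻¹) := Units.ext (by simpa only [Units.val_mul, hZu] using e)
  have hT1 : T * T = 1 := hsymm _ _ (by
    rw [hvm, hTv, ← E.evM_mul, D.hT2, E.evM_one, mul_one, inv_mul_cancel, Units.val_one])
  have hTi : T⁻¹ = T := inv_eq_of_mul_eq_one_right hT1
  have e'' := congrArg (fun x => ((P⁻¹ * x * P : GL (Fin 3) F) : Matrix (Fin 3) (Fin 3) F)) e'
  simp only [hTi, hvm, hTv, hZv, ← E.evM_mul] at e''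
  obtain ⟨i, j, hne⟩ := D.hlt _ _ rfl rfl
  rw [hC] at e''
  refine hne (E.ev_inj ?_ ?_ ?_)
  · fin_cases i <;> fin_cases j <;> exact cadd_lt E.prime.pos _ _
  · fin_cases i <;> fin_cases j <;> exact cadd_lt E.prime.pos _ _
  · have := congrFun (congrFun e'' i) j
    fin_cases i <;> fin_cases j <;> simpa [Ev.evM] using this

/-- The overgroup for `q = 3`. -/
def overThree : OverField 3 where
  HH := aH
  Hi := aHi
  R := aRel
  S := aS
  T := aT
  O := aL
  cC := aCCert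
  cS := aSCert
  cT := aTCert
  w := aW
  x := aX
  hHH := by decide +kernel
  hHi := aH_inv
  hR := by decide +kernel
  hkC := by decide +kernel
  hkS := aS_keeps
  hkT := aT_keeps
  hSg := by decide +kernel
  hSd := aS_det
  hSC := by decide +kernel
  hTg := by decide +kernel
  hTd := aT_det
  hT2 := aT_sq
  hlt := by rintro A B rfl rfl; decide +kernel
  hw := by decide +kernel
  hx := aX_mem
  hmv := by decide +kernel

/-- The overgroup for `q = 5`. -/
def overFive : OverField 5 where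
  HH := bH
  Hi := bHi
  R := bRel
  S := bS
  T := bT
  O := bL
  cC := bCCert
  cS := bSCert
  cT := bTCert
  w := bW
  x := bX
  hHH := by decide +kernel
  hHi := bH_inv
  hR := by decide +kernel
  hkC := by decide +kernel
  hkS := bS_keeps
  hkT := bT_keeps
  hSg := by decide +kernel
  hSd := bS_det
  hSC := by decide +kernel
  hTg := by decide +kernel
  hTd := bT_det
  hT2 := bT_sq
  hlt := by rintro A B rfl rfl; decide +kernel
  hw := by decide +kernel
  hx := bX_mem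
  hmv := by decide +kernel

end CfsgLib.Asch.UnitThree
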