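import Cfsg.Agent.Lib.Classical.AschUnitThreeModel
import Cfsg.Agent.Lib.Classical.Forms

set_option autoImplicit false
set_option linter.unusedSectionVars false

/-!
Orthonormal frames in dimension three for orthogonal lines and for rational structures of prime field type.
-/

namespace CfsgLib.Asch.UnitThree

open Matrix
open Cfsg.Geo (decompositionStabilizer)
open CfsgLib.PrimeDim (SUGL)
open CfsgLib.ClassicalAut (Unitary.Conj)
open scoped MatrixGroups

variable {F : Type*} [Field F] [Fintype F] {q : ℕ}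

theorem gram_eq_one (K : Unitary.Conj F q) {P : Matrix (Fin 3) (Fin 3) F}
    (h : ∀ r s, sform K.bar 1 (fun i => P i r) (fun i => P i s) = if r = s then 1 else 0) : Pᵀ * bm K.bar P = 1 := by
  ext r s
  rw [Matrix.one_apply, ← h r s]
  simp [sform, Matrix.mul_apply, dotProduct, bm_apply]

/-- An orthonormal frame along orthogonal lines. -/
theorem lines_frame (K : Unitary.Conj F q) {D : Fin 3 → Submodule F (Fin 3 → F)}
    (hD : Cfsg.Geo.IsNondegenerateMDecomposition (Cfsg.hermForm 3 F q) 1 D) :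
    ∃ P : GL (Fin 3) F, (P : Matrix (Fin 3) (Fin 3) F)ᵀ * bm K.bar (P : Matrix (Fin 3) (Fin 3) F) = 1 ∧
      ∀ (g : GL (Fin 3) F), g ∈ decompositionStabilizer D → ∃ σ : Equiv.Perm (Fin 3), ∀ i j, i ≠ σ j →
        ((P⁻¹ * g * P : GL (Fin 3) F) : Matrix (Fin 3) (Fin 3) F) i j = 0 := by
  classical
  have hd : ∀ i, ∃ v ∈ D i, v ≠ 0 := fun i => Submodule.exists_mem_ne_zero_of_ne_bot fun e => by
    have := hD.decomp.finrank_eq i
    rw [e, finrank_bot] at this
    exact zero_ne_one this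
  choose v hv hv0 using hd
  have hline : ∀ i, ∀ w ∈ D i, ∃ a : F, a • v i = w := by
    intro i w hw
    obtain ⟨a, ha⟩ := (finrank_eq_one_iff_of_nonzero' (⟨v i, hv i⟩ : D i)
      fun e => hv0 i (congrArg Subtype.val e)).1 (hD.decomp.finrank_eq i) ⟨w, hw⟩
    exact ⟨a, congrArg Subtype.val ha⟩
  have hne : ∀ i, sform K.bar 1 (v i) (v i) ≠ 0 := fun i h => by
    obtain ⟨⟨x, hx, hxi⟩, -⟩ := hD.nondegenerate i _ (hv i) (hv0 i)
    obtain ⟨a, rfl⟩ := hline i x hx
    exact hxi (by rw [herm_sform K, sform_smul_left, h, mul_zero])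
  have hbar : ∀ i, K.bar (sform K.bar 1 (v i) (v i)) = sform K.bar 1 (v i) (v i) := fun i => by
    rw [← herm_sform K]; exact (Classical.Herm.h_swap K _ _).symm
  choose c hc using fun i => K.exists_norm (sform K.bar 1 (v i) (v i))⁻¹ (by rw [map_inv₀, hbar])
  have hc0 : ∀ i, c i ≠ 0 := fun i e => by
    have := hc i
    rw [e, zero_mul] at this
    exact inv_ne_zero (hne i) this.symm
  obtain ⟨u, hu⟩ : ∃ u, u = fun i => c i • v i := ⟨_, rfl⟩
  have huD : ∀ i, u i ∈ D i := fun i => by rw [hu]; exact Submodule.smul_mem _ _ (hv i)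
  obtain ⟨Pm, hPm⟩ : ∃ P : Matrix (Fin 3) (Fin 3) F, P = Matrix.of fun i r => u r i := ⟨_, rfl⟩
  have hPP : Pmᵀ * bm K.bar Pm = 1 := by
    refine gram_eq_one K fun r s => ?_
    rw [hPm]
    show sform K.bar 1 (u r) (u s) = _
    by_cases h : r = s
    · subst h
      rw [if_pos rfl, hu]
      simp only [sform_smul_left, sform_smul_right]
      rw [← mul_assoc, mul_comm (K.bar (c r)), hc, inv_mul_cancel₀ (hne r)]
    · rw [if_neg h]
      exact (herm_sform K _ _).symm.trans (hD.orthogonal r s h _ (huD r) _ (huD s))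
  have hu' : IsUnit Pm := by
    rw [Matrix.isUnit_iff_isUnit_det, ← Matrix.det_transpose]
    have := congrArg Matrix.det hPP
    rw [det_mul, det_one] at this
    exact .of_mul_eq_one _ this
  obtain ⟨P, hP⟩ := hu'
  refine ⟨P, by rw [hP]; exact hPP, fun g hg => ?_⟩
  obtain ⟨σ, hσ⟩ := hg
  refine ⟨σ, fun i j hij => ?_⟩
  have hcol : ∀ i, (P : Matrix (Fin 3) (Fin 3) F) *ᵥ Pi.single i 1 = u i := fun i => by
    funext r; simp [hP, hPm]
  obtain ⟨a, ha⟩ := hline (σ j) _ (show (g : Matrix (Fin 3) (Fin 3) F) *ᵥ u j ∈ D (σ j) by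
    rw [← hσ j]; exact ⟨u j, huD j, Matrix.toLin'_apply _ _⟩)
  have ha' : (g : Matrix (Fin 3) (Fin 3) F) *ᵥ u j = (a * (c (σ j))⁻¹) • u (σ j) := by
    rw [← ha, hu, smul_smul, mul_assoc, inv_mul_cancel₀ (hc0 _), mul_one]
  have e : ((P⁻¹ * g * P : GL (Fin 3) F) : Matrix (Fin 3) (Fin 3) F) *ᵥ Pi.single j 1 =
      (a * (c (σ j))⁻¹) • Pi.single (σ j) 1 := by
    rw [Units.val_mul, Units.val_mul, ← mulVec_mulVec, ← mulVec_mulVec, hcol, ha', mulVec_smul]
    congr 1
    rw [← hcol, mulVec_mulVec, Units.inv_mul, one_mulVec]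
  have := congrFun e i
  simpa [Pi.single_apply, hij] using this

theorem eq_of_bm_eq (K : Unitary.Conj F q) {C : GL (Fin 3) F}
    (h : bm K.bar (C : Matrix (Fin 3) (Fin 3) F) = C) :
    bm K.bar (↑C⁻¹ : Matrix (Fin 3) (Fin 3) F) = (↑C⁻¹ : Matrix (Fin 3) (Fin 3) F) := by
  have e : (C : Matrix (Fin 3) (Fin 3) F) * bm K.bar (↑C⁻¹ : Matrix (Fin 3) (Fin 3) F) = 1 := by
    conv_lhs => arg 1; rw [← h]
    rw [← map_mul, Units.mul_inv, map_one]
  exact (mul_eq_one_comm.1 e |> fun e' => (left_inv_eq_right_inv e' (Units.mul_inv C)).symm ▸ rfl)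

/-- An orthonormal frame for a rational structure over the prime field. -/
theorem real_frame (K : Unitary.Conj F q) (hq : q = 3 ∨ q = 5) {F₀ : Subfield F}
    (hc : Fintype.card F = Nat.card F₀ ^ 2) {P₀ : GL (Fin 3) F}
    (hrat : Cfsg.Geo.IsFormRationalStructure (Cfsg.hermForm 3 F q) F₀ 1 P₀) :
    ∃ P : GL (Fin 3) F, (P : Matrix (Fin 3) (Fin 3) F)ᵀ * bm K.bar (P : Matrix (Fin 3) (Fin 3) F) = 1 ∧
      ∀ g ∈ Cfsg.Geo.subfieldSubgroup F₀ P₀, ∃ (a : F) (A : Matrix (Fin 3) (Fin 3) F), a ≠ 0 ∧ bm K.bar A = A ∧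
        ((P⁻¹ * g * P : GL (Fin 3) F) : Matrix (Fin 3) (Fin 3) F) = a • A := by
  classical
  haveI := Fintype.ofFinite F₀
  have hcard0 := card_fixed_of_two K hc
  have hfix : ∀ x : F₀, K.bar (x : F) = x := fun x => bar_eq_self_of_mem K hc x.2
  have hchar : (q : F₀) = 0 := by
    have := FiniteField.cast_card_eq_zero F₀
    rwa [← Nat.card_eq_fintype_card, hcard0] at this
  have hpow : ∀ x : F₀, x ^ q = x := fun x => by
    have := FiniteField.pow_card x
    rwa [← Nat.card_eq_fintype_card, hcard0] at this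
  have h2 : (2 : F₀) ≠ 0 := by
    intro h
    rcases hq with rfl | rfl <;> push_cast at hchar
    · exact one_ne_zero (show (1 : F₀) = 0 by linear_combination hchar - h)
    · exact one_ne_zero (show (1 : F₀) = 0 by linear_combination hchar - 2 * h)
  have hns : ¬ IsSquare (2 : F₀) := by
    rintro ⟨x, hx⟩
    have hx' := hpow x
    rcases hq with rfl | rfl <;> push_cast at hchar
    · have : x = 0 := by linear_combination hx' + x * hx
      rw [this] at hx
      exact h2 (by linear_combination hx)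
    · have h3 : 3 * x = 0 := by linear_combination hx' + (x * x * x + 2 * x) * hx
      have : x = 0 := by linear_combination 2 * h3 - x * hchar
      rw [this] at hx
      exact h2 (by linear_combination hx)
  obtain ⟨G, hG⟩ : ∃ G : Matrix (Fin 3) (Fin 3) F, G = (P₀ : Matrix (Fin 3) (Fin 3) F)ᵀ * bm K.bar (P₀ : Matrix (Fin 3) (Fin 3) F) :=
    ⟨_, rfl⟩
  have hGmem : ∀ i j, G i j ∈ F₀ := fun i j => by
    have e := hrat (Pi.single i 1) (Pi.single j 1) (fun k => by rw [Pi.single_apply]; split <;> simp [F₀.zero_mem, F₀.one_mem])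
      (fun k => by rw [Pi.single_apply]; split <;> simp [F₀.zero_mem, F₀.one_mem])
    rw [one_mul, herm_sform K, sform_mulVec, mul_one, ← hG] at e
    simpa [sform, Pi.single_apply, apply_ite K.bar, Matrix.mulVec, dotProduct] using e
  obtain ⟨M, hM⟩ : ∃ M : Matrix (Fin 3) (Fin 3) F₀, M = Matrix.of fun i j => (⟨G i j, hGmem i j⟩ : F₀) := ⟨_, rfl⟩
  have hMG : M.map (F₀.subtype : F₀ →+* F) = G := by ext i j; simp [hM]
  have hdet : M.det ≠ 0 := by
    intro h
    have e : G.det = 0 := by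
      rw [← hMG, show M.map (F₀.subtype : F₀ →+* F) = (F₀.subtype).mapMatrix M from rfl, ← RingHom.map_det, h, map_zero]
    rw [hG, det_mul, det_transpose, show (bm K.bar (P₀ : Matrix (Fin 3) (Fin 3) F)).det =
      K.bar (P₀ : Matrix (Fin 3) (Fin 3) F).det from (RingHom.map_det (K.bar : F →+* F) _).symm] at e
    have h0 : (P₀ : Matrix (Fin 3) (Fin 3) F).det ≠ 0 :=
      ((Matrix.isUnit_iff_isUnit_det _).1 P₀.isUnit).ne_zero
    rcases mul_eq_zero.1 e with h | h
    · exact h0 h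
    · exact h0 (K.bar.injective (h.trans (map_zero _).symm))
  have hsym : ∀ i j, M i j = M j i := fun i j => by
    refine Subtype.ext ?_
    simp only [hM, Matrix.of_apply]
    have e1 : G i j = K.bar (G j i) := by
      rw [hG]
      simp [Matrix.mul_apply, bm_apply, mul_comm, K.bar_bar]
    rw [e1]
    exact bar_eq_self_of_mem K hc (hGmem j i)
  obtain ⟨b, hb1, hb2, hb3⟩ := Forms.exists_orthogonal_basis_one h2 (2 : F₀) hns 2 (Matrix.toBilin' M)
    (fun x y => by
      rw [Matrix.toBilin'_apply', Matrix.toBilin'_apply', dotProduct_mulVec, ← mulVec_transpose, dotProduct_comm,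
        show Mᵀ = M from Matrix.ext fun i j => hsym j i])
    (fun v hv => by
      by_contra hv0
      obtain ⟨w, hw⟩ := (Matrix.nondegenerate_of_det_ne_zero hdet).exists_not_ortho_of_ne_zero hv0
      exact hw ((Matrix.toBilin'_apply' M v w).symm.trans (hv w)))
    (Module.finrank_fin_fun F₀)
  -- a frame with all lengths equal
  obtain ⟨e, he, hev⟩ : ∃ e : Fin 3 → Fin 3 → F₀, LinearIndependent F₀ e ∧
      ∃ d : F₀, d ≠ 0 ∧ ∀ i j, Matrix.toBilin' M (e i) (e j) = if i = j then d else 0 := by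
    have l0 : Fin.last 2 = (2 : Fin 3) := rfl
    rw [l0] at hb2 hb3
    have b0 := hb2 0 (by decide)
    have b1 := hb2 1 (by decide)
    rcases hb3 with hb3 | hb3
    · refine ⟨b, b.linearIndependent, 1, one_ne_zero, fun i j => ?_⟩
      by_cases h : i = j
      · subst h; rw [if_pos rfl]; fin_cases i
        · exact b0
        · exact b1
        · exact hb3
      · rw [if_neg h]; exact hb1 i j h
    · refine ⟨![b 0 + b 1, b 0 - b 1, b 2], ?_, 2, h2, fun i j => ?_⟩
      · rw [Fintype.linearIndependent_iff]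
        intro g hg
        have e' : (g 0 + g 1) • b 0 + (g 0 - g 1) • b 1 + g 2 • b 2 = 0 := by
          rw [← hg, Fin.sum_univ_three]
          simp [add_smul, sub_smul, smul_add, smul_sub]
          abel
        have hl := Fintype.linearIndependent_iff.1 b.linearIndependent ![g 0 + g 1, g 0 - g 1, g 2]
          (by rw [Fin.sum_univ_three]; simpa using e')
        have a0 := hl 0; have a1 := hl 1; have a2 := hl 2
        simp at a0 a1 a2
        have g0 : g 0 = 0 := (mul_eq_zero.1 (show (2 : F₀) * g 0 = 0 by linear_combination a0 + a1)).resolve_left h2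
        intro i; fin_cases i
        · exact g0
        · simpa [g0] using a0
        · exact a2
      · fin_cases i <;> fin_cases j <;>
          simp [b0, b1, hb3, hb1 0 1 (by decide), hb1 1 0 (by decide), hb1 0 2 (by decide), hb1 2 0 (by decide),
            hb1 1 2 (by decide), hb1 2 1 (by decide)] <;> ring
  obtain ⟨d, hd0, hd⟩ := hev
  obtain ⟨Cm, hCm⟩ : ∃ C : Matrix (Fin 3) (Fin 3) F, C = Matrix.of fun i j => ((e j i : F₀) : F) := ⟨_, rfl⟩
  have hCG : Cmᵀ * G * Cm = (d : F) • 1 := by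
    ext i j
    have := congrArg (F₀.subtype) (hd i j)
    rw [Matrix.toBilin'_apply', RingHom.map_dotProduct] at this
    rw [Matrix.smul_apply, Matrix.one_apply, smul_eq_mul, mul_ite, mul_one, mul_zero]
    rw [apply_ite (F₀.subtype), map_zero] at this
    simp only [Subfield.coe_subtype] at this
    rw [← this, mul_assoc, Matrix.mul_apply]
    simp only [dotProduct, Matrix.mul_apply, Matrix.transpose_apply, hCm, Matrix.of_apply]
    refine Finset.sum_congr rfl fun k _ => ?_
    congr 1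
    simp [Matrix.mulVec, dotProduct, hM]
  have hdF : (d : F) ≠ 0 := fun h => hd0 (Subtype.ext h)
  have hCu : IsUnit Cm := by
    rw [Matrix.isUnit_iff_isUnit_det]
    refine Ne.isUnit fun h => ?_
    have := congrArg Matrix.det hCG
    rw [det_mul, h, mul_zero, det_smul, det_one, mul_one, eq_comm, pow_eq_zero_iff (by simp)] at this
    exact hdF this
  obtain ⟨C, hC⟩ := hCu
  have hCbar : bm K.bar (C : Matrix (Fin 3) (Fin 3) F) = C := by
    ext i j; rw [bm_apply, hC, hCm]; exact hfix (e j i)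
  obtain ⟨x, hx⟩ := K.exists_norm ((d : F)⁻¹) (by rw [map_inv₀, hfix])
  have hx0 : x ≠ 0 := fun h => by rw [h, zero_mul] at hx; exact inv_ne_zero hdF hx.symm
  refine ⟨P₀ * C * PrimeDim.sc (Units.mk0 x hx0), ?_, fun g hg => ?_⟩
  · rw [Units.val_mul, Units.val_mul, PrimeDim.sc_val, Units.val_mk0, mul_smul_comm, mul_one, transpose_smul, bm_smul,
      smul_mul_smul_comm, transpose_mul, map_mul, hCbar, hx]
    rw [show (C : Matrix (Fin 3) (Fin 3) F)ᵀ * (P₀ : Matrix (Fin 3) (Fin 3) F)ᵀ *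
      (bm K.bar (P₀ : Matrix (Fin 3) (Fin 3) F) * (C : Matrix (Fin 3) (Fin 3) F)) =
      (C : Matrix (Fin 3) (Fin 3) F)ᵀ * G * (C : Matrix (Fin 3) (Fin 3) F) by rw [hG]; simp only [mul_assoc],
      hC, hCG, smul_smul, inv_mul_cancel₀ hdF, one_smul]
  · obtain ⟨a, ha, hmem⟩ := PrimeDim.mem_subfieldSubgroup.1 hg
    obtain ⟨A₀, hA₀⟩ : ∃ A₀ : Matrix (Fin 3) (Fin 3) F, A₀ = a⁻¹ • ((P₀⁻¹ * g * P₀ : GL (Fin 3) F) : Matrix (Fin 3) (Fin 3) F) :=
      ⟨_, rfl⟩
    have hA₀bar : bm K.bar A₀ = A₀ := by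
      ext i j
      rw [bm_apply]
      refine bar_eq_self_of_mem K hc ?_
      rw [hA₀, Matrix.smul_apply, smul_eq_mul, ← div_eq_inv_mul]
      exact hmem i j
    refine ⟨a, (↑C⁻¹ : Matrix (Fin 3) (Fin 3) F) * A₀ * C, ha, ?_, ?_⟩
    · rw [map_mul, map_mul, hA₀bar, hCbar, eq_of_bm_eq K hCbar]
    · have hsc : ∀ z : GL (Fin 3) F, (PrimeDim.sc (Units.mk0 x hx0))⁻¹ * z * PrimeDim.sc (Units.mk0 x hx0) = z := fun z => by
        apply Units.ext
        rw [mul_assoc, Units.val_mul, Units.val_mul, ← mul_assoc]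
        have hcomm : (z : Matrix (Fin 3) (Fin 3) F) * ((PrimeDim.sc (Units.mk0 x hx0) : GL (Fin 3) F) : Matrix (Fin 3) (Fin 3) F) =
            ((PrimeDim.sc (Units.mk0 x hx0) : GL (Fin 3) F) : Matrix (Fin 3) (Fin 3) F) * z := by
          rw [PrimeDim.sc_val, mul_smul_comm, mul_one, smul_mul_assoc, one_mul]
        rw [mul_assoc, hcomm, ← mul_assoc, Units.inv_mul, one_mul]
      rw [show (P₀ * C * PrimeDim.sc (Units.mk0 x hx0))⁻¹ * g * (P₀ * C * PrimeDim.sc (Units.mk0 x hx0)) =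
        (PrimeDim.sc (Units.mk0 x hx0))⁻¹ * (C⁻¹ * (P₀⁻¹ * g * P₀) * C) * PrimeDim.sc (Units.mk0 x hx0) by group, hsc,
        hA₀, Units.val_mul, Units.val_mul, mul_smul_comm, smul_mul_assoc, smul_smul, mul_inv_cancel₀ ha, one_smul]

end CfsgLib.Asch.UnitThree
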