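import Cfsg.Agent.Lib.Classical.AschUnitThreeMono
import Cfsg.Agent.Lib.Classical.AschUnitThreeField

set_option autoImplicit false
set_option linter.unusedSectionVars false

/-!
For `q = 5` the normaliser of an extraspecial group of order twenty-seven lies in a copy of `3.M₁₀`.
-/

namespace CfsgLib.Asch.UnitThree

open Matrix
open Cfsg.Geo (matrixSet ActsAbsolutelyIrreducibly IsSymplecticTypeGroup subgroupNormalizer)
open CfsgLib.PrimeDim (SUGL)
open CfsgLib.ClassicalAut (Unitary.Conj)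
open scoped MatrixGroups

/-- The monomial part of an element of the Heisenberg group. -/
def heisR (m : ℕ) : CM :=
  cmm 5 (![cone, dXX, cmm 5 dXX dXX] ⟨m / 3 % 3, Nat.mod_lt _ (by norm_num)⟩)
    (![cone, dYY, cmm 5 dYY dYY] ⟨m % 3, Nat.mod_lt _ (by norm_num)⟩)

/-- An element of the Heisenberg group by number. -/
def heisC (k : Fin 27) : CM := csm 5 (cpow 5 12 ((k : ℕ) / 9)) (heisR ((k : ℕ) % 9))

/-- The representative of the normaliser attached to a pair of images. -/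
def repV (f : ℕ) : CM := cmm 5 (dTab.getD ((f - 1) / 9) cone) (heisR ((f - 1) % 9))

theorem pair_table_ok : ∀ k l : Fin 27,
    cmm 5 (heisC k) (heisC l) = csm 5 12 (cmm 5 (heisC l) (heisC k)) →
      (dCode.getD (27 * (k : ℕ) + l) 0 - 1) / 9 < 24 ∧
      cmm 5 (repV (dCode.getD (27 * (k : ℕ) + l) 0)) dXX = cmm 5 (heisC k) (repV (dCode.getD (27 * (k : ℕ) + l) 0)) ∧
      cmm 5 (repV (dCode.getD (27 * (k : ℕ) + l) 0)) dYY = cmm 5 (heisC l) (repV (dCode.getD (27 * (k : ℕ) + l) 0)) := by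
  decide +kernel

theorem tab_facts : ∀ i : Fin 24, cmm 5 (ctr (dTab.getD i cone)) (cmbar 5 (dTab.getD i cone)) = cone ∧
    (8 ≤ (i : ℕ) → cmul 5 (cdet 5 (dTab.getD i cone)) (cdet 5 (dTab.getD i cone)) ≠ 1) := by
  decide +kernel

theorem heisR_facts : ∀ m : Fin 9, cmm 5 (ctr (heisR m)) (cmbar 5 (heisR m)) = cone ∧ cdet 5 (heisR m) = 1 := by
  decide +kernel

theorem tab_good : dTab.take 8 = [dW0, dW1, dW2, dW3, dW4, dW5, dW6, dW7] := by decide +kernel

theorem heisC_distinct : ∀ k l : Fin 27, (∀ i j : Fin 3, centry (heisC k) i j = centry (heisC l) i j) → k = l := by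
  decide +kernel

theorem heisC_lt : ∀ k : Fin 27, ∀ i j : Fin 3, centry (heisC k) i j < 5 * 5 := by decide +kernel

theorem omega_facts : cpow 5 12 3 = 1 ∧ cbar 5 12 = cmul 5 12 12 ∧ cdot 5 (12, 1, 0) (1, 1, 0) = cmul 5 4 (cmul 5 12 12) := by
  decide +kernel

theorem T_moves : ∀ k : Fin 27, ∃ i j : Fin 3,
    centry (cmm 5 (cmm 5 dT dXX) dT) i j ≠ centry (heisC k) i j := by decide +kernel

variable {F : Type*} [Field F] [Fintype F]

namespace Ev

variable {K : Unitary.Conj F 5} (E : Ev 5 K)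

theorem centry_cmm_lt (A B : CM) (i j : Fin 3) : centry (cmm 5 A B) i j < 5 * 5 := by
  have h : ∀ x y : ℕ, cadd 5 x y < 5 * 5 := fun x y => by unfold cadd; omega
  fin_cases i <;> fin_cases j <;> exact h _ _

include E in
theorem centry_csm_lt (c : ℕ) (A : CM) (i j : Fin 3) : centry (csm 5 c A) i j < 5 * 5 := by
  fin_cases i <;> fin_cases j <;> exact E.mul_lt _ _

theorem centry_inj {A B : CM} (hA : ∀ i j, centry A i j < 5 * 5) (hB : ∀ i j, centry B i j < 5 * 5)
    (h : E.evM A = E.evM B) : ∀ i j, centry A i j = centry B i j := fun i j => by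
  refine E.ev_inj (hA i j) (hB i j) ?_
  rw [← E.evM_centry, ← E.evM_centry, h]

theorem keep_tab (i : Fin 8) : E.Keep dL (E.evM (dTab.getD i cone)) := by
  have h : dTab.getD i cone = (dTab.take 8).getD i cone := by
    rw [List.getD_eq_getElem?_getD, List.getD_eq_getElem?_getD, List.getElem?_take, if_pos i.2]
  rw [h, tab_good]
  fin_cases i
  · exact E.keep_of_cert dW0_keeps
  · exact E.keep_of_cert dW1_keeps
  · exact E.keep_of_cert dW2_keeps
  · exact E.keep_of_cert dW3_keeps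
  · exact E.keep_of_cert dW4_keeps
  · exact E.keep_of_cert dW5_keeps
  · exact E.keep_of_cert dW6_keeps
  · exact E.keep_of_cert dW7_keeps

theorem evM_heisR (m : ℕ) : E.evM (heisR m) = E.evM dXX ^ (m / 3 % 3) * E.evM dYY ^ (m % 3) := by
  have h : ∀ (A : CM) (r : Fin 3), E.evM (![cone, A, cmm 5 A A] r) = E.evM A ^ (r : ℕ) := fun A r => by
    fin_cases r
    · simp [E.evM_one]
    · simp
    · simp [E.evM_mul, pow_two]
  rw [heisR, E.evM_mul, h, h]

theorem keep_heisR (m : ℕ) : E.Keep dL (E.evM (heisR m)) := by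
  rw [E.evM_heisR]
  exact E.keep_mul (E.keep_pow (E.keep_of_cert dXX_keeps) _) (E.keep_pow (E.keep_of_cert dYY_keeps) _)

end Ev

/-- A frame for the Heisenberg group. -/
theorem heis_frame (K : Unitary.Conj F 5) {R : Subgroup (GL (Fin 3) F)} (hST : IsSymplecticTypeGroup 3 R)
    (habs : ActsAbsolutelyIrreducibly (matrixSet R)) (hRU : R ≤ Cfsg.GU 3 F 5) (hcard : Nat.card R = 27)
    (hcen : Nat.card (Subgroup.center R) = 3) (E : Ev 5 K) :
    ∃ P : GL (Fin 3) F, (P : Matrix (Fin 3) (Fin 3) F)ᵀ * bm K.bar (P : Matrix (Fin 3) (Fin 3) F) = 1 ∧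
      (∀ z ∈ R, ∃ k, ((P⁻¹ * z * P : GL (Fin 3) F) : Matrix (Fin 3) (Fin 3) F) = E.evM (heisC k)) ∧
      ∃ x ∈ R, ∃ y ∈ R, ((P⁻¹ * x * P : GL (Fin 3) F) : Matrix (Fin 3) (Fin 3) F) = E.evM dXX ∧
        ((P⁻¹ * y * P : GL (Fin 3) F) : Matrix (Fin 3) (Fin 3) F) = E.evM dYY := by
  classical
  haveI : Fact (Nat.Prime 3) := ⟨Nat.prime_three⟩
  have hexp : ∀ z : R, z ^ 3 = 1 := fun z => by
    have := Monoid.pow_exponent_eq_one z
    rwa [hST.exponent_eq, show 3 * Nat.gcd 2 3 = 3 from rfl] at this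
  have hquot : ∀ a b : R, a * b * a⁻¹ * b⁻¹ ∈ Subgroup.center R := by
    have hq : Nat.card (R ⧸ Subgroup.center R) = 3 ^ 2 := by
      have := Subgroup.card_eq_card_quotient_mul_card_subgroup (Subgroup.center R)
      rw [hcard, hcen] at this
      omega
    intro a b
    rw [← QuotientGroup.eq_one_iff]
    simp only [QuotientGroup.mk_mul, QuotientGroup.mk_inv]
    rw [IsPGroup.commutative_of_card_eq_prime_sq hq (a : R ⧸ Subgroup.center R) b]
    simp
  have hscal : ∀ z ∈ Subgroup.center R, ∃ c : F, ((z : GL (Fin 3) F) : Matrix (Fin 3) (Fin 3) F) = c • 1 := by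
    intro z hz
    refine habs.2 _ ?_
    rintro _ ⟨g, hg, rfl⟩
    have := congrArg (fun t : R => ((t : GL (Fin 3) F) : Matrix (Fin 3) (Fin 3) F)) (Subgroup.mem_center_iff.1 hz ⟨g, hg⟩)
    simpa using this.symm
  obtain ⟨hw3, hwbar, hwsum⟩ := omega_facts
  obtain ⟨ω, hω⟩ : ∃ ω, ω = E.ev 12 := ⟨_, rfl⟩
  have hω3 : ω ^ 3 = 1 := by rw [hω, ← E.ev_pow, hw3, E.ev_one]
  have hω0 : ω ≠ 0 := fun e => by simp [e] at hω3
  have hω1 : ω ≠ 1 := fun e => absurd (E.ev_inj (x := 12) (y := 1) (by norm_num) (by norm_num)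
    (hω.symm.trans (e.trans E.ev_one.symm))) (by norm_num)
  have hωq : ω ^ 2 + ω + 1 = 0 :=
    (mul_eq_zero.1 (show (ω - 1) * (ω ^ 2 + ω + 1) = 0 by linear_combination hω3)).resolve_left (sub_ne_zero.2 hω1)
  have hωb : K.bar ω = ω * ω := by rw [hω, ← E.ev_bar, hwbar, E.ev_mul]
  have h3 : (3 : F) ≠ 0 := by
    have := E.ev_ne_zero (x := 3) (by norm_num) (by norm_num)
    rwa [E.ev_small (by norm_num), Nat.cast_ofNat] at this
  obtain ⟨x₀, y₀, hne⟩ : ∃ a b : R, a * b ≠ b * a := by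
    by_contra h
    push Not at h
    have : Subgroup.center R = ⊤ := eq_top_iff.2 fun a _ => Subgroup.mem_center_iff.2 fun b => h b a
    rw [this, Subgroup.card_top, hcard] at hcen
    omega
  have hcomm : ∀ a b : R, ∃ c : F, c ^ 3 = 1 ∧ ((a : GL (Fin 3) F) : Matrix (Fin 3) (Fin 3) F) *
      ((b : GL (Fin 3) F) : Matrix (Fin 3) (Fin 3) F) = c • (((b : GL (Fin 3) F) : Matrix (Fin 3) (Fin 3) F) *
      ((a : GL (Fin 3) F) : Matrix (Fin 3) (Fin 3) F)) := fun a b => by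
    obtain ⟨z, hz⟩ : ∃ z : R, z = a * b * a⁻¹ * b⁻¹ := ⟨_, rfl⟩
    obtain ⟨c, hc⟩ := hscal z (hz ▸ hquot a b)
    refine ⟨c, smul_one_cancel ?_, ?_⟩
    · have := congrArg (fun t : R => ((t : GL (Fin 3) F) : Matrix (Fin 3) (Fin 3) F)) (hexp z)
      simpa [hc, smul_pow] using this
    · have e : z * (b * a) = a * b := by rw [hz]; group
      have := congrArg (fun t : R => ((t : GL (Fin 3) F) : Matrix (Fin 3) (Fin 3) F)) e
      simpa [hc, smul_mul_assoc] using this.symm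
  obtain ⟨x, y, hxy⟩ : ∃ x y : R, ((x : GL (Fin 3) F) : Matrix (Fin 3) (Fin 3) F) *
      ((y : GL (Fin 3) F) : Matrix (Fin 3) (Fin 3) F) = ω • (((y : GL (Fin 3) F) : Matrix (Fin 3) (Fin 3) F) *
      ((x : GL (Fin 3) F) : Matrix (Fin 3) (Fin 3) F)) := by
    obtain ⟨c, hc3, hc⟩ := hcomm x₀ y₀
    have hc1 : c ≠ 1 := fun e => hne (Subtype.ext (Units.ext (by simpa [e] using hc)))
    rcases mul_eq_zero.1 (show (c - ω) * (c - ω * ω) = 0 by
      have h' : c ^ 2 + c + 1 = 0 := (mul_eq_zero.1 (show (c - 1) * (c ^ 2 + c + 1) = 0 by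
        linear_combination hc3)).resolve_left (sub_ne_zero.2 hc1)
      linear_combination h' - c * hωq + hω3) with e | e
    · exact ⟨x₀, y₀, by rw [hc, sub_eq_zero.1 e]⟩
    · refine ⟨y₀, x₀, ?_⟩
      rw [hc, sub_eq_zero.1 e, smul_smul, show ω * (ω * ω) = 1 by rw [← hω3]; ring, one_smul]
  obtain ⟨X, hX⟩ : ∃ X, X = ((x : GL (Fin 3) F) : Matrix (Fin 3) (Fin 3) F) := ⟨_, rfl⟩
  obtain ⟨Y, hY⟩ : ∃ Y, Y = ((y : GL (Fin 3) F) : Matrix (Fin 3) (Fin 3) F) := ⟨_, rfl⟩
  rw [← hX, ← hY] at hxy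
  have hX3 : X * X * X = 1 := by
    have := congrArg (fun t : R => ((t : GL (Fin 3) F) : Matrix (Fin 3) (Fin 3) F)) (hexp x)
    simpa [hX, pow_succ, mul_assoc] using this
  have hY3 : Y * Y * Y = 1 := by
    have := congrArg (fun t : R => ((t : GL (Fin 3) F) : Matrix (Fin 3) (Fin 3) F)) (hexp y)
    simpa [hY, pow_succ, mul_assoc] using this
  have hiX : ∀ u w, hh K (X *ᵥ u) (X *ᵥ w) = hh K u w := fun u w => by
    show sform K.bar 1 _ _ = sform K.bar 1 _ _
    rw [hX, ← herm_sform K, ← herm_sform K]; exact (hRU x.2) u w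
  have hiY : ∀ u w, hh K (Y *ᵥ u) (Y *ᵥ w) = hh K u w := fun u w => by
    show sform K.bar 1 _ _ = sform K.bar 1 _ _
    rw [hY, ← herm_sform K, ← herm_sform K]; exact (hRU y.2) u w
  have hinjY : ∀ u, Y *ᵥ u = 0 → u = 0 := fun u h => by
    have := congrArg ((Y * Y) *ᵥ ·) h
    simpa [mulVec_mulVec, hY3, mulVec_zero] using this
  have hstep : ∀ (u : Fin 3 → F) (c : F), X *ᵥ u = c • u → X *ᵥ (Y *ᵥ u) = (ω * c) • (Y *ᵥ u) := fun u c h => by
    rw [mulVec_mulVec, hxy, smul_mulVec, ← mulVec_mulVec, h, mulVec_smul, smul_smul]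
  obtain ⟨v, hv0, hv⟩ : ∃ v : Fin 3 → F, v ≠ 0 ∧ X *ᵥ v = v := by
    have hprod : (X - 1) * (X - ω • 1) * (X - (ω * ω) • 1) = 0 := by
      simp only [sub_mul, mul_sub, smul_mul_assoc, mul_smul_comm, one_mul, mul_one, smul_sub, smul_smul, hX3]
      have e1 : (ω * ω) • (X * X) + ω • (X * X) + X * X = 0 := by
        rw [← add_smul]; nth_rewrite 2 [← one_smul F (X * X)]
        rw [← add_smul, show ω * ω + ω + 1 = 0 by linear_combination hωq, zero_smul]
      have e2 : (ω * ω * ω) • X + (ω * ω) • X + ω • X = 0 := by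
        rw [← add_smul, ← add_smul, show ω * ω * ω + ω * ω + ω = 0 by linear_combination ω * hωq, zero_smul]
      have e3 : (ω * ω * ω) • (1 : Matrix (Fin 3) (Fin 3) F) = 1 := by
        rw [show ω * ω * ω = 1 by rw [← hω3]; ring, one_smul]
      rw [← sub_eq_zero] at e3
      linear_combination (norm := (simp only [mul_comm, mul_left_comm]; module)) -e1 + e2 - e3
    have hdet : (X - 1).det = 0 ∨ (X - ω • 1).det = 0 ∨ (X - (ω * ω) • 1).det = 0 := by
      have := congrArg Matrix.det hprod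
      rw [det_mul, det_mul, det_zero, mul_eq_zero, mul_eq_zero] at this
      exact or_assoc.1 this
    rcases hdet with h | h | h <;> obtain ⟨u, hu0, hu⟩ := Matrix.exists_mulVec_eq_zero_iff.2 h <;>
      rw [sub_mulVec, sub_eq_zero] at hu
    · exact ⟨u, hu0, by rwa [one_mulVec] at hu⟩
    · rw [smul_mulVec, one_mulVec] at hu
      refine ⟨Y *ᵥ (Y *ᵥ u), fun e => hu0 (hinjY _ (hinjY _ e)), ?_⟩
      rw [hstep _ _ (hstep _ _ hu), show ω * (ω * ω) = 1 by rw [← hω3]; ring, one_smul]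
    · rw [smul_mulVec, one_mulVec] at hu
      refine ⟨Y *ᵥ u, fun e => hu0 (hinjY _ e), ?_⟩
      rw [hstep _ _ hu, show ω * (ω * ω) = 1 by rw [← hω3]; ring, one_smul]
  obtain ⟨b, hb⟩ : ∃ b : Fin 3 → Fin 3 → F, b = ![v, Y *ᵥ v, Y *ᵥ (Y *ᵥ v)] := ⟨_, rfl⟩
  have hbX : ∀ i, X *ᵥ b i = ω ^ (i : ℕ) • b i := fun i => by
    have h1 : X *ᵥ (Y *ᵥ v) = ω • (Y *ᵥ v) := by
      rw [hstep v 1 (by rw [one_smul, hv]), mul_one]
    fin_cases i
    · simp [hb, hv]
    · simpa [hb] using h1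
    · simpa [hb, pow_two, -mulVec_mulVec] using hstep _ _ h1
  have hb0 : ∀ i, b i ≠ 0 := fun i => by
    fin_cases i
    · simpa [hb] using hv0
    · simpa [hb] using fun e => hv0 (hinjY _ e)
    · simpa [hb, -mulVec_mulVec] using fun e => hv0 (hinjY _ (hinjY _ e))
  have hbn : ∀ i, hh K (b i) (b i) = hh K v v := fun i => by
    fin_cases i <;> simp [hb, hiY, -mulVec_mulVec]
  have hborth : ∀ i j, i ≠ j → hh K (b i) (b j) = 0 := fun i j hij => by
    have e := hiX (b i) (b j)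
    rw [hbX, hbX] at e
    simp only [hh, sform_smul_left, sform_smul_right, map_pow, hωb] at e
    have hne' : ω ^ (i : ℕ) * (ω * ω) ^ (j : ℕ) ≠ 1 := by
      have hω2' : ω ^ 2 ≠ 1 := fun h => hω1 (by linear_combination hω3 - ω * h)
      rw [← pow_two, ← pow_mul, ← pow_add, pow_eq_pow_mod _ hω3]
      fin_cases i <;> fin_cases j <;> first
        | exact absurd rfl hij
        | simp [hω1, hω2']
    by_contra h0
    apply hne'
    refine mul_right_cancel₀ h0 ?_
    rw [one_mul]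
    linear_combination e
  obtain ⟨Pm, hPm⟩ : ∃ P : Matrix (Fin 3) (Fin 3) F, P = Matrix.of fun i r => b r i := ⟨_, rfl⟩
  have hgram : Pmᵀ * bm K.bar Pm = hh K v v • 1 := by
    ext r s
    have e : hh K (b r) (b s) = if r = s then hh K v v else 0 := by
      split_ifs with h
      · subst h; exact hbn r
      · exact hborth r s h
    rw [Matrix.smul_apply, Matrix.one_apply, smul_eq_mul, mul_ite, mul_one, mul_zero, ← e]
    simp [hPm, hh, sform, Matrix.mul_apply, dotProduct, bm_apply]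
  have hPu : IsUnit Pm := by
    refine (Matrix.linearIndependent_cols_iff_isUnit).1 ?_
    rw [Fintype.linearIndependent_iff]
    intro g hg
    have e0 : g 0 • b 0 + g 1 • b 1 + g 2 • b 2 = 0 := by
      rw [← hg, Fin.sum_univ_three]; funext i; simp [hPm, Matrix.col]
    have e1 : g 0 • b 0 + (g 1 * ω) • b 1 + (g 2 * ω ^ 2) • b 2 = 0 := by
      have := congrArg (X *ᵥ ·) e0
      simpa [mulVec_add, mulVec_smul, hbX, smul_smul] using this
    have e2 : g 0 • b 0 + (g 1 * ω * ω) • b 1 + (g 2 * ω ^ 2 * ω ^ 2) • b 2 = 0 := by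
      have := congrArg (X *ᵥ ·) e1
      simpa [mulVec_add, mulVec_smul, hbX, smul_smul] using this
    have key : ∀ i, (3 * g i) • b i = 0 := by
      intro i
      funext r
      have c0 := congrFun e0 r; have c1 := congrFun e1 r; have c2 := congrFun e2 r
      simp at c0 c1 c2
      rw [Pi.smul_apply, smul_eq_mul, Pi.zero_apply]
      obtain rfl | rfl | rfl : i = 0 ∨ i = 1 ∨ i = 2 := (show ∀ i : Fin 3, i = 0 ∨ i = 1 ∨ i = 2 by decide) i
      · linear_combination c0 + c1 + c2 - (g 1 * b 1 r) * hωq - (g 2 * b 2 r) * (hωq + ω * hω3)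
      · linear_combination c0 + ω ^ 2 * c1 + ω * c2 - (g 0 * b 0 r) * hωq - (g 2 * b 2 r) * (hωq + (ω + ω ^ 2) * hω3) - (g 1 * b 1 r) * 2 * hω3
      · linear_combination c0 + ω * c1 + ω ^ 2 * c2 - (g 0 * b 0 r) * hωq - (g 1 * b 1 r) * (hωq + ω * hω3) - (g 2 * b 2 r) * (ω ^ 3 + 2) * hω3
    intro i
    rcases smul_eq_zero.1 (key i) with h | h
    · exact (mul_eq_zero.1 h).resolve_left h3
    · exact absurd h (hb0 i)
  have hh0 : hh K v v ≠ 0 := fun e => by
    rw [e, zero_smul] at hgram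
    have := congrArg Matrix.det hgram
    rw [det_mul, det_transpose, det_zero,
      show (bm K.bar Pm).det = K.bar Pm.det from (RingHom.map_det (K.bar : F →+* F) _).symm] at this
    have hd := ((Matrix.isUnit_iff_isUnit_det _).1 hPu).ne_zero
    rcases mul_eq_zero.1 this with h | h
    · exact hd h
    · exact hd (K.bar.injective (h.trans (map_zero _).symm))
  obtain ⟨t, ht⟩ := K.exists_norm (hh K v v)⁻¹ (by rw [map_inv₀, ← hh_swap])
  have ht0 : t ≠ 0 := fun h => by rw [h, zero_mul] at ht; exact inv_ne_zero hh0 ht.symm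
  obtain ⟨P, hP⟩ : ∃ P : GL (Fin 3) F, (P : Matrix (Fin 3) (Fin 3) F) = t • Pm := by
    obtain ⟨P₁, hP₁⟩ := hPu
    exact ⟨P₁ * PrimeDim.sc (Units.mk0 t ht0), by rw [Units.val_mul, PrimeDim.sc_val, hP₁, Units.val_mk0, mul_smul_comm, mul_one]⟩
  have hPP : (P : Matrix (Fin 3) (Fin 3) F)ᵀ * bm K.bar (P : Matrix (Fin 3) (Fin 3) F) = 1 := by
    rw [hP, transpose_smul, bm_smul, smul_mul_smul_comm, hgram, smul_smul, ht, inv_mul_cancel₀ hh0, one_smul]
  have hdX : E.evM dXX = Matrix.of fun (r s : Fin 3) => if r = s then ω ^ (s : ℕ) else 0 := by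
    ext r s
    have h17 : E.ev 17 = ω ^ 2 := by
      rw [hω, ← E.ev_pow]; rfl
    fin_cases r <;> fin_cases s <;> simp [Ev.evM, dXX, E.ev_zero, E.ev_one, h17, ← hω]
  have hconjX : X * (P : Matrix (Fin 3) (Fin 3) F) = (P : Matrix (Fin 3) (Fin 3) F) * E.evM dXX := by
    ext r s
    have := congrFun (hbX s) r
    rw [hP, hdX, mul_smul_comm, smul_mul_assoc, Matrix.smul_apply, Matrix.smul_apply]
    congr 1
    rw [Matrix.mul_apply, Matrix.mul_apply]
    simp only [hPm, Matrix.of_apply, mul_ite, mul_zero, Finset.sum_ite_eq', Finset.mem_univ, if_true]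
    rw [mul_comm]
    exact this
  have hconjY : Y * (P : Matrix (Fin 3) (Fin 3) F) = (P : Matrix (Fin 3) (Fin 3) F) * E.evM dYY := by
    ext r s
    rw [hP, mul_smul_comm, smul_mul_assoc, Matrix.smul_apply, Matrix.smul_apply]
    congr 1
    have e : Y *ᵥ b s = b (s + 1) := by
      fin_cases s
      · simp [hb]
      · simp [hb, -mulVec_mulVec]
      · simp [hb, mulVec_mulVec, ← mul_assoc, hY3]
    rw [Matrix.mul_apply, Matrix.mul_apply, Fin.sum_univ_three, Fin.sum_univ_three]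
    have := congrFun e r
    simp only [Matrix.mulVec, dotProduct, Fin.sum_univ_three] at this
    simp only [hPm, Matrix.of_apply, this]
    fin_cases s <;> simp [Ev.evM, dYY, E.ev_zero, E.ev_one]
  have hXv : ((P⁻¹ * (x : GL (Fin 3) F) * P : GL (Fin 3) F) : Matrix (Fin 3) (Fin 3) F) = E.evM dXX := by
    rw [mul_assoc, Units.val_mul, Units.val_mul, ← hX, hconjX, ← mul_assoc, Units.inv_mul, one_mul]
  have hYv : ((P⁻¹ * (y : GL (Fin 3) F) * P : GL (Fin 3) F) : Matrix (Fin 3) (Fin 3) F) = E.evM dYY := by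
    rw [mul_assoc, Units.val_mul, Units.val_mul, ← hY, hconjY, ← mul_assoc, Units.inv_mul, one_mul]
  obtain ⟨φ, hφ⟩ : ∃ φ : R →* GL (Fin 3) F, ∀ z : R, φ z = P⁻¹ * (z : GL (Fin 3) F) * P :=
    ⟨(MulAut.conj P⁻¹).toMonoidHom.comp R.subtype, fun z => by simp⟩
  obtain ⟨zc, hzc⟩ : ∃ zc : R, ((φ zc : GL (Fin 3) F) : Matrix (Fin 3) (Fin 3) F) = ω • 1 := by
    refine ⟨x * y * x⁻¹ * y⁻¹, ?_⟩
    have e : φ (x * y * x⁻¹ * y⁻¹) * (φ y * φ x) = φ x * φ y := by rw [← map_mul, ← map_mul, ← map_mul]; congr 1; group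
    have h := congrArg Units.val e
    rw [Units.val_mul, Units.val_mul, Units.val_mul, hφ x, hφ y, hXv, hYv] at h
    have hXY : E.evM dXX * E.evM dYY = ω • (E.evM dYY * E.evM dXX) := by
      rw [hω, ← E.evM_mul, ← E.evM_mul, ← E.evM_smul]
      congr 1
    rw [hXY, ← smul_one_mul ω (E.evM dYY * E.evM dXX)] at h
    refine (Units.mul_left_inj (φ y * φ x)).1 ?_
    rw [Units.val_mul, hφ x, hφ y, hXv, hYv]
    exact h
  obtain ⟨el, hel⟩ : ∃ el : Fin 27 → R, el = fun (k : Fin 27) =>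
      zc ^ ((k : ℕ) / 9) * (x ^ ((k : ℕ) % 9 / 3 % 3) * y ^ ((k : ℕ) % 9 % 3)) := ⟨_, rfl⟩
  have helv : ∀ k, ((φ (el k) : GL (Fin 3) F) : Matrix (Fin 3) (Fin 3) F) = E.evM (heisC k) := fun k => by
    rw [hel, map_mul, map_mul, map_pow, map_pow, map_pow, Units.val_mul, Units.val_mul, Units.val_pow_eq_pow_val,
      Units.val_pow_eq_pow_val, Units.val_pow_eq_pow_val, hzc, hφ x, hφ y, hXv, hYv, heisC, E.evM_smul, E.evM_heisR,
      E.ev_pow, ← hω, smul_pow, one_pow, smul_mul_assoc, one_mul]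
  have hinj : Function.Injective el := fun k l e => heisC_distinct k l
    (E.centry_inj (heisC_lt k) (heisC_lt l) (by rw [← helv, ← helv, e]))
  have hbij := hinj.bijective_of_nat_card_le (by rw [hcard, Nat.card_eq_fintype_card, Fintype.card_fin])
  refine ⟨P, hPP, fun z hz => ?_, x, x.2, y, y.2, hXv, hYv⟩
  obtain ⟨k, hk⟩ := hbij.2 ⟨z, hz⟩
  exact ⟨k, by rw [← helv, hk, hφ]⟩

/-- The normaliser of an extraspecial group of order twenty-seven is not maximal for `q = 5`. -/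
theorem heis_not_maximal5 (K : Unitary.Conj F 5) {H R : Subgroup (GL (Fin 3) F)}
    (hH : Cfsg.Geo.IsMaximalIn (SUGL 3 F 5) H) (hST : IsSymplecticTypeGroup 3 R)
    (habs : ActsAbsolutelyIrreducibly (matrixSet R)) (hRU : R ≤ Cfsg.GU 3 F 5) (hcard : Nat.card R = 27)
    (hcen : Nat.card (Subgroup.center R) = 3) (hle : H ≤ subgroupNormalizer R) : False := by
  classical
  obtain ⟨E, -⟩ := exists_ev5 K
  obtain ⟨P, hP, hall, x, hx, y, hy, hXv, hYv⟩ := heis_frame K hST habs hRU hcard hcen E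
  have hPG : (P : Matrix (Fin 3) (Fin 3) F)ᵀ * bm K.bar (P : Matrix (Fin 3) (Fin 3) F) = E.evM cone := by
    rw [E.evM_one, hP]
  have hconj : ∀ g ∈ subgroupNormalizer R, ∀ z ∈ R, ∀ (A : Matrix (Fin 3) (Fin 3) F),
      ((P⁻¹ * z * P : GL (Fin 3) F) : Matrix (Fin 3) (Fin 3) F) = A → ∃ k,
        ((P⁻¹ * g * P : GL (Fin 3) F) : Matrix (Fin 3) (Fin 3) F) * A =
          E.evM (heisC k) * ((P⁻¹ * g * P : GL (Fin 3) F) : Matrix (Fin 3) (Fin 3) F) := by
    intro g hg z hz A hA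
    obtain ⟨k, hk⟩ := hall _ ((Subgroup.mem_normalizer_iff.1 hg z).1 hz)
    refine ⟨k, ?_⟩
    rw [← hk, ← hA, ← Units.val_mul, ← Units.val_mul]
    congr 1
    group
  have hkeep : ∀ g ∈ H, E.Keep dL ((P⁻¹ * g * P : GL (Fin 3) F) : Matrix (Fin 3) (Fin 3) F) := by
    intro g hg
    obtain ⟨k, hk⟩ := hconj g (hle hg) x hx _ hXv
    obtain ⟨l, hl⟩ := hconj g (hle hg) y hy _ hYv
    obtain ⟨G, hG⟩ : ∃ G, G = ((P⁻¹ * g * P : GL (Fin 3) F) : Matrix (Fin 3) (Fin 3) F) := ⟨_, rfl⟩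
    have hGu : Gᵀ * bm K.bar G = 1 := hG ▸ iso_of_mem K (hH.1.le hg) hP
    have hGd : G.det = 1 := hG ▸ det_of_mem (hH.1.le hg) P
    rw [← hG] at hk hl ⊢
    have hG' : G * (bm K.bar G)ᵀ = 1 := by
      refine mul_eq_one_comm.1 ?_
      have := congrArg transpose hGu
      rwa [transpose_mul, transpose_transpose, transpose_one] at this
    have hrel : cmm 5 (heisC k) (heisC l) = csm 5 12 (cmm 5 (heisC l) (heisC k)) := by
      have hXY : E.evM dXX * E.evM dYY = E.ev 12 • (E.evM dYY * E.evM dXX) := by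
        rw [← E.evM_mul, ← E.evM_mul, ← E.evM_smul]
        congr 1
      have e : E.evM (cmm 5 (heisC k) (heisC l)) = E.evM (csm 5 12 (cmm 5 (heisC l) (heisC k))) := by
        rw [E.evM_smul, E.evM_mul, E.evM_mul]
        have h1 : E.evM (heisC k) = G * E.evM dXX * (bm K.bar G)ᵀ := by rw [hk, mul_assoc, hG', mul_one]
        have h2 : E.evM (heisC l) = G * E.evM dYY * (bm K.bar G)ᵀ := by rw [hl, mul_assoc, hG', mul_one]
        have hG'' : (bm K.bar G)ᵀ * G = 1 := mul_eq_one_comm.1 hG'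
        rw [h1, h2]
        calc G * E.evM dXX * (bm K.bar G)ᵀ * (G * E.evM dYY * (bm K.bar G)ᵀ)
            = G * (E.evM dXX * E.evM dYY) * (bm K.bar G)ᵀ := by
              rw [show G * E.evM dXX * (bm K.bar G)ᵀ * (G * E.evM dYY * (bm K.bar G)ᵀ) =
                G * E.evM dXX * ((bm K.bar G)ᵀ * G) * E.evM dYY * (bm K.bar G)ᵀ by simp only [mul_assoc], hG'', mul_one]
              simp only [mul_assoc]
          _ = E.ev 12 • (G * (E.evM dYY * E.evM dXX) * (bm K.bar G)ᵀ) := by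
              rw [hXY, mul_smul_comm, smul_mul_assoc]
          _ = _ := by
              congr 1
              rw [show G * E.evM dYY * (bm K.bar G)ᵀ * (G * E.evM dXX * (bm K.bar G)ᵀ) =
                G * E.evM dYY * ((bm K.bar G)ᵀ * G) * E.evM dXX * (bm K.bar G)ᵀ by simp only [mul_assoc], hG'', mul_one]
              simp only [mul_assoc]
      have hc := E.centry_inj (Ev.centry_cmm_lt _ _) (E.centry_csm_lt _ _) e
      have c00 := hc 0 0; have c01 := hc 0 1; have c02 := hc 0 2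
      have c10 := hc 1 0; have c11 := hc 1 1; have c12 := hc 1 2
      have c20 := hc 2 0; have c21 := hc 2 1; have c22 := hc 2 2
      exact Prod.ext (Prod.ext c00 (Prod.ext c01 c02))
        (Prod.ext (Prod.ext c10 (Prod.ext c11 c12)) (Prod.ext c20 (Prod.ext c21 c22)))
    obtain ⟨hlt, hVX, hVY⟩ := pair_table_ok k l hrel
    obtain ⟨f, hf⟩ : ∃ f, f = dCode.getD (27 * (k : ℕ) + l) 0 := ⟨_, rfl⟩
    rw [← hf] at hlt hVX hVY
    obtain ⟨V, hV⟩ : ∃ V, V = E.evM (repV f) := ⟨_, rfl⟩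
    obtain ⟨hW1, hW2⟩ := tab_facts ⟨(f - 1) / 9, hlt⟩
    obtain ⟨hR1, hR2⟩ := heisR_facts ⟨(f - 1) % 9, Nat.mod_lt _ (by norm_num)⟩
    have hVu : Vᵀ * bm K.bar V = 1 := by
      rw [hV, repV, E.evM_mul, transpose_mul, map_mul, ← E.evM_tr, ← E.evM_tr, ← E.evM_bar, ← E.evM_bar]
      calc _ = E.evM (ctr (heisR ((f - 1) % 9))) * (E.evM (ctr (dTab.getD ((f - 1) / 9) cone)) *
            E.evM (cmbar 5 (dTab.getD ((f - 1) / 9) cone))) * E.evM (cmbar 5 (heisR ((f - 1) % 9))) := by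
              simp only [mul_assoc]
        _ = 1 := by rw [← E.evM_mul, hW1, E.evM_one, mul_one, ← E.evM_mul, hR1, E.evM_one]
    have hV' : (bm K.bar V)ᵀ * V = 1 := by
      have := congrArg transpose hVu
      rwa [transpose_mul, transpose_transpose, transpose_one] at this
    have hV'' : V * (bm K.bar V)ᵀ = 1 := mul_eq_one_comm.1 hV'
    obtain ⟨h, hh'⟩ : ∃ h, h = (bm K.bar V)ᵀ * G := ⟨_, rfl⟩
    have hcm : ∀ (A : CM) (m : Fin 27), cmm 5 (repV f) A = cmm 5 (heisC m) (repV f) →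
        G * E.evM A = E.evM (heisC m) * G → h * E.evM A = E.evM A * h := by
      intro A m e1 e2
      have e3 : V * E.evM A = E.evM (heisC m) * V := by rw [hV, ← E.evM_mul, ← E.evM_mul, e1]
      have e4 : (bm K.bar V)ᵀ * E.evM (heisC m) = E.evM A * (bm K.bar V)ᵀ := by
        calc (bm K.bar V)ᵀ * E.evM (heisC m) = (bm K.bar V)ᵀ * (E.evM (heisC m) * V) * (bm K.bar V)ᵀ := by
              rw [mul_assoc _ (_ * V), mul_assoc (E.evM _), hV'', mul_one]
          _ = E.evM A * (bm K.bar V)ᵀ := by rw [← e3, ← mul_assoc, hV', one_mul]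
      rw [hh', mul_assoc, e2, ← mul_assoc, e4, mul_assoc]
    have hcX := hcm dXX k hVX hk
    have hcY := hcm dYY l hVY hl
    obtain ⟨c, hc⟩ : ∃ c : F, h = c • 1 := by
      refine ⟨h 0 0, ?_⟩
      have hne : E.ev 12 - 1 ≠ 0 := fun e => absurd (E.ev_inj (x := 12) (y := 1) (by norm_num) (by norm_num)
        (by rw [E.ev_one]; exact sub_eq_zero.1 e)) (by norm_num)
      have hne2 : E.ev 17 - 1 ≠ 0 := fun e => absurd (E.ev_inj (x := 17) (y := 1) (by norm_num) (by norm_num)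
        (by rw [E.ev_one]; exact sub_eq_zero.1 e)) (by norm_num)
      have hne3 : E.ev 17 - E.ev 12 ≠ 0 := fun e => absurd (E.ev_inj (x := 17) (y := 12) (by norm_num) (by norm_num)
        (sub_eq_zero.1 e)) (by norm_num)
      have ex : ∀ i j, h i j * E.evM dXX j j = E.evM dXX i i * h i j := fun i j => by
        have := congrFun (congrFun hcX i) j
        rw [Matrix.mul_apply, Matrix.mul_apply, Fin.sum_univ_three, Fin.sum_univ_three] at this
        fin_cases i <;> fin_cases j <;> simpa [Ev.evM, dXX, E.ev_zero, E.ev_one] using this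
      have z01 := ex 0 1; have z02 := ex 0 2; have z10 := ex 1 0; have z12 := ex 1 2
      have z20 := ex 2 0; have z21 := ex 2 1
      simp [Ev.evM, dXX, E.ev_one] at z01 z02 z10 z12 z20 z21
      have o01 : h 0 1 = 0 := (mul_eq_zero.1 (show h 0 1 * (E.ev 12 - 1) = 0 by linear_combination z01)).resolve_right hne
      have o02 : h 0 2 = 0 := (mul_eq_zero.1 (show h 0 2 * (E.ev 17 - 1) = 0 by linear_combination z02)).resolve_right hne2
      have o10 : h 1 0 = 0 := (mul_eq_zero.1 (show h 1 0 * (E.ev 12 - 1) = 0 by linear_combination -z10)).resolve_right hne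
      have o12 : h 1 2 = 0 := (mul_eq_zero.1 (show h 1 2 * (E.ev 17 - E.ev 12) = 0 by linear_combination z12)).resolve_right hne3
      have o20 : h 2 0 = 0 := (mul_eq_zero.1 (show h 2 0 * (E.ev 17 - 1) = 0 by linear_combination -z20)).resolve_right hne2
      have o21 : h 2 1 = 0 := (mul_eq_zero.1 (show h 2 1 * (E.ev 17 - E.ev 12) = 0 by linear_combination -z21)).resolve_right hne3
      have y1 := congrFun (congrFun hcY 1) 0
      have y2 := congrFun (congrFun hcY 2) 1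
      rw [Matrix.mul_apply, Matrix.mul_apply, Fin.sum_univ_three, Fin.sum_univ_three] at y1 y2
      simp [Ev.evM, dYY, E.ev_zero, E.ev_one] at y1 y2
      ext i j
      fin_cases i <;> fin_cases j <;> simp [o01, o02, o10, o12, o20, o21, y1, y2]
    have hGV : G = c • V := by
      calc G = V * h := by rw [hh', ← mul_assoc, hV'', one_mul]
        _ = c • V := by rw [hc, mul_smul_comm, mul_one]
    have hc0 : c ≠ 0 := fun e => by rw [e, zero_smul] at hGV; rw [hGV] at hGd; simp at hGd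
    have hcc : c * K.bar c = 1 := smul_one_cancel (by
      rw [hGV, transpose_smul, bm_smul, smul_mul_smul_comm, hVu] at hGu
      rw [hGu, one_smul])
    have hgood : (f - 1) / 9 < 8 := by
      by_contra hbad
      have hdet : E.ev (cdet 5 (dTab.getD ((f - 1) / 9) cone)) * c ^ 3 = 1 := by
        rw [hGV, det_smul, hV, repV, E.evM_mul, det_mul, E.evM_det, E.evM_det, hR2, E.ev_one, mul_one,
          Fintype.card_fin] at hGd
        linear_combination hGd
      refine hW2 (show 8 ≤ (f - 1) / 9 by omega) (E.ev_inj (E.mul_lt _ _) (by norm_num) ?_)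
      rw [E.ev_mul, E.ev_one]
      rw [K.bar_apply] at hcc
      linear_combination (E.ev (cdet 5 (dTab.getD ((f - 1) / 9) cone)) * c ^ 3 + 1) * hdet -
        (E.ev (cdet 5 (dTab.getD ((f - 1) / 9) cone))) ^ 2 * hcc
    rw [hGV, hV, repV, E.evM_mul]
    exact E.keep_smul hc0 (E.keep_mul (E.keep_tab ⟨_, hgood⟩) (E.keep_heisR _))
  obtain ⟨T, hT, hTv⟩ := E.exists_el dT_gram dT_det hPG
  refine E.false_of_stab dW_iso dX_mem dX_moved hPG hH (fun g hg => E.mem_stab.2 (hkeep g hg)) hT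
    (by rw [hTv]; exact E.keep_of_cert dT_keeps) fun hTH => ?_
  obtain ⟨k, hk⟩ := hconj T (hle hTH) x hx _ hXv
  rw [hTv] at hk
  have e : E.evM (cmm 5 (cmm 5 dT dXX) dT) = E.evM (heisC k) := by
    rw [E.evM_mul, E.evM_mul, hk, mul_assoc, ← E.evM_mul, dT_sq, E.evM_one, mul_one]
  obtain ⟨i, j, hne⟩ := T_moves k
  exact hne (E.centry_inj (Ev.centry_cmm_lt _ _) (heisC_lt k) e i j)

end CfsgLib.Asch.UnitThree
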