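import Cfsg.Agent.Lib.Classical.AschUnitMax

set_option autoImplicit false
set_option linter.unusedSectionVars false

/-!
Codes for matrices in dimension three over a quadratic extension of a prime field, and stabilisers of sets of lines.
-/

namespace CfsgLib.Asch.UnitThree

open Matrix
open CfsgLib.PrimeDim (SUGL)
open CfsgLib.ClassicalAut (Unitary.Conj)
open scoped MatrixGroups

/-- A vector of codes. -/
abbrev CV := ℕ × ℕ × ℕ

/-- A matrix of codes, by rows. -/
abbrev CM := CV × CV × CV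

/-- Addition of codes. -/
def cadd (p x y : ℕ) : ℕ := (x + y) % p + p * ((x / p + y / p) % p)

/-- Multiplication of codes. -/
def cmul (p x y : ℕ) : ℕ :=
  ((x % p) * (y % p) + 2 * (x / p) * (y / p)) % p + p * (((x % p) * (y / p) + (x / p) * (y % p)) % p)

/-- Conjugation of codes. -/
def cbar (p x : ℕ) : ℕ := x % p + p * ((p - (x / p) % p) % p)

/-- Negation of codes. -/
def cneg (p x : ℕ) : ℕ := (p - x % p) % p + p * ((p - (x / p) % p) % p)

/-- Powers of a code. -/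
def cpow (p x : ℕ) : ℕ → ℕ
  | 0 => 1
  | k + 1 => cmul p (cpow p x k) x

/-- The scalar product of codes. -/
def cdot (p : ℕ) (r v : CV) : ℕ :=
  cadd p (cadd p (cmul p r.1 v.1) (cmul p r.2.1 v.2.1)) (cmul p r.2.2 v.2.2)

/-- The transpose of codes. -/
def ctr (A : CM) : CM :=
  ((A.1.1, A.2.1.1, A.2.2.1), (A.1.2.1, A.2.1.2.1, A.2.2.2.1), (A.1.2.2, A.2.1.2.2, A.2.2.2.2))

/-- A matrix applied to a vector. -/
def cmv (p : ℕ) (A : CM) (v : CV) : CV := (cdot p A.1 v, cdot p A.2.1 v, cdot p A.2.2 v)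

/-- The product of matrices of codes. -/
def cmm (p : ℕ) (A B : CM) : CM := (cmv p (ctr B) A.1, cmv p (ctr B) A.2.1, cmv p (ctr B) A.2.2)

/-- Conjugation of a vector. -/
def cvbar (p : ℕ) (v : CV) : CV := (cbar p v.1, cbar p v.2.1, cbar p v.2.2)

/-- Conjugation of a matrix. -/
def cmbar (p : ℕ) (A : CM) : CM := (cvbar p A.1, cvbar p A.2.1, cvbar p A.2.2)

/-- A multiple of a vector. -/
def cscale (p c : ℕ) (v : CV) : CV := (cmul p c v.1, cmul p c v.2.1, cmul p c v.2.2)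

/-- A multiple of a matrix. -/
def csm (p c : ℕ) (A : CM) : CM := (cscale p c A.1, cscale p c A.2.1, cscale p c A.2.2)

/-- The determinant of a matrix of codes. -/
def cdet (p : ℕ) (A : CM) : ℕ :=
  let a := A.1; let b := A.2.1; let c := A.2.2
  cadd p (cadd p (cmul p a.1 (cadd p (cmul p b.2.1 c.2.2) (cneg p (cmul p b.2.2 c.2.1))))
    (cneg p (cmul p a.2.1 (cadd p (cmul p b.1 c.2.2) (cneg p (cmul p b.2.2 c.1))))))
    (cmul p a.2.2 (cadd p (cmul p b.1 c.2.1) (cneg p (cmul p b.2.1 c.1))))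

/-- The unit matrix of codes. -/
def cone : CM := ((1, 0, 0), (0, 1, 0), (0, 0, 1))

/-- A certificate that a matrix permutes the lines of a list. -/
def keeps (p : ℕ) (A : CM) (L : List CV) (cert : List (ℕ × ℕ)) : Bool :=
  (List.range L.length).all fun i =>
    decide ((cert.getD i (0, 0)).2 < L.length) && decide (0 < (cert.getD i (0, 0)).1) &&
      decide ((cert.getD i (0, 0)).1 < p * p) &&
      decide (cmv p A (L.getD i (0, 0, 0)) = cscale p (cert.getD i (0, 0)).1 (L.getD (cert.getD i (0, 0)).2 (0, 0, 0)))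

/-- Two vectors of codes are visibly independent. -/
def indep (p : ℕ) (x v : CV) : Bool :=
  decide (cmul p x.1 v.2.1 ≠ cmul p x.2.1 v.1) || decide (cmul p x.1 v.2.2 ≠ cmul p x.2.2 v.1) ||
    decide (cmul p x.2.1 v.2.2 ≠ cmul p x.2.2 v.2.1)

variable {F : Type*} [Field F] [Fintype F] {q : ℕ}

/-- The data of an evaluation of codes. -/
structure Ev (p : ℕ) (K : Unitary.Conj F q) where
  /-- The square root of two. -/
  s : F
  prime : p.Prime
  card : Fintype.card F = p * p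
  two : s * s = 2
  char : (p : F) = 0
  bar_s : K.bar s = -s
  s_ne : s ≠ -s

namespace Ev

variable {p : ℕ} {K : Unitary.Conj F q} (E : Ev p K)

/-- The value of a code. -/
def ev (x : ℕ) : F := ((x % p : ℕ) : F) + ((x / p : ℕ) : F) * E.s

include E in
theorem cast_mod (n : ℕ) : ((n % p : ℕ) : F) = n := by
  conv_rhs => rw [← Nat.mod_add_div n p, Nat.cast_add, Nat.cast_mul, E.char, zero_mul, add_zero]

theorem ev_pair (a b : ℕ) : E.ev (a % p + p * (b % p)) = (a : F) + (b : F) * E.s := by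
  have hp := E.prime.pos
  have h1 : (a % p + p * (b % p)) % p = a % p := by rw [Nat.add_mul_mod_self_left, Nat.mod_mod]
  have h2 : (a % p + p * (b % p)) / p = b % p := by
    rw [Nat.add_mul_div_left _ _ hp, Nat.div_eq_of_lt (Nat.mod_lt _ hp), zero_add]
  rw [ev, h1, h2, E.cast_mod, E.cast_mod]

theorem ev_eq (x : ℕ) : E.ev x = (x : F) + ((x / p : ℕ) : F) * E.s := by rw [ev, E.cast_mod]

theorem ev_zero : E.ev 0 = 0 := by simp [E.ev_eq]

theorem ev_one : E.ev 1 = 1 := by simp [E.ev_eq, Nat.div_eq_of_lt E.prime.one_lt]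

theorem ev_prime : E.ev p = E.s := by simp [E.ev_eq, E.char, Nat.div_self E.prime.pos]

theorem ev_small {a : ℕ} (ha : a < p) : E.ev a = a := by simp [E.ev_eq, Nat.div_eq_of_lt ha]

theorem ev_add (x y : ℕ) : E.ev (cadd p x y) = E.ev x + E.ev y := by
  rw [cadd, E.ev_pair, E.ev_eq, E.ev_eq]
  push_cast
  ring

theorem ev_mul (x y : ℕ) : E.ev (cmul p x y) = E.ev x * E.ev y := by
  rw [cmul, E.ev_pair]
  simp only [ev]
  push_cast
  linear_combination (-(((x / p : ℕ) : F) * ((y / p : ℕ) : F))) * E.two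

include E in
theorem sub_cast (x : ℕ) : ((p - x % p : ℕ) : F) = -(x : F) := by
  rw [Nat.cast_sub (Nat.mod_lt _ E.prime.pos).le, E.char, E.cast_mod, zero_sub]

theorem ev_bar (x : ℕ) : E.ev (cbar p x) = K.bar (E.ev x) := by
  rw [cbar, E.ev_pair, E.sub_cast, ev, map_add, map_mul, map_natCast, map_natCast, E.bar_s, E.cast_mod]
  ring

theorem ev_neg (x : ℕ) : E.ev (cneg p x) = -E.ev x := by
  rw [cneg, E.ev_pair, E.sub_cast, E.sub_cast, E.ev_eq]
  ring

theorem ev_pow (x k : ℕ) : E.ev (cpow p x k) = E.ev x ^ k := by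
  induction k with
  | zero => rw [pow_zero]; exact E.ev_one
  | succ k ih => rw [cpow, E.ev_mul, ih, pow_succ]

include E in
theorem cast_inj {a b : ℕ} (ha : a < p) (hb : b < p) (h : (a : F) = b) : a = b := by
  haveI : CharP F p := (CharP.charP_iff_prime_eq_zero E.prime).2 E.char
  exact Nat.ModEq.eq_of_lt_of_lt ((CharP.natCast_eq_natCast F p).1 h) ha hb

theorem ev_inj {x y : ℕ} (hx : x < p * p) (hy : y < p * p) (h : E.ev x = E.ev y) : x = y := by
  have hp := E.prime.pos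
  have hb : ((x / p : ℕ) : F) = ((y / p : ℕ) : F) := by
    by_contra hne
    simp only [ev] at h
    have hs : E.s * (((x / p : ℕ) : F) - ((y / p : ℕ) : F)) = ((y % p : ℕ) : F) - ((x % p : ℕ) : F) := by
      linear_combination h
    have hd : ((x / p : ℕ) : F) - ((y / p : ℕ) : F) ≠ 0 := sub_ne_zero.2 hne
    have h' := congrArg K.bar hs
    rw [map_mul, map_sub, map_sub, map_natCast, map_natCast, map_natCast, map_natCast, E.bar_s, ← hs] at h'
    exact E.s_ne (mul_right_cancel₀ hd h').symm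
  have h1 : x / p = y / p := E.cast_inj (Nat.div_lt_of_lt_mul hx) (Nat.div_lt_of_lt_mul hy) hb
  have h2 : x % p = y % p := by
    refine E.cast_inj (Nat.mod_lt _ hp) (Nat.mod_lt _ hp) ?_
    rw [ev, ev, h1] at h
    exact add_right_cancel h
  rw [← Nat.mod_add_div x p, ← Nat.mod_add_div y p, h1, h2]

include E in
theorem mul_lt (x y : ℕ) : cmul p x y < p * p := by
  have hp := E.prime.pos
  have h1 := Nat.mod_lt ((x % p) * (y % p) + 2 * (x / p) * (y / p)) hp
  have h2 := Nat.mod_lt ((x % p) * (y / p) + (x / p) * (y % p)) hp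
  unfold cmul
  nlinarith

theorem ev_surj (z : F) : ∃ x, x < p * p ∧ E.ev x = z := by
  have hinj : Function.Injective fun x : Fin (p * p) => E.ev x.1 := fun a b h => Fin.ext (E.ev_inj a.2 b.2 h)
  have hb := hinj.bijective_of_nat_card_le (by
    rw [Nat.card_eq_fintype_card, E.card, Nat.card_eq_fintype_card, Fintype.card_fin])
  obtain ⟨x, hx⟩ := hb.2 z
  exact ⟨x.1, x.2, hx⟩

theorem ev_mul_ne {a b c d : ℕ} (h : cmul p a b ≠ cmul p c d) : E.ev a * E.ev b ≠ E.ev c * E.ev d := fun e =>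
  h (E.ev_inj (E.mul_lt a b) (E.mul_lt c d) (by rw [E.ev_mul, E.ev_mul, e]))

theorem ev_ne_zero {x : ℕ} (hx : x < p * p) (h0 : 0 < x) : E.ev x ≠ 0 := fun e =>
  h0.ne' (E.ev_inj hx (Nat.mul_pos E.prime.pos E.prime.pos) (e.trans E.ev_zero.symm))

/-- The value of a vector of codes. -/
def evV (v : CV) : Fin 3 → F := ![E.ev v.1, E.ev v.2.1, E.ev v.2.2]

/-- The value of a matrix of codes. -/
def evM (A : CM) : Matrix (Fin 3) (Fin 3) F :=
  !![E.ev A.1.1, E.ev A.1.2.1, E.ev A.1.2.2; E.ev A.2.1.1, E.ev A.2.1.2.1, E.ev A.2.1.2.2;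
    E.ev A.2.2.1, E.ev A.2.2.2.1, E.ev A.2.2.2.2]

theorem evV_cmv (A : CM) (v : CV) : E.evV (cmv p A v) = E.evM A *ᵥ E.evV v := by
  funext i
  fin_cases i <;>
    simp [evV, evM, cmv, cdot, E.ev_add, E.ev_mul, Matrix.mulVec, dotProduct, Fin.sum_univ_three]

theorem evV_scale (c : ℕ) (v : CV) : E.evV (cscale p c v) = E.ev c • E.evV v := by
  funext i
  fin_cases i <;> simp [evV, cscale, E.ev_mul]

theorem evM_tr (A : CM) : E.evM (ctr A) = (E.evM A)ᵀ := by
  ext i j
  fin_cases i <;> fin_cases j <;> simp [evM, ctr]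

theorem evM_mul (A B : CM) : E.evM (cmm p A B) = E.evM A * E.evM B := by
  ext i j
  fin_cases i <;> fin_cases j <;>
    simp [evM, cmm, cmv, ctr, cdot, E.ev_add, E.ev_mul, Matrix.mul_apply, Fin.sum_univ_three] <;> ring

theorem evM_bar (A : CM) : E.evM (cmbar p A) = bm K.bar (E.evM A) := by
  ext i j
  fin_cases i <;> fin_cases j <;> simp [evM, cmbar, cvbar, E.ev_bar, bm_apply]

theorem evM_smul (c : ℕ) (A : CM) : E.evM (csm p c A) = E.ev c • E.evM A := by
  ext i j
  fin_cases i <;> fin_cases j <;> simp [evM, csm, cscale, E.ev_mul]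

theorem evM_one : E.evM cone = 1 := by
  ext i j
  fin_cases i <;> fin_cases j <;> simp [evM, cone, E.ev_zero, E.ev_one]

theorem evM_det (A : CM) : (E.evM A).det = E.ev (cdet p A) := by
  rw [Matrix.det_fin_three]
  simp [evM, cdet, E.ev_add, E.ev_mul, E.ev_neg]
  ring

/-- The lines of a list, as a set of vectors. -/
def lineSet (L : List CV) : Set (Fin 3 → F) :=
  {x | ∃ v ∈ L, ∃ c : F, c ≠ 0 ∧ x = c • E.evV v}

/-- The matrices stabilising the lines of a list. -/
noncomputable def stab0 (L : List CV) : Subgroup (GL (Fin 3) F) where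
  carrier := {g | ∀ x, x ∈ E.lineSet L → (g : Matrix (Fin 3) (Fin 3) F) *ᵥ x ∈ E.lineSet L}
  mul_mem' {a b} ha hb x hx := by rw [Units.val_mul, ← mulVec_mulVec]; exact ha _ (hb x hx)
  one_mem' x hx := by rwa [Units.val_one, one_mulVec]
  inv_mem' {a} ha := by
    intro x hx
    haveI : Finite (GL (Fin 3) F) := Finite.of_injective _ Units.val_injective
    have h1 : ∀ k : ℕ, ∀ x, x ∈ E.lineSet L → ((a ^ k : GL (Fin 3) F) : Matrix (Fin 3) (Fin 3) F) *ᵥ x ∈ E.lineSet L := by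
      intro k
      induction k with
      | zero => intro x hx; rwa [pow_zero, Units.val_one, one_mulVec]
      | succ k ih => intro x hx; rw [pow_succ, Units.val_mul, ← mulVec_mulVec]; exact ih _ (ha x hx)
    have h2 : a⁻¹ = a ^ (orderOf a - 1) := by
      rw [inv_eq_iff_mul_eq_one, ← pow_succ', Nat.sub_add_cancel (orderOf_pos a), pow_orderOf_eq_one]
    rw [h2]
    exact h1 _ x hx

/-- The stabiliser transported to a frame. -/
noncomputable def stab (L : List CV) (P : GL (Fin 3) F) : Subgroup (GL (Fin 3) F) :=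
  (E.stab0 L).comap (MulAut.conj P⁻¹).toMonoidHom

theorem mem_stab {L : List CV} {P g : GL (Fin 3) F} :
    g ∈ E.stab L P ↔ ∀ x, x ∈ E.lineSet L →
      ((P⁻¹ * g * P : GL (Fin 3) F) : Matrix (Fin 3) (Fin 3) F) *ᵥ x ∈ E.lineSet L := by
  show MulAut.conj P⁻¹ g ∈ E.stab0 L ↔ _
  rw [MulAut.conj_apply, inv_inv]
  rfl

/-- The matrices stabilising the lines, as a monoid of matrices. -/
def Keep (L : List CV) (M : Matrix (Fin 3) (Fin 3) F) : Prop :=
  ∀ x, x ∈ E.lineSet L → M *ᵥ x ∈ E.lineSet L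

theorem keep_mul {L : List CV} {M N : Matrix (Fin 3) (Fin 3) F} (hM : E.Keep L M) (hN : E.Keep L N) :
    E.Keep L (M * N) := fun x hx => by rw [← mulVec_mulVec]; exact hM _ (hN x hx)

theorem keep_smul {L : List CV} {M : Matrix (Fin 3) (Fin 3) F} {c : F} (hc : c ≠ 0) (hM : E.Keep L M) :
    E.Keep L (c • M) := fun x hx => by
  obtain ⟨v, hv, d, hd, e⟩ := hM x hx
  exact ⟨v, hv, c * d, mul_ne_zero hc hd, by rw [smul_mulVec, e, smul_smul]⟩

theorem keep_pow {L : List CV} {M : Matrix (Fin 3) (Fin 3) F} (hM : E.Keep L M) (k : ℕ) : E.Keep L (M ^ k) := by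
  induction k with
  | zero => intro x hx; rwa [pow_zero, one_mulVec]
  | succ k ih => rw [pow_succ]; exact E.keep_mul ih hM

theorem keep_of_cert {L : List CV} {A : CM} {cert : List (ℕ × ℕ)} (h : keeps p A L cert = true) :
    E.Keep L (E.evM A) := by
  rintro x ⟨v, hv, c, hc, rfl⟩
  obtain ⟨i, hi, rfl⟩ := List.getElem_of_mem hv
  have h' := List.all_eq_true.1 h i (List.mem_range.2 hi)
  simp only [Bool.and_eq_true, decide_eq_true_eq] at h'
  obtain ⟨⟨⟨h1, h2⟩, h3⟩, h4⟩ := h'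
  obtain ⟨c', j, hcj⟩ : ∃ c' j, cert.getD i (0, 0) = (c', j) := ⟨_, _, rfl⟩
  rw [hcj] at h1 h2 h3 h4
  simp only at h1 h2 h3 h4
  rw [List.getD_eq_getElem _ _ hi, List.getD_eq_getElem _ _ h1] at h4
  refine ⟨_, List.getElem_mem h1, c * E.ev c', mul_ne_zero hc (E.ev_ne_zero h3 h2), ?_⟩
  rw [mulVec_smul, ← E.evV_cmv, h4, E.evV_scale, smul_smul]

theorem not_mem_of_indep {L : List CV} {x : CV} (h : L.all (indep p x) = true) :
    E.evV x ∉ E.lineSet L := by
  rintro ⟨v, hv, c, -, e⟩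
  have h' := List.all_eq_true.1 h v hv
  have e0 := congrFun e 0
  have e1 := congrFun e 1
  have e2 := congrFun e 2
  simp [evV] at e0 e1 e2
  simp only [indep, Bool.or_eq_true, decide_eq_true_eq] at h'
  rcases h' with (h' | h') | h' <;> refine E.ev_mul_ne h' ?_ <;> simp only [e0, e1, e2] <;> ring

/-- A frame with a given Gram matrix gives elements of the special unitary group. -/
theorem exists_el {G A : CM} (hA : cmm p (cmm p (ctr A) G) (cmbar p A) = G) (hd : cdet p A = 1) {P : GL (Fin 3) F}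
    (hP : (P : Matrix (Fin 3) (Fin 3) F)ᵀ * bm K.bar (P : Matrix (Fin 3) (Fin 3) F) = E.evM G) :
    ∃ g ∈ SUGL 3 F q, ((P⁻¹ * g * P : GL (Fin 3) F) : Matrix (Fin 3) (Fin 3) F) = E.evM A := by
  have hdet : (E.evM A).det = 1 := by rw [E.evM_det, hd, E.ev_one]
  obtain ⟨a, ha⟩ : IsUnit (E.evM A) := by rw [Matrix.isUnit_iff_isUnit_det, hdet]; exact isUnit_one
  refine ⟨P * a * P⁻¹, ⟨fun u w => ?_, ?_⟩, ?_⟩
  · rw [herm_sform K, herm_sform K]
    show sform K.bar 1 (((P * a * P⁻¹ : GL (Fin 3) F) : Matrix (Fin 3) (Fin 3) F) *ᵥ u)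
      (((P * a * P⁻¹ : GL (Fin 3) F) : Matrix (Fin 3) (Fin 3) F) *ᵥ w) = sform K.bar 1 u w
    have e : ∀ z, ((P * a * P⁻¹ : GL (Fin 3) F) : Matrix (Fin 3) (Fin 3) F) *ᵥ z =
        (P : Matrix (Fin 3) (Fin 3) F) *ᵥ (E.evM A *ᵥ ((↑P⁻¹ : Matrix (Fin 3) (Fin 3) F) *ᵥ z)) := fun z => by
      rw [Units.val_mul, Units.val_mul, mulVec_mulVec, mulVec_mulVec, ha]
    rw [e, e, sform_mulVec, mul_one, hP, sform_mulVec, ← E.evM_tr, ← E.evM_bar, ← E.evM_mul, ← E.evM_mul, hA, ← hP]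
    conv_rhs => rw [← PrimeDim.mulVec_inv_cancel P u, ← PrimeDim.mulVec_inv_cancel P w, sform_mulVec, mul_one]
  · have : (a : Matrix (Fin 3) (Fin 3) F).det = 1 := by rw [ha, hdet]
    simpa [Cfsg.Geo.specialLinear, MonoidHom.mem_ker, Units.ext_iff] using this
  · rw [show P⁻¹ * (P * a * P⁻¹) * P = a by group, ha]

include E in
/-- An orbit of lines of an overgroup excludes maximality. -/
theorem false_of_stab {L : List CV} {G : CM} {w x : CV} (hw : cdot p w (cmv p G (cvbar p w)) = 0) (hx : x ∈ L)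
    (hmv : L.all (indep p
      (cadd p x.1 (cmul p (cmul p p (cdot p x (cmv p G (cvbar p w)))) w.1),
       cadd p x.2.1 (cmul p (cmul p p (cdot p x (cmv p G (cvbar p w)))) w.2.1),
       cadd p x.2.2 (cmul p (cmul p p (cdot p x (cmv p G (cvbar p w)))) w.2.2))) = true)
    {P : GL (Fin 3) F} (hP : (P : Matrix (Fin 3) (Fin 3) F)ᵀ * bm K.bar (P : Matrix (Fin 3) (Fin 3) F) = E.evM G)
    {H : Subgroup (GL (Fin 3) F)} (hH : Cfsg.Geo.IsMaximalIn (SUGL 3 F q) H) (hle : H ≤ E.stab L P)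
    {T : GL (Fin 3) F} (hT : T ∈ SUGL 3 F q) (hTk : E.Keep L ((P⁻¹ * T * P : GL (Fin 3) F) : Matrix (Fin 3) (Fin 3) F))
    (hTH : T ∉ H) : False := by
  rcases hH.2 (E.stab L P ⊓ SUGL 3 F q) (le_inf hle hH.1.le) inf_le_right with h | h
  · exact hTH (h ▸ ⟨E.mem_stab.2 hTk, hT⟩)
  have hdot : ∀ y : CV, Cfsg.hermForm 3 F q ((P : Matrix (Fin 3) (Fin 3) F) *ᵥ E.evV y)
      ((P : Matrix (Fin 3) (Fin 3) F) *ᵥ E.evV w) = E.ev (cdot p y (cmv p G (cvbar p w))) := fun y => by
    rw [herm_sform K, sform_mulVec, mul_one, hP, sform,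
      show ⇑K.bar ∘ E.evV w = E.evV (cvbar p w) from funext fun i => by fin_cases i <;> simp [evV, cvbar, E.ev_bar],
      ← E.evV_cmv]
    simp [evV, cdot, E.ev_add, E.ev_mul, dotProduct, Fin.sum_univ_three]
  obtain ⟨T', φ, hT', hφ, -, hTv⟩ := PrimeDim.exists_utv K (u := (P : Matrix (Fin 3) (Fin 3) F) *ᵥ E.evV w) (l := E.s)
    (by rw [hdot, hw, E.ev_zero]) (by rw [E.bar_s, add_neg_cancel])
  have hmem := E.mem_stab.1 (h.symm.le hT').1 (E.evV x) ⟨x, hx, 1, one_ne_zero, (one_smul F _).symm⟩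
  rw [Units.val_mul, Units.val_mul, ← mulVec_mulVec, ← mulVec_mulVec, PrimeDim.transvection_mulVec hTv, hφ, hdot,
    mulVec_add, mulVec_smul, PrimeDim.inv_mulVec_cancel, PrimeDim.inv_mulVec_cancel] at hmem
  refine E.not_mem_of_indep hmv ?_
  convert hmem using 1
  funext i
  fin_cases i <;> simp [evV, E.ev_add, E.ev_mul, E.ev_prime]

end Ev

end CfsgLib.Asch.UnitThree
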