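import Cfsg.Agent.Lib.Classical.AschUnitThreeFrame
import Cfsg.Agent.Lib.Classical.AschUnitThreeChecks
import Cfsg.Agent.Lib.Classical.AschUnitSmall

set_option autoImplicit false
set_option linter.unusedSectionVars false

/-!
For `q = 5` monomial and real groups of dimension three stabilise an orbit of lines of `3.A₇`; for `q = 3` real
groups are monomial.
-/

namespace CfsgLib.Asch.UnitThree

open Matrix
open Cfsg.Geo (decompositionStabilizer)
open CfsgLib.PrimeDim (SUGL)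
open CfsgLib.ClassicalAut (Unitary.Conj)
open scoped MatrixGroups

/-- The signed permutations. -/
def permC : Fin 6 → CM := ![cP0, cP1, cP2, cP3, cP4, cP5]

/-- The representatives of real orthogonal matrices modulo signed permutations. -/
def repC : Fin 5 → CM := ![cR0, cR1, cR2, cR3, cR4]

/-- The permutation of a signed permutation. -/
def permF : Fin 6 → Fin 3 → Fin 3 := ![![0, 1, 2], ![0, 2, 1], ![1, 0, 2], ![1, 2, 0], ![2, 0, 1], ![2, 1, 0]]

/-- An entry of a matrix of codes. -/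
def centry (A : CM) : Fin 3 → Fin 3 → ℕ :=
  ![![A.1.1, A.1.2.1, A.1.2.2], ![A.2.1.1, A.2.1.2.1, A.2.1.2.2], ![A.2.2.1, A.2.2.2.1, A.2.2.2.2]]

/-- The cross product of two columns of codes. -/
def cross (a b : CV) : CV :=
  (cadd 5 (cmul 5 a.2.1 b.2.2) (cneg 5 (cmul 5 a.2.2 b.2.1)),
    cadd 5 (cmul 5 a.2.2 b.1) (cneg 5 (cmul 5 a.1 b.2.2)),
    cadd 5 (cmul 5 a.1 b.2.1) (cneg 5 (cmul 5 a.2.1 b.1)))

/-- The matrix with given columns. -/
def ofCols (a b : CV) : CM := ctr (a, b, cross a b)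

/-- The real unit vectors. -/
def units5 : List CV :=
  ((List.range 5).flatMap fun i => (List.range 5).flatMap fun j => (List.range 5).map fun k => (i, j, k)).filter
    fun v => cdot 5 v v = 1

theorem units5_mem : ∀ i j k : Fin 5, cdot 5 ((i : ℕ), (j : ℕ), (k : ℕ)) (i, j, k) = 1 →
    ((i : ℕ), (j : ℕ), (k : ℕ)) ∈ units5 := by decide +kernel

theorem real_classify : units5.all (fun a => units5.all fun b => decide (cdot 5 a b = 0 →
    ∃ k : Fin 5, ∃ j : Fin 6, ∀ x y : Fin 3, x ≠ y →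
      centry (cmm 5 (cmm 5 (ofCols a b) (ctr (repC k))) (ctr (permC j))) x y = 0)) = true := by decide +kernel

theorem perm_facts : ∀ k : Fin 6, cdet 5 (permC k) = 1 ∧ cmm 5 (ctr (permC k)) (permC k) = cone ∧
    cmm 5 (permC k) (ctr (permC k)) = cone ∧ cmbar 5 (permC k) = permC k ∧
    ∀ i j : Fin 3, i ≠ permF k j → centry (permC k) i j = 0 := by decide +kernel

theorem rep_facts : ∀ k : Fin 5, cdet 5 (repC k) = 1 ∧ cmm 5 (ctr (repC k)) (repC k) = cone ∧
    cmm 5 (repC k) (ctr (repC k)) = cone ∧ cmbar 5 (repC k) = repC k := by decide +kernel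

theorem zeta_facts : cmul 5 13 18 = 1 ∧ (∀ x : Fin 25, cmul 5 x (cbar 5 x) = 1 →
    ∃ e : Fin 6, (x : ℕ) = cpow 5 13 e) ∧ cpow 5 13 0 = 1 := by decide +kernel

theorem perm_code : ∀ σ : Fin 3 → Fin 3, Function.Injective σ → ∃ k : Fin 6, permF k = σ := by decide +kernel

variable {F : Type*} [Field F] [Fintype F] {q : ℕ}

theorem exists_ev5 (K : Unitary.Conj F 5) : ∃ _ : Ev 5 K, True := by
  have hc : Fintype.card F = 5 * 5 := by rw [← Nat.card_eq_fintype_card, K.card, pow_two]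
  have h5 : (5 : F) = 0 := by
    have := FiniteField.cast_card_eq_zero F
    rw [hc] at this
    rw [Nat.cast_mul] at this
    exact_mod_cast mul_self_eq_zero.1 this
  have h2 : (2 : F) ≠ 0 := fun h => one_ne_zero (show (1 : F) = 0 by linear_combination h5 - 2 * h)
  have hchar : ringChar F ≠ 2 := fun h => h2 (by
    have := CharP.cast_eq_zero F (ringChar F)
    rw [h] at this
    exact_mod_cast this)
  obtain ⟨s, hs⟩ : IsSquare (2 : F) := by
    rw [FiniteField.isSquare_iff hchar h2, hc]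
    norm_num
    linear_combination (819 : F) * h5
  have hbs : K.bar s = -s := by rw [K.bar_apply]; linear_combination (-(s * s * s + 2 * s)) * hs + s * h5
  refine ⟨{
    s := s
    prime := by norm_num
    card := hc
    two := hs.symm
    char := by exact_mod_cast h5
    bar_s := hbs
    s_ne := fun h => h2 (mul_self_eq_zero.1
      (show (2 : F) * 2 = 0 by linear_combination (2 : F) * hs + s * h)) }, trivial⟩

namespace Ev

variable {K : Unitary.Conj F 5} (E : Ev 5 K)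

theorem evM_centry (A : CM) (i j : Fin 3) : E.evM A i j = E.ev (centry A i j) := by
  fin_cases i <;> fin_cases j <;> simp [evM, centry]

theorem keep_perm (k : Fin 6) : E.Keep cL (E.evM (permC k)) := by
  fin_cases k
  · exact E.keep_of_cert cP0_keeps
  · exact E.keep_of_cert cP1_keeps
  · exact E.keep_of_cert cP2_keeps
  · exact E.keep_of_cert cP3_keeps
  · exact E.keep_of_cert cP4_keeps
  · exact E.keep_of_cert cP5_keeps

theorem keep_rep (k : Fin 5) : E.Keep cL (E.evM (repC k)) := by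
  fin_cases k
  · exact E.keep_of_cert cR0_keeps
  · exact E.keep_of_cert cR1_keeps
  · exact E.keep_of_cert cR2_keeps
  · exact E.keep_of_cert cR3_keeps
  · exact E.keep_of_cert cR4_keeps

/-- Diagonal unitary matrices of determinant one preserve the lines. -/
theorem keep_diag {d : Fin 3 → F} (hd : ∀ i, d i * K.bar (d i) = 1) (hp : d 0 * d 1 * d 2 = 1) :
    E.Keep cL (Matrix.diagonal d) := by
  obtain ⟨h18, hpow, -⟩ := zeta_facts
  have hz : E.ev 13 * E.ev 18 = 1 := by rw [← E.ev_mul, h18, E.ev_one]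
  have hex : ∀ i, ∃ e : ℕ, d i = E.ev 13 ^ e := fun i => by
    obtain ⟨x, hx, hxe⟩ := E.ev_surj (d i)
    have h1 : cmul 5 x (cbar 5 x) = 1 := E.ev_inj (E.mul_lt _ _) (by norm_num)
      (by rw [E.ev_mul, E.ev_bar, hxe, hd, E.ev_one])
    obtain ⟨e, he⟩ := hpow ⟨x, hx⟩ h1
    exact ⟨e, by rw [← E.ev_pow, ← hxe]; exact congrArg E.ev he⟩
  obtain ⟨e0, h0⟩ := hex 0
  obtain ⟨e1, h1⟩ := hex 1
  have hd1 : E.evM cD1 = Matrix.diagonal ![E.ev 13, E.ev 18, 1] := by
    ext i j; fin_cases i <;> fin_cases j <;> simp [evM, cD1, E.ev_zero, E.ev_one]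
  have hd2 : E.evM cD2 = Matrix.diagonal ![1, E.ev 13, E.ev 18] := by
    ext i j; fin_cases i <;> fin_cases j <;> simp [evM, cD2, E.ev_zero, E.ev_one]
  have key : Matrix.diagonal d = E.evM cD1 ^ e0 * E.evM cD2 ^ (e0 + e1) := by
    rw [hd1, hd2, diagonal_pow, diagonal_pow, diagonal_mul_diagonal]
    congr 1
    funext i
    have hz' : E.ev 18 ^ e0 * E.ev 13 ^ e0 = 1 := by rw [← mul_pow, mul_comm, hz, one_pow]
    have hz'' : E.ev 13 ^ e1 * E.ev 18 ^ e1 = 1 := by rw [← mul_pow, hz, one_pow]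
    fin_cases i
    · simp [h0]
    · simp [h1, pow_add]
      linear_combination (-(E.ev 13 ^ e1)) * hz'
    · simp [pow_add]
      rw [h0, h1] at hp
      linear_combination (E.ev 18 ^ e0 * E.ev 18 ^ e1) * hp - d 2 * hz' * (E.ev 13 ^ e1 * E.ev 18 ^ e1) - d 2 * hz''
  rw [key]
  exact E.keep_mul (E.keep_pow (E.keep_of_cert cD1_keeps) _) (E.keep_pow (E.keep_of_cert cD2_keeps) _)

/-- Monomial unitary matrices of determinant one preserve the lines. -/
theorem keep_mono {M : Matrix (Fin 3) (Fin 3) F} (hM : Mᵀ * bm K.bar M = 1) (hd : M.det = 1) (k : Fin 6)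
    (hoff : ∀ x y : Fin 3, x ≠ y → (M * E.evM (ctr (permC k))) x y = 0) : E.Keep cL M := by
  obtain ⟨hk1, hk2, hk3, hk4, -⟩ := perm_facts k
  obtain ⟨Q, hQ⟩ : ∃ Q, Q = E.evM (permC k) := ⟨_, rfl⟩
  have hQ2 : Qᵀ * Q = 1 := by rw [hQ, ← E.evM_tr, ← E.evM_mul, hk2, E.evM_one]
  have hQ3 : Q * Qᵀ = 1 := by rw [hQ, ← E.evM_tr, ← E.evM_mul, hk3, E.evM_one]
  have hQb : bm K.bar Q = Q := by rw [hQ, ← E.evM_bar, hk4]
  have hQd : Q.det = 1 := by rw [hQ, E.evM_det, hk1, E.ev_one]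
  rw [E.evM_tr, ← hQ] at hoff
  obtain ⟨d, hdd⟩ : ∃ d : Fin 3 → F, M * Qᵀ = Matrix.diagonal d := by
    refine ⟨fun i => (M * Qᵀ) i i, ?_⟩
    ext i j
    by_cases h : i = j
    · subst h; simp
    · rw [diagonal_apply_ne _ h, hoff i j h]
  have hu : (Matrix.diagonal d)ᵀ * bm K.bar (Matrix.diagonal d) = 1 := by
    rw [← hdd, transpose_mul, transpose_transpose, map_mul, ← bm_transpose, hQb]
    calc Q * Mᵀ * (bm K.bar M * Qᵀ) = Q * (Mᵀ * bm K.bar M) * Qᵀ := by simp only [mul_assoc]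
      _ = 1 := by rw [hM, mul_one, hQ3]
  have hp : d 0 * d 1 * d 2 = 1 := by
    have := congrArg Matrix.det hdd
    rw [det_mul, det_transpose, hd, hQd, one_mul, det_diagonal, Fin.prod_univ_three] at this
    exact this.symm
  have hMe : M = Matrix.diagonal d * Q := by rw [← hdd, mul_assoc, hQ2, mul_one]
  rw [hMe, hQ]
  refine E.keep_mul (E.keep_diag (fun i => ?_) hp) (E.keep_perm k)
  have := congrFun (congrFun hu i) i
  rwa [diagonal_transpose, show bm K.bar (Matrix.diagonal d) = Matrix.diagonal (fun i => K.bar (d i)) from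
    (RingHom.mapMatrix_apply (K.bar : F →+* F) _).trans (diagonal_map (map_zero _)), diagonal_mul_diagonal,
    diagonal_apply_eq, one_apply_eq] at this

/-- Real orthogonal matrices of determinant one preserve the lines. -/
theorem keep_real {O : Matrix (Fin 3) (Fin 3) F} (hb : bm K.bar O = O) (hO : Oᵀ * O = 1) (hd : O.det = 1) :
    E.Keep cL O := by
  have hreal : ∀ i j, ∃ n : Fin 5, E.ev (n : ℕ) = O i j := fun i j => by
    obtain ⟨x, hx, hxe⟩ := E.ev_surj (O i j)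
    have h := congrFun (congrFun hb i) j
    rw [bm_apply, ← hxe, ← E.ev_bar] at h
    have hlt : cbar 5 x < 5 * 5 := by unfold cbar; omega
    have e := E.ev_inj hlt hx h
    exact ⟨⟨x, (show ∀ x : Fin 25, cbar 5 x = x → (x : ℕ) < 5 by decide) ⟨x, hx⟩ e⟩, hxe⟩
  choose n hn using hreal
  obtain ⟨a, ha⟩ : ∃ a : CV, a = ((n 0 0 : ℕ), (n 1 0 : ℕ), (n 2 0 : ℕ)) := ⟨_, rfl⟩
  obtain ⟨b, hb'⟩ : ∃ b : CV, b = ((n 0 1 : ℕ), (n 1 1 : ℕ), (n 2 1 : ℕ)) := ⟨_, rfl⟩
  have hlt : ∀ r v : CV, cdot 5 r v < 5 * 5 := fun r v => by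
    have h1 := Nat.mod_lt ((cadd 5 (cmul 5 r.1 v.1) (cmul 5 r.2.1 v.2.1)) + cmul 5 r.2.2 v.2.2) (show 0 < 5 by norm_num)
    have h2 := Nat.mod_lt ((cadd 5 (cmul 5 r.1 v.1) (cmul 5 r.2.1 v.2.1)) / 5 + cmul 5 r.2.2 v.2.2 / 5)
      (show 0 < 5 by norm_num)
    unfold cdot
    rw [cadd]
    omega
  have hdot : ∀ j l : Fin 3, E.ev (cdot 5 ((n 0 j : ℕ), (n 1 j : ℕ), (n 2 j : ℕ)) ((n 0 l : ℕ), (n 1 l : ℕ), (n 2 l : ℕ))) =
      if j = l then 1 else 0 := fun j l => by
    rw [cdot, E.ev_add, E.ev_add, E.ev_mul, E.ev_mul, E.ev_mul, hn, hn, hn, hn, hn, hn, ← Matrix.one_apply, ← hO,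
      Matrix.mul_apply, Fin.sum_univ_three]
    rfl
  have haU : a ∈ units5 := ha ▸ units5_mem _ _ _ (E.ev_inj (hlt _ _) (by norm_num) (by rw [hdot, if_pos rfl, E.ev_one]))
  have hbU : b ∈ units5 := hb' ▸ units5_mem _ _ _ (E.ev_inj (hlt _ _) (by norm_num) (by rw [hdot, if_pos rfl, E.ev_one]))
  have hab : cdot 5 a b = 0 := by
    subst ha hb'
    exact E.ev_inj (hlt _ _) (by norm_num) (by rw [hdot, if_neg (by decide), E.ev_zero])
  have h := List.all_eq_true.1 real_classify a haU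
  have h' := of_decide_eq_true (List.all_eq_true.1 h b hbU) hab
  obtain ⟨k, j, hkj⟩ := h'
  have hadj : O.adjugate = Oᵀ := by
    calc O.adjugate = Oᵀ * O * O.adjugate := by rw [hO, one_mul]
      _ = Oᵀ := by rw [mul_assoc, mul_adjugate, hd, one_smul, mul_one]
  have hcols : O = E.evM (ofCols a b) := by
    have h3 : ∀ i, O i 2 = O.adjugate 2 i := fun i => by rw [hadj]; rfl
    rw [Matrix.adjugate_fin_three] at h3
    have c0 := h3 0; have c1 := h3 1; have c2 := h3 2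
    simp at c0 c1 c2
    ext x y
    fin_cases x <;> fin_cases y <;>
      simp [evM, ofCols, ctr, cross, ha, hb', hn, E.ev_add, E.ev_neg, E.ev_mul, c0, c1, c2] <;> ring
  obtain ⟨hr1, hr2, hr3, hr4⟩ := rep_facts k
  obtain ⟨R, hR⟩ : ∃ R, R = E.evM (repC k) := ⟨_, rfl⟩
  have hR2 : Rᵀ * R = 1 := by rw [hR, ← E.evM_tr, ← E.evM_mul, hr2, E.evM_one]
  have hR3 : R * Rᵀ = 1 := by rw [hR, ← E.evM_tr, ← E.evM_mul, hr3, E.evM_one]
  have hRb : bm K.bar R = R := by rw [hR, ← E.evM_bar, hr4]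
  have hRd : R.det = 1 := by rw [hR, E.evM_det, hr1, E.ev_one]
  have hmono : E.Keep cL (O * Rᵀ) := by
    refine E.keep_mono ?_ ?_ j fun x y hxy => ?_
    · rw [transpose_mul, transpose_transpose, map_mul, ← bm_transpose, hRb, hb]
      calc R * Oᵀ * (O * Rᵀ) = R * (Oᵀ * O) * Rᵀ := by simp only [mul_assoc]
        _ = 1 := by rw [hO, mul_one, hR3]
    · rw [det_mul, det_transpose, hd, hRd, one_mul]
    · rw [hcols, hR, ← E.evM_tr, ← E.evM_mul, ← E.evM_mul, E.evM_centry, hkj x y hxy, E.ev_zero]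
  have : O = O * Rᵀ * R := by rw [mul_assoc, hR2, mul_one]
  rw [this]
  exact E.keep_mul hmono (hR ▸ E.keep_rep k)

end Ev

theorem det_of_mem {g : GL (Fin 3) F} (hg : g ∈ SUGL 3 F q) (P : GL (Fin 3) F) :
    ((P⁻¹ * g * P : GL (Fin 3) F) : Matrix (Fin 3) (Fin 3) F).det = 1 := by
  have h4 : g ∈ Cfsg.Geo.specialLinear (Fin 3) F := hg.2
  have h3 : (g : Matrix (Fin 3) (Fin 3) F).det = 1 := by
    simpa [Cfsg.Geo.specialLinear, MonoidHom.mem_ker, Units.ext_iff] using h4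
  rw [Units.val_mul, Units.val_mul, det_mul, det_mul, h3, mul_one, ← det_mul, Units.inv_mul, det_one]

theorem iso_of_mem (K : Unitary.Conj F q) {g : GL (Fin 3) F} (hg : g ∈ SUGL 3 F q) {P : GL (Fin 3) F}
    (hP : (P : Matrix (Fin 3) (Fin 3) F)ᵀ * bm K.bar (P : Matrix (Fin 3) (Fin 3) F) = 1) :
    ((P⁻¹ * g * P : GL (Fin 3) F) : Matrix (Fin 3) (Fin 3) F)ᵀ *
      bm K.bar ((P⁻¹ * g * P : GL (Fin 3) F) : Matrix (Fin 3) (Fin 3) F) = 1 := by
  have e1 : (g : Matrix (Fin 3) (Fin 3) F)ᵀ * bm K.bar (g : Matrix (Fin 3) (Fin 3) F) = 1 := by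
    have := iso_of_gu K hg.1
    rwa [Iso, mul_one] at this
  have hPi : (↑P⁻¹ : Matrix (Fin 3) (Fin 3) F) = (bm K.bar (P : Matrix (Fin 3) (Fin 3) F))ᵀ := by
    have h' : (bm K.bar (P : Matrix (Fin 3) (Fin 3) F))ᵀ * (P : Matrix (Fin 3) (Fin 3) F) = 1 := by
      have := congrArg transpose hP
      rwa [transpose_mul, transpose_transpose, transpose_one] at this
    exact (left_inv_eq_right_inv h' (Units.mul_inv P)).symm
  have h2 : bm K.bar (P : Matrix (Fin 3) (Fin 3) F) * (P : Matrix (Fin 3) (Fin 3) F)ᵀ = 1 := mul_eq_one_comm.1 hP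
  rw [Units.val_mul, Units.val_mul, hPi, transpose_mul, transpose_mul, transpose_transpose, map_mul, map_mul,
    ← bm_transpose, bm_bm K.bar_bar]
  calc (P : Matrix (Fin 3) (Fin 3) F)ᵀ * ((g : Matrix (Fin 3) (Fin 3) F)ᵀ * bm K.bar (P : Matrix (Fin 3) (Fin 3) F)) *
        ((P : Matrix (Fin 3) (Fin 3) F)ᵀ * bm K.bar (g : Matrix (Fin 3) (Fin 3) F) * bm K.bar (P : Matrix (Fin 3) (Fin 3) F))
      = (P : Matrix (Fin 3) (Fin 3) F)ᵀ * (g : Matrix (Fin 3) (Fin 3) F)ᵀ *
          (bm K.bar (P : Matrix (Fin 3) (Fin 3) F) * (P : Matrix (Fin 3) (Fin 3) F)ᵀ) *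
          bm K.bar (g : Matrix (Fin 3) (Fin 3) F) * bm K.bar (P : Matrix (Fin 3) (Fin 3) F) := by simp only [mul_assoc]
    _ = (P : Matrix (Fin 3) (Fin 3) F)ᵀ * ((g : Matrix (Fin 3) (Fin 3) F)ᵀ * bm K.bar (g : Matrix (Fin 3) (Fin 3) F)) *
          bm K.bar (P : Matrix (Fin 3) (Fin 3) F) := by rw [h2, mul_one]; simp only [mul_assoc]
    _ = 1 := by rw [e1, mul_one, hP]

theorem false_of_keep {K : Unitary.Conj F 5} (E : Ev 5 K) {P : GL (Fin 3) F}
    (hP : (P : Matrix (Fin 3) (Fin 3) F)ᵀ * bm K.bar (P : Matrix (Fin 3) (Fin 3) F) = 1)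
    {H : Subgroup (GL (Fin 3) F)} (hH : Cfsg.Geo.IsMaximalIn (SUGL 3 F 5) H)
    (hle : ∀ g ∈ H, E.Keep cL ((P⁻¹ * g * P : GL (Fin 3) F) : Matrix (Fin 3) (Fin 3) F))
    {A : CM} {cert : List (ℕ × ℕ)} (hA : keeps 5 A cL cert = true)
    (hAg : cmm 5 (cmm 5 (ctr A) cone) (cmbar 5 A) = cone) (hAd : cdet 5 A = 1)
    (hout : ∀ g : GL (Fin 3) F, ((P⁻¹ * g * P : GL (Fin 3) F) : Matrix (Fin 3) (Fin 3) F) = E.evM A → g ∉ H) :
    False := by
  have hPG : (P : Matrix (Fin 3) (Fin 3) F)ᵀ * bm K.bar (P : Matrix (Fin 3) (Fin 3) F) = E.evM cone := by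
    rw [E.evM_one, hP]
  obtain ⟨T, hT, hTv⟩ := E.exists_el hAg hAd hPG
  exact E.false_of_stab cW_iso cX_mem cX_moved hPG hH (fun g hg => E.mem_stab.2 (hle g hg)) hT
    (by rw [hTv]; exact E.keep_of_cert hA) (hout T hTv)

theorem cR1_keep : keeps 5 cR1 cL cR1Cert = true := cR1_keeps

/-- Orthogonal lines have no maximal stabiliser for `q = 5`. -/
theorem lines_not_maximal5 (K : Unitary.Conj F 5) {H : Subgroup (GL (Fin 3) F)}
    (hH : Cfsg.Geo.IsMaximalIn (SUGL 3 F 5) H) {D : Fin 3 → Submodule F (Fin 3 → F)}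
    (hD : Cfsg.Geo.IsNondegenerateMDecomposition (Cfsg.hermForm 3 F 5) 1 D) (hle : H ≤ decompositionStabilizer D) :
    False := by
  obtain ⟨E, -⟩ := exists_ev5 K
  obtain ⟨P, hP, hmono⟩ := lines_frame K hD
  refine false_of_keep E hP hH (fun g hg => ?_) cR1_keep cR1_gram cR1_det fun g hg hgH => ?_
  · obtain ⟨σ, hσ⟩ := hmono g (hle hg)
    obtain ⟨k, hk⟩ := perm_code σ σ.injective
    refine E.keep_mono (iso_of_mem K (hH.1.le hg) hP) (det_of_mem (hH.1.le hg) P) k fun x y hxy => ?_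
    obtain ⟨-, -, -, -, hz⟩ := perm_facts k
    rw [E.evM_tr, Matrix.mul_apply]
    refine Finset.sum_eq_zero fun l _ => ?_
    rw [Matrix.transpose_apply, E.evM_centry]
    by_cases h1 : y = permF k l
    · rw [hσ x l (fun e => hxy (by rw [e, h1, hk])), zero_mul]
    · rw [hz y l h1, E.ev_zero, mul_zero]
  · obtain ⟨σ, hσ⟩ := hmono g (hle hgH)
    obtain ⟨i, hi⟩ : ∃ i : Fin 3, i ≠ σ 0 := ⟨σ 0 + 1, by simp⟩
    have h1 := hσ i 0 hi
    rw [hg, E.evM_centry] at h1
    refine (E.ev_ne_zero (x := centry cR1 i 0) ?_ ?_) h1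
    · exact ((show ∀ i : Fin 3, centry cR1 i 0 < 25 ∧ 0 < centry cR1 i 0 by decide) i).1
    · exact ((show ∀ i : Fin 3, centry cR1 i 0 < 25 ∧ 0 < centry cR1 i 0 by decide) i).2

/-- A multiple of a real matrix which is unitary is a multiple of a real orthogonal matrix of determinant one. -/
theorem real_orth (K : Unitary.Conj F q) (h2 : (2 : F) ≠ 0) {a : F} (ha : a ≠ 0) {A : Matrix (Fin 3) (Fin 3) F}
    (hA : bm K.bar A = A) (hu : (a • A)ᵀ * bm K.bar (a • A) = 1) :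
    ∃ (c : F) (O : Matrix (Fin 3) (Fin 3) F), c ≠ 0 ∧ a • A = c • O ∧ bm K.bar O = O ∧ Oᵀ * O = 1 ∧ O.det = 1 := by
  rw [bm_smul, hA, transpose_smul, smul_mul_smul_comm] at hu
  obtain ⟨m, hm⟩ : ∃ m, m = a * K.bar a := ⟨_, rfl⟩
  rw [← hm] at hu
  have hba : K.bar a ≠ 0 := fun e => ha (K.bar.injective (e.trans (map_zero _).symm))
  have hm0 : m ≠ 0 := hm ▸ mul_ne_zero ha hba
  have hmbar : K.bar m = m := by rw [hm, map_mul, K.bar_bar, mul_comm]
  have hdet : m ^ 3 * (A.det * A.det) = 1 := by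
    have := congrArg Matrix.det hu
    rwa [det_smul, det_mul, det_transpose, det_one, Fintype.card_fin] at this
  have hd0 : A.det ≠ 0 := fun e => by simp [e] at hdet
  have hdbar : K.bar A.det = A.det := by
    rw [show K.bar A.det = (bm K.bar A).det from RingHom.map_det (K.bar : F →+* F) A, hA]
  obtain ⟨r, hr⟩ : ∃ r, r = m * A.det := ⟨_, rfl⟩
  have hr0 : r ≠ 0 := hr ▸ mul_ne_zero hm0 hd0
  -- `r ^ 2 * m = 1`
  have hrm : r * r * m = 1 := by rw [hr]; linear_combination hdet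
  have hO : (r⁻¹ • A)ᵀ * (r⁻¹ • A) = 1 := by
    rw [transpose_smul, smul_mul_smul_comm, show r⁻¹ * r⁻¹ = m by field_simp; linear_combination -hrm, hu]
  have hOb : bm K.bar (r⁻¹ • A) = r⁻¹ • A := by
    rw [bm_smul, hA, map_inv₀, show K.bar r = r by rw [hr, map_mul, hmbar, hdbar]]
  obtain ⟨δ, hδ⟩ : ∃ δ, δ = (r⁻¹ • A).det := ⟨_, rfl⟩
  have hδ2 : δ * δ = 1 := by
    have := congrArg Matrix.det hO
    rwa [det_mul, det_transpose, det_one, ← hδ] at this
  have hδ0 : δ ≠ 0 := fun e => by simp [e] at hδ2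
  refine ⟨a * r * δ, δ • (r⁻¹ • A), mul_ne_zero (mul_ne_zero ha hr0) hδ0, ?_, ?_, ?_, ?_⟩
  · rw [smul_smul, smul_smul, mul_assoc (a * r) δ δ, hδ2, mul_one, mul_inv_cancel_right₀ hr0]
  · rw [bm_smul, hOb, show K.bar δ = δ by
      rw [hδ, show K.bar (r⁻¹ • A).det = (bm K.bar (r⁻¹ • A)).det from RingHom.map_det (K.bar : F →+* F) _, hOb]]
  · rw [transpose_smul, smul_mul_smul_comm, hδ2, one_smul, hO]
  · rw [det_smul, ← hδ, Fintype.card_fin]; linear_combination (δ * δ + 1) * hδ2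

/-- Rational structures over the prime field give no maximal subgroup for `q = 5`. -/
theorem rational_not_maximal5 (K : Unitary.Conj F 5) {H : Subgroup (GL (Fin 3) F)}
    (hH : Cfsg.Geo.IsMaximalIn (SUGL 3 F 5) H) {F₀ : Subfield F} (hc : Fintype.card F = Nat.card F₀ ^ 2)
    {P₀ : GL (Fin 3) F} (hrat : Cfsg.Geo.IsFormRationalStructure (Cfsg.hermForm 3 F 5) F₀ 1 P₀)
    (hle : H ≤ Cfsg.Geo.subfieldSubgroup F₀ P₀) : False := by
  obtain ⟨E, -⟩ := exists_ev5 K
  obtain ⟨P, hP, hreal⟩ := real_frame K (Or.inr rfl) hc hrat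
  have h2 : (2 : F) ≠ 0 := by
    have := E.ev_ne_zero (x := 2) (by norm_num) (by norm_num)
    rwa [E.ev_small (by norm_num), Nat.cast_ofNat] at this
  refine false_of_keep E hP hH (fun g hg => ?_) cD1_keeps cD1_gram cD1_det fun g hg hgH => ?_
  · obtain ⟨a, A, ha, hA, e⟩ := hreal g (hle hg)
    have hu := iso_of_mem K (hH.1.le hg) hP
    rw [e] at hu ⊢
    obtain ⟨c, O, hc0, e', hOb, hOO, hOd⟩ := real_orth K h2 ha hA hu
    rw [e']
    exact E.keep_smul hc0 (E.keep_real hOb hOO hOd)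
  · obtain ⟨a, A, ha, hA, e⟩ := hreal g (hle hgH)
    rw [hg] at e
    have h0 := congrFun (congrFun e 0) 0
    have h2' := congrFun (congrFun e 2) 2
    simp [Ev.evM, cD1, E.ev_one] at h0 h2'
    have hA0 : K.bar (A 0 0) = A 0 0 := congrFun (congrFun hA 0) 0
    have hA2 : K.bar (A 2 2) = A 2 2 := congrFun (congrFun hA 2) 2
    have hA20 : A 2 2 ≠ 0 := fun e => by simp [e] at h2'
    have hA00 : E.ev 13 * A 2 2 = A 0 0 := by rw [h0]; linear_combination -(A 0 0) * h2'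
    have hb := congrArg K.bar hA00
    rw [map_mul, hA0, hA2, ← hA00, ← E.ev_bar] at hb
    have := E.ev_inj (by decide) (by norm_num) (mul_right_cancel₀ hA20 hb)
    exact absurd this (by decide)

theorem three_real : ∀ a b c : Fin 3, ((a : ℕ) * a + (b : ℕ) * b + (c : ℕ) * c) % 3 = 1 →
    ((a = 0 ∧ b = 0) ∨ (a = 0 ∧ c = 0) ∨ (b = 0 ∧ c = 0)) := by decide

/-- For `q = 3` a rational structure over the prime field gives orthogonal lines. -/
theorem rational_lines3 (K : Unitary.Conj F 3) {H : Subgroup (GL (Fin 3) F)} (hH : H ≤ SUGL 3 F 3)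
    {F₀ : Subfield F} (hc : Fintype.card F = Nat.card F₀ ^ 2)
    {P₀ : GL (Fin 3) F} (hrat : Cfsg.Geo.IsFormRationalStructure (Cfsg.hermForm 3 F 3) F₀ 1 P₀)
    (hle : H ≤ Cfsg.Geo.subfieldSubgroup F₀ P₀) :
    ∃ D : Fin 3 → Submodule F (Fin 3 → F), Cfsg.Geo.IsNondegenerateMDecomposition (Cfsg.hermForm 3 F 3) 1 D ∧
      H ≤ decompositionStabilizer D := by
  classical
  haveI := Fintype.ofFinite F₀
  have hcard0 : Nat.card F₀ = 3 := card_fixed_of_two K hc
  obtain ⟨P, hP, hreal⟩ := real_frame K (Or.inl rfl) hc hrat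
  obtain ⟨u, hu⟩ : ∃ u : Fin 3 → Fin 3 → F, u = fun i => (P : Matrix (Fin 3) (Fin 3) F) *ᵥ Pi.single i 1 :=
    ⟨_, rfl⟩
  have hform : ∀ i j, Cfsg.hermForm 3 F 3 (u i) (u j) = if i = j then 1 else 0 := fun i j => by
    rw [herm_sform K, hu, sform_mulVec, mul_one, hP]
    simp [sform, Pi.single_apply, eq_comm]
  have hu0 : ∀ i, u i ≠ 0 := fun i e => by
    have := hform i i
    rw [if_pos rfl, e] at this
    simp [herm_sform K, sform] at this
  have hind : LinearIndependent F u := by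
    rw [hu]
    have := (Pi.basisFun F (Fin 3)).linearIndependent.map' (Matrix.toLin' (P : Matrix (Fin 3) (Fin 3) F))
      (LinearMap.ker_eq_bot.2 (PrimeDim.mulVec_injective P))
    simpa [Function.comp_def, Pi.basisFun_apply] using this
  have hdec : Cfsg.Geo.IsMDecomposition 1 (fun l => Submodule.span F {u l}) :=
    ⟨by norm_num, one_pos, fun l => finrank_span_singleton (hu0 l), hind.iSupIndep_span_singleton, by
      rw [← Submodule.span_range_eq_iSup]; exact hind.span_eq_top_of_card_eq_finrank' (by simp)⟩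
  refine ⟨_, ⟨hdec, fun l x hx hx0 => ?_, fun l l' hne x hx y hy => ?_⟩, fun g hg => ?_⟩
  · obtain ⟨c, rfl⟩ := Submodule.mem_span_singleton.1 hx
    have hc : c ≠ 0 := fun e0 => hx0 (by rw [e0, zero_smul])
    refine ⟨⟨u l, Submodule.mem_span_singleton_self _, ?_⟩, ⟨u l, Submodule.mem_span_singleton_self _, ?_⟩⟩
    · rw [Classical.Herm.h_smul_right K, hform, if_pos rfl, mul_one]
      exact fun h => hc (K.bar.injective (h.trans (map_zero _).symm))
    · rwa [Classical.Herm.h_smul_left K, hform, if_pos rfl, mul_one]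
  · obtain ⟨c, rfl⟩ := Submodule.mem_span_singleton.1 hx
    obtain ⟨c', rfl⟩ := Submodule.mem_span_singleton.1 hy
    rw [Classical.Herm.h_smul_left K, Classical.Herm.h_smul_right K, hform, if_neg hne, mul_zero, mul_zero]
  · obtain ⟨a, A, ha, hA, e⟩ := hreal g (hle hg)
    have hiso := iso_of_mem K (hH hg) hP
    rw [e] at hiso
    have hchar : (3 : F₀) = 0 := by
      have := FiniteField.cast_card_eq_zero F₀
      rw [← Nat.card_eq_fintype_card, hcard0] at this
      exact_mod_cast this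
    have h2 : (2 : F) ≠ 0 := by
      intro h
      have h3 : (3 : F) = 0 := by rw [← map_ofNat F₀.subtype 3, hchar, map_zero]
      exact one_ne_zero (show (1 : F) = 0 by linear_combination h3 - h)
    obtain ⟨c, O, hc0, e', hOb, hOO, -⟩ := real_orth K h2 ha hA hiso
    rw [e'] at e
    refine UnitSmall.mem_decomp_of_maps hdec fun j => ?_
    have hnat : ∀ i, ∃ n : Fin 3, O i j = (n : ℕ) := fun i => by
      have hmem : O i j ∈ F₀ := by
        have hfix : K.bar (O i j) = O i j := congrFun (congrFun hOb i) j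
        let F₁ : Subfield F := RingHom.eqLocusField (K.bar : F →+* F) (RingHom.id F)
        have h1 : F₀ ≤ F₁ := fun z hz => bar_eq_self_of_mem K hc hz
        haveI := Fintype.ofFinite F₁
        have h2' : F₀ = F₁ := SetLike.coe_injective (Set.eq_of_subset_of_ncard_le h1 (by
          rw [← Nat.card_coe_set_eq, ← Nat.card_coe_set_eq]
          have h3 := AutPSL.card_fixedField_pow K.orderOf_bar
          rw [K.card] at h3
          exact (Nat.pow_left_injective two_ne_zero h3).le.trans hcard0.ge) (Set.toFinite _))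
        rw [h2']; exact hfix
      haveI : CharP F₀ 3 := (CharP.charP_iff_prime_eq_zero Nat.prime_three).2 hchar
      have hinj : Function.Injective fun n : Fin 3 => ((n : ℕ) : F₀) := fun m n h =>
        Fin.ext (Nat.ModEq.eq_of_lt_of_lt ((CharP.natCast_eq_natCast F₀ 3).1 h) m.2 n.2)
      obtain ⟨n, hn⟩ := (hinj.bijective_of_nat_card_le (by rw [hcard0]; simp)).2 ⟨O i j, hmem⟩
      exact ⟨n, by simpa using (congrArg Subtype.val hn).symm⟩
    choose n hn using hnat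
    have hsum : (((n 0 : ℕ) * n 0 + (n 1 : ℕ) * n 1 + (n 2 : ℕ) * n 2 : ℕ) : F₀) = ((1 : ℕ) : F₀) := by
      refine Subtype.ext ?_
      push_cast
      rw [← hn, ← hn, ← hn]
      have := congrFun (congrFun hOO j) j
      rwa [Matrix.mul_apply, Fin.sum_univ_three, Matrix.one_apply_eq] at this
    haveI : CharP F₀ 3 := (CharP.charP_iff_prime_eq_zero Nat.prime_three).2 hchar
    have hmod := (CharP.natCast_eq_natCast F₀ 3).1 hsum
    have hsingle : ∃ i, ∀ i', i' ≠ i → O i' j = 0 := by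
      rcases three_real _ _ _ hmod with ⟨p, p'⟩ | ⟨p, p'⟩ | ⟨p, p'⟩
      · exact ⟨2, fun i' hi' => by fin_cases i' <;> simp_all⟩
      · exact ⟨1, fun i' hi' => by fin_cases i' <;> simp_all⟩
      · exact ⟨0, fun i' hi' => by fin_cases i' <;> simp_all⟩
    obtain ⟨i, hi⟩ := hsingle
    refine ⟨i, fun v hv => ?_⟩
    obtain ⟨t, rfl⟩ := Submodule.mem_span_singleton.1 hv
    rw [mulVec_smul]
    refine Submodule.smul_mem _ _ ?_
    have hgu : (g : Matrix (Fin 3) (Fin 3) F) *ᵥ u j =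
        (P : Matrix (Fin 3) (Fin 3) F) *ᵥ ((c • O) *ᵥ Pi.single j 1) := by
      rw [← e, hu, mulVec_mulVec, mulVec_mulVec, ← Units.val_mul, ← Units.val_mul]
      congr 2
      group
    have hO : (c • O) *ᵥ Pi.single j 1 = (c * O i j) • Pi.single i 1 := by
      funext r
      by_cases h : r = i
      · subst h; simp
      · simp [hi r h, Pi.single_eq_of_ne h]
    rw [hgu, hO, mulVec_smul]
    exact Submodule.smul_mem _ _ (by rw [hu]; exact Submodule.mem_span_singleton_self _)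

end CfsgLib.Asch.UnitThree
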