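import Mathlib
import Cfsg.Prelude.Def_LinearParabolics

set_option autoImplicit false

/-!
The order of a parabolic subgroup of `GL n F`: the invertible block triangular matrices.
-/

namespace CfsgLib.Classical.BlockCard

open Matrix

variable {F : Type*} [Field F]

/-- `[1]_q [2]_q ⋯ [m]_q`. -/
def qfac (q m : ℕ) : ℕ := ∏ j ∈ Finset.range m, ∑ l ∈ Finset.range (j + 1), q ^ l

theorem card_GL_qfac [Fintype F] (m : ℕ) :
    Nat.card (GL (Fin m) F) = Fintype.card F ^ (m.choose 2) * (Fintype.card F - 1) ^ m *
      qfac (Fintype.card F) m := by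
  set q := Fintype.card F with hq
  have hq1 : 1 ≤ q := Fintype.card_pos
  rw [Matrix.card_GL_field, ← hq, Fin.prod_univ_eq_prod_range (fun i => q ^ m - q ^ i) m, qfac]
  have h1 : ∀ i ∈ Finset.range m,
      q ^ m - q ^ i = q ^ i * ((q - 1) * ∑ l ∈ Finset.range (m - i), q ^ l) := by
    intro i hi
    have hi' := Finset.mem_range.1 hi
    have hg : (q - 1) * ∑ l ∈ Finset.range (m - i), q ^ l = q ^ (m - i) - 1 := by
      have := geom_sum_mul_of_one_le hq1 (m - i)
      rw [mul_comm]; exact this
    rw [hg, Nat.mul_sub, mul_one, ← pow_add, Nat.add_sub_cancel' hi'.le]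
  rw [Finset.prod_congr rfl h1, Finset.prod_mul_distrib, Finset.prod_mul_distrib,
    Finset.prod_pow_eq_pow_sum, Finset.prod_const, Finset.card_range, Finset.sum_range_id,
    ← Nat.choose_two_right, ← mul_assoc,
    ← Finset.prod_range_reflect (fun j => ∑ l ∈ Finset.range (j + 1), q ^ l) m]
  congr 1
  refine Finset.prod_congr rfl fun i hi => ?_
  have hi' := Finset.mem_range.1 hi
  rw [show m - 1 - i + 1 = m - i by omega]

theorem card_GL_congr {ι κ : Type*} [Fintype ι] [DecidableEq ι] [Fintype κ] [DecidableEq κ]
    (e : ι ≃ κ) : Nat.card (GL ι F) = Nat.card (GL κ F) :=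
  Nat.card_congr (Units.mapEquiv (Matrix.reindexAlgEquiv F F e).toMulEquiv).toEquiv

/-- The invertible block triangular matrices, as blocks and upper entries. -/
noncomputable def triangEquiv {ι κ : Type*} [Fintype ι] [DecidableEq ι] [Fintype κ] [DecidableEq κ]
    [LinearOrder κ] (f : ι → κ) :
    {g : GL ι F // (g : Matrix ι ι F).BlockTriangular f} ≃
      (Π k : κ, GL {i // f i = k} F) × ({p : ι × ι // f p.1 < f p.2} → F) where
  toFun g := (fun k => Matrix.GeneralLinearGroup.mkOfDetNeZero ((g.1 : Matrix ι ι F).toSquareBlock f k)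
      (Finset.prod_ne_zero_iff.1 (g.2.det_fintype ▸ g.1.det_ne_zero) k (Finset.mem_univ k)),
    fun p => (g.1 : Matrix ι ι F) p.1.1 p.1.2)
  invFun x :=
    let M : Matrix ι ι F := Matrix.of fun i j =>
      if h : f i = f j then
        (x.1 (f j) : Matrix {l // f l = f j} {l // f l = f j} F) ⟨i, h⟩ ⟨j, rfl⟩
      else if h' : f i < f j then x.2 ⟨(i, j), h'⟩ else 0
    have hT : M.BlockTriangular f := fun i j hij => by
      simp only [M, Matrix.of_apply]
      rw [dif_neg (ne_of_gt hij), dif_neg (not_lt.2 (le_of_lt hij))]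
    have hB : ∀ k, M.toSquareBlock f k = (x.1 k : Matrix {l // f l = k} {l // f l = k} F) := fun k => by
      ext ⟨i, hi⟩ ⟨j, hj⟩
      subst hj
      simp [M, Matrix.toSquareBlock_def, hi]
    ⟨Matrix.GeneralLinearGroup.mkOfDetNeZero M (by
      rw [hT.det_fintype]
      exact Finset.prod_ne_zero_iff.2 fun k _ => by rw [hB k]; exact (x.1 k).det_ne_zero), hT⟩
  left_inv g := by
    refine Subtype.ext (Units.ext ?_)
    ext i j
    show (dite _ _ _ : F) = _
    split_ifs with h h'
    · rfl
    · rfl
    · exact (g.2 (lt_of_le_of_ne (not_lt.1 h') (Ne.symm h))).symm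
  right_inv x := by
    refine Prod.ext (funext fun k => Units.ext ?_) (funext fun ⟨⟨i, j⟩, hij⟩ => ?_)
    · ext ⟨i, hi⟩ ⟨j, hj⟩
      subst hj
      show (dite _ _ _ : F) = _
      rw [dif_pos hi]
    · show (dite _ _ _ : F) = _
      rw [dif_neg (ne_of_lt hij), dif_pos hij]

theorem card_triang [Fintype F] {n : ℕ} {κ : Type*} [Fintype κ] [DecidableEq κ] [LinearOrder κ]
    (f : Fin n → κ) (m : κ → ℕ) (hm : ∀ k, Fintype.card {i // f i = k} = m k) :
    Nat.card {g : GL (Fin n) F // (g : Matrix (Fin n) (Fin n) F).BlockTriangular f} =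
      Fintype.card F ^ (n.choose 2) * (Fintype.card F - 1) ^ n *
        ∏ k, qfac (Fintype.card F) (m k) := by
  set q := Fintype.card F with hq
  rw [Nat.card_congr (triangEquiv f), Nat.card_prod, Nat.card_pi, Nat.card_fun,
    Nat.card_eq_fintype_card (α := F), Nat.card_eq_fintype_card]
  have h1 : ∀ k, Nat.card (GL {i // f i = k} F) =
      q ^ ((m k).choose 2) * (q - 1) ^ m k * qfac q (m k) := fun k => by
    rw [card_GL_congr (Fintype.equivFinOfCardEq (hm k)), card_GL_qfac]
  have hsum : ∑ k, m k = n := by
    simp only [← hm]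
    rw [← Fintype.card_sigma, Fintype.card_congr (Equiv.sigmaFiberEquiv f), Fintype.card_fin]
  -- pair count
  have htot : (∑ k, (m k).choose 2) + Fintype.card {p : Fin n × Fin n // f p.1 < f p.2} =
      n.choose 2 := by
    have e1 : Fintype.card {p : Fin n × Fin n // f p.2 < f p.1} =
        Fintype.card {p : Fin n × Fin n // f p.1 < f p.2} :=
      Fintype.card_congr ((Equiv.prodComm _ _).subtypeEquiv fun p => Iff.rfl)
    have e2 : Fintype.card {p : Fin n × Fin n // f p.1 = f p.2} = ∑ k, m k * m k := by
      simp only [← hm]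
      rw [← Finset.sum_congr rfl fun k _ => Fintype.card_prod {i // f i = k} {i // f i = k},
        ← Fintype.card_sigma]
      exact Fintype.card_congr
        { toFun := fun p => ⟨f p.1.2, ⟨p.1.1, p.2⟩, ⟨p.1.2, rfl⟩⟩
          invFun := fun x => ⟨(x.2.1.1, x.2.2.1), x.2.1.2.trans x.2.2.2.symm⟩
          left_inv := fun p => rfl
          right_inv := fun ⟨k, ⟨i, hi⟩, ⟨j, hj⟩⟩ => by subst hj; rfl }
    have e3 : Fintype.card {p : Fin n × Fin n // f p.1 < f p.2} +
        Fintype.card {p : Fin n × Fin n // f p.1 = f p.2} +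
        Fintype.card {p : Fin n × Fin n // f p.2 < f p.1} = n * n := by
      rw [Fintype.card_subtype, Fintype.card_subtype, Fintype.card_subtype,
        ← Finset.card_union_of_disjoint, ← Finset.card_union_of_disjoint]
      · rw [show n * n = (Finset.univ : Finset (Fin n × Fin n)).card by simp]
        congr 1
        ext p
        simp [lt_trichotomy (f p.1) (f p.2), or_assoc]
      · exact Finset.disjoint_left.2 fun p hp hp' => by
          simp only [Finset.mem_union, Finset.mem_filter, Finset.mem_univ, true_and] at hp hp'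
          rcases hp with hp | hp
          · exact lt_asymm hp hp'
          · exact ne_of_gt hp' hp
      · exact Finset.disjoint_left.2 fun p hp hp' => by
          simp only [Finset.mem_filter, Finset.mem_univ, true_and] at hp hp'
          exact ne_of_lt hp hp'
    have e4 : ∀ a : ℕ, 2 * a.choose 2 + a = a * a := fun a => by
      induction a with
      | zero => rfl
      | succ a ih => rw [Nat.choose_succ_succ, Nat.choose_one_right]; linarith
    have e5 : 2 * (∑ k, (m k).choose 2) + n = ∑ k, m k * m k := by
      rw [Finset.mul_sum, ← hsum, ← Finset.sum_add_distrib]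
      exact Finset.sum_congr rfl fun k _ => e4 (m k)
    have := e4 n
    omega
  rw [Finset.prod_congr rfl fun k _ => h1 k, Finset.prod_mul_distrib, Finset.prod_mul_distrib,
    Finset.prod_pow_eq_pow_sum, Finset.prod_pow_eq_pow_sum, hsum, ← htot, pow_add]
  ring

theorem compLabel_eq_iff {n : ℕ} (μ : Fin n → ℕ) (hμ : ∑ i, μ i = n) (i : Fin n) :
    Cfsg.compLabel μ i < n ∧ ∀ k : Fin n, Cfsg.compLabel μ i = k.val ↔
      ∑ l ∈ Finset.univ.filter (· < k), μ l ≤ i.val ∧
        i.val < ∑ l ∈ Finset.univ.filter (· < k), μ l + μ k := by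
  classical
  let S : Fin n → ℕ := fun j => ∑ l ∈ Finset.univ.filter (fun l : Fin n => l ≤ j), μ l
  let T : Fin n → ℕ := fun j => ∑ l ∈ Finset.univ.filter (fun l : Fin n => l < j), μ l
  have hS : ∀ j, S j = T j + μ j := fun j => by
    have : (Finset.univ.filter fun l : Fin n => l ≤ j) =
        insert j (Finset.univ.filter fun l : Fin n => l < j) := by
      ext l; simp [le_iff_eq_or_lt]
    simp only [S, T, this]
    rw [Finset.sum_insert (by simp), add_comm]
  have hmono : ∀ {a b : Fin n}, a ≤ b → S a ≤ S b := fun {a b} h =>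
    Finset.sum_le_sum_of_subset fun l hl => by
      simp only [Finset.mem_filter, Finset.mem_univ, true_and] at hl ⊢; exact le_trans hl h
  have hTS : ∀ {a b : Fin n}, a < b → S a ≤ T b := fun {a b} h =>
    Finset.sum_le_sum_of_subset fun l hl => by
      simp only [Finset.mem_filter, Finset.mem_univ, true_and] at hl ⊢; exact lt_of_le_of_lt hl h
  have main : ∀ k : Fin n, T k ≤ i.val → i.val < T k + μ k → Cfsg.compLabel μ i = k.val := by
    intro k h1 h2
    have : (Finset.univ.filter fun j : Fin n => S j ≤ i.val) = Finset.Iio k := by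
      ext j
      simp only [Finset.mem_filter, Finset.mem_univ, true_and, Finset.mem_Iio]
      refine ⟨fun hj => ?_, fun hj => le_trans (hTS hj) h1⟩
      by_contra hc
      have := hmono (not_lt.1 hc)
      rw [hS k] at this
      omega
    show (Finset.univ.filter fun j : Fin n => S j ≤ i.val).card = k.val
    rw [this, Fin.card_Iio]
  obtain ⟨k, hk1, hk2⟩ : ∃ k : Fin n, T k ≤ i.val ∧ i.val < T k + μ k := by
    have hne : (Finset.univ.filter fun j : Fin n => i.val < S j).Nonempty := by
      refine ⟨⟨n - 1, by have := i.2; omega⟩, ?_⟩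
      have : S ⟨n - 1, by have := i.2; omega⟩ = n := by
        refine Eq.trans ?_ hμ
        refine Finset.sum_congr ?_ fun _ _ => rfl
        ext l
        simp only [Finset.mem_filter, Finset.mem_univ, true_and, iff_true, Fin.le_def]
        omega
      simp only [Finset.mem_filter, Finset.mem_univ, true_and, this, i.2]
    refine ⟨Finset.min' _ hne, ?_, ?_⟩
    · by_contra hc
      have hk0 : (Finset.min' _ hne).val ≠ 0 := by
        intro h0
        apply hc
        simp only [T]
        rw [Finset.sum_eq_zero fun l hl => ?_]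
        · exact Nat.zero_le _
        · simp only [Finset.mem_filter, Finset.mem_univ, true_and, Fin.lt_def, h0] at hl
          omega
      let j : Fin n := ⟨(Finset.min' _ hne).val - 1, by omega⟩
      have hj : T (Finset.min' _ hne) = S j := by
        refine Finset.sum_congr ?_ fun _ _ => rfl
        ext l
        simp only [Finset.mem_filter, Finset.mem_univ, true_and, Fin.lt_def, Fin.le_def, j]
        omega
      have hmem : i.val < S j := by omega
      have hle := Finset.min'_le (Finset.univ.filter fun j : Fin n => i.val < S j) j (Finset.mem_filter.2 ⟨Finset.mem_univ _, hmem⟩)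
      simp only [Fin.le_def, j] at hle
      omega
    · have := Finset.min'_mem _ hne
      simp only [Finset.mem_filter, Finset.mem_univ, true_and] at this
      rwa [hS] at this
  refine ⟨(main k hk1 hk2) ▸ k.2, fun l => ⟨fun hl => ?_, fun h => main l h.1 h.2⟩⟩
  have : l = k := Fin.ext (hl.symm.trans (main k hk1 hk2))
  subst this
  exact ⟨hk1, hk2⟩

theorem card_parabolic [Fintype F] {n : ℕ} (μ : Fin n → ℕ) (hμ : ∑ i, μ i = n) :
    Nat.card (Cfsg.parabolicGL n F μ) =
      Fintype.card F ^ (n.choose 2) * (Fintype.card F - 1) ^ n *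
        ∏ k, qfac (Fintype.card F) (μ k) := by
  classical
  let f : Fin n → Fin n := fun i => ⟨Cfsg.compLabel μ i, (compLabel_eq_iff μ hμ i).1⟩
  refine Eq.trans (Nat.card_congr (Equiv.subtypeEquivRight fun g => ?_)) (card_triang f μ fun k => ?_)
  · exact ⟨fun h i j hij => h (show Cfsg.compLabel μ j < Cfsg.compLabel μ i from hij),
      fun h i j hij => h (show f j < f i from hij)⟩
  · have hle : ∑ l ∈ Finset.univ.filter (· < k), μ l + μ k ≤ n := by
      refine le_trans (le_of_eq ?_) (le_of_le_of_eq
        (Finset.sum_le_sum_of_subset (Finset.subset_univ (insert k (Finset.univ.filter (· < k))))) hμ)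
      rw [Finset.sum_insert (by simp), add_comm]
    rw [Fintype.card_congr
      (show {i // f i = k} ≃ Fin (μ k) from
        { toFun := fun i => ⟨i.1.val - ∑ l ∈ Finset.univ.filter (· < k), μ l, by
            have := ((compLabel_eq_iff μ hμ i.1).2 k).1 (congrArg Fin.val i.2); omega⟩
          invFun := fun t => ⟨⟨∑ l ∈ Finset.univ.filter (· < k), μ l + t.val, by omega⟩,
            Fin.ext (((compLabel_eq_iff μ hμ _).2 k).2 ⟨Nat.le_add_right _ _, by
              show _ + t.val < _; omega⟩)⟩
          left_inv := fun i => by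
            have := ((compLabel_eq_iff μ hμ i.1).2 k).1 (congrArg Fin.val i.2)
            exact Subtype.ext (Fin.ext (by simp only; omega))
          right_inv := fun t => Fin.ext (by simp only; omega) }), Fintype.card_fin]

end CfsgLib.Classical.BlockCard
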