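import Mathlib

set_option autoImplicit false
set_option linter.unusedSectionVars false

/-!
The trace of a product of two non-scalar maps, as one of them runs over a class under the special
linear group, takes the values zero and one.
-/

namespace CfsgLib.ClassTrace

open Module LinearMap

variable {F V : Type*} [Field F] [AddCommGroup V] [Module F V] [FiniteDimensional F V]

/-- A functional killing two vectors and sending a third to one. -/
theorem exists_dual {x y z : V} (h : z ∉ Submodule.span F {x, y}) :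
    ∃ f : V →ₗ[F] F, f x = 0 ∧ f y = 0 ∧ f z = 1 := by
  obtain ⟨g, hg, hk⟩ := Submodule.exists_le_ker_of_notMem h
  refine ⟨(g z)⁻¹ • g, ?_, ?_, ?_⟩
  · simp [show g x = 0 from hk (Submodule.subset_span (by simp))]
  · simp [show g y = 0 from hk (Submodule.subset_span (by simp))]
  · simp [hg]

theorem exists_outside (hd : 3 ≤ finrank F V) (x y : V) : ∃ z, z ∉ Submodule.span F {x, y} := by
  classical
  by_contra hc
  push Not at hc
  have h1 := finrank_span_le_card (R := F) ({x, y} : Set V)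
  rw [Submodule.eq_top_iff'.2 hc, finrank_top, Set.toFinset_insert, Set.toFinset_singleton] at h1
  have := Finset.card_le_two (a := x) (b := y)
  omega

/-- An invariant space of maps with a non-scalar member contains every nilpotent map of rank one. -/
theorem rank_one_mem (hd : 3 ≤ finrank F V) (D : Submodule F (End F V))
    (hD : ∀ (u : V) (φ : V →ₗ[F] F) (h : φ u = 0), ∀ M ∈ D,
      (LinearEquiv.transvection h).conj M ∈ D)
    {M : End F V} (hM : M ∈ D) {u : V} (hu : ∀ c : F, M u ≠ c • u) (w : V) (χ : V →ₗ[F] F)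
    (hw : χ w = 0) : χ.smulRight w ∈ D := by
  have hu0 : u ≠ 0 := fun e => hu 0 (by rw [e, map_zero, smul_zero])
  have hsymm : ∀ (u : V) (φ : V →ₗ[F] F) (h : φ u = 0) (x : V),
      (LinearEquiv.transvection h).symm x = x - φ x • u := fun u φ h x => by
    refine (LinearEquiv.transvection h).injective ?_
    rw [LinearEquiv.apply_symm_apply]
    show x = x - φ x • u + φ (x - φ x • u) • u
    rw [map_sub, map_smul, h, smul_zero, sub_zero, sub_add_cancel]
  have hconj : ∀ (u : V) (φ : V →ₗ[F] F) (h : φ u = 0) (M : End F V) (x : V),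
      (LinearEquiv.transvection h).conj M x =
        M x - φ x • M u + (φ (M x) - φ x * φ (M u)) • u := fun u φ h M x => by
    show M ((LinearEquiv.transvection h).symm x) + φ (M ((LinearEquiv.transvection h).symm x)) • u = _
    rw [hsymm]
    simp only [map_sub, map_smul, smul_eq_mul]
  -- one of them
  obtain ⟨z₀, hz₀⟩ := exists_outside hd u (M u)
  obtain ⟨φ, hφu, hφMu, hφz⟩ := exists_dual hz₀
  obtain ⟨N, hN, hNx⟩ : ∃ N ∈ D, ∀ x, N x = φ (M x) • u - φ x • M u := by
    refine ⟨_, D.sub_mem (hD u φ hφu M hM) hM, fun x => ?_⟩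
    rw [LinearMap.sub_apply, hconj, hφMu, mul_zero, sub_zero]
    abel
  obtain ⟨p, χ₀, hp, hχ₀, hp0, hmem⟩ :
      ∃ (p : V) (χ₀ : V →ₗ[F] F), χ₀ p = 0 ∧ χ₀ ≠ 0 ∧ p ≠ 0 ∧ χ₀.smulRight p ∈ D := by
    have hφ0 : φ ≠ 0 := fun e => by rw [e] at hφz; exact zero_ne_one hφz
    by_cases hdep : ∀ y, φ y = 0 → φ (M y) = 0
    · refine ⟨φ (M z₀) • u - M u, φ, by simp [hφu, hφMu], hφ0,
        sub_ne_zero.2 fun e => hu _ e.symm, ?_⟩
      convert hN using 1
      refine LinearMap.ext fun x => ?_
      have h1 := hdep (x - φ x • z₀) (by simp [hφz])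
      rw [map_sub, map_smul, map_sub, map_smul, smul_eq_mul, sub_eq_zero] at h1
      rw [LinearMap.smulRight_apply, hNx, h1, smul_sub, smul_smul]
    · push Not at hdep
      obtain ⟨y, hy, hMy⟩ := hdep
      refine ⟨φ (M y) • u, φ, by simp [hφu], hφ0, smul_ne_zero hMy hu0, ?_⟩
      convert D.neg_mem (D.sub_mem (hD y φ hy N hN) hN) using 1
      refine LinearMap.ext fun x => ?_
      rw [LinearMap.smulRight_apply, LinearMap.neg_apply, LinearMap.sub_apply, hconj, hNx y, hNx x,
        hy]
      simp [hφu, hφMu]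
  -- moving the centre
  obtain ⟨χ₁, hχ₁w, hχ₁, hm₁⟩ : ∃ χ₁ : V →ₗ[F] F, χ₁ w = 0 ∧ χ₁ ≠ 0 ∧ χ₁.smulRight w ∈ D := by
    by_cases hpw : w ∈ Submodule.span F {p}
    · obtain ⟨c, rfl⟩ := Submodule.mem_span_singleton.1 hpw
      refine ⟨χ₀, by simp [hp], hχ₀, ?_⟩
      convert D.smul_mem c hmem using 1
      exact LinearMap.ext fun x => by simp [smul_comm c]
    · obtain ⟨g, hg, hgk⟩ := Submodule.exists_le_ker_of_notMem hpw
      have hgp : g p = 0 := hgk (Submodule.mem_span_singleton_self p)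
      obtain ⟨f, hf⟩ : ∃ f : V →ₗ[F] F, f p ≠ 0 := by
        obtain ⟨f, hf, -⟩ := Submodule.exists_le_ker_of_notMem
          (show p ∉ (⊥ : Submodule F V) by simpa using hp0)
        exact ⟨f, hf⟩
      obtain ⟨θ, hθp, hθw⟩ : ∃ θ : V →ₗ[F] F, θ p = 1 ∧ θ w = 1 :=
        ⟨(f p)⁻¹ • f + ((1 - (f p)⁻¹ * f w) / g w) • g, by simp [hgp, hf], by simp [hg]⟩
      have hθ : θ (w - p) = 0 := by rw [map_sub, hθp, hθw, sub_self]
      obtain ⟨T, hT⟩ : ∃ T, T = LinearEquiv.transvection hθ := ⟨_, rfl⟩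
      have hTp : T p = w := by
        rw [hT]; show p + θ p • (w - p) = w
        rw [hθp, one_smul, add_sub_cancel]
      refine ⟨χ₀ ∘ₗ T.symm.toLinearMap, ?_, fun e => ?_, ?_⟩
      · rw [LinearMap.comp_apply, ← hTp, LinearEquiv.coe_coe, T.symm_apply_apply, hp]
      · refine hχ₀ (LinearMap.ext fun x => ?_)
        have := LinearMap.congr_fun e (T x)
        simpa using this
      · convert hT ▸ hD _ _ hθ _ hmem using 1
        refine LinearMap.ext fun x => ?_
        show χ₀ (T.symm x) • w = T (χ₀ (T.symm x) • p)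
        rw [map_smul, hTp]
  -- moving the functional
  by_cases hdep : χ ∈ Submodule.span F {χ₁}
  · obtain ⟨c, rfl⟩ := Submodule.mem_span_singleton.1 hdep
    convert D.smul_mem c hm₁ using 1
    exact LinearMap.ext fun x => by simp [smul_smul]
  · obtain ⟨b, hb, hb'⟩ : ∃ b, χ₁ b = 1 ∧ χ b = 1 := by
      obtain ⟨a, ha⟩ : ∃ a, χ₁ a = 1 := by
        obtain ⟨a, ha⟩ : ∃ a, χ₁ a ≠ 0 := by
          by_contra hc
          push Not at hc
          exact hχ₁ (LinearMap.ext hc)
        exact ⟨(χ₁ a)⁻¹ • a, by simp [ha]⟩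
      obtain ⟨k, hk, hk'⟩ : ∃ k, χ₁ k = 0 ∧ χ k ≠ 0 := by
        by_contra hc
        push Not at hc
        refine hdep (Submodule.mem_span_singleton.2 ⟨χ a, LinearMap.ext fun x => ?_⟩)
        have h1 := hc (x - χ₁ x • a) (by simp [ha])
        rw [map_sub, map_smul, smul_eq_mul, sub_eq_zero] at h1
        rw [LinearMap.smul_apply, smul_eq_mul, h1, mul_comm]
      exact ⟨a + ((1 - χ a) / χ k) • k, by simp [ha, hk], by simp [hk']⟩
    have hθ : (χ₁ - χ) b = 0 := by rw [LinearMap.sub_apply, hb, hb', sub_self]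
    convert hD _ _ hθ _ hm₁ using 1
    refine LinearMap.ext fun x => ?_
    rw [hconj]
    simp only [LinearMap.smulRight_apply, map_smul, LinearMap.sub_apply, hw, hχ₁w, sub_self,
      smul_zero, mul_zero, zero_smul, add_zero, hb, one_smul]
    rw [← sub_smul, sub_sub_cancel]

/-- A line of conjugates on which the trace of the product is affine and non-constant. -/
theorem exists_line (hd : 3 ≤ finrank F V) (A B : End F V) (hA : ∃ u, ∀ c : F, A u ≠ c • u)
    (hB : ∃ u, ∀ c : F, B u ≠ c • u) :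
    ∃ g : V ≃ₗ[F] V, LinearMap.det (g : V →ₗ[F] V) = 1 ∧ ∃ (u : V) (φ : V →ₗ[F] F),
      φ u = 0 ∧ φ (A u) = 0 ∧ φ (g.conj B (A u)) ≠ φ (A (g.conj B u)) := by
  by_contra hc
  push Not at hc
  set D : Submodule F (End F V) :=
    Submodule.span F {M | ∃ g : V ≃ₗ[F] V, LinearMap.det (g : V →ₗ[F] V) = 1 ∧ M = g.conj B}
  have hBD : B ∈ D := Submodule.subset_span ⟨LinearEquiv.refl F V, by simp, by ext; simp⟩
  have hD : ∀ (u : V) (φ : V →ₗ[F] F) (h : φ u = 0), ∀ M ∈ D,
      (LinearEquiv.transvection h).conj M ∈ D := by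
    intro u φ h M hM
    induction hM using Submodule.span_induction with
    | mem M hM =>
      obtain ⟨g, hg, rfl⟩ := hM
      refine Submodule.subset_span ⟨g.trans (LinearEquiv.transvection h), ?_, ?_⟩
      · rw [LinearEquiv.coe_trans, LinearMap.det_comp, hg, mul_one,
          LinearEquiv.transvection.coe_toLinearMap, LinearMap.transvection.det, h, add_zero]
      · ext x; rfl
    | zero => rw [map_zero]; exact D.zero_mem
    | add x y _ _ hx hy => rw [map_add]; exact D.add_mem hx hy
    | smul c x _ hx => rw [map_smul]; exact D.smul_mem c hx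
  obtain ⟨u, hu⟩ := hA
  obtain ⟨u', hu'⟩ := hB
  obtain ⟨w, hw⟩ := exists_outside hd u (A u)
  obtain ⟨φ, hφu, hφA, hφw⟩ := exists_dual hw
  obtain ⟨χ, hχu, hχw, hχA⟩ := exists_dual (F := F) (z := A u) (x := u) (y := w) (fun hm => by
    obtain ⟨a, b, e⟩ := Submodule.mem_span_pair.1 hm
    by_cases hb : b = 0
    · exact hu a (by rw [← e, hb, zero_smul, add_zero])
    · refine hw (Submodule.mem_span_pair.2 ⟨-(b⁻¹ * a), b⁻¹, ?_⟩)
      rw [← e, smul_add, smul_smul, smul_smul, inv_mul_cancel₀ hb]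
      module)
  have hall : ∀ M ∈ D, φ (M (A u)) = φ (A (M u)) := by
    intro M hM
    induction hM using Submodule.span_induction with
    | mem M hM =>
      obtain ⟨g, hg, rfl⟩ := hM
      exact hc g hg u φ hφu hφA
    | zero => simp
    | add x y _ _ hx hy => simp [hx, hy]
    | smul c x _ hx => simp [hx]
  have h1 := hall _ (rank_one_mem hd D hD hBD hu' w χ hχw)
  simp [hχu, hχA, hφw] at h1

/-- The trace takes the values zero and one. -/
theorem exists_values (hd : 3 ≤ finrank F V) (A B : End F V) (hA : ∃ u, ∀ c : F, A u ≠ c • u)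
    (hB : ∃ u, ∀ c : F, B u ≠ c • u) (t : F) :
    ∃ g : V ≃ₗ[F] V, LinearMap.det (g : V →ₗ[F] V) = 1 ∧ LinearMap.trace F V (A ∘ₗ g.conj B) = t := by
  obtain ⟨g, hg, u, φ, hu, hAu, hne⟩ := exists_line hd A B hA hB
  set Y := g.conj B with hY
  set c := φ (Y (A u)) - φ (A (Y u)) with hc
  set s := (t - LinearMap.trace F V (A ∘ₗ Y)) / c
  have h : (s • φ) u = 0 := by simp [hu]
  refine ⟨g.trans (LinearEquiv.transvection h), by
    rw [LinearEquiv.coe_trans, LinearMap.det_comp, hg, mul_one,
      LinearEquiv.transvection.coe_toLinearMap, LinearMap.transvection.det, h, add_zero], ?_⟩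
  have hsymm : ∀ x, (LinearEquiv.transvection h).symm x = x - (s * φ x) • u := fun x => by
    refine (LinearEquiv.transvection h).injective ?_
    rw [LinearEquiv.apply_symm_apply]
    show x = x - (s * φ x) • u + (s • φ) (x - (s * φ x) • u) • u
    simp [hu]
  have e : A ∘ₗ (g.trans (LinearEquiv.transvection h)).conj B = A ∘ₗ Y +
      ((s • φ) ∘ₗ Y).smulRight (A u) - (s • φ).smulRight (A (Y u)) -
      ((s * φ (Y u)) • (s • φ)).smulRight (A u) := by
    refine LinearMap.ext fun x => ?_
    show A (Y ((LinearEquiv.transvection h).symm x) +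
      (s • φ) (Y ((LinearEquiv.transvection h).symm x)) • u) = _
    rw [hsymm]
    simp only [map_sub, map_add, map_smul, LinearMap.smul_apply, smul_eq_mul, LinearMap.add_apply,
      LinearMap.sub_apply, LinearMap.comp_apply, LinearMap.smulRight_apply]
    module
  rw [e]
  simp only [map_sub, map_add, LinearMap.trace_smulRight, LinearMap.comp_apply, LinearMap.smul_apply,
    smul_eq_mul, hAu, mul_zero, sub_zero]
  have : c ≠ 0 := sub_ne_zero.2 hne
  rw [add_sub_assoc, ← mul_sub, ← hc, div_mul_cancel₀ _ this]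
  ring

end CfsgLib.ClassTrace
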