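import Cfsg.Agent.Lib.Classical.MinIndexPSL

set_option autoImplicit false

/-!
The bound `q ^ (n - 1) - 1` for projectively faithful representations of `SL_n` in cross characteristic.
-/

namespace CfsgLib.Classical.MinIndex

open Matrix
open scoped MatrixGroups

variable {F : Type*} [Field F] [Fintype F] {n : ℕ}

theorem exists_addChar_ne_one (L : Type*) [Field L] [IsAlgClosed L] (h : ringChar L ≠ ringChar F) :
    ∃ ψ : AddChar F L, ∃ x, ψ x ≠ 1 := by
  set p := ringChar F with hp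
  have : Fact p.Prime := ⟨CharP.char_is_prime F p⟩
  let _ := ZMod.algebra F p
  have hpL : NeZero (p : L) := ⟨fun h0 => h (by
    have h1 := (ringChar.spec L p).1 h0
    exact ((Fact.out : p.Prime).eq_one_or_self_of_dvd _ h1).resolve_left CharP.ringChar_ne_one)⟩
  obtain ⟨ζ, hζ⟩ := HasEnoughRootsOfUnity.exists_primitiveRoot L p
  obtain ⟨x, hx⟩ := Algebra.trace_surjective (ZMod p) F 1
  refine ⟨(AddChar.zmodChar p hζ.pow_eq_one).compAddMonoidHom (Algebra.trace (ZMod p) F).toAddMonoidHom,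
    x, ?_⟩
  show AddChar.zmodChar p hζ.pow_eq_one (Algebra.trace (ZMod p) F x) ≠ 1
  rw [hx, AddChar.zmodChar_apply, ZMod.val_one, pow_one]
  exact hζ.ne_one (Fact.out : p.Prime).one_lt

theorem le_dim_of_ker_le_center (hn : 3 ≤ n) {K : Type*} [Field K] (hK : ringChar K ≠ ringChar F) {d : ℕ}
    (ρ : SpecialLinearGroup (Fin n) F →* GL (Fin d) K)
    (hker : ρ.ker ≤ Subgroup.center (SpecialLinearGroup (Fin n) F)) :
    Fintype.card F ^ (n - 1) - 1 ≤ d := by
  classical
  set L := AlgebraicClosure K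
  have hL : ringChar L ≠ ringChar F := by
    have h1 : ringChar L = ringChar K := by
      have := charP_of_injective_algebraMap (algebraMap K L).injective (ringChar K)
      exact ringChar.eq L (ringChar K)
    rwa [h1]
  obtain ⟨ψ, t₀, ht₀⟩ := exists_addChar_ne_one (F := F) L hL
  have : Nonempty (Fin n) := ⟨⟨0, by omega⟩⟩
  obtain ⟨a, ha⟩ := exists_ne (0 : Fin n → F)
  let M : SpecialLinearGroup (Fin n) F → Matrix (Fin d) (Fin d) L :=
    fun g => ((ρ g : GL (Fin d) K) : Matrix (Fin d) (Fin d) K).map (algebraMap K L)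
  have M1 : M 1 = 1 := by simp [M]
  have Mm : ∀ g h, M (g * h) = M g * M h := fun g h => by
    simp only [M, map_mul, Units.val_mul]
    exact Matrix.map_mul
  have Minj : ∀ g, M g = 1 → g ∈ ρ.ker := fun g hg => by
    refine MonoidHom.mem_ker.2 (Units.ext ?_)
    refine Matrix.map_injective (algebraMap K L).injective ?_
    show M g = _
    rw [hg]; simp
  let T : ann a → Matrix (Fin d) (Fin d) L := fun φ => M (tv a φ.1 φ.2)
  have T0 : T 0 = 1 := (congrArg M (tv_zero a _)).trans M1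
  have Tm : ∀ φ φ', T φ * T φ' = T (φ + φ') := fun φ φ' =>
    (Mm _ _).symm.trans (congrArg M (tv_mul φ.2 φ'.2))
  let χ : (Fin n → F) → ann a → L := fun v φ => ψ (φ.1 ⬝ᵥ v)
  have χm : ∀ v φ φ', χ v (φ + φ') = χ v φ * χ v φ' := fun v φ φ' => by
    show ψ ((φ.1 + φ'.1) ⬝ᵥ v) = _
    rw [add_dotProduct, AddChar.map_add_eq_mul]
  let Ev : (Fin n → F) → Matrix (Fin d) (Fin d) L := fun v => ∑ φ : ann a, χ v (-φ) • T φ
  have heig : ∀ v φ₀, T φ₀ * Ev v = χ v φ₀ • Ev v := fun v φ₀ => by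
    show T φ₀ * ∑ φ : ann a, χ v (-φ) • T φ = χ v φ₀ • ∑ φ : ann a, χ v (-φ) • T φ
    rw [Matrix.mul_sum, Finset.smul_sum]
    refine Fintype.sum_equiv (Equiv.addLeft φ₀) _ _ fun φ => ?_
    rw [Equiv.coe_addLeft, Matrix.mul_smul, Tm, smul_smul, ← χm, show φ₀ + -(φ₀ + φ) = -φ by abel]
  obtain ⟨U, hU⟩ := Submodule.exists_isCompl (Submodule.span F ({a} : Set (Fin n → F)))
  -- the sum over the complement
  have hsum : ∑ v : U, Ev v = (Fintype.card U : L) • (1 : Matrix (Fin d) (Fin d) L) := by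
    simp only [Ev]
    rw [Finset.sum_comm, Finset.sum_eq_single (0 : ann a) (fun φ _ hφ => ?_)
      (fun h => absurd (Finset.mem_univ _) h)]
    · rw [T0, ← Finset.sum_smul]
      congr 1
      simp [χ]
    · rw [← Finset.sum_smul]
      let f : AddChar U L := ψ.compAddMonoidHom
        { toFun := fun v => ((-φ : ann a)).1 ⬝ᵥ (v : Fin n → F)
          map_zero' := dotProduct_zero _
          map_add' := fun v w => dotProduct_add _ _ _ }
      have hf : f ≠ 0 := by
        intro h0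
        apply hφ
        have hall : ∀ u ∈ U, φ.1 ⬝ᵥ u = 0 := by
          intro u hu
          by_contra hc
          apply ht₀
          have h3 : ψ ((-φ.1) ⬝ᵥ (((-(φ.1 ⬝ᵥ u))⁻¹ * t₀) • u)) = 1 :=
            DFunLike.congr_fun h0 (⟨((-(φ.1 ⬝ᵥ u))⁻¹ * t₀) • u, U.smul_mem _ hu⟩ : U)
          rwa [dotProduct_smul, neg_dotProduct, smul_eq_mul, mul_comm, ← mul_assoc,
            mul_inv_cancel₀ (neg_ne_zero.2 hc), one_mul] at h3
        refine Subtype.ext (funext fun i => ?_)
        have hm : (Pi.single i 1 : Fin n → F) ∈ Submodule.span F ({a} : Set (Fin n → F)) ⊔ U :=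
          hU.sup_eq_top ▸ Submodule.mem_top
        obtain ⟨s, hs, u, hu, hsu⟩ := Submodule.mem_sup.1 hm
        obtain ⟨c, rfl⟩ := Submodule.mem_span_singleton.1 hs
        have h1 : φ.1 ⬝ᵥ (Pi.single i 1 : Fin n → F) = 0 := by
          rw [← hsu, dotProduct_add, dotProduct_smul, φ.2, smul_zero, zero_add, hall u hu]
        rwa [dotProduct_single, mul_one] at h1
      have h2 : ∑ v : U, χ v (-φ) = 0 := (AddChar.sum_eq_ite f).trans (if_neg hf)
      rw [h2, zero_smul]
  -- some nontrivial character occurs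
  obtain ⟨v₀, hv₀, hv₀E⟩ : ∃ v₀ : U, v₀ ≠ 0 ∧ Ev v₀ ≠ 0 := by
    by_contra hc
    push Not at hc
    rw [Finset.sum_eq_single (0 : U) (fun v _ hv => hc v hv) (fun h => absurd (Finset.mem_univ _) h)] at hsum
    have hcard : (Fintype.card U : L) ≠ 0 := by
      rw [Module.card_eq_pow_finrank (K := F), Nat.cast_pow]
      refine pow_ne_zero _ fun h0 => hL ?_
      obtain ⟨p, hp⟩ := CharP.exists F
      obtain ⟨k, hpp, hk⟩ := FiniteField.card F p
      rw [hk, Nat.cast_pow, pow_eq_zero_iff k.ne_zero] at h0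
      rw [ringChar.eq F p]
      have h1 := (ringChar.spec L p).1 h0
      exact (hpp.eq_one_or_self_of_dvd _ h1).resolve_left CharP.ringChar_ne_one
    have htriv : ∀ φ : ann a, T φ = 1 := fun φ => by
      have h1 := heig (0 : U) φ
      rw [hsum, Matrix.mul_smul, mul_one, show χ ((0 : U) : Fin n → F) φ = 1 by simp [χ], one_smul] at h1
      exact smul_right_injective _ hcard h1
    obtain ⟨b, hb⟩ : ∃ b : Fin n → F, b ∉ Submodule.span F ({a} : Set (Fin n → F)) := by
      obtain ⟨b, hb⟩ := SetLike.exists_not_mem_of_ne_top _ (span_pair_ne_top hn a a) rfl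
      exact ⟨b, by simpa using hb⟩
    obtain ⟨φ, hφ, hφb⟩ := exists_sep _ hb
    have hφa : φ ⬝ᵥ a = 0 := hφ a (Submodule.mem_span_singleton_self a)
    have hz : tv a φ hφa ∈ Subgroup.center (SpecialLinearGroup (Fin n) F) := hker (Minj _ (htriv ⟨φ, hφa⟩))
    obtain ⟨ψ', hψ', hψ'a⟩ := exists_sep (Submodule.span F ({b} : Set (Fin n → F))) (u := a) (fun h => by
      obtain ⟨c, hc⟩ := Submodule.mem_span_singleton.1 h
      have hc0 : c ≠ 0 := fun h0 => ha (by rw [← hc, h0, zero_smul])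
      exact hb (Submodule.mem_span_singleton.2 ⟨c⁻¹, by rw [← hc, smul_smul, inv_mul_cancel₀ hc0, one_smul]⟩))
    have h1 := congrArg (fun g => app g a) (Subgroup.mem_center_iff.1 hz
      (tv b ψ' (hψ' b (Submodule.mem_span_singleton_self b))))
    simp only [app_mul, app_tv, hφa, hψ'a, zero_smul, one_smul, add_zero, dotProduct_add, hφb,
      zero_add] at h1
    exact ha (by simpa using h1)
  -- all nontrivial characters occur
  have hne : ∀ v : U, v ≠ 0 → Ev v ≠ 0 := by
    intro v hv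
    have hnot : ∀ w : U, w ≠ 0 → (w : Fin n → F) ∉ Submodule.span F ({a} : Set (Fin n → F)) := fun w hw h =>
      hw (Subtype.ext (Submodule.disjoint_def.1 hU.disjoint _ h w.2))
    obtain ⟨g, hga, hgv⟩ := exists_app_pair hn (hnot v hv) (hnot v₀ hv₀)
    intro h0
    apply hv₀E
    have hga' : app g⁻¹ a = a := (congrArg (app g⁻¹) hga.symm).trans (app_inv g a)
    let e : ann a ≃ ann a :=
      { toFun := fun φ => ⟨φ.1 ᵥ* (g⁻¹).1, by
          show φ.1 ᵥ* (g⁻¹).1 ⬝ᵥ a = 0
          rw [← dotProduct_mulVec]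
          show φ.1 ⬝ᵥ app g⁻¹ a = 0
          rw [hga']
          exact φ.2⟩
        invFun := fun φ => ⟨φ.1 ᵥ* g.1, by
          show φ.1 ᵥ* g.1 ⬝ᵥ a = 0
          rw [← dotProduct_mulVec]
          show φ.1 ⬝ᵥ app g a = 0
          rw [hga]; exact φ.2⟩
        left_inv := fun φ => Subtype.ext (by
          show φ.1 ᵥ* (g⁻¹).1 ᵥ* g.1 = φ.1
          rw [vecMul_vecMul, show (g⁻¹).1 * g.1 = 1 from congrArg Subtype.val (inv_mul_cancel g), vecMul_one])
        right_inv := fun φ => Subtype.ext (by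
          show φ.1 ᵥ* g.1 ᵥ* (g⁻¹).1 = φ.1
          rw [vecMul_vecMul, show g.1 * (g⁻¹).1 = 1 from congrArg Subtype.val (mul_inv_cancel g), vecMul_one]) }
    have hconj : M g * Ev v * M g⁻¹ = Ev v₀ := by
      show M g * (∑ φ : ann a, χ v (-φ) • T φ) * M g⁻¹ = ∑ φ : ann a, χ v₀ (-φ) • T φ
      rw [Matrix.mul_sum, Matrix.sum_mul]
      refine Fintype.sum_equiv e _ _ fun φ => ?_
      rw [Matrix.mul_smul, Matrix.smul_mul, show T φ = M (tv a φ.1 φ.2) from rfl, ← Mm, ← Mm]
      congr 1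
      · show ψ ((-φ.1) ⬝ᵥ (v : Fin n → F)) = ψ ((-(φ.1 ᵥ* (g⁻¹).1)) ⬝ᵥ (v₀ : Fin n → F))
        rw [neg_dotProduct, neg_dotProduct, ← dotProduct_mulVec φ.1 (g⁻¹).1]
        show _ = ψ (-(φ.1 ⬝ᵥ app g⁻¹ (v₀ : Fin n → F)))
        rw [← hgv, app_inv]
      · refine congrArg M ((conj_tv g (a := a) (φ := φ.1) φ.2).trans (ext_app fun w => ?_))
        rw [app_tv]
        refine Eq.trans ?_ (app_tv a (e φ).1 (e φ).2 w).symm
        rw [hga]; rfl
    rw [← hconj, h0, mul_zero, zero_mul]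
  -- eigenvectors
  let I := {v : U // v ≠ 0}
  have hw : ∀ v : I, ∃ w : Fin d → L, w ≠ 0 ∧ ∀ φ, T φ *ᵥ w = χ v.1 φ • w := by
    intro v
    obtain ⟨j, hj⟩ : ∃ j, Ev (v.1 : Fin n → F) *ᵥ Pi.single j 1 ≠ 0 := by
      by_contra hc
      push Not at hc
      exact hne v.1 v.2 (Matrix.ext_of_mulVec_single fun j => by rw [hc j, zero_mulVec])
    exact ⟨_, hj, fun φ => by rw [mulVec_mulVec, heig, smul_mulVec]⟩
  choose w hw0 hw1 using hw
  have hli : LinearIndependent L w := by
    rw [Fintype.linearIndependent_iff]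
    intro c hc v'
    have h1 := congrArg (Ev (v'.1 : Fin n → F) *ᵥ ·) hc
    have h2 : ∀ v : I, Ev (v'.1 : Fin n → F) *ᵥ w v =
        (if v = v' then (Fintype.card (ann a) : L) else 0) • w v := by
      intro v
      simp only [Ev, sum_mulVec, smul_mulVec, hw1, smul_smul, ← Finset.sum_smul]
      congr 1
      let f : AddChar (ann a) L := ψ.compAddMonoidHom
        { toFun := fun φ => φ.1 ⬝ᵥ ((v.1 : Fin n → F) - v'.1)
          map_zero' := zero_dotProduct _
          map_add' := fun x y => add_dotProduct _ _ _ }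
      have h3 : ∀ φ, χ v'.1 (-φ) * χ v.1 φ = f φ := fun φ => by
        show ψ ((-φ.1) ⬝ᵥ _) * ψ (φ.1 ⬝ᵥ _) = ψ (φ.1 ⬝ᵥ _)
        rw [← AddChar.map_add_eq_mul, neg_dotProduct, dotProduct_sub, neg_add_eq_sub]
      rw [Finset.sum_congr rfl fun φ _ => h3 φ, AddChar.sum_eq_ite]
      by_cases he : v = v'
      · rw [if_pos he, if_pos (by ext φ; simp [f, he])]
      · rw [if_neg he, if_neg]
        intro hf0
        obtain ⟨φ, hφ, hφu⟩ := exists_sep (Submodule.span F ({a} : Set (Fin n → F)))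
          (u := (v.1 : Fin n → F) - v'.1) (fun h => he (Subtype.ext (Subtype.ext (sub_eq_zero.1
            (Submodule.disjoint_def.1 hU.disjoint _ h (U.sub_mem v.1.2 v'.1.2))))))
        apply ht₀
        have := DFunLike.congr_fun hf0 (t₀ • (⟨φ, hφ a (Submodule.mem_span_singleton_self a)⟩ : ann a))
        change ψ ((t₀ • φ) ⬝ᵥ ((v.1 : Fin n → F) - v'.1)) = 1 at this
        rwa [smul_dotProduct, hφu, smul_eq_mul, mul_one] at this
    simp only [mulVec_sum, mulVec_smul, h2, mulVec_zero, smul_smul] at h1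
    rw [Finset.sum_eq_single v' (fun v _ hv => by rw [if_neg hv, mul_zero, zero_smul])
      (fun h => absurd (Finset.mem_univ _) h), if_pos rfl, smul_eq_zero] at h1
    rcases h1 with h1 | h1
    · refine (mul_eq_zero.1 h1).resolve_right ?_
      rw [Module.card_eq_pow_finrank (K := F), Nat.cast_pow]
      refine pow_ne_zero _ fun h0 => hL ?_
      obtain ⟨p, hp⟩ := CharP.exists F
      obtain ⟨k, hpp, hk⟩ := FiniteField.card F p
      rw [hk, Nat.cast_pow, pow_eq_zero_iff k.ne_zero] at h0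
      rw [ringChar.eq F p]
      have h1 := (ringChar.spec L p).1 h0
      exact (hpp.eq_one_or_self_of_dvd _ h1).resolve_left CharP.ringChar_ne_one
    · exact absurd h1 (hw0 v')
  have h := hli.fintype_card_le_finrank
  rw [Module.finrank_fin_fun] at h
  refine le_trans ?_ h
  rw [Fintype.card_subtype_compl, Fintype.card_subtype_eq, Module.card_eq_pow_finrank (K := F) (V := U)]
  have hd := Submodule.finrank_add_eq_of_isCompl hU
  rw [finrank_span_singleton ha, Module.finrank_fin_fun] at hd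
  rw [show Module.finrank F U = n - 1 by omega]

end CfsgLib.Classical.MinIndex
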