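import Cfsg.Agent.Lib.Classical.DecompMax

set_option autoImplicit false
set_option linter.unusedSectionVars false

/-!
Over very small fields the stabiliser of a decomposition into small blocks is not maximal: it fixes
the number of non-zero components modulo the characteristic.
-/

namespace CfsgLib.Classical.DecompNotMax

open Matrix CfsgLib.Classical.SLMon
open scoped MatrixGroups

variable {F : Type*} [Field F] [Fintype F] {t m : ℕ}

local notation "ι" => Fin t × Fin m
local notation "G" => SpecialLinearGroup (Fin t × Fin m) F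

/-- The number of non-zero components, as an element of the field. -/
noncomputable def cnt (v : Fin t × Fin m → F) : F := by
  classical
  exact ∑ i : Fin t, if ∀ x : Fin m, v (i, x) = 0 then 0 else 1

/-- The matrices preserving `cnt`. -/
def fixer : Subgroup G where
  carrier := {g | ∀ v, cnt (g.1 *ᵥ v) = cnt v}
  one_mem' v := by simp
  mul_mem' {a b} ha hb v := by
    show cnt ((a.1 * b.1) *ᵥ v) = _
    rw [← mulVec_mulVec, ha, hb]
  inv_mem' {a} ha v := by
    have h := ha ((a⁻¹).1 *ᵥ v)
    rw [mulVec_mulVec, show a.1 * (a⁻¹).1 = 1 from congrArg Subtype.val (mul_inv_cancel a),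
      one_mulVec] at h
    exact h.symm

theorem bstab_le : LinBlocks.bstab (F := F) (κ := Fin t) (μ := Fin m) ⊆ (fixer : Subgroup G) := by
  classical
  rintro g ⟨σ, hσ⟩ v
  have hblk : ∀ (w : ι → F) (i : Fin t) (x : Fin m),
      (g.1 *ᵥ w) (σ i, x) = (g.1 *ᵥ LinBlocks.blk i w) (σ i, x) := by
    intro w i x
    refine Finset.sum_congr rfl fun b _ => ?_
    by_cases e : b.1 = i
    · simp [LinBlocks.blk, e]
    · have h0 : g.1 (σ i, x) b = 0 := by
        by_contra h
        exact e (σ.injective (hσ _ _ h)).symm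
      simp [LinBlocks.blk, e, h0]
  show cnt (g.1 *ᵥ v) = cnt v
  unfold cnt
  rw [← Equiv.sum_comp σ]
  refine Finset.sum_congr rfl fun i _ => ?_
  have key : (∀ x, (g.1 *ᵥ v) (σ i, x) = 0) ↔ ∀ x, v (i, x) = 0 := by
    constructor
    · intro h
      have h0 : g.1 *ᵥ LinBlocks.blk i v = 0 := by
        funext a
        by_cases e : a.1 = σ i
        · rw [show a = (σ i, a.2) from Prod.ext e rfl, ← hblk]
          exact h _
        · refine Finset.sum_eq_zero fun b _ => ?_
          show g.1 a b * LinBlocks.blk i v b = 0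
          by_cases eb : b.1 = i
          · rw [show g.1 a b = 0 by
              by_contra h'
              exact e (eb ▸ hσ _ _ h'), zero_mul]
          · simp [LinBlocks.blk, eb]
      have h1 := congrArg ((g⁻¹).1 *ᵥ ·) h0
      simp only [mulVec_zero] at h1
      rw [mulVec_mulVec, show (g⁻¹).1 * g.1 = 1 from congrArg Subtype.val (inv_mul_cancel g),
        one_mulVec] at h1
      intro x
      simpa [LinBlocks.blk] using congrFun h1 (i, x)
    · intro h x
      rw [hblk, show LinBlocks.blk i v = 0 from funext fun b => by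
        by_cases e : b.1 = i
        · simp only [LinBlocks.blk, if_pos e]
          rw [show b = (i, b.2) from Prod.ext e rfl]
          exact h _
        · simp [LinBlocks.blk, e], mulVec_zero]
      rfl
  simp only [key]

theorem exists_proper (ht : 4 ≤ t) (hm : 0 < m) : ∃ g : G, g ∉ (fixer : Subgroup G) := by
  classical
  let a : ι := (⟨0, by omega⟩, ⟨0, hm⟩)
  let b : ι := (⟨1, by omega⟩, ⟨0, hm⟩)
  have hab : a.1 ≠ b.1 := by simp [a, b]
  refine ⟨Tv (Pi.single b 1) (Pi.single a 1) (by simp [show a ≠ b from fun e => hab (by rw [e])]),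
    fun h => ?_⟩
  have h1 := h (Pi.single a 1)
  have e1 : cnt (F := F) (Pi.single a 1) = 1 := by
    unfold cnt
    rw [Finset.sum_eq_single a.1]
    · rw [if_neg]; intro h; exact one_ne_zero (α := F) (by simpa [a] using h a.2)
    · intro i _ hi
      rw [if_pos]
      intro x
      exact Pi.single_eq_of_ne (fun e => hi (congrArg Prod.fst e)) _
    · simp
  have e2 : cnt (F := F) (Pi.single a 1 + Pi.single b 1) = 1 + 1 := by
    unfold cnt
    have hb : b.1 ∈ (Finset.univ.erase a.1 : Finset (Fin t)) := by simp [hab.symm]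
    rw [← Finset.add_sum_erase _ _ (Finset.mem_univ a.1), ← Finset.add_sum_erase _ _ hb,
      Finset.sum_eq_zero, add_zero, if_neg, if_neg]
    · intro h
      have := h b.2
      simp [a, b] at this
    · intro h
      have := h a.2
      simp [a, b] at this
    · intro i hi
      simp only [Finset.mem_erase, Finset.mem_univ, and_true] at hi
      rw [if_pos]
      intro x
      simp [show (i, x) ≠ a from fun e => hi.2 (congrArg Prod.fst e),
        show (i, x) ≠ b from fun e => hi.1 (congrArg Prod.fst e)]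
  simp only [Tv] at h1
  rw [R_mulVec, single_dotProduct, Pi.single_eq_same, one_mul, one_smul, e1, e2] at h1
  exact one_ne_zero (α := F) (add_right_cancel (h1.trans (zero_add 1).symm))

variable {k : ℕ}

theorem field_two (hq : Fintype.card F = 2) : ∀ x : F, x = 0 ∨ x = 1 := by
  intro x
  have := Nat.card_eq_two_iff' (0 : F)
  rw [Nat.card_eq_fintype_card] at this
  obtain ⟨y, -, hy⟩ := this.1 hq
  by_cases h : x = 0
  · exact Or.inl h
  · exact Or.inr ((hy x h).trans (hy 1 one_ne_zero).symm)

theorem cnt_one (hm : m = 1) (v : ι → F) :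
    cnt v = ∑ a : ι, v a ^ (Fintype.card F - 1) := by
  classical
  subst hm
  unfold cnt
  rw [Fintype.sum_prod_type]
  refine Finset.sum_congr rfl fun i _ => ?_
  rw [Fintype.sum_unique]
  simp only [Unique.forall_iff]
  split_ifs with h
  · rw [h, zero_pow]
    exact Nat.sub_ne_zero_of_lt Fintype.one_lt_card
  · exact (FiniteField.pow_card_sub_one_eq_one _ h).symm

theorem cnt_two (hq : Fintype.card F = 2) (v : Fin t × Fin 2 → F) :
    cnt v = ∑ i : Fin t, (v (i, 0) ^ 2 + v (i, 0) * v (i, 1) + v (i, 1) ^ 2) := by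
  classical
  unfold cnt
  refine Finset.sum_congr rfl fun i _ => ?_
  have two : (1 + 1 : F) = 0 := by
    rcases field_two hq (1 + 1) with h | h
    · exact h
    · exact absurd (add_eq_left.1 h) one_ne_zero
  simp only [Fin.forall_fin_two]
  rcases field_two hq (v (i, 0)) with h0 | h0 <;> rcases field_two hq (v (i, 1)) with h1 | h1 <;>
    simp [h0, h1, two]

theorem exists_extra_one (hm : m = 1) (ht : 5 ≤ t) (hq : Fintype.card F ≤ 4) :
    ∃ g : G, g ∈ (fixer : Subgroup G) ∧ g ∉ LinBlocks.bstab (F := F) (κ := Fin t) (μ := Fin m) := by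
  classical
  subst hm
  let c : Fin 5 → Fin t × Fin 1 := fun i => (⟨i, by omega⟩, 0)
  have hc : Function.Injective c := fun i j h => by
    have := congrArg (fun a : Fin t × Fin 1 => (a.1 : ℕ)) h
    exact Fin.ext this
  set u : Fin t × Fin 1 → F := Pi.single (c 0) 1 + Pi.single (c 1) 1 + Pi.single (c 2) 1 + Pi.single (c 3) 1
  have hu : ∀ v : Fin t × Fin 1 → F, u ⬝ᵥ v = v (c 0) + v (c 1) + v (c 2) + v (c 3) := fun v => by
    simp [u, add_dotProduct]
  have huu : u ⬝ᵥ u = 4 := by
    rw [hu]
    simp [u, hc.eq_iff]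
    norm_num
  have hu4 : u (c 4) = 0 := by simp [u, hc.eq_iff]
  -- sums of powers over the support
  have hsum : ∀ (v : Fin t × Fin 1 → F) (e : ℕ) (s : F),
      ∑ a, (v a + s * u a) ^ e = ∑ a, v a ^ e +
        ((v (c 0) + s) ^ e - v (c 0) ^ e) + ((v (c 1) + s) ^ e - v (c 1) ^ e) +
        ((v (c 2) + s) ^ e - v (c 2) ^ e) + ((v (c 3) + s) ^ e - v (c 3) ^ e) := by
    intro v e s
    have h0 : ∀ a, a ∉ ({c 0, c 1, c 2, c 3} : Finset (Fin t × Fin 1)) → (v a + s * u a) ^ e - v a ^ e = 0 := by
      intro a ha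
      simp only [Finset.mem_insert, Finset.mem_singleton, not_or] at ha
      simp [u, ha.1, ha.2.1, ha.2.2.1, ha.2.2.2]
    have h1 : ∑ a, ((v a + s * u a) ^ e - v a ^ e) =
        ∑ a ∈ ({c 0, c 1, c 2, c 3} : Finset (Fin t × Fin 1)), ((v a + s * u a) ^ e - v a ^ e) :=
      (Finset.sum_subset (Finset.subset_univ _) fun a _ ha => h0 a ha).symm
    rw [Finset.sum_sub_distrib] at h1
    rw [Finset.sum_insert (by simp [hc.eq_iff]), Finset.sum_insert (by simp [hc.eq_iff]),
      Finset.sum_insert (by simp [hc.eq_iff]), Finset.sum_singleton] at h1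
    have e0 : u (c 0) = 1 ∧ u (c 1) = 1 ∧ u (c 2) = 1 ∧ u (c 3) = 1 := by
      simp [u, hc.eq_iff]
    rw [e0.1, e0.2.1, e0.2.2.1, e0.2.2.2, mul_one] at h1
    linear_combination h1
  obtain ⟨p, hp⟩ := CharP.exists F
  obtain ⟨g, hg, hcol⟩ : ∃ g : SpecialLinearGroup (Fin t × Fin 1) F,
      (∀ v, cnt (g.1 *ᵥ v) = cnt v) ∧
      (g.1 (c 1) (c 0) ≠ 0 ∧ g.1 (c 2) (c 0) ≠ 0) := by
    by_cases h3 : Fintype.card F = 3
    · haveI : Fact (Nat.Prime 3) := ⟨by norm_num⟩
      haveI : CharP F 3 := charP_of_card_eq_prime h3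
      have three : (3 : F) = 0 := by exact_mod_cast CharP.cast_eq_zero F 3
      let D := R ((-2 : F) • Pi.single (c 4) 1) (Pi.single (c 4) (1 : F))
      have hdet : (R u u * D).det = 1 := by
        rw [det_mul, det_R, det_R, huu]
        simp
        linear_combination (-2 : F) * three
      refine ⟨⟨R u u * D, hdet⟩, fun v => ?_, ?_⟩
      · rw [cnt_one rfl, cnt_one rfl, h3]
        show ∑ a, ((R u u * D) *ᵥ v) a ^ 2 = _
        rw [← mulVec_mulVec, R_mulVec, R_mulVec]
        set v' := v + (Pi.single (c 4) (1 : F) ⬝ᵥ v) • (-2 : F) • (Pi.single (c 4) 1 : Fin t × Fin 1 → F)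
        have hv' : ∀ a, v' a ^ 2 = v a ^ 2 := by
          intro a
          by_cases e : a = c 4
          · subst e
            simp [v']
            linear_combination (0 : F) * three
          · simp [v', e]
        simp only [Pi.add_apply, Pi.smul_apply, smul_eq_mul]
        rw [hsum, Finset.sum_congr rfl fun a _ => hv' a, hu]
        linear_combination (2 * (v' (c 0) + v' (c 1) + v' (c 2) + v' (c 3)) ^ 2) * three
      · have e : (R u u * D) *ᵥ Pi.single (c 0) 1 = Pi.single (c 0) 1 + u := by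
          rw [← mulVec_mulVec, R_mulVec (_ • Pi.single (c 4) 1), R_mulVec]
          simp [hc.eq_iff, hu]
        constructor
        · show (R u u * D) (c 1) (c 0) ≠ 0
          have := congrFun e (c 1)
          rw [mulVec_single_one] at this
          rw [show (R u u * D) (c 1) (c 0) = _ from this]
          simp [u, hc.eq_iff]
        · show (R u u * D) (c 2) (c 0) ≠ 0
          have := congrFun e (c 2)
          rw [mulVec_single_one] at this
          rw [show (R u u * D) (c 2) (c 0) = _ from this]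
          simp [u, hc.eq_iff]
    have hcard : Fintype.card F = 2 ∨ Fintype.card F = 4 := by
      have := Fintype.one_lt_card (α := F)
      omega
    have two : (2 : F) = 0 := by
      have h := Nat.cast_card_eq_zero F
      rcases hcard with hc' | hc' <;> rw [hc'] at h
      · exact_mod_cast h
      · have : (2 : F) * 2 = 0 := by norm_num at h ⊢; exact h
        exact mul_self_eq_zero.1 this
    have h4 : u ⬝ᵥ u = 0 := by rw [huu]; linear_combination (2 : F) * two
    refine ⟨Tv u u h4, fun v => ?_, ?_⟩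
    · rw [cnt_one rfl, cnt_one rfl]
      show ∑ a, (R u u *ᵥ v) a ^ (Fintype.card F - 1) = _
      rw [R_mulVec]
      simp only [Pi.add_apply, Pi.smul_apply, smul_eq_mul]
      rw [hsum, hu]
      rcases hcard with hc' | hc' <;> rw [hc']
      · linear_combination (2 * (v (c 0) + v (c 1) + v (c 2) + v (c 3))) * two
      · set a := v (c 0); set b := v (c 1); set d := v (c 2); set f := v (c 3)
        show _ + ((a + (a + b + d + f)) ^ 3 - a ^ 3) + ((b + (a + b + d + f)) ^ 3 - b ^ 3) +
          ((d + (a + b + d + f)) ^ 3 - d ^ 3) + ((f + (a + b + d + f)) ^ 3 - f ^ 3) = _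
        linear_combination (5 * (a + b + d + f) ^ 3 -
          3 * (a + b + d + f) * (a * b + a * d + a * f + b * d + b * f + d * f)) * two
    · constructor <;> simp [Tv, R, vecMulVec_apply, hu, u, hc.eq_iff, Matrix.one_apply]
  refine ⟨g, hg, fun ⟨σ, hσ⟩ => ?_⟩
  have := (hσ _ _ hcol.1).trans (hσ _ _ hcol.2).symm
  exact absurd (hc (Prod.ext this (Subsingleton.elim _ _))) (by decide)

theorem exists_extra_two (hm : m = 2) (ht : 3 ≤ t) (hq : Fintype.card F = 2) :
    ∃ g : G, g ∈ (fixer : Subgroup G) ∧ g ∉ LinBlocks.bstab (F := F) (κ := Fin t) (μ := Fin m) := by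
  classical
  subst hm
  let c : Fin 3 → Fin t := fun i => ⟨i, by omega⟩
  have hc : Function.Injective c := fun i j h => Fin.ext (congrArg Fin.val h : _)
  set u : Fin t × Fin 2 → F := Pi.single (c 0, 0) 1 + Pi.single (c 1, 0) 1 + Pi.single (c 2, 0) 1
  set φ : Fin t × Fin 2 → F := Pi.single (c 0, 1) 1 + Pi.single (c 1, 1) 1 + Pi.single (c 2, 1) 1
  have two : (2 : F) = 0 := by
    have h := Nat.cast_card_eq_zero F
    rw [hq] at h
    exact_mod_cast h
  have h0 : φ ⬝ᵥ u = 0 := by simp [φ, u, add_dotProduct]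
  refine ⟨Tv u φ h0, fun v => ?_, fun ⟨σ, hσ⟩ => ?_⟩
  · show cnt (R u φ *ᵥ v) = cnt v
    rw [cnt_two hq, cnt_two hq, R_mulVec]
    set s := φ ⬝ᵥ v
    have hs : s = v (c 0, 1) + v (c 1, 1) + v (c 2, 1) := by simp [s, φ, add_dotProduct]
    have key : ∀ i, (v + s • u) (i, 0) ^ 2 + (v + s • u) (i, 0) * (v + s • u) (i, 1) + (v + s • u) (i, 1) ^ 2 =
        (v (i, 0) ^ 2 + v (i, 0) * v (i, 1) + v (i, 1) ^ 2) +
          (s ^ 2 + s * v (i, 1)) * (if i = c 0 ∨ i = c 1 ∨ i = c 2 then 1 else 0) := by
      intro i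
      rcases eq_or_ne i (c 0) with rfl | e0
      · simp [u, hc.eq_iff]; linear_combination (v (c 0, 0) * s) * two
      rcases eq_or_ne i (c 1) with rfl | e1
      · simp [u, hc.eq_iff]; linear_combination (v (c 1, 0) * s) * two
      rcases eq_or_ne i (c 2) with rfl | e2
      · simp [u, hc.eq_iff]; linear_combination (v (c 2, 0) * s) * two
      · simp [u, e0, e1, e2]
    rw [Finset.sum_congr rfl fun i _ => key i, Finset.sum_add_distrib]
    have h3 : ∑ i, (s ^ 2 + s * v (i, 1)) * (if i = c 0 ∨ i = c 1 ∨ i = c 2 then (1 : F) else 0) = 0 := by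
      rw [← Finset.sum_subset (Finset.subset_univ ({c 0, c 1, c 2} : Finset (Fin t))) (fun i _ hi => by
        rw [if_neg (by simpa using hi), mul_zero])]
      rw [Finset.sum_insert (by simp [hc.eq_iff]), Finset.sum_insert (by simp [hc.eq_iff]),
        Finset.sum_singleton]
      simp
      rw [hs]
      linear_combination (2 * (v (c 0, 1) + v (c 1, 1) + v (c 2, 1)) ^ 2) * two
    rw [h3, add_zero]
  · have e1 : (Tv u φ h0).1 (c 1, 0) (c 0, 1) ≠ 0 := by
      simp [Tv, R, vecMulVec_apply, u, φ, hc.eq_iff, Matrix.one_apply]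
    have e2 : (Tv u φ h0).1 (c 2, 0) (c 0, 1) ≠ 0 := by
      simp [Tv, R, vecMulVec_apply, u, φ, hc.eq_iff, Matrix.one_apply]
    have := (hσ _ _ e1).trans (hσ _ _ e2).symm
    exact absurd (hc this) (by decide)

theorem exists_between {n : ℕ} (hn : 13 ≤ n) {D : Fin t → Submodule F (Fin n → F)}
    (hD : Cfsg.Geo.IsMDecomposition m D)
    (h : (m = 1 ∧ Fintype.card F ≤ 4) ∨ (m = 2 ∧ Fintype.card F = 2)) :
    ∃ K : Subgroup (GL (Fin n) F),
      Cfsg.Geo.decompositionStabilizer D ⊓ Cfsg.Geo.specialLinear (Fin n) F < K ∧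
        K < Cfsg.Geo.specialLinear (Fin n) F := by
  obtain ⟨hnm, f, hf, hmem, hrange⟩ := DecompMax.exists_model hD
  have hm : m ≤ 2 := by rcases h with h | h <;> omega
  have ht : 6 ≤ t := by
    by_contra ht
    have : t * m ≤ 5 * 2 := Nat.mul_le_mul (by omega) hm
    omega
  have hle : (fixer : Subgroup G).map f ≤ Cfsg.Geo.specialLinear (Fin n) F := by
    rintro _ ⟨s, -, rfl⟩
    exact (hrange _).2 ⟨s, rfl⟩
  refine ⟨(fixer : Subgroup G).map f, lt_of_le_not_ge ?_ fun hge => ?_, lt_of_le_not_ge hle fun hge => ?_⟩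
  · intro g hg
    obtain ⟨s, rfl⟩ := (hrange g).1 hg.2
    exact ⟨s, bstab_le ((hmem s).1 hg.1), rfl⟩
  · obtain ⟨g, hg, hgb⟩ : ∃ g : G, g ∈ (fixer : Subgroup G) ∧
        g ∉ LinBlocks.bstab (F := F) (κ := Fin t) (μ := Fin m) := by
      rcases h with ⟨h1, h2⟩ | ⟨h1, h2⟩
      · exact exists_extra_one h1 (by omega) h2
      · exact exists_extra_two h1 (by omega) h2
    exact hgb ((hmem g).1 (hge ⟨g, hg, rfl⟩).1)
  · obtain ⟨g, hg⟩ := exists_proper (F := F) (t := t) (m := m) (by omega) hD.pos
    obtain ⟨s, hs, e⟩ := hge ((hrange (f g)).2 ⟨g, rfl⟩)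
    exact hg (hf e ▸ hs)

end CfsgLib.Classical.DecompNotMax
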