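import Mathlib

/-!
The deleted permutation module and the embedding of `A_{n+1}` in `PSL_n(F)`.
-/

set_option autoImplicit false

namespace CfsgLib.Classical.DeletedPermModule

variable (n : ℕ) (F : Type*) [Field F]

/-- The sum-zero vectors. -/
def W : Submodule F (Fin (n + 1) → F) :=
  LinearMap.ker (∑ i, LinearMap.proj i : (Fin (n + 1) → F) →ₗ[F] F)

theorem mem_W (x : Fin (n + 1) → F) : x ∈ W n F ↔ ∑ i, x i = 0 := by simp [W]

theorem finrank_W : Module.finrank F (W n F) = n := by
  have hs : Function.Surjective (∑ i, LinearMap.proj i : (Fin (n + 1) → F) →ₗ[F] F) := fun c =>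
    ⟨Pi.single 0 c, by simp⟩
  have h := LinearMap.finrank_range_add_finrank_ker (∑ i, LinearMap.proj i : (Fin (n + 1) → F) →ₗ[F] F)
  rw [LinearMap.range_eq_top.mpr hs, finrank_top, Module.finrank_self, Module.finrank_fin_fun] at h
  exact Nat.add_left_cancel (h.trans (Nat.add_comm n 1))

/-- The permutation action. -/
def act : Equiv.Perm (Fin (n + 1)) →* Module.End F (W n F) where
  toFun s :=
    { toFun := fun x => ⟨fun i => x.1 (s⁻¹ i), (mem_W n F _).mpr (by
        rw [Equiv.sum_comp (s⁻¹) x.1]; exact (mem_W n F _).mp x.2)⟩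
      map_add' := fun _ _ => rfl
      map_smul' := fun _ _ => rfl }
  map_one' := rfl
  map_mul' _ _ := rfl

theorem act_apply (s : Equiv.Perm (Fin (n + 1))) (x : W n F) (i : Fin (n + 1)) :
    (act n F s x).1 i = x.1 (s⁻¹ i) := rfl

theorem exists_embedding (hn : 5 ≤ n) :
    ∃ f : alternatingGroup (Fin (n + 1)) →* Matrix.ProjectiveSpecialLinearGroup (Fin n) F,
      Function.Injective f := by
  classical
  haveI : IsSimpleGroup (alternatingGroup (Fin (n + 1))) := alternatingGroup.isSimpleGroup (by simp; omega)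
  set G := alternatingGroup (Fin (n + 1))
  let b := Module.finBasisOfFinrankEq F (W n F) (finrank_W n F)
  let R : G →* Matrix (Fin n) (Fin n) F :=
    (LinearMap.toMatrixAlgEquiv b).toRingEquiv.toMonoidHom.comp ((act n F).comp G.subtype)
  let c₀ : Equiv.Perm (Fin (n + 1)) := Equiv.swap ⟨0, by omega⟩ ⟨1, by omega⟩ * Equiv.swap ⟨1, by omega⟩ ⟨2, by omega⟩
  let c : G := ⟨c₀, Equiv.Perm.mem_alternatingGroup.mpr (by
    simp [c₀, Equiv.Perm.sign_swap, Fin.ext_iff])⟩
  have hnc : ∀ r : F, R c ≠ Matrix.scalar (Fin n) r := by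
    intro r h
    have h' : act n F c₀ = algebraMap F (Module.End F (W n F)) r := by
      apply (LinearMap.toMatrixAlgEquiv b).injective
      rw [AlgEquiv.commutes]
      exact h
    let x : W n F := ⟨Pi.single ⟨0, by omega⟩ 1 - Pi.single ⟨3, by omega⟩ 1, (mem_W n F _).mpr (by simp)⟩
    have h1 := congrArg (fun T : Module.End F (W n F) => (T x).1 ⟨3, by omega⟩) h'
    have h2 := congrArg (fun T : Module.End F (W n F) => (T x).1 ⟨0, by omega⟩) h'
    simp [act_apply, x, c₀, Equiv.swap_apply_def, Fin.ext_iff, Module.algebraMap_end_apply] at h1 h2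
    rw [← h1] at h2
    exact one_ne_zero (α := F) (by simpa using h2.symm)
  have hdet : ∀ g, (R g).det = 1 := by
    intro g
    set δ : G →* Fˣ := ((Matrix.detMonoidHom).comp R).toHomUnits with hδ
    rcases (MonoidHom.normal_ker δ).eq_bot_or_eq_top with h | h
    · exfalso
      have hinj := (MonoidHom.ker_eq_bot_iff δ).mp h
      let d₀ : Equiv.Perm (Fin (n + 1)) := Equiv.swap ⟨1, by omega⟩ ⟨2, by omega⟩ * Equiv.swap ⟨2, by omega⟩ ⟨3, by omega⟩
      let d : G := ⟨d₀, Equiv.Perm.mem_alternatingGroup.mpr (by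
        simp [d₀, Equiv.Perm.sign_swap, Fin.ext_iff])⟩
      have hc : c * d = d * c := hinj (by rw [map_mul, map_mul, mul_comm])
      have := congrArg (fun z : G => (z : Equiv.Perm (Fin (n + 1))) ⟨1, by omega⟩) hc
      simp [c, d, c₀, d₀, Equiv.swap_apply_def, Fin.ext_iff] at this
    · have : g ∈ δ.ker := by rw [h]; exact Subgroup.mem_top g
      exact congrArg Units.val (MonoidHom.mem_ker.mp this)
  let S : G →* Matrix.SpecialLinearGroup (Fin n) F :=
    { toFun := fun g => ⟨R g, hdet g⟩
      map_one' := Subtype.ext (map_one R)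
      map_mul' := fun g h => Subtype.ext (map_mul R g h) }
  refine ⟨(QuotientGroup.mk' (Subgroup.center (Matrix.SpecialLinearGroup (Fin n) F))).comp S, ?_⟩
  rw [← MonoidHom.ker_eq_bot_iff]
  refine (Subgroup.Normal.eq_bot_or_eq_top (MonoidHom.normal_ker ((QuotientGroup.mk' (Subgroup.center (Matrix.SpecialLinearGroup (Fin n) F))).comp S))).resolve_right fun h => ?_
  have hc : c ∈ ((QuotientGroup.mk' (Subgroup.center (Matrix.SpecialLinearGroup (Fin n) F))).comp S).ker := by rw [h]; exact Subgroup.mem_top c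
  rw [MonoidHom.mem_ker, MonoidHom.comp_apply, QuotientGroup.mk'_apply, QuotientGroup.eq_one_iff,
    Matrix.SpecialLinearGroup.mem_center_iff] at hc
  obtain ⟨r, -, hr⟩ := hc
  exact hnc r hr.symm

end CfsgLib.Classical.DeletedPermModule
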