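import Cfsg.Agent.Lib.Classical.OmegaTests

set_option autoImplicit false

/-!
Counting criteria for maps onto `Ω`.
-/

namespace CfsgLib.Orth

open Matrix

/-- Surjectivity onto a subgroup by counting. -/
theorem surjective_of_count {G A : Type*} [Group G] [Group A] [Finite G] [Finite A] {Ω : Subgroup A}
    (f : G →* Ω) {k idx : ℕ} (hidx : Ω.index = idx) (hk : Nat.card f.ker ≤ k)
    (hG : Nat.card G * idx = Nat.card A * k) : Function.Surjective f := by
  rw [← MonoidHom.range_eq_top]
  refine Subgroup.eq_top_of_le_card _ ?_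
  have h1 := Subgroup.card_eq_card_quotient_mul_card_subgroup f.ker
  rw [Nat.card_congr (QuotientGroup.quotientKerEquivRange f).toEquiv] at h1
  have h2 := Ω.index_mul_card
  rw [hidx] at h2
  have hipos : 0 < idx := hidx ▸ Nat.pos_of_ne_zero Subgroup.index_ne_zero_of_finite
  have hkpos : 0 < k := lt_of_lt_of_le Nat.card_pos hk
  refine Nat.le_of_mul_le_mul_left ?_ (Nat.mul_pos hipos hkpos)
  calc idx * k * Nat.card Ω = Nat.card A * k := by rw [← h2]; ring
    _ = Nat.card f.range * Nat.card f.ker * idx := by rw [← hG, h1]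
    _ ≤ Nat.card f.range * k * idx := Nat.mul_le_mul_right _ (Nat.mul_le_mul_left _ hk)
    _ = idx * k * Nat.card f.range := by ring

variable {F : Type*} [Field F] [Finite F] {ι : Type} [Fintype ι] [DecidableEq ι]
variable {Q : QuadraticForm F (ι → F)}

theorem index_omega_two (hB : Nondeg Q) (h2 : (2 : F) = 0) (hn : 1 ≤ Module.finrank F (ι → F))
    (hex : Module.finrank F (ι → F) = 4 → Nat.card F ≠ 2) : (Cfsg.Omega F ⇑Q).index = 2 := by
  rw [omega_eq_ker_dickson hB h2 hn hex, Subgroup.index_ker]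
  obtain ⟨v, hv⟩ := exists_aniso hB hn
  obtain ⟨r, hr⟩ := exists_refl hB hv
  have htop : (dickson hB).range = ⊤ := by
    refine eq_top_iff.2 fun u _ => ?_
    rcases Int.units_eq_one_or u with e | e <;> subst e
    · exact one_mem _
    · exact ⟨r, dickson_refl hB hr⟩
  rw [htop]
  simp

theorem index_omega_odd (hB : Nondeg Q) (h2 : (2 : F) ≠ 0) (hn : 2 ≤ Module.finrank F (ι → F)) :
    (Cfsg.Omega F ⇑Q).index = 4 := by
  obtain ⟨h1, htop, -⟩ := omega_eq_ker_psi hB h2 hn (one_ne_zero (α := F))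
  rw [h1, Subgroup.index_ker, htop]
  simp

end CfsgLib.Orth
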