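import Cfsg.Agent.Lib.Classical.Klein
import Cfsg.Agent.Lib.Classical.OmegaOnto
import Cfsg.Agent.Lib.Classical.SympTrans
import Cfsg.Agent.Lib.Classical.SympOrder

set_option autoImplicit false

/-!
`PΩ_5(q) ≅ PSp_4(q)`: the Klein correspondence restricted to the symplectic group.
-/

namespace CfsgLib.Classical.KleinFive

open Matrix CfsgLib.Orth

variable {F : Type*} [Field F]

/-- Invariant vector of the symplectic group. -/
def w0 : Fin 3 ⊕ Fin 3 → F := Sum.elim ![0, 1, 0] ![0, -1, 0]

/-- The embedding of the odd space onto the perp of `w0`. -/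
def em (v : Unit ⊕ (Fin 2 ⊕ Fin 2) → F) : Fin 3 ⊕ Fin 3 → F :=
  Sum.elim ![v (.inr (.inl 0)), v (.inl ()), v (.inr (.inl 1))]
    ![v (.inr (.inr 0)), v (.inl ()), v (.inr (.inr 1))]

/-- The retraction. -/
def re (x : Fin 3 ⊕ Fin 3 → F) : Unit ⊕ (Fin 2 ⊕ Fin 2) → F :=
  Sum.elim (fun _ => x (.inl 1)) (Sum.elim ![x (.inl 0), x (.inl 2)] ![x (.inr 0), x (.inr 2)])

theorem re_em (v : Unit ⊕ (Fin 2 ⊕ Fin 2) → F) : re (em v) = v := by
  funext s
  rcases s with s | s | s
  · rfl
  all_goals fin_cases s <;> rfl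

theorem em_re {x : Fin 3 ⊕ Fin 3 → F} (h : x (.inr 1) = x (.inl 1)) : em (re x) = x := by
  funext s
  rcases s with s | s <;> fin_cases s <;> simp [em, re, h]

theorem q_em (v : Unit ⊕ (Fin 2 ⊕ Fin 2) → F) :
    Cfsg.quadFormPlus 3 F (em v) = Cfsg.quadFormOdd 2 F v := by
  simp [Cfsg.quadFormPlus, Cfsg.quadFormOdd, em, Fin.sum_univ_three, Fin.sum_univ_two]
  ring

theorem q_polar (y : Fin 3 ⊕ Fin 3 → F) :
    Cfsg.quadFormPlus 3 F (y + w0) = Cfsg.quadFormPlus 3 F y + (y (.inr 1) - y (.inl 1)) - 1 := by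
  simp [Cfsg.quadFormPlus, w0, Fin.sum_univ_three]
  ring

/-- The linear map as a matrix. -/
noncomputable def mat (N : Matrix (Fin 3 ⊕ Fin 3) (Fin 3 ⊕ Fin 3) F) :
    Matrix (Unit ⊕ (Fin 2 ⊕ Fin 2)) (Unit ⊕ (Fin 2 ⊕ Fin 2)) F :=
  LinearMap.toMatrix'
    { toFun := fun v => re (N *ᵥ em v)
      map_add' := fun u v => by
        rw [show em (u + v) = em u + em v from ?_, Matrix.mulVec_add]
        · funext s
          rcases s with s | s | s
          · rfl
          all_goals fin_cases s <;> rfl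
        · funext s
          rcases s with s | s <;> fin_cases s <;> rfl
      map_smul' := fun c v => by
        rw [show em (c • v) = c • em v from ?_, Matrix.mulVec_smul]
        · funext s
          rcases s with s | s | s
          · rfl
          all_goals fin_cases s <;> rfl
        · funext s
          rcases s with s | s <;> fin_cases s <;> rfl }

theorem mat_mulVec (N : Matrix (Fin 3 ⊕ Fin 3) (Fin 3 ⊕ Fin 3) F) (v : Unit ⊕ (Fin 2 ⊕ Fin 2) → F) :
    mat N *ᵥ v = re (N *ᵥ em v) := by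
  rw [mat, LinearMap.toMatrix'_mulVec]
  rfl

/-- Reindexing to `Fin 4`. -/
def four (A : Matrix (Fin 2 ⊕ Fin 2) (Fin 2 ⊕ Fin 2) F) : Matrix (Fin 4) (Fin 4) F :=
  Matrix.reindex finSumFinEquiv finSumFinEquiv A

theorem four_mul (A B : Matrix (Fin 2 ⊕ Fin 2) (Fin 2 ⊕ Fin 2) F) :
    four (A * B) = four A * four B := (Matrix.submatrix_mul_equiv A B _ _ _).symm

theorem four_one : four (1 : Matrix (Fin 2 ⊕ Fin 2) (Fin 2 ⊕ Fin 2) F) = 1 :=
  Matrix.submatrix_one_equiv _

theorem comp_w0 (g : symplecticGroup (Fin 2) F) : Klein.comp (four g.1) *ᵥ w0 = w0 := by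
  have h : ∀ a b, (g.1 * Matrix.J (Fin 2) F * g.1ᵀ) a b = Matrix.J (Fin 2) F a b := fun a b => by
    rw [SymplecticGroup.mem_iff.1 g.2]
  have h02 := h (.inl 0) (.inr 0)
  have h13 := h (.inl 1) (.inr 1)
  have h01 := h (.inl 0) (.inl 1)
  have h03 := h (.inl 0) (.inr 1)
  have h23 := h (.inr 0) (.inr 1)
  have h12 := h (.inl 1) (.inr 0)
  simp [Matrix.mul_apply, Matrix.J, Fintype.sum_sum_type, Fin.sum_univ_two, Matrix.fromBlocks,
    Matrix.one_apply] at h02 h13 h01 h03 h23 h12
  funext s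
  rcases s with s | s <;> fin_cases s <;>
    simp [Klein.comp, Klein.wedge, Klein.pr, w0, four, Matrix.mulVec, dotProduct,
      Fintype.sum_sum_type, Fin.sum_univ_three,
      show finSumFinEquiv.symm (0 : Fin (2 + 2)) = Sum.inl 0 by decide,
      show finSumFinEquiv.symm (1 : Fin (2 + 2)) = Sum.inl 1 by decide,
      show finSumFinEquiv.symm (2 : Fin (2 + 2)) = Sum.inr 0 by decide,
      show finSumFinEquiv.symm (3 : Fin (2 + 2)) = Sum.inr 1 by decide] <;>
    first
    | linear_combination -h01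
    | linear_combination -h02
    | linear_combination -h03
    | linear_combination -h23
    | linear_combination -h13
    | linear_combination -h12
    | linear_combination h01
    | linear_combination h02
    | linear_combination h03
    | linear_combination h23
    | linear_combination h13
    | linear_combination h12

theorem det_four (g : symplecticGroup (Fin 2) F) : (four g.1).det = 1 := by
  have h := Klein.comp_isometry (four g.1) (w0 (F := F))
  rw [comp_w0] at h
  have e : Cfsg.quadFormPlus 3 F (w0 (F := F)) = -1 := by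
    simp [Cfsg.quadFormPlus, w0, Fin.sum_univ_three]
  rw [e] at h
  linear_combination h

theorem keeps_perp (g : symplecticGroup (Fin 2) F) (x : Fin 3 ⊕ Fin 3 → F) :
    (Klein.comp (four g.1) *ᵥ x) (.inr 1) - (Klein.comp (four g.1) *ᵥ x) (.inl 1) =
      x (.inr 1) - x (.inl 1) := by
  have h := Klein.comp_isometry (four g.1) (x + w0)
  rw [Matrix.mulVec_add, comp_w0, q_polar, q_polar, Klein.comp_isometry, det_four, one_mul,
    one_mul] at h
  linear_combination h

theorem em_re_comp (g : symplecticGroup (Fin 2) F) (v : Unit ⊕ (Fin 2 ⊕ Fin 2) → F) :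
    em (re (Klein.comp (four g.1) *ᵥ em v)) = Klein.comp (four g.1) *ᵥ em v := by
  refine em_re ?_
  have h := keeps_perp g (em v)
  have e : em v (.inr 1) = em v (.inl 1) := rfl
  rw [e, sub_self] at h
  exact sub_eq_zero.1 h

theorem pomega_five [Fintype F] (hodd : Odd (Fintype.card F)) :
    Nonempty (Cfsg.POmega F (Cfsg.quadFormOdd 2 F) ≃* Cfsg.PSp 2 F) := by
  classical
  have h3 : 3 ≤ Fintype.card F := by
    have := Fintype.one_lt_card (α := F)
    rw [Nat.odd_iff] at hodd; omega
  have h2 : (2 : F) ≠ 0 := by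
    refine Ring.two_ne_zero fun e => ?_
    have := FiniteField.even_card_of_char_two e
    rw [Nat.odd_iff] at hodd; omega
  obtain ⟨Q, hQ, hB⟩ := exists_quadForm_odd h2 2
  rw [← hQ]
  let M : symplecticGroup (Fin 2) F →*
      Matrix (Unit ⊕ (Fin 2 ⊕ Fin 2)) (Unit ⊕ (Fin 2 ⊕ Fin 2)) F :=
    { toFun := fun g => mat (Klein.comp (four g.1))
      map_one' := by
        refine Matrix.ext_of_mulVec_single fun t => ?_
        rw [mat_mulVec, OneMemClass.coe_one, four_one, Klein.comp_one, Matrix.one_mulVec, re_em,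
          Matrix.one_mulVec]
      map_mul' := fun a b => by
        refine Matrix.ext_of_mulVec_single fun t => ?_
        rw [← Matrix.mulVec_mulVec, mat_mulVec, mat_mulVec, mat_mulVec, em_re_comp,
          show ((a * b : symplecticGroup (Fin 2) F) : Matrix (Fin 2 ⊕ Fin 2) (Fin 2 ⊕ Fin 2) F) =
            a.1 * b.1 from rfl, four_mul, Klein.comp_mul, Matrix.mulVec_mulVec] }
  let φ : symplecticGroup (Fin 2) F →* Grp Q := M.toHomUnits.codRestrict _ fun g x _ => by
    show Q (mat (Klein.comp (four g.1)) *ᵥ x) = Q x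
    rw [hQ, mat_mulVec, ← q_em, em_re_comp, Klein.comp_isometry, det_four, one_mul, q_em]
  have hperf : commutator (symplecticGroup (Fin 2) F) = ⊤ :=
    SympTrans.commutator_of_card (Or.inr (Or.inl ⟨rfl, by rw [Nat.card_eq_fintype_card]; exact h3⟩))
  have hrange : φ.range ≤ Cfsg.Omega F ⇑Q := by
    rw [MonoidHom.range_eq_map, ← hperf]
    show _ ≤ commutator _
    rw [commutator_def, commutator_def, Subgroup.map_commutator]
    exact Subgroup.commutator_mono le_top le_top
  let f := φ.codRestrict (Cfsg.Omega F ⇑Q) fun g => hrange ⟨g, rfl⟩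
  have hker : ∀ g ∈ f.ker, ∃ c : F, c * c = 1 ∧
      g.1 = c • (1 : Matrix (Fin 2 ⊕ Fin 2) (Fin 2 ⊕ Fin 2) F) := fun g hg => by
    have h : mat (Klein.comp (four g.1)) = 1 := congrArg (fun x : Cfsg.Omega F ⇑Q =>
      (((x : Grp Q) : GL (Unit ⊕ (Fin 2 ⊕ Fin 2)) F) :
        Matrix (Unit ⊕ (Fin 2 ⊕ Fin 2)) (Unit ⊕ (Fin 2 ⊕ Fin 2)) F)) (MonoidHom.mem_ker.1 hg)
    have hfix : ∀ x, Klein.comp (four g.1) *ᵥ x = x := fun x => by
      set c : F := (x (.inl 1) - x (.inr 1)) / 2 with hc
      have hp : (x - c • (w0 (F := F))) (.inr 1) = (x - c • (w0 (F := F))) (.inl 1) := by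
        simp only [w0, Pi.sub_apply, Pi.smul_apply, Sum.elim_inl, Sum.elim_inr, Matrix.cons_val_one,
          Matrix.cons_val_zero, smul_eq_mul, hc]
        field_simp
        ring
      have hy : Klein.comp (four g.1) *ᵥ (x - c • (w0 (F := F))) = x - c • (w0 (F := F)) := by
        rw [← em_re hp, ← em_re_comp g, ← mat_mulVec, h, Matrix.one_mulVec]
      rw [Matrix.mulVec_sub, Matrix.mulVec_smul, comp_w0] at hy
      exact sub_left_injective hy
    obtain ⟨c, hc, hg'⟩ := Klein.ker_scalar (four g.1)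
      (Matrix.ext_of_mulVec_single fun t => by rw [hfix, Matrix.one_mulVec])
    refine ⟨c, hc, ?_⟩
    ext i j
    have := congrFun (congrFun hg' (finSumFinEquiv i)) (finSumFinEquiv j)
    simpa [four, Matrix.one_apply] using this
  have hk : Nat.card f.ker ≤ 2 := by
    have hsub : Function.Injective (fun x : f.ker =>
        decide ((x.1.1 : Matrix (Fin 2 ⊕ Fin 2) (Fin 2 ⊕ Fin 2) F) = 1)) := fun a b hab => by
      obtain ⟨c, hc, ha⟩ := hker a.1 a.2
      obtain ⟨d, hd, hb⟩ := hker b.1 b.2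
      refine Subtype.ext (Subtype.ext ?_)
      simp only [decide_eq_decide] at hab
      have h11 : (-1 : F) ≠ 1 := fun e => h2 (by linear_combination -e)
      have hne : ((-1 : F) • (1 : Matrix (Fin 2 ⊕ Fin 2) (Fin 2 ⊕ Fin 2) F)) ≠ 1 := fun e => h11 (by
        simpa using congrFun (congrFun e (.inl 0)) (.inl 0))
      rcases mul_self_eq_one_iff.1 hc with rfl | rfl <;> rcases mul_self_eq_one_iff.1 hd with rfl | rfl
      · rw [ha, hb]
      · exfalso; exact hne (hb ▸ hab.1 (by rw [ha, one_smul]))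
      · exfalso; exact hne (ha ▸ hab.2 (by rw [hb, one_smul]))
      · rw [ha, hb]
    exact (Nat.card_le_card_of_injective _ hsub).trans (by simp)
  have hsurj : Function.Surjective f := by
    refine surjective_of_count f (index_omega_odd hB h2 (by simp)) hk ?_
    rw [SympTrans.card_symplectic, show Nat.card ↥(Cfsg.isometryGroup F ⇑Q) = Nat.card (Grp Q) from rfl,
      card_orth_odd h2 2 hQ hB]
    ring
  obtain ⟨e⟩ := center_quotient_equiv hperf f hsurj fun g hg => by
    obtain ⟨c, -, hc⟩ := hker g hg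
    refine Subgroup.mem_center_iff.2 fun s => Subtype.ext ?_
    show s.1 * g.1 = g.1 * s.1
    rw [hc, Matrix.mul_smul, Matrix.smul_mul, Matrix.mul_one, Matrix.one_mul]
  exact ⟨e.symm⟩

end CfsgLib.Classical.KleinFive
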