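import Cfsg.Agent.Lib.Classical.SympExtField
import Cfsg.Agent.Lib.Classical.SympTrans
import Cfsg.Prelude.Def_GeometricClasses

set_option autoImplicit false
set_option linter.unusedSectionVars false

/-!
The normaliser of a self-adjoint extension field of prime degree is maximal in the symplectic group.
-/

namespace CfsgLib.SympExt

open Matrix Module
open CfsgLib.Classical

variable {F : Type*} [Field F] [Finite F] {ι : Type} [Fintype ι] [DecidableEq ι]

/-- Invertible matrices as linear equivalences. -/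
noncomputable def toEquiv : GL ι F ≃* ((ι → F) ≃ₗ[F] (ι → F)) :=
  (Matrix.GeneralLinearGroup.toLin).trans
    (LinearMap.GeneralLinearGroup.generalLinearEquiv F (ι → F))

theorem toEquiv_apply (g : GL ι F) (x : ι → F) :
    toEquiv g x = (g : Matrix ι ι F) *ᵥ x := rfl

theorem core {m : ℕ} (hm : 0 < m) (hbig : 3 ≤ m ∨ 3 ≤ Nat.card F) {K : Type*} [Field K] [Algebra F K] [Finite K]
    (hrK : (Module.finrank F K).Prime)
    (ρ : K →ₐ[F] Matrix (Fin m ⊕ Fin m) (Fin m ⊕ Fin m) F)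
    (hsa : Cfsg.Geo.IsSelfAdjointFor (Cfsg.sympForm m F) ρ.range)
    (halt : ∀ k : K, ∀ v : Fin m ⊕ Fin m → F, Cfsg.sympForm m F (Matrix.mulVec (ρ k) v) v = 0) :
    Cfsg.Geo.IsMaximalIn (Cfsg.spGL m F)
      (Cfsg.Geo.subalgebraNormalizer ρ.range ⊓ Cfsg.spGL m F) := by
  classical
  letI : Module K (Fin m ⊕ Fin m → F) := Module.compHom _ ρ.toRingHom
  have hsm : ∀ (k : K) (x : Fin m ⊕ Fin m → F), k • x = ρ k *ᵥ x := fun k x => rfl
  haveI : IsScalarTower F K (Fin m ⊕ Fin m → F) := IsScalarTower.of_algebraMap_smul fun c x => by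
    rw [hsm, AlgHom.commutes, Algebra.algebraMap_eq_smul_one, smul_mulVec, one_mulVec]
  haveI : FiniteDimensional F K := Module.Finite.of_finite
  set B : (Fin m ⊕ Fin m → F) →ₗ[F] (Fin m ⊕ Fin m → F) →ₗ[F] F :=
    LinearMap.mk₂ F (Cfsg.sympForm m F) SympTrans.f_add_left SympTrans.f_smul_left
      (fun u v w => SympTrans.f_add_right u v w) (fun a u v => SympTrans.f_smul_right a u v) with hBd
  have hBa : ∀ x y, B x y = Cfsg.sympForm m F x y := fun x y => rfl
  -- a functional and the representation of the others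
  obtain ⟨t, ht⟩ : ∃ t : K →ₗ[F] F, t ≠ 0 := by
    obtain ⟨ℓ, hℓ, -⟩ := Submodule.exists_le_ker_of_notMem
      (show (1 : K) ∉ (⊥ : Submodule F K) by simpa using (one_ne_zero : (1 : K) ≠ 0))
    exact ⟨ℓ, fun e => hℓ (by rw [e]; rfl)⟩
  set e : K →ₗ[F] (K →ₗ[F] F) := (LinearMap.mul F K).compr₂ t with he
  have hinj : Function.Injective e := by
    rw [← LinearMap.ker_eq_bot, LinearMap.ker_eq_bot']
    intro z hz
    by_contra hz0
    refine ht (LinearMap.ext fun k => ?_)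
    have h1 : t (z * (z⁻¹ * k)) = 0 := LinearMap.congr_fun hz (z⁻¹ * k)
    rwa [mul_inv_cancel_left₀ hz0] at h1
  have hfin : finrank F K = finrank F (K →ₗ[F] F) := (Subspace.dual_finrank_eq).symm
  set R := (LinearEquiv.ofInjectiveOfFinrankEq e hinj hfin).symm.toLinearMap with hR
  have hrep : ∀ (ℓ : K →ₗ[F] F) (μ : K), t (μ * R ℓ) = ℓ μ := fun ℓ μ => by
    have h1 : e (R ℓ) = ℓ := (LinearEquiv.ofInjectiveOfFinrankEq e hinj hfin).apply_symm_apply ℓ
    rw [mul_comm]
    exact LinearMap.congr_fun h1 μ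
  have hS : Setup B t R :=
    ⟨SympTrans.f_self, fun x h => SympTrans.eq_zero_of_f x h,
      fun k x y => hsa (ρ k) ⟨k, rfl⟩ x y, fun k x => halt k x, hrep, ht⟩
  have hsp : ∀ g : GL (Fin m ⊕ Fin m) F, g ∈ Cfsg.spGL m F ↔
      ∀ x y, B (toEquiv g x) (toEquiv g y) = B x y := fun g => Iff.rfl
  -- the transvections over `K`
  have htvK : ∀ a lam, toEquiv.symm (tvK hS a lam) ∈
      Cfsg.Geo.subalgebraNormalizer ρ.range ⊓ Cfsg.spGL m F := by
    intro a lam
    set g := toEquiv.symm (tvK hS a lam) with hg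
    have hgx : ∀ x, (g : Matrix (Fin m ⊕ Fin m) (Fin m ⊕ Fin m) F) *ᵥ x = x + op B R (line a) lam x := fun x => by
      rw [← toEquiv_apply, hg, MulEquiv.apply_symm_apply, tvK_apply]
    refine ⟨fun k => ?_, (hsp g).2 fun x y => ?_⟩
    · have hc : ∀ k ∈ ρ.range, (g : Matrix (Fin m ⊕ Fin m) (Fin m ⊕ Fin m) F) * k = k * (g : Matrix (Fin m ⊕ Fin m) (Fin m ⊕ Fin m) F) := fun k hk => by
        refine Matrix.ext_iff_mulVec.2 fun x => ?_
        rw [← mulVec_mulVec, ← mulVec_mulVec, hgx, hgx, mulVec_add]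
        congr 1
        obtain ⟨k0, rfl⟩ := hk
        exact op_line_smul hS a lam k0 x
      constructor
      · intro hk
        rw [hc k hk, mul_assoc, Units.mul_inv, mul_one]
        exact hk
      · intro hk
        have h3 := hc _ hk
        rw [mul_assoc _ _ (g : Matrix (Fin m ⊕ Fin m) (Fin m ⊕ Fin m) F), Units.inv_mul, mul_one] at h3
        have h2 : k = (g : Matrix (Fin m ⊕ Fin m) (Fin m ⊕ Fin m) F) * k *
            ((g⁻¹ : GL (Fin m ⊕ Fin m) F) : Matrix (Fin m ⊕ Fin m) (Fin m ⊕ Fin m) F) :=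
          (Units.mul_right_inj g).1 h3.symm
        rw [h2]; exact hk
    · rw [toEquiv_apply, toEquiv_apply, hgx, hgx, op_line_iso hS]
  -- transvections of the symplectic group
  have hT : ∀ v c x, toEquiv ((SympTrans.toSpGL (SympTrans.T v c)) : GL (Fin m ⊕ Fin m) F) x =
      x + tt B c v x := fun v c x => by
    rw [toEquiv_apply, SympTrans.toSpGL_coe, tt_apply, hBa, smul_smul]
    exact SympTrans.app_T v c x
  refine ⟨lt_of_le_not_ge inf_le_right fun hge => ?_, fun M h1 h2 => ?_⟩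
  · obtain ⟨a, ha⟩ : ∃ a : Fin m ⊕ Fin m → F, a ≠ 0 :=
      ⟨Pi.single (Sum.inl ⟨0, by omega⟩) 1, by simp⟩
    obtain ⟨ω, hω⟩ : ∃ ω : K, ω ∉ Submodule.span F {(1 : K)} := by
      refine not_forall.1 fun hall => ?_
      have h3 := Submodule.eq_top_iff'.2 hall
      have h4 : finrank F (Submodule.span F {(1 : K)}) = finrank F K := by rw [h3, finrank_top]
      rw [finrank_span_singleton one_ne_zero] at h4
      have := hrK.one_lt
      omega
    obtain ⟨ℓ, hℓ, hker⟩ := Submodule.exists_le_ker_of_notMem hω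
    have hℓ1 : ℓ 1 = 0 := hker (Submodule.mem_span_singleton_self _)
    obtain ⟨y, hy⟩ : ∃ y, zeta B R (line a) y ≠ 0 := by
      by_contra hc
      push Not at hc
      refine ha (hS.nd a fun y => ?_)
      have h3 := zeta_spec hS (line a) y 1
      rw [hc y, mul_zero, map_zero, line_apply, one_smul] at h3
      rw [antisymm hS, ← h3, neg_zero]
    set x := (R ℓ / zeta B R (line a) y) • y with hx
    have hBx : ∀ μ : K, B x (μ • a) = ℓ μ := fun μ => by
      rw [← line_apply (F := F), ← zeta_spec hS, hx, zeta_line_smul hS, div_mul_cancel₀ _ hy, hrep]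
    set g : GL (Fin m ⊕ Fin m) F := (SympTrans.toSpGL (SympTrans.T x 1) : GL (Fin m ⊕ Fin m) F) with hg
    have hN := (hge (SympTrans.toSpGL (SympTrans.T x 1)).2).1
    obtain ⟨k', hk'⟩ := (hN (ρ ω)).1 ⟨ω, rfl⟩
    have hga : toEquiv g a = a := by
      rw [hg, hT, tt_apply, antisymm hS, ← one_smul K a, hBx, hℓ1, neg_zero, zero_smul, smul_zero,
        add_zero]
    have e : toEquiv g (ω • a) = k' • a := by
      conv_rhs => rw [← hga]
      rw [hsm k', show ρ k' = _ from hk', toEquiv_apply _ a]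
      rw [mulVec_mulVec, mul_assoc, mul_assoc, Units.inv_mul, mul_one, toEquiv_apply]
      exact mulVec_mulVec a _ _
    rw [hg, hT, tt_apply, one_smul, antisymm hS, hBx] at e
    set d := k' - ω with hd
    have hxa : (-ℓ ω) • x = d • a := by rw [hd, sub_smul, ← e, add_sub_cancel_left]
    have h5 : B ((-ℓ ω) • x) (ω • a) = 0 := by rw [hxa, b_line hS]
    rw [LinearMap.map_smul₂, hBx, smul_eq_mul, neg_mul, neg_eq_zero,
      mul_self_eq_zero] at h5
    exact hℓ h5
  set M' := M.map (toEquiv (ι := Fin m ⊕ Fin m) (F := F)).toMonoidHom with hM'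
  have hover : Over B R M' := by
    refine ⟨?_, fun a lam => ?_⟩
    · rintro _ ⟨g, hg, rfl⟩ x y
      exact (hsp g).1 (h2 hg) x y
    · exact ⟨tvK hS a lam, ⟨_, h1 (htvK a lam), toEquiv.apply_symm_apply _⟩, fun x => rfl⟩
  by_cases hbad : ∃ g ∈ M, ∃ (a : Fin m ⊕ Fin m → F) (μ : K),
      ∀ k : K, toEquiv g (μ • a) ≠ k • toEquiv g a
  · right
    obtain ⟨g, hg, a, μ, hmove⟩ := hbad
    have hdim : 6 ≤ finrank F (Fin m ⊕ Fin m → F) ∨ 3 ≤ Nat.card F := hbig.imp_left fun h => by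
      rw [Module.finrank_fintype_fun_eq_card, Fintype.card_sum, Fintype.card_fin]; omega
    have hall : ∀ (v : Fin m ⊕ Fin m → F) (c : F), ((SympTrans.toSpGL (SympTrans.T v c)) : GL (Fin m ⊕ Fin m) F) ∈ M := by
      intro v c
      by_cases hv : v = 0
      · rw [hv, SympTrans.T_zero', map_one]; exact M.one_mem
      obtain ⟨_, ⟨g', hg', rfl⟩, hx⟩ := all_transvections hS hover hrK hdim
        (g := toEquiv g) ⟨g, hg, rfl⟩ hmove c hv
      have : g' = ((SympTrans.toSpGL (SympTrans.T v c)) : GL (Fin m ⊕ Fin m) F) := toEquiv.injective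
        (LinearEquiv.ext fun x => by rw [hT]; exact hx x)
      exact this ▸ hg'
    refine le_antisymm h2 fun g hg => ?_
    obtain ⟨s, hs⟩ := SympTrans.toSpGL_surjective (⟨g, hg⟩ : Cfsg.spGL m F)
    have hle : SympTrans.gen (Set.univ : Set (Fin m ⊕ Fin m → F)) ≤
        (M.comap (Cfsg.spGL m F).subtype).comap SympTrans.toSpGL := by
      rw [SympTrans.gen, Subgroup.closure_le]
      rintro _ ⟨v, -, c, rfl⟩
      exact hall v c
    have := hle (show s ∈ SympTrans.gen (Set.univ : Set (Fin m ⊕ Fin m → F)) by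
      rw [SympTrans.gen_univ]; trivial)
    rw [Subgroup.mem_comap, hs] at this
    exact this
  · left
    push Not at hbad
    refine le_antisymm (fun g hg => ⟨fun k => ?_, h2 hg⟩) h1
    have key : ∀ g ∈ M, ∀ k ∈ ρ.range, (g : Matrix (Fin m ⊕ Fin m) (Fin m ⊕ Fin m) F) * k * ((g⁻¹ : GL (Fin m ⊕ Fin m) F) : Matrix (Fin m ⊕ Fin m) (Fin m ⊕ Fin m) F) ∈ ρ.range := by
      intro g hg k hk
      obtain ⟨k, rfl⟩ := hk
      obtain ⟨k', hk'⟩ := normalizes hS hover (g := toEquiv g)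
        (fun a μ => hbad g hg a μ) k
      have e1 : (g : Matrix (Fin m ⊕ Fin m) (Fin m ⊕ Fin m) F) * ρ k = ρ k' * (g : Matrix (Fin m ⊕ Fin m) (Fin m ⊕ Fin m) F) := by
        refine Matrix.ext_iff_mulVec.2 fun x => ?_
        rw [← mulVec_mulVec, ← mulVec_mulVec]
        exact hk' x
      rw [show ρ.toRingHom k = ρ k from rfl, e1, mul_assoc, Units.mul_inv, mul_one]
      exact ⟨k', rfl⟩
    refine ⟨key g hg k, fun h => ?_⟩
    have h3 := key g⁻¹ (M.inv_mem hg) _ h
    simpa [mul_assoc, ← mul_assoc ((g⁻¹ : GL (Fin m ⊕ Fin m) F) : Matrix (Fin m ⊕ Fin m) (Fin m ⊕ Fin m) F)] using h3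

theorem isMaximalIn {m : ℕ} (hm : 0 < m) (hbig : 3 ≤ m ∨ 3 ≤ Nat.card F) {r : ℕ} (hr : r.Prime)
    (K : Subalgebra F (Matrix (Fin m ⊕ Fin m) (Fin m ⊕ Fin m) F))
    (hK : Cfsg.Geo.IsFieldSubalgebra r K)
    (hsa : Cfsg.Geo.IsSelfAdjointFor (Cfsg.sympForm m F) K)
    (halt : ∀ k ∈ K, ∀ v : Fin m ⊕ Fin m → F, Cfsg.sympForm m F (Matrix.mulVec k v) v = 0) :
    Cfsg.Geo.IsMaximalIn (Cfsg.spGL m F)
      (Cfsg.Geo.subalgebraNormalizer K ⊓ Cfsg.spGL m F) := by
  haveI : Nonempty (Fin m ⊕ Fin m) := ⟨Sum.inl ⟨0, by omega⟩⟩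
  have hfield : IsField K :=
    ⟨⟨0, 1, fun e => zero_ne_one (congrArg Subtype.val e)⟩,
      fun a b => Subtype.ext (hK.comm a a.2 b b.2),
      fun {a} ha => by
        obtain ⟨y, hy, e⟩ := hK.inv a a.2 fun e => ha (Subtype.ext e)
        exact ⟨⟨y, hy⟩, Subtype.ext e⟩⟩
  letI : Field K := hfield.toField
  haveI : Finite K := Finite.of_injective _ Subtype.val_injective
  have hrK : (Module.finrank F K).Prime := by rw [hK.finrank_eq]; exact hr
  have h := core hm hbig hrK K.val (by rw [Subalgebra.range_val]; exact hsa) (fun k v => halt k k.2 v)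
  rwa [Subalgebra.range_val] at h

end CfsgLib.SympExt
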