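import Cfsg.Agent.Lib.Classical.SympOverfieldU
import Cfsg.Agent.Lib.Classical.SympExtFieldMax

set_option autoImplicit false
set_option linter.unusedSectionVars false

/-!
The normaliser of a quadratic extension with non-trivial adjoint is maximal in the symplectic group.
-/

namespace CfsgLib.SympU

open Matrix Module
open CfsgLib.Classical
open CfsgLib.SympExt (InM tt sy tt_apply toEquiv toEquiv_apply)

variable {F : Type*} [Field F] [Finite F] {m : ℕ}
variable {K : Subalgebra F (Matrix (Fin m ⊕ Fin m) (Fin m ⊕ Fin m) F)}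

local notation "Mat" => Matrix (Fin m ⊕ Fin m) (Fin m ⊕ Fin m) F

theorem exists_span (hm : 1 ≤ m) (hK : Cfsg.Geo.IsFieldSubalgebra 2 K) {j : Mat} (hj : j ∈ K)
    (hjs : ∀ c : F, j ≠ c • (1 : Mat)) {x : Mat} (hx : x ∈ K) :
    ∃ p q : F, x = p • (1 : Mat) + q • j := by
  haveI : Nonempty (Fin m ⊕ Fin m) := ⟨Sum.inl ⟨0, by omega⟩⟩
  have hli : LinearIndependent F ![(1 : Mat), j] := by
    rw [LinearIndependent.pair_iff]
    intro s t h
    by_cases ht : t = 0
    · rw [ht, zero_smul, add_zero] at h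
      exact ⟨(smul_eq_zero.1 h).resolve_right one_ne_zero, ht⟩
    · exfalso
      refine hjs (-(s / t)) ?_
      rw [div_eq_inv_mul, neg_smul, mul_smul, eq_neg_of_add_eq_zero_left h, smul_neg,
        inv_smul_smul₀ ht, neg_neg]
  have hle : Submodule.span F (Set.range ![(1 : Mat), j]) ≤ Subalgebra.toSubmodule K := by
    rw [Submodule.span_le]
    rintro _ ⟨i, rfl⟩
    fin_cases i
    · exact K.one_mem
    · exact hj
  have heq := Submodule.eq_of_le_of_finrank_eq hle (by
    rw [finrank_span_eq_card hli, Fintype.card_fin]; exact hK.finrank_eq.symm)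
  have hx' : x ∈ Submodule.span F ({(1 : Mat), j} : Set Mat) := by
    have : x ∈ Subalgebra.toSubmodule K := hx
    rw [← heq] at this
    simpa [Matrix.range_cons, Matrix.range_empty, Set.union_comm] using this
  obtain ⟨p, q, e⟩ := Submodule.mem_span_pair.1 hx'
  exact ⟨p, q, e.symm⟩

theorem exists_root (hm : 1 ≤ m) (h2 : (2 : F) ≠ 0) (hK : Cfsg.Geo.IsFieldSubalgebra 2 K)
    (hac : Cfsg.Geo.IsAdjointClosedFor (Cfsg.sympForm m F) K)
    (hnsa : ¬ Cfsg.Geo.IsSelfAdjointFor (Cfsg.sympForm m F) K) :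
    ∃ (j : Mat) (d : F), j ∈ K ∧ (∀ c : F, j ≠ c • (1 : Mat)) ∧ j * j = d • (1 : Mat) ∧
      (∀ c : F, c * c ≠ d) ∧
      ∀ x y, Cfsg.sympForm m F (j *ᵥ x) y = -Cfsg.sympForm m F x (j *ᵥ y) := by
  classical
  haveI : Nonempty (Fin m ⊕ Fin m) := ⟨Sum.inl ⟨0, by omega⟩⟩
  obtain ⟨j, hj, hjs⟩ : ∃ j ∈ K, ∀ c : F, j ≠ c • (1 : Mat) := by
    by_contra hc
    push Not at hc
    have hle : Subalgebra.toSubmodule K ≤ Submodule.span F {(1 : Mat)} := by
      intro x hx
      obtain ⟨c, rfl⟩ := hc x hx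
      exact Submodule.smul_mem _ _ (Submodule.mem_span_singleton_self _)
    have h1 := Submodule.finrank_mono hle
    rw [finrank_span_singleton one_ne_zero] at h1
    have h2 : Module.finrank F (Subalgebra.toSubmodule K) = 2 := hK.finrank_eq
    omega
  obtain ⟨j', hj', hadj⟩ := hac j hj
  obtain ⟨a, b, hab⟩ := exists_span hm hK hj hjs hj'
  have hadj' : ∀ u v, Cfsg.sympForm m F (j' *ᵥ u) v = Cfsg.sympForm m F u (j *ᵥ v) := fun u v => by
    rw [SympTrans.f_swap, ← hadj, SympTrans.f_swap, neg_neg]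
  have huniq : ∀ p q : F, (∀ u v, Cfsg.sympForm m F ((p • (1 : Mat) + q • j) *ᵥ u) v = 0) →
      p = 0 ∧ q = 0 := by
    intro p q h
    have h0 : p • (1 : Mat) + q • j = 0 := Matrix.ext_iff_mulVec.2 fun u => by
      rw [zero_mulVec]; exact SympTrans.eq_zero_of_f _ (h u)
    by_cases hq : q = 0
    · rw [hq, zero_smul, add_zero] at h0
      exact ⟨(smul_eq_zero.1 h0).resolve_right one_ne_zero, hq⟩
    · exfalso
      refine hjs (-(p / q)) ?_
      rw [div_eq_inv_mul, neg_smul, mul_smul, eq_neg_of_add_eq_zero_left h0, smul_neg,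
        inv_smul_smul₀ hq, neg_neg]
  have hb : a + b * a = 0 ∧ b * b - 1 = 0 := by
    refine huniq _ _ fun u v => ?_
    have e1 : Cfsg.sympForm m F (j *ᵥ u) v =
        a * Cfsg.sympForm m F u v + b * Cfsg.sympForm m F u (j *ᵥ v) := by
      rw [hadj, hab, add_mulVec, smul_mulVec, smul_mulVec, one_mulVec, SympTrans.f_add_right,
        SympTrans.f_smul_right, SympTrans.f_smul_right]
    have e2 : Cfsg.sympForm m F u (j *ᵥ v) =
        a * Cfsg.sympForm m F u v + b * Cfsg.sympForm m F (j *ᵥ u) v := by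
      rw [← hadj', hab, add_mulVec, smul_mulVec, smul_mulVec, one_mulVec, SympTrans.f_add_left,
        SympTrans.f_smul_left, SympTrans.f_smul_left]
    simp only [add_mulVec, smul_mulVec, one_mulVec, SympTrans.f_add_left, SympTrans.f_smul_left]
    linear_combination -e1 - b * e2
  have hb1 : b = -1 := by
    rcases mul_self_eq_one_iff.1 (sub_eq_zero.1 hb.2) with hb' | hb'
    · exfalso
      refine hnsa fun k hk u v => ?_
      have ha0 : a = 0 := by
        have h3 := hb.1
        rw [hb'] at h3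
        exact (mul_eq_zero.1 (show (2 : F) * a = 0 by linear_combination h3)).resolve_left h2
      have hsa : j' = j := by rw [hab, hb', ha0, zero_smul, zero_add, one_smul]
      obtain ⟨p, q, rfl⟩ := exists_span hm hK hj hjs hk
      simp only [add_mulVec, smul_mulVec, one_mulVec, SympTrans.f_add_left, SympTrans.f_add_right,
        SympTrans.f_smul_left, SympTrans.f_smul_right]
      rw [hadj, hsa]
    · exact hb'
  set J := j - (a / 2) • (1 : Mat) with hJ
  have hJK : J ∈ K := K.sub_mem hj (K.smul_mem K.one_mem _)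
  have hJs : ∀ c : F, J ≠ c • (1 : Mat) := fun c e => hjs (c + a / 2) (by
    rw [add_smul, ← e, hJ, sub_add_cancel])
  have hskew : ∀ x y, Cfsg.sympForm m F (J *ᵥ x) y = -Cfsg.sympForm m F x (J *ᵥ y) := fun x y => by
    simp only [hJ, sub_mulVec, smul_mulVec, one_mulVec, SympTrans.f_sub_left, SympTrans.f_sub_right,
      SympTrans.f_smul_left, SympTrans.f_smul_right]
    rw [hadj, hab, hb1, add_mulVec, smul_mulVec, smul_mulVec, one_mulVec, SympTrans.f_add_right,
      SympTrans.f_smul_right, SympTrans.f_smul_right]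
    field_simp
    ring
  obtain ⟨d, e, hde⟩ := exists_span hm hK hJK hJs (K.mul_mem hJK hJK)
  have he : e = 0 := by
    have hh : ∀ x y, e * Cfsg.sympForm m F (J *ᵥ x) y = 0 := fun x y => by
      have h1 : Cfsg.sympForm m F ((J * J) *ᵥ x) y = Cfsg.sympForm m F x ((J * J) *ᵥ y) := by
        rw [← mulVec_mulVec, ← mulVec_mulVec, hskew, hskew, neg_neg]
      simp only [hde, add_mulVec, smul_mulVec, one_mulVec, SympTrans.f_add_left,
        SympTrans.f_add_right, SympTrans.f_smul_left, SympTrans.f_smul_right] at h1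
      have h3 := hskew x y
      refine (mul_eq_zero.1 (show (2 : F) * (e * Cfsg.sympForm m F (J *ᵥ x) y) = 0 by
        linear_combination h1 + e * h3)).resolve_left h2
    by_contra he
    refine hJs 0 ?_
    rw [zero_smul]
    refine Matrix.ext_iff_mulVec.2 fun x => ?_
    rw [zero_mulVec]
    exact SympTrans.eq_zero_of_f _ fun y => (mul_eq_zero.1 (hh x y)).resolve_left he
  rw [he, zero_smul, add_zero] at hde
  refine ⟨J, d, hJK, hJs, hde, fun c hc => ?_, hskew⟩
  have h1 : (J - c • (1 : Mat)) * (J + c • (1 : Mat)) = 0 := by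
    simp only [sub_mul, mul_add, smul_mul_assoc, mul_smul_comm, one_mul, mul_one, hde, smul_smul]
    rw [← hc]
    module
  by_cases h3 : J - c • (1 : Mat) = 0
  · exact hJs c (sub_eq_zero.1 h3)
  obtain ⟨y, hy, hyx⟩ := hK.inv _ (K.sub_mem hJK (K.smul_mem K.one_mem c)) h3
  refine hJs (-c) ?_
  rw [neg_smul, eq_neg_iff_add_eq_zero]
  have h4 : (y * (J - c • (1 : Mat))) * (J + c • (1 : Mat)) = 0 := by rw [mul_assoc, h1, mul_zero]
  rwa [← hK.comm _ (K.sub_mem hJK (K.smul_mem K.one_mem c)) y hy, hyx, one_mul] at h4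

theorem isMaximalIn (hm : 5 ≤ m) (h2 : (2 : F) ≠ 0) (hK : Cfsg.Geo.IsFieldSubalgebra 2 K)
    (hac : Cfsg.Geo.IsAdjointClosedFor (Cfsg.sympForm m F) K)
    (hnsa : ¬ Cfsg.Geo.IsSelfAdjointFor (Cfsg.sympForm m F) K) :
    Cfsg.Geo.IsMaximalIn (Cfsg.spGL m F)
      (Cfsg.Geo.subalgebraNormalizer K ⊓ Cfsg.spGL m F) := by
  classical
  obtain ⟨j, d, hj, hjs, hjj, hns, hskew⟩ := exists_root (by omega) h2 hK hac hnsa
  set B : (Fin m ⊕ Fin m → F) →ₗ[F] (Fin m ⊕ Fin m → F) →ₗ[F] F :=
    LinearMap.mk₂ F (Cfsg.sympForm m F) SympTrans.f_add_left SympTrans.f_smul_left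
      (fun u v w => SympTrans.f_add_right u v w) (fun a u v => SympTrans.f_smul_right a u v) with hBd
  have hBa : ∀ x y, B x y = Cfsg.sympForm m F x y := fun x y => rfl
  set J := Matrix.toLin' j with hJ
  have hJa : ∀ x, J x = j *ᵥ x := fun x => Matrix.toLin'_apply _ _
  have hS : Setup B J d := by
    refine ⟨h2, SympTrans.f_self, fun x h => SympTrans.eq_zero_of_f x h, fun x y => ?_, fun x => ?_,
      hns, ?_⟩
    · rw [hJa, hJa]; exact hskew x y
    · rw [hJa, hJa, mulVec_mulVec, hjj, smul_mulVec, one_mulVec]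
    · rw [Module.finrank_fintype_fun_eq_card, Fintype.card_sum, Fintype.card_fin]; omega
  have hN : ∀ g : GL (Fin m ⊕ Fin m) F, (∀ x, toEquiv g (J x) = J (toEquiv g x)) →
      g ∈ Cfsg.Geo.subalgebraNormalizer K := by
    intro g hg
    have hc : ∀ k ∈ K, (g : Mat) * k = k * (g : Mat) := fun k hk => by
      obtain ⟨p, q, rfl⟩ := exists_span (by omega) hK hj hjs hk
      have e : (g : Mat) * j = j * (g : Mat) := Matrix.ext_iff_mulVec.2 fun x => by
        have := hg x
        rwa [toEquiv_apply, toEquiv_apply, hJa, hJa, mulVec_mulVec, mulVec_mulVec] at this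
      rw [mul_add, add_mul, mul_smul_comm, mul_smul_comm, mul_one, smul_mul_assoc, smul_mul_assoc,
        one_mul, e]
    intro k
    constructor
    · intro hk
      rw [hc k hk, mul_assoc, Units.mul_inv, mul_one]
      exact hk
    · intro hk
      have h3 := hc _ hk
      rw [mul_assoc _ _ (g : Mat), Units.inv_mul, mul_one] at h3
      have h4 : k = (g : Mat) * k * ((g⁻¹ : GL (Fin m ⊕ Fin m) F) : Mat) :=
        (Units.mul_right_inj g).1 h3.symm
      rw [h4]; exact hk
  have hT : ∀ (v : Fin m ⊕ Fin m → F) (c : F) (x : Fin m ⊕ Fin m → F),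
      toEquiv ((SympTrans.toSpGL (SympTrans.T v c)) : GL (Fin m ⊕ Fin m) F) x =
      x + tt B c v x := fun v c x => by
    rw [toEquiv_apply, SympTrans.toSpGL_coe, tt_apply, hBa, smul_smul]
    exact SympTrans.app_T v c x
  refine ⟨lt_of_le_not_ge inf_le_right fun hge => ?_, fun M h1 h2 => ?_⟩
  · obtain ⟨a, x, ha, hax, hjax⟩ := exists_moving hS
    have hN' := (hge (SympTrans.toSpGL (SympTrans.T x 1)).2).1
    set g : GL (Fin m ⊕ Fin m) F :=
      ((SympTrans.toSpGL (SympTrans.T x 1)) : GL (Fin m ⊕ Fin m) F) with hg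
    obtain ⟨p, q, hpq⟩ := exists_span (by omega) hK hj hjs ((hN' j).1 hj)
    have hga : toEquiv g a = a := by
      rw [hg, hT, tt_apply, hax, zero_smul, smul_zero, add_zero]
    have e : toEquiv g (J a) = p • a + q • J a := by
      have h3 := congrArg (fun k => k *ᵥ toEquiv g a) hpq
      simp only [toEquiv_apply, mulVec_mulVec, mul_assoc, Units.inv_mul, mul_one, add_mulVec,
        smul_mulVec, one_mul] at h3
      rw [← mulVec_mulVec, ← mulVec_mulVec, ← toEquiv_apply, ← toEquiv_apply g a, hga, add_mulVec,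
        smul_mulVec, smul_mulVec, one_mulVec] at h3
      rw [hJa]
      exact h3
    rw [hg, hT, tt_apply, one_smul] at e
    have h4 := congrArg (fun z => B z (J a)) e
    simp only [map_add, map_smul, LinearMap.add_apply, LinearMap.smul_apply, hS.alt, smul_eq_mul,
      mul_zero, zero_add, add_zero] at h4
    rw [antisymm hS (J a) x, antisymm hS (J a) a, ha] at h4
    simp only [neg_zero, mul_zero] at h4
    exact hjax (mul_self_eq_zero.1 (by linear_combination -h4))
  set M' := M.map (toEquiv (ι := Fin m ⊕ Fin m) (F := F)).toMonoidHom with hM'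
  have hin : ∀ N : (Fin m ⊕ Fin m → F) →ₗ[F] (Fin m ⊕ Fin m → F), (∀ x, N (N x) = 0) →
      (∀ x y, B (N x) y + B x (N y) = 0) → (∀ x, N (J x) = J (N x)) → InM M' N := by
    intro N h0 hsk hj'
    let e : (Fin m ⊕ Fin m → F) ≃ₗ[F] (Fin m ⊕ Fin m → F) :=
      LinearEquiv.ofLinearMap (LinearMap.id + N) (LinearMap.id - N)
        (LinearMap.ext fun x => by simp [h0, map_sub])
        (LinearMap.ext fun x => by simp [h0, map_add])
    have hex : ∀ x, toEquiv (toEquiv.symm e) x = x + N x := fun x => by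
      rw [MulEquiv.apply_symm_apply]; rfl
    refine ⟨e, ⟨toEquiv.symm e, h1 ⟨hN _ fun x => ?_, fun x y => ?_⟩, toEquiv.apply_symm_apply _⟩,
      fun x => rfl⟩
    · rw [hex, hex, map_add, hj']
    · show B (toEquiv (toEquiv.symm e) x) (toEquiv (toEquiv.symm e) y) = B x y
      rw [hex, hex, map_add, map_add, LinearMap.add_apply, LinearMap.add_apply]
      have h3 : B (N x) (N y) = 0 := by
        have := hsk x (N y)
        rwa [h0, map_zero, add_zero] at this
      linear_combination hsk x y + h3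
  have hover : Over B J d M' := by
    refine ⟨?_, fun a s ha => ?_, fun c w h => ?_⟩
    · rintro _ ⟨g, hg, rfl⟩ x y
      exact h2 hg x y
    · exact hin _ (utv_sq hS ha s) (utv_skew hS a s) (utv_j hS a s)
    · exact hin _ (shift_sq hS h) (shift_skew hS c w) (shift_j hS c w)
  by_cases hbad : ∃ g ∈ M, ∃ a : Fin m ⊕ Fin m → F, B (J a) a = 0 ∧
      toEquiv g (J a) ∉ Submodule.span F {x | x ∈ [toEquiv g a, J (toEquiv g a)]}
  · right
    obtain ⟨g, hg, a, ha, hmove⟩ := hbad
    have hall : ∀ (v : Fin m ⊕ Fin m → F) (c : F),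
        ((SympTrans.toSpGL (SympTrans.T v c)) : GL (Fin m ⊕ Fin m) F) ∈ M := by
      intro v c
      obtain ⟨_, ⟨g', hg', rfl⟩, hx⟩ :=
        all_transvections hS hover (g0 := toEquiv g) ⟨g, hg, rfl⟩ ha hmove v c
      have : g' = ((SympTrans.toSpGL (SympTrans.T v c)) : GL (Fin m ⊕ Fin m) F) := toEquiv.injective
        (LinearEquiv.ext fun x => by rw [hT]; exact hx x)
      exact this ▸ hg'
    refine le_antisymm h2 fun g hg => ?_
    obtain ⟨s, hs⟩ := SympTrans.toSpGL_surjective (⟨g, hg⟩ : Cfsg.spGL m F)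
    have hle : SympTrans.gen (Set.univ : Set (Fin m ⊕ Fin m → F)) ≤
        (M.comap (Cfsg.spGL m F).subtype).comap SympTrans.toSpGL := by
      rw [SympTrans.gen, Subgroup.closure_le]
      rintro _ ⟨v, -, c, rfl⟩
      exact hall v c
    have := hle (show s ∈ SympTrans.gen (Set.univ : Set (Fin m ⊕ Fin m → F)) by
      rw [SympTrans.gen_univ]; trivial)
    rw [Subgroup.mem_comap, hs] at this
    exact this
  · left
    push Not at hbad
    refine le_antisymm (fun g hg => ⟨fun k => ?_, h2 hg⟩) h1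
    have key : ∀ g ∈ M, ∀ k ∈ K, (g : Mat) * k * ((g⁻¹ : GL (Fin m ⊕ Fin m) F) : Mat) ∈ K := by
      intro g hg k hk
      obtain ⟨α, β, hαβ⟩ := conj_mem_span hS (g := toEquiv g) (fun a ha => hbad g hg a ha)
      obtain ⟨p, q, rfl⟩ := exists_span (by omega) hK hj hjs hk
      have e : (g : Mat) * j = (α • (1 : Mat) + β • j) * (g : Mat) := by
        refine Matrix.ext_iff_mulVec.2 fun x => ?_
        have := hαβ x
        simp only [toEquiv_apply, hJa] at this
        rw [← mulVec_mulVec, ← mulVec_mulVec, add_mulVec, smul_mulVec, smul_mulVec, one_mulVec]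
        exact this
      simp only [mul_add, add_mul, mul_smul_comm, smul_mul_assoc, mul_one, Units.mul_inv]
      rw [e, mul_assoc, Units.mul_inv, mul_one]
      exact K.add_mem (K.smul_mem K.one_mem p)
        (K.smul_mem (K.add_mem (K.smul_mem K.one_mem α) (K.smul_mem hj β)) q)
    refine ⟨key g hg k, fun h => ?_⟩
    have h3 := key g⁻¹ (M.inv_mem hg) _ h
    simpa [mul_assoc, ← mul_assoc ((g⁻¹ : GL (Fin m ⊕ Fin m) F) : Mat)] using h3

end CfsgLib.SympU
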