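import Cfsg.Agent.Lib.Classical.SympStab

set_option autoImplicit false

/-!
In odd characteristic the stabiliser of a pair of complementary Lagrangians is a maximal subgroup
of the symplectic group.
-/

namespace CfsgLib.Classical.SympPair

open Matrix Cfsg SympTrans SympStab

variable {F : Type*} [Field F] {m : ℕ}

local notation "G" => Matrix.symplecticGroup (Fin m) F
local notation "ω" => sympForm m F

/-- A polarisation. -/
structure Pol (U W : Submodule F (Fin m ⊕ Fin m → F)) : Prop where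
  compl : IsCompl U W
  u0 : ∀ x ∈ U, ∀ y ∈ U, sympForm m F x y = 0
  w0 : ∀ x ∈ W, ∀ y ∈ W, sympForm m F x y = 0
  dimU : Module.finrank F U = m
  dimW : Module.finrank F W = m

theorem Pol.symm {U W : Submodule F (Fin m ⊕ Fin m → F)} (P : Pol U W) : Pol W U :=
  ⟨P.compl.symm, P.w0, P.u0, P.dimW, P.dimU⟩

/-- The elements preserving or interchanging `U` and `W`. -/
def pstab (U W : Submodule F (Fin m ⊕ Fin m → F)) : Set G :=
  {g | ((∀ x ∈ U, app g x ∈ U) ∧ ∀ x ∈ W, app g x ∈ W) ∨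
    ((∀ x ∈ U, app g x ∈ W) ∧ ∀ x ∈ W, app g x ∈ U)}

theorem E_comm {a b : Fin m ⊕ Fin m → F} (h : ω a b = 0) : E a b = E b a := ext_app fun x => by
  rw [app_E h, app_E (by rw [f_swap, h, neg_zero]), add_right_comm]

theorem E_smul {a b : Fin m ⊕ Fin m → F} (c : F) (h : ω a b = 0) : E (c • a) b = E a (c • b) :=
  ext_app fun x => by
    rw [app_E (by rw [f_smul_left, h, mul_zero]), app_E (by rw [f_smul_right, h, mul_zero]),
      f_smul_right, f_smul_right, smul_smul, smul_smul, mul_comm c, mul_comm c]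

theorem E_mul {a a' b : Fin m ⊕ Fin m → F} (h : ω a b = 0) (h' : ω a' b = 0) :
    E a b * E a' b = E (a + a') b * T b (ω a' a) := by
  refine ext_app fun x => ?_
  have h'' : ω (a + a') b = 0 := by rw [f_add_left, h, h', add_zero]
  have hb : ω b a = 0 := by rw [f_swap, h, neg_zero]
  have hb' : ω b a' = 0 := by rw [f_swap, h', neg_zero]
  rw [app_mul, app_mul, app_E h', app_E h, app_E h'', app_T]
  simp only [f_add_left, f_add_right, f_smul_left, f_self, h', hb, hb', mul_zero, add_zero, smul_add]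
  module

theorem E_self (b : Fin m ⊕ Fin m → F) (c : F) : E (c • b) b = T b (2 * c) := ext_app fun x => by
  rw [app_E (by rw [f_smul_left, f_self, mul_zero]), app_T, f_smul_right]
  module

theorem E_mem_pstab {U W : Submodule F (Fin m ⊕ Fin m → F)} (P : Pol U W)
    {a b : Fin m ⊕ Fin m → F} (ha : a ∈ U) (hb : b ∈ W) (h : ω a b = 0) : E a b ∈ pstab U W := by
  refine Or.inl ⟨fun x hx => ?_, fun x hx => ?_⟩ <;> rw [app_E h]
  · rw [P.u0 x hx a ha, zero_smul, add_zero]
    exact U.add_mem hx (U.smul_mem _ ha)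
  · rw [P.w0 x hx b hb, zero_smul, add_zero]
    exact W.add_mem hx (W.smul_mem _ hb)

theorem conj_E (g : G) {a b : Fin m ⊕ Fin m → F} (h : ω a b = 0) :
    g * E a b * g⁻¹ = E (app g a) (app g b) := by
  refine ext_app fun x => ?_
  have h' : ω (app g a) (app g b) = 0 := by rw [f_app, h]
  rw [app_mul, app_mul, app_E h, app_E h', app_add, app_add, app_smul, app_smul, app_inv']
  have e1 : ω (app g⁻¹ x) a = ω x (app g a) := by
    conv_rhs => rw [← app_inv' g x, f_app]
  have e2 : ω (app g⁻¹ x) b = ω x (app g b) := by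
    conv_rhs => rw [← app_inv' g x, f_app]
  rw [e1, e2]

/-- Two pairs sharing a vector give transvections. -/
theorem mem_centres_of_pairs (h2 : (2 : F) ≠ 0) {K : Subgroup G} {b y a' : Fin m ⊕ Fin m → F}
    (hy : ∀ l : F, E (l • y) b ∈ K) (ha : E a' b ∈ K) (hyb : ω y b = 0) (hab : ω a' b = 0)
    (h : ω a' y ≠ 0) : b ∈ centres K := by
  intro c
  have hl : ω ((c / (2 * ω a' y)) • y) b = 0 := by rw [f_smul_left, hyb, mul_zero]
  have h0 := hy (c / (2 * ω a' y))
  set y' := (c / (2 * ω a' y)) • y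
  have h1 := K.mul_mem (K.mul_mem h0 ha) (K.inv_mem (K.mul_mem ha h0))
  rw [E_mul hl hab, E_mul hab hl, add_comm a' y', _root_.mul_inv_rev] at h1
  have e : E (y' + a') b * T b (ω a' y') * ((T b (ω y' a'))⁻¹ * (E (y' + a') b)⁻¹) =
      E (y' + a') b * T b c * (E (y' + a') b)⁻¹ := by
    rw [inv_eq_of_mul_eq_one_right (by rw [T_mul, add_neg_cancel, T_zero] :
      T b (ω y' a') * T b (-ω y' a') = 1), ← mul_assoc, mul_assoc _ (T b (ω a' y')), T_mul,
      show ω a' y' + -ω y' a' = c by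
        rw [f_swap a' y', neg_neg, f_smul_right]
        field_simp
        ring]
  rw [e, conj_T, app_E (by rw [f_add_left, hl, hab, add_zero]),
    show ω b (y' + a') = 0 by rw [f_swap, f_add_left, hl, hab, add_zero, neg_zero], f_self,
    zero_smul, zero_smul, add_zero, add_zero] at h1
  exact h1

variable {U W : Submodule F (Fin m ⊕ Fin m → F)}

theorem exists_parts (P : Pol U W) (x : Fin m ⊕ Fin m → F) :
    ∃ x1 ∈ U, ∃ x2 ∈ W, x = x1 + x2 := by
  obtain ⟨a, ha, b, hb, h⟩ := Submodule.mem_sup.1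
    (show x ∈ U ⊔ W by rw [P.compl.sup_eq_top]; exact Submodule.mem_top)
  exact ⟨a, ha, b, hb, h.symm⟩

/-- Separation inside a member of a polarisation. -/
theorem exists_sep (P : Pol U W) {Q : Submodule F (Fin m ⊕ Fin m → F)} {x : Fin m ⊕ Fin m → F}
    (hQ : Q ≤ U) (hx : x ∈ U) (hxQ : x ∉ Q) :
    ∃ c ∈ W, (∀ z ∈ Q, ω z c = 0) ∧ ω x c = 1 := by
  obtain ⟨z, hz⟩ : ∃ z, (∀ q ∈ Q, ω q z = 0) ∧ ω x z ≠ 0 := by
    by_contra hc
    push Not at hc
    exact hxQ (mem_of_orth_orth (W := Q) fun u hu => hc u hu)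
  obtain ⟨z1, hz1, z2, hz2, rfl⟩ := exists_parts P z
  have e : ∀ q ∈ U, ω q (z1 + z2) = ω q z2 := fun q hq => by
    rw [f_add_right, P.u0 q hq z1 hz1, zero_add]
  rw [e x hx] at hz
  refine ⟨(ω x z2)⁻¹ • z2, W.smul_mem _ hz2, fun q hq => ?_, ?_⟩
  · rw [f_smul_right, ← e q (hQ hq), hz.1 q hq, mul_zero]
  · rw [f_smul_right, inv_mul_cancel₀ hz.2]

theorem E_flip {U W : Submodule F (Fin m ⊕ Fin m → F)} {K : Subgroup G}
    (hK : ∀ a ∈ U, ∀ b ∈ W, ω a b = 0 → E a b ∈ K) : ∀ a ∈ W, ∀ b ∈ U, ω a b = 0 → E a b ∈ K :=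
  fun a ha b hb e => by rw [E_comm e]; exact hK b hb a ha (by rw [f_swap, e, neg_zero])

theorem centres_of_mem (h2 : (2 : F) ≠ 0) (P : Pol U W) {K : Subgroup G}
    (hK : ∀ a ∈ U, ∀ b ∈ W, ω a b = 0 → E a b ∈ K) {x y : Fin m ⊕ Fin m → F}
    (hxy : ω x y = 0) (hp : ∀ l : F, E (l • x) y ∈ K) (hy : y ∈ U) (hy0 : y ≠ 0) (hx : x ∉ W) :
    ∃ v ∈ U, v ≠ 0 ∧ v ∈ centres K := by
  refine ⟨y, hy, hy0, ?_⟩
  obtain ⟨x1, hx1, x2, hx2, rfl⟩ := exists_parts P x
  by_cases hxs : x1 ∈ Submodule.span F {y}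
  · obtain ⟨μ, rfl⟩ := Submodule.mem_span_singleton.1 hxs
    have hμ : μ ≠ 0 := fun e => hx (by rw [e, zero_smul, zero_add]; exact hx2)
    have hyx2 : ω x2 y = 0 := by
      rwa [f_add_left, f_smul_left, f_self, mul_zero, zero_add] at hxy
    intro c
    set l := c / (2 * μ)
    have hA : ω ((-l) • x2) y = 0 := by rw [f_smul_left, hyx2, mul_zero]
    have h1 : E ((-l) • x2) y ∈ K := by
      rw [E_comm hA]
      exact hK _ hy _ (W.smul_mem _ hx2) (by rw [f_swap, hA, neg_zero])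
    have h3 := K.mul_mem (hp l) h1
    rw [E_mul (by rw [f_smul_left, hxy, mul_zero]) hA,
      show l • (μ • y + x2) + (-l) • x2 = (l * μ) • y by module,
      show ω ((-l) • x2) (l • (μ • y + x2)) = 0 by
        rw [f_smul_left, f_smul_right, f_add_right, f_smul_right, hyx2, f_self]; ring,
      T_zero, mul_one, E_self] at h3
    rwa [show 2 * (l * μ) = c by simp only [l]; field_simp] at h3
  · obtain ⟨c, hc, hcy, hcx⟩ := exists_sep P ((Submodule.span_singleton_le_iff_mem _ _).2 hy) hx1 hxs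
    have hyc := hcy y (Submodule.mem_span_singleton_self y)
    have hcy' : ω c y = 0 := by rw [f_swap, hyc, neg_zero]
    refine mem_centres_of_pairs h2 hp ?_ hxy hcy' ?_
    · rw [E_comm hcy']
      exact hK _ hy _ hc hyc
    · rw [f_add_right, P.w0 c hc x2 hx2, add_zero, f_swap, hcx]
      exact neg_ne_zero.2 one_ne_zero

theorem pstab_symm (U W : Submodule F (Fin m ⊕ Fin m → F)) :
    (pstab W U : Set G) = pstab U W := by
  ext g
  exact ⟨fun h => h.imp And.symm And.symm, fun h => h.imp And.symm And.symm⟩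

/-- An element fixing the second vector of a pair moves the pair to the displacement of the
first. -/
theorem pair_move (h2 : (2 : F) ≠ 0) {K : Subgroup G} {x y : Fin m ⊕ Fin m → F} {h : G}
    (hxy : ω x y = 0) (hp : ∀ l : F, E (l • x) y ∈ K) (hh : h ∈ K) (hy : app h y = y) :
    ∀ l : F, E (l • (app h x - x)) y ∈ K := by
  have hx' : ω (app h x) y = 0 := by
    conv_lhs => rw [← hy]
    rw [f_app, hxy]
  have hz : ω (app h x - x) y = 0 := by rw [f_sub_left, hx', hxy, sub_zero]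
  set c := ω (app h x) x with hc
  have hA : ∀ t : F, E (t • (app h x - x)) y * T y (t * t * c) ∈ K := fun t => by
    have ht : ω (t • x) y = 0 := by rw [f_smul_left, hxy, mul_zero]
    have h1 := K.mul_mem (K.mul_mem (K.mul_mem hh (hp t)) (K.inv_mem hh)) (hp (-t))
    have e1 : ω (t • app h x) y = 0 := by rw [f_smul_left, hx', mul_zero]
    have e2 : ω ((-t) • x) y = 0 := by rw [f_smul_left, hxy, mul_zero]
    rw [conj_E h ht, app_smul, hy, E_mul e1 e2, show t • app h x + (-t) • x = t • (app h x - x) by module,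
      show ω ((-t) • x) (t • app h x) = t * t * c by
        rw [f_smul_left, f_smul_right, f_swap (app h x) x, hc]; ring] at h1
    exact h1
  intro l
  have h3 := K.inv_mem (hA (-(l / 2)))
  have ht : ∀ t : F, ω (t • (app h x - x)) y = 0 := fun t => by rw [f_smul_left, hz, mul_zero]
  have hinv : (E ((-(l / 2)) • (app h x - x)) y)⁻¹ = E ((l / 2) • (app h x - x)) y :=
    inv_eq_of_mul_eq_one_right (by
      rw [E_mul (ht _) (ht _), ← add_smul, neg_add_cancel, zero_smul,
        show ω ((l / 2) • (app h x - x)) ((-(l / 2)) • (app h x - x)) = 0 by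
          rw [f_smul_left, f_smul_right, f_self, mul_zero, mul_zero], T_zero, mul_one]
      refine ext_app fun z => ?_
      rw [app_E (by rw [f_zero_left]), f_zero_right, app_one]
      simp)
  have hT : (T y ((-(l / 2)) * (-(l / 2)) * c))⁻¹ = T y (-((l / 2) * (l / 2) * c)) :=
    inv_eq_of_mul_eq_one_right (by rw [T_mul, neg_mul_neg, add_neg_cancel, T_zero])
  rw [_root_.mul_inv_rev, hinv, hT] at h3
  have h4 := K.mul_mem (hA (l / 2)) h3
  rw [mul_assoc, ← mul_assoc (T y _), T_mul, add_neg_cancel, T_zero, one_mul,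
    E_mul (ht _) (ht _), ← add_smul, show l / 2 + l / 2 = l by field_simp; ring,
    show ω ((l / 2) • (app h x - x)) ((l / 2) • (app h x - x)) = 0 from f_self _, T_zero,
    mul_one] at h4
  exact h4

/-- A pair with independent components gives a centre. -/
theorem centres_of_generic (h2 : (2 : F) ≠ 0) (hm : 3 ≤ m) (P : Pol U W) {K : Subgroup G}
    (hK : ∀ a ∈ U, ∀ b ∈ W, ω a b = 0 → E a b ∈ K) {x1 x2 y1 y2 : Fin m ⊕ Fin m → F}
    (hx1 : x1 ∈ U) (hx2 : x2 ∈ W) (hy1 : y1 ∈ U) (hy2 : y2 ∈ W)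
    (hxy : ω (x1 + x2) (y1 + y2) = 0) (hp : ∀ l : F, E (l • (x1 + x2)) (y1 + y2) ∈ K)
    (hy10 : y1 ≠ 0) (hy20 : y2 ≠ 0) (hind : x1 ∉ Submodule.span F {y1}) :
    ∃ v, (v ∈ U ∨ v ∈ W) ∧ v ≠ 0 ∧ v ∈ centres K := by
  have hyU : y1 + y2 ∉ U := fun h => hy20
    ((Submodule.eq_bot_iff _).1 P.compl.inf_eq_bot y2 ⟨(U.add_mem_iff_right hy1).1 h, hy2⟩)
  have hyW : y1 + y2 ∉ W := fun h => hy10
    ((Submodule.eq_bot_iff _).1 P.compl.inf_eq_bot y1 ⟨hy1, (W.add_mem_iff_left hy2).1 h⟩)
  obtain ⟨w, hw, hwy, hwx, hwi⟩ : ∃ w ∈ W, ω y1 w = 0 ∧ ω x1 w ≠ 0 ∧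
      w ∉ Submodule.span F {y2} := by
    obtain ⟨c, hc, hcy, hcx⟩ :=
      exists_sep P ((Submodule.span_singleton_le_iff_mem _ _).2 hy1) hx1 hind
    have hcy' := hcy y1 (Submodule.mem_span_singleton_self _)
    by_cases hci : c ∈ Submodule.span F {y2}
    swap
    · exact ⟨c, hc, hcy', by rw [hcx]; exact one_ne_zero, hci⟩
    obtain ⟨k, hk, hk0⟩ : ∃ k : W, (ω x1 (k : _) = 0 ∧ ω y1 (k : _) = 0) ∧ k ≠ 0 := by
      let L : W →ₗ[F] (Fin 2 → F) :=
        { toFun := fun w => ![ω x1 (w : _), ω y1 (w : _)]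
          map_add' := fun a b => by ext i; fin_cases i <;> simp [f_add_right]
          map_smul' := fun c a => by ext i; fin_cases i <;> simp [f_smul_right] }
      obtain ⟨k, hk, hk0⟩ := Submodule.exists_mem_ne_zero_of_ne_bot (p := LinearMap.ker L) fun e => by
        have h1 := L.finrank_range_add_finrank_ker
        rw [e, finrank_bot, P.dimW] at h1
        have h3 : Module.finrank F (LinearMap.range L) ≤ 2 :=
          (Submodule.finrank_le _).trans_eq (Module.finrank_fin_fun F)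
        omega
      exact ⟨k, ⟨congrFun (LinearMap.mem_ker.1 hk) 0, congrFun (LinearMap.mem_ker.1 hk) 1⟩, hk0⟩
    refine ⟨c + (k : _), W.add_mem hc k.2, by rw [f_add_right, hcy', hk.2, add_zero],
      by rw [f_add_right, hcx, hk.1, add_zero]; exact one_ne_zero, fun h => hk0 (Subtype.ext ?_)⟩
    obtain ⟨μ, hμ⟩ := Submodule.mem_span_singleton.1 ((Submodule.add_mem_iff_right _ hci).1 h)
    obtain ⟨ν, hν⟩ := Submodule.mem_span_singleton.1 hci
    have hxy2 : ω x1 y2 ≠ 0 := fun e => one_ne_zero (α := F) (by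
      rw [← hcx, ← hν, f_smul_right, e, mul_zero])
    have hk1 := hk.1
    rw [← hμ, f_smul_right] at hk1
    rw [← hμ, (mul_eq_zero.1 hk1).resolve_right hxy2, zero_smul]
    rfl
  obtain ⟨u, hu, huy, huw, hu0⟩ : ∃ u ∈ U, ω y2 u = 0 ∧ ω u w = 0 ∧ u ≠ 0 := by
    let L : U →ₗ[F] (Fin 2 → F) :=
      { toFun := fun u => ![ω y2 (u : _), ω (u : _) w]
        map_add' := fun a b => by ext i; fin_cases i <;> simp [f_add_right, f_add_left]
        map_smul' := fun c a => by ext i; fin_cases i <;> simp [f_smul_right, f_smul_left] }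
    obtain ⟨k, hk, hk0⟩ := Submodule.exists_mem_ne_zero_of_ne_bot (p := LinearMap.ker L) fun e => by
      have h1 := L.finrank_range_add_finrank_ker
      rw [e, finrank_bot, P.dimU] at h1
      have h3 : Module.finrank F (LinearMap.range L) ≤ 2 :=
        (Submodule.finrank_le _).trans_eq (Module.finrank_fin_fun F)
      omega
    exact ⟨k, k.2, congrFun (LinearMap.mem_ker.1 hk) 0, congrFun (LinearMap.mem_ker.1 hk) 1,
      fun e => hk0 (Subtype.ext e)⟩
  set x := x1 + x2 with hx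
  set y := y1 + y2 with hy
  have hyw : ω y w = 0 := by rw [hy, f_add_left, hwy, P.w0 _ hy2 _ hw, add_zero]
  have hyu : ω y u = 0 := by rw [hy, f_add_left, P.u0 _ hy1 _ hu, huy, add_zero]
  have hfix : app (E u w) y = y := by
    rw [app_E huw, hyw, hyu, zero_smul, zero_smul, add_zero, add_zero]
  have hz := pair_move h2 hxy hp (hK _ hu _ hw huw) hfix
  set z := app (E u w) x - x with hzd
  have hze : z = ω x w • u + ω x u • w := by rw [hzd, app_E huw, add_assoc, add_sub_cancel_left, add_comm]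
  have hxw : ω x w ≠ 0 := by rwa [hx, f_add_left, P.w0 _ hx2 _ hw, add_zero]
  have hzy : ω z y = 0 := by
    rw [hze, f_add_left, f_smul_left, f_smul_left, f_swap y u, hyu, f_swap y w, hyw]; ring
  have hzy' : ω y z = 0 := by rw [f_swap, hzy, neg_zero]
  have hz' : ∀ l : F, E (l • y) z ∈ K := fun l => by
    rw [E_smul l hzy', E_comm (by rw [f_smul_right, hzy', mul_zero])]
    exact hz l
  by_cases hxu : ω x u = 0
  · obtain ⟨v, hv, hv0, hvC⟩ := centres_of_mem h2 P hK hzy' hz'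
      (by rw [hze, hxu, zero_smul, add_zero]; exact U.smul_mem _ hu)
      (by rw [hze, hxu, zero_smul, add_zero]; exact smul_ne_zero hxw hu0) hyW
    exact ⟨v, Or.inl hv, hv0, hvC⟩
  obtain ⟨u', hu', hu'w, hu'y⟩ := exists_sep P.symm
    ((Submodule.span_singleton_le_iff_mem _ _).2 hw) hy2 (fun h => hwi (by
      obtain ⟨μ, hμ⟩ := Submodule.mem_span_singleton.1 h
      have hμ0 : μ ≠ 0 := fun e => hy20 (by rw [← hμ, e, zero_smul])
      exact Submodule.mem_span_singleton.2 ⟨μ⁻¹, by rw [← hμ, smul_smul, inv_mul_cancel₀ hμ0, one_smul]⟩))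
  have hu'w' : ω u' w = 0 := by rw [f_swap, hu'w _ (Submodule.mem_span_singleton_self _), neg_zero]
  have hzu' : ω z u' = 0 := by
    rw [hze, f_add_left, f_smul_left, f_smul_left, P.u0 _ hu _ hu', hu'w _ (Submodule.mem_span_singleton_self _)]
    ring
  have hzw : ω z w = 0 := by
    rw [hze, f_add_left, f_smul_left, f_smul_left, huw, f_self]; ring
  have hfix' : app (E u' w) z = z := by
    rw [app_E hu'w', hzu', hzw, zero_smul, zero_smul, add_zero, add_zero]
  have hw' := pair_move h2 hzy' hz' (hK _ hu' _ hw hu'w') hfix'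
  have hdy : app (E u' w) y - y = w := by
    rw [app_E hu'w', hyw, show ω y u' = 1 by rw [hy, f_add_left, P.u0 _ hy1 _ hu', hu'y, zero_add],
      zero_smul, add_zero, one_smul, add_sub_cancel_left]
  rw [hdy] at hw'
  have hwz : ω w z = 0 := by rw [f_swap, hzw, neg_zero]
  have hzU : z ∉ U := by
    rw [hze]
    intro h
    have h1 := (U.add_mem_iff_right (U.smul_mem _ hu)).1 h
    exact hwi ((Submodule.eq_bot_iff _).1 P.compl.inf_eq_bot _
      ⟨(U.smul_mem_iff hxu).1 h1, hw⟩ ▸ zero_mem _)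
  obtain ⟨v, hv, hv0, hvC⟩ := centres_of_mem h2 P.symm (E_flip hK)
    hzw (fun l => by
      rw [E_smul l hzw, E_comm (by rw [f_smul_right, hzw, mul_zero])]
      exact hw' l) hw (fun e => hwi (e ▸ zero_mem _)) hzU
  exact ⟨v, Or.inr hv, hv0, hvC⟩

theorem exists_centre (h2 : (2 : F) ≠ 0) (hm : 3 ≤ m) (P : Pol U W) {K : Subgroup G}
    (hK : ∀ a ∈ U, ∀ b ∈ W, ω a b = 0 → E a b ∈ K) {g : G} (hg : g ∈ K) (hgs : g ∉ pstab U W) :
    ∃ v, (v ∈ U ∨ v ∈ W) ∧ v ≠ 0 ∧ v ∈ centres K := by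
  by_contra hc
  push Not at hc
  have hK' := E_flip hK
  have key : ∀ {A B : Submodule F (Fin m ⊕ Fin m → F)}, Pol A B → (∀ a ∈ A, ∀ b ∈ B, ω a b = 0 → E a b ∈ K) →
      ∀ u ∈ A, app g u ∈ U ∨ app g u ∈ W := by
    intro A B PAB hAB u hu
    by_contra hor
    push Not at hor
    obtain ⟨hxU, hxW⟩ := hor
    obtain ⟨x1, hx1, x2, hx2, hx⟩ := exists_parts P (app g u)
    rw [hx] at hxU hxW
    have hx20 : x2 ≠ 0 := fun e => hxU (by rw [e, add_zero]; exact hx1)
    have hx10 : x1 ≠ 0 := fun e => hxW (by rw [e, zero_add]; exact hx2)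
    let L : B →ₗ[F] F :=
      { toFun := fun w => ω u (w : _)
        map_add' := fun a b => f_add_right _ _ _
        map_smul' := fun c a => f_smul_right c _ _ }
    set S := Submodule.span F (Set.range ![x1, x2])
    have himg : ∀ w : B, w ∈ LinearMap.ker L → app g w ∈ S := by
      intro w hw
      by_cases hw0 : (w : Fin m ⊕ Fin m → F) = 0
      · rw [hw0, show app g 0 = (0 : Fin m ⊕ Fin m → F) from mulVec_zero _]
        exact S.zero_mem
      have huw : ω u (w : _) = 0 := LinearMap.mem_ker.1 hw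
      have hxy : ω (app g u) (app g w) = 0 := by rw [f_app, huw]
      have hp : ∀ l : F, E (l • app g u) (app g w) ∈ K := fun l => by
        have hl : ω (l • u) (w : _) = 0 := by rw [f_smul_left, huw, mul_zero]
        rw [← app_smul, ← conj_E g hl]
        exact K.mul_mem (K.mul_mem hg (hAB _ (A.smul_mem l hu) _ w.2 hl)) (K.inv_mem hg)
      have hgw0 := app_ne_zero g hw0
      rw [hx] at hxy hp
      by_cases h1 : app g w ∈ U
      · obtain ⟨v, hv, hv0, hvC⟩ := centres_of_mem h2 P hK hxy hp h1 hgw0 hxW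
        exact absurd hvC (hc v (Or.inl hv) hv0)
      by_cases h3 : app g w ∈ W
      · obtain ⟨v, hv, hv0, hvC⟩ := centres_of_mem h2 P.symm hK' hxy hp h3 hgw0 hxU
        exact absurd hvC (hc v (Or.inr hv) hv0)
      obtain ⟨y1, hy1, y2, hy2, hy⟩ := exists_parts P (app g w)
      rw [hy] at hxy hp h1 h3 ⊢
      have hy20 : y2 ≠ 0 := fun e => h1 (by rw [e, add_zero]; exact hy1)
      have hy10 : y1 ≠ 0 := fun e => h3 (by rw [e, zero_add]; exact hy2)
      have e1 : x1 ∈ Submodule.span F {y1} := by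
        by_contra hind
        obtain ⟨v, hv, hv0, hvC⟩ := centres_of_generic h2 hm P hK hx1 hx2 hy1 hy2 hxy hp hy10 hy20 hind
        exact hc v hv hv0 hvC
      have e2 : x2 ∈ Submodule.span F {y2} := by
        by_contra hind
        obtain ⟨v, hv, hv0, hvC⟩ := centres_of_generic h2 hm P.symm hK' hx2 hx1 hy2 hy1
          (by rwa [add_comm x2, add_comm y2]) (by rwa [add_comm x2, add_comm y2]) hy20 hy10 hind
        exact hc v hv.symm hv0 hvC
      obtain ⟨a, ha⟩ := Submodule.mem_span_singleton.1 e1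
      obtain ⟨b, hb⟩ := Submodule.mem_span_singleton.1 e2
      have ha0 : a ≠ 0 := fun e => hx10 (by rw [← ha, e, zero_smul])
      have hb0 : b ≠ 0 := fun e => hx20 (by rw [← hb, e, zero_smul])
      rw [show y1 = a⁻¹ • x1 by rw [← ha, smul_smul, inv_mul_cancel₀ ha0, one_smul],
        show y2 = b⁻¹ • x2 by rw [← hb, smul_smul, inv_mul_cancel₀ hb0, one_smul]]
      exact S.add_mem (S.smul_mem _ (Submodule.subset_span ⟨0, rfl⟩))
        (S.smul_mem _ (Submodule.subset_span ⟨1, rfl⟩))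
    have h1 := L.finrank_range_add_finrank_ker
    have h3 : Module.finrank F (LinearMap.range L) ≤ 1 :=
      (Submodule.finrank_le _).trans_eq (Module.finrank_self F)
    let φ : LinearMap.ker L →ₗ[F] S := LinearMap.codRestrict S
      ((lin g).comp (B.subtype.comp (LinearMap.ker L).subtype)) fun w => himg _ w.2
    have hφ : Function.Injective φ := fun a b e =>
      Subtype.ext (Subtype.ext (app_injective g (congrArg Subtype.val e : _)))
    have h5 : Module.finrank F S ≤ 2 :=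
      (finrank_range_le_card (R := F) ![x1, x2]).trans_eq (Fintype.card_fin 2)
    have h6 := LinearMap.finrank_le_finrank_of_injective hφ
    rw [PAB.dimW] at h1
    have hH : Module.finrank F (LinearMap.ker L) = Module.finrank F S := by omega
    have hsur : Function.Surjective φ := by
      rw [← LinearMap.range_eq_top]
      exact Submodule.eq_top_of_finrank_eq ((LinearMap.finrank_range_of_inj hφ).trans hH)
    obtain ⟨w, hw⟩ := hsur ⟨x1 + x2, S.add_mem (Submodule.subset_span ⟨0, rfl⟩)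
      (Submodule.subset_span ⟨1, rfl⟩)⟩
    have e : app g ((w : B) : Fin m ⊕ Fin m → F) = x1 + x2 := congrArg Subtype.val hw
    rw [← hx] at e
    have hwu : ((w : B) : Fin m ⊕ Fin m → F) = u := app_injective g e
    have hu0 : u = 0 :=
      (Submodule.eq_bot_iff _).1 PAB.compl.inf_eq_bot u ⟨hu, hwu ▸ (w : B).2⟩
    refine hx20 ((Submodule.eq_bot_iff _).1 P.compl.inf_eq_bot x2 ⟨?_, hx2⟩)
    refine (U.add_mem_iff_right hx1).1 ?_
    rw [← hx, hu0, show app g 0 = (0 : Fin m ⊕ Fin m → F) from mulVec_zero _]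
    exact U.zero_mem
  have one : ∀ {A B : Submodule F (Fin m ⊕ Fin m → F)}, Pol A B → (∀ a ∈ A, ∀ b ∈ B, ω a b = 0 → E a b ∈ K) →
      (∀ x ∈ A, app g x ∈ U) ∨ ∀ x ∈ A, app g x ∈ W := by
    intro A B PAB hAB
    by_contra hcc
    push Not at hcc
    obtain ⟨⟨a, ha, hga⟩, b, hb, hgb⟩ := hcc
    have ga := (key PAB hAB a ha).resolve_left hga
    have gb := (key PAB hAB b hb).resolve_right hgb
    rcases key PAB hAB (a + b) (A.add_mem ha hb) with h | h <;> rw [app_add] at h
    · exact hga ((U.add_mem_iff_left gb).1 h)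
    · exact hgb ((W.add_mem_iff_right ga).1 h)
  have both : ∀ {X : Submodule F (Fin m ⊕ Fin m → F)}, Module.finrank F X = m →
      ¬ ((∀ x ∈ U, app g x ∈ X) ∧ ∀ x ∈ W, app g x ∈ X) := by
    intro X hX ⟨h1, h3⟩
    have hall : ∀ z ∈ (⊤ : Submodule F (Fin m ⊕ Fin m → F)), lin g z ∈ X := fun z _ => by
      obtain ⟨a, ha, b, hb, rfl⟩ := exists_parts P z
      show app g (a + b) ∈ X
      rw [app_add]
      exact X.add_mem (h1 a ha) (h3 b hb)
    have := LinearMap.finrank_le_finrank_of_injective (f := (lin g).restrict hall)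
      fun a b e => Subtype.ext (app_injective g (congrArg Subtype.val e))
    rw [finrank_top, Module.finrank_pi, Fintype.card_sum, Fintype.card_fin, hX] at this
    omega
  apply hgs
  rcases one P hK with h1 | h1 <;> rcases one P.symm hK' with h3 | h3
  · exact absurd ⟨h1, h3⟩ (both P.dimU)
  · exact Or.inl ⟨h1, h3⟩
  · exact Or.inr ⟨h1, h3⟩
  · exact absurd ⟨h1, h3⟩ (both P.dimW)

/-- An element interchanging `U` and `W`. -/
theorem exists_swap (P : Pol U W) :
    ∃ s : G, (∀ x ∈ U, app s x ∈ W) ∧ ∀ x ∈ W, app s x ∈ U := by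
  classical
  let ψ : W →ₗ[F] Module.Dual F U := LinearMap.mk₂ F (fun (w : W) (u : U) => ω (u : _) (w : _))
    (fun a b x => f_add_right _ _ _) (fun c a x => f_smul_right c _ _)
    (fun a x y => f_add_left _ _ _) (fun c a x => f_smul_left c _ _)
  have hψ : Function.Injective ψ := by
    rw [← LinearMap.ker_eq_bot, Submodule.eq_bot_iff]
    intro w hw
    refine Subtype.ext (eq_zero_of_f _ fun z => ?_)
    obtain ⟨a, ha, b, hb, rfl⟩ := exists_parts P z
    rw [f_add_right, P.w0 _ w.2 b hb, add_zero, f_swap, neg_eq_zero]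
    exact LinearMap.congr_fun hw ⟨a, ha⟩
  have hd : Module.finrank F W = Module.finrank F (Module.Dual F U) := by
    rw [Subspace.dual_finrank_eq, P.dimW, P.dimU]
  have hsur := (LinearMap.injective_iff_surjective_of_finrank_eq_finrank hd).1 hψ
  let e := Module.finBasis F U
  choose f hf using fun j => hsur (e.coord j)
  have hef : ∀ i j, ω (e i : Fin m ⊕ Fin m → F) (f j : _) = if i = j then 1 else 0 := fun i j => by
    rw [show ω (e i : Fin m ⊕ Fin m → F) (f j : _) = ψ (f j) (e i) from rfl, hf,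
      Module.Basis.coord_apply, Module.Basis.repr_self, Finsupp.single_apply]
  let L : (Fin m ⊕ Fin m → F) →ₗ[F] (Fin m ⊕ Fin m → F) :=
    { toFun := fun x => ∑ i, (ω x (f i : _) • (f i : Fin m ⊕ Fin m → F) +
        ω x (e i : _) • (e i : Fin m ⊕ Fin m → F))
      map_add' := fun x y => by
        rw [← Finset.sum_add_distrib]
        refine Finset.sum_congr rfl fun i _ => ?_
        rw [f_add_left, f_add_left]; module
      map_smul' := fun c x => by
        rw [RingHom.id_apply, Finset.smul_sum]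
        refine Finset.sum_congr rfl fun i _ => ?_
        rw [f_smul_left, f_smul_left]; module }
  have expand : ∀ y, y = ∑ i, (ω y (f i : _) • (e i : Fin m ⊕ Fin m → F) -
      ω y (e i : _) • (f i : Fin m ⊕ Fin m → F)) := by
    intro y
    obtain ⟨a, ha, b, hb, rfl⟩ := exists_parts P y
    have ea : ∀ i, ω (a + b) (f i : _) = e.repr ⟨a, ha⟩ i := fun i => by
      rw [f_add_left, P.w0 b hb _ (f i).2, add_zero]
      exact (LinearMap.congr_fun (hf i) ⟨a, ha⟩).trans (Module.Basis.coord_apply _ _ _)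
    have sumA : ∑ i, e.repr ⟨a, ha⟩ i • (e i : Fin m ⊕ Fin m → F) = a := by
      have := congrArg U.subtype (e.sum_repr ⟨a, ha⟩)
      rw [map_sum] at this
      exact this
    have sumB : ∑ i, -(ω (a + b) (e i : _)) • (f i : Fin m ⊕ Fin m → F) = b := by
      have hb' : (∑ i, -(ω b (e i : _)) • f i) = (⟨b, hb⟩ : W) := by
        refine hψ (e.ext fun k => ?_)
        rw [map_sum, LinearMap.sum_apply]
        simp only [map_smul, LinearMap.smul_apply, hf, Module.Basis.coord_apply,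
          Module.Basis.repr_self, Finsupp.single_apply, smul_eq_mul, mul_ite, mul_one, mul_zero]
        rw [Finset.sum_ite_eq Finset.univ k, if_pos (Finset.mem_univ k)]
        show -ω b (e k : _) = ω (e k : _) b
        rw [← f_swap]
      have := congrArg Subtype.val hb'
      simp only [AddSubmonoidClass.coe_finsetSum, Submodule.coe_smul] at this
      refine Eq.trans (Finset.sum_congr rfl fun i _ => ?_) this
      rw [f_add_left, P.u0 a ha _ (e i).2, zero_add]
    rw [Finset.sum_sub_distrib]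
    simp only [ea, neg_smul, Finset.sum_neg_distrib] at sumB ⊢
    rw [sumA, sub_eq_add_neg, sumB]
  have hiso : ∀ x y, ω (L x) (L y) = ω x y := by
    have key : ∀ x z, ω (L x) z = ∑ i, (ω x (f i : _) * ω (f i : _) z + ω x (e i : _) * ω (e i : _) z) := by
      intro x z
      show ω (∑ i, (ω x (f i : _) • (f i : Fin m ⊕ Fin m → F) +
        ω x (e i : _) • (e i : Fin m ⊕ Fin m → F))) z = _
      refine (map_sum (AddMonoidHom.mk' (fun w => ω w z) fun a b => f_add_left a b z) _ _).trans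
        (Finset.sum_congr rfl fun i _ => ?_)
      show ω (_ + _) z = _
      rw [f_add_left, f_smul_left, f_smul_left]
    intro x y
    have h3 : ∀ i, ω (f i : _) (L y) = -ω y (e i : _) ∧ ω (e i : _) (L y) = ω y (f i : _) := by
      intro i
      constructor <;>
      · rw [f_swap, key, Finset.sum_eq_single i]
        · simp [hef, f_self, P.u0 _ (e i).2 _ (e i).2, P.w0 _ (f i).2 _ (f i).2, f_swap (e i : Fin m ⊕ Fin m → F) (f i : _)]
        · intro j _ hj
          simp [hef, hj, Ne.symm hj, P.u0 _ (e j).2 _ (e i).2, P.w0 _ (f j).2 _ (f i).2,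
            f_swap (e i : Fin m ⊕ Fin m → F) (f j : _)]
        · simp
    rw [key]
    conv_rhs => rw [expand x]
    rw [show ω (∑ i, (ω x (f i : _) • (e i : Fin m ⊕ Fin m → F) - ω x (e i : _) • (f i : Fin m ⊕ Fin m → F))) y =
      ∑ i, ω (ω x (f i : _) • (e i : Fin m ⊕ Fin m → F) - ω x (e i : _) • (f i : Fin m ⊕ Fin m → F)) y from
        map_sum (AddMonoidHom.mk' (fun w => ω w y) fun a b => f_add_left a b y) _ _]
    refine Finset.sum_congr rfl fun i _ => ?_
    rw [(h3 i).1, (h3 i).2, f_sub_left, f_smul_left, f_smul_left, f_swap y (e i : _), f_swap y (f i : _)]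
    ring
  refine ⟨⟨LinearMap.toMatrix' L, mem_iff_f.2 fun u v => ?_⟩, fun x hx => ?_, fun x hx => ?_⟩
  · rw [LinearMap.toMatrix'_mulVec, LinearMap.toMatrix'_mulVec]; exact hiso u v
  · show (LinearMap.toMatrix' L) *ᵥ x ∈ W
    rw [LinearMap.toMatrix'_mulVec]
    show (∑ i, (ω x (f i : _) • (f i : Fin m ⊕ Fin m → F) +
      ω x (e i : _) • (e i : Fin m ⊕ Fin m → F))) ∈ W
    refine W.sum_mem fun i _ => ?_
    rw [P.u0 x hx _ (e i).2, zero_smul, add_zero]
    exact W.smul_mem _ (f i).2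
  · show (LinearMap.toMatrix' L) *ᵥ x ∈ U
    rw [LinearMap.toMatrix'_mulVec]
    show (∑ i, (ω x (f i : _) • (f i : Fin m ⊕ Fin m → F) +
      ω x (e i : _) • (e i : Fin m ⊕ Fin m → F))) ∈ U
    refine U.sum_mem fun i _ => ?_
    rw [P.w0 x hx _ (f i).2, zero_smul, zero_add]
    exact U.smul_mem _ (e i).2

theorem centres_all_of_one (hm : 2 ≤ m) (P : Pol U W) {K : Subgroup G}
    (hK : ∀ a ∈ U, ∀ b ∈ W, ω a b = 0 → E a b ∈ K) {v : Fin m ⊕ Fin m → F} (hv : v ∈ U) (hv0 : v ≠ 0)
    (hvC : v ∈ centres K) : ∀ u ∈ U, u ∈ centres K := by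
  have step : ∀ a b, a ∈ U → b ∈ U → b ∉ Submodule.span F {a} → a ∈ centres K → a ≠ 0 →
      b ∈ centres K := by
    intro a b ha hb hbi haC ha0
    have hai : a ∉ Submodule.span F {b - a} := by
      intro h
      obtain ⟨c, hc⟩ := Submodule.mem_span_singleton.1 h
      have hc0 : c ≠ 0 := fun e => ha0 (by rw [← hc, e, zero_smul])
      refine hbi (Submodule.mem_span_singleton.2 ⟨c⁻¹ + 1, ?_⟩)
      conv_lhs => rw [add_smul, one_smul]; arg 1; rw [← hc, smul_smul, inv_mul_cancel₀ hc0, one_smul]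
      exact sub_add_cancel b a
    obtain ⟨w, hw, hwQ, haw⟩ := exists_sep P
      ((Submodule.span_singleton_le_iff_mem _ _).2 (U.sub_mem hb ha)) ha hai
    have hE := hwQ _ (Submodule.mem_span_singleton_self _)
    have := app_mem_centres (hK _ (U.sub_mem hb ha) _ hw hE) haC
    rwa [app_E hE, P.u0 a ha _ (U.sub_mem hb ha), zero_smul, add_zero, haw, one_smul,
      add_sub_cancel] at this
  intro u hu
  by_cases hui : u ∈ Submodule.span F {v}
  swap
  · exact step v u hv hu hui hvC hv0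
  obtain ⟨c, rfl⟩ := Submodule.mem_span_singleton.1 hui
  exact smul_mem_centres c hvC

theorem pair_le_or_top (h2 : (2 : F) ≠ 0) (hm : 3 ≤ m) (P : Pol U W) (K : Subgroup G)
    (hK : ∀ a ∈ U, ∀ b ∈ W, ω a b = 0 → E a b ∈ K) {s : G} (hsK : s ∈ K) (hs1 : ∀ x ∈ U, app s x ∈ W)
    (hs2 : ∀ x ∈ W, app s x ∈ U) : K = ⊤ ∨ (K : Set G) ⊆ pstab U W := by
  by_cases hR : (K : Set G) ⊆ pstab U W
  · exact Or.inr hR
  left
  obtain ⟨g, hg, hgs⟩ := Set.not_subset.1 hR
  obtain ⟨v, hv, hv0, hvC⟩ := exists_centre h2 hm P hK hg hgs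
  have hK' := E_flip hK
  have hCU : (∀ u ∈ U, u ∈ centres K) ∧ ∀ w ∈ W, w ∈ centres K := by
    have hsv := app_mem_centres hsK hvC
    rcases hv with hv | hv
    · exact ⟨centres_all_of_one (by omega) P hK hv hv0 hvC,
        centres_all_of_one (by omega) P.symm hK' (hs1 v hv) (app_ne_zero s hv0) hsv⟩
    · exact ⟨centres_all_of_one (by omega) P hK (hs2 v hv) (app_ne_zero s hv0) hsv,
        centres_all_of_one (by omega) P.symm hK' hv hv0 hvC⟩
  have hne : ∀ a ∈ U, ∀ b ∈ W, ω b a ≠ 0 → ∀ l : F, b + l • a ∈ centres K := by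
    intro a ha b hb h l
    have := app_mem_centres (hCU.1 a ha (l / ω b a)) (hCU.2 b hb)
    rwa [app_T, div_mul_cancel₀ _ h] at this
  refine eq_top_of_centres fun z => ?_
  obtain ⟨a, ha, b, hb, rfl⟩ := exists_parts P z
  by_cases hb0 : b = 0
  · rw [hb0, add_zero]; exact hCU.1 a ha
  by_cases hba : ω b a = 0
  swap
  · have := hne a ha b hb hba 1
    rwa [one_smul, add_comm] at this
  obtain ⟨c, hc, -, hbc⟩ := exists_sep P.symm (bot_le : ⊥ ≤ W) hb (by rwa [Submodule.mem_bot])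
  have h1 := hne (a - c) (U.sub_mem ha hc) b hb (by
    rw [f_sub_right, hba, hbc, zero_sub]; exact neg_ne_zero.2 one_ne_zero) 1
  rw [one_smul] at h1
  have h3 := app_mem_centres (hCU.1 c hc 1) h1
  rw [app_T, f_add_left, P.u0 _ (U.sub_mem ha hc) c hc, hbc, add_zero, mul_one, one_smul,
    add_assoc, sub_add_cancel, add_comm] at h3
  exact h3

theorem exists_notMem_pstab (P : Pol U W) (hm : 1 ≤ m) : ∃ g : G, g ∉ pstab U W := by
  obtain ⟨a, ha, ha0⟩ := Submodule.exists_mem_ne_zero_of_ne_bot (p := U) fun e => by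
    have := P.dimU
    rw [e, finrank_bot] at this
    omega
  obtain ⟨b, hb, -, hab⟩ := exists_sep P (bot_le : ⊥ ≤ U) ha (by rwa [Submodule.mem_bot])
  refine ⟨T b 1, fun h => ?_⟩
  have hb0 : b ≠ 0 := fun e => one_ne_zero (α := F) (by rw [← hab, e, f_zero_right])
  have hTa : app (T b 1) a = a + b := by rw [app_T, hab, one_mul, one_smul]
  rcases h with h | h
  · have h1 := h.1 a ha
    rw [hTa, U.add_mem_iff_right ha] at h1
    exact hb0 ((Submodule.eq_bot_iff _).1 P.compl.inf_eq_bot b ⟨h1, hb⟩)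
  · have h1 := h.1 a ha
    rw [hTa, W.add_mem_iff_left hb] at h1
    exact ha0 ((Submodule.eq_bot_iff _).1 P.compl.inf_eq_bot a ⟨ha, h1⟩)

theorem pol_of {D : Fin 2 → Submodule F (Fin m ⊕ Fin m → F)} (hD : Cfsg.Geo.IsMDecomposition m D)
    (hts : ∀ i, Cfsg.Geo.IsTotallySingularFor (sympForm m F) (D i)) : Pol (D 0) (D 1) := by
  refine ⟨IsCompl.of_eq ((hD.indep.pairwiseDisjoint (show (0 : Fin 2) ≠ 1 by decide)).eq_bot) ?_,
    hts 0, hts 1, hD.finrank_eq 0, hD.finrank_eq 1⟩
  rw [eq_top_iff, ← hD.iSup_eq_top]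
  refine iSup_le fun i => ?_
  fin_cases i
  · exact le_sup_left
  · exact le_sup_right

theorem map_eq_iff {D : Fin 2 → Submodule F (Fin m ⊕ Fin m → F)}
    (hD : Cfsg.Geo.IsMDecomposition m D) (g : G) :
    (toSpGL g : GL (Fin m ⊕ Fin m) F) ∈ Cfsg.Geo.decompositionStabilizer D ↔
      g ∈ pstab (D 0) (D 1) := by
  constructor
  · rintro ⟨σ, hσ⟩
    have h : ∀ i, ∀ x ∈ D i, app g x ∈ D (σ i) := fun i x hx => by
      rw [← hσ i]; exact ⟨x, hx, rfl⟩
    have hne : σ 0 ≠ σ 1 := fun e => absurd (σ.injective e) (by decide)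
    rcases Fin.exists_fin_two.1 ⟨σ 0, rfl⟩ with h0 | h0
    · have h1 : σ 1 = 1 := by omega
      exact Or.inl ⟨fun x hx => h0.symm ▸ h 0 x hx, fun x hx => h1 ▸ h 1 x hx⟩
    · have h1 : σ 1 = 0 := by omega
      exact Or.inr ⟨fun x hx => h0.symm ▸ h 0 x hx, fun x hx => h1 ▸ h 1 x hx⟩
  · intro hg
    obtain ⟨σ, hσ⟩ : ∃ σ : Equiv.Perm (Fin 2), ∀ i, ∀ x ∈ D i, app g x ∈ D (σ i) := by
      rcases hg with h | h
      · exact ⟨1, fun i => by fin_cases i; exacts [h.1, h.2]⟩
      · exact ⟨Equiv.swap 0 1, fun i => by fin_cases i <;> simp <;> [exact h.1; exact h.2]⟩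
    refine ⟨σ, fun i => Submodule.eq_of_le_of_finrank_le ?_ (le_of_eq ?_)⟩
    · rintro _ ⟨x, hx, rfl⟩
      exact hσ i x hx
    · exact ((hD.finrank_eq _).trans (hD.finrank_eq i).symm).trans
        (LinearEquiv.finrank_eq (Submodule.equivMapOfInjective _ (app_injective g) (D i)))

theorem isMaximalIn (h2 : (2 : F) ≠ 0) (hm : 3 ≤ m) {D : Fin 2 → Submodule F (Fin m ⊕ Fin m → F)}
    (hD : Cfsg.Geo.IsMDecomposition m D)
    (hts : ∀ i, Cfsg.Geo.IsTotallySingularFor (sympForm m F) (D i)) :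
    Cfsg.Geo.IsMaximalIn (spGL m F) (Cfsg.Geo.decompositionStabilizer D ⊓ spGL m F) := by
  have P := pol_of hD hts
  refine ⟨lt_of_le_not_ge inf_le_right fun hle => ?_, fun M hM hM' => ?_⟩
  · obtain ⟨g, hg⟩ := exists_notMem_pstab P (by omega)
    exact hg ((map_eq_iff hD g).1 (hle (toSpGL g).2).1)
  obtain ⟨s, hs1, hs2⟩ := exists_swap P
  have hK : ∀ g ∈ pstab (D 0) (D 1), g ∈ M.comap ((spGL m F).subtype.comp toSpGL) := fun g hg =>
    hM ⟨(map_eq_iff hD g).2 hg, (toSpGL g).2⟩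
  rcases pair_le_or_top h2 hm P (M.comap ((spGL m F).subtype.comp toSpGL))
      (fun a ha b hb e => hK _ (E_mem_pstab P ha hb e)) (hK s (Or.inr ⟨hs1, hs2⟩)) hs1 hs2 with h | h
  · refine Or.inr (le_antisymm hM' fun g hg => ?_)
    obtain ⟨s, hs⟩ := toSpGL_surjective (⟨g, hg⟩ : spGL m F)
    have : s ∈ M.comap ((spGL m F).subtype.comp toSpGL) := h ▸ Subgroup.mem_top s
    simpa [hs] using this
  · refine Or.inl (le_antisymm (fun g hg => ?_) hM)
    obtain ⟨s, hs⟩ := toSpGL_surjective (⟨g, hM' hg⟩ : spGL m F)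
    have hs' : (toSpGL s : GL (Fin m ⊕ Fin m) F) = g := congrArg Subtype.val hs
    subst hs'
    exact ⟨(map_eq_iff hD s).2 (h hg), (toSpGL s).2⟩

end CfsgLib.Classical.SympPair
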