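/-
Fixers of non-degenerate subspaces inside `Ω`, universal subspaces, and moving configurations of
vectors by elements of `Ω`.
-/
import Cfsg.Agent.Lib.Classical.OrthSpinor
import Cfsg.Agent.Lib.Classical.OrthSub
import Cfsg.Agent.Lib.Classical.WittExtension

set_option autoImplicit false
set_option linter.unusedSectionVars false

namespace CfsgLib.Orth

open Matrix

variable {F : Type*} [Field F] [Finite F] {ι : Type} [Fintype ι] [DecidableEq ι]
variable {Q : QuadraticForm F (ι → F)}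

local notation "B" => QuadraticMap.polar (DFunLike.coe Q)

/-- Every nonzero value is taken on `R`. -/
def Univ (Q : QuadraticForm F (ι → F)) (R : Submodule F (ι → F)) : Prop :=
  ∀ a : F, a ≠ 0 → ∃ x ∈ R, Q x = a

theorem univ_of_dim {R : Submodule F (ι → F)}
    (h : Module.finrank F ↥(R ⊓ orth Q R) + 2 ≤ Module.finrank F R) : Univ Q R := by
  classical
  intro a ha
  obtain ⟨x, hx, hQx⟩ : ∃ x ∈ R, Q x ≠ 0 := by
    by_contra hc
    push Not at hc
    rw [inf_eq_left.2 (le_orth_of_singular hc)] at h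
    omega
  cases nonempty_fintype F
  by_cases h2 : (2 : F) = 0
  · haveI : CharP F 2 := CharTwo.of_one_ne_zero_of_two_eq_zero one_ne_zero h2
    obtain ⟨c, hc⟩ := FiniteField.isSquare_of_char_two (ringChar.eq F 2) (a / Q x)
    exact ⟨c • x, R.smul_mem _ hx, by rw [q_smul, ← hc, div_mul_cancel₀ _ hQx]⟩
  have hxx : B x x ≠ 0 := by rw [b_self]; exact mul_ne_zero h2 hQx
  obtain ⟨y, hy, hxy, hQy⟩ : ∃ y ∈ R, B x y = 0 ∧ Q y ≠ 0 := by
    by_contra hc
    push Not at hc
    set R' := R ⊓ orth Q (Submodule.span F {x}) with hR'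
    have hmem : ∀ z, z ∈ R' → z ∈ R ∧ B x z = 0 :=
      fun z hz => ⟨hz.1, mem_orth_span.1 hz.2 x rfl⟩
    have hR0 : ∀ z ∈ R', Q z = 0 := fun z hz => hc z (hmem z hz).1 (hmem z hz).2
    have hrad : R' ≤ R ⊓ orth Q R := fun z hz => ⟨hz.1, fun r hr => by
      have hs : r - ((B x x)⁻¹ * B x r) • x ∈ R' := ⟨R.sub_mem hr (R.smul_mem _ hx),
        mem_orth_span.2 (by
          rintro s rfl
          rw [b_sub_right, b_smul_right, mul_comm _ (B s r), mul_assoc, inv_mul_cancel₀ hxx,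
            mul_one, sub_self])⟩
      have h0 : B (r - ((B x x)⁻¹ * B x r) • x) z = 0 := le_orth_of_singular hR0 hz _ hs
      rw [b_sub_left, b_smul_left, (hmem z hz).2, mul_zero, sub_zero] at h0
      exact h0⟩
    have h1 := Submodule.finrank_mono hrad
    have hsup : R ≤ R' ⊔ Submodule.span F {x} := fun r hr => Submodule.mem_sup.2
      ⟨r - ((B x x)⁻¹ * B x r) • x, ⟨R.sub_mem hr (R.smul_mem _ hx), mem_orth_span.2 (by
          rintro s rfl
          rw [b_sub_right, b_smul_right, mul_comm _ (B s r), mul_assoc, inv_mul_cancel₀ hxx,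
            mul_one, sub_self])⟩, _, Submodule.smul_mem _ _ (Submodule.mem_span_singleton_self x),
        sub_add_cancel _ _⟩
    have h3 := Submodule.finrank_mono hsup
    have h4 := Submodule.finrank_add_le_finrank_add_finrank R' (Submodule.span F {x})
    rw [finrank_span_singleton (fun e => hQx (by rw [e, QuadraticMap.map_zero]))] at h4
    omega
  obtain ⟨s, t, hst⟩ := FiniteField.exists_root_sum_quadratic
    (f := Polynomial.C (Q x) * Polynomial.X ^ 2 + Polynomial.C (-a))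
    (g := Polynomial.C (Q y) * Polynomial.X ^ 2)
    (by compute_degree!) (by compute_degree!)
    (by
      have := FiniteField.odd_card_of_char_ne_two (F := F) (fun e => h2 (by
        have := CharP.cast_eq_zero F (ringChar F); rwa [e, Nat.cast_ofNat] at this))
      omega)
  simp only [Polynomial.eval_add, Polynomial.eval_mul, Polynomial.eval_C, Polynomial.eval_pow,
    Polynomial.eval_X] at hst
  refine ⟨s • x + t • y, R.add_mem (R.smul_mem _ hx) (R.smul_mem _ hy), ?_⟩
  rw [q_add, q_smul, q_smul, b_smul_left, b_smul_right, hxy]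
  linear_combination hst

theorem refl_coset (hB : Nondeg Q) (hn : 5 ≤ Module.finrank F (ι → F)) {v w : ι → F}
    {r s : Grp Q} (hr : IsRefl v r) (hs : IsRefl w s) (h : IsSquare (Q v * Q w)) :
    (r : Grp Q ⧸ Cfsg.Omega F ⇑Q) = (s : Grp Q ⧸ Cfsg.Omega F ⇑Q) := by
  by_cases h2 : (2 : F) = 0
  · rw [QuotientGroup.eq, omega_eq_ker_dickson hB h2 (by omega) (by omega), MonoidHom.mem_ker,
      map_mul, map_inv, dickson_refl hB hr, dickson_refl hB hs]
    rfl
  · exact mk_refl_of_square hB h2 hr hs h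

/-- An element of `O` becomes an element of `Ω` after an isometry fixing `R^⊥`. -/
theorem exists_adjust (hB : Nondeg Q) (hn : 5 ≤ Module.finrank F (ι → F))
    {R : Submodule F (ι → F)} (hR : Univ Q R) (g : Grp Q) :
    ∃ h : Grp Q, (∀ x, (∀ r ∈ R, B r x = 0) → ap h x = x) ∧ g * h ∈ Cfsg.Omega F ⇑Q := by
  suffices h : ∃ h : Grp Q, (∀ x, (∀ r ∈ R, B r x = 0) → ap h x = x) ∧
      (h : Grp Q ⧸ Cfsg.Omega F ⇑Q) = (g : Grp Q ⧸ Cfsg.Omega F ⇑Q) by
    obtain ⟨h, hf, e⟩ := h
    refine ⟨h⁻¹, fun x hx => ?_, ?_⟩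
    · conv_lhs => rw [← hf x hx]
      rw [ap_inv_ap]
    · rw [← QuotientGroup.eq_one_iff, QuotientGroup.mk_mul, QuotientGroup.mk_inv, e, mul_inv_cancel]
  have hg : g ∈ Refl Q := by rw [refl_eq_top hB (by omega)]; trivial
  induction hg using Subgroup.closure_induction with
  | mem s hs =>
      obtain ⟨v, hs⟩ := hs
      obtain ⟨x, hx, hQ⟩ := hR _ hs.1
      obtain ⟨r, hr⟩ := exists_refl hB (v := x) (by rw [hQ]; exact hs.1)
      exact ⟨r, fun y hy => refl_fix hr (hy x hx),
        refl_coset hB hn hr hs (by rw [hQ]; exact ⟨_, rfl⟩)⟩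
  | one => exact ⟨1, fun x _ => ap_one x, rfl⟩
  | mul a b _ _ ha hb =>
      obtain ⟨a', fa, ea⟩ := ha
      obtain ⟨b', fb, eb⟩ := hb
      exact ⟨a' * b', fun x hx => by rw [ap_mul, fb x hx, fa x hx],
        by rw [QuotientGroup.mk_mul, QuotientGroup.mk_mul, ea, eb]⟩
  | inv a _ ha =>
      obtain ⟨a', fa, ea⟩ := ha
      refine ⟨a'⁻¹, fun x hx => ?_, by rw [QuotientGroup.mk_inv, QuotientGroup.mk_inv, ea]⟩
      conv_lhs => rw [← fa x hx]
      rw [ap_inv_ap]

/-- A subgroup with reflections of every square class meets every coset of `Ω`. -/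
theorem exists_adjust_mem (hB : Nondeg Q) (hn : 5 ≤ Module.finrank F (ι → F))
    (M : Subgroup (Grp Q))
    (hM : ∀ a : F, a ≠ 0 → ∃ v, ∃ r ∈ M, IsRefl v r ∧ IsSquare (a * Q v)) (g : Grp Q) :
    ∃ h ∈ M, g * h ∈ Cfsg.Omega F ⇑Q := by
  suffices h : ∃ h ∈ M, (h : Grp Q ⧸ Cfsg.Omega F ⇑Q) = (g : Grp Q ⧸ Cfsg.Omega F ⇑Q) by
    obtain ⟨h, hf, e⟩ := h
    refine ⟨h⁻¹, inv_mem hf, ?_⟩
    rw [← QuotientGroup.eq_one_iff, QuotientGroup.mk_mul, QuotientGroup.mk_inv, e, mul_inv_cancel]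
  have hg : g ∈ Refl Q := by rw [refl_eq_top hB (by omega)]; trivial
  induction hg using Subgroup.closure_induction with
  | mem s hs =>
      obtain ⟨v, hs⟩ := hs
      obtain ⟨x, r, hrM, hr, hsq⟩ := hM _ hs.1
      exact ⟨r, hrM, refl_coset hB hn hr hs (by rwa [mul_comm])⟩
  | one => exact ⟨1, one_mem M, rfl⟩
  | mul a b _ _ ha hb =>
      obtain ⟨a', fa, ea⟩ := ha
      obtain ⟨b', fb, eb⟩ := hb
      exact ⟨a' * b', mul_mem fa fb, by rw [QuotientGroup.mk_mul, QuotientGroup.mk_mul, ea, eb]⟩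
  | inv a _ ha =>
      obtain ⟨a', fa, ea⟩ := ha
      exact ⟨a'⁻¹, inv_mem fa, by rw [QuotientGroup.mk_inv, QuotientGroup.mk_inv, ea]⟩

/-- The quotient of `O` by `Ω` has exponent two. -/
theorem sq_mem_omega (hB : Nondeg Q) (hn : 5 ≤ Module.finrank F (ι → F)) (g : Grp Q) :
    g * g ∈ Cfsg.Omega F ⇑Q := by
  rw [← QuotientGroup.eq_one_iff, QuotientGroup.mk_mul]
  have hg : g ∈ Refl Q := by rw [refl_eq_top hB (by omega)]; trivial
  induction hg using Subgroup.closure_induction with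
  | mem s hs =>
      obtain ⟨v, hs⟩ := hs
      rw [← QuotientGroup.mk_mul, refl_mul_self hs, QuotientGroup.mk_one]
  | one => rw [QuotientGroup.mk_one, mul_one]
  | mul a b _ _ ha hb =>
      rw [QuotientGroup.mk_mul, mul_assoc, ← mul_assoc (b : Grp Q ⧸ Cfsg.Omega F ⇑Q),
        mk_mul_comm b a, mul_assoc, hb, mul_one, ha]
  | inv a _ ha => rw [QuotientGroup.mk_inv, ← _root_.mul_inv_rev, ha, inv_one]

/-- An isometry of a subspace extends to an element of `Ω` if the orthogonal of the subspace is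
universal. -/
theorem exists_omega_map (hB : Nondeg Q) (hn : 5 ≤ Module.finrank F (ι → F))
    {X : Submodule F (ι → F)} (φ : X →ₗ[F] ι → F) (hinj : Function.Injective φ)
    (hφ : ∀ x : X, Q (φ x) = Q (x : ι → F)) (hu : Univ Q (orth Q X)) :
    ∃ g : Grp Q, g ∈ Cfsg.Omega F ⇑Q ∧ ∀ x : X, ap g (x : ι → F) = φ x := by
  obtain ⟨g, hg, hgX⟩ := Classical.Witt.witt_quadratic Q (bilin_nondeg hB) X (LinearMap.range φ)
    (LinearEquiv.ofInjective φ hinj) (fun x => hφ x)
  obtain ⟨g', hg'⟩ := exists_iso hB g.toLinearMap hg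
  obtain ⟨h, hf, hm⟩ := exists_adjust hB hn hu g'
  refine ⟨g' * h, hm, fun x => ?_⟩
  rw [ap_mul, hf x fun r hr => by rw [b_comm]; exact hr x x.2, hg']
  exact hgX x

theorem index_omega (hB : Nondeg Q) (hn : 5 ≤ Module.finrank F (ι → F)) :
    ((2 : F) = 0 → (Cfsg.Omega F ⇑Q).index = 2) ∧ ((2 : F) ≠ 0 → (Cfsg.Omega F ⇑Q).index = 4) := by
  refine ⟨fun h2 => ?_, fun h2 => ?_⟩
  · obtain ⟨v, hv⟩ := exists_aniso hB (by omega)
    obtain ⟨r, hr⟩ := exists_refl hB hv
    have ht : (dickson hB).range = ⊤ := eq_top_iff.2 fun z _ => by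
      rcases Int.units_eq_one_or z with rfl | rfl
      · exact one_mem _
      · exact ⟨r, dickson_refl hB hr⟩
    rw [omega_eq_ker_dickson hB h2 (by omega) (by omega), Subgroup.index_ker, ht,
      Subgroup.card_top, Nat.card_eq_fintype_card]
    rfl
  · obtain ⟨e, r, -⟩ := omega_eq_ker_psi hB h2 (by omega) (one_ne_zero (α := F))
    rw [e, Subgroup.index_ker, r, Subgroup.card_top, Nat.card_eq_fintype_card]
    rfl

/-! ### Non-degenerate subspaces in coordinates -/

variable {κ : Type} [Fintype κ] [DecidableEq κ]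

/-- The range is non-degenerate, so an isometry of the restriction extends by the identity on the
orthogonal of the range. -/
theorem exists_extend (hB : Nondeg Q) {e : (κ → F) →ₗ[F] ι → F}
    (hW : NondegOn Q (LinearMap.range e)) (he : Function.Injective e) :
    ∃ f : Grp (Q.comp e) →* Grp Q, Function.Injective f ∧
      (∀ g x, ap (f g) (e x) = e (ap g x)) ∧
      (∀ g x, x ∈ orth Q (LinearMap.range e) → ap (f g) x = x) := by
  set W := LinearMap.range e with hWdef
  have hc : IsCompl W (orth Q W) := by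
    refine ⟨disjoint_iff.2 ((Submodule.eq_bot_iff _).2 fun x hx => nondeg_inf hW hx.1 hx.2), ?_⟩
    exact codisjoint_iff.2 (sup_orth_eq_top hB hW)
  let eW : (κ → F) ≃ₗ[F] W := LinearEquiv.ofInjective e he
  let m : Grp (Q.comp e) → ((ι → F) →ₗ[F] ι → F) := fun g =>
    LinearMap.ofIsCompl hc
      (e ∘ₗ Matrix.mulVecLin ((g : GL κ F) : Matrix κ κ F) ∘ₗ eW.symm.toLinearMap) (orth Q W).subtype
  have hm1 : ∀ g x, m g (e x) = e (ap g x) := fun g x => by
    show LinearMap.ofIsCompl hc _ _ ((eW x : W) : ι → F) = _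
    rw [LinearMap.ofIsCompl_left_apply]
    simp [ap]
  have hm2 : ∀ g x, x ∈ orth Q W → m g x = x := fun g x hx => by
    show LinearMap.ofIsCompl hc _ _ ((⟨x, hx⟩ : orth Q W) : ι → F) = _
    rw [LinearMap.ofIsCompl_right_apply]
    rfl
  have hiso : ∀ g : Grp (Q.comp e), ∃ G : Grp Q, ∀ x, ap G x = m g x := fun g =>
    exists_iso hB (m g) fun x => by
      obtain ⟨w, hw, z, hz, rfl⟩ := exists_decomp hB hW x
      obtain ⟨y, rfl⟩ := hw
      rw [map_add, hm1, hm2 g z hz, q_add, q_add, mem_orth.1 hz _ ⟨y, rfl⟩,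
        mem_orth.1 hz _ ⟨ap g y, rfl⟩]
      simp only [add_zero]
      have := ap_q g y
      simp only [QuadraticMap.comp_apply] at this
      rw [this]
  choose f hf using hiso
  have hext : ∀ (G G' : Grp Q), (∀ x, ap G (e x) = ap G' (e x)) →
      (∀ z ∈ orth Q W, ap G z = ap G' z) → G = G' := fun G G' h1 h2 => ext_ap fun x => by
    obtain ⟨w, hw, z, hz, rfl⟩ := exists_decomp hB hW x
    obtain ⟨y, rfl⟩ := hw
    rw [ap_add, ap_add, h1, h2 z hz]
  refine ⟨MonoidHom.mk' f fun g h => hext _ _ (fun x => ?_) (fun z hz => ?_), ?_,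
    fun g x => (hf g (e x)).trans (hm1 g x), fun g x hx => (hf g x).trans (hm2 g x hx)⟩
  · rw [hf, hm1, ap_mul (f g), hf h, hm1, hf, hm1, ← ap_mul]
  · rw [hf, hm2 _ z hz, ap_mul, hf h, hm2 _ z hz, hf, hm2 _ z hz]
  · intro g h e'
    refine ext_ap fun x => he ?_
    have := congrArg (fun G => ap G (e x)) e'
    simp only [MonoidHom.mk'_apply] at this
    rwa [hf, hm1, hf, hm1] at this

/-- `Ω` of a non-degenerate subspace is the fixer of its orthogonal in `Ω`. -/
theorem exists_omega_extend (hB : Nondeg Q) (hn : 5 ≤ Module.finrank F (ι → F))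
    {e : (κ → F) →ₗ[F] ι → F} (hW : NondegOn Q (LinearMap.range e)) (he : Function.Injective e)
    (hB' : Nondeg (Q.comp e)) (hκ : 5 ≤ Module.finrank F (κ → F)) :
    ∃ f : Cfsg.Omega F ⇑(Q.comp e) →* Cfsg.Omega F ⇑Q, Function.Injective f ∧
      (∀ g x, ap (f g : Grp Q) (e x) = e (ap (g : Grp (Q.comp e)) x)) ∧
      ∀ G : Cfsg.Omega F ⇑Q, G ∈ f.range ↔
        ∀ x ∈ orth Q (LinearMap.range e), ap (G : Grp Q) x = x := by
  obtain ⟨f, hinj, h1, h2⟩ := exists_extend hB hW he
  set O' := Cfsg.Omega F ⇑(Q.comp e) with hO'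
  have hle : O' ≤ (Cfsg.Omega F ⇑Q).comap f := by
    rw [← Subgroup.map_le_iff_le_comap]
    show (commutator (Grp (Q.comp e))).map f ≤ commutator (Grp Q)
    rw [commutator_def, commutator_def, Subgroup.map_commutator]
    exact Subgroup.commutator_mono le_top le_top
  have hU : Univ Q (LinearMap.range e) := univ_of_dim (by
    rw [(Submodule.eq_bot_iff (LinearMap.range e ⊓ orth Q (LinearMap.range e))).2
        fun x hx => nondeg_inf hW hx.1 hx.2, finrank_bot,
      LinearMap.finrank_range_of_inj he]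
    omega)
  -- every isometry fixing the orthogonal comes from the subspace
  have honto : ∀ G : Grp Q, (∀ x ∈ orth Q (LinearMap.range e), ap G x = x) → ∃ g, f g = G := by
    intro G hG
    have hWG : ∀ y, ap G (e y) ∈ LinearMap.range e := fun y => by
      rw [← orth_orth hB (LinearMap.range e), mem_orth]
      intro z hz
      conv_lhs => rw [← hG z hz]
      rw [ap_b, b_comm]
      exact mem_orth.1 hz _ ⟨y, rfl⟩
    let eW : (κ → F) ≃ₗ[F] LinearMap.range e := LinearEquiv.ofInjective e he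
    let l : (κ → F) →ₗ[F] (κ → F) := eW.symm.toLinearMap ∘ₗ
      LinearMap.codRestrict _ (Matrix.mulVecLin ((G : GL ι F) : Matrix ι ι F) ∘ₗ e) hWG
    have hl : ∀ y, e (l y) = ap G (e y) := fun y =>
      congrArg Subtype.val (eW.apply_symm_apply ⟨ap G (e y), hWG y⟩)
    obtain ⟨g, hg⟩ := exists_iso hB' l fun y => by
      rw [QuadraticMap.comp_apply, QuadraticMap.comp_apply, hl, ap_q]
    refine ⟨g, ext_ap fun x => ?_⟩
    obtain ⟨w, hw, z, hz, rfl⟩ := exists_decomp hB hW x
    obtain ⟨y, rfl⟩ := hw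
    rw [ap_add, ap_add, h1, hg, hl, h2 g z hz, hG z hz]
  have hsurj : Function.Surjective ((QuotientGroup.mk' (Cfsg.Omega F ⇑Q)).comp f) := fun q => by
    obtain ⟨G, rfl⟩ := QuotientGroup.mk'_surjective _ q
    obtain ⟨h, hf, hm⟩ := exists_adjust hB hn hU G
    obtain ⟨g, hg⟩ := honto h hf
    refine ⟨g⁻¹, ?_⟩
    rw [MonoidHom.comp_apply, map_inv, hg, QuotientGroup.mk'_apply, QuotientGroup.mk'_apply,
      QuotientGroup.eq, inv_inv]
    exact (Subgroup.Normal.mem_comm_iff inferInstance).1 hm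
  have hidx : ((Cfsg.Omega F ⇑Q).comap f).index = O'.index := by
    have h' : ((Cfsg.Omega F ⇑Q).comap f).index = (Cfsg.Omega F ⇑Q).index := by
      conv_lhs => rw [← QuotientGroup.ker_mk' (Cfsg.Omega F ⇑Q), MonoidHom.comap_ker,
        Subgroup.index_ker, MonoidHom.range_eq_top.2 hsurj, Subgroup.card_top]
      rfl
    rw [h']
    rcases eq_or_ne (2 : F) 0 with h | h
    · rw [(index_omega hB hn).1 h, hO', (index_omega hB' hκ).1 h]
    · rw [(index_omega hB hn).2 h, hO', (index_omega hB' hκ).2 h]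
  have h0 : O'.index ≠ 0 := by
    rcases eq_or_ne (2 : F) 0 with h | h
    · rw [hO', (index_omega hB' hκ).1 h]; decide
    · rw [hO', (index_omega hB' hκ).2 h]; decide
  have heq := Subgroup.relIndex_mul_index hle
  rw [hidx] at heq
  have hback : (Cfsg.Omega F ⇑Q).comap f ≤ O' := Subgroup.relIndex_eq_one.1
    (Nat.eq_of_mul_eq_mul_right (Nat.pos_of_ne_zero h0) (heq.trans (one_mul _).symm))
  refine ⟨(f.comp O'.subtype).codRestrict _ fun g => hle g.2, fun a b e' => ?_,
    fun g x => h1 g x, fun G => ⟨?_, fun hG => ?_⟩⟩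
  · exact Subtype.ext (hinj (congrArg Subtype.val e'))
  · rintro ⟨g, rfl⟩ x hx
    exact h2 g x hx
  · obtain ⟨g, hg⟩ := honto G hG
    exact ⟨⟨g, hback (show f g ∈ _ by rw [hg]; exact G.2)⟩, Subtype.ext hg⟩

end CfsgLib.Orth
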