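/-
Configurations of a few vectors: independence, universality of their orthogonals, and transitivity
of `Ω` on configurations with prescribed forms.
-/
import Cfsg.Agent.Lib.Classical.OrthFix

set_option autoImplicit false
set_option linter.unusedSectionVars false

namespace CfsgLib.Orth

open Matrix

variable {F : Type*} [Field F] [Finite F] {ι : Type} [Fintype ι] [DecidableEq ι]
variable {Q : QuadraticForm F (ι → F)}

local notation "B" => QuadraticMap.polar (DFunLike.coe Q)

theorem b_sum_left {α : Type*} (s : Finset α) (f : α → ι → F) (y : ι → F) :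
    B (∑ i ∈ s, f i) y = ∑ i ∈ s, B (f i) y := by
  classical
  induction s using Finset.induction with
  | empty => simp [b_zero_left]
  | insert a s ha ih => rw [Finset.sum_insert ha, Finset.sum_insert ha, b_add_left, ih]

/-- Independent configurations with the same forms are related by an isometry. -/
theorem exists_grp_config (hB : Nondeg Q) {k : ℕ}
    {p p' : Fin k → ι → F} (hp : LinearIndependent F p) (hp' : LinearIndependent F p')
    (hQ : ∀ i, Q (p i) = Q (p' i)) (hb : ∀ i j, B (p i) (p j) = B (p' i) (p' j)) :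
    ∃ g : Grp Q, ∀ i, ap g (p i) = p' i := by
  classical
  have key : ∀ (a : Fin k → F) (s : Finset (Fin k)),
      Q (∑ i ∈ s, a i • p i) = Q (∑ i ∈ s, a i • p' i) := by
    intro a s
    induction s using Finset.induction with
    | empty => simp
    | insert j s hj ih =>
      rw [Finset.sum_insert hj, Finset.sum_insert hj, q_add, q_add, ih, q_smul, q_smul, hQ,
        b_smul_left, b_smul_left, b_comm (p j), b_comm (p' j), b_sum_left, b_sum_left]
      congr 2
      exact Finset.sum_congr rfl fun i _ => by rw [b_smul_left, b_smul_left, hb]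
  let X := Submodule.span F (Set.range p)
  let φ : X →ₗ[F] ι → F := (Fintype.linearCombination F p') ∘ₗ
    ((Finsupp.linearEquivFunOnFinite F F (Fin k)).toLinearMap ∘ₗ hp.repr)
  have hφ : ∀ (x : X), ∃ a : Fin k → F, (x : ι → F) = ∑ i, a i • p i ∧ φ x = ∑ i, a i • p' i := by
    intro x
    refine ⟨fun i => hp.repr x i, ?_, by simp [φ, Fintype.linearCombination_apply]⟩
    conv_lhs => rw [← hp.linearCombination_repr x]
    rw [Finsupp.linearCombination_apply, Finsupp.sum_fintype]
    simp
  have hinj : Function.Injective φ := by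
    rw [injective_iff_map_eq_zero]
    intro x hx
    obtain ⟨a, ha, ha'⟩ := hφ x
    rw [hx] at ha'
    have h0 := Fintype.linearIndependent_iff.1 hp' a ha'.symm
    exact Subtype.ext (by rw [ha]; simp [h0])
  obtain ⟨g, hg, hgX⟩ := Classical.Witt.witt_quadratic Q (bilin_nondeg hB) X (LinearMap.range φ)
    (LinearEquiv.ofInjective φ hinj) (fun x => by
      obtain ⟨a, ha, ha'⟩ := hφ x
      show Q (φ x) = _
      rw [ha', ha, key])
  obtain ⟨g', hg'⟩ := exists_iso hB g.toLinearMap hg
  refine ⟨g', fun i => ?_⟩
  rw [hg']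
  have h := hgX ⟨p i, Submodule.subset_span ⟨i, rfl⟩⟩
  show g (p i) = p' i
  rw [h]
  simp [φ, LinearEquiv.ofInjective_apply, hp.repr_eq_single i ⟨p i, _⟩ rfl,
    Fintype.linearCombination_apply, Pi.single_apply]

/-- Independent configurations with the same forms are related by `Ω`. -/
theorem exists_omega_config (hB : Nondeg Q) (hn : 5 ≤ Module.finrank F (ι → F)) {k : ℕ}
    {p p' : Fin k → ι → F} (hp : LinearIndependent F p) (hp' : LinearIndependent F p')
    (hQ : ∀ i, Q (p i) = Q (p' i)) (hb : ∀ i j, B (p i) (p j) = B (p' i) (p' j))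
    (hu : Univ Q (orth Q (Submodule.span F (Set.range p)))) :
    ∃ g : Cfsg.Omega F ⇑Q, ∀ i, ap (g : Grp Q) (p i) = p' i := by
  obtain ⟨g, hg⟩ := exists_grp_config hB hp hp' hQ hb
  obtain ⟨h, hf, hm⟩ := exists_adjust hB hn hu g
  refine ⟨⟨g * h, hm⟩, fun i => ?_⟩
  rw [ap_mul, hf (p i) fun r hr => by
    rw [b_comm]; exact mem_orth.1 hr _ (Submodule.subset_span ⟨i, rfl⟩), hg]

/-- A plane with the forms `c`, `b`, `c`. -/
def IsPlane (Q : QuadraticForm F (ι → F)) (v u : ι → F) : Prop :=
  QuadraticMap.polar ⇑Q v v * QuadraticMap.polar ⇑Q u u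
    - QuadraticMap.polar ⇑Q v u * QuadraticMap.polar ⇑Q v u ≠ 0

theorem plane_coeff {v u : ι → F} (h : IsPlane Q v u) {α β : F}
    (h1 : α * B v v + β * B v u = 0) (h2 : α * B v u + β * B u u = 0) : α = 0 ∧ β = 0 :=
  ⟨(mul_eq_zero.1 (show α * (B v v * B u u - B v u * B v u) = 0 by
      linear_combination B u u * h1 - B v u * h2)).resolve_right h,
    (mul_eq_zero.1 (show β * (B v v * B u u - B v u * B v u) = 0 by
      linear_combination B v v * h2 - B v u * h1)).resolve_right h⟩

theorem plane_indep {v u : ι → F} (h : IsPlane Q v u) : LinearIndependent F ![v, u] := by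
  rw [LinearIndependent.pair_iff]
  intro s t e
  refine plane_coeff h ?_ ?_
  · have := congrArg (fun x => B x v) e
    simpa only [b_add_left, b_smul_left, b_zero_left, b_comm u v] using this
  · have := congrArg (fun x => B x u) e
    simpa only [b_add_left, b_smul_left, b_zero_left] using this

/-- The radical of a span containing a plane misses the plane. -/
theorem finrank_rad_le (hB : Nondeg Q) {v u : ι → F} (h : IsPlane Q v u) {P : Submodule F (ι → F)}
    (hv : v ∈ P) (hu : u ∈ P) :
    Module.finrank F ↥(P ⊓ orth Q P) + 2 ≤ Module.finrank F P := by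
  have hdis : (P ⊓ orth Q P) ⊓ Submodule.span F (Set.range ![v, u]) = ⊥ := by
    rw [Submodule.eq_bot_iff]
    rintro x ⟨⟨-, hx⟩, hxs⟩
    rw [SetLike.mem_coe, Submodule.mem_span_range_iff_exists_fun] at hxs
    obtain ⟨a, rfl⟩ := hxs
    simp only [Fin.sum_univ_two, Matrix.cons_val_zero, Matrix.cons_val_one] at hx ⊢
    have e1 := mem_orth.1 hx v hv
    have e2 := mem_orth.1 hx u hu
    rw [b_add_right, b_smul_right, b_smul_right] at e1 e2
    obtain ⟨h0, h1⟩ := plane_coeff h e1 (by rwa [b_comm u v] at e2)
    rw [h0, h1, zero_smul, zero_smul, add_zero]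
  have h2 : Module.finrank F (Submodule.span F (Set.range ![v, u])) = 2 := by
    rw [finrank_span_eq_card (plane_indep h), Fintype.card_fin]
  have h3 := Submodule.finrank_sup_add_finrank_inf_eq (P ⊓ orth Q P)
    (Submodule.span F (Set.range ![v, u]))
  rw [hdis, finrank_bot, h2] at h3
  have h4 : (P ⊓ orth Q P) ⊔ Submodule.span F (Set.range ![v, u]) ≤ P := by
    refine sup_le inf_le_left (Submodule.span_le.2 ?_)
    rintro _ ⟨i, rfl⟩
    fin_cases i <;> assumption
  have h5 := Submodule.finrank_mono h4
  omega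

/-- The orthogonal of at most `k` vectors containing a plane is universal for `n ≥ 2k`. -/
theorem univ_orth (hB : Nondeg Q) {k : ℕ} {v u : ι → F} (h : IsPlane Q v u) (s : Finset (ι → F))
    (hv : v ∈ s) (hu : u ∈ s) (hs : s.card ≤ k) (hn : 2 * k ≤ Module.finrank F (ι → F)) :
    Univ Q (orth Q (Submodule.span F (s : Set (ι → F)))) := by
  refine univ_of_dim ?_
  set P := Submodule.span F (s : Set (ι → F))
  rw [orth_orth hB P, inf_comm]
  have h1 := finrank_rad_le hB h (P := P) (Submodule.subset_span hv) (Submodule.subset_span hu)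
  have h2 := finrank_orth hB P
  have h3 := finrank_span_finset_le_card (R := F) s
  rw [Set.finrank] at h3
  change Module.finrank F P ≤ s.card at h3
  omega

/-- Prescribed inner products with finitely many vectors, assuming independence. -/
theorem exists_prescribed (hB : Nondeg Q) {k : ℕ} {p : Fin k → ι → F} (hp : LinearIndependent F p)
    (f : Fin k → F) : ∃ w, ∀ i, B (p i) w = f i := by
  classical
  have h : ∀ i, ∃ e, B (p i) e = 1 ∧ ∀ j, j ≠ i → B (p j) e = 0 := fun i => by
    obtain ⟨e, he, he1⟩ := exists_orth_one hB (W := Submodule.span F (p '' {j | j ≠ i})) (x := p i)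
      (hp.notMem_span_image (by simp))
    exact ⟨e, he1, fun j hj => mem_orth.1 he _ (Submodule.subset_span ⟨j, hj, rfl⟩)⟩
  choose e he he' using h
  refine ⟨∑ j, f j • e j, fun i => ?_⟩
  rw [b_comm, b_sum_left, Finset.sum_eq_single i (fun j _ hj => by
    rw [b_smul_left, b_comm, he' j i (Ne.symm hj), mul_zero]) (by simp), b_smul_left, b_comm, he,
    mul_one]

/-- Coordinates on the orthogonal of a non-degenerate subspace. -/
theorem exists_omega_orth (hB : Nondeg Q) (hn : 5 ≤ Module.finrank F (ι → F))
    {P : Submodule F (ι → F)} (hP : NondegOn Q P)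
    (hd : 5 + Module.finrank F P ≤ Module.finrank F (ι → F)) :
    ∃ (m : ℕ) (e : (Fin m → F) →ₗ[F] ι → F) (f : Cfsg.Omega F ⇑(Q.comp e) →* Cfsg.Omega F ⇑Q),
      m + Module.finrank F P = Module.finrank F (ι → F) ∧ Nondeg (Q.comp e) ∧
      Function.Injective e ∧ LinearMap.range e = orth Q P ∧ Function.Injective f ∧
      (∀ g x, ap (f g : Grp Q) (e x) = e (ap (g : Grp (Q.comp e)) x)) ∧
      (∀ G : Cfsg.Omega F ⇑Q, G ∈ f.range ↔ ∀ x ∈ P, ap (G : Grp Q) x = x) ∧
      commutator (Cfsg.Omega F ⇑(Q.comp e)) = ⊤ := by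
  let W := orth Q P
  let b := (Module.finBasis F W).equivFun.symm
  let e : (Fin (Module.finrank F W) → F) →ₗ[F] ι → F := W.subtype ∘ₗ b.toLinearMap
  have he : Function.Injective e := W.injective_subtype.comp b.injective
  have hr : LinearMap.range e = W := by
    rw [LinearMap.range_comp, LinearEquiv.range, Submodule.map_top, Submodule.range_subtype]
  have hW : NondegOn Q (LinearMap.range e) := by rw [hr]; exact nondegOn_orth hB hP
  have hB' : Nondeg (Q.comp e) := fun x hx => he (by
    rw [map_zero]
    refine hW (e x) ⟨x, rfl⟩ ?_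
    rintro _ ⟨y, rfl⟩
    have := hx y
    simpa [QuadraticMap.polar] using this)
  have hdim : Module.finrank F W + Module.finrank F P = Module.finrank F (ι → F) := by
    rw [add_comm]; exact finrank_orth hB P
  have hκ : 5 ≤ Module.finrank F (Fin (Module.finrank F W) → F) := by
    rw [Module.finrank_fin_fun]; omega
  obtain ⟨f, hf, h1, h2⟩ := exists_omega_extend hB hn hW he hB' hκ
  refine ⟨_, e, f, hdim, hB', he, hr, hf, h1, fun G => ?_, ?_⟩
  · rw [h2, hr, orth_orth hB]
  · exact Subgroup.map_injective (Subgroup.subtype_injective _) (by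
      rw [Subgroup.map_subtype_commutator, omega_perfect hB' hκ, ← MonoidHom.range_eq_map,
        Subgroup.range_subtype])

end CfsgLib.Orth
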