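import Mathlib

/-!
Matrices fixed up to scalars by a field automorphism of prime order.
-/

set_option autoImplicit false

namespace CfsgLib.Classical.FixedCosets

open scoped MatrixGroups

variable {F : Type*} [Field F]

/-- The fixed field of an automorphism. -/
abbrev fixed (σ : F ≃+* F) : Subfield F := FixedPoints.subfield (Subgroup.zpowers σ) F

theorem mem_fixed (σ : F ≃+* F) (x : F) : x ∈ fixed σ ↔ σ x = x := by
  constructor
  · intro h
    exact h ⟨σ, Subgroup.mem_zpowers σ⟩
  · rintro h ⟨g, k, rfl⟩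
    have hmem : σ ∈ MulAction.stabilizer (F ≃+* F) x := h
    exact Subgroup.zpow_mem _ hmem k

theorem card_fixed [Fintype F] (σ : F ≃+* F) {q₀ r : ℕ} (hr : r ≠ 0) (hF : Fintype.card F = q₀ ^ r)
    (hσ : orderOf σ = r) : Nat.card (fixed σ) = q₀ := by
  classical
  haveI : Finite (Subgroup.zpowers σ) := by
    haveI : Finite (F ≃+* F) := Finite.of_injective (fun e : F ≃+* F => (e : F → F)) DFunLike.coe_injective
    infer_instance
  haveI := Fintype.ofFinite (Subgroup.zpowers σ)
  have hfin : Module.finrank (fixed σ) F = r := by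
    rw [FixedPoints.finrank_eq_card (Subgroup.zpowers σ) F, ← Nat.card_eq_fintype_card, Nat.card_zpowers, hσ]
  have h := Module.card_eq_pow_finrank (K := fixed σ) (V := F)
  rw [hfin, hF] at h
  rw [Nat.card_eq_fintype_card]
  exact (Nat.pow_left_injective hr h).symm

theorem scalar_mul_apply {R : Type*} [Field R] {n : ℕ} (k : Rˣ) (h : GL (Fin n) R) (i j : Fin n) :
    ((Matrix.GeneralLinearGroup.scalar (Fin n) k * h : GL (Fin n) R) : Matrix (Fin n) (Fin n) R) i j =
      (k : R) * (h : Matrix (Fin n) (Fin n) R) i j := by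
  show (Matrix.scalar (Fin n) (k : R) * (h : Matrix (Fin n) (Fin n) R)) i j = _
  rw [Matrix.scalar_apply, Matrix.diagonal_mul]

theorem card_cosets [Fintype F] {q₀ r n : ℕ} (hr : r ≠ 0) (hn : 1 ≤ n) (hF : Fintype.card F = q₀ ^ r)
    (σ : F ≃+* F) (hσ : orderOf σ = r) :
    Nat.card {g : GL (Fin n) F // ∃ c : F, c ≠ 0 ∧
      (g : Matrix (Fin n) (Fin n) F).map σ = c • (g : Matrix (Fin n) (Fin n) F)} =
      (q₀ ^ r - 1) / (q₀ - 1) * ∏ i : Fin n, (q₀ ^ n - q₀ ^ (i : ℕ)) := by
  classical
  set K := fixed σ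
  set ι : GL (Fin n) K →* GL (Fin n) F := Matrix.GeneralLinearGroup.map (algebraMap K F)
  set T := {g : GL (Fin n) F // ∃ c : F, c ≠ 0 ∧
    (g : Matrix (Fin n) (Fin n) F).map σ = c • (g : Matrix (Fin n) (Fin n) F)}
  let f : Fˣ × GL (Fin n) K → GL (Fin n) F := fun x =>
    Matrix.GeneralLinearGroup.scalar (Fin n) x.1 * ι x.2
  have happ : ∀ (x : Fˣ × GL (Fin n) K) (i j : Fin n),
      (f x : Matrix (Fin n) (Fin n) F) i j = (x.1 : F) * (((x.2 : Matrix (Fin n) (Fin n) K) i j : K) : F) := by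
    intro x i j
    simp [f, ι, Matrix.GeneralLinearGroup.map, Matrix.scalar_apply, Matrix.diagonal_mul]
    rfl
  have hfT : ∀ x, ∃ c : F, c ≠ 0 ∧
      (f x : Matrix (Fin n) (Fin n) F).map σ = c • (f x : Matrix (Fin n) (Fin n) F) := by
    intro x
    refine ⟨σ (x.1 : F) / (x.1 : F), div_ne_zero (by simp) x.1.ne_zero, ?_⟩
    ext i j
    rw [Matrix.map_apply, Matrix.smul_apply, happ, map_mul, (mem_fixed σ _).mp (SetLike.coe_mem _), smul_eq_mul,
      ← mul_assoc, div_mul_cancel₀ _ x.1.ne_zero]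
  have hentry : ∀ g : GL (Fin n) F, ∃ i j, (g : Matrix (Fin n) (Fin n) F) i j ≠ 0 := by
    intro g
    by_contra h
    push_neg at h
    have h0 : (g : Matrix (Fin n) (Fin n) F) = 0 := by ext i j; exact h i j
    haveI : Nonempty (Fin n) := ⟨⟨0, hn⟩⟩
    exact g.ne_zero h0
  have hsurj : ∀ t : T, ∃ x, f x = t.1 := by
    rintro ⟨g, c, hc0, hg⟩
    obtain ⟨i, j, ha⟩ := hentry g
    set a := (g : Matrix (Fin n) (Fin n) F) i j with ha'
    have hmem : ∀ k l, (g : Matrix (Fin n) (Fin n) F) k l / a ∈ K := by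
      intro k l
      have h1 := congrFun (congrFun hg k) l
      have h2 := congrFun (congrFun hg i) j
      rw [Matrix.map_apply, Matrix.smul_apply, smul_eq_mul] at h1 h2
      rw [mem_fixed, map_div₀, h1, ha', h2, mul_div_mul_left _ _ hc0]
    let M : Matrix (Fin n) (Fin n) K := fun k l => ⟨_, hmem k l⟩
    have hM : (algebraMap K F).mapMatrix M = a⁻¹ • (g : Matrix (Fin n) (Fin n) F) := by
      ext k l
      show (g : Matrix (Fin n) (Fin n) F) k l / a = _
      rw [Matrix.smul_apply, smul_eq_mul, div_eq_inv_mul]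
    have hdet : M.det ≠ 0 := by
      intro h0
      have h1 := congrArg (algebraMap K F) h0
      rw [RingHom.map_det, hM, Matrix.det_smul, map_zero, mul_eq_zero] at h1
      rcases h1 with h1 | h1
      · exact pow_ne_zero _ (inv_ne_zero ha) h1
      · exact (Matrix.GeneralLinearGroup.det g).ne_zero h1
    refine ⟨(Units.mk0 a ha, Matrix.GeneralLinearGroup.mkOfDetNeZero M hdet), Units.ext (Matrix.ext fun k l => ?_)⟩
    rw [happ]
    show a * ((g : Matrix (Fin n) (Fin n) F) k l / a) = _
    rw [mul_div_cancel₀ _ ha]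
  choose s hs using hsurj
  let Φ : T × Kˣ → Fˣ × GL (Fin n) K := fun x =>
    ((s x.1).1 * Units.map (algebraMap K F : K →* F) x.2,
      Matrix.GeneralLinearGroup.scalar (Fin n) x.2⁻¹ * (s x.1).2)
  have hΦ : ∀ x, f (Φ x) = x.1.1 := by
    intro x
    rw [← hs x.1]
    apply Units.ext
    ext i j
    rw [happ, happ]
    have hk : ((x.2 : K) : F) ≠ 0 := by simpa using x.2.ne_zero
    simp only [Φ, scalar_mul_apply, Units.val_mul]
    show _ * (((x.2 : K) : F)) * ((((x.2⁻¹ : Kˣ) : K) * ((s x.1).2 : Matrix (Fin n) (Fin n) K) i j : K) : F) = _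
    rw [mul_assoc, ← Subfield.coe_mul, ← mul_assoc (x.2 : K), Units.mul_inv, one_mul]
  have hbij : Function.Bijective Φ := by
    constructor
    · intro x y hxy
      have h1 : x.1 = y.1 := Subtype.ext (by rw [← hΦ x, hxy, hΦ y])
      refine Prod.ext h1 ?_
      have h2 := congrArg Prod.fst hxy
      simp only [Φ] at h2
      rw [h1, mul_right_inj] at h2
      exact Units.ext ((algebraMap K F).injective (congrArg (fun u : Fˣ => (u : F)) h2))
    · rintro ⟨a, h⟩
      set t : T := ⟨f (a, h), hfT _⟩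
      have ht : f (s t) = f (a, h) := hs t
      obtain ⟨i, j, hij⟩ := hentry (f (a, h))
      have h1 := congrArg (fun z : GL (Fin n) F => (z : Matrix (Fin n) (Fin n) F) i j) ht
      simp only [happ] at hij h1
      have hij' := right_ne_zero_of_mul hij
      have hs' : (((s t).2 : Matrix (Fin n) (Fin n) K) i j : F) ≠ 0 := by
        intro h0; rw [h0, mul_zero] at h1; exact hij h1.symm
      have hmem : (a : F) / ((s t).1 : F) ∈ K := by
        have e : (a : F) / ((s t).1 : F) =
            (((s t).2 : Matrix (Fin n) (Fin n) K) i j : F) / ((h : Matrix (Fin n) (Fin n) K) i j : F) := by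
          rw [div_eq_div_iff (s t).1.ne_zero hij']
          rw [← h1]
          ring
        rw [e]
        exact div_mem (SetLike.coe_mem _) (SetLike.coe_mem _)
      have hk0 : (⟨_, hmem⟩ : K) ≠ 0 := fun h0 =>
        (div_ne_zero a.ne_zero (s t).1.ne_zero) (congrArg Subtype.val h0)
      refine ⟨(t, Units.mk0 _ hk0), ?_⟩
      have h3 : (Φ (t, Units.mk0 _ hk0)).1 = a := by
        apply Units.ext
        show ((s t).1 : F) * ((a : F) / ((s t).1 : F)) = a
        rw [mul_div_cancel₀ _ (s t).1.ne_zero]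
      refine Prod.ext h3 (Units.ext (Matrix.ext fun k l => Subtype.ext ?_))
      have h4 := congrArg (fun z : GL (Fin n) F => (z : Matrix (Fin n) (Fin n) F) k l) (hΦ (t, Units.mk0 _ hk0))
      simp only [happ, h3] at h4
      have h5 := happ (a, h) k l
      exact mul_left_cancel₀ a.ne_zero (h4.trans h5)
  have hK : Nat.card K = q₀ := card_fixed σ hr hF hσ
  have hcard := Nat.card_eq_of_bijective Φ hbij
  rw [Nat.card_prod, Nat.card_prod, Nat.card_units, Nat.card_units, hK, Matrix.card_GL_field,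
    ← Nat.card_eq_fintype_card (α := K), hK, Nat.card_eq_fintype_card (α := F), hF] at hcard
  have hq : 0 < q₀ - 1 := by
    have := Fintype.one_lt_card (α := K)
    rw [← Nat.card_eq_fintype_card, hK] at this
    omega
  obtain ⟨d, hd⟩ : q₀ - 1 ∣ q₀ ^ r - 1 := by simpa using Nat.sub_dvd_pow_sub_pow q₀ 1 r
  rw [hd, Nat.mul_div_cancel_left _ hq]
  apply Nat.eq_of_mul_eq_mul_right hq
  rw [hcard, hd]
  ring

end CfsgLib.Classical.FixedCosets
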