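import Mathlib
import Cfsg.Agent.Lib.Classical.SemisimpleCount

/-!
The general linear group over a field with `q` elements has at most `q ^ n` conjugacy classes.
-/

set_option autoImplicit false
set_option linter.style.haveILetI false

namespace CfsgLib.Classical.GLClassBound

open Polynomial UniqueFactorizationMonoid

variable {F : Type*} [Field F]

/-- Telescoping sum used for the counting of tuples. -/
theorem geom_bound {q M : ℕ} (G : ℕ → ℕ) (hq : 1 ≤ q) (hM : 1 ≤ M)
    (h0 : G 0 ≤ 1) (hG : ∀ m, 1 ≤ m → q ^ (M - 1) * G m + q ^ m ≤ q ^ (M - 1 + m)) (r k : ℕ) :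
    q * ∑ j ∈ Finset.range k, q ^ j * (q ^ (M - 1) * G (r + M * (k - 1 - j))) ≤ q ^ (r + M * k) := by
  induction k with
  | zero => simp
  | succ k ih =>
    rw [Finset.sum_range_succ', mul_add]
    have h1 : ∑ j ∈ Finset.range k, q ^ (j + 1) * (q ^ (M - 1) * G (r + M * (k + 1 - 1 - (j + 1)))) =
        q * ∑ j ∈ Finset.range k, q ^ j * (q ^ (M - 1) * G (r + M * (k - 1 - j))) := by
      rw [Finset.mul_sum]
      refine Finset.sum_congr rfl fun j _ => ?_
      rw [show k + 1 - 1 - (j + 1) = k - 1 - j by omega, pow_succ]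
      ring
    rw [h1, pow_zero, one_mul, show k + 1 - 1 - 0 = k by omega]
    set S := q * ∑ j ∈ Finset.range k, q ^ j * (q ^ (M - 1) * G (r + M * (k - 1 - j)))
    have hMp : q ^ M = q * q ^ (M - 1) := by rw [← pow_succ']; congr 1; omega
    have hrhs : q ^ (r + M * (k + 1)) = q * (q ^ (M - 1) * q ^ (r + M * k)) := by
      rw [← mul_assoc, ← hMp, ← pow_add]; congr 1; ring
    rw [hrhs, ← mul_add]
    refine Nat.mul_le_mul le_rfl ?_
    rcases Nat.eq_zero_or_pos (r + M * k) with h | h
    · have hk : k = 0 := by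
        by_contra hk
        have := Nat.mul_pos hM (Nat.pos_of_ne_zero hk)
        omega
      subst hk
      have hS : S = 0 := by simp [S]
      rw [hS, zero_add, h, pow_zero]
      exact Nat.mul_le_mul le_rfl h0
    · have := hG _ h
      rw [← pow_add]
      omega

/-- The tuples indexing the classes: the `i`-th polynomial collects the elementary divisors of exponent `i + 1`. -/
def IsTuple (E n : ℕ) (h : Fin E → F[X]) : Prop :=
  (∀ i, (h i).Monic ∧ (h i).coeff 0 ≠ 0) ∧ ∑ i : Fin E, (i.1 + 1) * (h i).natDegree = n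

variable [Fintype F]

omit [Fintype F] in
theorem eq_one_of_degree_zero {f : F[X]} (hf : f.Monic) (hd : f.natDegree = 0) : f = 1 :=
  eq_one_of_monic_natDegree_zero hf hd

theorem finite_monic (d : ℕ) : Finite {f : F[X] // f.Monic ∧ f.natDegree = d ∧ f.coeff 0 ≠ 0} :=
  Finite.of_injective (fun f => (monicEquivDegreeLT d).trans (degreeLTEquiv F d).toEquiv ⟨f.1, f.2.1, f.2.2.1⟩)
    (fun a b h => Subtype.ext (congrArg Subtype.val (Equiv.injective _ h) :))

theorem tuple_finite_and_bound {q : ℕ} (hq : Fintype.card F = q) (E : ℕ) :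
    ∀ n, Finite {h : Fin E → F[X] // IsTuple E n h} ∧
      Nat.card {h : Fin E → F[X] // IsTuple E 0 h} ≤ 1 ∧
      (1 ≤ n → q ^ E * Nat.card {h : Fin E → F[X] // IsTuple E n h} + q ^ n ≤ q ^ (E + n)) := by
  classical
  have hq1 : 1 ≤ q := hq ▸ Fintype.card_pos
  have hzero : ∀ E : ℕ, Nat.card {h : Fin E → F[X] // IsTuple E 0 h} ≤ 1 := fun E => by
    have : Subsingleton {h : Fin E → F[X] // IsTuple E 0 h} := ⟨fun a b => Subtype.ext (funext fun i => by
      have hd : ∀ c : {h : Fin E → F[X] // IsTuple E 0 h}, c.1 i = 1 := fun c => by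
        have h1 := Finset.sum_eq_zero_iff.mp c.2.2 i (Finset.mem_univ i)
        exact eq_one_of_degree_zero (c.2.1 i).1 ((mul_eq_zero.mp h1).resolve_left (Nat.succ_ne_zero _))
      rw [hd a, hd b])⟩
    exact Finite.card_le_one_iff_subsingleton.mpr this
  induction E with
  | zero =>
    intro n
    have hfin : Finite {h : Fin 0 → F[X] // IsTuple 0 n h} := inferInstance
    refine ⟨hfin, hzero 0, fun hn => ?_⟩
    have : IsEmpty {h : Fin 0 → F[X] // IsTuple 0 n h} := ⟨fun c => by
      have := c.2.2
      simp at this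
      omega⟩
    simp
  | succ E ih =>
    intro n
    set M := E + 1 with hM
    let Mon : ℕ → Type _ := fun d => {f : F[X] // f.Monic ∧ f.natDegree = d ∧ f.coeff 0 ≠ 0}
    have hMon : ∀ d, Finite (Mon d) := finite_monic
    let T : ℕ → Type _ := fun m => {h : Fin E → F[X] // IsTuple E m h}
    have hT : ∀ m, Finite (T m) := fun m => (ih m).1
    let Sg := Σ d : Fin (n / M + 1), Mon d.1 × T (n - M * d.1)
    have key : ∀ c : {h : Fin M → F[X] // IsTuple M n h},
        (c.1 (Fin.last E)).natDegree ≤ n / M ∧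
          IsTuple E (n - M * (c.1 (Fin.last E)).natDegree) (fun i => c.1 i.castSucc) := by
      rintro ⟨h, hh, hs⟩
      rw [Fin.sum_univ_castSucc] at hs
      simp only [Fin.val_castSucc, Fin.val_last] at hs
      refine ⟨(Nat.le_div_iff_mul_le (Nat.succ_pos E)).mpr (by rw [mul_comm]; exact (Nat.le_add_left _ _).trans hs.le),
        fun i => hh _, ?_⟩
      show ∑ i : Fin E, (i.1 + 1) * (h i.castSucc).natDegree = n - (E + 1) * (h (Fin.last E)).natDegree
      exact (Nat.sub_eq_of_eq_add hs.symm).symm
    let φ : {h : Fin M → F[X] // IsTuple M n h} → Sg := fun c =>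
      ⟨⟨(c.1 (Fin.last E)).natDegree, Nat.lt_succ_of_le (key c).1⟩,
        ⟨c.1 (Fin.last E), (c.2.1 _).1, rfl, (c.2.1 _).2⟩, ⟨fun i => c.1 i.castSucc, (key c).2⟩⟩
    have hφ : Function.Injective φ := fun a b hab => by
      have h1 := congrArg (fun z : Sg => z.2.1.1) hab
      have h2 := congrArg (fun z : Sg => z.2.2.1) hab
      refine Subtype.ext (funext fun i => ?_)
      induction i using Fin.lastCases with
      | last => exact h1
      | cast j => exact congrFun h2 j
    have hfin : Finite {h : Fin M → F[X] // IsTuple M n h} := Finite.of_injective φ hφ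
    refine ⟨hfin, hzero _, fun hn => ?_⟩
    have hcard : Nat.card {h : Fin M → F[X] // IsTuple M n h} ≤
        Nat.card (T n) + (q - 1) * ∑ j ∈ Finset.range (n / M), q ^ j * Nat.card (T (n - M * (j + 1))) := by
      refine (Nat.card_le_card_of_injective φ hφ).trans (le_of_eq ?_)
      rw [Nat.card_sigma, Fin.sum_univ_succ]
      congr 1
      · have : Nat.card (Mon 0) = 1 := by
          rw [Nat.card_eq_one_iff_unique]
          exact ⟨⟨fun a b => Subtype.ext (by
            rw [eq_one_of_degree_zero a.2.1 a.2.2.1, eq_one_of_degree_zero b.2.1 b.2.2.1])⟩,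
            ⟨⟨1, monic_one, natDegree_one, by simp⟩⟩⟩
        rw [Nat.card_prod]
        show Nat.card (Mon 0) * Nat.card (T (n - M * 0)) = _
        rw [this, one_mul, mul_zero, Nat.sub_zero]
      · rw [Finset.mul_sum, ← Fin.sum_univ_eq_sum_range]
        refine Finset.sum_congr rfl fun j _ => ?_
        rw [Nat.card_prod]
        show Nat.card {f : F[X] // f.Monic ∧ f.natDegree = j.1 + 1 ∧ f.coeff 0 ≠ 0} *
          Nat.card (T (n - M * (j.1 + 1))) = _
        rw [SemisimpleCount.card_monic j.1 (fun a => a ≠ 0), Nat.card_fun, Nat.card_eq_fintype_card,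
          Fintype.card_subtype_compl, Fintype.card_subtype_eq, Nat.card_eq_fintype_card, hq,
          Nat.card_eq_fintype_card, Fintype.card_fin, mul_assoc]
    have hsum : q * ∑ j ∈ Finset.range (n / M), q ^ j * (q ^ E * Nat.card (T (n - M * (j + 1)))) ≤ q ^ n := by
      have h := geom_bound (q := q) (M := M) (fun m => Nat.card (T m)) hq1 (Nat.succ_pos E)
        (ih 0).2.1 (fun m hm => by simpa [hM] using (ih m).2.2 hm) (n % M) (n / M)
      rw [Nat.mod_add_div] at h
      refine le_of_eq_of_le (congrArg (q * ·) (Finset.sum_congr rfl fun j hj => ?_)) h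
      simp only [hM, Nat.add_sub_cancel]
      congr 4
      have hj' := Finset.mem_range.mp hj
      have h1 := Nat.mod_add_div n M
      have h2 : M * (n / M - 1 - j) + M * (j + 1) = M * (n / M) := by
        rw [← Nat.mul_add]; congr 1; omega
      rw [hM] at h1 h2 hj'
      omega
    have h0 := (ih n).2.2 hn
    rw [pow_add] at h0
    set X0 := q ^ E * Nat.card (T n)
    calc q ^ M * Nat.card {h : Fin M → F[X] // IsTuple M n h} + q ^ n
        ≤ q * X0 + (q - 1) * (q * ∑ j ∈ Finset.range (n / M), q ^ j * (q ^ E * Nat.card (T (n - M * (j + 1))))) + q ^ n := by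
          refine Nat.add_le_add_right (le_trans (Nat.mul_le_mul le_rfl hcard) (le_of_eq ?_)) _
          rw [hM, pow_succ', mul_add]
          simp only [X0, Finset.mul_sum]
          congr 1
          · ring
          · exact Finset.sum_congr rfl fun j _ => by ring
      _ ≤ q * X0 + (q - 1) * q ^ n + q ^ n := by
          gcongr
      _ = q * (X0 + q ^ n) := by
          obtain ⟨b, rfl⟩ : ∃ b, q = b + 1 := ⟨q - 1, by omega⟩
          rw [Nat.add_sub_cancel]; ring
      _ ≤ q * (q ^ E * q ^ n) := Nat.mul_le_mul le_rfl h0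
      _ = q ^ (M + n) := by rw [hM, ← mul_assoc, ← pow_succ', ← pow_add]

omit [Fintype F] in
/-- Decomposition of the module of an invertible matrix. -/
theorem exists_decomp {n : ℕ} (g : GL (Fin n) F) :
    ∃ (ι : Type) (_ : Fintype ι) (P : ι → F[X]) (e : ι → ℕ),
      (∀ i, (P i).Monic ∧ Irreducible (P i) ∧ (P i).coeff 0 ≠ 0 ∧ 1 ≤ e i ∧ e i ≤ n) ∧
      ∑ i, e i * (P i).natDegree = n ∧
      Nonempty (Module.AEval' (Matrix.toLin' (g : Matrix (Fin n) (Fin n) F)) ≃ₗ[F[X]]
        ∀ i, F[X] ⧸ Ideal.span ({P i ^ e i} : Set F[X])) := by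
  classical
  set f := Matrix.toLin' (g : Matrix (Fin n) (Fin n) F) with hf
  obtain ⟨κ, hκ, p, hp, e, ⟨φ⟩⟩ := Module.equiv_directSum_of_isTorsion
    (Module.AEval.isTorsion_of_finiteDimensional F (Fin n → F) f)
  let ι0 := {i : κ // e i ≠ 0}
  let em : Fin (Fintype.card ι0) ≃ ι0 := (Fintype.equivFin ι0).symm
  let P : Fin (Fintype.card ι0) → F[X] := fun i => normalize (p (em i).1)
  have hPm : ∀ i, (P i).Monic := fun i => monic_normalize (hp _).ne_zero
  have hPi : ∀ i, Irreducible (P i) := fun i => ((normalize_associated _).symm.irreducible (hp _))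
  have hspan : ∀ i, Ideal.span ({p (em i).1 ^ e (em i).1} : Set F[X]) = Ideal.span {P i ^ e (em i).1} :=
    fun i => Ideal.span_singleton_eq_span_singleton.mpr (((normalize_associated _).symm).pow_pow)
  let res : (∀ i : κ, F[X] ⧸ Ideal.span ({p i ^ e i} : Set F[X])) →ₗ[F[X]]
      ∀ i : Fin (Fintype.card ι0), F[X] ⧸ Ideal.span ({P i ^ e (em i).1} : Set F[X]) :=
    LinearMap.pi fun i => (Submodule.quotEquivOfEq _ _ (hspan i)).toLinearMap ∘ₗ LinearMap.proj (em i).1
  have hres : Function.Bijective res := by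
    constructor
    · rw [injective_iff_map_eq_zero]
      intro x hx
      funext i
      by_cases hi : e i = 0
      · have : Subsingleton (F[X] ⧸ Ideal.span ({p i ^ e i} : Set F[X])) := by
          rw [hi, pow_zero]
          exact Ideal.Quotient.subsingleton_iff.mpr (by simp)
        exact Subsingleton.elim _ _
      · obtain ⟨j, hj⟩ := em.surjective ⟨i, hi⟩
        have h1 := congrFun hx j
        simp only [res, LinearMap.pi_apply, LinearMap.comp_apply, LinearMap.proj_apply, Pi.zero_apply,
          LinearEquiv.coe_coe, LinearEquiv.map_eq_zero_iff] at h1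
        rw [hj] at h1
        exact h1
    · intro y
      refine ⟨fun i => if h : e i ≠ 0 then ((Submodule.quotEquivOfEq _ _
        ((congrArg (fun z : ι0 => Ideal.span ({p z.1 ^ e z.1} : Set F[X])) (em.apply_symm_apply ⟨i, h⟩)).symm.trans
          (hspan (em.symm ⟨i, h⟩)))).symm (y (em.symm ⟨i, h⟩))) else 0, ?_⟩
      funext j
      have hj : e (em j).1 ≠ 0 := (em j).2
      simp only [res, LinearMap.pi_apply, LinearMap.comp_apply, LinearMap.proj_apply, LinearEquiv.coe_coe, dif_pos hj]
      have aux : ∀ (k : Fin (Fintype.card ι0)), k = j →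
          ∀ hh : (Ideal.span ({p (em j).1 ^ e (em j).1} : Set F[X])) = Ideal.span {P k ^ e (em k).1},
          Submodule.quotEquivOfEq _ _ (hspan j) ((Submodule.quotEquivOfEq _ _ hh).symm (y k)) = y j := by
        rintro k rfl hh
        exact LinearEquiv.apply_symm_apply (Submodule.quotEquivOfEq _ _ (hspan k)) (y k)
      exact aux _ (em.symm_apply_apply j) _
  let Φ : Module.AEval' f ≃ₗ[F[X]] ∀ i : Fin (Fintype.card ι0), F[X] ⧸ Ideal.span ({P i ^ e (em i).1} : Set F[X]) :=
    φ.trans ((DirectSum.linearEquivFunOnFintype F[X] κ _).trans (LinearEquiv.ofBijective res hres))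
  have hdeg : ∑ i, e (em i).1 * (P i).natDegree = n := by
    have hfin : ∀ i, Module.Finite F (F[X] ⧸ Ideal.span ({P i ^ e (em i).1} : Set F[X])) := fun i =>
      ((hPm i).pow (e (em i).1)).finite_adjoinRoot
    have h1 := (Φ.restrictScalars F).finrank_eq
    rw [Module.finrank_pi_fintype, ← LinearEquiv.finrank_eq (Module.AEval'.of f), Module.finrank_pi,
      Fintype.card_fin] at h1
    rw [h1]
    refine Finset.sum_congr rfl fun i _ => ?_
    rw [finrank_quotient_span_eq_natDegree, natDegree_pow]
  refine ⟨_, inferInstance, P, fun i => e (em i).1, fun i => ⟨hPm i, hPi i, ?_, Nat.pos_of_ne_zero (em i).2, ?_⟩, hdeg, ⟨Φ⟩⟩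
  · intro h0
    have hX : X ∣ P i := X_dvd_iff.mpr h0
    have hPX : P i = X := ((eq_of_monic_of_associated (hPm i) monic_X
      (((Polynomial.irreducible_X).associated_of_dvd (hPi i) hX).symm)))
    set k := e (em i).1 with hk
    have hk1 : 1 ≤ k := Nat.pos_of_ne_zero (em i).2
    set w := Φ.symm (Pi.single i (Ideal.Quotient.mk _ (P i ^ (k - 1)))) with hw
    have hXw : (X : F[X]) • w = 0 := by
      rw [hw, ← map_smul, ← Pi.single_smul]
      convert map_zero Φ.symm
      rw [Pi.single_eq_zero_iff, ← Ideal.Quotient.mk_eq_mk, ← Submodule.Quotient.mk_smul,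
        Submodule.Quotient.mk_eq_zero, smul_eq_mul, ← hPX, ← pow_succ', Nat.sub_add_cancel hk1]
      exact Ideal.mem_span_singleton_self _
    have hw0 : w = 0 := by
      obtain ⟨v, hv⟩ := (Module.AEval'.of f).surjective w
      rw [← hv, Module.AEval'.X_smul_of, LinearEquiv.map_eq_zero_iff] at hXw
      have : v = 0 := by
        have h2 := congrArg (Matrix.toLin' ((g⁻¹ : GL (Fin n) F) : Matrix (Fin n) (Fin n) F)) hXw
        rwa [hf, ← LinearMap.comp_apply, ← Matrix.toLin'_mul, ← Units.val_mul, inv_mul_cancel, Units.val_one,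
          Matrix.toLin'_one, LinearMap.id_apply, map_zero] at h2
      rw [← hv, this, map_zero]
    rw [hw, LinearEquiv.map_eq_zero_iff, Pi.single_eq_zero_iff, Ideal.Quotient.eq_zero_iff_mem,
      Ideal.mem_span_singleton] at hw0
    have := natDegree_le_of_dvd hw0 (pow_ne_zero _ (hPi i).ne_zero)
    rw [natDegree_pow, natDegree_pow, hPX, natDegree_X] at this
    omega
  · calc e (em i).1 ≤ e (em i).1 * (P i).natDegree := Nat.le_mul_of_pos_right _ (hPi i).natDegree_pos
      _ ≤ ∑ j, e (em j).1 * (P j).natDegree :=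
        Finset.single_le_sum (f := fun j => e (em j).1 * (P j).natDegree) (fun _ _ => Nat.zero_le _) (Finset.mem_univ i)
      _ = n := hdeg

omit [Fintype F] in
theorem isConj_of_equiv {n : ℕ} {a b : GL (Fin n) F}
    (φ : Module.AEval' (Matrix.toLin' (a : Matrix (Fin n) (Fin n) F)) ≃ₗ[F[X]]
      Module.AEval' (Matrix.toLin' (b : Matrix (Fin n) (Fin n) F))) : IsConj a b := by
  set fa := Matrix.toLin' (a : Matrix (Fin n) (Fin n) F)
  set fb := Matrix.toLin' (b : Matrix (Fin n) (Fin n) F)
  let e : (Fin n → F) ≃ₗ[F] (Fin n → F) :=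
    ((Module.AEval'.of fa).trans (φ.restrictScalars F)).trans (Module.AEval'.of fb).symm
  have he : ∀ v, e (fa v) = fb (e v) := fun v => by
    apply (Module.AEval'.of fb).injective
    rw [← Module.AEval'.X_smul_of]
    simp only [e, LinearEquiv.trans_apply, LinearEquiv.apply_symm_apply, LinearEquiv.restrictScalars_apply]
    rw [← map_smul, Module.AEval'.X_smul_of]
  let c : GL (Fin n) F := ⟨LinearMap.toMatrix' e.toLinearMap, LinearMap.toMatrix' e.symm.toLinearMap,
    by rw [← LinearMap.toMatrix'_comp, e.comp_symm, LinearMap.toMatrix'_id],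
    by rw [← LinearMap.toMatrix'_comp, e.symm_comp, LinearMap.toMatrix'_id]⟩
  refine isConj_iff.mpr ⟨c, mul_inv_eq_iff_eq_mul.mpr (Units.ext (Matrix.toLin'.injective ?_))⟩
  rw [Units.val_mul, Units.val_mul, Matrix.toLin'_mul, Matrix.toLin'_mul]
  show Matrix.toLin' (LinearMap.toMatrix' e.toLinearMap) ∘ₗ fa = fb ∘ₗ Matrix.toLin' (LinearMap.toMatrix' e.toLinearMap)
  rw [Matrix.toLin'_toMatrix']
  exact LinearMap.ext he

/-- The number of conjugacy classes of `GL n F` is at most `q ^ n`. -/
theorem card_classes_le {q : ℕ} (hq : Fintype.card F = q) {n : ℕ} (hn : 1 ≤ n) :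
    Nat.card (ConjClasses (GL (Fin n) F)) ≤ q ^ n := by
  classical
  choose ι hι P e hP hdeg φ using fun c : ConjClasses (GL (Fin n) F) => exists_decomp (n := n) c.out
  have hb := tuple_finite_and_bound hq n n
  have := hb.1
  have hT : Nat.card {h : Fin n → F[X] // IsTuple n n h} ≤ q ^ n := by
    have h1 := hb.2.2 hn
    rw [pow_add] at h1
    exact Nat.le_of_mul_le_mul_left (le_trans (Nat.le_add_right _ _) h1) (Nat.pow_pos (hq ▸ Fintype.card_pos))
  refine le_trans ?_ hT
  let s : ∀ c, Fin n → Finset (ι c) := fun c k => Finset.univ.filter fun i => e c i = k.1 + 1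
  let h : ConjClasses (GL (Fin n) F) → Fin n → F[X] := fun c k => ∏ i ∈ s c k, P c i
  have hh : ∀ c, IsTuple n n (h c) := by
    intro c
    refine ⟨fun k => ⟨monic_prod_of_monic _ _ fun i _ => (hP c i).1, ?_⟩, ?_⟩
    · rw [coeff_zero_prod]
      exact Finset.prod_ne_zero_iff.mpr fun i _ => (hP c i).2.2.1
    · simp only [h]
      calc ∑ k : Fin n, (k.1 + 1) * (∏ i ∈ s c k, P c i).natDegree
          = ∑ k : Fin n, ∑ i ∈ s c k, e c i * (P c i).natDegree := Finset.sum_congr rfl fun k _ => by
            rw [natDegree_prod _ _ fun i _ => (hP c i).1.ne_zero, Finset.mul_sum]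
            exact Finset.sum_congr rfl fun i hi => by rw [(Finset.mem_filter.mp hi).2]
        _ = ∑ i, e c i * (P c i).natDegree := by
            let key : ι c → Fin n := fun i => ⟨e c i - 1, by have := (hP c i).2.2.2; omega⟩
            rw [← Finset.sum_fiberwise Finset.univ key]
            refine Finset.sum_congr rfl fun k _ => Finset.sum_congr ?_ fun _ _ => rfl
            ext i
            simp only [s, Finset.mem_filter, Finset.mem_univ, true_and, key, Fin.ext_iff]
            have := (hP c i).2.2.2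
            omega
        _ = n := hdeg c
  refine Nat.card_le_card_of_injective (fun c => (⟨h c, hh c⟩ : {h : Fin n → F[X] // IsTuple n n h})) ?_
  intro c d hcd
  have hcd' : h c = h d := congrArg Subtype.val hcd
  have hfib : ∀ z : ℕ × F[X], Nonempty ({i // (e c i, P c i) = z} ≃ {j // (e d j, P d j) = z}) := by
    rintro ⟨k, p⟩
    by_cases hk : 1 ≤ k ∧ k ≤ n
    · have hcount : ∀ c : ConjClasses (GL (Fin n) F), Fintype.card {i // (e c i, P c i) = (k, p)} =
          (normalizedFactors (h c ⟨k - 1, by omega⟩)).count p := by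
        intro c
        have hnf : normalizedFactors (h c ⟨k - 1, by omega⟩) = (s c ⟨k - 1, by omega⟩).val.map (P c) := by
          rw [show h c ⟨k - 1, by omega⟩ = ((s c ⟨k - 1, by omega⟩).val.map (P c)).prod from rfl,
            normalizedFactors_multiset_prod _ (fun h0 => by
              obtain ⟨i, -, hi⟩ := Multiset.mem_map.mp h0
              exact (hP c i).1.ne_zero hi), Multiset.map_map]
          conv_lhs => rw [show (normalizedFactors ∘ P c) = fun i => ({P c i} : Multiset F[X]) from funext fun i => by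
            rw [Function.comp_apply, normalizedFactors_irreducible (hP c i).2.1, (hP c i).1.normalize_eq_self]]
          exact Multiset.bind_singleton _ _
        rw [hnf, Multiset.count_map, Fintype.card_subtype, Finset.card_def]
        congr 1
        rw [Finset.filter_val, Finset.filter_val, Multiset.filter_filter]
        refine Multiset.filter_congr fun i _ => ?_
        simp only [Prod.mk.injEq]
        constructor
        · rintro ⟨h1, h2⟩; exact ⟨h2.symm, by omega⟩
        · rintro ⟨h1, h2⟩; exact ⟨by omega, h1.symm⟩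
      exact ⟨Fintype.equivOfCardEq (by rw [hcount, hcount, hcd'])⟩
    · have hem : ∀ c : ConjClasses (GL (Fin n) F), IsEmpty {i // (e c i, P c i) = (k, p)} := fun c => ⟨fun i => by
        have h1 := (hP c i.1).2.2.2
        have h2 := congrArg Prod.fst i.2
        simp only at h2
        omega⟩
      have := hem c
      have := hem d
      exact ⟨Equiv.equivOfIsEmpty _ _⟩
  let σ : ι c ≃ ι d := Equiv.ofFiberEquiv (f := fun i => (e c i, P c i)) (g := fun j => (e d j, P d j))
    fun z => (hfib z).some
  have hσ : ∀ i, (e d (σ i), P d (σ i)) = (e c i, P c i) := fun i =>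
    Equiv.ofFiberEquiv_map (f := fun i => (e c i, P c i)) (g := fun j => (e d j, P d j)) (fun z => (hfib z).some) i
  let T : (∀ i, F[X] ⧸ Ideal.span ({P c i ^ e c i} : Set F[X])) ≃ₗ[F[X]]
      ∀ j, F[X] ⧸ Ideal.span ({P d j ^ e d j} : Set F[X]) :=
    (LinearEquiv.piCongrRight fun i => Submodule.quotEquivOfEq _ _ (by
      have h1 := hσ i
      rw [Prod.mk.injEq] at h1
      rw [h1.1, h1.2])).trans
      (LinearEquiv.piCongrLeft F[X] (fun j => F[X] ⧸ Ideal.span ({P d j ^ e d j} : Set F[X])) σ)
  have hconj := isConj_of_equiv ((φ c).some.trans (T.trans (φ d).some.symm))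
  have := ConjClasses.mk_eq_mk_iff_isConj.mpr hconj
  rwa [show ConjClasses.mk c.out = c from Quotient.out_eq c,
    show ConjClasses.mk d.out = d from Quotient.out_eq d] at this

end CfsgLib.Classical.GLClassBound
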