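import Cfsg.Prelude.Def_ClassicalGeometry

set_option autoImplicit false

/-!
The order of the stabiliser of a coordinate subspace in `GL_n`.
-/

namespace CfsgLib.Classical.GLParabolic

open Matrix

variable {F : Type*} [Field F]

/-- Upper block triangular invertible matrices. -/
noncomputable def blockEquiv {n k r : ℕ} (e : Fin k ⊕ Fin r ≃ Fin n) :
    {g : GL (Fin n) F // ((g : Matrix (Fin n) (Fin n) F).submatrix e e).toBlocks₂₁ = 0} ≃
      (GL (Fin k) F × GL (Fin r) F) × Matrix (Fin k) (Fin r) F where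
  toFun g :=
    let M := (g.1 : Matrix (Fin n) (Fin n) F).submatrix e e
    have h : M.toBlocks₁₁.det * M.toBlocks₂₂.det ≠ 0 := by
      have h1 : M = Matrix.fromBlocks M.toBlocks₁₁ M.toBlocks₁₂ 0 M.toBlocks₂₂ := by
        conv_lhs => rw [← Matrix.fromBlocks_toBlocks M, g.2]
      have h2 : M.det ≠ 0 := by
        simp only [M, Matrix.det_submatrix_equiv_self]
        exact (g.1 : GL (Fin n) F).det_ne_zero
      rwa [h1, Matrix.det_fromBlocks_zero₂₁] at h2
    ((Matrix.GeneralLinearGroup.mkOfDetNeZero _ (left_ne_zero_of_mul h),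
      Matrix.GeneralLinearGroup.mkOfDetNeZero _ (right_ne_zero_of_mul h)), M.toBlocks₁₂)
  invFun x :=
    ⟨Matrix.GeneralLinearGroup.mkOfDetNeZero
      ((Matrix.fromBlocks (x.1.1 : Matrix (Fin k) (Fin k) F) x.2 0
        (x.1.2 : Matrix (Fin r) (Fin r) F)).submatrix e.symm e.symm)
      (by rw [Matrix.det_submatrix_equiv_self, Matrix.det_fromBlocks_zero₂₁]
          exact mul_ne_zero x.1.1.det_ne_zero x.1.2.det_ne_zero),
      by ext i j; simp [Matrix.toBlocks₂₁]⟩
  left_inv g := by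
    refine Subtype.ext (Units.ext ?_)
    have h1 : Matrix.fromBlocks ((g.1 : Matrix (Fin n) (Fin n) F).submatrix e e).toBlocks₁₁
        ((g.1 : Matrix (Fin n) (Fin n) F).submatrix e e).toBlocks₁₂ 0
        ((g.1 : Matrix (Fin n) (Fin n) F).submatrix e e).toBlocks₂₂ =
          (g.1 : Matrix (Fin n) (Fin n) F).submatrix e e := by
      conv_rhs => rw [← Matrix.fromBlocks_toBlocks ((g.1 : Matrix (Fin n) (Fin n) F).submatrix e e), g.2]
    show (Matrix.fromBlocks ((g.1 : Matrix (Fin n) (Fin n) F).submatrix e e).toBlocks₁₁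
        ((g.1 : Matrix (Fin n) (Fin n) F).submatrix e e).toBlocks₁₂ 0
        ((g.1 : Matrix (Fin n) (Fin n) F).submatrix e e).toBlocks₂₂).submatrix e.symm e.symm = _
    rw [h1]
    ext i j
    simp
  right_inv x := by
    refine Prod.ext (Prod.ext (Units.ext ?_) (Units.ext ?_)) ?_ <;>
      ext i j <;> simp [Matrix.toBlocks₁₁, Matrix.toBlocks₂₂, Matrix.toBlocks₁₂]

theorem mem_stabilizing_iff {n k r : ℕ} (e : Fin k ⊕ Fin r ≃ Fin n)
    (he : ∀ x, k ≤ ((e x : Fin n) : ℕ) ↔ x.isRight) (g : GL (Fin n) F) :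
    g ∈ Cfsg.stabilizing (Cfsg.glToMat (Fin n) F) {v : Fin n → F | ∀ i : Fin n, k ≤ (i : ℕ) → v i = 0} ↔
      ((g : Matrix (Fin n) (Fin n) F).submatrix e e).toBlocks₂₁ = 0 := by
  set S : Set (Fin n → F) := {v | ∀ i : Fin n, k ≤ (i : ℕ) → v i = 0}
  set M := (g : Matrix (Fin n) (Fin n) F).submatrix e e with hM
  have hS : ∀ v : Fin n → F, v ∈ S ↔ ∀ j, v (e (Sum.inr j)) = 0 := by
    intro v
    refine ⟨fun h j => h _ ((he _).2 rfl), fun h i hi => ?_⟩
    obtain ⟨x, rfl⟩ := e.surjective i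
    cases x with
    | inl a => exact absurd ((he _).1 hi) (by simp)
    | inr a => exact h a
  have hv : ∀ v : Fin n → F, ∀ x, ((g : Matrix (Fin n) (Fin n) F) *ᵥ v) (e x) = (M *ᵥ (v ∘ e)) x := by
    intro v x
    simp only [Matrix.mulVec, dotProduct, M, Matrix.submatrix_apply, Function.comp]
    exact (e.sum_comp (fun j => (g : Matrix (Fin n) (Fin n) F) (e x) j * v j)).symm
  have hmem : g ∈ Cfsg.stabilizing (Cfsg.glToMat (Fin n) F) S ↔
      ∀ v, v ∈ S ↔ (g : Matrix (Fin n) (Fin n) F) *ᵥ v ∈ S := Iff.rfl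
  rw [hmem]
  constructor
  · intro h
    ext j a
    have hmem : (Pi.single (e (Sum.inl a)) (1 : F) : Fin n → F) ∈ S :=
      (hS _).2 fun l => by simp [e.injective.eq_iff]
    have := (hS _).1 ((h _).1 hmem) j
    simpa [Matrix.toBlocks₂₁, M, Matrix.mulVec_single] using this
  · intro h v
    have hb : M = Matrix.fromBlocks M.toBlocks₁₁ M.toBlocks₁₂ 0 M.toBlocks₂₂ := by
      conv_lhs => rw [← Matrix.fromBlocks_toBlocks M, h]
    have hd : M.toBlocks₂₂.det ≠ 0 := by
      have h2 : M.det ≠ 0 := by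
        rw [hM, Matrix.det_submatrix_equiv_self]; exact g.det_ne_zero
      rw [hb, Matrix.det_fromBlocks_zero₂₁] at h2
      exact right_ne_zero_of_mul h2
    have hr : ∀ j, ((g : Matrix (Fin n) (Fin n) F) *ᵥ v) (e (Sum.inr j)) =
        (M.toBlocks₂₂ *ᵥ (v ∘ e ∘ Sum.inr)) j := by
      intro j
      rw [hv, hb, Matrix.fromBlocks_mulVec]
      simp [Function.comp_assoc]
    rw [hS, hS]
    simp only [hr]
    constructor
    · intro h0 j
      rw [show v ∘ e ∘ Sum.inr = 0 from funext h0, Matrix.mulVec_zero, Pi.zero_apply]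
    · intro h0 j
      exact congrFun (Matrix.eq_zero_of_mulVec_eq_zero hd (funext h0)) j

theorem card_stabilizer [Fintype F] {q : ℕ} (hF : Fintype.card F = q) (n k : ℕ) (hk : k ≤ n) :
    Nat.card ↥(Cfsg.stabilizing (Cfsg.glToMat (Fin n) F)
        {v : Fin n → F | ∀ i : Fin n, k ≤ (i : ℕ) → v i = 0}) =
      q ^ (k * (n - k)) * (∏ i : Fin k, (q ^ k - q ^ (i : ℕ))) *
        ∏ i : Fin (n - k), (q ^ (n - k) - q ^ (i : ℕ)) := by
  subst hF
  let e : Fin k ⊕ Fin (n - k) ≃ Fin n := finSumFinEquiv.trans (finCongr (by omega))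
  have he : ∀ x, k ≤ ((e x : Fin n) : ℕ) ↔ x.isRight := by
    rintro (a | a) <;> simp [e]
  rw [Nat.card_congr ((Equiv.subtypeEquivRight (mem_stabilizing_iff e he)).trans (blockEquiv e)),
    Nat.card_prod, Nat.card_prod, Matrix.card_GL_field, Matrix.card_GL_field,
    Nat.card_eq_fintype_card (α := Matrix (Fin k) (Fin (n - k)) F)]
  have : Fintype.card (Matrix (Fin k) (Fin (n - k)) F) = Fintype.card F ^ (k * (n - k)) := by
    show Fintype.card (Fin k → Fin (n - k) → F) = _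
    rw [Fintype.card_fun, Fintype.card_fun, ← pow_mul, Fintype.card_fin, Fintype.card_fin, mul_comm]
  rw [this]
  ring

end CfsgLib.Classical.GLParabolic
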