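import Cfsg.Agent.Lib.Classical.UnitaryOrder
import Cfsg.Agent.Lib.ClassicalAut.UnitaryTwist

set_option autoImplicit false

/-!
`GU_n(q)` modulo `SU_n(q)` and scalars is cyclic of order `gcd(n, q + 1)`.
-/

namespace CfsgLib.Classical.Herm

open Matrix Cfsg
open CfsgLib.ClassicalAut

variable {F : Type*} [Field F] [Finite F] {q n : ℕ} (K : Unitary.Conj F q)

theorem diag_mem (d : Fin n → Fˣ) (hd : ∀ i, (d i : F) * K.bar (d i) = 1) :
    ∃ g : GU n F q, ((g : GL (Fin n) F) : Matrix (Fin n) (Fin n) F) = Matrix.diagonal fun i => (d i : F) := by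
  refine ⟨⟨Matrix.GeneralLinearGroup.mkOfDetNeZero (Matrix.diagonal fun i => (d i : F))
    (by rw [Matrix.det_diagonal]; exact Finset.prod_ne_zero_iff.2 fun i _ => (d i).ne_zero),
    fun u v => ?_⟩, rfl⟩
  simp only [Units.coeHom_apply, Matrix.GeneralLinearGroup.val_mkOfDetNeZero, Unitary.herm_apply K,
    Matrix.mulVec_diagonal, map_mul]
  exact Finset.sum_congr rfl fun i _ => by linear_combination (u i * K.bar (v i)) * hd i

theorem perm_mem (s : Equiv.Perm (Fin n)) :
    ∃ g : GU n F q, ((g : GL (Fin n) F) : Matrix (Fin n) (Fin n) F) = s.permMatrix F := by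
  refine ⟨⟨Matrix.GeneralLinearGroup.mkOfDetNeZero (s.permMatrix F)
    (by rw [Matrix.det_permutation]; exact ((Equiv.Perm.sign s).isUnit.map (Int.castRingHom F)).ne_zero),
    fun u v => ?_⟩, rfl⟩
  simp only [Units.coeHom_apply, Matrix.GeneralLinearGroup.val_mkOfDetNeZero, Cfsg.hermForm,
    Matrix.permMatrix_mulVec]
  exact Equiv.sum_comp s fun i => u i * v i ^ q

include K in
theorem gu_center_scalar (hn : 1 ≤ n) (z : GU n F q) (hz : z ∈ Subgroup.center (GU n F q)) :
    ∃ c : F, ((z : GL (Fin n) F) : Matrix (Fin n) (Fin n) F) = c • 1 := by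
  classical
  set Z := ((z : GL (Fin n) F) : Matrix (Fin n) (Fin n) F)
  have hc : ∀ g : GU n F q, Z * ((g : GL (Fin n) F) : Matrix (Fin n) (Fin n) F) =
      ((g : GL (Fin n) F) : Matrix (Fin n) (Fin n) F) * Z := fun g =>
    congrArg (fun x : GU n F q => ((x : GL (Fin n) F) : Matrix (Fin n) (Fin n) F))
      (Subgroup.mem_center_iff.1 hz g).symm
  obtain ⟨w, hw⟩ : ∃ w : Unitary.normOne K, w ≠ 1 := by
    have h3 : 1 < Nat.card (Unitary.normOne K) := by
      rw [Unitary.card_normOne K]; have := K.two_le; omega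
    have := Finite.one_lt_card_iff_nontrivial.1 h3
    exact exists_ne 1
  have hw1 : ((w : Fˣ) : F) ≠ 1 := fun h => hw (Subtype.ext (Units.ext h))
  have hoff : ∀ i j, i ≠ j → Z i j = 0 := by
    intro i j hij
    obtain ⟨g, hg⟩ := diag_mem K (fun k => if k = i then (w : Fˣ) else 1) (fun k => by
      split_ifs with h
      · exact (Unitary.mem_normOne K).1 w.2
      · simp)
    have := congrFun (congrFun (hc g) i) j
    rw [hg, Matrix.mul_diagonal, Matrix.diagonal_mul, if_neg hij.symm, if_pos rfl, Units.val_one,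
      mul_one] at this
    have h0 : (((w : Fˣ) : F) - 1) * Z i j = 0 := by linear_combination -this
    exact (mul_eq_zero.1 h0).resolve_left (sub_ne_zero.2 hw1)
  refine ⟨Z ⟨0, hn⟩ ⟨0, hn⟩, Matrix.ext fun i j => ?_⟩
  rcases eq_or_ne i j with rfl | hij
  · obtain ⟨g, hg⟩ := perm_mem (F := F) (q := q) (Equiv.swap (⟨0, hn⟩ : Fin n) i)
    have := congrFun (congrFun (hc g) ⟨0, hn⟩) i
    rw [hg, Equiv.Perm.permMatrix, PEquiv.mul_toMatrix_toPEquiv, PEquiv.toMatrix_toPEquiv_mul] at this
    simp at this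
    simp [this]
  · simp [hoff i j hij, hij]

include K in
theorem scal_center {c : Unitary.normOne K} : ∃ z : GU n F q, z ∈ Subgroup.center (GU n F q) ∧
    ((z : GL (Fin n) F) : Matrix (Fin n) (Fin n) F) = ((c : Fˣ) : F) • 1 := by
  obtain ⟨g, hg⟩ := diag_mem (n := n) K (fun _ => (c : Fˣ)) fun _ => (Unitary.mem_normOne K).1 c.2
  have e : ((g : GL (Fin n) F) : Matrix (Fin n) (Fin n) F) = ((c : Fˣ) : F) • 1 := by
    rw [hg, Matrix.smul_one_eq_diagonal]
  refine ⟨g, Subgroup.mem_center_iff.2 fun x => Subtype.ext (Units.ext ?_), e⟩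
  simp only [Subgroup.coe_mul, Units.val_mul, e]
  rw [Matrix.smul_mul, Matrix.mul_smul, Matrix.one_mul, Matrix.mul_one]

include K in
theorem exists_quotient_hom (hn : 1 ≤ n) :
    ∃ φ : ↥(GU n F q) →* Multiplicative (ZMod (Nat.gcd n (q + 1))), Function.Surjective φ ∧
      φ.ker = (Matrix.GeneralLinearGroup.det : GL (Fin n) F →* Fˣ).ker.subgroupOf (GU n F q) ⊔
        Subgroup.center ↥(GU n F q) := by
  set N := Unitary.normOne K
  have hcyc : IsCyclic N := inferInstance
  let P : Subgroup N := (powMonoidHom n : N →* N).range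
  have hcard : Nat.card (N ⧸ P) = Nat.gcd n (q + 1) := by
    show P.index = _
    rw [IsCyclic.index_powMonoidHom_range, Unitary.card_normOne K, Nat.gcd_comm]
  let e : N ⧸ P ≃* Multiplicative (ZMod (Nat.gcd n (q + 1))) :=
    (zmodMulEquivOfGenerator (G := N ⧸ P) (IsCyclic.exists_generator.choose_spec) hcard).symm
  refine ⟨e.toMonoidHom.comp (Unitary.nu n K), e.surjective.comp (Unitary.nu_surjective K hn), ?_⟩
  have hk : ∀ g, g ∈ (e.toMonoidHom.comp (Unitary.nu n K)).ker ↔ Unitary.nu n K g = 1 := fun g => by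
    simp only [MonoidHom.mem_ker, MonoidHom.comp_apply, MulEquiv.coe_toMonoidHom, map_eq_one_iff e e.injective]
  apply le_antisymm
  · intro g hg
    rw [hk] at hg
    obtain ⟨b, hb⟩ := (QuotientGroup.eq_one_iff _).1 (show (Unitary.det1 n K g : N ⧸ P) = 1 from hg)
    obtain ⟨z, hz, hze⟩ := scal_center (n := n) K (c := b)
    rw [show g = g * z⁻¹ * z by rw [inv_mul_cancel_right]]
    refine Subgroup.mul_mem _ (Subgroup.mem_sup_left ?_) (Subgroup.mem_sup_right hz)
    show Matrix.GeneralLinearGroup.det ((g * z⁻¹ : GU n F q) : GL (Fin n) F) = 1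
    rw [Subgroup.coe_mul, Subgroup.coe_inv, map_mul, map_inv, mul_inv_eq_one]
    refine Units.ext ?_
    show ((g : GL (Fin n) F) : Matrix (Fin n) (Fin n) F).det =
      ((z : GL (Fin n) F) : Matrix (Fin n) (Fin n) F).det
    rw [hze, Matrix.det_smul, Matrix.det_one, mul_one, Fintype.card_fin]
    exact (congrArg (fun c : N => ((c : Fˣ) : F)) hb).symm
  · refine sup_le (fun g hg => ?_) (fun z hz => ?_)
    · rw [hk]
      refine (QuotientGroup.eq_one_iff _).2 ?_
      rw [show Unitary.det1 n K g = 1 from Subtype.ext hg]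
      exact one_mem _
    · obtain ⟨c, hc⟩ := gu_center_scalar K hn z hz
      have hc0 : c ≠ 0 := by
        rintro rfl
        have := (z : GL (Fin n) F).det_ne_zero
        rw [hc, Matrix.det_smul, Fintype.card_fin, zero_pow (by omega), zero_mul] at this
        exact this rfl
      have hmem : Units.mk0 c hc0 ∈ N := (Unitary.mem_normOne K).2 (by
        have h := z.2 (Pi.single ⟨0, hn⟩ 1) (Pi.single ⟨0, hn⟩ 1)
        simp only [Units.coeHom_apply, hc, Matrix.smul_mulVec, Matrix.one_mulVec,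
          Unitary.herm_apply K, Pi.smul_apply, smul_eq_mul, map_mul] at h
        rw [Finset.sum_eq_single ⟨0, hn⟩ (fun j _ hj => by simp [hj]) (by simp),
          Finset.sum_eq_single ⟨0, hn⟩ (fun j _ hj => by simp [hj]) (by simp)] at h
        simpa using h)
      rw [hk]
      refine (QuotientGroup.eq_one_iff _).2 ⟨⟨Units.mk0 c hc0, hmem⟩, Subtype.ext (Units.ext ?_)⟩
      show c ^ n = ((z : GL (Fin n) F) : Matrix (Fin n) (Fin n) F).det
      rw [hc, Matrix.det_smul, Matrix.det_one, mul_one, Fintype.card_fin]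

end CfsgLib.Classical.Herm
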