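/-
The similarity group of a quadratic form is maximal in the special linear group, odd characteristic.
-/
import Cfsg.Agent.Lib.Classical.OrthSub
import Cfsg.Agent.Lib.Classical.OrthNondeg
import Cfsg.Agent.Lib.Classical.SubspaceStab

set_option autoImplicit false

namespace CfsgLib.Classical.MinIndex.Quad

open Matrix CfsgLib.Orth
open scoped MatrixGroups

variable {F : Type*} [Field F] {n : ℕ} {Q : QuadraticForm F (Fin n → F)}

local notation "B" => QuadraticMap.polar (DFunLike.coe Q)
local notation "SL'" => SpecialLinearGroup (Fin n) F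

/-- The similarities. -/
def qsim (Q : QuadraticForm F (Fin n → F)) : Set (SpecialLinearGroup (Fin n) F) :=
  {g | ∃ c : Fˣ, ∀ x, Q (app g x) = (c : F) * Q x}

/-- The transvection `x ↦ x + B(x,u) a`. -/
def IsT (Q : QuadraticForm F (Fin n → F)) (t : SpecialLinearGroup (Fin n) F) (a u : Fin n → F) :
    Prop := ∀ x, app t x = x + QuadraticMap.polar ⇑Q x u • a

theorem exists_isT {a u : Fin n → F} (h : B a u = 0) : ∃ t : SL', IsT Q t a u := by
  let φ : Fin n → F := fun j => B (Pi.single j 1) u
  have hφ : ∀ x, φ ⬝ᵥ x = B x u := fun x => by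
    rw [b_comm]
    show _ = QuadraticMap.polarBilin Q u x
    rw [LinearMap.pi_apply_eq_sum_univ (QuadraticMap.polarBilin Q u) x, dotProduct]
    refine Finset.sum_congr rfl fun i _ => ?_
    rw [smul_eq_mul, mul_comm, QuadraticMap.polarBilin_apply_apply, b_comm]
    congr 1
    show B (Pi.single i 1) u = _
    congr 1
    funext j
    simp [Pi.single_apply, eq_comm]
  exact ⟨tv a φ (by rw [hφ, h]), fun x => by rw [app_tv, hφ]⟩

/-- The Siegel element inside the special linear group. -/
theorem exists_siegelSL {p q : Fin n → F} (hp : Q p = 0) (hpq : B p q = 0) :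
    ∃ h : SL', (∀ x, app h x = x + B x p • q - B x q • p - (Q q * B x p) • p) ∧ h ∈ qsim Q := by
  obtain ⟨t₁, ht₁⟩ := exists_isT (Q := Q) (a := q) (u := p) (by rw [b_comm]; exact hpq)
  obtain ⟨t₂, ht₂⟩ := exists_isT (Q := Q) (a := p) (u := Q q • p - q) (by
    rw [b_sub_right, b_smul_right, b_self_zero hp, hpq, mul_zero, sub_zero])
  have e : ∀ x, app (t₂ * t₁) x = x + B x p • q - B x q • p - (Q q * B x p) • p := fun x => by
    rw [app_mul, ht₁, ht₂, b_sub_right, b_smul_right, b_add_left, b_add_left, b_smul_left,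
      b_smul_left, b_comm q p, hpq, b_self q]
    module
  refine ⟨t₂ * t₁, e, 1, fun x => ?_⟩
  rw [Units.val_one, one_mul, e, ← siegelMap_apply, siegelMap_isometry hp hpq]

variable (K : Subgroup (SpecialLinearGroup (Fin n) F))

/-- All transvections `(a, c • y)` lie in `K`. -/
def R (Q : QuadraticForm F (Fin n → F)) (a y : Fin n → F) : Prop :=
  ∀ c : F, ∃ t ∈ K, IsT Q t a (c • y)

variable {K}

theorem R.add_right {a y z : Fin n → F} (hz : B a z = 0) (h : R K Q a y) (h' : R K Q a z) :
    R K Q a (y + z) := fun c => by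
  obtain ⟨t, ht, htx⟩ := h c
  obtain ⟨t', ht', htx'⟩ := h' c
  refine ⟨t' * t, K.mul_mem ht' ht, fun x => ?_⟩
  rw [app_mul, htx, htx']
  simp only [b_add_left, b_smul_left, b_smul_right, b_add_right, hz, smul_add]
  module

theorem R.add_left {a b y : Fin n → F} (ha : B a y = 0) (h : R K Q a y) (h' : R K Q b y) :
    R K Q (a + b) y := fun c => by
  obtain ⟨t, ht, htx⟩ := h c
  obtain ⟨t', ht', htx'⟩ := h' c
  refine ⟨t' * t, K.mul_mem ht' ht, fun x => ?_⟩
  rw [app_mul, htx, htx']
  simp only [b_add_left, b_smul_left, b_smul_right, ha]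
  module

theorem R.smul_right {a y : Fin n → F} (h : R K Q a y) (t : F) : R K Q a (t • y) := fun c => by
  rw [smul_smul]; exact h (c * t)

theorem R.smul_left {a y : Fin n → F} (h : R K Q a y) (t : F) : R K Q (t • a) y := fun c => by
  obtain ⟨k, hk, hkx⟩ := h (c * t)
  exact ⟨k, hk, fun x => by rw [hkx, b_smul_right, b_smul_right]; module⟩

theorem R.zero_left (y : Fin n → F) : R K Q 0 y :=
  fun _ => ⟨1, K.one_mem, fun x => by rw [app_one, smul_zero, add_zero]⟩

theorem R.zero_right (a : Fin n → F) : R K Q a 0 :=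
  fun c => ⟨1, K.one_mem, fun x => by rw [app_one, smul_zero, b_zero_right, zero_smul, add_zero]⟩

theorem R.conj {a y : Fin n → F} {g : SL'} (hg : g ∈ K) (hiso : ∀ x y, B (app g x) (app g y) = B x y)
    (h : R K Q a y) : R K Q (app g a) (app g y) := fun c => by
  obtain ⟨t, ht, htx⟩ := h c
  refine ⟨g * t * g⁻¹, K.mul_mem (K.mul_mem hg ht) (K.inv_mem hg), fun x => ?_⟩
  rw [app_mul, app_mul, htx, app_add, app_smul, app_inv', ← app_smul g c, ← hiso, app_inv']

variable (hB : Nondeg Q) (hK : ∀ g : SpecialLinearGroup (Fin n) F, g ∈ qsim Q → g ∈ K)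

include hB hK

/-- A shear fixing one vector and moving another along a singular one. -/
theorem exists_shear {x z s : Fin n → F} (hs : Q s = 0) (hxs : B x s = 0) (hzs : B z s = 0)
    (hz : z ∉ Submodule.span F ({x, s} : Set (Fin n → F))) :
    ∃ g ∈ K, (∀ x y, B (app g x) (app g y) = B x y) ∧ app g x = x ∧ app g z = z + s := by
  obtain ⟨w, hw, hzw⟩ := exists_orth_one hB hz
  have hxw : B x w = 0 := mem_orth.1 hw x (Submodule.subset_span (Set.mem_insert _ _))
  have hsw : B s w = 0 := mem_orth.1 hw s (Submodule.subset_span (Set.mem_insert_of_mem _ rfl))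
  obtain ⟨g, hg, hgs⟩ := exists_siegelSL (Q := Q) hs (q := (-1 : F) • w)
    (by rw [b_smul_right, hsw, mul_zero])
  refine ⟨g, hK g hgs, fun a b => ?_, ?_, ?_⟩
  · have e : ∀ a, Q (app g a) = Q a := fun a => by
      rw [hg, ← siegelMap_apply, siegelMap_isometry hs (by rw [b_smul_right, hsw, mul_zero])]
    unfold QuadraticMap.polar
    rw [← app_add, e, e, e]
  · rw [hg, hxs, b_smul_right, hxw]; module
  · rw [hg, hzs, b_smul_right, hzw]; module

variable [Finite F]

theorem span_top (hn : 6 ≤ n) {x : Fin n → F} :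
    orth Q (Submodule.span F {x}) ≤
      Submodule.span F {y | y ∈ orth Q (Submodule.span F {x}) ∧ Q y = 0} := by
  have h1 : Module.finrank F (Submodule.span F {x} : Submodule F (Fin n → F)) ≤ 1 := by
    refine (finrank_span_le_card ({x} : Set (Fin n → F))).trans ?_
    simp
  obtain ⟨s, f, hs, hf, -, hsq, hfq, hsf⟩ := exists_pair_in hB (U := ⊤)
    (fun x _ h => hB x fun y => h y Submodule.mem_top) (P := Submodule.span F {x}) le_top
    (by rw [finrank_top, Module.finrank_fin_fun]; omega)
  exact le_span_singular_in hs.2 hf.2 hsq hfq hsf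

/-- A singular vector perpendicular to and outside a small span. -/
theorem exists_far (hn : 6 ≤ n) {S : Finset (Fin n → F)} (hS : S.card ≤ 1) :
    ∃ m, Q m = 0 ∧ (∀ x ∈ S, B x m = 0) ∧ m ∉ Submodule.span F (S : Set (Fin n → F)) := by
  have h1 : Module.finrank F (Submodule.span F (S : Set (Fin n → F))) ≤ S.card :=
    finrank_span_finset_le_card S
  obtain ⟨s, f, hs, -, hsP, hsq, -, -⟩ := exists_pair_in hB (U := ⊤)
    (fun x _ h => hB x fun y => h y Submodule.mem_top)
    (P := Submodule.span F (S : Set (Fin n → F))) le_top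
    (by rw [finrank_top, Module.finrank_fin_fun]; omega)
  exact ⟨s, hsq, fun x hx => mem_orth.1 hs.2 x (Submodule.subset_span hx), hsP⟩

/-- A singular vector perpendicular to and outside the span of two vectors, unless that span is
totally singular. -/
theorem exists_far_two (h2 : (2 : F) ≠ 0) (hn : 6 ≤ n) {x y : Fin n → F}
    (hxy : ¬ (Q x = 0 ∧ Q y = 0 ∧ B x y = 0)) :
    ∃ m, Q m = 0 ∧ B x m = 0 ∧ B y m = 0 ∧ m ∉ Submodule.span F ({x, y} : Set (Fin n → F)) := by
  classical
  set T := Submodule.span F ({x, y} : Set (Fin n → F)) with hTdef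
  set W := orth Q T with hWdef
  have hTd : Module.finrank F T ≤ 2 := by
    have h := finrank_span_finset_le_card (R := F) ({x, y} : Finset (Fin n → F))
    rw [Finset.coe_pair] at h
    exact h.trans Finset.card_le_two
  have hWd : n ≤ Module.finrank F T + Module.finrank F W := by
    have := finrank_orth hB T
    rw [Module.finrank_fin_fun] at this
    exact this.ge
  have hx : x ∈ T := Submodule.subset_span (Set.mem_insert _ _)
  have hy : y ∈ T := Submodule.subset_span (Set.mem_insert_of_mem _ rfl)
  have hlt : W ⊓ T < T := lt_of_le_of_ne inf_le_right fun e => hxy (by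
    have hT : T ≤ W := inf_eq_right.1 e
    have hxx := mem_orth.1 (hT hx) x hx
    have hyy := mem_orth.1 (hT hy) y hy
    rw [b_self] at hxx hyy
    exact ⟨(mul_eq_zero.1 hxx).resolve_left h2, (mul_eq_zero.1 hyy).resolve_left h2,
      mem_orth.1 (hT hy) x hx⟩)
  obtain ⟨C, hC⟩ := (Submodule.comap W.subtype T).exists_isCompl
  have e1 := Submodule.finrank_add_eq_of_isCompl hC
  have e2 : Module.finrank F (Submodule.comap W.subtype T) < Module.finrank F T := by
    rw [← Submodule.finrank_map_subtype_eq, Submodule.map_comap_subtype]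
    exact Submodule.finrank_lt_finrank_of_lt hlt
  obtain ⟨s, hs, hs0, hsq⟩ := exists_singular (Q := Q) (U := C.map W.subtype) (by
    rw [Submodule.finrank_map_subtype_eq]; omega)
  obtain ⟨t, ht, rfl⟩ := hs
  refine ⟨t, hsq, mem_orth.1 t.2 x hx, mem_orth.1 t.2 y hy, fun h => hs0 ?_⟩
  have : t ∈ Submodule.comap W.subtype T ⊓ C := ⟨h, ht⟩
  rw [hC.inf_eq_bot, Submodule.mem_bot] at this
  rw [this]; rfl

/-- A non-singular vector perpendicular to a vector and to a hyperbolic pair. -/
theorem exists_aniso_three (h2 : (2 : F) ≠ 0) (hn : 6 ≤ n) {a m s : Fin n → F} (hma : B a m = 0)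
    (hm : Q m = 0) (hms : B m s ≠ 0) :
    ∃ w, B a w = 0 ∧ B m w = 0 ∧ B s w = 0 ∧ Q w ≠ 0 := by
  classical
  set T := Submodule.span F (({a, m, s} : Finset (Fin n → F)) : Set (Fin n → F)) with hTdef
  by_contra hc
  push Not at hc
  have hq : ∀ w ∈ orth Q T, Q w = 0 := fun w hw =>
    hc w (mem_orth.1 hw a (Submodule.subset_span (by simp)))
      (mem_orth.1 hw m (Submodule.subset_span (by simp)))
      (mem_orth.1 hw s (Submodule.subset_span (by simp)))
  have hle : orth Q T ≤ T := by
    rw [← orth_orth hB T, orth_orth hB T]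
    intro w hw
    rw [← orth_orth hB T]
    refine mem_orth.2 fun v hv => ?_
    have := hq (v + w) (Submodule.add_mem _ hv hw)
    rw [q_add, hq v hv, hq w hw, zero_add, zero_add] at this
    exact this
  have hd : Module.finrank F T ≤ 3 := (finrank_span_finset_le_card _).trans Finset.card_le_three
  have hsum := finrank_orth hB T
  rw [Module.finrank_fin_fun] at hsum
  have e : orth Q T = T := Submodule.eq_of_le_of_finrank_le hle (by omega)
  have hmem : m ∈ orth Q T := by rw [e]; exact Submodule.subset_span (by simp)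
  exact hms (by rw [b_comm]; exact mem_orth.1 hmem s (Submodule.subset_span (by simp)))

theorem right_all (h2 : (2 : F) ≠ 0) (hn : 6 ≤ n) {a p : Fin n → F} (hap : B a p = 0)
    (hp : p ∉ Submodule.span F {a}) (h : R K Q a p) {y : Fin n → F} (hy : B a y = 0) :
    R K Q a y := by
  classical
  have step : ∀ p s, B a p = 0 → R K Q a p → Q s = 0 → B a s = 0 → B p s = 0 →
      p ∉ Submodule.span F ({a, s} : Set (Fin n → F)) → R K Q a s := by
    intro p s hap h hs has hps hi
    obtain ⟨g, hg, hiso, hga, hgp⟩ := exists_shear hB hK hs has hps hi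
    have h' := h.conj hg hiso
    rw [hga, hgp] at h'
    have := h'.add_right (z := (-1 : F) • p) (by rw [b_smul_right, hap, mul_zero]) (h.smul_right _)
    rwa [show p + s + (-1 : F) • p = s by module] at this
  have hsing : ∀ s, Q s = 0 → B a s = 0 → R K Q a s := by
    obtain ⟨m, hm, hma, hmn, hRm⟩ : ∃ m, Q m = 0 ∧ B a m = 0 ∧ m ∉ Submodule.span F {a} ∧
        R K Q a m := by
      by_cases hpp : Q p = 0
      · exact ⟨p, hpp, hap, hp, h⟩
      obtain ⟨m, hm, hma, hmp, hmP⟩ := exists_far_two hB hK h2 hn (x := a) (y := p)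
        fun e => hpp e.2.1
      refine ⟨m, hm, hma, fun e => hmP (Submodule.span_mono (by simp) e),
        step p m hap h hm hma hmp fun e => ?_⟩
      obtain ⟨α, β, e⟩ := Submodule.mem_span_pair.1 e
      by_cases hβ : β = 0
      · exact hp (Submodule.mem_span_singleton.2 ⟨α, by rw [← e, hβ, zero_smul, add_zero]⟩)
      · refine hmP ((Submodule.smul_mem_iff _ hβ).1 ?_)
        rw [show β • m = p - α • a by rw [← e]; abel]
        exact Submodule.sub_mem _ (Submodule.subset_span (by simp))
          (Submodule.smul_mem _ _ (Submodule.subset_span (by simp)))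
    intro s hs has
    by_cases hms : B m s = 0
    · by_cases hmem : m ∈ Submodule.span F ({a, s} : Set (Fin n → F))
      swap
      · exact step m s hma hRm hs has hms hmem
      obtain ⟨α, β, e⟩ := Submodule.mem_span_pair.1 hmem
      have hβ : β ≠ 0 := fun h0 => hmn (Submodule.mem_span_singleton.2
        ⟨α, by rw [← e, h0, zero_smul, add_zero]⟩)
      have es : s = β⁻¹ • m + (-(β⁻¹ * α)) • a := by
        rw [← e]; match_scalars <;> field_simp <;> ring
      rw [es]
      by_cases hα : α = 0
      · rw [hα, mul_zero, neg_zero, zero_smul, add_zero]; exact hRm.smul_right _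
      have haa : Q a = 0 := by
        have h1 : m - α • a = β • s := by rw [← e]; abel
        have h3 := congrArg Q h1
        rw [q_sub, q_smul, q_smul, hs, hm, mul_zero, b_smul_right, b_comm m a, hma, mul_zero,
          sub_zero, zero_add, mul_eq_zero] at h3
        exact h3.resolve_left (mul_ne_zero hα hα)
      refine (hRm.smul_right _).add_right (by rw [b_smul_right, b_self_zero haa, mul_zero])
        ((step m a hma hRm haa (b_self_zero haa) (by rw [b_comm]; exact hma) ?_).smul_right _)
      exact fun e' => hmn (by simpa using e')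
    obtain ⟨w, haw, hmw, hsw, hw⟩ := exists_aniso_three hB hK h2 hn hma hm hms
    have conj : ∀ v, B a v = 0 → B m v = 0 → B s v = 0 →
        R K Q a (v + (-(Q v)) • s) := by
      intro v hav hmv hsv
      obtain ⟨g, hg, hgs⟩ := exists_siegelSL (Q := Q) hs (q := v) hsv
      have h' := hRm.conj (hK g hgs) (fun x y => by
        have e : ∀ x, Q (app g x) = Q x := fun x => by
          rw [hg, ← siegelMap_apply, siegelMap_isometry hs hsv]
        unfold QuadraticMap.polar
        rw [← app_add, e, e, e])
      rw [hg, hg, has, hav, hmv] at h'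
      simp only [zero_smul, mul_zero, add_zero, sub_zero] at h'
      have h'' := h'.add_right (z := (-1 : F) • m) (by rw [b_smul_right, hma, mul_zero])
        (hRm.smul_right _)
      rw [show m + B m s • v - (Q v * B m s) • s + (-1 : F) • m =
        B m s • (v + (-(Q v)) • s) by module] at h''
      have := h''.smul_right (B m s)⁻¹
      rwa [smul_smul, inv_mul_cancel₀ hms, one_smul] at this
    have h1 := conj w haw hmw hsw
    have h1' := conj ((-1 : F) • w) (by rw [b_smul_right, haw, mul_zero])
      (by rw [b_smul_right, hmw, mul_zero]) (by rw [b_smul_right, hsw, mul_zero])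
    have h3 := h1.add_right (z := (-1 : F) • w + (-(Q ((-1 : F) • w))) • s)
      (by simp only [b_add_right, b_smul_right, haw, has, mul_zero, add_zero]) h1'
    rw [q_smul, show (w + (-(Q w)) • s + ((-1 : F) • w + (-((-1) * (-1) * Q w)) • s)) =
      (-(2 * Q w)) • s by module] at h3
    have := h3.smul_right (-(2 * Q w))⁻¹
    rwa [smul_smul, inv_mul_cancel₀ (neg_ne_zero.2 (mul_ne_zero h2 hw)), one_smul] at this
  have : ∀ y ∈ Submodule.span F {y | y ∈ orth Q (Submodule.span F {a}) ∧ Q y = 0},
      B a y = 0 ∧ R K Q a y := by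
    intro y hy
    induction hy using Submodule.span_induction with
    | mem z hz =>
      exact ⟨mem_orth.1 hz.1 a (Submodule.mem_span_singleton_self a),
        hsing z hz.2 (mem_orth.1 hz.1 a (Submodule.mem_span_singleton_self a))⟩
    | zero => exact ⟨b_zero_right a, R.zero_right a⟩
    | add u v _ _ hu hv =>
      exact ⟨by rw [b_add_right, hu.1, hv.1, add_zero], hu.2.add_right hv.1 hv.2⟩
    | smul c u _ hu => exact ⟨by rw [b_smul_right, hu.1, mul_zero], hu.2.smul_right c⟩
  refine (this y (span_top hB hK hn (mem_orth.2 fun w hw => ?_))).2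
  obtain ⟨c, rfl⟩ := Submodule.mem_span_singleton.1 hw
  rw [b_smul_left, hy, mul_zero]

theorem left_all (h2 : (2 : F) ≠ 0) (hn : 6 ≤ n) {a p : Fin n → F} (hap : B a p = 0)
    (ha : a ∉ Submodule.span F {p}) (h : R K Q a p) {x : Fin n → F} (hx : B x p = 0) :
    R K Q x p := by
  classical
  have step : ∀ a s, B a p = 0 → R K Q a p → Q s = 0 → B p s = 0 → B a s = 0 →
      a ∉ Submodule.span F ({p, s} : Set (Fin n → F)) → R K Q s p := by
    intro a s hap h hs hps has hi
    obtain ⟨g, hg, hiso, hgp, hga⟩ := exists_shear hB hK hs hps has hi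
    have h' := h.conj hg hiso
    rw [hga, hgp] at h'
    have := h'.add_left (b := (-1 : F) • a) (by rw [b_add_left, hap, b_comm s p, hps, add_zero])
      (h.smul_left _)
    rwa [show a + s + (-1 : F) • a = s by module] at this
  have hsing : ∀ s, Q s = 0 → B p s = 0 → R K Q s p := by
    obtain ⟨m, hm, hmp, hmn, hRm⟩ : ∃ m, Q m = 0 ∧ B p m = 0 ∧ m ∉ Submodule.span F {p} ∧
        R K Q m p := by
      by_cases haa : Q a = 0
      · exact ⟨a, haa, by rw [b_comm]; exact hap, ha, h⟩
      obtain ⟨m, hm, hmp, hma, hmP⟩ := exists_far_two hB hK h2 hn (x := p) (y := a)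
        fun e => haa e.2.1
      refine ⟨m, hm, hmp, fun e => hmP (Submodule.span_mono (by simp) e),
        step a m hap h hm hmp hma fun e => ?_⟩
      obtain ⟨α, β, e⟩ := Submodule.mem_span_pair.1 e
      by_cases hβ : β = 0
      · exact ha (Submodule.mem_span_singleton.2 ⟨α, by rw [← e, hβ, zero_smul, add_zero]⟩)
      · refine hmP ((Submodule.smul_mem_iff _ hβ).1 ?_)
        rw [show β • m = a - α • p by rw [← e]; abel]
        exact Submodule.sub_mem _ (Submodule.subset_span (by simp))
          (Submodule.smul_mem _ _ (Submodule.subset_span (by simp)))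
    have hmp' : B m p = 0 := by rw [b_comm]; exact hmp
    intro s hs hps
    by_cases hms : B m s = 0
    · by_cases hmem : m ∈ Submodule.span F ({p, s} : Set (Fin n → F))
      swap
      · exact step m s hmp' hRm hs hps hms hmem
      obtain ⟨α, β, e⟩ := Submodule.mem_span_pair.1 hmem
      have hβ : β ≠ 0 := fun h0 => hmn (Submodule.mem_span_singleton.2
        ⟨α, by rw [← e, h0, zero_smul, add_zero]⟩)
      have es : s = β⁻¹ • m + (-(β⁻¹ * α)) • p := by
        rw [← e]; match_scalars <;> field_simp <;> ring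
      rw [es]
      by_cases hα : α = 0
      · rw [hα, mul_zero, neg_zero, zero_smul, add_zero]; exact hRm.smul_left _
      have hpp : Q p = 0 := by
        have h1 : m - α • p = β • s := by rw [← e]; abel
        have h3 := congrArg Q h1
        rw [q_sub, q_smul, q_smul, hs, hm, mul_zero, b_smul_right, hmp', mul_zero,
          sub_zero, zero_add, mul_eq_zero] at h3
        exact h3.resolve_left (mul_ne_zero hα hα)
      refine (hRm.smul_left _).add_left (by rw [b_smul_left, hmp', mul_zero])
        ((step m p hmp' hRm hpp (b_self_zero hpp) hmp' ?_).smul_left _)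
      exact fun e' => hmn (by simpa using e')
    obtain ⟨w, hpw, hmw, hsw, hw⟩ := exists_aniso_three hB hK h2 hn hmp hm hms
    have conj : ∀ v, B p v = 0 → B m v = 0 → B s v = 0 →
        R K Q (v + (-(Q v)) • s) p := by
      intro v hpv hmv hsv
      obtain ⟨g, hg, hgs⟩ := exists_siegelSL (Q := Q) hs (q := v) hsv
      have h' := hRm.conj (hK g hgs) (fun x y => by
        have e : ∀ x, Q (app g x) = Q x := fun x => by
          rw [hg, ← siegelMap_apply, siegelMap_isometry hs hsv]
        unfold QuadraticMap.polar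
        rw [← app_add, e, e, e])
      rw [hg, hg, hps, hpv, hmv] at h'
      simp only [zero_smul, mul_zero, add_zero, sub_zero] at h'
      have h'' := h'.add_left (b := (-1 : F) • m) (by
        simp only [b_add_left, b_sub_left, b_smul_left, hmp', b_comm v p, hpv, b_comm s p, hps,
          mul_zero, add_zero, sub_zero]) (hRm.smul_left _)
      rw [show m + B m s • v - (Q v * B m s) • s + (-1 : F) • m =
        B m s • (v + (-(Q v)) • s) by module] at h''
      have := h''.smul_left (B m s)⁻¹
      rwa [smul_smul, inv_mul_cancel₀ hms, one_smul] at this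
    have h1 := conj w hpw hmw hsw
    have h1' := conj ((-1 : F) • w) (by rw [b_smul_right, hpw, mul_zero])
      (by rw [b_smul_right, hmw, mul_zero]) (by rw [b_smul_right, hsw, mul_zero])
    have h3 := h1.add_left (b := (-1 : F) • w + (-(Q ((-1 : F) • w))) • s)
      (by simp only [b_add_left, b_smul_left, b_comm w p, hpw, b_comm s p, hps, mul_zero, add_zero]) h1'
    rw [q_smul, show (w + (-(Q w)) • s + ((-1 : F) • w + (-((-1) * (-1) * Q w)) • s)) =
      (-(2 * Q w)) • s by module] at h3
    have := h3.smul_left (-(2 * Q w))⁻¹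
    rwa [smul_smul, inv_mul_cancel₀ (neg_ne_zero.2 (mul_ne_zero h2 hw)), one_smul] at this
  have : ∀ y ∈ Submodule.span F {y | y ∈ orth Q (Submodule.span F {p}) ∧ Q y = 0},
      B y p = 0 ∧ R K Q y p := by
    intro y hy
    induction hy using Submodule.span_induction with
    | mem z hz =>
      exact ⟨by rw [b_comm]; exact mem_orth.1 hz.1 p (Submodule.mem_span_singleton_self p),
        hsing z hz.2 (mem_orth.1 hz.1 p (Submodule.mem_span_singleton_self p))⟩
    | zero => exact ⟨b_zero_left p, R.zero_left p⟩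
    | add u v _ _ hu hv =>
      exact ⟨by rw [b_add_left, hu.1, hv.1, add_zero], hu.2.add_left hu.1 hv.2⟩
    | smul c u _ hu => exact ⟨by rw [b_smul_left, hu.1, mul_zero], hu.2.smul_left c⟩
  refine (this x (span_top hB hK hn (mem_orth.2 fun w hw => ?_))).2
  obtain ⟨c, rfl⟩ := Submodule.mem_span_singleton.1 hw
  rw [b_smul_left, b_comm, hx, mul_zero]

omit hK in
/-- A linear map preserving the singular cone is a similarity. -/
theorem q_map_of_singular (h2 : (2 : F) ≠ 0) (hn : 6 ≤ n) (U : (Fin n → F) →ₗ[F] (Fin n → F))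
    (h : ∀ u, Q u = 0 → Q (U u) = 0) : ∃ c : F, ∀ x, Q (U x) = c * Q x := by
  obtain ⟨s, f, -, -, -, hs, hf, hsf⟩ := exists_pair_in hB (U := ⊤)
    (fun x _ h => hB x fun y => h y Submodule.mem_top) (P := ⊥) le_top
    (by rw [finrank_top, Module.finrank_fin_fun, finrank_bot]; omega)
  set X := orth Q (Submodule.span F ({s, f} : Set (Fin n → F))) with hXdef
  have hX : ∀ x ∈ X, B x s = 0 ∧ B x f = 0 := fun x hx =>
    ⟨by rw [b_comm]; exact mem_orth.1 hx s (Submodule.subset_span (Set.mem_insert _ _)),
      by rw [b_comm]; exact mem_orth.1 hx f (Submodule.subset_span (Set.mem_insert_of_mem _ rfl))⟩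
  have hXd : 4 ≤ Module.finrank F X := by
    have := finrank_orth_pair hB s f
    rw [Module.finrank_fin_fun] at this
    show 4 ≤ Module.finrank F (orth Q _)
    omega
  have pol : ∀ e x, Q e = 0 → Q x = 0 → B e x = 0 → B (U e) (U x) = 0 := by
    intro e x he hx hex
    have := h (e + x) (by rw [q_add, he, hx, hex, add_zero, add_zero])
    rwa [map_add, q_add, h e he, h x hx, zero_add, zero_add] at this
  have hspan : X ≤ Submodule.span F {y | y ∈ X ∧ Q y = 0} := by
    obtain ⟨e, he, he0, heq⟩ := exists_singular (Q := Q) (U := X) (by omega)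
    have hex : ∃ y ∈ X, B e y ≠ 0 := by
      by_contra hc
      push Not at hc
      refine he0 (hB e fun z => ?_)
      have h1 : z - B z f • s - B z s • f ∈ X := mem_orth.2 fun v hv => by
        obtain ⟨α, β, rfl⟩ := Submodule.mem_span_pair.1 hv
        simp only [b_add_left, b_smul_left, b_sub_right, b_smul_right, b_self_zero hs,
          b_self_zero hf, hsf, b_comm f s, b_comm s z, b_comm f z]
        ring
      have h2 := hc _ h1
      simp only [b_sub_right, b_smul_right, (hX e he).1, (hX e he).2, mul_zero, sub_zero] at h2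
      exact h2
    obtain ⟨y, hy, hey⟩ := hex
    obtain ⟨y', hy', hey'⟩ : ∃ y' ∈ X, B e y' = 1 :=
      ⟨(B e y)⁻¹ • y, X.smul_mem _ hy, by rw [b_smul_right, inv_mul_cancel₀ hey]⟩
    exact le_span_singular_in (S := X) he (X.sub_mem hy' (X.smul_mem (Q y') he)) heq
      (by rw [q_sub, q_smul, heq, b_smul_right, b_comm y' e, hey']; ring)
      (by rw [b_sub_right, b_smul_right, hey', b_self_zero heq, mul_zero, sub_zero])
  have hlin : ∀ x ∈ X, B (U x) (U s) = 0 ∧ B (U x) (U f) = 0 := by
    intro x hx
    have hx' := hspan hx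
    induction hx' using Submodule.span_induction with
    | mem z hz => exact ⟨pol z s hz.2 hs (hX z hz.1).1, pol z f hz.2 hf (hX z hz.1).2⟩
    | zero => simp only [map_zero, b_zero_left, and_self]
    | add a b ha hb iha ihb =>
      have hle : Submodule.span F {y | y ∈ X ∧ Q y = 0} ≤ X := Submodule.span_le.2 fun y hy => hy.1
      rw [map_add, b_add_left, b_add_left, (iha (hle ha)).1, (iha (hle ha)).2, (ihb (hle hb)).1,
        (ihb (hle hb)).2, add_zero]
      exact ⟨rfl, rfl⟩
    | smul c a ha iha =>
      have hle : Submodule.span F {y | y ∈ X ∧ Q y = 0} ≤ X := Submodule.span_le.2 fun y hy => hy.1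
      rw [map_smul, b_smul_left, b_smul_left, (iha (hle ha)).1, (iha (hle ha)).2, mul_zero]
      exact ⟨rfl, rfl⟩
  refine ⟨B (U s) (U f), fun z => ?_⟩
  set x := z - B z f • s - B z s • f with hx_def
  have hx : x ∈ X := mem_orth.2 fun v hv => by
    obtain ⟨α, β, rfl⟩ := Submodule.mem_span_pair.1 hv
    simp only [hx_def, b_add_left, b_smul_left, b_sub_right, b_smul_right, b_self_zero hs,
      b_self_zero hf, hsf, b_comm f s, b_comm s z, b_comm f z]
    ring
  have hz : z = x + B z f • s + B z s • f := by rw [hx_def]; abel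
  have hQx : Q (U x) = B (U s) (U f) * Q x := by
    have h0 : Q (x + (-(Q x)) • s + f) = 0 := by
      simp only [q_add, q_smul, hs, hf, b_add_left, b_smul_left, b_smul_right, (hX x hx).1,
        (hX x hx).2, hsf]
      ring
    have h1 := h _ h0
    simp only [map_add, map_smul] at h1
    simp only [q_add, q_smul, h s hs, h f hf, b_add_left, b_smul_left, b_smul_right,
      (hlin x hx).1, (hlin x hx).2] at h1
    linear_combination h1
  rw [hz]
  simp only [map_add, map_smul]
  simp only [q_add, q_smul, h s hs, h f hf, hs, hf, b_add_left, b_smul_left, b_smul_right,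
    (hlin x hx).1, (hlin x hx).2, (hX x hx).1, (hX x hx).2, hsf, hQx]
  ring

/-- One transvection generates all. -/
theorem eq_top_of_R (h2 : (2 : F) ≠ 0) (hn : 6 ≤ n) {a p : Fin n → F} (hap : B a p = 0) (hp0 : p ≠ 0)
    (ha : a ∉ Submodule.span F {p}) (h : R K Q a p) : K = ⊤ := by
  classical
  have hall : ∀ x y, B x y = 0 → R K Q x y := by
    intro x y hxy
    obtain ⟨z, hz⟩ : ∃ z, Q z ≠ 0 := by
      by_contra hc
      push Not at hc
      exact hp0 (hB p fun y => by
        unfold QuadraticMap.polar; rw [hc, hc, hc, sub_zero, sub_zero])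
    have hop : ∀ p y, ¬ (Q p = 0 ∧ Q y = 0 ∧ B p y = 0) → p ≠ 0 →
        (∀ x, B x p = 0 → R K Q x p) → ∀ x, B x y = 0 → R K Q x y := by
      intro p y hne hp0 hall x hxy
      obtain ⟨m, hm, hpm0, hym0, hmP⟩ := exists_far_two hB hK h2 hn hne
      have hmp : B m p = 0 := by rw [b_comm]; exact hpm0
      have hmy : B m y = 0 := by rw [b_comm]; exact hym0
      have hpm : p ∉ Submodule.span F {m} := fun e => by
        obtain ⟨c, e⟩ := Submodule.mem_span_singleton.1 e
        have hc : c ≠ 0 := fun h => hp0 (by rw [← e, h, zero_smul])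
        refine hmP ((Submodule.smul_mem_iff _ hc).1 ?_)
        rw [e]
        exact Submodule.subset_span (by simp)
      exact left_all hB hK h2 hn hmy (fun e => hmP (Submodule.span_mono (by simp) e))
        (right_all hB hK h2 hn hmp hpm (hall m hmp) hmy) hxy
    exact hop z y (fun e => hz e.1) (fun e => hz (by rw [e, QuadraticMap.map_zero]))
      (hop p z (fun e => hz e.2.1) hp0 fun x hx => left_all hB hK h2 hn hap ha h hx) x hxy
  refine eq_top_of_centres (by omega) (eq_top_iff.2 fun a _ φ hφ => ?_)
  let L : (Fin n → F) →ₗ[F] Module.Dual F (Fin n → F) := QuadraticMap.polarBilin Q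
  have hL : Function.Injective L := by
    rw [← LinearMap.ker_eq_bot, Submodule.eq_bot_iff]
    exact fun x hx => hB x fun y => LinearMap.congr_fun hx y
  obtain ⟨u, hu⟩ :=
    (LinearMap.injective_iff_surjective_of_finrank_eq_finrank Subspace.dual_finrank_eq.symm).1 hL
      { toFun := fun x => φ ⬝ᵥ x
        map_add' := fun x y => dotProduct_add _ _ _
        map_smul' := fun c x => by simp [dotProduct_smul] }
  have hu' : ∀ x, B x u = φ ⬝ᵥ x := fun x => by
    rw [b_comm]; exact LinearMap.congr_fun hu x
  obtain ⟨t, ht, htx⟩ := hall a u ((hu' a).trans hφ) 1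
  have : t = tv a φ hφ := ext_app fun x => by rw [htx, app_tv, one_smul, hu']
  rwa [← this]

theorem qsim_or_top (h2 : (2 : F) ≠ 0) (hn : 6 ≤ n) :
    K = ⊤ ∨ (K : Set (SpecialLinearGroup (Fin n) F)) ⊆ qsim Q := by
  classical
  by_cases hR : (K : Set (SpecialLinearGroup (Fin n) F)) ⊆ qsim Q
  · exact Or.inr hR
  left
  obtain ⟨g, hg, hgs⟩ := Set.not_subset.1 hR
  let L : (Fin n → F) →ₗ[F] Module.Dual F (Fin n → F) := QuadraticMap.polarBilin Q
  have hL : Function.Injective L := by
    rw [← LinearMap.ker_eq_bot, Submodule.eq_bot_iff]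
    exact fun x hx => hB x fun y => LinearMap.congr_fun hx y
  obtain ⟨e, he⟩ : ∃ e : (Fin n → F) ≃ₗ[F] Module.Dual F (Fin n → F), ∀ u x, e u x = B u x :=
    ⟨LinearEquiv.ofBijective L ⟨hL, (LinearMap.injective_iff_surjective_of_finrank_eq_finrank
      Subspace.dual_finrank_eq.symm).1 hL⟩, fun _ _ => rfl⟩
  obtain ⟨U, hU⟩ : ∃ U : (Fin n → F) →ₗ[F] (Fin n → F),
      ∀ x u, B x (U u) = B (app g⁻¹ x) u := by
    refine ⟨e.symm.toLinearMap ∘ₗ (Matrix.toLin' (g⁻¹).1).dualMap ∘ₗ e.toLinearMap, fun x u => ?_⟩
    rw [b_comm, ← he, LinearMap.comp_apply, LinearMap.comp_apply, LinearEquiv.coe_coe,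
      LinearEquiv.coe_coe, LinearEquiv.apply_symm_apply, LinearMap.dualMap_apply, he,
      Matrix.toLin'_apply, b_comm]
    rfl
  by_cases hesc : ∃ u, Q u = 0 ∧ Q (U u) ≠ 0
  · obtain ⟨u, hu, hUq0⟩ := hesc
    have hu0 : u ≠ 0 := fun h => hUq0 (by rw [h, map_zero, QuadraticMap.map_zero])
    have hgU : B (app g u) (U u) = 0 := by rw [hU, app_inv, b_self_zero hu]
    have hUP : B (U u) (U u) ≠ 0 := by rw [b_self]; exact mul_ne_zero h2 hUq0
    -- a singular vector orthogonal to `g u` and `U u`
    obtain ⟨p, hp, hpu, hpU, hpP⟩ :=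
      exists_far_two hB hK h2 hn (x := app g u) (y := U u) fun e => hUq0 e.2.1
    have hUg : U u ∉ Submodule.span F ({app g u, p} : Set (Fin n → F)) := fun h => by
      obtain ⟨α, β, e⟩ := Submodule.mem_span_pair.1 h
      refine hUP ?_
      calc B (U u) (U u) = B (α • app g u + β • p) (U u) := by rw [e]
        _ = 0 := by rw [b_add_left, b_smul_left, b_smul_left, hgU, b_comm p (U u), hpU]; ring
    let gl : (Fin n → F) →ₗ[F] (Fin n → F) := Matrix.toLin' g.1
    have hgl : ∀ x, gl x = app g x := fun x => Matrix.toLin'_apply _ _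
    obtain ⟨v, huv, hpv, hpV, hvM⟩ : ∃ v, B u v = 0 ∧ B (app g v) p = 0 ∧ B p (U v) = 0 ∧
        app g v ∉ Submodule.span F ({app g u, p, U u} : Set (Fin n → F)) := by
      let Λ : (Fin n → F) →ₗ[F] (Fin 3 → F) :=
        { toFun := fun x => ![B u x, B (app g x) p, B p (U x)]
          map_add' := fun a b => by
            ext i; fin_cases i <;> simp [b_add_right, b_add_left, app_add]
          map_smul' := fun c a => by
            ext i; fin_cases i <;> simp [b_smul_right, b_smul_left, app_smul] }
      by_contra hcon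
      push Not at hcon
      have hle : (LinearMap.ker Λ).map gl ≤
          Submodule.span F (({app g u, p, U u} : Finset (Fin n → F)) : Set (Fin n → F)) := by
        rintro _ ⟨x, hx, rfl⟩
        have hx' := LinearMap.mem_ker.1 hx
        rw [hgl]
        simpa using hcon x (congrFun hx' 0) (congrFun hx' 1) (congrFun hx' 2)
      have hginj : Function.Injective gl := fun a b e => by
        rw [hgl, hgl] at e
        rw [← app_inv g a, e, app_inv]
      have h1 := Λ.finrank_range_add_finrank_ker
      have h3 := (Submodule.finrank_le (LinearMap.range Λ)).trans_eq (Module.finrank_fin_fun F)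
      have h4 := (finrank_span_finset_le_card (R := F) ({app g u, p, U u} : Finset (Fin n → F))).trans
        Finset.card_le_three
      rw [Module.finrank_fin_fun] at h1
      have e := Submodule.eq_of_le_of_finrank_le hle (by
        rw [← LinearEquiv.finrank_eq (Submodule.equivMapOfInjective gl hginj (LinearMap.ker Λ))]
        exact h4.trans (by omega))
      obtain ⟨x, hx, hgx⟩ : U u ∈ (LinearMap.ker Λ).map gl := by
        rw [e]; exact Submodule.subset_span (by simp)
      rw [hgl] at hgx
      refine hUP ?_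
      have hx0 : B u x = 0 := congrFun (LinearMap.mem_ker.1 hx) 0
      rw [hU (U u) u, ← hgx, app_inv, b_comm]
      exact hx0
    have hvu : v ∉ Submodule.span F {u} := fun h => by
      obtain ⟨c, rfl⟩ := Submodule.mem_span_singleton.1 h
      exact hvM (by rw [app_smul]; exact Submodule.smul_mem _ _ (Submodule.subset_span (by simp)))
    have hUT : U u ∉ Submodule.span F ({app g u, app g v, p} : Set (Fin n → F)) := fun h => by
      rw [Submodule.mem_span_insert] at h
      obtain ⟨α, z, hz, hzz⟩ := h
      obtain ⟨β, γ, hbc⟩ := Submodule.mem_span_pair.1 hz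
      by_cases hβ : β = 0
      · exact hUg (Submodule.mem_span_pair.2 ⟨α, γ, by
          rw [hzz, ← hbc, hβ, zero_smul, zero_add]⟩)
      · refine hvM ((Submodule.smul_mem_iff _ hβ).1 ?_)
        rw [show β • app g v = U u - α • app g u - γ • p by rw [hzz, ← hbc]; abel]
        exact Submodule.sub_mem _ (Submodule.sub_mem _ (Submodule.subset_span (by simp))
          (Submodule.smul_mem _ _ (Submodule.subset_span (by simp))))
          (Submodule.smul_mem _ _ (Submodule.subset_span (by simp)))
    obtain ⟨q, hq, hUq⟩ := exists_orth_one hB hUT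
    have hqu : B (app g u) q = 0 := mem_orth.1 hq _ (Submodule.subset_span (by simp))
    have hqv : B (app g v) q = 0 := mem_orth.1 hq _ (Submodule.subset_span (by simp))
    have hqp : B p q = 0 := mem_orth.1 hq _ (Submodule.subset_span (by simp))
    obtain ⟨a, ha⟩ : ∃ a, a = app g v - (B q (U v) + Q v) • app g u := ⟨_, rfl⟩
    have hap : B a p = 0 := by rw [ha, b_sub_left, b_smul_left, hpv, hpu]; ring
    have hgv : ∀ c : F, app g v ≠ c • p + (B q (U v) + Q v) • app g u := fun c e => by
      refine hvM (e ▸ Submodule.add_mem _ (Submodule.smul_mem _ _ (Submodule.subset_span (by simp)))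
        (Submodule.smul_mem _ _ (Submodule.subset_span (by simp))))
    obtain ⟨t, ht, hts⟩ := exists_siegelSL (Q := Q) hu huv
    have htK := hK t hts
    obtain ⟨k, hkK, hkx⟩ : ∃ k ∈ K, ∀ x, app k x = x + B x (U u) • app g v - B x (U v) • app g u
        - (Q v * B x (U u)) • app g u :=
      ⟨g * t * g⁻¹, K.mul_mem (K.mul_mem hg htK) (K.inv_mem hg), fun x => by
        rw [app_mul, app_mul, ht, hU, hU, ← hgl, map_sub, map_sub, map_add, map_smul, map_smul,
          map_smul, hgl, hgl, hgl, app_inv']⟩
    refine eq_top_of_R hB hK h2 hn hap (fun h => hpP (h ▸ Submodule.zero_mem _))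
      (fun h => ?_) (a := a) (p := p) fun c => ?_
    · obtain ⟨c, hc⟩ := Submodule.mem_span_singleton.1 h
      exact hgv c (by rw [hc, ha, sub_add_cancel])
    obtain ⟨h, hh, hhs⟩ := exists_siegelSL (Q := Q) hp (q := (-c) • q)
      (by rw [b_smul_right, hqp, mul_zero])
    have hhK := hK h hhs
    refine ⟨h * k * h⁻¹ * k⁻¹, K.mul_mem (K.mul_mem (K.mul_mem hhK hkK) (K.inv_mem hhK))
      (K.inv_mem hkK), fun z => ?_⟩
    obtain ⟨y, rfl⟩ : ∃ y, z = app k (app h y) :=
      ⟨app h⁻¹ (app k⁻¹ z), by rw [app_inv', app_inv']⟩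
    rw [app_mul, app_mul, app_mul, app_inv, app_inv, hkx, hkx]
    rw [hh (y + _ - _ - _)]
    simp only [hh y, b_add_left, b_sub_left, b_smul_left, b_smul_right, q_smul, hpu, hpv, hqu, hqv,
      hqp, b_self_zero hp, b_comm q p, b_comm p (U u), hpU, hpV,
      b_comm q (U u), hUq]
    rw [ha]
    module
  · push Not at hesc
    obtain ⟨c, hc⟩ := q_map_of_singular hB h2 hn U hesc
    have hBU : ∀ x y, B (U x) (U y) = c * B x y := fun x y => by
      unfold QuadraticMap.polar; rw [← map_add, hc, hc, hc]; ring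
    have hUg : ∀ x, U x = c • app g x := fun x => by
      have : app g⁻¹ (U x) = c • x := sub_eq_zero.1 (hB _ fun y => by
        rw [b_sub_left, b_smul_left, ← hU, hBU]; ring)
      rw [← app_inv' g (U x), this, app_smul]
    have hform : ∀ x y, B x y = c * B (app g x) (app g y) := fun x y => by
      have := hU (app g x) y
      rw [app_inv, hUg, b_smul_right] at this
      exact this.symm
    obtain ⟨s, f, -, -, -, -, -, hsf⟩ := exists_pair_in hB (U := ⊤)
      (fun x _ h => hB x fun y => h y Submodule.mem_top) (P := ⊥) le_top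
      (by rw [finrank_top, Module.finrank_fin_fun, finrank_bot]; omega)
    have hc0 : c ≠ 0 := fun h => one_ne_zero (α := F) (by
      rw [← hsf, hform, h, zero_mul])
    exact absurd ⟨(Units.mk0 c hc0)⁻¹, fun x => by
      have := hform x x
      rw [b_self, b_self] at this
      rw [Units.val_inv_eq_inv_val, Units.val_mk0]
      refine mul_left_cancel₀ h2 ?_
      rw [mul_left_comm, this, ← mul_assoc, inv_mul_cancel₀ hc0, one_mul]⟩ hgs

omit hK in
theorem exists_notMem_qsim (h2 : (2 : F) ≠ 0) (hn : 6 ≤ n) :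
    ∃ g : SpecialLinearGroup (Fin n) F, g ∉ qsim Q := by
  classical
  have hK : ∀ g : SpecialLinearGroup (Fin n) F, g ∈ qsim Q → g ∈ (⊤ : Subgroup _) :=
    fun g _ => Subgroup.mem_top g
  obtain ⟨a, ha, -, haP⟩ := exists_far hB hK hn (S := ∅) (by simp)
  have ha0 : a ≠ 0 := fun h => haP (h ▸ Submodule.zero_mem _)
  obtain ⟨w, -, haw⟩ := exists_orth_one hB (W := ⊥) (x := a) (by simpa using ha0)
  obtain ⟨s, f, hs, hf, -, hsq, hfq, hsf⟩ := exists_pair_in hB (U := ⊤)
    (fun x _ h => hB x fun y => h y Submodule.mem_top)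
    (P := Submodule.span F {a}) le_top (by
      rw [finrank_top, Module.finrank_fin_fun, finrank_span_singleton ha0]; omega)
  obtain ⟨g, hg⟩ := exists_isT (Q := Q) (b_self_zero ha)
  refine ⟨g, fun ⟨c, hc⟩ => ?_⟩
  have hfix : ∀ x ∈ orth Q (Submodule.span F {a}), app g x = x := fun x hx => by
    rw [hg, b_comm, mem_orth.1 hx a (Submodule.mem_span_singleton_self a), zero_smul, add_zero]
  have hc1 : (c : F) = 1 := by
    have := hc (s + f)
    rw [app_add, hfix s hs.2, hfix f hf.2, q_add, hsq, hfq, hsf] at this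
    linear_combination -this
  have := hc w
  rw [hg, hc1, one_mul, b_comm w a, haw, one_smul, q_add, ha, b_comm w a, haw, add_zero,
    add_eq_left] at this
  exact one_ne_zero this

omit hK in
theorem isMaximalIn_qsim {M : Subgroup (GL (Fin n) F)} (h2 : (2 : F) ≠ 0) (hn : 6 ≤ n)
    (hM : ∀ g : SpecialLinearGroup (Fin n) F, (g : GL (Fin n) F) ∈ M ↔ g ∈ qsim Q) :
    Cfsg.Geo.IsMaximalIn (Cfsg.Geo.specialLinear (Fin n) F)
      (M ⊓ Cfsg.Geo.specialLinear (Fin n) F) := by
  refine ⟨lt_of_le_not_ge inf_le_right fun h => ?_, fun N hN hN' => ?_⟩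
  · obtain ⟨g, hg⟩ := exists_notMem_qsim hB h2 hn
    exact hg ((hM g).1 (h (mem_specialLinear.2 ⟨g, rfl⟩)).1)
  rcases qsim_or_top (K := N.comap SpecialLinearGroup.toGL) hB (fun g hg =>
      hN ⟨(hM g).2 hg, mem_specialLinear.2 ⟨g, rfl⟩⟩) h2 hn with h | h
  · refine Or.inr (le_antisymm hN' fun g hg => ?_)
    obtain ⟨s, rfl⟩ := mem_specialLinear.1 hg
    have : s ∈ N.comap SpecialLinearGroup.toGL := h ▸ Subgroup.mem_top s
    exact this
  · refine Or.inl (le_antisymm (fun g hg => ?_) hN)
    obtain ⟨s, rfl⟩ := mem_specialLinear.1 (hN' hg)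
    exact ⟨(hM s).2 (h hg), mem_specialLinear.2 ⟨s, rfl⟩⟩

end CfsgLib.Classical.MinIndex.Quad
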