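import Cfsg.Agent.Lib.Classical.DecompMax
import Cfsg.Agent.Lib.Classical.TensorMax.Main
import Cfsg.Agent.Lib.Classical.LinearQuad
import Cfsg.Agent.Lib.Classical.OrthStab

set_option autoImplicit false

/-!
Geometric maximal subgroups of `SL n`, in the form the tables of small dimension quote them.
-/

namespace CfsgLib.Classical.GeometricLinear

variable {F : Type*} [Field F] [Fintype F]

/-- A field with at least three elements has one other than `0` and `1`. -/
theorem exists_ne_zero_one (hq : 3 ≤ Fintype.card F) : ∃ t : F, t ≠ 0 ∧ t ≠ 1 := by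
  classical
  obtain ⟨t, -, ht⟩ := Finset.exists_mem_notMem_of_card_lt_card
    (t := (Finset.univ : Finset F)) (s := {0, 1})
    (by rw [Finset.card_univ]; exact Finset.card_le_two.trans_lt hq)
  simp only [Finset.mem_insert, Finset.mem_singleton, not_or] at ht
  exact ⟨t, ht⟩

/-- Tensor stabilisers with first factor of dimension two. -/
theorem tensor_two {n k : ℕ} (hk : 2 < k) (hq : 3 ≤ Fintype.card F) (e : Fin n ≃ Fin 2 × Fin k)
    (P : GL (Fin n) F) :
    Cfsg.Geo.IsMaximalIn (Cfsg.Geo.specialLinear (Fin n) F)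
      (Cfsg.Geo.tensorProductSubgroup 2 k e P ⊓ Cfsg.Geo.specialLinear (Fin n) F) :=
  TensorMax.isMaximalIn le_rfl hk (Or.inr (exists_ne_zero_one hq)) e P

/-- Orthogonal similarity groups. -/
theorem quad {n : ℕ} (hn : 6 ≤ n) (hodd : Odd (Fintype.card F)) (Q : (Fin n → F) → F)
    (hQ : Cfsg.Geo.IsNondegenerateQuadraticForm Q) :
    Cfsg.Geo.IsMaximalIn (Cfsg.Geo.specialLinear (Fin n) F)
      (Cfsg.Geo.quadSimilarityGroup Q ⊓ Cfsg.Geo.specialLinear (Fin n) F) := by
  classical
  have h2 : (2 : F) ≠ 0 := Ring.two_ne_zero fun e =>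
    Nat.not_even_iff_odd.2 hodd (Nat.even_iff.2 (FiniteField.even_card_of_char_two e))
  obtain ⟨Q', rfl, hB⟩ := CfsgLib.Orth.exists_quadForm hQ
  exact MinIndex.Quad.isMaximalIn_qsim hB h2 hn fun g => Iff.rfl

end CfsgLib.Classical.GeometricLinear
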