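import Cfsg.Agent.Lib.Classical.SympStab
import Cfsg.Agent.Lib.Classical.Forms

set_option autoImplicit false

/-!
Stabilisers of orthogonal decompositions into non-degenerate subspaces are maximal in the
symplectic group.
-/

namespace CfsgLib.Classical.SympDecomp

open Matrix Cfsg SympTrans SympStab

variable {F : Type*} [Field F] {m t k : ℕ}

local notation "G" => Matrix.symplecticGroup (Fin m) F
local notation "ω" => sympForm m F

/-- The elements permuting the members of `D`. -/
def dstab (D : Fin t → Submodule F (Fin m ⊕ Fin m → F)) : Set G :=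
  {g | ∃ σ : Equiv.Perm (Fin t), ∀ i, ∀ x ∈ D i, app g x ∈ D (σ i)}

theorem disjoint_of {D : Fin t → Submodule F (Fin m ⊕ Fin m → F)}
    (hD : Cfsg.Geo.IsNondegenerateMDecomposition (sympForm m F) k D) {i j : Fin t} (hij : i ≠ j)
    {x : Fin m ⊕ Fin m → F} (hi : x ∈ D i) (hj : x ∈ D j) : x = 0 := by
  by_contra h0
  obtain ⟨y, hy, hxy⟩ := (hD.nondegenerate i x hi h0).1
  exact hxy (hD.orthogonal i j hij y hy x hj)

/-- An isometry swapping two members. -/
theorem exists_swap {D : Fin t → Submodule F (Fin m ⊕ Fin m → F)}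
    (hD : Cfsg.Geo.IsNondegenerateMDecomposition (sympForm m F) k D) {i j : Fin t} (hij : i ≠ j) :
    ∃ g : G, ∀ l, ∀ x ∈ D l, app g x ∈ D (Equiv.swap i j l) := by
  classical
  let V := Fin m ⊕ Fin m → F
  let B : LinearMap.BilinForm F V :=
    LinearMap.mk₂ F (sympForm m F) f_add_left f_smul_left f_add_right f_smul_right
  let R : Fin t → LinearMap.BilinForm F V → Prop := fun _ _ => True
  have basis : ∀ a, ∃ (r : ℕ) (b : Module.Basis (Fin r ⊕ Fin r) F (D a)),
      (∀ x y : Fin r, ω (b (.inl x) : V) (b (.inr y) : V) = if x = y then 1 else 0) ∧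
      (∀ x y : Fin r, ω (b (.inl x) : V) (b (.inl y) : V) = 0) ∧
      (∀ x y : Fin r, ω (b (.inr x) : V) (b (.inr y) : V) = 0) := fun a =>
    Forms.exists_symplectic_basis_nondeg (B.domRestrict₁₂ (D a) (D a)) (fun x => f_self (x : V))
      fun v hv => by
        by_contra h0
        obtain ⟨y, hy, hvy⟩ := (hD.nondegenerate a v v.2 fun e => h0 (Subtype.ext e)).2
        exact hvy (hv ⟨y, hy⟩)
  obtain ⟨r, bi, hi1, hi2, hi3⟩ := basis i
  obtain ⟨r', bj, hj1, hj2, hj3⟩ := basis j
  obtain rfl : r' = r := by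
    have h1 := Module.finrank_eq_card_basis bi
    have h2 := Module.finrank_eq_card_basis bj
    rw [hD.decomp.finrank_eq, Fintype.card_sum, Fintype.card_fin] at h1 h2
    omega
  let φ : D i ≃ₗ[F] D j := bi.equiv bj (Equiv.refl _)
  have hφ : ∀ x y : D i, ω (φ x : V) (φ y : V) = ω (x : V) (y : V) := by
    have key : (B.domRestrict₁₂ (D j) (D j)).compl₁₂ φ.toLinearMap φ.toLinearMap =
        B.domRestrict₁₂ (D i) (D i) := by
      refine LinearMap.ext_basis bi bi fun x y => ?_
      show ω (φ (bi x) : V) (φ (bi y) : V) = ω (bi x : V) (bi y : V)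
      simp only [φ, Module.Basis.equiv_apply, Equiv.refl_apply]
      rcases x with x | x <;> rcases y with y | y
      · rw [hi2, hj2]
      · rw [hi1, hj1]
      · rw [f_swap, hj1, f_swap, hi1]
      · rw [hi3, hj3]
    exact fun x y => LinearMap.congr_fun₂ key x y
  let pi : V →ₗ[F] D i := Submodule.linearProjOfIsCompl (D i) (orth (D i)) (isCompl_orth (hD.nondegenerate i))
  let pj : V →ₗ[F] D j := Submodule.linearProjOfIsCompl (D j) (orth (D j)) (isCompl_orth (hD.nondegenerate j))
  have hpi : ∀ v, v - (pi v : V) ∈ orth (D i) := fun v => by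
    obtain ⟨w, hw, hvw⟩ := exists_split (hD.nondegenerate i) v
    have e : pi v = ⟨w, hw⟩ := by
      rw [← add_sub_cancel w v, map_add]
      exact (congrArg₂ (· + ·) (Submodule.linearProjOfIsCompl_apply_left _ ⟨w, hw⟩)
        (Submodule.linearProjOfIsCompl_apply_right _ ⟨v - w, hvw⟩)).trans (add_zero _)
    rw [e]
    exact hvw
  have hpj : ∀ v, v - (pj v : V) ∈ orth (D j) := fun v => by
    obtain ⟨w, hw, hvw⟩ := exists_split (hD.nondegenerate j) v
    have e : pj v = ⟨w, hw⟩ := by
      rw [← add_sub_cancel w v, map_add]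
      exact (congrArg₂ (· + ·) (Submodule.linearProjOfIsCompl_apply_left _ ⟨w, hw⟩)
        (Submodule.linearProjOfIsCompl_apply_right _ ⟨v - w, hvw⟩)).trans (add_zero _)
    rw [e]
    exact hvw
  let L : V →ₗ[F] V := LinearMap.id - (D i).subtype.comp pi - (D j).subtype.comp pj +
    (D j).subtype.comp (φ.toLinearMap.comp pi) + (D i).subtype.comp (φ.symm.toLinearMap.comp pj)
  have hL : ∀ v, L v = (v - (pi v : V) - (pj v : V)) + (φ (pi v) : V) + (φ.symm (pj v) : V) :=
    fun _ => rfl
  have horth : ∀ v, (v - (pi v : V) - (pj v : V)) ∈ orth (D i) ⊓ orth (D j) := fun v => by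
    refine ⟨(orth (D i)).sub_mem (hpi v) fun w hw => hD.orthogonal i j hij w hw _ (pj v).2, ?_⟩
    rw [sub_right_comm]
    exact (orth (D j)).sub_mem (hpj v) fun w hw => hD.orthogonal j i hij.symm w hw _ (pi v).2
  have split : ∀ (a a' b b' r r' : V), a ∈ D i → a' ∈ D i → b ∈ D j → b' ∈ D j →
      r ∈ orth (D i) ⊓ orth (D j) → r' ∈ orth (D i) ⊓ orth (D j) →
      ω (r + a + b) (r' + a' + b') = ω r r' + ω a a' + ω b b' := by
    intro a a' b b' r r' ha ha' hb hb' hr hr'
    have e1 : ω r a' = 0 := by rw [f_swap, hr.1 a' ha', neg_zero]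
    have e2 : ω r b' = 0 := by rw [f_swap, hr.2 b' hb', neg_zero]
    have e3 : ω a r' = 0 := hr'.1 a ha
    have e4 : ω b r' = 0 := hr'.2 b hb
    have e5 : ω a b' = 0 := hD.orthogonal i j hij a ha b' hb'
    have e6 : ω b a' = 0 := hD.orthogonal j i hij.symm b hb a' ha'
    rw [f_add_left, f_add_left, f_add_right, f_add_right, f_add_right, f_add_right, f_add_right,
      f_add_right, e1, e2, e3, e4, e5, e6]
    ring
  have hiso : ∀ u v, ω (L u) (L v) = ω u v := by
    intro u v
    have e : ∀ w : V, w = (w - (pi w : V) - (pj w : V)) + (pi w : V) + (pj w : V) := fun w => by abel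
    have e' : ∀ w : V, L w = (w - (pi w : V) - (pj w : V)) + (φ.symm (pj w) : V) + (φ (pi w) : V) :=
      fun w => by rw [hL]; abel
    rw [e' u, e' v, split _ _ _ _ _ _ (φ.symm _).2 (φ.symm _).2 (φ _).2 (φ _).2 (horth u) (horth v)]
    conv_rhs => rw [e u, e v, split _ _ _ _ _ _ (pi _).2 (pi _).2 (pj _).2 (pj _).2 (horth u) (horth v)]
    rw [hφ, ← hφ (φ.symm (pj u)) (φ.symm (pj v)), φ.apply_symm_apply, φ.apply_symm_apply]
    ring
  refine ⟨⟨LinearMap.toMatrix' L, mem_iff_f.2 fun u v => ?_⟩, fun l x hx => ?_⟩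
  · rw [LinearMap.toMatrix'_mulVec, LinearMap.toMatrix'_mulVec]; exact hiso u v
  · show (LinearMap.toMatrix' L) *ᵥ x ∈ _
    rw [LinearMap.toMatrix'_mulVec, hL]
    have zero : ∀ a, a ≠ l → x ∈ orth (D a) := fun a ha w hw => hD.orthogonal a l ha w hw x hx
    by_cases hli : l = i
    · subst hli
      have h1 : pi x = ⟨x, hx⟩ := Submodule.linearProjOfIsCompl_apply_left _ ⟨x, hx⟩
      have h2 : pj x = 0 := Submodule.linearProjOfIsCompl_apply_right _ ⟨x, zero j hij.symm⟩
      rw [h1, h2, map_zero, Equiv.swap_apply_left]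
      simpa using (φ ⟨x, hx⟩).2
    by_cases hlj : l = j
    · subst hlj
      have h1 : pj x = ⟨x, hx⟩ := Submodule.linearProjOfIsCompl_apply_left _ ⟨x, hx⟩
      have h2 : pi x = 0 := Submodule.linearProjOfIsCompl_apply_right _ ⟨x, zero i hij⟩
      rw [h1, h2, map_zero, Equiv.swap_apply_right]
      simpa using (φ.symm ⟨x, hx⟩).2
    have h1 : pi x = 0 := Submodule.linearProjOfIsCompl_apply_right _ ⟨x, zero i (Ne.symm hli)⟩
    have h2 : pj x = 0 := Submodule.linearProjOfIsCompl_apply_right _ ⟨x, zero j (Ne.symm hlj)⟩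
    rw [h1, h2, map_zero, map_zero, Equiv.swap_apply_of_ne_of_ne hli hlj]
    simpa using hx

theorem dstab_le_or_top [Finite F] {D : Fin t → Submodule F (Fin m ⊕ Fin m → F)}
    (hD : Cfsg.Geo.IsNondegenerateMDecomposition (sympForm m F) k D)
    (hex : ¬ (k = 2 ∧ Nat.card F = 2)) (K : Subgroup G) (hK : (dstab D : Set G) ⊆ K) :
    K = ⊤ ∨ (K : Set G) ⊆ dstab D := by
  classical
  let V := Fin m ⊕ Fin m → F
  choose p hp hpo using fun (i : Fin t) (v : V) => exists_split (hD.nondegenerate i) v
  have puniq : ∀ (i : Fin t) (v a : V), a ∈ D i → v - a ∈ orth (D i) → p i v = a := by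
    intro i v a ha hva
    refine sub_eq_zero.1 ((Submodule.eq_bot_iff _).1 (isCompl_orth (hD.nondegenerate i)).inf_eq_bot _
      ⟨(D i).sub_mem (hp i v) ha, ?_⟩)
    have := (orth (D i)).sub_mem hva (hpo i v)
    rwa [sub_sub_sub_cancel_left] at this
  have padd : ∀ i u v, p i (u + v) = p i u + p i v := fun i u v =>
    puniq i _ _ ((D i).add_mem (hp i u) (hp i v))
      (by rw [add_sub_add_comm]; exact (orth (D i)).add_mem (hpo i u) (hpo i v))
  have psmul : ∀ i (c : F) v, p i (c • v) = c • p i v := fun i c v =>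
    puniq i _ _ ((D i).smul_mem c (hp i v)) (by rw [← smul_sub]; exact (orth (D i)).smul_mem c (hpo i v))
  have psub : ∀ i u v, p i (u - v) = p i u - p i v := fun i u v =>
    eq_sub_of_add_eq (by rw [← padd, sub_add_cancel])
  have p0 : ∀ i, p i 0 = 0 := fun i => puniq i _ _ (D i).zero_mem (by simp)
  have pself : ∀ i, ∀ x ∈ D i, p i x = x := fun i x hx => puniq i x x hx (by simp)
  have pother : ∀ i j, i ≠ j → ∀ x ∈ D j, p i x = 0 := fun i j h x hx =>
    puniq i x 0 (D i).zero_mem (by rw [sub_zero]; exact fun w hw => hD.orthogonal i j h w hw x hx)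
  have ext_p : ∀ u v : V, (∀ i, p i u = p i v) → u = v := by
    intro u v h
    refine sub_eq_zero.1 (eq_zero_of_f _ fun z => ?_)
    have hz : z ∈ iSup D := by rw [hD.decomp.iSup_eq_top]; exact Submodule.mem_top
    induction hz using Submodule.iSup_induction' with
    | mem i x hx =>
      have := hpo i (u - v) x hx
      rw [psub, h i, sub_self, sub_zero] at this
      rw [f_swap, this, neg_zero]
    | zero => exact f_zero_right _
    | add x y _ _ hx hy => rw [f_add_right, hx, hy, add_zero]
  have psum : ∀ v, v = ∑ i, p i v := fun v => ext_p _ _ fun i => by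
    have hlin : p i (∑ j, p j v) = ∑ j, p i (p j v) :=
      map_sum ({ toFun := p i, map_zero' := p0 i, map_add' := padd i } : V →+ V) _ _
    rw [hlin, Finset.sum_eq_single i (fun j _ hj => pother i j (Ne.symm hj) _ (hp j v)) (by simp),
      pself i _ (hp i v)]
  have homega : ∀ u v, ω u v = ∑ i, ω (p i u) (p i v) := by
    intro u v
    have e1 : ω u v = ∑ i, ω (p i u) v := by
      conv_lhs => rw [psum u]
      exact map_sum (AddMonoidHom.mk' (fun x => ω x v) (fun x y => f_add_left x y v)) _ _
    rw [e1]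
    refine Finset.sum_congr rfl fun i _ => ?_
    conv_lhs => rw [← add_sub_cancel (p i v) v, f_add_right, hpo i v _ (hp i u), add_zero]
  -- the block transvections are in `K`
  have hblock : ∀ i, ∀ x ∈ D i, x ∈ centres K := fun i x hx c => hK ⟨1, fun l y hy => by
    rw [app_T]
    by_cases hl : l = i
    · subst hl; exact (D l).add_mem hy ((D l).smul_mem _ hx)
    · rw [hD.orthogonal l i hl y hy x hx, mul_zero, zero_smul, add_zero]; exact hy⟩
  have hgen : ∀ i, gen ((D i : Submodule F V) : Set V) ≤ K := fun i => by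
    rw [gen, Subgroup.closure_le]
    rintro _ ⟨v, hv, c, rfl⟩
    exact hblock i v hv c
  let supp : V → Finset (Fin t) := fun v => Finset.univ.filter fun i => p i v ≠ 0
  have hsupp : ∀ v i, i ∈ supp v ↔ p i v ≠ 0 := fun v i => by simp [supp]
  -- membership only depends on the support
  have hsame : ∀ u v, supp u = supp v → u ∈ centres K → v ∈ centres K := by
    have key : ∀ (S : Finset (Fin t)) (u v : V), supp u = supp v →
        (∀ i, i ∉ S → p i u = p i v) → u ∈ centres K → v ∈ centres K := by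
      intro S
      induction S using Finset.induction_on with
      | empty => intro u v _ h hu; rwa [← ext_p u v fun i => h i (Finset.notMem_empty i)]
      | @insert a S _ ih =>
        intro u v hs h hu
        by_cases ha : p a u = 0
        · have hav : p a v = 0 := by
            by_contra e
            exact (hsupp u a).1 (hs ▸ (hsupp v a).2 e) ha
          exact ih u v hs (fun i hi => by
            by_cases e : i = a
            · subst e; rw [ha, hav]
            · exact h i (by simp [e, hi])) hu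
        have hav : p a v ≠ 0 := (hsupp v a).1 (hs ▸ (hsupp u a).2 ha)
        obtain ⟨g, hg, hgu⟩ := exists_move_in
          (fun w hw h0 => (hD.nondegenerate a w hw h0).2) (hp a u) (hp a v) ha hav
        have hfix : app g (u - p a u) = u - p a u :=
          gen_fix (fun x hx => by rw [f_swap, hpo a u x hx, neg_zero]) hg
        have hu' : app g u = u - p a u + p a v := by
          conv_lhs => rw [← sub_add_cancel u (p a u), app_add, hfix, hgu]
        have hpi : ∀ i, i ≠ a → p i (app g u) = p i u := fun i hi => by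
          rw [hu', padd, psub, pother i a hi _ (hp a u), pother i a hi _ (hp a v), sub_zero, add_zero]
        have hpa : p a (app g u) = p a v := by
          rw [hu', padd, psub, pself a _ (hp a u), pself a _ (hp a v), sub_self, zero_add]
        refine ih (app g u) v ?_ (fun i hi => ?_) (app_mem_centres (hgen a hg) hu)
        · rw [← hs]
          ext i
          by_cases e : i = a
          · subst e; simp [hsupp, hpa, ha, hav]
          · simp [hsupp, hpi i e]
        · by_cases e : i = a
          · subst e; exact hpa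
          · rw [hpi i e]; exact h i (by simp [e, hi])
    exact fun u v hs => key Finset.univ u v hs fun i hi => absurd (Finset.mem_univ i) hi
  have hcomb : ∀ a b : V, a ∈ centres K → b ∈ centres K → ω b a ≠ 0 → ∀ s : F,
      b + s • a ∈ centres K := by
    intro a b ha hb h s
    have := app_mem_centres (ha (s / ω b a)) hb
    rwa [app_T, div_mul_cancel₀ _ h] at this
  -- vectors with given components
  have hmk : ∀ f : Fin t → V, (∀ i, f i ∈ D i) → ∀ i, p i (∑ j, f j) = f i := by
    intro f hf i
    rw [show p i (∑ j, f j) = ∑ j, p i (f j) from map_sum (AddMonoidHom.mk' (p i) (padd i)) _ _]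
    rw [Finset.sum_eq_single i (fun j _ hj => pother i j (Ne.symm hj) _ (hf j)) (by simp),
      pself i _ (hf i)]
  have hne : ∀ i, ∃ x ∈ D i, x ≠ 0 := fun i => Submodule.exists_mem_ne_zero_of_ne_bot fun e => by
    have := hD.decomp.finrank_eq i
    rw [e, finrank_bot] at this
    exact absurd this hD.decomp.pos.ne
  by_cases hR : ∀ v ∈ centres K, ∃ i, v ∈ D i
  · refine Or.inr fun g hg => ?_
    have himg : ∀ i, ∃ j, ∀ x ∈ D i, app g x ∈ D j := by
      intro i
      obtain ⟨x₀, hx₀, h0⟩ := hne i
      obtain ⟨j, hj⟩ := hR _ (app_mem_centres hg (hblock i x₀ hx₀))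
      refine ⟨j, fun x hx => ?_⟩
      obtain ⟨j', hj'⟩ := hR _ (app_mem_centres hg (hblock i x hx))
      obtain ⟨j'', hj''⟩ := hR _ (app_mem_centres hg (hblock i _ ((D i).add_mem hx hx₀)))
      rw [app_add] at hj''
      by_contra hc
      have hne' : j' ≠ j := fun e => hc (e ▸ hj')
      have hgx₀ := app_ne_zero g h0
      have hgx : app g x ≠ 0 := fun e => hc (e ▸ (D j).zero_mem)
      by_cases e1 : j'' = j
      · subst e1
        exact hc (((D j'').add_mem_iff_left hj).1 hj'')
      by_cases e2 : j'' = j'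
      · subst e2
        exact hgx₀ (disjoint_of hD (Ne.symm e1) hj (((D j'').add_mem_iff_right hj').1 hj''))
      have h1 := congrArg (p j') (rfl : app g x + app g x₀ = app g x + app g x₀)
      have h2 : p j' (app g x + app g x₀) = 0 := pother j' j'' (Ne.symm e2) _ hj''
      rw [padd, pself j' _ hj', pother j' j hne' _ hj, add_zero] at h2
      exact hgx h2
    choose σ hσ using himg
    have hinj : Function.Injective σ := by
      intro i i' e
      by_contra hii
      obtain ⟨x, hx, hx0⟩ := hne i'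
      obtain ⟨⟨y, hy⟩, hye⟩ : ∃ y : D i, (⟨app g (y : V), e ▸ hσ i y y.2⟩ : D (σ i')) =
          ⟨app g x, hσ i' x hx⟩ := by
        let L : D i →ₗ[F] D (σ i') :=
          { toFun := fun y => ⟨app g (y : V), e ▸ hσ i y y.2⟩
            map_add' := fun a b => Subtype.ext (app_add g a b)
            map_smul' := fun c a => Subtype.ext (app_smul g c a) }
        exact (LinearMap.injective_iff_surjective_of_finrank_eq_finrank (f := L)
          ((hD.decomp.finrank_eq _).trans (hD.decomp.finrank_eq _).symm)).1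
          (fun a b h => Subtype.ext (app_injective g (congrArg Subtype.val h))) _
      have := app_injective g (congrArg Subtype.val hye)
      exact hx0 (disjoint_of hD hii (this ▸ hy) hx)
    exact ⟨Equiv.ofBijective σ (Finite.injective_iff_bijective.1 hinj), hσ⟩
  left
  push Not at hR
  obtain ⟨v, hv, hvD⟩ := hR
  obtain ⟨i, hi⟩ : ∃ i, p i v ≠ 0 := by
    by_contra hc
    push Not at hc
    exact hvD ⟨0, hD.decomp.two_le.trans_lt' two_pos⟩
      ((ext_p v 0 fun i => by rw [hc i, p0]) ▸ (D _).zero_mem)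
  obtain ⟨l, hl, hli⟩ : ∃ l, p l v ≠ 0 ∧ l ≠ i := by
    by_contra hc
    push Not at hc
    refine hvD i ?_
    rw [show v = p i v from ext_p _ _ fun j => ?_]
    · exact hp i v
    by_cases e : j = i
    · subst e; rw [pself j _ (hp j v)]
    · rw [pother j i e _ (hp i v)]
      by_contra h
      exact e (hc j h)
  -- a vector with two components
  obtain ⟨w, hw, hwi, hwl, hwo⟩ : ∃ w ∈ centres K, p i w ≠ 0 ∧ p l w ≠ 0 ∧
      ∀ r, r ≠ i → r ≠ l → p r w = 0 := by
    obtain ⟨z₀, hz₀, hzi⟩ := (hD.nondegenerate i _ (hp i v) hi).1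
    set z := (ω z₀ (p i v))⁻¹ • z₀
    have hz : ω z (p i v) = 1 := by rw [f_smul_left, inv_mul_cancel₀ hzi]
    have hzD : z ∈ D i := (D i).smul_mem _ hz₀
    obtain ⟨y, hy, hy0, hyl, hyω⟩ : ∃ y ∈ D l, y ≠ 0 ∧ y ≠ p l v ∧ ω y (p l v) = 0 := by
      by_cases hF : ∃ c : F, c ≠ 0 ∧ c ≠ 1
      · obtain ⟨c, hc0, hc1⟩ := hF
        refine ⟨c • p l v, (D l).smul_mem _ (hp l v), smul_ne_zero hc0 hl, fun e => hc1 ?_,
          by rw [f_smul_left, f_self, mul_zero]⟩
        exact smul_left_injective F hl (e.trans (one_smul F _).symm)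
      by_contra hc
      push Not at hc hF
      let L : D l →ₗ[F] F :=
        { toFun := fun y => ω (y : V) (p l v)
          map_add' := fun a b => f_add_left _ _ _
          map_smul' := fun c a => f_smul_left c _ _ }
      have hker : LinearMap.ker L ≤ Submodule.span F {(⟨p l v, hp l v⟩ : D l)} := fun y hy => by
        by_cases hy0 : y = 0
        · rw [hy0]; exact zero_mem _
        by_cases hye : (y : V) = p l v
        · exact Submodule.mem_span_singleton.2 ⟨1, by rw [one_smul]; exact Subtype.ext hye.symm⟩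
        exact absurd (LinearMap.mem_ker.1 hy) (hc y y.2 (fun e => hy0 (Subtype.ext e)) hye)
      have h1 := L.finrank_range_add_finrank_ker
      have h2 : Module.finrank F (LinearMap.range L) ≤ 1 :=
        (Submodule.finrank_le _).trans_eq (Module.finrank_self F)
      have h3 : Module.finrank F (LinearMap.ker L) ≤ 1 :=
        (Submodule.finrank_mono hker).trans_eq (finrank_span_singleton fun e =>
          hl (congrArg Subtype.val e))
      rw [hD.decomp.finrank_eq l] at h1
      have hcard : Nat.card F = 2 := by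
        rw [Nat.card_eq_two_iff]
        exact ⟨0, 1, zero_ne_one, Set.eq_univ_of_forall fun c => by
          by_cases e : c = 0
          · exact Or.inl e
          · exact Or.inr (hF c e)⟩
      have hk2 : k ≠ 1 := fun hk => by
        obtain ⟨x, hx, hxv⟩ := (hD.nondegenerate l _ (hp l v) hl).1
        obtain ⟨c, hc'⟩ := (finrank_eq_one_iff_of_nonzero' (⟨p l v, hp l v⟩ : D l)
          (fun e => hl (congrArg Subtype.val e))).1 (hk ▸ hD.decomp.finrank_eq l) ⟨x, hx⟩
        apply hxv
        have he : c • p l v = x := congrArg Subtype.val hc'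
        rw [← he, f_smul_left, f_self, mul_zero]
      have := hD.decomp.pos
      exact hex ⟨by omega, hcard⟩
    let f : Fin t → V := fun r => if r = i then z else if r = l then y else p r v
    have hf : ∀ r, f r ∈ D r := fun r => by
      simp only [f]
      split_ifs with e1 e2
      · exact e1 ▸ hzD
      · exact e2 ▸ hy
      · exact hp r v
    set b := ∑ r, f r
    have hb := hmk f hf
    have hbi : p i b = z := by rw [hb]; simp [f]
    have hbl : p l b = y := by rw [hb]; simp [f, hli]
    have hbo : ∀ r, r ≠ i → r ≠ l → p r b = p r v := fun r h1 h2 => by rw [hb]; simp [f, h1, h2]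
    have hbs : supp v = supp b := by
      ext r
      rw [hsupp, hsupp]
      by_cases e1 : r = i
      · subst e1
        rw [hbi]
        exact iff_of_true hi fun e => one_ne_zero (α := F) (by rw [← hz, e, f_zero_left])
      by_cases e2 : r = l
      · subst e2; rw [hbl]; exact iff_of_true hl hy0
      rw [hbo r e1 e2]
    have hω : ω b v = 1 := by
      rw [homega, Finset.sum_eq_single i, hbi, hz]
      · intro r _ hr
        by_cases e2 : r = l
        · subst e2; rw [hbl, hyω]
        · rw [hbo r hr e2, f_self]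
      · simp
    refine ⟨b + (-1 : F) • v, hcomb v b hv (hsame v b hbs hv) (hω ▸ one_ne_zero) _, ?_, ?_, ?_⟩
    · rw [padd, psmul, hbi, neg_one_smul, ← sub_eq_add_neg, sub_ne_zero]
      intro e
      rw [e, f_self] at hz
      exact zero_ne_one hz
    · rw [padd, psmul, hbl, neg_one_smul, ← sub_eq_add_neg, sub_ne_zero]; exact hyl
    · intro r h1 h2
      rw [padd, psmul, hbo r h1 h2, neg_one_smul, add_neg_cancel]
  -- all pairs
  have hswap : ∀ a b, a ≠ b → ∀ x ∈ centres K, ∃ x' ∈ centres K,
      ∀ r, p r x ≠ 0 ↔ p (Equiv.swap a b r) x' ≠ 0 := by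
    intro a b hab x hx
    obtain ⟨g, hg⟩ := exists_swap hD hab
    refine ⟨app g x, app_mem_centres (hK ⟨Equiv.swap a b, hg⟩) hx, fun r => ?_⟩
    have e : p (Equiv.swap a b r) (app g x) = app g (p r x) := by
      refine puniq _ _ _ (hg r _ (hp r x)) ?_
      rw [← app_sub]
      intro y hy
      obtain ⟨⟨y', hy'⟩, he⟩ := (LinearMap.injective_iff_surjective_of_finrank_eq_finrank
        (f := (lin g).restrict (hg r))
        ((hD.decomp.finrank_eq _).trans (hD.decomp.finrank_eq _).symm)).1
        (fun u u' h => Subtype.ext (app_injective g (congrArg Subtype.val h))) ⟨y, hy⟩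
      have he' : app g y' = y := congrArg Subtype.val he
      rw [← he', f_app]
      exact hpo r x y' hy'
    rw [e]
    exact ⟨fun h => app_ne_zero g h, fun h h0 => h (by rw [h0]; simp [app])⟩
  have hpair : ∀ a b, a ≠ b → ∃ x ∈ centres K, p a x ≠ 0 ∧ p b x ≠ 0 ∧
      ∀ r, r ≠ a → r ≠ b → p r x = 0 := by
    have step : ∀ a b c, a ≠ b → (∃ x ∈ centres K, p a x ≠ 0 ∧ p b x ≠ 0 ∧
        ∀ r, r ≠ a → r ≠ b → p r x = 0) → c ≠ b → ∃ x ∈ centres K, p c x ≠ 0 ∧ p b x ≠ 0 ∧
        ∀ r, r ≠ c → r ≠ b → p r x = 0 := by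
      intro a b c hab ⟨x, hx, h1, h2, h3⟩ hcb
      by_cases hca : c = a
      · subst hca; exact ⟨x, hx, h1, h2, h3⟩
      obtain ⟨x', hx', h'⟩ := hswap a c (Ne.symm hca) x hx
      refine ⟨x', hx', ?_, ?_, fun r hr hrb => ?_⟩
      · simpa using (h' a).1 h1
      · simpa [Equiv.swap_apply_of_ne_of_ne hab.symm hcb.symm] using (h' b).1 h2
      · by_contra h
        have h4 := (h' (Equiv.swap a c r)).2 (by simpa using h)
        rcases eq_or_ne r a with rfl | hra
        · exact h4 (h3 c hca hcb |> fun e => by simpa using e)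
        · exact h4 (by rw [Equiv.swap_apply_of_ne_of_ne hra hr]; exact h3 r hra hrb)
    intro a b hab
    have h0 : ∃ x ∈ centres K, p i x ≠ 0 ∧ p l x ≠ 0 ∧ ∀ r, r ≠ i → r ≠ l → p r x = 0 :=
      ⟨w, hw, hwi, hwl, hwo⟩
    have symm : ∀ a b, (∃ x ∈ centres K, p a x ≠ 0 ∧ p b x ≠ 0 ∧ ∀ r, r ≠ a → r ≠ b → p r x = 0) →
        ∃ x ∈ centres K, p b x ≠ 0 ∧ p a x ≠ 0 ∧ ∀ r, r ≠ b → r ≠ a → p r x = 0 :=
      fun a b ⟨x, hx, h1, h2, h3⟩ => ⟨x, hx, h2, h1, fun r e1 e2 => h3 r e2 e1⟩
    by_cases hal : a = l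
    · subst hal
      exact symm b a (step i a b (Ne.symm hli) h0 (Ne.symm hab))
    · exact symm b a (step l a b (Ne.symm hal) (symm a l (step i l a (Ne.symm hli) h0 hal))
        (Ne.symm hab))
  -- every support
  refine eq_top_of_centres ?_
  suffices key : ∀ (n : ℕ) (u : V), (supp u).card ≤ n → u ∈ centres K from fun u => key _ u le_rfl
  intro n
  induction n with
  | zero =>
    intro u hu
    rw [ext_p u 0 fun r => ?_]
    · exact hblock i 0 (D i).zero_mem
    rw [p0]
    by_contra h
    exact absurd (Finset.card_pos.2 ⟨r, (hsupp u r).2 h⟩) (by omega)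
  | succ n ih =>
    intro u hu
    by_cases hle : (supp u).card ≤ n
    · exact ih u hle
    rcases (supp u).eq_empty_or_nonempty with he | ⟨b, hb⟩
    · exact absurd (by rw [he]; simp) hle
    set u' := u - p b u
    have hu'b : p b u' = 0 := by rw [psub, pself b _ (hp b u), sub_self]
    have hu'r : ∀ r, r ≠ b → p r u' = p r u := fun r hr => by
      rw [psub, pother r b hr _ (hp b u), sub_zero]
    have hu' : u' ∈ centres K := by
      refine ih u' ?_
      have : supp u' ⊆ (supp u).erase b := fun r hr => by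
        rw [hsupp] at hr
        have hrb : r ≠ b := fun e => hr (e ▸ hu'b)
        exact Finset.mem_erase.2 ⟨hrb, (hsupp u r).2 (hu'r r hrb ▸ hr)⟩
      have := Finset.card_le_card this
      rw [Finset.card_erase_of_mem hb] at this
      omega
    by_cases hone : ∀ r, r ≠ b → p r u = 0
    · have : u = p b u := ext_p _ _ fun r => by
        by_cases e : r = b
        · subst e; rw [pself r _ (hp r u)]
        · rw [hone r e, pother r b e _ (hp b u)]
      rw [this]; exact hblock b _ (hp b u)
    push Not at hone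
    obtain ⟨a, hab, ha⟩ := hone
    obtain ⟨x, hx, hxa, hxb, hxo⟩ := hpair a b hab
    obtain ⟨z, hz, hzω⟩ := (hD.nondegenerate a _ (hp a u) ha).1
    have hz0 : z ≠ 0 := fun e => hzω (by rw [e, f_zero_left])
    let f : Fin t → V := fun r => if r = a then z else p r x
    have hf : ∀ r, f r ∈ D r := fun r => by
      simp only [f]
      split_ifs with e1
      · exact e1 ▸ hz
      · exact hp r x
    set w' := ∑ r, f r
    have hw' := hmk f hf
    have hw'a : p a w' = z := by rw [hw']; simp [f]
    have hw'o : ∀ r, r ≠ a → p r w' = p r x := fun r hr => by rw [hw']; simp [f, hr]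
    have hw'C : w' ∈ centres K := hsame x w' (by
      ext r
      rw [hsupp, hsupp]
      by_cases e : r = a
      · subst e; rw [hw'a]; exact iff_of_true hxa hz0
      · rw [hw'o r e]) hx
    have hω : ω w' u' ≠ 0 := by
      rw [homega, Finset.sum_eq_single a, hw'a, hu'r a hab]
      · exact hzω
      · intro r _ hr
        by_cases e : r = b
        · subst e; rw [hu'b, f_zero_right]
        · rw [hw'o r hr, hxo r hr e, f_zero_left]
      · simp
    refine hsame (w' + (1 : F) • u') u ?_ (hcomb u' w' hu' hw'C hω 1)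
    ext r
    rw [hsupp, hsupp, padd, psmul, one_smul]
    by_cases e : r = b
    · subst e
      rw [hu'b, add_zero, hw'o r (Ne.symm hab)]
      exact iff_of_true hxb ((hsupp u r).1 hb)
    rw [hu'r r e]
    by_cases e' : r = a
    · subst e'
      rw [hw'a]
      refine iff_of_true (fun h => hzω ?_) ha
      rw [eq_neg_of_add_eq_zero_left h, ← neg_one_smul F, f_smul_left, f_self, mul_zero]
    · rw [hw'o r e', hxo r e' e, zero_add]

theorem exists_notMem_dstab {D : Fin t → Submodule F (Fin m ⊕ Fin m → F)}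
    (hD : Cfsg.Geo.IsNondegenerateMDecomposition (sympForm m F) k D) : ∃ g : G, g ∉ dstab D := by
  set i : Fin t := ⟨0, hD.decomp.two_le.trans_lt' two_pos⟩
  set j : Fin t := ⟨1, hD.decomp.two_le⟩
  have hij : i ≠ j := by simp [i, j]
  have hne : ∀ a, ∃ x ∈ D a, x ≠ 0 := fun a => Submodule.exists_mem_ne_zero_of_ne_bot fun e => by
    have := hD.decomp.finrank_eq a
    rw [e, finrank_bot] at this
    exact absurd this hD.decomp.pos.ne
  obtain ⟨a, ha, ha0⟩ := hne i
  obtain ⟨b, hb, hb0⟩ := hne j
  obtain ⟨x, hx, hxa⟩ := (hD.nondegenerate i a ha ha0).1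
  refine ⟨T (a + b) 1, fun ⟨σ, hσ⟩ => ?_⟩
  have hh : ω x (a + b) = ω x a := by rw [f_add_right, hD.orthogonal i j hij x hx b hb, add_zero]
  have h1 := hσ i x hx
  rw [app_T, hh, one_mul] at h1
  obtain ⟨y, hy, hby⟩ := (hD.nondegenerate j b hb hb0).1
  by_cases hs : σ i = i
  · rw [hs] at h1
    have h2 := (D i).smul_mem (ω x a)⁻¹ (((D i).add_mem_iff_right hx).1 h1)
    rw [smul_smul, inv_mul_cancel₀ hxa, one_smul] at h2
    exact hb0 (disjoint_of hD hij (((D i).add_mem_iff_right ha).1 h2) hb)
  · obtain ⟨z, hz, hza⟩ := (hD.nondegenerate i a ha ha0).1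
    have h3 := hD.orthogonal i (σ i) (Ne.symm hs) a ha _ h1
    rw [f_add_right, f_smul_right, f_add_right, f_self, hD.orthogonal i j hij a ha b hb, add_zero,
      mul_zero, add_zero, f_swap, neg_eq_zero] at h3
    exact hxa h3

theorem map_eq_iff {D : Fin t → Submodule F (Fin m ⊕ Fin m → F)}
    (hD : Cfsg.Geo.IsNondegenerateMDecomposition (sympForm m F) k D) (g : G) :
    (toSpGL g : GL (Fin m ⊕ Fin m) F) ∈ Cfsg.Geo.decompositionStabilizer D ↔ g ∈ dstab D := by
  constructor
  · rintro ⟨σ, hσ⟩
    exact ⟨σ, fun i x hx => by rw [← hσ i]; exact ⟨x, hx, rfl⟩⟩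
  · rintro ⟨σ, hσ⟩
    refine ⟨σ, fun i => Submodule.eq_of_le_of_finrank_le ?_ (le_of_eq ?_)⟩
    · rintro _ ⟨x, hx, rfl⟩
      exact hσ i x hx
    · rw [hD.decomp.finrank_eq, ← hD.decomp.finrank_eq i]
      exact LinearEquiv.finrank_eq (Submodule.equivMapOfInjective _ (app_injective g) (D i))

theorem isMaximalIn [Finite F] {D : Fin t → Submodule F (Fin m ⊕ Fin m → F)}
    (hD : Cfsg.Geo.IsNondegenerateMDecomposition (sympForm m F) k D)
    (hex : ¬ (k = 2 ∧ Nat.card F = 2)) :
    Cfsg.Geo.IsMaximalIn (spGL m F) (Cfsg.Geo.decompositionStabilizer D ⊓ spGL m F) := by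
  refine ⟨lt_of_le_not_ge inf_le_right fun hle => ?_, fun M hM hM' => ?_⟩
  · obtain ⟨g, hg⟩ := exists_notMem_dstab hD
    exact hg ((map_eq_iff hD g).1 (hle (toSpGL g).2).1)
  rcases dstab_le_or_top hD hex (M.comap ((spGL m F).subtype.comp toSpGL)) (fun g hg =>
      hM ⟨(map_eq_iff hD g).2 hg, (toSpGL g).2⟩) with h | h
  · refine Or.inr (le_antisymm hM' fun g hg => ?_)
    obtain ⟨s, hs⟩ := toSpGL_surjective (⟨g, hg⟩ : spGL m F)
    have : s ∈ M.comap ((spGL m F).subtype.comp toSpGL) := h ▸ Subgroup.mem_top s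
    simpa [hs] using this
  · refine Or.inl (le_antisymm (fun g hg => ?_) hM)
    obtain ⟨s, hs⟩ := toSpGL_surjective (⟨g, hM' hg⟩ : spGL m F)
    have hs' : (toSpGL s : GL (Fin m ⊕ Fin m) F) = g := congrArg Subtype.val hs
    subst hs'
    exact ⟨(map_eq_iff hD s).2 (h hg), (toSpGL s).2⟩

end CfsgLib.Classical.SympDecomp
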