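import Cfsg.Agent.Lib.Classical.SympStab

set_option autoImplicit false

/-!
In characteristic two the isometry group of a quadratic form polarising to the alternating form is
a maximal subgroup of the symplectic group.
-/

namespace CfsgLib.Classical.SympQuad

open Matrix Cfsg SympTrans

variable {F : Type*} [Field F] [Finite F] {m : ℕ}

local notation "V" => (Fin m ⊕ Fin m → F)
local notation "G" => Matrix.symplecticGroup (Fin m) F
local notation "ω" => sympForm m F

/-- The hypotheses on `Q`. -/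
structure Data (Q : V → F) : Prop where
  two : (2 : F) = 0
  smul : ∀ (c : F) (v : V), Q (c • v) = c ^ 2 * Q v
  add : ∀ u v : V, Q (u + v) = Q u + Q v + sympForm m F u v
  two_le : 2 ≤ m
  big : 3 ≤ m ∨ 4 ≤ Nat.card F

/-- The isometries of `Q`. -/
def iso (Q : V → F) : Set G := {g | ∀ x, Q (app g x) = Q x}

variable {Q : (Fin m ⊕ Fin m → F) → F}

theorem exists_sq (D : Data Q) (x : F) : ∃ s : F, s ^ 2 = x := by
  have hinj : Function.Injective fun s : F => s ^ 2 := fun a b h => by
    have : (a - b) ^ 2 = 0 := by linear_combination (h : a ^ 2 = b ^ 2) + (b ^ 2 - a * b) * D.two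
    exact sub_eq_zero.1 (pow_eq_zero_iff two_ne_zero |>.1 this)
  exact Finite.surjective_of_injective hinj x

theorem exists_nonsing (D : Data Q) (h6 : 4 ≤ m) (u v w : V) :
    ∃ r, ω u r = 0 ∧ ω v r = 0 ∧ ω w r = 0 ∧ Q r ≠ 0 := by
  let L : V →ₗ[F] (Fin 3 → F) :=
    { toFun := fun x => ![ω u x, ω v x, ω w x]
      map_add' := fun x y => by ext i; fin_cases i <;> simp [f_add_right]
      map_smul' := fun c x => by ext i; fin_cases i <;> simp [f_smul_right] }
  set P := LinearMap.ker L
  by_contra hc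
  push Not at hc
  have h0 : ∀ r ∈ P, Q r = 0 := fun r hr => by
    have h := LinearMap.mem_ker.1 hr
    exact hc r (congrFun h 0) (congrFun h 1) (congrFun h 2)
  let B : LinearMap.BilinForm F V :=
    LinearMap.mk₂ F (ω) f_add_left f_smul_left f_add_right f_smul_right
  have hr : LinearMap.IsRefl B := fun a b h => by
    show ω b a = 0
    rw [f_swap, show ω a b = 0 from h, neg_zero]
  have hB : B.Nondegenerate :=
    (hr.nondegenerate_iff_separatingLeft).2 fun a ha => eq_zero_of_f a ha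
  have hle : P ≤ B.orthogonal P := fun x hx y hy => by
    show ω y x = 0
    have := D.add y x
    rw [h0 y hy, h0 x hx, h0 _ (P.add_mem hy hx), add_zero, zero_add] at this
    exact this.symm
  have h1 := Submodule.finrank_mono hle
  have h2 := Submodule.finrank_le P
  rw [LinearMap.BilinForm.finrank_orthogonal hB P] at h1
  have h3 := L.finrank_range_add_finrank_ker
  have h4 : Module.finrank F (LinearMap.range L) ≤ 3 :=
    (Submodule.finrank_le _).trans_eq (Module.finrank_fin_fun F)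
  have h5 : Module.finrank F V = m + m := by
    rw [Module.finrank_pi, Fintype.card_sum, Fintype.card_fin]
  have h7 : Module.finrank F P = Module.finrank F (LinearMap.ker L) := rfl
  omega

/-- Adjust the value of `Q`, keeping two products. -/
theorem exists_adjust (D : Data Q) (h4 : 4 ≤ m) (u w z₀ : V) (μ : F) :
    ∃ z, ω u z = ω u z₀ ∧ ω w z = ω w z₀ ∧ Q z = μ := by
  obtain ⟨r, hu, hw, hz, hr⟩ := exists_nonsing D h4 u w z₀
  obtain ⟨s, hs⟩ := exists_sq D ((μ - Q z₀) / Q r)
  refine ⟨z₀ + s • r, ?_, ?_, ?_⟩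
  · rw [f_add_right, f_smul_right, hu, mul_zero, add_zero]
  · rw [f_add_right, f_smul_right, hw, mul_zero, add_zero]
  · rw [D.add, D.smul, f_smul_right, hz, mul_zero, add_zero, hs, div_mul_cancel₀ _ hr]
    ring

/-- Adjust the value of `Q`, keeping one non-zero product. -/
theorem exists_adjust_one (D : Data Q) {a z₀ : V} (h : ω a z₀ ≠ 0) (μ : F) :
    ∃ z, ω a z = ω a z₀ ∧ Q z = μ := by
  obtain ⟨r, hr1, hr2, hr3⟩ : ∃ r, ω a r = 0 ∧ ω z₀ r = 0 ∧ Q r ≠ 0 := by
    let L : V →ₗ[F] (Fin 2 → F) :=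
      { toFun := fun x => ![ω a x, ω z₀ x]
        map_add' := fun x y => by ext i; fin_cases i <;> simp [f_add_right]
        map_smul' := fun c x => by ext i; fin_cases i <;> simp [f_smul_right] }
    have hker : LinearMap.ker L ≠ ⊥ := fun e => by
      have h1 := LinearMap.finrank_le_finrank_of_injective (LinearMap.ker_eq_bot.1 e)
      rw [Module.finrank_fin_fun, Module.finrank_pi, Fintype.card_sum, Fintype.card_fin] at h1
      have := D.two_le
      omega
    obtain ⟨x, hx, hx0⟩ := Submodule.exists_mem_ne_zero_of_ne_bot hker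
    have mem : ∀ y, y ∈ LinearMap.ker L → ω a y = 0 ∧ ω z₀ y = 0 := fun y hy =>
      ⟨congrFun (LinearMap.mem_ker.1 hy) 0, congrFun (LinearMap.mem_ker.1 hy) 1⟩
    by_contra hc
    push Not at hc
    refine hx0 (eq_zero_of_f x fun v => ?_)
    obtain ⟨y, hyd⟩ : ∃ y, y = v + (ω z₀ v / ω a z₀) • a + (-(ω a v / ω a z₀)) • z₀ := ⟨_, rfl⟩
    have h1 : ω a y = 0 := by
      rw [hyd, f_add_right, f_add_right, f_smul_right, f_smul_right, f_self]
      field_simp; ring
    have h2 : ω z₀ y = 0 := by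
      rw [hyd, f_add_right, f_add_right, f_smul_right, f_smul_right, f_self, f_swap a z₀]
      field_simp; ring
    have hQ : ∀ z, ω a z = 0 → ω z₀ z = 0 → Q z = 0 := fun z => hc z
    have h3 : ω x y = 0 := by
      have := D.add x y
      rw [hQ x (mem x hx).1 (mem x hx).2, hQ y h1 h2, hQ (x + y)
        (by rw [f_add_right, (mem x hx).1, h1, add_zero])
        (by rw [f_add_right, (mem x hx).2, h2, add_zero])] at this
      linear_combination -this
    rw [hyd, f_add_right, f_add_right, f_smul_right, f_smul_right, f_swap a x, f_swap z₀ x,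
      (mem x hx).1, (mem x hx).2] at h3
    linear_combination h3
  obtain ⟨s, hs⟩ := exists_sq D ((μ - Q z₀) / Q r)
  refine ⟨z₀ + s • r, ?_, ?_⟩
  · rw [f_add_right, f_smul_right, hr1, mul_zero, add_zero]
  · rw [D.add, D.smul, f_smul_right, hr2, mul_zero, add_zero, hs, div_mul_cancel₀ _ hr3]
    ring

/-- The values `x + x²` and a multiple of them fill the field. -/
theorem exists_fill (D : Data Q) (hq : 4 ≤ Nat.card F) :
    ∃ c : F, c ≠ 0 ∧ ∀ τ : F, ∃ x y : F, τ = (x + x ^ 2) + c * (y + y ^ 2) := by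
  let φ : F →+ F :=
    { toFun := fun x => x + x ^ 2
      map_zero' := by ring
      map_add' := fun x y => by linear_combination (x * y) * D.two }
  set H := φ.range with hH
  have hk : Nat.card φ.ker ≤ 2 := by
    have := Nat.card_le_card_of_surjective (β := φ.ker)
      (fun b : Fin 2 => if b = 0 then ⟨0, zero_mem _⟩ else
        ⟨1, show (1 : F) + 1 ^ 2 = 0 by linear_combination D.two⟩) fun x => by
      have hx : (x : F) + (x : F) ^ 2 = 0 := x.2
      have hx' : (x : F) * ((x : F) + 1) = 0 := by linear_combination hx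
      rcases mul_eq_zero.1 hx' with h | h
      · exact ⟨0, Subtype.ext (by simp [h])⟩
      · exact ⟨1, Subtype.ext (by simp; linear_combination -h + D.two)⟩
    simpa using this
  have hcard : Nat.card H * Nat.card φ.ker = Nat.card F := by
    rw [hH, ← AddSubgroup.index_ker, AddSubgroup.index_mul_card]
  have hHtop : H ≠ ⊤ := fun e => by
    have hinj : Function.Injective φ :=
      Finite.injective_iff_surjective.2 (AddMonoidHom.range_eq_top.1 e)
    refine one_ne_zero (hinj (show φ (1 : F) = φ 0 by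
      show (1 : F) + 1 ^ 2 = 0 + 0 ^ 2
      linear_combination D.two))
  obtain ⟨c, hc0, h0, hh0, hch⟩ : ∃ c : F, c ≠ 0 ∧ ∃ h ∈ H, c * h ∉ H := by
    by_contra hcon
    push Not at hcon
    obtain ⟨h0, hh0, hne⟩ : ∃ h ∈ H, h ≠ (0 : F) := by
      by_contra hc
      push Not at hc
      have : H = ⊥ := (AddSubgroup.eq_bot_iff_forall H).2 hc
      rw [this, AddSubgroup.card_bot] at hcard
      omega
    refine hHtop (eq_top_iff.2 fun t _ => ?_)
    by_cases ht : t = 0
    · exact ht ▸ H.zero_mem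
    by_contra htH
    have h1 := hcon (t / h0) (div_ne_zero ht hne) h0 hh0
    rw [div_mul_cancel₀ _ hne] at h1
    exact htH h1
  refine ⟨c, hc0, fun τ => ?_⟩
  set H' := H ⊔ H.map (AddMonoidHom.mulLeft c) with hH'
  have hlt : Nat.card H < Nat.card H' := by
    by_contra hle
    have e : H = H' := AddSubgroup.eq_of_le_of_card_ge le_sup_left (by omega)
    exact hch (e ▸ AddSubgroup.mem_sup_right ⟨h0, hh0, rfl⟩)
  have htop : H' = ⊤ := by
    refine AddSubgroup.eq_top_of_card_eq _ ?_
    obtain ⟨k, hk'⟩ := AddSubgroup.card_addSubgroup_dvd_card H'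
    have hpos : 0 < Nat.card H' := Nat.card_pos
    have h4 : Nat.card F ≤ 2 * Nat.card H := by
      calc Nat.card F = Nat.card H * Nat.card φ.ker := hcard.symm
        _ ≤ Nat.card H * 2 := Nat.mul_le_mul_left _ hk
        _ = 2 * Nat.card H := Nat.mul_comm _ _
    have hFpos : 0 < Nat.card F := Nat.card_pos
    rcases k with _ | _ | k
    · omega
    · omega
    · have : Nat.card H' * 2 ≤ Nat.card H' * (k + 1 + 1) := Nat.mul_le_mul_left _ (by omega)
      omega
  obtain ⟨a, ⟨x, hx⟩, b, ⟨d, ⟨y, hy⟩, hd⟩, hab⟩ :=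
    AddSubgroup.mem_sup.1 (htop ▸ AddSubgroup.mem_top τ : τ ∈ H')
  exact ⟨x, y, by rw [← hab, ← hx, ← hd, ← hy]; rfl⟩

/-- The field of two elements. -/
theorem meet_two_small (D : Data Q) (hm : 3 ≤ m) (hq : ¬ 4 ≤ Nat.card F) {u w : V}
    (huw : ω u w = 0) (z₀ : V) (h1 : ω u z₀ ≠ 0) (h2 : ω w z₀ ≠ 0) :
    ∃ z, ω u z ≠ 0 ∧ ω w z ≠ 0 ∧ Q z = Q u := by
  classical
  haveI := Fintype.ofFinite F
  have h01 : ∀ x : F, x = 0 ∨ x = 1 := fun x => by
    by_contra hx
    push Not at hx
    have h3 : ({0, 1, x} : Finset F).card = 3 := by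
      rw [Finset.card_insert_of_notMem (by simp [hx.1.symm]), Finset.card_pair hx.2.symm]
    have hle := Finset.card_le_univ ({0, 1, x} : Finset F)
    have he := FiniteField.even_card_of_char_two (F := F) (by
      haveI : CharP F 2 := CharTwo.of_one_ne_zero_of_two_eq_zero one_ne_zero D.two
      exact ringChar.eq F 2)
    rw [Nat.card_eq_fintype_card] at hq
    omega
  by_contra hc
  push Not at hc
  let L : V →ₗ[F] (Fin 2 → F) :=
    { toFun := fun x => ![ω u x, ω w x]
      map_add' := fun x y => by ext i; fin_cases i <;> simp [f_add_right]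
      map_smul' := fun c x => by ext i; fin_cases i <;> simp [f_smul_right] }
  set P := LinearMap.ker L
  have hP : ∀ r ∈ P, Q r + ω z₀ r = 0 := fun r hr => by
    have h := LinearMap.mem_ker.1 hr
    have e : Q (z₀ + r) ≠ Q u := hc _
      (by rw [f_add_right, show ω u r = 0 from congrFun h 0, add_zero]; exact h1)
      (by rw [f_add_right, show ω w r = 0 from congrFun h 1, add_zero]; exact h2)
    rw [D.add] at e
    have e0 : Q z₀ ≠ Q u := hc _ h1 h2
    rcases h01 (Q r + ω z₀ r) with hr' | hr'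
    · exact hr'
    exfalso
    rcases h01 (Q z₀) with a | a <;> rcases h01 (Q u) with b | b
    · exact e0 (a.trans b.symm)
    · exact e (by linear_combination hr' + a - b)
    · exact e (by linear_combination hr' + a - b + D.two)
    · exact e0 (a.trans b.symm)
  let B : LinearMap.BilinForm F V :=
    LinearMap.mk₂ F (ω) f_add_left f_smul_left f_add_right f_smul_right
  have hr : LinearMap.IsRefl B := fun a b h => by
    show ω b a = 0
    rw [f_swap, show ω a b = 0 from h, neg_zero]
  have hB : B.Nondegenerate :=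
    (hr.nondegenerate_iff_separatingLeft).2 fun a ha => eq_zero_of_f a ha
  have hle : P ≤ B.orthogonal P := fun x hx y hy => by
    show ω y x = 0
    have e := hP _ (P.add_mem hy hx)
    rw [D.add, f_add_right] at e
    linear_combination e - hP y hy - hP x hx
  have h3 := Submodule.finrank_mono hle
  rw [LinearMap.BilinForm.finrank_orthogonal hB P] at h3
  have h4 := L.finrank_range_add_finrank_ker
  have h5 : Module.finrank F (LinearMap.range L) ≤ 2 :=
    (Submodule.finrank_le _).trans_eq (Module.finrank_fin_fun F)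
  have h6 : Module.finrank F V = m + m := by
    rw [Module.finrank_pi, Fintype.card_sum, Fintype.card_fin]
  have h7 : Module.finrank F P = Module.finrank F (LinearMap.ker L) := rfl
  omega

/-- A vector of given value meeting two vectors of that value. -/
theorem exists_meet_two (D : Data Q) {u w : V} (hu : u ≠ 0) (hw : w ≠ 0) (h : Q u = Q w)
    (huw : ω u w = 0) : ∃ z, ω u z ≠ 0 ∧ ω w z ≠ 0 ∧ Q z = Q u := by
  obtain ⟨z₀, -, h1, h2⟩ := exists_ne_pair (⊤ : Submodule F V) (f_add_right u) (f_add_right w)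
    (by_contra fun hc => hu (eq_zero_of_f u fun z => by
      by_contra hz; exact hc ⟨z, trivial, hz⟩))
    (by_contra fun hc => hw (eq_zero_of_f w fun z => by
      by_contra hz; exact hc ⟨z, trivial, hz⟩))
  by_cases hm : 4 ≤ m
  · obtain ⟨z, e1, e2, e3⟩ := exists_adjust D hm u w z₀ (Q u)
    exact ⟨z, e1 ▸ h1, e2 ▸ h2, e3⟩
  by_cases hq : ¬ 4 ≤ Nat.card F
  · exact meet_two_small D (D.big.resolve_right hq) hq huw z₀ h1 h2
  rw [not_not] at hq
  by_cases hdep : ∀ z, ω w z = 0 → ω u z = 0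
  · obtain ⟨z, e1, e3⟩ := exists_adjust_one D h1 (Q u)
    refine ⟨z, e1 ▸ h1, fun e => h1 (e1 ▸ hdep z e), e3⟩
  push Not at hdep
  obtain ⟨z₁, hz1, hz1'⟩ := hdep
  obtain ⟨c, hc, hfill⟩ := exists_fill D hq
  obtain ⟨t, ht⟩ := exists_sq D c
  have ht0 : t ≠ 0 := fun e => hc (by rw [← ht, e]; simp)
  obtain ⟨z', hz'⟩ : ∃ z', z' = (t / ω w z₀) • z₀ := ⟨_, rfl⟩
  obtain ⟨y₀, hy₀⟩ : ∃ y₀, y₀ = z' + ((1 - ω u z') / ω u z₁) • z₁ := ⟨_, rfl⟩
  have a1 : ω u y₀ = 1 := by
    rw [hy₀, f_add_right, f_smul_right, div_mul_cancel₀ _ hz1', add_sub_cancel]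
  have a2 : ω w y₀ = t := by
    rw [hy₀, f_add_right, f_smul_right, hz1, mul_zero, add_zero, hz', f_smul_right,
      div_mul_cancel₀ _ h2]
  have b1 : ω y₀ u = 1 := by rw [f_swap, a1]; linear_combination -D.two
  have b2 : ω y₀ w = t := by rw [f_swap, a2]; linear_combination -t * D.two
  have hwu : ω w u = 0 := by rw [f_swap, huw, neg_zero]
  by_cases hμ : Q u = 0
  · refine ⟨y₀ + Q y₀ • u, ?_, ?_, ?_⟩
    · rw [f_add_right, f_smul_right, f_self, a1, mul_zero, add_zero]; exact one_ne_zero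
    · rw [f_add_right, f_smul_right, hwu, a2, mul_zero, add_zero]; exact ht0
    · rw [D.add, D.smul, f_smul_right, b1, hμ]; linear_combination Q y₀ * D.two
  · obtain ⟨x, y, hxy⟩ := hfill (Q u * (Q y₀ + Q u))
    refine ⟨y₀ + ((x / Q u) • u + (t * y / Q u) • w), ?_, ?_, ?_⟩
    · rw [f_add_right, f_add_right, f_smul_right, f_smul_right, f_self, huw, a1]
      simp
    · rw [f_add_right, f_add_right, f_smul_right, f_smul_right, f_self, hwu, a2]
      simpa using ht0
    · simp only [D.add, D.smul, f_add_right, f_smul_right, f_smul_left, b1, b2, huw, ← h, mul_zero,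
        mul_one, add_zero]
      rw [← ht] at hxy
      field_simp
      linear_combination (-1 : F) * hxy + Q u * Q y₀ * D.two

theorem T_mem_iso (D : Data Q) {v : V} {c : F} (h : c + c ^ 2 * Q v = 0) : T v c ∈ iso Q := fun x => by
  rw [app_T, D.add, D.smul, f_smul_right]
  linear_combination (ω x v) ^ 2 * h

theorem exists_move_iso (D : Data Q) {u w : V} (hu : u ≠ 0) (hw : w ≠ 0) (h : Q u = Q w) :
    ∃ g h' : G, g ∈ iso Q ∧ h' ∈ iso Q ∧ app h' (app g u) = w := by
  have step : ∀ a b : V, Q a = Q b → ω a b ≠ 0 → ∃ g : G, g ∈ iso Q ∧ app g a = b := by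
    intro a b hab hh
    refine ⟨T (b - a) (ω a b)⁻¹, T_mem_iso D ?_, T_diff hh⟩
    have hs : b - a = b + a := by
      rw [sub_eq_add_neg, show -a = a from ?_]
      funext i
      show -a i = a i
      linear_combination -(a i) * D.two
    rw [hs, D.add, hab, f_swap a b]
    field_simp
    linear_combination Q b * D.two
  by_cases huw : ω u w = 0
  swap
  · obtain ⟨g, hg, hgu⟩ := step u w h huw
    exact ⟨g, 1, hg, fun x => by rw [app_one], by rw [app_one]; exact hgu⟩
  obtain ⟨z, h1, h2, hz⟩ := exists_meet_two D hu hw h huw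
  obtain ⟨g, hg, hgu⟩ := step u z hz.symm h1
  obtain ⟨g', hg', hgz⟩ := step z w (hz.trans h) (by rw [f_swap]; exact neg_ne_zero.2 h2)
  exact ⟨g, g', hg, hg', by rw [hgu, hgz]⟩

theorem iso_le_or_top (D : Data Q) (K : Subgroup G) (hK : (iso Q : Set G) ⊆ K) :
    K = ⊤ ∨ (K : Set G) ⊆ iso Q := by
  by_cases hR : (K : Set G) ⊆ iso Q
  · exact Or.inr hR
  left
  -- the vectors `a` with `τ = a` realised by a transvection in `K`
  let A : V → Prop := fun a => a ≠ 0 ∧ ∀ c : F, c + c ^ 2 * Q a = 1 → T a c ∈ K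
  have mkA : ∀ (a : V) (c : F), a ≠ 0 → c + c ^ 2 * Q a = 1 → T a c ∈ K → A a := by
    intro a c ha hc hT
    refine ⟨ha, fun c' hc' => ?_⟩
    by_cases he : c' = c
    · rwa [he]
    have h1 : (c' - c) * (1 + (c' + c) * Q a) = 0 := by linear_combination hc' - hc
    have h2 := (mul_eq_zero.1 h1).resolve_left (sub_ne_zero.2 he)
    have h3 : (c' - c) + (c' - c) ^ 2 * Q a = 0 := by
      linear_combination (c' - c) * h2 - (c' - c) * c * Q a * D.two
    rw [← sub_add_cancel c' c, ← T_mul]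
    exact K.mul_mem (hK (T_mem_iso D h3)) hT
  have scaleA : ∀ (v : V) (c : F), v ≠ 0 → T v c ∈ K → ∀ l : F, l ≠ 0 → l ^ 2 = c + c ^ 2 * Q v →
      A (l • v) := by
    intro v c hv hT l hl hl2
    refine mkA _ (c / (l * l)) (smul_ne_zero hl hv) ?_ ?_
    · rw [D.smul]; field_simp; linear_combination -hl2
    · rw [T_smul, mul_div_cancel₀ _ (mul_ne_zero hl hl)]; exact hT
  have moveA : ∀ a b : V, A a → b ≠ 0 → Q a = Q b → A b := by
    intro a b ha hb hab
    obtain ⟨g, h', hg, hh', hgb⟩ := exists_move_iso D ha.1 hb hab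
    refine ⟨hb, fun c hc => ?_⟩
    rw [← hgb, ← conj_T, ← conj_T]
    have h1 := ha.2 c (by rw [hab]; exact hc)
    exact K.mul_mem (K.mul_mem (hK hh') (K.mul_mem (K.mul_mem (hK hg) h1) (K.inv_mem (hK hg))))
      (K.inv_mem (hK hh'))
  have stepA : ∀ (a : V) (c t : F), A a → c + c ^ 2 * Q a = 1 → t ≠ 0 → 1 + c * t ≠ 0 →
      ∃ a'', A a'' ∧ Q a'' = (1 + c * t) ^ 2 * (Q a + t ^ 2) := by
    intro a c t ha hc ht hl
    obtain ⟨z₀, -, hz₀⟩ : ∃ z ∈ (⊤ : Submodule F V), ω a z ≠ 0 := by
      by_contra hc'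
      push Not at hc'
      exact ha.1 (eq_zero_of_f a fun z => hc' z trivial)
    obtain ⟨b, hb1, hb⟩ := exists_adjust_one D (a := a) (z₀ := (t / ω a z₀) • z₀)
      (by rw [f_smul_right, div_mul_cancel₀ _ hz₀]; exact ht) (Q a)
    rw [f_smul_right, div_mul_cancel₀ _ hz₀] at hb1
    have hb0 : b ≠ 0 := fun e => ht (by rw [← hb1, e, f_zero_right])
    have hTb := (moveA a b ha hb0 hb.symm).2 c (by rw [hb]; exact hc)
    have hTa := ha.2 c hc
    set b' := app (T a c) b
    have hT' : T b' c ∈ K := by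
      rw [← conj_T]; exact K.mul_mem (K.mul_mem hTa hTb) (K.inv_mem hTa)
    have hba : ω b a = t := by
      rw [f_swap, hb1]; linear_combination -t * D.two
    have hQ : Q b' = Q a + t ^ 2 := by
      rw [show b' = b + (c * t) • a by rw [← hba]; exact app_T _ _ _, D.add, D.smul, f_smul_right,
        hb, hba]
      linear_combination t ^ 2 * hc
    refine ⟨(1 + c * t) • b', scaleA b' c (app_ne_zero _ hb0) hT' _ hl ?_, by rw [D.smul, hQ]⟩
    rw [hQ]
    linear_combination c * t * D.two - hc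
  -- a vector to start from
  obtain ⟨v, hv, c, hT, hne⟩ : ∃ v : V, v ≠ 0 ∧ ∃ c, T v c ∈ K ∧ c + c ^ 2 * Q v ≠ 0 := by
    obtain ⟨k, hk, hk'⟩ := Set.not_subset.1 hR
    by_contra hc
    push Not at hc
    have key : ∀ g ∈ K, ∀ v, Q v ≠ 0 → Q (app g v) = Q v := by
      intro g hg v hv
      have hTv : T v (Q v)⁻¹ ∈ K := hK (T_mem_iso D (by
        field_simp; linear_combination D.two))
      have hv0 : v ≠ 0 := fun e => hv <| by
        have := D.smul 0 0
        rw [zero_smul, zero_pow two_ne_zero, zero_mul] at this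
        rw [e, this]
      have h := hc (app g v) (app_ne_zero g hv0) (Q v)⁻¹ (by
        rw [← conj_T]; exact K.mul_mem (K.mul_mem hg hTv) (K.inv_mem hg))
      field_simp at h
      linear_combination h - Q v * D.two
    refine hk' fun x => ?_
    by_cases hx : Q x = 0
    · by_contra hne
      have hne' : Q (app k x) ≠ 0 := fun e => hne (by rw [e, hx])
      have h := key k⁻¹ (K.inv_mem hk) _ hne'
      rw [app_inv] at h
      exact hne h.symm
    · exact key k hk x hx
  obtain ⟨l, hl⟩ := exists_sq D (c + c ^ 2 * Q v)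
  have hl0 : l ≠ 0 := fun e => hne (by rw [← hl, e]; simp)
  have ha := scaleA v c hv hT l hl0 hl
  -- a singular one
  obtain ⟨a₀, ha₀, hQa₀⟩ : ∃ a, A a ∧ Q a = 0 := by
    set a := l • v
    by_cases hμ : Q a = 0
    · exact ⟨a, ha, hμ⟩
    set c₁ := c / (l * l)
    have hc₁ : c₁ + c₁ ^ 2 * Q a = 1 := by
      simp only [c₁, a, D.smul]; field_simp; linear_combination -hl
    obtain ⟨t, ht⟩ := exists_sq D (Q a)
    have ht0 : t ≠ 0 := fun e => hμ (by rw [← ht, e]; simp)
    obtain ⟨a'', h1, h2⟩ := stepA a c₁ t ha hc₁ ht0 (fun e => by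
      have : c₁ = 0 := by
        rw [← ht] at hc₁
        linear_combination hc₁ - (c₁ * t - 1) * e
      rw [this, zero_mul, add_zero] at e
      exact one_ne_zero e)
    exact ⟨a'', h1, by rw [h2, ← ht]; linear_combination (1 + c₁ * t) ^ 2 * t ^ 2 * D.two⟩
  -- every possible value
  have allA : ∀ (a : V) (c : F), a ≠ 0 → c + c ^ 2 * Q a = 1 → A a := by
    intro a c ha hc
    by_cases hμ : Q a = 0
    · exact moveA a₀ a ha₀ ha (by rw [hμ, hQa₀])
    obtain ⟨t, ht⟩ := exists_sq D (c * Q a)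
    have hc0 : c ≠ 0 := fun e => by simp [e] at hc
    have ht0 : t ≠ 0 := fun e => mul_ne_zero hc0 hμ (by rw [← ht, e]; simp)
    obtain ⟨a'', h1, h2⟩ := stepA a₀ 1 t ha₀ (by rw [hQa₀]; ring) ht0 (fun e => by
      have h1 : c * Q a = 1 := by
        rw [← ht]; linear_combination (t - 1) * e
      exact one_ne_zero (α := F) (by linear_combination -hc + c * h1 + c * D.two))
    refine moveA a'' a h1 ha ?_
    rw [h2, hQa₀, zero_add]
    linear_combination Q a * hc + (1 + c * Q a + t ^ 2) * ht + (t ^ 3) * D.two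
  rw [eq_top_iff, ← gen_univ, gen, Subgroup.closure_le]
  rintro _ ⟨w, -, d, rfl⟩
  by_cases hd : d + d ^ 2 * Q w = 0
  · exact hK (T_mem_iso D hd)
  by_cases hw : w = 0
  · rw [hw, T_zero']; exact K.one_mem
  obtain ⟨r, hr⟩ := exists_sq D (d + d ^ 2 * Q w)
  have hr0 : r ≠ 0 := fun e => hd (by rw [← hr, e]; simp)
  have hroot : d / (r * r) + (d / (r * r)) ^ 2 * Q (r • w) = 1 := by
    rw [D.smul]; field_simp; linear_combination -hr
  have h := (allA _ _ (smul_ne_zero hr0 hw) hroot).2 _ hroot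
  rwa [T_smul, mul_div_cancel₀ _ (mul_ne_zero hr0 hr0)] at h

theorem exists_notMem_iso (D : Data Q) : ∃ g : G, g ∉ iso Q := by
  obtain ⟨i⟩ : Nonempty (Fin m) := ⟨⟨0, by have := D.two_le; omega⟩⟩
  set u : V := Pi.single (.inl i) 1
  set v : V := Pi.single (.inr i) 1
  obtain ⟨a, ha, hQ⟩ := exists_adjust_one D (a := v) (z₀ := u) (by rw [f_inl]; simp [v]) 0
  have hne : ω v a ≠ 0 := by
    rw [ha, f_inl]; simp [v]
  refine ⟨T a 1, fun h => ?_⟩
  have h1 := h v
  rw [app_T, D.add, D.smul, f_smul_right, hQ] at h1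
  have : (ω v a) ^ 2 = 0 := by linear_combination h1
  exact hne ((pow_eq_zero_iff two_ne_zero).1 this)

theorem mem_quadSimilarityGroup (D : Data Q) (g : G) :
    (toSpGL g : GL (Fin m ⊕ Fin m) F) ∈ Cfsg.Geo.quadSimilarityGroup Q ↔ g ∈ iso Q := by
  refine ⟨fun ⟨c, hc⟩ => fun x => ?_, fun h => ⟨1, fun x => by rw [Units.val_one, one_mul]; exact h x⟩⟩
  have hc' : ∀ x, Q (app g x) = (c : F) * Q x := hc
  obtain ⟨i⟩ : Nonempty (Fin m) := ⟨⟨0, by have := D.two_le; omega⟩⟩
  set u : V := Pi.single (.inr i) 1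
  set v : V := Pi.single (.inl i) 1
  have hω : ω u v = 1 := by rw [f_inl]; simp [u]
  have h1 : (c : F) = 1 := by
    have := hc' (u + v)
    rw [app_add, D.add, D.add, f_app, hc' u, hc' v, hω] at this
    linear_combination -this
  rw [hc' x, h1, one_mul]

theorem isMaximalIn (D : Data Q) :
    Cfsg.Geo.IsMaximalIn (spGL m F) (Cfsg.Geo.quadSimilarityGroup Q ⊓ spGL m F) := by
  refine ⟨lt_of_le_not_ge inf_le_right fun hle => ?_, fun M hM hM' => ?_⟩
  · obtain ⟨g, hg⟩ := exists_notMem_iso D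
    exact hg ((mem_quadSimilarityGroup D g).1 (hle (toSpGL g).2).1)
  rcases iso_le_or_top D (M.comap ((spGL m F).subtype.comp toSpGL)) (fun g hg =>
      hM ⟨(mem_quadSimilarityGroup D g).2 hg, (toSpGL g).2⟩) with h | h
  · refine Or.inr (le_antisymm hM' fun g hg => ?_)
    obtain ⟨s, hs⟩ := toSpGL_surjective (⟨g, hg⟩ : spGL m F)
    have : s ∈ M.comap ((spGL m F).subtype.comp toSpGL) := h ▸ Subgroup.mem_top s
    simpa [hs] using this
  · refine Or.inl (le_antisymm (fun g hg => ?_) hM)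
    obtain ⟨s, hs⟩ := toSpGL_surjective (⟨g, hM' hg⟩ : spGL m F)
    have hs' : (toSpGL s : GL (Fin m ⊕ Fin m) F) = g := congrArg Subtype.val hs
    subst hs'
    exact ⟨(mem_quadSimilarityGroup D s).2 (h hg), (toSpGL s).2⟩

end CfsgLib.Classical.SympQuad
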