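import Cfsg.Agent.Lib.Classical.SubspaceStab
import Cfsg.Agent.Lib.SL2.TwoRoots

/-!
Subfield subgroups of `SL_n` are maximal: a subgroup containing `SL_n(F₀)` and a transvection which
is not rational contains every transvection, for any prime degree extension.
-/

set_option autoImplicit false
set_option linter.unusedSectionVars false

namespace CfsgLib.Classical.MinIndex.Subfield

open Matrix
open scoped MatrixGroups

variable {F : Type*} [Field F] [Finite F] {n : ℕ} (F₀ : Subfield F)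

local notation "V" => Fin n → F
local notation "SLn" => SpecialLinearGroup (Fin n) F

/-- A vector with coordinates in the subfield. -/
def Rat (v : Fin n → F) : Prop := ∀ i, v i ∈ F₀

variable {F₀}

theorem rat_single (i : Fin n) : Rat F₀ (Pi.single i 1 : V) := fun j => by
  rcases eq_or_ne j i with rfl | h
  · simp
  · rw [Pi.single_eq_of_ne h]; exact F₀.zero_mem

theorem rat_smul {c : F} (hc : c ∈ F₀) {v : V} (hv : Rat F₀ v) : Rat F₀ (c • v) :=
  fun i => F₀.mul_mem hc (hv i)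

theorem rat_dot {v w : V} (hv : Rat F₀ v) (hw : Rat F₀ w) : v ⬝ᵥ w ∈ F₀ :=
  sum_mem fun i _ => F₀.mul_mem (hv i) (hw i)

theorem exists_ne_zero' {v : V} (hv : v ≠ 0) : ∃ i, v i ≠ 0 := Function.ne_iff.1 hv

/-- A rational vector killed by two rational functionals. -/
theorem exists_rat_perp (hn : 3 ≤ n) {a b : V} (ha : Rat F₀ a) (hb : Rat F₀ b) :
    ∃ χ : V, χ ≠ 0 ∧ Rat F₀ χ ∧ χ ⬝ᵥ a = 0 ∧ χ ⬝ᵥ b = 0 := by
  let A : Matrix (Fin 2) (Fin n) F₀ := Matrix.of ![fun i => ⟨a i, ha i⟩, fun i => ⟨b i, hb i⟩]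
  obtain ⟨x, hx, hx0⟩ : ∃ x, A.mulVecLin x = 0 ∧ x ≠ 0 := by
    by_contra hall
    push Not at hall
    have hinj : Function.Injective A.mulVecLin :=
      (injective_iff_map_eq_zero _).2 fun x hx => hall x hx
    have := LinearMap.finrank_le_finrank_of_injective hinj
    simp at this
    omega
  have hk : ∀ k, ∑ i, A k i * x i = 0 := fun k => congrFun hx k
  refine ⟨fun i => (x i : F), fun h => hx0 (funext fun i => Subtype.ext (congrFun h i)),
    fun i => (x i).2, ?_, ?_⟩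
  · have := congrArg (fun z : F₀ => (z : F)) (hk 0)
    simp [A] at this
    rw [dotProduct_comm]
    exact this
  · have := congrArg (fun z : F₀ => (z : F)) (hk 1)
    simp [A] at this
    rw [dotProduct_comm]
    exact this

theorem exists_ne_zero_and_perp (hn : 3 ≤ n) {a φ : V} (ha : Rat F₀ a) (hφ : φ ≠ 0) :
    ∃ χ : V, χ ≠ 0 ∧ Rat F₀ χ ∧ χ ⬝ᵥ a = 0 ∧ χ ∉ Submodule.span F {φ} := by
  obtain ⟨i, hi⟩ := exists_ne_zero' hφ
  obtain ⟨χ, h0, hr, h1, h2⟩ := exists_rat_perp hn ha (rat_single i)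
  refine ⟨χ, h0, hr, h1, fun h => ?_⟩
  obtain ⟨c, rfl⟩ := Submodule.mem_span_singleton.1 h
  rw [dotProduct_single, mul_one, Pi.smul_apply, smul_eq_mul, mul_eq_zero] at h2
  exact h0 (by rw [h2.resolve_right hi, zero_smul])

/-- A rational vector in the kernel of `ψ` outside the kernel of `φ`. -/
theorem exists_rat_sep {ψ φ : V} (hψ : Rat F₀ ψ) (hψ0 : ψ ≠ 0) (hφ : φ ∉ Submodule.span F {ψ}) :
    ∃ b : V, Rat F₀ b ∧ ψ ⬝ᵥ b = 0 ∧ φ ⬝ᵥ b ≠ 0 := by
  obtain ⟨j, hj⟩ := exists_ne_zero' hψ0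
  by_contra hall
  push Not at hall
  refine hφ (Submodule.mem_span_singleton.2 ⟨φ j / ψ j, funext fun i => ?_⟩)
  have := hall (Pi.single i 1 - (ψ i / ψ j) • Pi.single j 1)
    (fun k => F₀.sub_mem (rat_single i k) (F₀.mul_mem (F₀.div_mem (hψ i) (hψ j)) (rat_single j k)))
    (by simp [dotProduct_sub, dotProduct_smul, hj])
  simp [dotProduct_sub, dotProduct_smul] at this
  rw [Pi.smul_apply, smul_eq_mul]
  field_simp
  field_simp at this
  linear_combination -this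

variable (M : Subgroup (SpecialLinearGroup (Fin n) F))

/-- The transvection `v ↦ v + φ(v) a` lies in `M`. -/
def T (a φ : Fin n → F) : Prop := ∃ h : φ ⬝ᵥ a = 0, tv a φ h ∈ M

variable {M}

theorem T_congr {a a' φ φ' : V} (h : T M a φ) (e : ∀ v : V, (φ ⬝ᵥ v) • a = (φ' ⬝ᵥ v) • a')
    (h' : φ' ⬝ᵥ a' = 0) : T M a' φ' := by
  refine ⟨h', ?_⟩
  obtain ⟨h0, hm⟩ := h
  rwa [show tv a' φ' h' = tv a φ h0 from ext_app fun v => by rw [app_tv, app_tv, e]]

theorem T_move {a φ : V} (c : F) (hc : c ≠ 0) (h : T M a φ) : T M (c • a) (c⁻¹ • φ) :=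
  T_congr h (fun v => by rw [smul_dotProduct, smul_smul, smul_eq_mul, mul_right_comm,
      inv_mul_cancel₀ hc, one_mul]) (by
    rw [smul_dotProduct, dotProduct_smul, h.1, smul_zero, smul_zero])

theorem T_smul_comm {a φ : V} {c : F} (h : T M a (c • φ)) (hc : c ≠ 0) : T M (c • a) φ := by
  have := T_move c hc h
  rwa [smul_smul, inv_mul_cancel₀ hc, one_smul] at this

theorem T_add {a φ φ' : V} (h : T M a φ) (h' : T M a φ') : T M a (φ + φ') := by
  obtain ⟨e, hm⟩ := h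
  obtain ⟨e', hm'⟩ := h'
  exact ⟨by rw [add_dotProduct, e, e', add_zero], tv_mul e e' ▸ M.mul_mem hm hm'⟩

theorem T_neg {a φ : V} (h : T M a φ) : T M a (-φ) := by
  obtain ⟨e, hm⟩ := h
  exact ⟨by rw [neg_dotProduct, e, neg_zero], tv_inv e ▸ M.inv_mem hm⟩

theorem T_comm {a b φ ψ : V} (hx : T M a φ) (hy : T M b ψ) (h : ψ ⬝ᵥ a = 0) :
    T M a ((φ ⬝ᵥ b) • ψ) := by
  obtain ⟨e, hm⟩ := hx
  obtain ⟨e', hm'⟩ := hy
  have h0 : ((φ ⬝ᵥ b) • ψ) ⬝ᵥ a = 0 := by rw [smul_dotProduct, h, smul_zero]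
  refine ⟨h0, ?_⟩
  have : tv a ((φ ⬝ᵥ b) • ψ) h0 = tv a φ e * tv b ψ e' * (tv a φ e)⁻¹ * (tv b ψ e')⁻¹ := by
    rw [tv_inv, tv_inv]
    refine ext_app fun v => ?_
    simp only [app_mul, app_tv, dotProduct_add, dotProduct_smul, dotProduct_neg, neg_dotProduct,
      smul_dotProduct, smul_eq_mul, e, e', h, mul_zero, add_zero, zero_mul, neg_zero, neg_mul, mul_neg]
    module
  rw [this]
  exact M.mul_mem (M.mul_mem (M.mul_mem hm hm') (M.inv_mem hm)) (M.inv_mem hm')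

variable (hM : ∀ s : SpecialLinearGroup (Fin n) F, (∀ i j, s.1 i j ∈ F₀) → s ∈ M)

include hM

theorem T_rat {a φ : V} (ha : Rat F₀ a) (hφ : Rat F₀ φ) (h : φ ⬝ᵥ a = 0) : T M a φ := by
  refine ⟨h, hM _ fun i j => ?_⟩
  show (1 + replicateCol Unit a * replicateRow Unit φ : Matrix (Fin n) (Fin n) F) i j ∈ F₀
  rw [Matrix.add_apply, Matrix.mul_apply]
  refine F₀.add_mem ?_ (sum_mem fun k _ => F₀.mul_mem (ha i) (hφ j))
  by_cases hij : i = j
  · rw [hij, Matrix.one_apply_eq]; exact F₀.one_mem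
  · rw [Matrix.one_apply_ne hij]; exact F₀.zero_mem

theorem conn_right' {a φ ψ : V} (ha : Rat F₀ a) (hφ : Rat F₀ φ) (hψ : Rat F₀ ψ) (hψ0 : ψ ≠ 0)
    (hψa : ψ ⬝ᵥ a = 0) (hind : φ ∉ Submodule.span F {ψ}) {c : F} (h : T M a (c • φ)) :
    T M a (c • ψ) := by
  obtain ⟨b, hb, hψb, hφb⟩ := exists_rat_sep hψ hψ0 hind
  have := T_comm h (T_rat hM (rat_smul (F₀.inv_mem (rat_dot hφ hb)) hb) hψ
    (by rw [dotProduct_smul, hψb, smul_zero])) hψa
  rwa [smul_dotProduct, dotProduct_smul, smul_eq_mul, smul_eq_mul, inv_mul_cancel₀ hφb, mul_one] at this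

theorem conn_right (hn : 3 ≤ n) {a φ ψ : V} (ha : Rat F₀ a) (hφ : Rat F₀ φ) (hφ0 : φ ≠ 0)
    (hψ : Rat F₀ ψ) (hψ0 : ψ ≠ 0)
    (hψa : ψ ⬝ᵥ a = 0) {c : F} (h : T M a (c • φ)) : T M a (c • ψ) := by
  by_cases hind : φ ∈ Submodule.span F {ψ}
  · obtain ⟨χ, hχ0, hχ, hχa, hχn⟩ := exists_ne_zero_and_perp hn ha hψ0
    refine conn_right' hM ha hχ hψ hψ0 hψa hχn (conn_right' hM ha hφ hχ hχ0 hχa ?_ h)
    intro hc
    obtain ⟨s, hs⟩ := Submodule.mem_span_singleton.1 hc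
    obtain ⟨t, ht⟩ := Submodule.mem_span_singleton.1 hind
    have hs0 : s ≠ 0 := fun e => hφ0 (by rw [← hs, e, zero_smul])
    refine hχn (Submodule.mem_span_singleton.2 ⟨s⁻¹ * t, ?_⟩)
    rw [← smul_smul, ht, ← hs, smul_smul, inv_mul_cancel₀ hs0, one_smul]
  · exact conn_right' hM ha hφ hψ hψ0 hψa hind h

theorem conn_left' {a b φ : V} (ha : Rat F₀ a) (hb : Rat F₀ b) (hb0 : b ≠ 0) (hφb : φ ⬝ᵥ b = 0)
    (hind : a ∉ Submodule.span F {b}) {c : F} (h : T M a (c • φ)) : T M b (c • φ) := by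
  obtain ⟨ψ, hψ, hψb, hψa⟩ := exists_rat_sep hb hb0 hind
  rw [dotProduct_comm] at hψb hψa
  have := T_comm (T_rat hM hb (rat_smul (F₀.inv_mem (rat_dot hψ ha)) hψ)
    (by rw [smul_dotProduct, hψb, smul_zero])) h (by rw [smul_dotProduct, hφb, smul_zero])
  rwa [smul_dotProduct, smul_eq_mul, inv_mul_cancel₀ hψa, one_smul] at this

theorem conn_left (hn : 3 ≤ n) {a b φ : V} (ha : Rat F₀ a) (ha0 : a ≠ 0) (hb : Rat F₀ b) (hb0 : b ≠ 0)
    (hφ : Rat F₀ φ) (hφb : φ ⬝ᵥ b = 0) {c : F} (h : T M a (c • φ)) : T M b (c • φ) := by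
  by_cases hind : a ∈ Submodule.span F {b}
  · obtain ⟨χ, hχ0, hχ, hχφ, hχn⟩ := exists_ne_zero_and_perp hn hφ hb0
    rw [dotProduct_comm] at hχφ
    refine conn_left' hM hχ hb hb0 hφb hχn (conn_left' hM ha hχ hχ0 hχφ ?_ h)
    intro hc
    obtain ⟨s, hs⟩ := Submodule.mem_span_singleton.1 hc
    obtain ⟨t, ht⟩ := Submodule.mem_span_singleton.1 hind
    have hs0 : s ≠ 0 := fun e => ha0 (by rw [← hs, e, zero_smul])
    refine hχn (Submodule.mem_span_singleton.2 ⟨s⁻¹ * t, ?_⟩)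
    rw [← smul_smul, ht, ← hs, smul_smul, inv_mul_cancel₀ hs0, one_smul]
  · exact conn_left' hM ha hb hb0 hφb hind h

theorem conn (hn : 3 ≤ n) {a φ b ψ : V} (ha : Rat F₀ a) (ha0 : a ≠ 0) (hφ : Rat F₀ φ) (hφ0 : φ ≠ 0)
    (hb : Rat F₀ b) (hb0 : b ≠ 0) (hψ : Rat F₀ ψ) (hψ0 : ψ ≠ 0) (hψb : ψ ⬝ᵥ b = 0) {c : F}
    (h : T M a (c • φ)) : T M b (c • ψ) := by
  obtain ⟨χ, hχ0, hχ, hχa, hχb⟩ := exists_rat_perp hn ha hb
  exact conn_right hM hn hb hχ hχ0 hψ hψ0 hψb
    (conn_left hM hn ha ha0 hb hb0 hχ hχb (conn_right hM hn ha hφ hφ0 hχ hχ0 hχa h))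

omit hM in
/-- A set containing the subfield and one more element, closed under sum and product. -/
theorem eq_univ_of_closed {r : ℕ} (hr : r.Prime) (hcard : Nat.card F = Nat.card F₀ ^ r) {S : Set F}
    (h0 : ∀ c ∈ F₀, c ∈ S) (hadd : ∀ a ∈ S, ∀ b ∈ S, a + b ∈ S)
    (hmul : ∀ a ∈ S, ∀ b ∈ S, a * b ∈ S) {c : F} (hc : c ∈ S) (hcn : c ∉ F₀) : ∀ x, x ∈ S := by
  let A : Subalgebra F₀ F :=
    { carrier := S
      mul_mem' := fun {a b} ha hb => hmul a ha b hb
      add_mem' := fun {a b} ha hb => hadd a ha b hb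
      one_mem' := h0 1 F₀.one_mem
      zero_mem' := h0 0 F₀.zero_mem
      algebraMap_mem' := fun a => h0 _ a.2 }
  have hfin : Module.finrank F₀ F = r := by
    have h2 : 2 ≤ Nat.card F₀ := Finite.one_lt_card
    refine Nat.pow_right_injective h2 ?_
    show Nat.card F₀ ^ _ = Nat.card F₀ ^ r
    rw [← hcard, ← Module.natCard_eq_pow_finrank]
  have := Subalgebra.isSimpleOrder_of_finrank_prime F₀ F (hfin ▸ hr)
  rcases eq_bot_or_eq_top A with h | h
  · exfalso
    have hcA : c ∈ A := hc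
    rw [h, Algebra.mem_bot] at hcA
    obtain ⟨y, rfl⟩ := hcA
    exact hcn y.2
  · exact fun x => (h ▸ Algebra.mem_top : x ∈ A)

variable {r : ℕ} (hr : r.Prime) (hcard : Nat.card F = Nat.card F₀ ^ r)

include hr hcard

theorem top_of_scalar (hn : 3 ≤ n) {a φ : V} (ha : Rat F₀ a) (ha0 : a ≠ 0) (hφ : Rat F₀ φ)
    (hφ0 : φ ≠ 0) {c : F} (hc : c ∉ F₀) (h : T M a (c • φ)) : M = ⊤ := by
  have hs : ∀ i j : Fin n, i ≠ j → (Pi.single j 1 : V) ⬝ᵥ Pi.single i 1 = 0 := fun i j hij => by simp [hij]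
  have hne : ∀ i : Fin n, (Pi.single i 1 : V) ≠ 0 := fun i => Pi.single_ne_zero_iff.2 one_ne_zero
  have key : ∀ (i j k l : Fin n), i ≠ j → k ≠ l → ∀ c : F,
      T M (Pi.single i 1 : V) (c • (Pi.single j 1 : V)) → T M (Pi.single k 1 : V) (c • (Pi.single l 1 : V)) :=
    fun i j k l _ hkl c h => conn hM hn (rat_single i) (hne i) (rat_single j) (hne j)
      (rat_single k) (hne k) (rat_single l) (hne l) (hs k l hkl) h
  let i₀ : Fin n := ⟨0, by omega⟩
  let i₁ : Fin n := ⟨1, by omega⟩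
  let i₂ : Fin n := ⟨2, by omega⟩
  have h01 : i₀ ≠ i₁ := by simp [i₀, i₁]
  have h12 : i₁ ≠ i₂ := by simp [i₁, i₂]
  have h02 : i₀ ≠ i₂ := by simp [i₀, i₂]
  have hall := eq_univ_of_closed (F₀ := F₀) hr hcard
    (S := {c | T M (Pi.single i₀ 1 : V) (c • (Pi.single i₁ 1 : V))})
    (fun d hd => T_rat hM (rat_single _) (rat_smul hd (rat_single _)) (by
      rw [smul_dotProduct, hs _ _ h01, smul_zero]))
    (fun d hd e he => show T M _ _ by rw [add_smul]; exact T_add hd he)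
    (fun d hd e he => by
      refine key i₀ i₂ i₀ i₁ h02 h01 _ ?_
      have := T_comm hd (key i₀ i₁ i₁ i₂ h01 h12 e he) (by rw [smul_dotProduct, hs _ _ h02, smul_zero])
      rwa [smul_dotProduct, hs' , smul_eq_mul, mul_one, smul_smul] at this)
    (conn hM hn ha ha0 hφ hφ0 (rat_single _) (hne _) (rat_single _) (hne _) (hs _ _ h01) h) hc
  have : Nontrivial (Fin n) := Fin.nontrivial_iff_two_le.2 (by omega)
  refine eq_top_of_transvection_mem M fun i j hij d => ?_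
  obtain ⟨h', hm⟩ := key i₀ i₁ i j h01 hij d (hall d)
  convert hm
  refine SL_ext_smul fun v => funext fun k => ?_
  rw [transvection_smul_apply]
  show _ = app (tv _ _ h') v k
  rw [app_tv]
  simp [Pi.single_apply]
where
  hs' {i : Fin n} : (Pi.single i 1 : Fin n → F) ⬝ᵥ Pi.single i 1 = 1 := by simp

theorem mem_of_T (hn : 3 ≤ n) (hne : M ≠ ⊤) {a φ : V} (ha : Rat F₀ a) (ha0 : a ≠ 0) (hφ : Rat F₀ φ)
    (hφ0 : φ ≠ 0) {c : F} (h : T M a (c • φ)) : c ∈ F₀ :=
  by_contra fun hc => hne (top_of_scalar hM hr hcard hn ha ha0 hφ hφ0 hc h)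

/-- A transvection whose axis or centre meets a rational line is rational. -/
theorem rational_of_perp (hn : 3 ≤ n) (hne : M ≠ ⊤) {a ψ φ : V} (ha0 : a ≠ 0) (hψ0 : ψ ≠ 0)
    (h : T M a ψ) (hφ : Rat F₀ φ) (hφ0 : φ ≠ 0) (hφa : φ ⬝ᵥ a = 0) :
    ∀ i j, a i * ψ j ∈ F₀ := by
  obtain ⟨μ, hμ0, hμ⟩ : ∃ μ : F, μ ≠ 0 ∧ T M a (μ • φ) := by
    by_cases hind : ψ ∈ Submodule.span F {φ}
    · obtain ⟨s, rfl⟩ := Submodule.mem_span_singleton.1 hind
      exact ⟨s, fun e => hψ0 (by rw [e, zero_smul]), h⟩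
    · obtain ⟨v, hv, hφv, hψv⟩ := exists_rat_sep hφ hφ0 hind
      exact ⟨_, hψv, T_comm h (T_rat hM hv hφ hφv) hφa⟩
  have ha' : Rat F₀ (μ • a) := fun i => by
    obtain ⟨b, hb0, hb, hb1, hb2⟩ := exists_rat_perp hn hφ (rat_single i)
    rw [dotProduct_comm] at hb1 hb2
    have := T_comm (T_rat hM hb (rat_single i) hb2) hμ (by rw [smul_dotProduct, hb1, smul_zero])
    rw [single_dotProduct, one_mul, smul_smul] at this
    have := mem_of_T hM hr hcard hn hne hb hb0 hφ hφ0 this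
    rwa [Pi.smul_apply, smul_eq_mul, mul_comm]
  have h' := T_move μ hμ0 h
  intro i j
  have hj : μ⁻¹ * ψ j ∈ F₀ := by
    obtain ⟨χ, hχ0, hχ, hχ1, hχ2⟩ := exists_rat_perp hn ha' (rat_single j)
    have := T_comm h' (T_rat hM (rat_single j) hχ hχ2) hχ1
    rw [dotProduct_single, mul_one] at this
    exact mem_of_T hM hr hcard hn hne ha' (smul_ne_zero hμ0 ha0) hχ hχ0 this
  rw [show a i * ψ j = (μ • a) i * (μ⁻¹ * ψ j) by
    rw [Pi.smul_apply, smul_eq_mul]; field_simp]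
  exact F₀.mul_mem (ha' i) hj

omit hr hcard in
theorem mem_of_conj {v f : V} {c : F} {y : SLn} (hy : y ∈ M) (hyv : app y v = c⁻¹ • v) (hc : c ≠ 0)
    (hf : T M v f) : T M v (c • (f ᵥ* y.1)) := by
  obtain ⟨e, hm⟩ := hf
  have hv : app y⁻¹ v = c • v := by
    have h1 := congrArg (fun w => c • app y⁻¹ w) hyv
    simp only [app_inv, app_smul, smul_smul, mul_inv_cancel₀ hc, one_smul] at h1
    exact h1.symm
  have h0 : (c • (f ᵥ* y.1)) ⬝ᵥ v = 0 := by
    rw [smul_dotProduct, ← dotProduct_mulVec]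
    show c • (f ⬝ᵥ app y v) = 0
    rw [hyv, dotProduct_smul, e, smul_zero, smul_zero]
  refine ⟨h0, ?_⟩
  have : tv v (c • (f ᵥ* y.1)) h0 = y⁻¹ * tv v f e * y := ext_app fun w => by
    rw [app_mul, app_mul, app_tv, app_tv, app_add, app_smul, app_inv, hv, smul_dotProduct,
      ← dotProduct_mulVec, smul_smul, smul_eq_mul, mul_comm]
    rfl
  rw [this]
  exact M.mul_mem (M.mul_mem (M.inv_mem hy) hm) hy

/-- A transvection cannot have a centre in general position. -/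
theorem exists_perp (hn : 5 ≤ n) (hne : M ≠ ⊤) {a ψ : V} (hψ0 : ψ ≠ 0) (h : T M a ψ) :
    ∃ φ : V, φ ≠ 0 ∧ Rat F₀ φ ∧ φ ⬝ᵥ a = 0 := by
  classical
  by_contra hall
  push Not at hall
  obtain ⟨i, hi⟩ := exists_ne_zero' hψ0
  set v : V := Pi.single i 1 with hvdef
  set μ := ψ i
  have haj : ∀ j, a j ≠ 0 := fun j e => hall _ (Pi.single_ne_zero_iff.2 one_ne_zero) (rat_single j)
    (by simp [e])
  have hψv : ψ ⬝ᵥ v = μ := by simp [hvdef, μ]
  obtain ⟨j₀, hj₀⟩ : ∃ j : Fin n, j ≠ i := by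
    by_cases h0 : (i : ℕ) = 0
    · exact ⟨⟨1, by omega⟩, fun e => by rw [← e] at h0; simp at h0⟩
    · exact ⟨⟨0, by omega⟩, fun e => by rw [← e] at h0; simp at h0⟩
  let W : AddSubgroup F :=
    { carrier := {x | ∃ φ : V, Rat F₀ φ ∧ φ i = 0 ∧ φ ⬝ᵥ a = x}
      zero_mem' := ⟨0, fun _ => F₀.zero_mem, rfl, zero_dotProduct _⟩
      add_mem' := by
        rintro x y ⟨φ, h1, h2, rfl⟩ ⟨φ', h1', h2', rfl⟩
        exact ⟨φ + φ', fun k => F₀.add_mem (h1 k) (h1' k),
          by rw [Pi.add_apply, h2, h2', add_zero], add_dotProduct _ _ _⟩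
      neg_mem' := by
        rintro x ⟨φ, h1, h2, rfl⟩
        exact ⟨-φ, fun k => F₀.neg_mem (h1 k), by rw [Pi.neg_apply, h2, neg_zero],
          neg_dotProduct _ _⟩ }
  -- the group induced on the plane
  let L := Submodule.span F ({v, a} : Set V)
  let P : Set SL(2, F) := {S | ∃ x ∈ M, app x v = S.1 0 0 • v + S.1 1 0 • a ∧
      app x a = S.1 0 1 • v + S.1 1 1 • a ∧ ∀ u, app x u - u ∈ L}
  have hPmul : ∀ S ∈ P, ∀ S' ∈ P, S * S' ∈ P := by
    rintro S ⟨x, hx, h1, h2, h3⟩ S' ⟨x', hx', h1', h2', h3'⟩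
    refine ⟨x * x', M.mul_mem hx hx', ?_, ?_, fun u => ?_⟩
    · rw [app_mul, h1', app_add, app_smul, app_smul, h1, h2, Matrix.SpecialLinearGroup.coe_mul,
        Matrix.mul_apply, Matrix.mul_apply, Fin.sum_univ_two, Fin.sum_univ_two]
      module
    · rw [app_mul, h2', app_add, app_smul, app_smul, h1, h2, Matrix.SpecialLinearGroup.coe_mul,
        Matrix.mul_apply, Matrix.mul_apply, Fin.sum_univ_two, Fin.sum_univ_two]
      module
    · rw [app_mul, show app x (app x' u) - u = (app x (app x' u) - app x' u) + (app x' u - u) by abel]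
      exact L.add_mem (h3 _) (h3' u)
  have hP1 : (1 : SL(2, F)) ∈ P :=
    ⟨1, M.one_mem, by simp [app_one], by simp [app_one], fun u => by simp [app_one]⟩
  have hPpow : ∀ S ∈ P, ∀ k : ℕ, S ^ k ∈ P := fun S hS k => by
    induction k with
    | zero => exact hP1
    | succ k ih => rw [pow_succ]; exact hPmul _ ih _ hS
  let G : Subgroup SL(2, F) :=
    { carrier := P
      one_mem' := hP1
      mul_mem' := fun {x y} hx hy => hPmul x hx y hy
      inv_mem' := fun {x} hx => by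
        rw [show x⁻¹ = x ^ (orderOf x - 1) from inv_eq_of_mul_eq_one_right (by
          rw [← pow_succ', Nat.sub_add_cancel (orderOf_pos x), pow_orderOf_eq_one])]
        exact hPpow _ hx _ }
  have hG : G = ⊤ := by
    refine CfsgLib.SL2.eq_top_of_up_lo W ?_ (μ := μ) hi ?_ ?_ fun K hK => ?_
    · rintro _ ⟨φ, hφ, hφi, rfl⟩
      obtain ⟨e, hm⟩ := T_rat hM (rat_single i) hφ (by simp [hφi])
      refine ⟨_, hm, ?_, ?_, fun u => ?_⟩
      · simp [app_tv, CfsgLib.SL2.up_coe, hφi, hvdef]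
      · simp [app_tv, CfsgLib.SL2.up_coe, add_comm, hvdef]
      · rw [app_tv, add_sub_cancel_left]
        exact L.smul_mem _ (Submodule.subset_span (Set.mem_insert _ _))
    · obtain ⟨e, hm⟩ := h
      refine ⟨_, hm, ?_, ?_, fun u => ?_⟩
      · simp [app_tv, CfsgLib.SL2.lo_coe, hψv]
      · simp [app_tv, CfsgLib.SL2.lo_coe, e]
      · rw [app_tv, add_sub_cancel_left]
        exact L.smul_mem _ (Submodule.subset_span (Set.mem_insert_of_mem _ rfl))
    · let emb : ({j : Fin n // j ≠ i} → F₀) → W := fun g =>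
        ⟨(fun j => if hj : j = i then 0 else (g ⟨j, hj⟩ : F)) ⬝ᵥ a,
          fun j => if hj : j = i then 0 else (g ⟨j, hj⟩ : F),
          fun j => by dsimp only; split; exacts [F₀.zero_mem, (g _).2], dif_pos rfl, rfl⟩
      have hinj : Function.Injective emb := by
        intro g g' hg
        have he := congrArg Subtype.val hg
        simp only [emb] at he
        rw [← sub_eq_zero, ← sub_dotProduct] at he
        by_contra hgg
        obtain ⟨⟨j, hj⟩, hj'⟩ := Function.ne_iff.1 hgg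
        refine hall _ (fun e => hj' ?_) (fun k => ?_) he
        · have := congrFun e j
          simp [hj, sub_eq_zero] at this
          exact this
        · simp only [Pi.sub_apply]
          split
          · simp
          · exact F₀.sub_mem (g _).2 (g' _).2
      have h1 := Nat.card_le_card_of_injective emb hinj
      rw [Nat.card_fun, Nat.card_eq_fintype_card (α := {j : Fin n // j ≠ i}),
        Fintype.card_subtype_compl, Fintype.card_fin, Fintype.card_subtype_eq] at h1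
      have h2 : 2 ^ 4 ≤ Nat.card F₀ ^ (n - 1) :=
        (Nat.pow_le_pow_left Finite.one_lt_card 4).trans (Nat.pow_le_pow_right (Finite.card_pos) (by omega))
      omega
    · have hF₀ : ∀ t ∈ F₀, t ∈ K := fun t ht => by
        have h1 := hK _ ⟨Pi.single j₀ 1, rat_single _, Pi.single_eq_of_ne hj₀.symm _, rfl⟩
        have h2 := hK _ ⟨t • Pi.single j₀ 1, rat_smul ht (rat_single _),
          by simp [Pi.single_eq_of_ne hj₀.symm], rfl⟩
        have := K.div_mem h2 h1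
        simp only [smul_dotProduct, single_dotProduct, one_mul, smul_eq_mul] at this
        rwa [show μ * (t * a j₀) / (μ * a j₀) = t by
          have := haj j₀; field_simp] at this
      by_contra hKt
      have hsub : ∀ w ∈ W, μ * w ∈ F₀ := fun w hw => by_contra fun hwn => hKt (by
        rw [eq_top_iff]
        intro x _
        exact eq_univ_of_closed (S := (K : Set F)) hr hcard hF₀ (fun _ ha _ hb => K.add_mem ha hb)
          (fun _ ha _ hb => K.mul_mem ha hb) (hK w hw) hwn x)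
      obtain ⟨k₀, hk₀, hk₀'⟩ : ∃ k : Fin n, k ≠ i ∧ k ≠ j₀ := by
        by_contra hc
        push Not at hc
        have : (Finset.univ : Finset (Fin n)) ⊆ {i, j₀} := fun k _ => by
          by_cases hk : k = i
          · simp [hk]
          · simp [hc k hk]
        have := (Finset.card_le_card this).trans Finset.card_le_two
        simp at this
        omega
      have m1 := hsub _ ⟨Pi.single j₀ 1, rat_single _, Pi.single_eq_of_ne hj₀.symm _, rfl⟩
      have m2 := hsub _ ⟨Pi.single k₀ 1, rat_single _, Pi.single_eq_of_ne hk₀.symm _, rfl⟩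
      simp only [single_dotProduct, one_mul] at m1 m2
      refine hall ((μ * a k₀) • Pi.single j₀ 1 - (μ * a j₀) • Pi.single k₀ 1) (fun e => ?_)
        (fun k => F₀.sub_mem (F₀.mul_mem m2 (rat_single j₀ k)) (F₀.mul_mem m1 (rat_single k₀ k))) ?_
      · have := congrFun e j₀
        simp [hk₀'.symm, hi, haj] at this
      · simp only [sub_dotProduct, smul_dotProduct, single_dotProduct, one_mul, smul_eq_mul]
        ring
  -- a torus of the plane
  obtain ⟨u₀, hu₀⟩ := IsCyclic.exists_generator (α := Fˣ)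
  set c₀ : F := (u₀ : F)
  have hc₀0 : c₀ ≠ 0 := u₀.ne_zero
  have hpow : ∀ c : F, c ≠ 0 → ∃ k : ℕ, c₀ ^ k = c := fun c hc => by
    obtain ⟨k, hk⟩ := (IsOfFinOrder.mem_powers_iff_mem_zpowers (isOfFinOrder_of_finite u₀)).2
      (hu₀ (Units.mk0 c hc))
    exact ⟨k, by simpa [c₀] using congrArg Units.val hk⟩
  have hc₀1 : c₀ ≠ 1 := by
    intro e
    have hsub : ∀ x : F, x = 0 ∨ x = 1 := fun x => by
      by_cases hx : x = 0
      · exact Or.inl hx
      · obtain ⟨k, hk⟩ := hpow x hx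
        rw [e, one_pow] at hk
        exact Or.inr hk.symm
    rcases hsub (a j₀ / μ) with hh | hh
    · exact div_ne_zero (haj j₀) hi hh
    · have hq : Nat.card F ≤ 2 := by
        refine (Nat.card_le_card_of_surjective (fun b : Fin 2 => if b = 0 then (0 : F) else 1)
          fun x => ?_).trans (by simp)
        rcases hsub x with rfl | rfl
        · exact ⟨0, rfl⟩
        · exact ⟨1, rfl⟩
      have : 2 ^ 2 ≤ Nat.card F₀ ^ r :=
        (Nat.pow_le_pow_left Finite.one_lt_card 2).trans (Nat.pow_le_pow_right Finite.card_pos hr.two_le)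
      omega
  obtain ⟨y₀, hy₀, hyv, hya, hyL⟩ : ∃ y ∈ M, app y v = c₀⁻¹ • v ∧ app y a = c₀ • a ∧
      ∀ u, app y u - u ∈ L := by
    obtain ⟨D, hD⟩ : ∃ D : SL(2, F), D.1 = !![c₀⁻¹, 0; 0, c₀] := ⟨⟨!![c₀⁻¹, 0; 0, c₀], by simp [hc₀0]⟩, rfl⟩
    have : D ∈ G := hG ▸ Subgroup.mem_top D
    obtain ⟨y, hy, e1, e2, e3⟩ := this
    exact ⟨y, hy, by simpa [hD] using e1, by simpa [hD] using e2, e3⟩
  have hav : a ∉ Submodule.span F {v} := fun hm => by
    obtain ⟨s, hs⟩ := Submodule.mem_span_singleton.1 hm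
    exact haj j₀ (by rw [← hs]; simp [hvdef, Pi.single_eq_of_ne hj₀])
  obtain ⟨ψ₂, hψ₂, hψ₂a⟩ := exists_sep _ hav
  have hψ₂v : ψ₂ ⬝ᵥ v = 0 := hψ₂ _ (Submodule.mem_span_singleton_self v)
  obtain ⟨fs, hfs⟩ : ∃ fs : V, fs = (c₀ - 1)⁻¹ • (ψ₂ ᵥ* y₀.1 - ψ₂) := ⟨_, rfl⟩
  have hfsu : ∀ u, fs ⬝ᵥ u = (c₀ - 1)⁻¹ * (ψ₂ ⬝ᵥ (app y₀ u - u)) := fun u => by
    rw [hfs, smul_dotProduct, sub_dotProduct, ← dotProduct_mulVec, dotProduct_sub, smul_eq_mul]
    rfl
  have hc1 : c₀ - 1 ≠ 0 := sub_ne_zero.2 hc₀1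
  have hfsv : fs ⬝ᵥ v = 0 := by
    rw [hfsu, hyv, dotProduct_sub, dotProduct_smul, hψ₂v, smul_zero, sub_zero, mul_zero]
  have hfsa : fs ⬝ᵥ a = 1 := by
    rw [hfsu, hya, dotProduct_sub, dotProduct_smul, hψ₂a, smul_eq_mul, mul_one, inv_mul_cancel₀ hc1]
  have hfsy : ∀ u, fs ⬝ᵥ app y₀ u = c₀ * (fs ⬝ᵥ u) := fun u => by
    obtain ⟨s, t, hst⟩ := Submodule.mem_span_pair.1 (hyL u)
    rw [hfsu, hfsu, ← hst]
    have e : app y₀ (app y₀ u) - app y₀ u = app y₀ (s • v + t • a) := by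
      rw [hst, app, app, app, mulVec_sub]
    rw [e, app_add, app_smul, app_smul, hyv, hya]
    simp only [dotProduct_add, dotProduct_smul, hψ₂v, hψ₂a, smul_eq_mul]
    ring
  -- the functionals of transvections with centre `v`
  have hconj : ∀ f : V, T M v f → ∀ c : F, c ≠ 0 →
      T M v (((f ⬝ᵥ a) * c * c) • fs + c • (f - (f ⬝ᵥ a) • fs)) := by
    intro f hf c hc
    obtain ⟨k, hk⟩ := hpow c hc
    have hykv : ∀ k : ℕ, app (y₀ ^ k) v = (c₀ ^ k)⁻¹ • v := fun k => by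
      induction k with
      | zero => simp [app_one]
      | succ k ih => rw [pow_succ', app_mul, ih, app_smul, hyv, smul_smul, pow_succ, mul_inv]
    have hf0 : ∀ u, (f - (f ⬝ᵥ a) • fs) ⬝ᵥ app y₀ u = (f - (f ⬝ᵥ a) • fs) ⬝ᵥ u := fun u => by
      obtain ⟨s, t, hst⟩ := Submodule.mem_span_pair.1 (hyL u)
      rw [← sub_eq_zero, ← dotProduct_sub, ← hst]
      simp only [dotProduct_add, dotProduct_smul, sub_dotProduct, smul_dotProduct, hf.1, hfsv, hfsa,
        smul_eq_mul]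
      ring
    have hfk : ∀ (k : ℕ) u, f ⬝ᵥ app (y₀ ^ k) u =
        (f ⬝ᵥ a) * c₀ ^ k * (fs ⬝ᵥ u) + (f - (f ⬝ᵥ a) • fs) ⬝ᵥ u := fun k => by
      induction k with
      | zero =>
        intro u
        rw [pow_zero, pow_zero, app_one, sub_dotProduct, smul_dotProduct, smul_eq_mul]; ring
      | succ k ih => intro u; rw [pow_succ, app_mul, ih, hfsy, hf0, pow_succ]; ring
    have := mem_of_conj hM (M.pow_mem hy₀ k) (hykv k) (hk ▸ hc) hf
    convert this using 1
    refine dotProduct_eq _ _ fun u => ?_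
    rw [smul_dotProduct (c₀ ^ k), ← dotProduct_mulVec]
    show _ = (c₀ ^ k) • (f ⬝ᵥ app (y₀ ^ k) u)
    rw [hfk, hk, add_dotProduct, smul_dotProduct, smul_dotProduct, smul_eq_mul, smul_eq_mul,
      smul_eq_mul]
    ring
  -- two rational functionals
  have hout : ∀ S : Submodule F V, Module.finrank F S ≤ 2 →
      ∃ j, j ≠ i ∧ (Pi.single j 1 : V) ∉ S := by
    intro S hS
    by_contra hc
    push Not at hc
    have hli : LinearIndependent F (fun j : {j : Fin n // j ≠ i} => (⟨_, hc j j.2⟩ : S)) := by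
      refine LinearIndependent.of_comp S.subtype ?_
      have := ((Pi.basisFun F (Fin n)).linearIndependent).comp
        (Subtype.val : {j : Fin n // j ≠ i} → Fin n) Subtype.val_injective
      convert this using 1
      funext j
      simp
    have := hli.fintype_card_le_finrank
    rw [Fintype.card_subtype_compl, Fintype.card_fin, Fintype.card_subtype_eq] at this
    omega
  obtain ⟨j₁, hj₁, hj₁'⟩ := hout (Submodule.span F {fs}) ((finrank_span_le_card _).trans (by simp))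
  obtain ⟨j₂, hj₂, hj₂'⟩ := hout (Submodule.span F {fs, Pi.single j₁ 1})
    ((finrank_span_le_card _).trans (by
      rw [Set.toFinset_insert, Set.toFinset_singleton]; exact Finset.card_le_two))
  have hT : ∀ j, j ≠ i → T M v (Pi.single j 1) := fun j hj =>
    T_rat hM (rat_single i) (rat_single j) (by simp [hvdef, hj])
  obtain ⟨h₀, hh₀, hh₀a, hh₀ne⟩ : ∃ f : V, T M v f ∧ f ⬝ᵥ a = 0 ∧ f ≠ 0 := by
    set f₁ : V := Pi.single j₁ 1
    set f₂ : V := Pi.single j₂ 1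
    have e1 : f₁ ⬝ᵥ a = a j₁ := by simp [f₁]
    have e2 : f₂ ⬝ᵥ a = a j₂ := by simp [f₂]
    by_cases h2 : (2 : F) = 0
    · have : CharP F 2 := CharTwo.of_one_ne_zero_of_two_eq_zero one_ne_zero h2
      obtain ⟨c, hc⟩ := (Finite.injective_iff_surjective.1 (frobenius_inj F 2)) (a j₂ / a j₁)
      rw [frobenius_def] at hc
      have hc0 : c ≠ 0 := by
        rintro rfl
        rw [zero_pow two_ne_zero] at hc
        exact div_ne_zero (haj j₂) (haj j₁) hc.symm
      have hT' := T_add (hconj f₁ (hT j₁ hj₁) c hc0) (T_neg (hT j₂ hj₂))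
      rw [e1, show a j₁ * c * c = a j₂ by
        rw [mul_assoc, ← pow_two, hc]; field_simp [haj j₁]] at hT'
      refine ⟨_, hT', ?_, fun hz => hj₂' ?_⟩
      · simp only [add_dotProduct, smul_dotProduct, sub_dotProduct, neg_dotProduct, hfsa, e1, smul_eq_mul]
        change _ + -(f₂ ⬝ᵥ a) = _
        rw [e2]
        ring
      · refine Submodule.mem_span_pair.2 ⟨a j₂ - c * a j₁, c, ?_⟩
        rw [add_neg_eq_zero] at hz
        show _ = f₂
        rw [show f₂ = a j₂ • fs + c • (f₁ - a j₁ • fs) from hz.symm]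
        module
    · have hT' := T_add (hconj f₁ (hT j₁ hj₁) (-1) (by norm_num)) (T_neg (hT j₁ hj₁))
      rw [e1] at hT'
      refine ⟨_, hT', ?_, fun hz => hj₁' ?_⟩
      · simp only [add_dotProduct, smul_dotProduct, sub_dotProduct, neg_dotProduct, hfsa, smul_eq_mul]
        change _ + -(f₁ ⬝ᵥ a) = _
        rw [e1]
        ring
      · refine Submodule.mem_span_singleton.2 ⟨a j₁, ?_⟩
        have e : (2 : F) • (a j₁ • fs - f₁) = 0 := by rw [← hz]; module
        exact sub_eq_zero.1 ((smul_eq_zero.1 e).resolve_left h2)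
  obtain ⟨l, hl⟩ := exists_ne_zero' hh₀ne
  obtain ⟨χ, hχ0, hχ, hχv, hχl⟩ := exists_rat_perp (F₀ := F₀) (by omega : 3 ≤ n) (rat_single i)
    (rat_single l)
  have hall2 : ∀ c : F, c ≠ 0 → c ∈ F₀ := by
    intro c hc
    have hth := hconj h₀ hh₀ (c / h₀ l) (div_ne_zero hc hl)
    rw [hh₀a] at hth
    have := T_comm hth (T_rat hM (rat_single l) hχ hχl) hχv
    simp only [zero_mul, zero_smul, zero_add, sub_zero, smul_dotProduct, dotProduct_single, mul_one, Pi.smul_apply,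
      smul_eq_mul, div_mul_cancel₀ _ hl] at this
    exact mem_of_T hM hr hcard (by omega) hne (rat_single i) (Pi.single_ne_zero_iff.2 one_ne_zero) hχ
      hχ0 this
  have : ∀ x : F, x ∈ F₀ := fun x => by
    by_cases hx : x = 0
    · rw [hx]; exact F₀.zero_mem
    · exact hall2 x hx
  have hle : Nat.card F ≤ Nat.card F₀ :=
    Nat.card_le_card_of_injective (fun x => (⟨x, this x⟩ : F₀)) fun x y e => congrArg Subtype.val e
  have h1 : 1 < Nat.card F₀ := Finite.one_lt_card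
  have : Nat.card F₀ ^ 1 < Nat.card F₀ ^ r := Nat.pow_lt_pow_right h1 hr.one_lt
  rw [pow_one] at this
  omega

/-- Every element of a proper overgroup is a scalar multiple of a rational matrix. -/
theorem exists_scalar (hn : 5 ≤ n) (hne : M ≠ ⊤) {g : SLn} (hg : g ∈ M) :
    ∃ c : F, c ≠ 0 ∧ ∀ i j, g.1 i j / c ∈ F₀ := by
  have hn0 : 0 < n := by omega
  obtain ⟨j₀, hj₀⟩ := exists_ne_zero' (app_ne_zero g
    (Pi.single_ne_zero_iff.2 one_ne_zero : (Pi.single (⟨0, hn0⟩ : Fin n) (1 : F) : V) ≠ 0))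
  have happ : ∀ i j, app g (Pi.single i 1) j = g.1 j i := fun i j => by
    simp [app, mulVec_single_one, Matrix.col_apply]
  rw [happ] at hj₀
  refine ⟨g.1 j₀ ⟨0, hn0⟩, hj₀, fun j i => ?_⟩
  obtain ⟨χ, hχ0, hχ, h1, h2⟩ := exists_rat_perp (by omega : 3 ≤ n) (rat_single (⟨0, hn0⟩ : Fin n))
    (rat_single (F₀ := F₀) i)
  have key : ∀ k : Fin n, χ ⬝ᵥ Pi.single k 1 = 0 → ∀ l m, g.1 l k * (χ ᵥ* (g⁻¹).1) m ∈ F₀ := by
    intro k hk l m
    obtain ⟨e, hm⟩ := T_rat hM (rat_single k) hχ hk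
    have hT : T M (app g (Pi.single k 1)) (χ ᵥ* (g⁻¹).1) :=
      ⟨by rw [← dotProduct_mulVec]; show χ ⬝ᵥ app g⁻¹ (app g _) = 0; rw [app_inv, hk],
        conj_tv g e ▸ M.mul_mem (M.mul_mem hg hm) (M.inv_mem hg)⟩
    have hψ0 : χ ᵥ* (g⁻¹).1 ≠ 0 := fun h0 => hχ0 (by
      refine dotProduct_eq_zero _ fun v => ?_
      rw [← app_inv g v, app, dotProduct_mulVec, h0, zero_dotProduct])
    obtain ⟨φ, hφ0, hφ, hφa⟩ := exists_perp hM hr hcard hn hne hψ0 hT
    have := rational_of_perp hM hr hcard (by omega) hne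
      (app_ne_zero g (Pi.single_ne_zero_iff.2 one_ne_zero)) hψ0 hT hφ hφ0 hφa l m
    rwa [happ] at this
  obtain ⟨m, hm⟩ := exists_ne_zero' (show χ ᵥ* (g⁻¹).1 ≠ 0 from fun h0 => hχ0 (by
      refine dotProduct_eq_zero _ fun v => ?_
      rw [← app_inv g v, app, dotProduct_mulVec, h0, zero_dotProduct]))
  have := F₀.div_mem (key i h2 j m) (key ⟨0, hn0⟩ h1 j₀ m)
  rwa [mul_div_mul_right _ _ hm] at this

omit hM hr hcard

/-- Matrices which are scalar multiples of matrices over the subfield. -/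
theorem mem_subfield_one {g : GL (Fin n) F} :
    g ∈ Cfsg.Geo.subfieldSubgroup F₀ 1 ↔ ∃ c : F, c ≠ 0 ∧ ∀ i j, g.1 i j / c ∈ F₀ := by
  constructor
  · rintro ⟨N, hN, rfl⟩
    obtain ⟨A, ⟨A₀, rfl⟩, S, hS, rfl⟩ := Subgroup.mem_sup_of_normal_right.1 hN
    obtain ⟨c, hc⟩ := (Cfsg.Geo.mem_scalars_iff S).1 hS
    refine ⟨c, c.ne_zero, fun i j => ?_⟩
    simp only [MulEquiv.coe_toMonoidHom, MulAut.conj_apply, one_mul, inv_one, mul_one, Units.val_mul, hc]
    simp
  · rintro ⟨c, hc, h⟩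
    let N₀ : Matrix (Fin n) (Fin n) F₀ := fun i j => ⟨_, h i j⟩
    have hN : N₀.map F₀.subtype = c⁻¹ • g.1 := by
      ext i j
      show g.1 i j / c = c⁻¹ * g.1 i j
      rw [div_eq_inv_mul]
    have hdet : N₀.det ≠ 0 := fun e => by
      have h1 := RingHom.map_det F₀.subtype N₀
      rw [e, map_zero, RingHom.mapMatrix_apply, hN, Matrix.det_smul] at h1
      exact mul_ne_zero (pow_ne_zero _ (inv_ne_zero hc)) (GeneralLinearGroup.det g).ne_zero h1.symm
    let S : GL (Fin n) F := Units.map (Matrix.scalar (Fin n) : F →+* _).toMonoidHom (Units.mk0 c hc)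
    refine ⟨GeneralLinearGroup.map F₀.subtype (GeneralLinearGroup.mkOfDetNeZero N₀ hdet) * S,
      Subgroup.mul_mem_sup ⟨_, rfl⟩ ⟨_, rfl⟩, ?_⟩
    simp only [MulEquiv.coe_toMonoidHom, MulAut.conj_apply, one_mul, inv_one, mul_one]
    refine Units.ext ?_
    show N₀.map F₀.subtype * Matrix.scalar (Fin n) c = g.1
    rw [hN, Matrix.scalar_apply, ← Matrix.smul_one_eq_diagonal, Matrix.mul_smul, mul_one, smul_smul,
      mul_inv_cancel₀ hc, one_smul]

theorem isMaximalIn_map {G : Type*} [Group G] {K H : Subgroup G} (h : Cfsg.Geo.IsMaximalIn K H)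
    (e : G ≃* G) : Cfsg.Geo.IsMaximalIn (K.map e.toMonoidHom) (H.map e.toMonoidHom) := by
  have hback : ∀ L : Subgroup G, (L.map e.symm.toMonoidHom).map e.toMonoidHom = L := fun L => by
    rw [Subgroup.map_map, show e.toMonoidHom.comp e.symm.toMonoidHom = MonoidHom.id G from
      MonoidHom.ext fun x => e.apply_symm_apply x, Subgroup.map_id]
  have hfwd : ∀ L : Subgroup G, (L.map e.toMonoidHom).map e.symm.toMonoidHom = L := fun L => by
    rw [Subgroup.map_map, show e.symm.toMonoidHom.comp e.toMonoidHom = MonoidHom.id G from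
      MonoidHom.ext fun x => e.symm_apply_apply x, Subgroup.map_id]
  refine ⟨(Subgroup.map_lt_map_iff_of_injective e.injective).2 h.1, fun M hM hM' => ?_⟩
  rcases h.2 (M.map e.symm.toMonoidHom) (hfwd H ▸ Subgroup.map_mono hM)
    (hfwd K ▸ Subgroup.map_mono hM') with hh | hh
  · exact Or.inl (by rw [← hh, hback])
  · exact Or.inr (by rw [← hh, hback])

include hr hcard

theorem isMaximalIn_subfield (hn : 5 ≤ n) (P : GL (Fin n) F) :
    Cfsg.Geo.IsMaximalIn (Cfsg.Geo.specialLinear (Fin n) F)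
      (Cfsg.Geo.subfieldSubgroup F₀ P ⊓ Cfsg.Geo.specialLinear (Fin n) F) := by
  have hK : (Cfsg.Geo.specialLinear (Fin n) F).map (MulAut.conj P).toMonoidHom =
      Cfsg.Geo.specialLinear (Fin n) F := by
    refine le_antisymm ?_ fun g hg => ⟨P⁻¹ * g * P, ?_, by simp [mul_assoc]⟩
    · rintro _ ⟨g, hg, rfl⟩
      exact (MonoidHom.normal_ker _).conj_mem g hg P
    · have h := (MonoidHom.normal_ker (Matrix.GeneralLinearGroup.det : GL (Fin n) F →* Fˣ)).conj_mem g hg P⁻¹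
      rwa [inv_inv] at h
  have hP : Cfsg.Geo.subfieldSubgroup F₀ P ⊓ Cfsg.Geo.specialLinear (Fin n) F =
      (Cfsg.Geo.subfieldSubgroup F₀ 1 ⊓ Cfsg.Geo.specialLinear (Fin n) F).map
        (MulAut.conj P).toMonoidHom := by
    rw [Subgroup.map_inf _ _ _ (MulAut.conj P).injective, hK]
    congr 1
    rw [Cfsg.Geo.subfieldSubgroup, Cfsg.Geo.subfieldSubgroup, Subgroup.map_map]
    congr 1
    ext g; simp
  rw [hP]
  suffices main : Cfsg.Geo.IsMaximalIn (Cfsg.Geo.specialLinear (Fin n) F)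
      (Cfsg.Geo.subfieldSubgroup F₀ 1 ⊓ Cfsg.Geo.specialLinear (Fin n) F) by
    have h2 := isMaximalIn_map main (MulAut.conj P)
    rwa [hK] at h2
  let i₀ : Fin n := ⟨0, by omega⟩
  let i₁ : Fin n := ⟨1, by omega⟩
  have hi : i₀ ≠ i₁ := by simp [i₀, i₁]
  obtain ⟨t, ht⟩ : ∃ t : F, t ∉ F₀ := by
    by_contra hall
    push Not at hall
    have hle : Nat.card F ≤ Nat.card F₀ :=
      Nat.card_le_card_of_injective (fun x => (⟨x, hall x⟩ : F₀)) fun x y e => congrArg Subtype.val e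
    have h1 : 1 < Nat.card F₀ := Finite.one_lt_card
    have : Nat.card F₀ ^ 1 < Nat.card F₀ ^ r := Nat.pow_lt_pow_right h1 hr.one_lt
    rw [pow_one] at this
    omega
  refine ⟨lt_of_le_not_ge inf_le_right fun h => ?_, fun M hM hM' => ?_⟩
  · obtain ⟨c, hc, hh⟩ := mem_subfield_one.1
      (h (mem_specialLinear.2 ⟨SpecialLinearGroup.transvection hi t, rfl⟩)).1
    have h0 := hh i₀ i₀
    have h1 := hh i₀ i₁
    simp only [SpecialLinearGroup.toGL] at h0 h1
    simp [SpecialLinearGroup.transvection_coe, Matrix.add_apply, hi, hi.symm, Matrix.single_apply] at h0 h1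
    refine ht ?_
    have := F₀.mul_mem h1 h0
    simpa [hc] using this
  have hM₁ : ∀ s : SLn, (∀ i j, s.1 i j ∈ F₀) → s ∈ M.comap SpecialLinearGroup.toGL := fun s hs =>
    hM ⟨mem_subfield_one.2 ⟨1, one_ne_zero, fun i j => by rw [div_one]; exact hs i j⟩,
      mem_specialLinear.2 ⟨s, rfl⟩⟩
  by_cases htop : M.comap SpecialLinearGroup.toGL = ⊤
  · refine Or.inr (le_antisymm hM' fun g hg => ?_)
    obtain ⟨s, rfl⟩ := mem_specialLinear.1 hg
    exact (show s ∈ M.comap SpecialLinearGroup.toGL from htop ▸ Subgroup.mem_top s)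
  · refine Or.inl (le_antisymm (fun g hg => ?_) hM)
    obtain ⟨s, rfl⟩ := mem_specialLinear.1 (hM' hg)
    exact ⟨mem_subfield_one.2 (exists_scalar hM₁ hr hcard hn htop hg), mem_specialLinear.2 ⟨s, rfl⟩⟩

end CfsgLib.Classical.MinIndex.Subfield
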