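import Cfsg.Agent.Lib.Classical.SympPair
import Cfsg.Agent.Lib.Classical.LinearSubfield
import Cfsg.Agent.Lib.SL2.DicksonSL2

/-!
Subfield subgroups of the symplectic group are maximal, for every prime degree.
-/

set_option autoImplicit false
set_option linter.unusedSectionVars false

namespace CfsgLib.Classical.SympSubfield

open Matrix Cfsg CfsgLib.Classical.SympTrans CfsgLib.Classical.SympStab
open CfsgLib.Classical.SympPair (E_comm E_smul E_mul E_self conj_E)
open scoped MatrixGroups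

variable {F : Type*} [Field F] [Finite F] {m : ℕ}

local notation "ι" => Fin m ⊕ Fin m
local notation "V" => (Fin m ⊕ Fin m → F)
local notation "G" => Matrix.symplecticGroup (Fin m) F
local notation "ω" => sympForm m F

variable (F₀ : Subfield F) (P : GL (Fin m ⊕ Fin m) F) (ζ : F)

/-- The normalised form. -/
def fz (x y : Fin m ⊕ Fin m → F) : F := ζ * sympForm m F x y

/-- The vectors with coordinates in the subfield, for the basis of columns of `P`. -/
def R (x : Fin m ⊕ Fin m → F) : Prop := ∀ i, (((P⁻¹ : GL ι F) : Matrix ι ι F) *ᵥ x) i ∈ F₀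

/-- The transvection `x ↦ x + s fz(x, v) v`. -/
def T1 (v : Fin m ⊕ Fin m → F) (s : F) : Matrix.symplecticGroup (Fin m) F := T v (ζ * s)

/-- The element `x ↦ x + c (fz(x, a) b + fz(x, b) a)`. -/
def E1 (a b : Fin m ⊕ Fin m → F) (c : F) : Matrix.symplecticGroup (Fin m) F := E ((ζ * c) • a) b

variable {F₀ P ζ}

theorem fz_self (x : V) : fz ζ x x = 0 := by rw [fz, f_self, mul_zero]

theorem fz_swap (x y : V) : fz ζ y x = -fz ζ x y := by rw [fz, fz, f_swap, mul_neg]

theorem fz_swap0 {x y : V} (h : fz ζ x y = 0) : fz ζ y x = 0 := by rw [fz_swap, h, neg_zero]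

theorem fz_add_left (x y z : V) : fz ζ (x + y) z = fz ζ x z + fz ζ y z := by
  rw [fz, fz, fz, f_add_left, mul_add]

theorem fz_add_right (x y z : V) : fz ζ x (y + z) = fz ζ x y + fz ζ x z := by
  rw [fz, fz, fz, f_add_right, mul_add]

theorem fz_sub_left (x y z : V) : fz ζ (x - y) z = fz ζ x z - fz ζ y z := by
  rw [fz, fz, fz, f_sub_left, mul_sub]

theorem fz_sub_right (x y z : V) : fz ζ x (y - z) = fz ζ x y - fz ζ x z := by
  rw [fz, fz, fz, f_sub_right, mul_sub]

theorem fz_smul_left (c : F) (x y : V) : fz ζ (c • x) y = c * fz ζ x y := by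
  rw [fz, fz, f_smul_left]; ring

theorem fz_smul_right (c : F) (x y : V) : fz ζ x (c • y) = c * fz ζ x y := by
  rw [fz, fz, f_smul_right]; ring

theorem fz_zero_left (y : V) : fz ζ 0 y = 0 := by rw [fz, f_zero_left, mul_zero]

theorem fz_zero_right (y : V) : fz ζ y 0 = 0 := by rw [fz, f_zero_right, mul_zero]

theorem fz_app (g : G) (x y : V) : fz ζ (app g x) (app g y) = fz ζ x y := by rw [fz, fz, f_app]

theorem ω_of_fz (hζ : ζ ≠ 0) {x y : V} (h : fz ζ x y = 0) : ω x y = 0 :=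
  (mul_eq_zero.1 h).resolve_left hζ

theorem app_T1 (v : V) (s : F) (x : V) : app (T1 ζ v s) x = x + (s * fz ζ x v) • v := by
  rw [T1, app_T, fz]; congr 2; ring

theorem T1_mul (v : V) (s t : F) : T1 ζ v s * T1 ζ v t = T1 ζ v (s + t) := by
  rw [T1, T1, T1, T_mul, mul_add]

theorem T1_zero (v : V) : T1 ζ v 0 = 1 := by rw [T1, mul_zero, T_zero]

theorem T1_smul (v : V) (a s : F) : T1 ζ (a • v) s = T1 ζ v (a * a * s) := by
  rw [T1, T1, T_smul]; congr 1; ring

theorem conj_T1 (g : G) (v : V) (s : F) : g * T1 ζ v s * g⁻¹ = T1 ζ (app g v) s := conj_T g v _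

theorem inv_T1 (v : V) (s : F) : (T1 ζ v s)⁻¹ = T1 ζ v (-s) :=
  inv_eq_of_mul_eq_one_right (by rw [T1_mul, add_neg_cancel, T1_zero])

theorem app_E1 {a b : V} (h : ω a b = 0) (c : F) (x : V) :
    app (E1 ζ a b c) x = x + (c * fz ζ x a) • b + (c * fz ζ x b) • a := by
  rw [E1, app_E (by rw [f_smul_left, h, mul_zero]), f_smul_right, fz, fz, smul_smul]
  congr 2
  · congr 1; ring
  · ring

theorem E1_comm {a b : V} (h : ω a b = 0) (c : F) : E1 ζ a b c = E1 ζ b a c :=
  ext_app fun x => by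
    rw [app_E1 h, app_E1 (by rw [f_swap, h, neg_zero]), add_right_comm]

theorem conj_E1 (g : G) {a b : V} (h : ω a b = 0) (c : F) :
    g * E1 ζ a b c * g⁻¹ = E1 ζ (app g a) (app g b) c := by
  rw [E1, E1, conj_E g (by rw [f_smul_left, h, mul_zero]), app_smul]

theorem E1_smul {a b : V} (k c : F) : E1 ζ (k • a) b c = E1 ζ a b (k * c) := by
  rw [E1, E1, smul_smul]; congr 2; ring

theorem E1_self (b : V) (c : F) : E1 ζ b b c = T1 ζ b (2 * c) := by
  rw [E1, E_self, T1]; congr 1; ring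

theorem E1_mul {a a' b : V} (h : ω a b = 0) (h' : ω a' b = 0) (c : F) :
    E1 ζ a b c * E1 ζ a' b c = E1 ζ (a + a') b c * T1 ζ b (c * c * fz ζ a' a) := by
  rw [E1, E1, E_mul (by rw [f_smul_left, h, mul_zero]) (by rw [f_smul_left, h', mul_zero]), E1,
    smul_add, T1]
  congr 2
  rw [f_smul_left, f_smul_right, fz]; ring

theorem E1_eq_T1 {a b : V} (h : ω a b = 0) (c : F) :
    E1 ζ a b c = T1 ζ (a + b) c * T1 ζ a (-c) * T1 ζ b (-c) := by
  refine ext_app fun x => ?_
  have hab : fz ζ a b = 0 := by rw [fz, h, mul_zero]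
  have hba : fz ζ b a = 0 := fz_swap0 hab
  simp only [app_E1 h, app_mul, app_T1, fz_add_left, fz_add_right, fz_smul_left, fz_self, hab, hba]
  module

/-- The data of a rational structure. -/
structure Data (F₀ : Subfield F) (P : GL (Fin m ⊕ Fin m) F) (ζ : F) : Prop where
  zeta : ζ ≠ 0
  rational : Cfsg.Geo.IsFormRationalStructure (sympForm m F) F₀ ζ P
  two_le : 2 ≤ m

theorem R_add {x y : V} (hx : R F₀ P x) (hy : R F₀ P y) : R F₀ P (x + y) := fun i => by
  rw [mulVec_add]; exact F₀.add_mem (hx i) (hy i)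

theorem R_sub {x y : V} (hx : R F₀ P x) (hy : R F₀ P y) : R F₀ P (x - y) := fun i => by
  rw [mulVec_sub]; exact F₀.sub_mem (hx i) (hy i)

theorem R_smul {c : F} (hc : c ∈ F₀) {x : V} (hx : R F₀ P x) : R F₀ P (c • x) := fun i => by
  rw [mulVec_smul]; exact F₀.mul_mem hc (hx i)

theorem R_mulVec {u : V} (hu : ∀ i, u i ∈ F₀) : R F₀ P ((P : Matrix ι ι F) *ᵥ u) := fun i => by
  rw [mulVec_mulVec, Units.inv_mul, one_mulVec]; exact hu i

theorem R_exists {x : V} (hx : R F₀ P x) :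
    ∃ u : V, (∀ i, u i ∈ F₀) ∧ (P : Matrix ι ι F) *ᵥ u = x :=
  ⟨_, hx, by rw [mulVec_mulVec, Units.mul_inv, one_mulVec]⟩

/-- A column of `P`. -/
def col (P : GL (Fin m ⊕ Fin m) F) (j : Fin m ⊕ Fin m) : Fin m ⊕ Fin m → F :=
  (P : Matrix ι ι F) *ᵥ Pi.single j 1

theorem R_col (j : ι) : R F₀ P (col P j) := R_mulVec fun i => by
  rcases eq_or_ne i j with rfl | h
  · simp
  · rw [Pi.single_eq_of_ne h]; exact F₀.zero_mem

theorem fz_mem (D : Data F₀ P ζ) {x y : V} (hx : R F₀ P x) (hy : R F₀ P y) : fz ζ x y ∈ F₀ := by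
  obtain ⟨u, hu, rfl⟩ := R_exists hx
  obtain ⟨v, hv, rfl⟩ := R_exists hy
  exact D.rational u v hu hv

theorem mulVec_eq_cols (u : V) : (P : Matrix ι ι F) *ᵥ u = ∑ j, u j • col P j := by
  conv_lhs => rw [pi_eq_sum_univ' u, mulVec_sum]
  exact Finset.sum_congr rfl fun j _ => by rw [mulVec_smul, col]

theorem inv_col (j : ι) : ((P⁻¹ : GL ι F) : Matrix ι ι F) *ᵥ col P j = Pi.single j 1 := by
  rw [col, mulVec_mulVec, Units.inv_mul, one_mulVec]

theorem fz_expand (x u : V) :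
    fz ζ x ((P : Matrix ι ι F) *ᵥ u) = ∑ j, fz ζ x (col P j) * u j := by
  let L : V →ₗ[F] F :=
    { toFun := fz ζ x
      map_add' := fz_add_right x
      map_smul' := fun c y => fz_smul_right c x y }
  show L _ = ∑ j, L (col P j) * u j
  rw [mulVec_eq_cols, map_sum]
  exact Finset.sum_congr rfl fun j _ => by rw [map_smul, smul_eq_mul, mul_comm]

theorem eq_zero_of_cols (hζ : ζ ≠ 0) {x : V} (h : ∀ j, fz ζ x (col P j) = 0) : x = 0 := by
  refine eq_zero_of_f x fun v => ω_of_fz hζ ?_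
  rw [show v = (P : Matrix ι ι F) *ᵥ (((P⁻¹ : GL ι F) : Matrix ι ι F) *ᵥ v) by
    rw [mulVec_mulVec, Units.mul_inv, one_mulVec], fz_expand]
  exact Finset.sum_eq_zero fun j _ => by rw [h, zero_mul]

theorem eq_zero_of_R (hζ : ζ ≠ 0) {x : V} (h : ∀ y, R F₀ P y → fz ζ x y = 0) : x = 0 :=
  eq_zero_of_cols hζ fun j => h _ (R_col j)

/-- The evaluation of rational vectors against a list. -/
noncomputable def evalMap (D : Data F₀ P ζ) {k : ℕ} (r : Fin k → (Fin m ⊕ Fin m → F))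
    (hr : ∀ i, R F₀ P (r i)) : (Fin m ⊕ Fin m → F₀) →ₗ[F₀] (Fin k → F₀) :=
  (Matrix.of fun i j => (⟨fz ζ (r i) (col P j), fz_mem D (hr i) (R_col j)⟩ : F₀)).mulVecLin

theorem evalMap_apply (D : Data F₀ P ζ) {k : ℕ} (r : Fin k → V) (hr : ∀ i, R F₀ P (r i))
    (u : ι → F₀) (i : Fin k) :
    ((evalMap D r hr u i : F₀) : F) = fz ζ (r i) ((P : Matrix ι ι F) *ᵥ fun j => (u j : F)) := by
  rw [fz_expand]
  simp [evalMap, Matrix.mulVec, dotProduct]

theorem exists_perp (D : Data F₀ P ζ) {k : ℕ} (hk : k < 2 * m) (r : Fin k → V)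
    (hr : ∀ i, R F₀ P (r i)) : ∃ z, z ≠ 0 ∧ R F₀ P z ∧ ∀ i, fz ζ (r i) z = 0 := by
  obtain ⟨u, hu, hu0⟩ : ∃ u, evalMap D r hr u = 0 ∧ u ≠ 0 := by
    by_contra hall
    push Not at hall
    have := LinearMap.finrank_le_finrank_of_injective
      ((injective_iff_map_eq_zero (evalMap D r hr)).2 hall)
    simp at this
    omega
  refine ⟨(P : Matrix ι ι F) *ᵥ fun j => (u j : F), fun h => hu0 (funext fun j => Subtype.ext ?_),
    R_mulVec fun j => (u j).2, fun i => by rw [← evalMap_apply D r hr, hu]; rfl⟩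
  have := congrFun (congrArg (((P⁻¹ : GL ι F) : Matrix ι ι F) *ᵥ ·) h) j
  simpa [mulVec_mulVec] using this

theorem exists_dual (D : Data F₀ P ζ) {k : ℕ} (r : Fin k → V) (hr : ∀ i, R F₀ P (r i))
    (hli : ∀ c : Fin k → F, ∑ i, c i • r i = 0 → c = 0) (s : Fin k → F) (hs : ∀ i, s i ∈ F₀) :
    ∃ z, R F₀ P z ∧ ∀ i, fz ζ (r i) z = s i := by
  have hsurj : LinearMap.range (evalMap D r hr) = ⊤ := by
    by_contra hne
    obtain ⟨φ, hφ0, hφ⟩ :=
      Submodule.exists_dual_map_eq_bot_of_lt_top (lt_top_iff_ne_top.2 hne) inferInstance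
    have hker : ∀ u, φ (evalMap D r hr u) = 0 := fun u => by
      have : φ (evalMap D r hr u) ∈ (LinearMap.range (evalMap D r hr)).map φ :=
        Submodule.mem_map_of_mem (LinearMap.mem_range_self _ u)
      rw [hφ] at this
      exact (Submodule.mem_bot _).1 this
    have hc := hli (fun i => (φ (Pi.single i 1) : F)) (eq_zero_of_cols D.zeta fun j => by
      have h := congrArg (fun z : F₀ => (z : F)) (hker (Pi.single j 1))
      rw [pi_eq_sum_univ' (evalMap D r hr (Pi.single j 1)), map_sum] at h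
      simp only [map_smul, smul_eq_mul, AddSubmonoidClass.coe_finsetSum, MulMemClass.coe_mul,
        evalMap_apply, ZeroMemClass.coe_zero] at h
      rw [← h]
      simp only [fz, sympForm, sum_dotProduct, smul_dotProduct, smul_eq_mul, Finset.mul_sum]
      refine Finset.sum_congr rfl fun i _ => ?_
      rw [show (fun k => ((Pi.single j (1 : F₀) : ι → F₀) k : F)) = Pi.single j 1 from funext fun k => by
        rcases eq_or_ne k j with rfl | hk
        · simp
        · simp [Pi.single_eq_of_ne hk]]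
      simp only [col]
      ring)
    refine hφ0 (LinearMap.ext fun y => ?_)
    rw [pi_eq_sum_univ' y, map_sum]
    refine (Finset.sum_eq_zero fun i _ => ?_).trans rfl
    rw [map_smul, show φ (Pi.single i 1) = 0 from Subtype.ext (congrFun hc i), smul_zero]
  obtain ⟨u, hu⟩ := LinearMap.range_eq_top.1 hsurj fun i => ⟨s i, hs i⟩
  exact ⟨(P : Matrix ι ι F) *ᵥ fun j => (u j : F), R_mulVec fun j => (u j).2,
    fun i => by rw [← evalMap_apply D r hr, hu]⟩

theorem exists_partner (D : Data F₀ P ζ) {x : V} (hx : R F₀ P x) (hx0 : x ≠ 0) :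
    ∃ x', R F₀ P x' ∧ fz ζ x x' = 1 := by
  obtain ⟨z, hz, hv⟩ := exists_dual D ![x] (fun i => by fin_cases i; exact hx) (fun c hc => by
    simp at hc
    exact funext fun i => by fin_cases i; exact hc.resolve_right hx0) (fun _ => 1) fun _ => F₀.one_mem
  exact ⟨z, hz, hv 0⟩

/-- Two orthogonal rational hyperbolic pairs. -/
structure Pairs (F₀ : Subfield F) (P : GL (Fin m ⊕ Fin m) F) (ζ : F)
    (v v' x x' : Fin m ⊕ Fin m → F) : Prop where
  rv : R F₀ P v
  rv' : R F₀ P v'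
  rx : R F₀ P x
  rx' : R F₀ P x'
  vv : fz ζ v v' = 1
  xx : fz ζ x x' = 1
  vx : fz ζ v x = 0
  v'x : fz ζ v' x = 0
  vx' : fz ζ v x' = 0
  v'x' : fz ζ v' x' = 0

theorem exists_pairs (D : Data F₀ P ζ) {v : V} (hv : R F₀ P v) (hv0 : v ≠ 0) :
    ∃ v' x x', Pairs F₀ P ζ v v' x x' := by
  have hm := D.two_le
  obtain ⟨v', hv', h1⟩ := exists_partner D hv hv0
  obtain ⟨x, hx0, hx, hxp⟩ := exists_perp D (by omega : 2 < 2 * m) ![v, v']
    (fun i => by fin_cases i <;> assumption)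
  have a1 : fz ζ v x = 0 := hxp 0
  have a2 : fz ζ v' x = 0 := hxp 1
  obtain ⟨x', hx', hxd⟩ := exists_dual D ![v, v', x] (fun i => by fin_cases i <;> assumption)
    (fun c hc => by
      simp [Fin.sum_univ_succ] at hc
      have e1 := congrArg (fun z => fz ζ z v') hc
      have e2 := congrArg (fun z => fz ζ z v) hc
      simp [fz_add_left, fz_smul_left, fz_zero_left, fz_self, h1, fz_swap v v', fz_swap v' x,
        fz_swap v x, a1, a2] at e1 e2
      rw [e1, e2, zero_smul, zero_smul, zero_add, zero_add, smul_eq_zero] at hc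
      exact funext fun i => by
        fin_cases i
        · exact e1
        · exact e2
        · exact hc.resolve_right hx0)
    ![0, 0, 1] (fun i => by fin_cases i <;> simp [F₀.zero_mem, F₀.one_mem])
  have b1 : fz ζ v x' = 0 := hxd 0
  have b2 : fz ζ v' x' = 0 := hxd 1
  have b3 : fz ζ x x' = 1 := hxd 2
  exact ⟨v', x, x', ⟨hv, hv', hx, hx', h1, b3, a1, a2, b1, b2⟩⟩

variable {M : Subgroup (Matrix.symplecticGroup (Fin m) F)}
  (hM : ∀ (v : Fin m ⊕ Fin m → F) (s : F), R F₀ P v → s ∈ F₀ → T1 ζ v s ∈ M)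

include hM

theorem E1_rat {a b : V} (hζ : ζ ≠ 0) (ha : R F₀ P a) (hb : R F₀ P b) (h : fz ζ a b = 0) {s : F}
    (hs : s ∈ F₀) : E1 ζ a b s ∈ M := by
  rw [E1_eq_T1 (ω_of_fz hζ h)]
  exact M.mul_mem (M.mul_mem (hM _ _ (R_add ha hb) hs) (hM _ _ ha (F₀.neg_mem hs)))
    (hM _ _ hb (F₀.neg_mem hs))

/-- Rational transvections move rational vectors around. -/
theorem exists_move_R (D : Data F₀ P ζ) {v u : V} (hv : R F₀ P v) (hu : R F₀ P u) (hv0 : v ≠ 0)
    (hu0 : u ≠ 0) : ∃ g ∈ M, app g v = u := by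
  have step : ∀ a b : V, R F₀ P a → R F₀ P b → fz ζ a b ≠ 0 → ∃ g ∈ M, app g a = b :=
    fun a b ha hb h => ⟨T1 ζ (b - a) (fz ζ a b)⁻¹,
      hM _ _ (R_sub hb ha) (F₀.inv_mem (fz_mem D ha hb)), by
        rw [app_T1, fz_sub_right, fz_self, sub_zero, inv_mul_cancel₀ h, one_smul, add_sub_cancel]⟩
  obtain ⟨v', hv', h1⟩ := exists_partner D hv hv0
  obtain ⟨u', hu', h2⟩ := exists_partner D hu hu0
  obtain ⟨z, hz, ha, hb⟩ : ∃ z, R F₀ P z ∧ fz ζ v z ≠ 0 ∧ fz ζ u z ≠ 0 := by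
    by_cases e1 : fz ζ u v' = 0
    · by_cases e2 : fz ζ v u' = 0
      · exact ⟨v' + u', R_add hv' hu', by rw [fz_add_right, h1, e2, add_zero]; exact one_ne_zero,
          by rw [fz_add_right, e1, h2, zero_add]; exact one_ne_zero⟩
      · exact ⟨u', hu', e2, by rw [h2]; exact one_ne_zero⟩
    · exact ⟨v', hv', by rw [h1]; exact one_ne_zero, e1⟩
  obtain ⟨g, hg, hgv⟩ := step v z hv hz ha
  obtain ⟨g', hg', hgz⟩ := step z u hz hu (by rw [fz_swap]; exact neg_ne_zero.2 hb)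
  exact ⟨g' * g, M.mul_mem hg' hg, by rw [app_mul, hgv, hgz]⟩

theorem transfer (D : Data F₀ P ζ) {v u : V} (hv : R F₀ P v) (hu : R F₀ P u) (hv0 : v ≠ 0)
    (hu0 : u ≠ 0) {c : F} (h : T1 ζ v c ∈ M) : T1 ζ u c ∈ M := by
  obtain ⟨g, hg, rfl⟩ := exists_move_R hM D hv hu hv0 hu0
  rw [← conj_T1]
  exact M.mul_mem (M.mul_mem hg h) (M.inv_mem hg)

/-- A short root element gives the long root element with squared parameter. -/
theorem sq_of_E1 (D : Data F₀ P ζ) {v v' x x' : V} (Hp : Pairs F₀ P ζ v v' x x') {c : F}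
    (h : E1 ζ v x c ∈ M) : T1 ζ v (c * c) ∈ M := by
  have hω := fun {a b : V} (hab : fz ζ a b = 0) => ω_of_fz D.zeta hab
  have hxv := fz_swap0 Hp.vx
  have hx'v := fz_swap0 Hp.vx'
  have k1 : app (T1 ζ x' 1) v = v := by rw [app_T1, Hp.vx', mul_zero, zero_smul, add_zero]
  have k2 : app (T1 ζ x' 1) x = x + x' := by rw [app_T1, Hp.xx, mul_one, one_smul]
  have k3 : app (T1 ζ (x' - x) 1) v = v := by
    rw [app_T1, fz_sub_right, Hp.vx', Hp.vx, sub_zero, mul_zero, zero_smul, add_zero]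
  have k4 : app (T1 ζ (x' - x) 1) x = x' := by
    rw [app_T1, fz_sub_right, Hp.xx, fz_self, sub_zero, mul_one, one_smul, add_sub_cancel]
  have hmem : ∀ g ∈ M, ∀ a, app g v = v → app g x = a → E1 ζ v a c ∈ M := fun g hg a e1 e2 => by
    rw [← e1, ← e2, ← conj_E1 g (hω Hp.vx)]
    exact M.mul_mem (M.mul_mem hg h) (M.inv_mem hg)
  have h1 := hmem _ (hM _ _ Hp.rx' F₀.one_mem) _ k1 k2
  have h2 := hmem _ (hM _ _ (R_sub Hp.rx' Hp.rx) F₀.one_mem) _ k3 k4
  have hsum := E1_mul (ζ := ζ) (a := x) (a' := x') (b := v) (hω hxv) (hω hx'v) c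
  rw [fz_swap x x', Hp.xx] at hsum
  rw [E1_comm (hω Hp.vx)] at h
  rw [E1_comm (hω Hp.vx')] at h2
  rw [E1_comm (hω (show fz ζ v (x + x') = 0 by rw [fz_add_right, Hp.vx, Hp.vx', add_zero]))] at h1
  have hT : T1 ζ v (c * c * -1) ∈ M := by
    have := M.mul_mem (M.inv_mem h1) (M.mul_mem h h2)
    rwa [hsum, inv_mul_cancel_left] at this
  have := M.inv_mem hT
  rwa [inv_T1, mul_neg, mul_one, neg_neg] at this

theorem sq_of_T1 (D : Data F₀ P ζ) {v : V} (hv : R F₀ P v) (hv0 : v ≠ 0) {c : F}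
    (h : T1 ζ v c ∈ M) : T1 ζ v (c * c) ∈ M := by
  obtain ⟨v', x, x', Hp⟩ := exists_pairs D hv hv0
  have hx0 : x ≠ 0 := fun e => by
    have := Hp.xx; rw [e, fz_zero_left] at this; exact zero_ne_one this
  have hvx : v + x ≠ 0 := fun e => by
    have := congrArg (fz ζ · v') e
    simp [fz_add_left, fz_zero_left, Hp.vv, fz_swap v' x, Hp.v'x] at this
  refine sq_of_E1 hM D Hp ?_
  rw [E1_eq_T1 (ω_of_fz D.zeta Hp.vx)]
  refine M.mul_mem (M.mul_mem (transfer hM D hv (R_add hv Hp.rx) hv0 hvx h) ?_) ?_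
  · exact inv_T1 v c ▸ M.inv_mem h
  · exact inv_T1 x c ▸ M.inv_mem (transfer hM D hv Hp.rx hv0 hx0 h)

omit hM in
/-- The elements acting on a plane as prescribed and fixing its orthogonal. -/
def Plane (ζ : F) (M : Subgroup (Matrix.symplecticGroup (Fin m) F))
    (a b : Fin m ⊕ Fin m → F) (S : SL(2, F)) : Prop :=
  ∃ x ∈ M, app x a = S.1 0 0 • a + S.1 1 0 • b ∧ app x b = S.1 0 1 • a + S.1 1 1 • b ∧
    ∀ u, fz ζ u a = 0 → fz ζ u b = 0 → app x u = u

omit hM in
/-- The group induced on a plane. -/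
theorem exists_plane (ζ : F) (M : Subgroup (Matrix.symplecticGroup (Fin m) F)) (a b : V) :
    ∃ H : Subgroup SL(2, F), ∀ S, S ∈ H ↔ Plane ζ M a b S := by
  have hmul : ∀ S S', Plane ζ M a b S → Plane ζ M a b S' → Plane ζ M a b (S * S') := by
    rintro S S' ⟨x, hx, h1, h2, h3⟩ ⟨x', hx', h1', h2', h3'⟩
    refine ⟨x * x', M.mul_mem hx hx', ?_, ?_, fun u hu hu' => ?_⟩
    · rw [app_mul, h1', app_add, app_smul, app_smul, h1, h2, Matrix.SpecialLinearGroup.coe_mul,
        Matrix.mul_apply, Matrix.mul_apply, Fin.sum_univ_two, Fin.sum_univ_two]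
      module
    · rw [app_mul, h2', app_add, app_smul, app_smul, h1, h2, Matrix.SpecialLinearGroup.coe_mul,
        Matrix.mul_apply, Matrix.mul_apply, Fin.sum_univ_two, Fin.sum_univ_two]
      module
    · rw [app_mul, h3' u hu hu', h3 u hu hu']
  have hone : Plane ζ M a b 1 :=
    ⟨1, M.one_mem, by simp [app_one], by simp [app_one], fun u _ _ => app_one u⟩
  have hpow : ∀ S, Plane ζ M a b S → ∀ k : ℕ, Plane ζ M a b (S ^ k) := fun S hS k => by
    induction k with
    | zero => exact hone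
    | succ k ih => rw [pow_succ]; exact hmul _ _ ih hS
  refine ⟨{ carrier := {S | Plane ζ M a b S}
            one_mem' := hone
            mul_mem' := fun {S S'} h h' => hmul S S' h h'
            inv_mem' := fun {S} hS => ?_ }, fun S => Iff.rfl⟩
  show Plane ζ M a b S⁻¹
  rw [show S⁻¹ = S ^ (orderOf S - 1) from inv_eq_of_mul_eq_one_right (by
    rw [← pow_succ', Nat.sub_add_cancel (orderOf_pos S), pow_orderOf_eq_one])]
  exact hpow _ hS _

omit hM in
theorem plane_decomp {a b : V} (hab : fz ζ a b ≠ 0) (z : V) :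
    ∃ (α β : F) (u : V), z = α • a + β • b + u ∧
    fz ζ u a = 0 ∧ fz ζ u b = 0 := by
  refine ⟨fz ζ z b / fz ζ a b, -(fz ζ z a / fz ζ a b),
    z - (fz ζ z b / fz ζ a b) • a - (-(fz ζ z a / fz ζ a b)) • b, by module, ?_, ?_⟩
  · simp only [fz_sub_left, fz_smul_left, fz_self, fz_swap a b]
    field_simp; ring
  · simp only [fz_sub_left, fz_smul_left, fz_self]
    field_simp; ring

omit hM in
theorem plane_ext {a b : V} (hab : fz ζ a b ≠ 0) {g h : G} (ha : app g a = app h a)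
    (hb : app g b = app h b) (hu : ∀ u, fz ζ u a = 0 → fz ζ u b = 0 → app g u = app h u) :
    g = h := by
  refine ext_app fun z => ?_
  obtain ⟨α, β, u, rfl, h1, h2⟩ := plane_decomp hab z
  simp only [app_add, app_smul, ha, hb, hu u h1 h2]

variable {r : ℕ} (hr : r.Prime) (hcard : Nat.card F = Nat.card F₀ ^ r)

include hr hcard

theorem top_of_scalar (D : Data F₀ P ζ) {v : V} (hv : R F₀ P v) (hv0 : v ≠ 0) {c : F} (hc : c ∉ F₀)
    (h : T1 ζ v c ∈ M) : M = ⊤ := by
  classical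
  let S : AddSubgroup F :=
    { carrier := {t | T1 ζ v t ∈ M}
      zero_mem' := show T1 ζ v 0 ∈ M by rw [T1_zero]; exact M.one_mem
      add_mem' := fun {s t} hs ht => show T1 ζ v (s + t) ∈ M by rw [← T1_mul]; exact M.mul_mem hs ht
      neg_mem' := fun {s} hs => show T1 ζ v (-s) ∈ M by rw [← inv_T1]; exact M.inv_mem hs }
  have hF₀S : ∀ s ∈ F₀, s ∈ S := fun s hs => hM v s hv hs
  have hcS : c ∈ S := h
  have hall : ∀ t, t ∈ S := by
    by_contra hne
    obtain ⟨v', hv', h1⟩ := exists_partner D hv hv0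
    have hv'0 : v' ≠ 0 := fun e => by
      rw [e, fz_zero_right] at h1
      exact zero_ne_one h1
    have hbot : ∀ K : Subfield F, (∀ w ∈ S, w ∈ K) → K = ⊤ := fun K hK => by
      rw [eq_top_iff]
      intro x _
      exact MinIndex.Subfield.eq_univ_of_closed (S := (K : Set F)) hr hcard
        (fun d hd => hK d (hF₀S d hd)) (fun _ ha _ hb => K.add_mem ha hb)
        (fun _ ha _ hb => K.mul_mem ha hb) (hK c hcS) hc x
    by_cases hbig : 5 < Nat.card S
    · obtain ⟨H, hH⟩ := exists_plane ζ M v v'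
      have h1' : fz ζ v' v = -1 := by rw [fz_swap v v', h1]
      have htop : H = ⊤ := by
        refine CfsgLib.SL2.eq_top_of_up_lo S (fun t ht => (hH _).2 ?_) (μ := 1) one_ne_zero
          ((hH _).2 ?_) hbig fun K hK => hbot K fun w hw => by simpa using hK w hw
        · refine ⟨T1 ζ v (-t), S.neg_mem ht, ?_, ?_, fun u hu _ => ?_⟩
          · simp [app_T1, fz_self, CfsgLib.SL2.up_coe]
          · simp [app_T1, h1', CfsgLib.SL2.up_coe, add_comm]
          · rw [app_T1, hu, mul_zero, zero_smul, add_zero]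
        · refine ⟨T1 ζ v' 1, hM _ _ hv' F₀.one_mem, ?_, ?_, fun u _ hu => ?_⟩
          · simp [app_T1, h1, CfsgLib.SL2.lo_coe]
          · simp [app_T1, fz_self, CfsgLib.SL2.lo_coe]
          · rw [app_T1, hu, mul_zero, zero_smul, add_zero]
      refine hne fun t => ?_
      obtain ⟨x, hx, e1, e2, e3⟩ := (hH (CfsgLib.SL2.up (-t))).1 (by rw [htop]; exact Subgroup.mem_top _)
      have : x = T1 ζ v t := by
        refine plane_ext (show fz ζ v v' ≠ 0 by rw [h1]; exact one_ne_zero) ?_ ?_ fun u hu hu' => ?_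
        · rw [e1, app_T1]; simp [fz_self, CfsgLib.SL2.up_coe]
        · rw [e2, app_T1]; simp [h1', CfsgLib.SL2.up_coe, add_comm]
        · rw [e3 u hu hu', app_T1, hu, mul_zero, zero_smul, add_zero]
      rwa [this] at hx
    -- the small case
    have hdis : ∀ a ∈ F₀, ∀ b ∈ F₀, a + c ≠ b := fun a ha b hb e => hc (by
      rw [show c = b - a by rw [← e]; ring]; exact F₀.sub_mem hb ha)
    have hc2 : ∀ a ∈ F₀, ∀ b ∈ F₀, a + (c + c) = b → (2 : F) = 0 := fun a ha b hb e =>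
      by_contra fun h2 => hc (by
        have hm : c + c ∈ F₀ := by
          rw [show c + c = b - a by rw [← e]; ring]; exact F₀.sub_mem hb ha
        have h2m : (2 : F) ∈ F₀ := ofNat_mem F₀ 2
        have := F₀.div_mem hm h2m
        rwa [show (c + c) / 2 = c by field_simp; ring] at this)
    let emb : Fin 3 × F₀ → S := fun z =>
      ⟨(z.2 : F) + (z.1 : ℕ) • c, S.add_mem (hF₀S _ z.2.2) (S.nsmul_mem hcS _)⟩
    have h2 : (2 : F) = 0 := by
      by_contra h2
      have hinj : Function.Injective emb := by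
        rintro ⟨i, a⟩ ⟨j, b⟩ e
        have e' : (a : F) + (i : ℕ) • c = (b : F) + (j : ℕ) • c := congrArg Subtype.val e
        fin_cases i <;> fin_cases j <;> simp [two_nsmul] at e' ⊢
        · exact e'
        · exact hdis b b.2 a a.2 e'.symm
        · exact h2 (hc2 b b.2 a a.2 (by linear_combination -e'))
        · exact hdis a a.2 b b.2 e'
        · exact e'
        · exact hdis b b.2 a a.2 (by linear_combination -e')
        · exact h2 (hc2 a a.2 b b.2 (by linear_combination e'))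
        · exact hdis a a.2 b b.2 (by linear_combination e')
        · exact e'
      have := Nat.card_le_card_of_injective emb hinj
      rw [Nat.card_prod, Nat.card_fin] at this
      have : 1 < Nat.card F₀ := Finite.one_lt_card
      omega
    have hchar : CharP F 2 := CharTwo.of_one_ne_zero_of_two_eq_zero one_ne_zero h2
    let emb2 : Bool × F₀ → S := fun z =>
      ⟨(z.2 : F) + if z.1 then c else 0,
        S.add_mem (hF₀S _ z.2.2) (by split; exacts [hcS, S.zero_mem])⟩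
    have hinj2 : Function.Injective emb2 := by
      rintro ⟨i, a⟩ ⟨j, b⟩ e
      have e' : (a : F) + (if i then c else 0) = (b : F) + if j then c else 0 := congrArg Subtype.val e
      cases i <;> cases j <;> simp at e' ⊢
      · exact e'
      · exact hdis b b.2 a a.2 e'.symm
      · exact hdis a a.2 b b.2 e'
      · exact e'
    have hcard2 := Nat.card_le_card_of_injective emb2 hinj2
    rw [Nat.card_prod, Nat.card_eq_fintype_card (α := Bool), Fintype.card_bool] at hcard2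
    have hq : Nat.card F₀ = 2 := by
      have h1c : 1 < Nat.card F₀ := Finite.one_lt_card
      have hp2 : IsPGroup 2 (Multiplicative F₀) := fun z => ⟨1, by
        apply Multiplicative.toAdd.injective
        apply Subtype.ext
        rw [pow_one, pow_two, toAdd_mul, toAdd_one]
        exact CharTwo.add_self_eq_zero _⟩
      obtain ⟨k, hk⟩ := IsPGroup.iff_card.1 hp2
      rw [Nat.card_congr Multiplicative.toAdd] at hk
      rcases Nat.lt_or_ge k 2 with hk2 | hk2
      · interval_cases k <;> omega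
      · have : 2 ^ 2 ≤ 2 ^ k := Nat.pow_le_pow_right two_pos hk2
        omega
    have hF₀ : ∀ s ∈ F₀, s = 0 ∨ s = 1 := fun s hs => by
      obtain ⟨x, y, hxy, hu⟩ := Nat.card_eq_two_iff.1 hq
      have : ∀ z : F₀, z = 0 ∨ z = 1 := fun z => by
        have hz : z ∈ ({x, y} : Set F₀) := hu ▸ Set.mem_univ z
        have h0 : (0 : F₀) ∈ ({x, y} : Set F₀) := hu ▸ Set.mem_univ _
        have h1 : (1 : F₀) ∈ ({x, y} : Set F₀) := hu ▸ Set.mem_univ _
        simp only [Set.mem_insert_iff, Set.mem_singleton_iff] at hz h0 h1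
        rcases hz with rfl | rfl <;> rcases h0 with h0 | h0 <;> rcases h1 with h1 | h1 <;>
          first
            | exact Or.inl h0.symm
            | exact Or.inr h1.symm
            | exact absurd (h0.trans h1.symm) zero_ne_one
      rcases this ⟨s, hs⟩ with e | e
      · exact Or.inl (congrArg Subtype.val e)
      · exact Or.inr (congrArg Subtype.val e)
    have hS : ∀ t ∈ S, t = 0 ∨ t = 1 ∨ t = c ∨ t = 1 + c := fun t ht => by
      have hle : Nat.card S ≤ Nat.card (Bool × F₀) := by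
        rw [Nat.card_prod, Nat.card_eq_fintype_card (α := Bool), Fintype.card_bool, hq]
        have hp2 : IsPGroup 2 (Multiplicative S) := fun z => ⟨1, by
          apply Multiplicative.toAdd.injective
          apply Subtype.ext
          rw [pow_one, pow_two, toAdd_mul, toAdd_one]
          exact CharTwo.add_self_eq_zero _⟩
        obtain ⟨k, hk⟩ := IsPGroup.iff_card.1 hp2
        rw [Nat.card_congr Multiplicative.toAdd] at hk
        rcases Nat.lt_or_ge k 3 with hk3 | hk3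
        · interval_cases k <;> omega
        · have : 2 ^ 3 ≤ 2 ^ k := Nat.pow_le_pow_right two_pos hk3
          omega
      obtain ⟨⟨i, a⟩, ha⟩ := (hinj2.bijective_of_nat_card_le hle).2 ⟨t, ht⟩
      have e : (a : F) + (if i then c else 0) = t := congrArg Subtype.val ha
      cases i <;> rcases hF₀ a a.2 with e0 | e0 <;> rw [e0] at e <;> simp at e <;> simp [← e]
    have hsq : c * c = 1 + c := by
      rcases hS _ (sq_of_T1 hM D hv hv0 h) with e | e | e | e
      · exact absurd (mul_self_eq_zero.1 e) fun e0 => hc (e0 ▸ F₀.zero_mem)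
      · refine absurd ?_ hc
        rw [show c = 1 from frobenius_inj F 2 (by simp [frobenius_def, pow_two, e])]
        exact F₀.one_mem
      · refine absurd ?_ hc
        rw [show c = 1 from mul_left_cancel₀ (fun e0 => hc (by rw [e0]; exact F₀.zero_mem)) (e.trans (mul_one c).symm)]
        exact F₀.one_mem
      · exact e
    refine hne fun t => MinIndex.Subfield.eq_univ_of_closed (S := (S : Set F)) hr hcard hF₀S
      (fun _ ha _ hb => S.add_mem ha hb) (fun a ha b hb => ?_) hcS hc t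
    have hc11 : (1 : F) + c + c = 1 := by rw [add_assoc, CharTwo.add_self_eq_zero, add_zero]
    show a * b ∈ S
    rcases hS a ha with e | e | e | e <;> rcases hS b hb with e' | e' | e' | e' <;> rw [e, e'] <;>
      first
        | (simp only [mul_zero, zero_mul]; exact S.zero_mem)
        | (rw [one_mul]; exact e' ▸ hb)
        | (rw [mul_one]; exact e ▸ ha)
        | (rw [hsq]; exact S.add_mem (hF₀S 1 F₀.one_mem) hcS)
        | exact Set.mem_of_eq_of_mem (show _ = (1 : F) by linear_combination hsq + c * h2) (hF₀S 1 F₀.one_mem)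
        | exact Set.mem_of_eq_of_mem (show _ = c by linear_combination hsq + (1 + c) * h2) hcS
  refine eq_top_of_centres fun z d => ?_
  have hC : ∀ w : V, R F₀ P w → ∀ t, T1 ζ w t ∈ M := fun w hw t => by
    by_cases hw0 : w = 0
    · rw [hw0, T1, T_zero']; exact M.one_mem
    · exact transfer hM D hv hw hv0 hw0 (hall t)
  let C : Set V := {w | ∀ t, T1 ζ w t ∈ M}
  have hsm : ∀ w ∈ C, ∀ k : F, k • w ∈ C := fun w hw k t => by rw [T1_smul]; exact hw _
  have step : ∀ p ∈ C, ∀ q ∈ C, fz ζ p q ≠ 0 → p + q ∈ C := fun p hp q hq hpq t => by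
    have e : app (T1 ζ q (fz ζ p q)⁻¹) p = p + q := by
      rw [app_T1, inv_mul_cancel₀ hpq, one_smul]
    rw [← e, ← conj_T1]
    exact M.mul_mem (M.mul_mem (hq _) (hp t)) (M.inv_mem (hq _))
  have via : ∀ p ∈ C, ∀ q ∈ C, ∀ e ∈ C, fz ζ p e ≠ 0 → fz ζ (p + e) q ≠ 0 → fz ζ (p + q) e ≠ 0 →
      p + q ∈ C := fun p hp q hq e he h1 h2 h3 => by
    have h4 := step _ (step p hp e he h1) q hq h2
    have h5 : fz ζ (p + e + q) ((-1 : F) • e) ≠ 0 := by
      rw [fz_smul_right, show p + e + q = p + q + e by abel, fz_add_left, fz_self, add_zero]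
      exact mul_ne_zero (by simp) h3
    have := step _ h4 _ (hsm e he (-1)) h5
    rwa [show p + e + q + (-1 : F) • e = p + q by module] at this
  have pair : ∀ e₁ e₂ : V, R F₀ P e₁ → R F₀ P e₂ → ∀ t : F, e₁ + t • e₂ ∈ C := by
    intro e₁ e₂ h₁ h₂ t
    by_cases ht : t = 0
    · rw [ht, zero_smul, add_zero]; exact hC _ h₁
    by_cases h12 : fz ζ e₁ e₂ = 0
    · by_cases ht1 : t = -1
      · subst ht1
        exact hC _ (R_add h₁ (R_smul (F₀.neg_mem F₀.one_mem) h₂))
      by_cases e20 : e₂ = 0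
      · rw [e20, smul_zero, add_zero]; exact hC _ h₁
      by_cases e10 : e₁ = 0
      · rw [e10, zero_add]; exact hsm _ (hC _ h₂) t
      obtain ⟨f₁, hf₁, g1⟩ := exists_partner D h₁ e10
      obtain ⟨f₂, hf₂, g2⟩ := exists_partner D h₂ e20
      obtain ⟨e, he, k1, k2⟩ : ∃ e, R F₀ P e ∧ fz ζ e₁ e ≠ 0 ∧ fz ζ e₂ e ≠ 0 := by
        by_cases a1 : fz ζ e₂ f₁ = 0
        · by_cases a2 : fz ζ e₁ f₂ = 0
          · exact ⟨f₁ + f₂, R_add hf₁ hf₂, by rw [fz_add_right, g1, a2, add_zero]; exact one_ne_zero,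
              by rw [fz_add_right, a1, g2, zero_add]; exact one_ne_zero⟩
          · exact ⟨f₂, hf₂, a2, by rw [g2]; exact one_ne_zero⟩
        · exact ⟨f₁, hf₁, by rw [g1]; exact one_ne_zero, a1⟩
      obtain ⟨e', he', k1', k2'⟩ : ∃ e', R F₀ P e' ∧ fz ζ e₁ e' = 1 ∧ fz ζ e₂ e' ≠ 0 :=
        ⟨(fz ζ e₁ e)⁻¹ • e, R_smul (F₀.inv_mem (fz_mem D h₁ he)) he,
          by rw [fz_smul_right, inv_mul_cancel₀ k1],
          by rw [fz_smul_right]; exact mul_ne_zero (inv_ne_zero k1) k2⟩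
      by_cases hk : fz ζ (e₁ + t • e₂) e' = 0
      · -- `t` is then in the subfield
        refine hC _ (R_add h₁ (R_smul ?_ h₂))
        rw [fz_add_left, fz_smul_left, k1'] at hk
        rw [show t = -1 / fz ζ e₂ e' by field_simp; linear_combination hk]
        exact F₀.div_mem (F₀.neg_mem F₀.one_mem) (fz_mem D h₂ he')
      · refine via _ (hC _ h₁) _ (hsm _ (hC _ h₂) t) _ (hC _ he') (by rw [k1']; exact one_ne_zero) ?_ hk
        rw [fz_add_left, fz_smul_right, fz_smul_right, h12, mul_zero, zero_add, fz_swap e₂ e',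
          mul_neg]
        exact neg_ne_zero.2 (mul_ne_zero ht k2')
    · exact step _ (hC _ h₁) _ (hsm _ (hC _ h₂) t) (by rw [fz_smul_right]; exact mul_ne_zero ht h12)
  have hadd : ∀ p ∈ C, ∀ q : V, R F₀ P q → ∀ k : F, p + k • q ∈ C := by
    intro p hp q hq k
    by_cases hz : p + k • q = 0
    · rw [hz]; intro t; rw [T1, T_zero']; exact M.one_mem
    by_cases hk : k • q = 0
    · rw [hk, add_zero]; exact hp
    by_cases hp0 : p = 0
    · rw [hp0, zero_add]; exact hsm _ (hC _ hq) k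
    by_cases hpq : fz ζ p (k • q) = 0
    · obtain ⟨e₁, he₁, a1, b1⟩ : ∃ e, R F₀ P e ∧ fz ζ p e ≠ 0 ∧ fz ζ (k • q) e ≠ 0 := by
        obtain ⟨f₁, hf₁, g1⟩ : ∃ f, R F₀ P f ∧ fz ζ p f ≠ 0 := by
          by_contra hcon; push Not at hcon
          exact hp0 (eq_zero_of_R (F₀ := F₀) (P := P) D.zeta hcon)
        obtain ⟨f₂, hf₂, g2⟩ : ∃ f, R F₀ P f ∧ fz ζ (k • q) f ≠ 0 := by
          by_contra hcon; push Not at hcon
          exact hk (eq_zero_of_R (F₀ := F₀) (P := P) D.zeta hcon)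
        by_cases a1 : fz ζ (k • q) f₁ = 0
        · by_cases a2 : fz ζ p f₂ = 0
          · exact ⟨f₁ + f₂, R_add hf₁ hf₂, by rw [fz_add_right, a2, add_zero]; exact g1,
              by rw [fz_add_right, a1, zero_add]; exact g2⟩
          · exact ⟨f₂, hf₂, a2, g2⟩
        · exact ⟨f₁, hf₁, g1, a1⟩
      obtain ⟨e₂, he₂, c2⟩ : ∃ f, R F₀ P f ∧ fz ζ (p + k • q) f ≠ 0 := by
        by_contra hcon; push Not at hcon
        exact hz (eq_zero_of_R (F₀ := F₀) (P := P) D.zeta hcon)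
      obtain ⟨t, t1, t2, t3⟩ : ∃ t : F, fz ζ p e₁ + t * fz ζ p e₂ ≠ 0 ∧
          fz ζ (k • q) e₁ + t * fz ζ (k • q) e₂ ≠ 0 ∧
          fz ζ (p + k • q) e₁ + t * fz ζ (p + k • q) e₂ ≠ 0 := by
        have bad : ∀ α β : F, (α ≠ 0 ∨ β ≠ 0) → ∀ s u : F, α + s * β = 0 → α + u * β = 0 → s = u := by
          intro α β hab s u hs hu
          have hβ : β ≠ 0 := fun e => by
            rw [e, mul_zero, add_zero] at hs
            exact hab.elim (fun h => h hs) (fun h => h e)
          exact mul_right_cancel₀ hβ (by linear_combination hs - hu)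
        by_contra hcon
        have hcov : ∀ t : F, fz ζ p e₁ + t * fz ζ p e₂ = 0 ∨
            fz ζ (k • q) e₁ + t * fz ζ (k • q) e₂ = 0 ∨
            fz ζ (p + k • q) e₁ + t * fz ζ (p + k • q) e₂ = 0 := fun t => by
          by_contra hn
          simp only [not_or] at hn
          exact hcon ⟨t, hn.1, hn.2.1, hn.2.2⟩
        let f : F → Fin 3 := fun t => if fz ζ p e₁ + t * fz ζ p e₂ = 0 then 0
          else if fz ζ (k • q) e₁ + t * fz ζ (k • q) e₂ = 0 then 1 else 2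
        have hf : Function.Injective f := fun s u e => by
          simp only [f] at e
          split_ifs at e with s1 u1 u2 s2 u1 u2 u1 u2 <;> try simp at e
          · exact bad _ _ (Or.inl a1) s u s1 u1
          · exact bad _ _ (Or.inl b1) s u s2 u2
          · exact bad _ _ (Or.inr c2) s u (((hcov s).resolve_left s1).resolve_left s2)
              (((hcov u).resolve_left u1).resolve_left u2)
        have h4 := Nat.card_le_card_of_injective f hf
        rw [Nat.card_fin] at h4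
        have : 2 ^ 2 ≤ Nat.card F₀ ^ r :=
          (Nat.pow_le_pow_left Finite.one_lt_card 2).trans (Nat.pow_le_pow_right Finite.card_pos hr.two_le)
        omega
      refine via p hp _ (hsm _ (hC _ hq) k) _ (pair e₁ e₂ he₁ he₂ t) ?_ ?_ ?_
      · rwa [fz_add_right, fz_smul_right]
      · rw [fz_add_left, hpq, zero_add, fz_swap]
        refine neg_ne_zero.2 ?_
        rwa [fz_add_right, fz_smul_right (x := k • q)]
      · rwa [fz_add_right, fz_smul_right]
    · exact step p hp _ (hsm _ (hC _ hq) k) hpq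
  have hfin : ∀ (s : Finset ι) (u : V), (∑ j ∈ s, u j • col P j) ∈ C := by
    intro s u
    induction s using Finset.induction with
    | empty => rw [Finset.sum_empty]; intro t; rw [T1, T_zero']; exact M.one_mem
    | insert j s hj ih =>
      rw [Finset.sum_insert hj, add_comm]
      exact hadd _ ih _ (R_col j) _
  have hz : z = ∑ j, (((P⁻¹ : GL ι F) : Matrix ι ι F) *ᵥ z) j • col P j := by
    conv_lhs => rw [show z = (P : Matrix ι ι F) *ᵥ (((P⁻¹ : GL ι F) : Matrix ι ι F) *ᵥ z) by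
      rw [mulVec_mulVec, Units.mul_inv, one_mulVec], mulVec_eq_sum]
    refine Finset.sum_congr rfl fun j _ => ?_
    ext i
    simp [col, mulVec_single_one, Matrix.col_apply, mul_comm]
  have hzC := hfin Finset.univ (((P⁻¹ : GL ι F) : Matrix ι ι F) *ᵥ z) (d / ζ)
  rwa [← hz, T1, mul_div_cancel₀ _ D.zeta] at hzC

theorem scalar_mem (D : Data F₀ P ζ) (hne : M ≠ ⊤) {v : V} (hv : R F₀ P v) (hv0 : v ≠ 0) {c : F}
    (h : T1 ζ v c ∈ M) : c ∈ F₀ :=
  by_contra fun hc => hne (top_of_scalar hM hr hcard D hv hv0 hc h)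

/-- In even characteristic a transvection in `M` has squares in the subfield. -/
theorem sq_even (D : Data F₀ P ζ) (hne : M ≠ ⊤) (h2 : (2 : F) = 0) {w v : V} (hw : T1 ζ w 1 ∈ M)
    (hv : R F₀ P v) : fz ζ v w * fz ζ v w ∈ F₀ := by
  set μ := fz ζ v w with hμ
  by_cases hμ0 : μ = 0
  · rw [hμ0, mul_zero]; exact F₀.zero_mem
  have : CharP F 2 := CharTwo.of_one_ne_zero_of_two_eq_zero one_ne_zero h2
  have hv0 : v ≠ 0 := fun e => hμ0 (by rw [hμ, e, fz_zero_left])
  obtain ⟨v', x, x', Hp⟩ := exists_pairs D hv hv0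
  have hω := fun {a b : V} (hab : fz ζ a b = 0) => ω_of_fz D.zeta hab
  have hxv := fz_swap0 Hp.vx
  have hneg : ∀ z : V, -z = z := fun z => funext fun i => CharTwo.neg_eq (z i)
  obtain ⟨α, hα⟩ : ∃ α, α = fz ζ x w / μ := ⟨_, rfl⟩
  obtain ⟨x₀, hx₀⟩ : ∃ x₀, x₀ = x + α • v := ⟨_, rfl⟩
  have hx₀v : fz ζ x₀ v = 0 := by
    rw [hx₀, fz_add_left, fz_smul_left, hxv, fz_self, mul_zero, add_zero]
  have hvx₀ := fz_swap0 hx₀v
  have hx₀w : fz ζ x₀ w = 0 := by
    rw [hx₀, fz_add_left, fz_smul_left, ← hμ, hα, div_mul_cancel₀ _ hμ0, CharTwo.add_self_eq_zero]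
  have hwx₀ := fz_swap0 hx₀w
  have hvv : ∀ (k c : F), E1 ζ (k • v) v c = 1 := fun k c => by
    rw [E1_smul, E1_self, h2, zero_mul, T1_zero]
  have hshift : ∀ c, E1 ζ v x c = E1 ζ v x₀ c := fun c => by
    have hs := E1_mul (ζ := ζ) (a := x) (a' := α • v) (b := v) (hω hxv)
      (hω (show fz ζ (α • v) v = 0 by rw [fz_smul_left, fz_self, mul_zero])) c
    rw [hvv, mul_one, fz_smul_left, Hp.vx, mul_zero, mul_zero, T1_zero, mul_one, ← hx₀] at hs
    rw [E1_comm (hω Hp.vx), hs, E1_comm (hω hx₀v)]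
  have hY : E1 ζ v x₀ 1 ∈ M := by
    rw [← hshift]; exact E1_rat hM D.zeta hv Hp.rx Hp.vx F₀.one_mem
  have hYsq : ∀ (a b : V) (c : F), fz ζ a b = 0 → (E1 ζ a b c)⁻¹ = E1 ζ a b c := fun a b c hab => by
    refine inv_eq_of_mul_eq_one_right (ext_app fun z => ?_)
    rw [app_mul, app_E1 (hω hab), app_E1 (hω hab), app_one]
    simp only [fz_add_left, fz_smul_left, fz_self, hab, fz_swap0 hab, mul_zero, add_zero]
    rw [show z + (c * fz ζ z a) • b + (c * fz ζ z b) • a + (c * fz ζ z a) • b + (c * fz ζ z b) • a =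
      z + ((c * fz ζ z a) + (c * fz ζ z a)) • b + ((c * fz ζ z b) + (c * fz ζ z b)) • a by module]
    simp [CharTwo.add_self_eq_zero]
  -- commutator with the transvection
  have g1 : app (T1 ζ w 1) v = v + μ • w := by rw [app_T1, one_mul]
  have g2 : app (T1 ζ w 1) x₀ = x₀ := by rw [app_T1, hx₀w, mul_zero, zero_smul, add_zero]
  have hX : E1 ζ (μ • w) x₀ 1 * T1 ζ x₀ (μ * μ) ∈ M := by
    have hc := M.mul_mem (M.mul_mem (M.mul_mem hw hY) (M.inv_mem hw)) hY
    rw [conj_E1 _ (hω hvx₀), g1, g2, E1_mul (hω (by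
      rw [fz_add_left, fz_smul_left, hvx₀, hwx₀, mul_zero, add_zero])) (hω hvx₀)] at hc
    rwa [show v + μ • w + v = μ • w by
        rw [show v + μ • w + v = μ • w + (v + v) by abel, eq_neg_iff_add_eq_zero.1 (hneg v).symm,
          add_zero],
      fz_add_right, fz_self, zero_add, fz_smul_right, one_mul, one_mul] at hc
  -- conjugate by a rational transvection
  obtain ⟨C, hC⟩ : ∃ C, C = μ * μ * (μ * μ) := ⟨_, rfl⟩
  have hZ : E1 ζ v x₀ (μ * μ) * T1 ζ x₀ C ∈ M := by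
    have hgw : app (T1 ζ v 1) w = w + μ • v := by
      rw [app_T1, one_mul, fz_swap v w, ← hμ, CharTwo.neg_eq]
    have hgx : app (T1 ζ v 1) x₀ = x₀ := by rw [app_T1, hx₀v, mul_zero, zero_smul, add_zero]
    have hX' := M.mul_mem (M.mul_mem (hM v 1 hv F₀.one_mem) hX) (M.inv_mem (hM v 1 hv F₀.one_mem))
    rw [show T1 ζ v 1 * (E1 ζ (μ • w) x₀ 1 * T1 ζ x₀ (μ * μ)) * (T1 ζ v 1)⁻¹ =
      (T1 ζ v 1 * E1 ζ (μ • w) x₀ 1 * (T1 ζ v 1)⁻¹) * (T1 ζ v 1 * T1 ζ x₀ (μ * μ) * (T1 ζ v 1)⁻¹)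
        by group, conj_E1 _ (hω (by rw [fz_smul_left, hwx₀, mul_zero])), conj_T1, app_smul, hgw, hgx,
      smul_add, smul_smul] at hX'
    have hsp := E1_mul (ζ := ζ) (a := (μ * μ) • v) (a' := μ • w) (b := x₀)
      (hω (by rw [fz_smul_left, hvx₀, mul_zero])) (hω (by rw [fz_smul_left, hwx₀, mul_zero])) 1
    rw [show (1 : F) * 1 * fz ζ (μ • w) ((μ * μ) • v) = C by
      rw [fz_smul_left, fz_smul_right, fz_swap v w, ← hμ, CharTwo.neg_eq, hC]; ring,
      E1_smul, mul_one, add_comm ((μ * μ) • v)] at hsp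
    have hX'' := eq_mul_inv_of_mul_eq hsp.symm
    rw [hX''] at hX'
    have hc := M.mul_mem hX' (M.inv_mem hX)
    have hT : E1 ζ (μ • w) x₀ 1 * (T1 ζ x₀ C)⁻¹ * (E1 ζ (μ • w) x₀ 1)⁻¹ = T1 ζ x₀ C := by
      rw [inv_T1, CharTwo.neg_eq, conj_T1, app_E1 (hω (by rw [fz_smul_left, hwx₀, mul_zero])),
        fz_self, fz_smul_right, hx₀w]
      simp
    have e : ∀ (p q r t : G), p * q * r⁻¹ * t * (q * t)⁻¹ = p * (q * r⁻¹ * q⁻¹) := fun p q r t => by
      group
    rwa [e, hT] at hc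
  -- the shifted element
  have hshift' : ∀ (z : V) (k c : F), fz ζ z v = 0 → E1 ζ v (z + k • v) c = E1 ζ v z c := by
    intro z k c hz
    have hs := E1_mul (ζ := ζ) (a := z) (a' := k • v) (b := v) (hω hz)
      (hω (show fz ζ (k • v) v = 0 by rw [fz_smul_left, fz_self, mul_zero])) c
    rw [hvv, mul_one, fz_smul_left, fz_swap0 hz, mul_zero, mul_zero, T1_zero, mul_one] at hs
    rw [E1_comm (hω (fz_swap0 hz)), hs, E1_comm (hω (show fz ζ (z + k • v) v = 0 by
      rw [fz_add_left, fz_smul_left, fz_self, hz, mul_zero, add_zero]))]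
  have hh : E1 ζ v x C * T1 ζ v C ∈ M := by
    have hg := E1_rat hM D.zeta Hp.rx' hv (fz_swap0 Hp.vx') F₀.one_mem
    have gv : app (E1 ζ x' v 1) v = v := by
      rw [app_E1 (hω (fz_swap0 Hp.vx')), Hp.vx', fz_self]; simp
    have gx : app (E1 ζ x' v 1) x₀ = x₀ + (1 : F) • v := by
      rw [app_E1 (hω (fz_swap0 Hp.vx')), hx₀v,
        show fz ζ x₀ x' = 1 by rw [hx₀, fz_add_left, fz_smul_left, Hp.xx, Hp.vx', mul_zero, add_zero]]
      simp
    have hc := M.mul_mem (M.mul_mem (M.mul_mem hg hZ) (M.inv_mem hg)) (M.inv_mem hZ)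
    rw [show E1 ζ x' v 1 * (E1 ζ v x₀ (μ * μ) * T1 ζ x₀ C) * (E1 ζ x' v 1)⁻¹ =
      (E1 ζ x' v 1 * E1 ζ v x₀ (μ * μ) * (E1 ζ x' v 1)⁻¹) * (E1 ζ x' v 1 * T1 ζ x₀ C * (E1 ζ x' v 1)⁻¹)
        by group, conj_E1 _ (hω hvx₀), conj_T1, gv, gx, hshift' _ _ _ hx₀v, one_smul] at hc
    have hsum := E1_eq_T1 (ζ := ζ) (hω hx₀v) C
    rw [← inv_T1, ← inv_T1] at hsum
    have hsum' : T1 ζ (x₀ + v) C = E1 ζ x₀ v C * T1 ζ v C * T1 ζ x₀ C := by
      rw [hsum]; group
    rw [hsum'] at hc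
    have e : ∀ (p q r t : G), p * (q * r * t) * (p * t)⁻¹ = (p * q * p⁻¹) * (p * r * p⁻¹) :=
      fun p q r t => by group
    have pv : app (E1 ζ v x₀ (μ * μ)) v = v := by rw [app_E1 (hω hvx₀), hvx₀, fz_self]; simp
    have px : app (E1 ζ v x₀ (μ * μ)) x₀ = x₀ := by rw [app_E1 (hω hvx₀), hx₀v, fz_self]; simp
    rwa [e, conj_E1 _ (hω hx₀v), conj_T1, pv, px, E1_comm (hω hx₀v), ← hshift] at hc
  -- moves fixing `v`
  have hmv : ∀ g ∈ M, ∀ a : V, app g v = v → app g x = a → E1 ζ v a C * T1 ζ v C ∈ M := by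
    intro g hg a e1 e2
    have := M.mul_mem (M.mul_mem hg hh) (M.inv_mem hg)
    rwa [show g * (E1 ζ v x C * T1 ζ v C) * g⁻¹ = (g * E1 ζ v x C * g⁻¹) * (g * T1 ζ v C * g⁻¹) by
      group, conj_E1 _ (hω Hp.vx), conj_T1, e1, e2] at this
  have hg4 := hM _ _ (R_sub Hp.rx' Hp.rx) F₀.one_mem
  have v4 : app (T1 ζ (x' - x) 1) v = v := by
    rw [app_T1, fz_sub_right, Hp.vx', Hp.vx, sub_zero, mul_zero, zero_smul, add_zero]
  have x4 : app (T1 ζ (x' - x) 1) x = x' := by
    rw [app_T1, fz_sub_right, Hp.xx, fz_self, sub_zero, mul_one, one_smul, add_sub_cancel]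
  have commv : ∀ g : G, app g v = v → g * T1 ζ v C = T1 ζ v C * g := fun g hg => by
    rw [← mul_inv_eq_iff_eq_mul, conj_T1, hg]
  have Tsq : ∀ (z : V) (c : F), T1 ζ z c * T1 ζ z c = 1 := fun z c => by
    rw [T1_mul, CharTwo.add_self_eq_zero, T1_zero]
  have fixE : ∀ a : V, fz ζ v a = 0 → ∀ c, app (E1 ζ v a c) v = v := fun a ha c => by
    rw [app_E1 (hω ha), ha, fz_self]; simp
  have hvxx : fz ζ v (x + x') = 0 := by rw [fz_add_right, Hp.vx, Hp.vx', add_zero]
  obtain ⟨f, hf⟩ : ∃ f, f = C + C * C := ⟨_, rfl⟩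
  have hfF : f ∈ F₀ := by
    refine scalar_mem hM hr hcard D hne hv hv0 ?_
    have h1 := hmv _ (hM _ _ Hp.rx' F₀.one_mem) (x + x')
      (by rw [app_T1, Hp.vx', mul_zero, zero_smul, add_zero])
      (by rw [app_T1, Hp.xx, mul_one, one_smul])
    have h2' := hmv _ hg4 x' v4 x4
    have hc := M.mul_mem (M.inv_mem h1) (M.mul_mem hh h2')
    have hs := E1_mul (ζ := ζ) (a := x) (a' := x') (b := v) (hω hxv) (hω (fz_swap0 Hp.vx')) C
    rw [E1_comm (hω hxv), E1_comm (hω (fz_swap0 Hp.vx')), E1_comm (hω (fz_swap0 hvxx)),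
      fz_swap x x', Hp.xx, CharTwo.neg_eq, mul_one] at hs
    have e : E1 ζ v x C * T1 ζ v C * (E1 ζ v x' C * T1 ζ v C) = E1 ζ v (x + x') C * T1 ζ v (C * C) := by
      rw [commv _ (fixE x' Hp.vx' C), mul_assoc, ← mul_assoc (T1 ζ v C) (T1 ζ v C), Tsq, one_mul, hs]
    rw [e, _root_.mul_inv_rev, mul_assoc, inv_mul_cancel_left, inv_T1, CharTwo.neg_eq, T1_mul] at hc
    rwa [hf]
  have hCF : C ∈ F₀ := by
    by_cases hf0 : f = 0
    · have hC1 : C * (1 + C) = 0 := by rw [← hf0, hf]; ring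
      rcases mul_eq_zero.1 hC1 with e | e
      · rw [e]; exact F₀.zero_mem
      · rw [show C = 1 by rw [← CharTwo.neg_eq C]; linear_combination -e]; exact F₀.one_mem
    -- exchange `v` and `x`
    have hab : fz ζ (v + x) (v' + x') = 0 := by
      rw [fz_add_left, fz_add_right, fz_add_right, Hp.vv, Hp.vx', Hp.xx, fz_swap0 Hp.v'x]
      simp [CharTwo.add_self_eq_zero]
    have hsw := E1_rat hM D.zeta (R_add hv Hp.rx) (R_add Hp.rv' Hp.rx') hab F₀.one_mem
    have sv : app (E1 ζ (v + x) (v' + x') 1) v = x := by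
      rw [app_E1 (hω hab), fz_add_right, fz_self, Hp.vx, fz_add_right, Hp.vv, Hp.vx']
      simp [← add_assoc, eq_neg_iff_add_eq_zero.1 (hneg v).symm]
    have sx : app (E1 ζ (v + x) (v' + x') 1) x = v := by
      rw [app_E1 (hω hab), fz_add_right, fz_self, hxv, fz_add_right, Hp.xx, fz_swap0 Hp.v'x]
      simp [add_comm v x, ← add_assoc, eq_neg_iff_add_eq_zero.1 (hneg x).symm]
    have hs' := M.mul_mem (M.mul_mem hsw hh) (M.inv_mem hsw)
    rw [show E1 ζ (v + x) (v' + x') 1 * (E1 ζ v x C * T1 ζ v C) * (E1 ζ (v + x) (v' + x') 1)⁻¹ =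
      (E1 ζ (v + x) (v' + x') 1 * E1 ζ v x C * (E1 ζ (v + x) (v' + x') 1)⁻¹) *
        (E1 ζ (v + x) (v' + x') 1 * T1 ζ v C * (E1 ζ (v + x) (v' + x') 1)⁻¹) by group,
      conj_E1 _ (hω Hp.vx), conj_T1, sv, sx, ← E1_comm (hω Hp.vx)] at hs'
    have hEE : E1 ζ v x C * E1 ζ v x C = 1 := by
      conv_lhs => arg 1; rw [← hYsq v x C Hp.vx]
      exact inv_mul_cancel _
    have hk : T1 ζ v C * T1 ζ x C ∈ M := by
      have := M.mul_mem hh hs'
      rwa [commv _ (fixE x Hp.vx C), mul_assoc, ← mul_assoc (E1 ζ v x C) (E1 ζ v x C), hEE,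
        one_mul] at this
    have hk' : T1 ζ v C * T1 ζ x' C ∈ M := by
      have := M.mul_mem (M.mul_mem hg4 hk) (M.inv_mem hg4)
      rwa [show T1 ζ (x' - x) 1 * (T1 ζ v C * T1 ζ x C) * (T1 ζ (x' - x) 1)⁻¹ =
        (T1 ζ (x' - x) 1 * T1 ζ v C * (T1 ζ (x' - x) 1)⁻¹) *
          (T1 ζ (x' - x) 1 * T1 ζ x C * (T1 ζ (x' - x) 1)⁻¹) by group, conj_T1, conj_T1, v4, x4] at this
    have hS : T1 ζ x C * T1 ζ x' C ∈ M := by
      have := M.mul_mem hk hk'
      rwa [← commv _ (show app (T1 ζ x C) v = v by rw [app_T1, Hp.vx, mul_zero, zero_smul, add_zero]),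
        mul_assoc, ← mul_assoc (T1 ζ v C) (T1 ζ v C), Tsq, one_mul] at this
    set s := f⁻¹ with hs0
    have hsF : s ∈ F₀ := F₀.inv_mem hfF
    have Sx' : app (T1 ζ x C * T1 ζ x' C) x' = x' + C • x := by
      rw [app_mul, app_T1 x' C x', fz_self, mul_zero, zero_smul, add_zero, app_T1, fz_swap x x',
        Hp.xx, CharTwo.neg_eq, mul_one]
    have ht : T1 ζ (x' + C • x) s ∈ M := by
      rw [← Sx', ← conj_T1]
      exact M.mul_mem (M.mul_mem hS (hM _ _ Hp.rx' hsF)) (M.inv_mem hS)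
    have hC2 : s * (C * C) = 1 + s * C := by
      have : C * C = f + C := by rw [hf, add_comm C (C * C), add_assoc, CharTwo.add_self_eq_zero, add_zero]
      rw [this, mul_add, hs0, inv_mul_cancel₀ hf0]
    have tx : app (T1 ζ (x' + C • x) s) x' = (1 + s * C) • (x + x') := by
      rw [app_T1, fz_add_right, fz_self, fz_smul_right, fz_swap x x', Hp.xx, CharTwo.neg_eq, mul_one,
        zero_add, smul_add, smul_smul, mul_assoc, hC2]
      module
    have hT := M.mul_mem (M.mul_mem ht (hM _ _ Hp.rx' F₀.one_mem)) (M.inv_mem ht)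
    rw [conj_T1, tx, T1_smul, mul_one] at hT
    have hxx0 : x + x' ≠ 0 := fun e => by
      have := congrArg (fz ζ · x') e
      simp [fz_add_left, fz_self, fz_zero_left, Hp.xx] at this
    have h3 := scalar_mem hM hr hcard D hne (R_add Hp.rx Hp.rx') hxx0 hT
    obtain ⟨d, hd⟩ := (Finite.injective_iff_surjective.1 (frobenius_inj F₀ 2)) ⟨_, h3⟩
    rw [frobenius_def] at hd
    have hd' : (d : F) = 1 + s * C := frobenius_inj F 2 (by
      rw [frobenius_def, frobenius_def, pow_two (1 + s * C)]; exact congrArg Subtype.val hd)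
    have : (f : F) * ((d : F) - 1) = C := by rw [hd', hs0]; field_simp; ring
    exact this ▸ F₀.mul_mem hfF (F₀.sub_mem d.2 F₀.one_mem)
  rw [hC] at hCF
  obtain ⟨d, hd⟩ := (Finite.injective_iff_surjective.1 (frobenius_inj F₀ 2)) ⟨_, hCF⟩
  rw [frobenius_def] at hd
  have hd' : (d : F) ^ 2 = (μ * μ) ^ 2 := by
    rw [pow_two (μ * μ)]; exact congrArg Subtype.val hd
  rw [← show (d : F) = μ * μ from frobenius_inj F 2 (by simpa [frobenius_def] using hd')]
  exact d.2

/-- In odd characteristic the values are proportional over the subfield on an orthogonal. -/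
theorem ratio_odd (D : Data F₀ P ζ) (hne : M ≠ ⊤) (h2 : (2 : F) ≠ 0) {w v x : V}
    (hw : T1 ζ w 1 ∈ M) (hv : R F₀ P v) (hx : R F₀ P x) (hvx : fz ζ v x = 0) (h : fz ζ v w ≠ 0) :
    fz ζ x w / fz ζ v w ∈ F₀ := by
  set μ := fz ζ v w with hμ
  have hv0 : v ≠ 0 := fun e => h (by rw [hμ, e, fz_zero_left])
  obtain ⟨p, hchar⟩ := CharP.exists F
  have hp : Fact p.Prime := ⟨by
    let _ := Fintype.ofFinite F
    obtain ⟨k, hk, -⟩ := FiniteField.card F p
    exact hk⟩
  have hp2 : p ≠ 2 := by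
    rintro rfl
    exact h2 (CharP.cast_eq_zero F 2)
  have hwv : fz ζ w v = -μ := fz_swap v w
  obtain ⟨H, hH⟩ := exists_plane ζ M v w
  have hup : CfsgLib.SL2.up (-μ) ∈ H := by
    refine (hH _).2 ⟨T1 ζ v 1, hM _ _ hv F₀.one_mem, ?_, ?_, fun u hu _ => ?_⟩
    · simp [app_T1, fz_self, CfsgLib.SL2.up_coe]
    · simp [app_T1, hwv, CfsgLib.SL2.up_coe, add_comm]
    · rw [app_T1, hu, mul_zero, zero_smul, add_zero]
  have hlo : CfsgLib.SL2.lo μ ∈ H := by
    refine (hH _).2 ⟨T1 ζ w 1, hw, ?_, ?_, fun u _ hu => ?_⟩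
    · simp [app_T1, ← hμ, CfsgLib.SL2.lo_coe]
    · simp [app_T1, fz_self, CfsgLib.SL2.lo_coe]
    · rw [app_T1, hu, mul_zero, zero_smul, add_zero]
  have hj : (-1 : SL(2, F)) ∈ H := neg_one_mem_of_transvections hp2 h hup hlo
  obtain ⟨j, hjM, j1, j2, j3⟩ := (hH _).1 hj
  simp at j1 j2
  obtain ⟨α, hα⟩ : ∃ α, α = fz ζ x w / μ := ⟨_, rfl⟩
  obtain ⟨x₀, hx₀⟩ : ∃ x₀, x₀ = x - α • v := ⟨_, rfl⟩
  have hω := fun {a b : V} (hab : fz ζ a b = 0) => ω_of_fz D.zeta hab
  have hxv := fz_swap0 hvx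
  have hx₀v : fz ζ x₀ v = 0 := by
    rw [hx₀, fz_sub_left, fz_smul_left, hxv, fz_self, mul_zero, sub_zero]
  have hvx₀ := fz_swap0 hx₀v
  have hx₀w : fz ζ x₀ w = 0 := by
    rw [hx₀, fz_sub_left, fz_smul_left, ← hμ, hα, div_mul_cancel₀ _ h, sub_self]
  have hY := E1_rat hM D.zeta hv hx hvx F₀.one_mem
  have hY' := M.mul_mem (M.mul_mem hjM hY) (M.inv_mem hjM)
  have e1 : app j x = x₀ - α • v := by
    rw [show x = x₀ + α • v by rw [hx₀]; module, app_add, app_smul, j3 x₀ hx₀v hx₀w, j1]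
    module
  rw [conj_E1 _ (hω hvx), j1, e1] at hY'
  have hprod := M.mul_mem hY hY'
  have key : E1 ζ v x 1 * E1 ζ (-v) (x₀ - α • v) 1 = T1 ζ v (4 * α) := by
    refine ext_app fun z => ?_
    rw [app_mul, app_E1 (hω hvx), app_E1 (hω (by
      rw [show -v = (-1 : F) • v by module, fz_smul_left, fz_sub_right, hvx₀, fz_smul_right, fz_self,
        mul_zero, sub_zero, mul_zero])), app_T1, show x = x₀ + α • v by rw [hx₀]; module]
    simp only [show -v = (-1 : F) • v by module, fz_add_left, fz_add_right, fz_sub_left, fz_sub_right,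
      fz_smul_left, fz_smul_right, fz_self, hx₀v, hvx₀]
    module
  rw [key] at hprod
  have := scalar_mem hM hr hcard D hne hv hv0 hprod
  have h4 : (4 : F) ≠ 0 := by
    rw [show (4 : F) = 2 * 2 by norm_num]
    exact mul_ne_zero h2 h2
  have h4m : (4 : F) ∈ F₀ := ofNat_mem F₀ 4
  have h5 := F₀.div_mem this h4m
  rwa [mul_div_cancel_left₀ _ h4, hα] at h5
where
  neg_one_mem_of_transvections {p : ℕ} [CharP F p] [hp : Fact p.Prime] (hp2 : p ≠ 2) {μ : F}
      (hμ : μ ≠ 0) {H : Subgroup SL(2, F)} (hup : CfsgLib.SL2.up (-μ) ∈ H)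
      (hlo : CfsgLib.SL2.lo μ ∈ H) : (-1 : SL(2, F)) ∈ H := by
    let _ := Fintype.ofFinite F
    have hn : 1 < Nat.card (Sylow p H) := by
      by_contra hcon
      have hsub : Subsingleton (Sylow p H) := Finite.card_le_one_iff_subsingleton.1 (by omega)
      obtain ⟨P₀⟩ : Nonempty (Sylow p H) := inferInstance
      have hall : ∀ g : H, g ^ p = 1 → g ∈ (P₀ : Subgroup H) := fun g hg => by
        have hPg : IsPGroup p (Subgroup.zpowers g) := by
          rintro ⟨_, k, rfl⟩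
          refine ⟨1, Subtype.ext ?_⟩
          simp only [pow_one, SubgroupClass.coe_pow, OneMemClass.coe_one]
          rw [← zpow_natCast, ← _root_.zpow_mul, mul_comm, _root_.zpow_mul, zpow_natCast, hg, _root_.one_zpow]
        obtain ⟨Q, hQ⟩ := hPg.exists_le_sylow
        rw [Subsingleton.elim P₀ Q]
        exact hQ (Subgroup.mem_zpowers g)
      obtain ⟨Q, hQ⟩ := (P₀.2.map H.subtype).exists_le_sylow
      obtain ⟨k, hk⟩ := CfsgLib.SL2.exists_conj_upperSL p Q
      have hin : ∀ g : SL(2, F), g ∈ H → g ^ p = 1 → ∃ b, k⁻¹ * g * k = CfsgLib.SL2.upperHom b := by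
        intro g hg hgp
        have hgQ := hQ ⟨⟨g, hg⟩, hall _ (Subtype.ext hgp), rfl⟩
        rw [hk] at hgQ
        obtain ⟨_, ⟨b, rfl⟩, hb⟩ := hgQ
        refine ⟨b, ?_⟩
        have hb' : k * CfsgLib.SL2.upperHom b * k⁻¹ = g := hb
        rw [← hb']
        group
      have hlp : (CfsgLib.SL2.lo μ : SL(2, F)) ^ p = 1 := by
        refine Subtype.ext ?_
        rw [Matrix.SpecialLinearGroup.coe_pow, CfsgLib.SL2.lo_coe]
        have hk : ∀ k : ℕ, (!![1, 0; μ, 1] : Matrix (Fin 2) (Fin 2) F) ^ k = !![1, 0; (k : F) * μ, 1] := by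
          intro k
          induction k with
          | zero => ext i j; fin_cases i <;> fin_cases j <;> simp
          | succ k ih =>
            rw [pow_succ, ih]
            ext i j; fin_cases i <;> fin_cases j <;> simp [Matrix.mul_apply, add_mul]
        rw [hk, CharP.cast_eq_zero F p, zero_mul]
        ext i j; fin_cases i <;> fin_cases j <;> simp
      obtain ⟨b, hb⟩ := hin _ hup (CfsgLib.SL2.up_pow (p := p) _)
      obtain ⟨b', hb'⟩ := hin _ hlo hlp
      have e : (k⁻¹ * CfsgLib.SL2.up (-μ) * k) * (k⁻¹ * CfsgLib.SL2.lo μ * k) =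
          (k⁻¹ * CfsgLib.SL2.lo μ * k) * (k⁻¹ * CfsgLib.SL2.up (-μ) * k) := by
        rw [hb, hb', ← map_mul, ← map_mul, mul_comm]
      have e' : CfsgLib.SL2.up (-μ) * CfsgLib.SL2.lo μ = CfsgLib.SL2.lo μ * CfsgLib.SL2.up (-μ) := by
        have := congrArg (fun g => k * g * k⁻¹) e
        simpa [mul_assoc] using this
      have h00 := congrArg (fun g : SL(2, F) => g.1 0 0) e'
      simp [CfsgLib.SL2.up_coe, CfsgLib.SL2.lo_coe, Matrix.mul_apply, hμ] at h00
    obtain ⟨ψ, hψ, hψH⟩ := CfsgLib.SL2.exists_sl2_zmod hp2 H hn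
    have h2F : (2 : F) ≠ 0 := CfsgLib.SL2.two_ne (p := p) hp2
    have h1 : ψ (-1) ≠ 1 := fun e => by
      have := congrArg (fun g : SL(2, ZMod p) => g.1 0 0) (hψ (e.trans ψ.map_one.symm))
      simp at this
      have h2Z : (2 : ZMod p) = 0 := by linear_combination -this
      exact CfsgLib.SL2.two_ne (F := ZMod p) (p := p) hp2 h2Z
    have h11 : ψ (-1) * ψ (-1) = 1 := by rw [← map_mul, neg_mul_neg, one_mul, map_one]
    rw [← CfsgLib.SL2.eq_neg_one_of_mul_self h2F h11 h1]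
    exact hψH ⟨_, rfl⟩

/-- The values of a transvection of `M` on rational vectors are proportional over the subfield. -/
theorem ratio_mem (D : Data F₀ P ζ) (hne : M ≠ ⊤) {w v x : V} (hw : T1 ζ w 1 ∈ M) (hv : R F₀ P v)
    (hx : R F₀ P x) (h : fz ζ v w ≠ 0) : fz ζ x w / fz ζ v w ∈ F₀ := by
  by_cases h2 : (2 : F) = 0
  · have : CharP F 2 := CharTwo.of_one_ne_zero_of_two_eq_zero one_ne_zero h2
    have := F₀.div_mem (sq_even hM hr hcard D hne h2 hw hx) (sq_even hM hr hcard D hne h2 hw hv)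
    obtain ⟨s, hs⟩ := (Finite.injective_iff_surjective.1 (frobenius_inj F₀ 2)) ⟨_, this⟩
    rw [frobenius_def] at hs
    have hs' : (s : F) ^ 2 = (fz ζ x w / fz ζ v w) ^ 2 := by
      rw [div_pow, pow_two (fz ζ x w), pow_two (fz ζ v w)]; exact congrArg Subtype.val hs
    rw [← show (s : F) = fz ζ x w / fz ζ v w from frobenius_inj F 2 (by rw [frobenius_def, frobenius_def]; exact hs')]
    exact s.2
  by_cases hvx : fz ζ v x = 0
  · exact ratio_odd hM hr hcard D hne h2 hw hv hx hvx h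
  by_cases hx0 : fz ζ x w = 0
  · rw [hx0, zero_div]; exact F₀.zero_mem
  obtain ⟨z, hz0, hz, hzp⟩ := exists_perp D (by have := D.two_le; omega : 2 < 2 * m) ![v, x]
    (fun i => by fin_cases i <;> assumption)
  have zv : fz ζ v z = 0 := hzp 0
  have zx : fz ζ x z = 0 := hzp 1
  by_cases hzw : fz ζ z w = 0
  · obtain ⟨z', hz', zz⟩ := exists_partner D hz hz0
    obtain ⟨u, hu⟩ : ∃ u, u = z' - fz ζ v z' • (fz ζ v x)⁻¹ • x + fz ζ x z' • (fz ζ v x)⁻¹ • v :=
      ⟨_, rfl⟩
    have huR : R F₀ P u := hu ▸ R_add (R_sub hz' (R_smul (fz_mem D hv hz') (R_smul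
      (F₀.inv_mem (fz_mem D hv hx)) hx))) (R_smul (fz_mem D hx hz') (R_smul
      (F₀.inv_mem (fz_mem D hv hx)) hv))
    have uv : fz ζ v u = 0 := by
      rw [hu]; simp only [fz_add_right, fz_sub_right, fz_smul_right, fz_self]
      field_simp; ring
    have ux : fz ζ x u = 0 := by
      rw [hu]; simp only [fz_add_right, fz_sub_right, fz_smul_right, fz_self, fz_swap v x]
      field_simp; ring
    by_cases huw : fz ζ u w = 0
    · have uz : fz ζ u z = -1 := by
        rw [hu]; simp [fz_add_left, fz_sub_left, fz_smul_left, zv, zx, fz_swap z z', zz]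
      -- shift `v` by `z`, keeping its value
      have h1 := ratio_odd hM hr hcard D hne h2 hw (R_add hv hz) (R_add hx (R_smul
        (F₀.neg_mem (fz_mem D hv hx)) huR)) (by
          rw [fz_add_left, fz_add_right, fz_add_right, fz_smul_right, fz_smul_right, uv, fz_swap x z, zx,
            fz_swap u z, uz]
          ring) (by rw [fz_add_left, hzw, add_zero]; exact h)
      rwa [fz_add_left, fz_add_left, fz_smul_left, hzw, huw, mul_zero, add_zero, add_zero] at h1
    · have a1 := ratio_odd hM hr hcard D hne h2 hw hv huR uv h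
      have a2 := ratio_odd hM hr hcard D hne h2 hw huR hx (fz_swap0 ux) huw
      have := F₀.mul_mem a1 a2
      rwa [show fz ζ u w / fz ζ v w * (fz ζ x w / fz ζ u w) = fz ζ x w / fz ζ v w by field_simp] at this
  · have a1 := ratio_odd hM hr hcard D hne h2 hw hv hz zv h
    have a2 := ratio_odd hM hr hcard D hne h2 hw hz hx (fz_swap0 zx) hzw
    have := F₀.mul_mem a1 a2
    rwa [show fz ζ z w / fz ζ v w * (fz ζ x w / fz ζ z w) = fz ζ x w / fz ζ v w by field_simp] at this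

/-- A transvection of `M` is rational. -/
theorem transvection_rational (D : Data F₀ P ζ) (hne : M ≠ ⊤) {w : V} (hw0 : w ≠ 0)
    (hw : T1 ζ w 1 ∈ M) : ∃ (a : F) (z : V), R F₀ P z ∧ w = a • z ∧ a * a ∈ F₀ := by
  obtain ⟨v, hv, h⟩ : ∃ v, R F₀ P v ∧ fz ζ v w ≠ 0 := by
    by_contra hcon
    push Not at hcon
    exact hw0 (eq_zero_of_R (F₀ := F₀) (P := P) D.zeta fun y hy => fz_swap0 (hcon y hy))
  set a := fz ζ v w
  obtain ⟨z, hz, hzv⟩ := exists_dual_cols D fun j => fz_swap_div D hne hw hv h j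
  have hwz : a⁻¹ • w = z := by
    refine sub_eq_zero.1 (eq_zero_of_cols (P := P) D.zeta fun j => ?_)
    rw [fz_sub_left, fz_smul_left, hzv j]
    ring
  have hwe : w = a • z := by rw [← hwz, smul_smul, mul_inv_cancel₀ h, one_smul]
  refine ⟨a, z, hz, hwe, ?_⟩
  have hz0 : z ≠ 0 := fun e => hw0 (by rw [hwe, e, smul_zero])
  rw [hwe, T1_smul, mul_one] at hw
  exact scalar_mem hM hr hcard D hne hz hz0 hw
where
  fz_swap_div {w v : V} (D : Data F₀ P ζ) (hne : M ≠ ⊤) (hw : T1 ζ w 1 ∈ M) (hv : R F₀ P v)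
      (h : fz ζ v w ≠ 0) (j : ι) : (fz ζ v w)⁻¹ * fz ζ w (col P j) ∈ F₀ := by
    rw [fz_swap (col P j) w, mul_neg, inv_mul_eq_div]
    exact F₀.neg_mem (ratio_mem hM hr hcard D hne hw hv (R_col j) h)
  exists_dual_cols (D : Data F₀ P ζ) {a : F} {w : V} (hs : ∀ j, a⁻¹ * fz ζ w (col P j) ∈ F₀) :
      ∃ z, R F₀ P z ∧ ∀ j, fz ζ z (col P j) = a⁻¹ * fz ζ w (col P j) := by
    classical
    let eι := Fintype.equivFin (Fin m ⊕ Fin m)
    obtain ⟨z, hz, hzv⟩ := exists_dual D (fun i => col P (eι.symm i)) (fun i => R_col _)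
      (fun c hc => by
        have h1 : (P : Matrix ι ι F) *ᵥ (fun j => c (eι j)) = 0 := by
          rw [← hc, mulVec_eq_sum, ← eι.symm.sum_comp]
          refine Finset.sum_congr rfl fun i _ => ?_
          ext k
          simp [col, mulVec_single_one, Matrix.col_apply, mul_comm]
        have h2 := congrArg (((P⁻¹ : GL ι F) : Matrix ι ι F) *ᵥ ·) h1
        simp [mulVec_mulVec] at h2
        funext i
        simpa using congrFun h2 (eι.symm i))
      (fun i => -(a⁻¹ * fz ζ w (col P (eι.symm i)))) fun i => F₀.neg_mem (hs _)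
    refine ⟨z, hz, fun j => ?_⟩
    have := hzv (eι j)
    simp only [Equiv.symm_apply_apply] at this
    rw [fz_swap (col P j) z, this, neg_neg]

omit hr hcard hM in
theorem exists_both (D : Data F₀ P ζ) {v u : V} (hv : R F₀ P v) (hu : R F₀ P u) (hv0 : v ≠ 0)
    (hu0 : u ≠ 0) : ∃ z, R F₀ P z ∧ fz ζ v z ≠ 0 ∧ fz ζ u z ≠ 0 := by
  obtain ⟨v', hv', h1⟩ := exists_partner D hv hv0
  obtain ⟨u', hu', h2⟩ := exists_partner D hu hu0
  by_cases e1 : fz ζ u v' = 0
  · by_cases e2 : fz ζ v u' = 0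
    · exact ⟨v' + u', R_add hv' hu', by rw [fz_add_right, h1, e2, add_zero]; exact one_ne_zero,
        by rw [fz_add_right, e1, h2, zero_add]; exact one_ne_zero⟩
    · exact ⟨u', hu', e2, by rw [h2]; exact one_ne_zero⟩
  · exact ⟨v', hv', by rw [h1]; exact one_ne_zero, e1⟩

/-- Every element of a proper overgroup sends the rational vectors to one multiple of them. -/
theorem exists_multiplier (D : Data F₀ P ζ) (hne : M ≠ ⊤) {g : G} (hg : g ∈ M) :
    ∃ c : F, c ≠ 0 ∧ ∀ j, R F₀ P (c⁻¹ • app g (col P j)) := by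
  have himg : ∀ v, R F₀ P v → v ≠ 0 → ∃ (a : F) (z : V), a ≠ 0 ∧ R F₀ P z ∧ app g v = a • z ∧
      a * a ∈ F₀ := by
    intro v hv hv0
    have : T1 ζ (app g v) 1 ∈ M := by
      rw [← conj_T1]; exact M.mul_mem (M.mul_mem hg (hM v 1 hv F₀.one_mem)) (M.inv_mem hg)
    obtain ⟨a, z, hz, e, ha⟩ := transvection_rational hM hr hcard D hne (app_ne_zero g hv0) this
    exact ⟨a, z, fun e0 => app_ne_zero g hv0 (by rw [e, e0, zero_smul]), hz, e, ha⟩
  have hlink : ∀ v v' (a a' : F) (z z' : V), R F₀ P v → R F₀ P v' → R F₀ P z → R F₀ P z' →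
      app g v = a • z → app g v' = a' • z' → a * a ∈ F₀ → a ≠ 0 → fz ζ v v' ≠ 0 → a' / a ∈ F₀ := by
    intro v v' a a' z z' hv hv' hz hz' e e' ha ha0 hvv
    have h := fz_app (ζ := ζ) g v v'
    rw [e, e', fz_smul_left, fz_smul_right] at h
    have hzz : fz ζ z z' ≠ 0 := fun e0 => hvv (by rw [← h, e0, mul_zero, mul_zero])
    have := F₀.div_mem (F₀.div_mem (fz_mem D hv hv') (fz_mem D hz hz')) ha
    rwa [← h, show a * (a' * fz ζ z z') / fz ζ z z' / (a * a) = a' / a by field_simp] at this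
  have hm := D.two_le
  have hcol : ∀ j, col P j ≠ 0 := fun j e => by
    have h := inv_col (P := P) j
    rw [e, mulVec_zero] at h
    simpa using congrFun h j
  let j₀ : ι := Sum.inl ⟨0, by omega⟩
  obtain ⟨c, z₀, hc, hz₀, e₀, hcc⟩ := himg _ (R_col j₀) (hcol j₀)
  refine ⟨c, hc, fun j => ?_⟩
  obtain ⟨u, hu, u1, u2⟩ := exists_both D (R_col (F₀ := F₀) j₀) (R_col j) (hcol j₀) (hcol j)
  obtain ⟨b, zb, hb, hzb, eb, hbb⟩ := himg u hu (fun e => u1 (by rw [e, fz_zero_right]))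
  obtain ⟨a, z, ha, hz, e, haa⟩ := himg _ (R_col j) (hcol j)
  have m1 := hlink _ _ _ _ _ _ (R_col j₀) hu hz₀ hzb e₀ eb hcc hc u1
  have m2 := hlink _ _ _ _ _ _ hu (R_col j) hzb hz eb e hbb hb (by rw [fz_swap]; exact neg_ne_zero.2 u2)
  have := F₀.mul_mem m1 m2
  rw [show b / c * (a / b) = c⁻¹ * a by field_simp] at this
  rw [e, smul_smul]
  exact R_smul this hz

omit hr hcard hM

/-- Membership in the subfield subgroup, on the columns. -/
theorem mem_subfield_iff {g : GL ι F} : g ∈ Cfsg.Geo.subfieldSubgroup F₀ P ↔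
    ∃ c : F, c ≠ 0 ∧ ∀ j, R F₀ P (c⁻¹ • ((g : Matrix ι ι F) *ᵥ col P j)) := by
  have ent : ∀ (i j : ι) (c : F), (((P⁻¹ : GL ι F) : Matrix ι ι F) *ᵥ
      (c⁻¹ • ((g : Matrix ι ι F) *ᵥ col P j))) i = c⁻¹ * (P⁻¹ * g * P).1 i j := fun i j c => by
    rw [mulVec_smul, col, mulVec_mulVec, mulVec_mulVec, mulVec_single_one, Pi.smul_apply,
      Matrix.col_apply, smul_eq_mul, Units.val_mul, Units.val_mul]
  constructor
  · rintro ⟨N, hN, rfl⟩
    obtain ⟨A, ⟨A₀, rfl⟩, S, hS, rfl⟩ := Subgroup.mem_sup_of_normal_right.1 hN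
    obtain ⟨c, hc⟩ := (Cfsg.Geo.mem_scalars_iff S).1 hS
    refine ⟨c, c.ne_zero, fun j i => ?_⟩
    rw [ent]
    simp only [MulEquiv.coe_toMonoidHom, MulAut.conj_apply]
    rw [show P⁻¹ * (P * (Matrix.GeneralLinearGroup.map F₀.subtype A₀ * S) * P⁻¹) * P =
      Matrix.GeneralLinearGroup.map F₀.subtype A₀ * S by group, Units.val_mul, hc]
    simp
  · rintro ⟨c, hc, h⟩
    let N₀ : Matrix ι ι F₀ := fun i j => ⟨_, ent i j c ▸ h j i⟩
    have hN : N₀.map F₀.subtype = c⁻¹ • (P⁻¹ * g * P).1 := by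
      ext i j
      rfl
    have hdet : N₀.det ≠ 0 := fun e => by
      have h1 := RingHom.map_det F₀.subtype N₀
      rw [e, map_zero, RingHom.mapMatrix_apply, hN, Matrix.det_smul] at h1
      exact mul_ne_zero (pow_ne_zero _ (inv_ne_zero hc))
        (Matrix.GeneralLinearGroup.det (P⁻¹ * g * P)).ne_zero h1.symm
    let S : GL ι F := Units.map (Matrix.scalar ι : F →+* _).toMonoidHom (Units.mk0 c hc)
    refine ⟨Matrix.GeneralLinearGroup.map F₀.subtype (Matrix.GeneralLinearGroup.mkOfDetNeZero N₀ hdet) * S,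
      Subgroup.mul_mem_sup ⟨_, rfl⟩ ⟨_, rfl⟩, ?_⟩
    simp only [MulEquiv.coe_toMonoidHom, MulAut.conj_apply]
    have e : Matrix.GeneralLinearGroup.map F₀.subtype (Matrix.GeneralLinearGroup.mkOfDetNeZero N₀ hdet) * S =
        P⁻¹ * g * P := by
      refine Units.ext ?_
      show N₀.map F₀.subtype * Matrix.scalar ι c = _
      rw [hN, Matrix.scalar_apply, ← Matrix.smul_one_eq_diagonal, Matrix.mul_smul, mul_one, smul_smul,
        mul_inv_cancel₀ hc, one_smul]
    rw [e]; group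

include hr hcard

theorem isMaximalIn_subfield (D : Data F₀ P ζ) :
    Cfsg.Geo.IsMaximalIn (spGL m F) (Cfsg.Geo.subfieldSubgroup F₀ P ⊓ spGL m F) := by
  have hm := D.two_le
  obtain ⟨t, ht⟩ : ∃ t : F, t ∉ F₀ := by
    by_contra hall
    push Not at hall
    have hle : Nat.card F ≤ Nat.card F₀ :=
      Nat.card_le_card_of_injective (fun x => (⟨x, hall x⟩ : F₀)) fun x y e => congrArg Subtype.val e
    have h1 : 1 < Nat.card F₀ := Finite.one_lt_card
    have : Nat.card F₀ ^ 1 < Nat.card F₀ ^ r := Nat.pow_lt_pow_right h1 hr.one_lt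
    rw [pow_one] at this
    omega
  have hcol : ∀ j, col P j ≠ 0 := fun j e => by
    have h := inv_col (P := P) j
    rw [e, mulVec_zero] at h
    simpa using congrFun h j
  let j₀ : ι := Sum.inl ⟨0, by omega⟩
  refine ⟨lt_of_le_not_ge inf_le_right fun h => ?_, fun M hM' hK => ?_⟩
  · obtain ⟨v', hv', h1⟩ := exists_partner D (R_col (F₀ := F₀) j₀) (hcol j₀)
    obtain ⟨c, hc, hj⟩ := mem_subfield_iff.1 (h (toSpGL (T1 ζ (col P j₀) t)).2).1
    have key : ∀ u, R F₀ P u → R F₀ P (c⁻¹ • app (T1 ζ (col P j₀) t) u) := fun u hu i => by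
      obtain ⟨w, hw, rfl⟩ := R_exists hu
      rw [mulVec_eq_cols (P := P) w, app, mulVec_sum, Finset.smul_sum, mulVec_sum, Finset.sum_apply]
      refine sum_mem fun k _ => ?_
      have h2 := hj k i
      simp only [mulVec_smul, Pi.smul_apply, smul_eq_mul] at h2 ⊢
      rw [mul_left_comm]
      exact F₀.mul_mem (hw k) h2
    obtain ⟨i, hi⟩ : ∃ i, (((P⁻¹ : GL ι F) : Matrix ι ι F) *ᵥ col P j₀) i ≠ 0 := ⟨j₀, by
      rw [inv_col]; simp⟩
    have h2 := key _ (R_col j₀) i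
    rw [app_T1, fz_self, mul_zero, zero_smul, add_zero, mulVec_smul, Pi.smul_apply, smul_eq_mul] at h2
    have hcF : c⁻¹ ∈ F₀ := by
      have := F₀.div_mem h2 (R_col (F₀ := F₀) (P := P) j₀ i)
      rwa [mul_div_assoc, div_self hi, mul_one] at this
    have h3 := R_smul (F₀.inv_mem hcF) (key v' hv')
    rw [inv_inv, smul_smul, mul_inv_cancel₀ hc, one_smul, app_T1] at h3
    have h4 := R_sub h3 hv' i
    rw [add_sub_cancel_left, mulVec_smul, Pi.smul_apply, smul_eq_mul, fz_swap (col P j₀) v', h1] at h4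
    have := F₀.div_mem h4 (R_col (F₀ := F₀) (P := P) j₀ i)
    rw [mul_div_assoc, div_self hi, mul_one, mul_neg, mul_one, neg_mem_iff] at this
    exact ht this
  have hM : ∀ (v : V) (s : F), R F₀ P v → s ∈ F₀ →
      T1 ζ v s ∈ M.comap ((spGL m F).subtype.comp toSpGL) := fun v s hv hs =>
    hM' ⟨mem_subfield_iff.2 ⟨1, one_ne_zero, fun j => by
      rw [inv_one, one_smul]
      show R F₀ P (app (T1 ζ v s) (col P j))
      rw [app_T1]
      exact R_add (R_col j) (R_smul (F₀.mul_mem hs (fz_mem D (R_col j) hv)) hv)⟩, (toSpGL _).2⟩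
  by_cases htop : M.comap ((spGL m F).subtype.comp toSpGL) = ⊤
  · refine Or.inr (le_antisymm hK fun g hg => ?_)
    obtain ⟨x, hx⟩ := toSpGL_surjective (⟨g, hg⟩ : spGL m F)
    have : x ∈ M.comap ((spGL m F).subtype.comp toSpGL) := htop ▸ Subgroup.mem_top x
    simpa [hx] using this
  · refine Or.inl (le_antisymm (fun g hg => ?_) hM')
    obtain ⟨x, hx⟩ := toSpGL_surjective (⟨g, hK hg⟩ : spGL m F)
    have hx' : (toSpGL x : GL ι F) = g := congrArg Subtype.val hx
    subst hx'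
    exact ⟨mem_subfield_iff.2 (exists_multiplier hM hr hcard D htop hg), (toSpGL x).2⟩

end CfsgLib.Classical.SympSubfield
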