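import Cfsg.Agent.Lib.Classical.SympTrans
import Cfsg.Prelude.Def_GeometricClasses

set_option autoImplicit false

/-!
Maximality of subspace stabilisers in symplectic groups.
-/

namespace CfsgLib.Classical.SympStab

open Matrix Cfsg SympTrans

variable {F : Type*} [Field F] {m : ℕ}

local notation "V" => (Fin m ⊕ Fin m → F)
local notation "G" => Matrix.symplecticGroup (Fin m) F
local notation "ω" => sympForm m F

/-- `app g` as a linear map. -/
def lin (g : G) : V →ₗ[F] V where
  toFun := app g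
  map_add' := app_add g
  map_smul' := app_smul g

theorem app_injective (g : G) : Function.Injective (app g) := Function.LeftInverse.injective (app_inv g)

/-- The stabiliser of `W`. -/
def stab (W : Submodule F V) : Set G := {g | ∀ w ∈ W, app g w ∈ W}

theorem stab_iff {W : Submodule F V} {g : G} (hg : g ∈ stab W) (v : V) : v ∈ W ↔ app g v ∈ W := by
  refine ⟨hg v, fun hv => ?_⟩
  obtain ⟨⟨w, hw⟩, hw'⟩ := ((lin g).restrict hg).surjective_of_injective
    (fun a b e => Subtype.ext (app_injective g (congrArg Subtype.val e))) ⟨app g v, hv⟩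
  rwa [← app_injective g (congrArg Subtype.val hw' : app g w = app g v)]

/-- The centres all of whose transvections lie in `K`. -/
def centres (K : Subgroup G) : Set V := {v | ∀ c : F, T v c ∈ K}

theorem app_mem_centres {K : Subgroup G} {g : G} (hg : g ∈ K) {v : V} (hv : v ∈ centres K) :
    app g v ∈ centres K := fun c => by
  rw [← conj_T]
  exact K.mul_mem (K.mul_mem hg (hv c)) (K.inv_mem hg)

theorem smul_mem_centres {K : Subgroup G} (a : F) {v : V} (hv : v ∈ centres K) :
    a • v ∈ centres K := fun c => by rw [T_smul]; exact hv _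

theorem eq_top_of_centres {K : Subgroup G} (h : ∀ v, v ∈ centres K) : K = ⊤ := by
  rw [eq_top_iff, ← gen_univ, gen, Subgroup.closure_le]
  rintro _ ⟨v, -, c, rfl⟩
  exact h v c

theorem T_mem_stab {W : Submodule F V} {v : V} (h : v ∈ W ∨ ∀ w ∈ W, ω w v = 0) (c : F) :
    T v c ∈ stab W := fun w hw => by
  rw [app_T]
  rcases h with h | h
  · exact W.add_mem hw (W.smul_mem _ h)
  · rw [h w hw, mul_zero, zero_smul, add_zero]; exact hw

/-- The element `x ↦ x + ω(x,a) b + ω(x,b) a` for `ω(a,b) = 0`. -/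
def E (a b : V) : G := T (a + b) 1 * T a (-1) * T b (-1)

theorem app_E {a b : V} (h : ω a b = 0) (x : V) :
    app (E a b) x = x + ω x a • b + ω x b • a := by
  have h' : ω b a = 0 := by rw [f_swap, h, neg_zero]
  simp only [E, app_mul, app_T, f_add_left, f_add_right, f_smul_left, f_self, h, h', smul_add]
  module

theorem mem_of_orth_orth {W : Submodule F V} {x : V}
    (h : ∀ u, (∀ w ∈ W, ω w u = 0) → ω x u = 0) : x ∈ W := by
  let B : LinearMap.BilinForm F V :=
    LinearMap.mk₂ F (ω) f_add_left f_smul_left f_add_right f_smul_right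
  have hr : LinearMap.IsRefl B := fun a b h => by
    show ω b a = 0
    rw [f_swap, show ω a b = 0 from h, neg_zero]
  rw [← LinearMap.BilinForm.orthogonal_orthogonal
    ((hr.nondegenerate_iff_separatingLeft).2 fun a ha => eq_zero_of_f a ha) hr W]
  intro u hu
  show ω u x = 0
  rw [f_swap, h u fun w hw => hu w hw, neg_zero]

theorem singular_le_or_top {W : Submodule F V} (hW : Cfsg.Geo.IsTotallySingularFor (ω) W)
    (K : Subgroup G) (hK : stab W ⊆ K) : K = ⊤ ∨ (K : Set G) ⊆ stab W := by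
  by_cases hR : ∀ u ∈ centres K, ∀ w ∈ W, ω w u = 0
  · refine Or.inr fun g hg => ?_
    by_contra hgW
    obtain ⟨w, hw, hgw⟩ : ∃ w ∈ W, app g w ∉ W := by
      simpa [stab] using hgW
    -- `g` preserves the orthogonal of `W`
    let P : Submodule F V :=
      { carrier := {u | ∀ w ∈ W, ω w u = 0}
        add_mem' := fun {a b} ha hb w hw => by rw [f_add_right, ha w hw, hb w hw, add_zero]
        zero_mem' := fun w _ => f_zero_right w
        smul_mem' := fun c u hu w hw => by rw [f_smul_right, hu w hw, mul_zero] }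
    have hP : ∀ u ∈ P, app g u ∈ P := fun u hu =>
      hR _ (app_mem_centres hg fun c => hK (T_mem_stab (Or.inr hu) c))
    refine hgw (mem_of_orth_orth fun u hu => ?_)
    obtain ⟨⟨u', hu'⟩, he⟩ := ((lin g).restrict hP).surjective_of_injective
      (fun a b e => Subtype.ext (app_injective g (congrArg Subtype.val e))) ⟨u, hu⟩
    have he' : app g u' = u := congrArg Subtype.val he
    rw [← he', f_app]
    exact hu' w hw
  left
  push Not at hR
  obtain ⟨u, hu, w, hw, hwu⟩ := hR
  refine eq_top_of_centres fun v => ?_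
  by_cases hv : ∀ w ∈ W, ω w v = 0
  · exact fun c => hK (T_mem_stab (Or.inr hv) c)
  push Not at hv
  obtain ⟨a₀, ha₀, h1, h2⟩ := exists_ne_pair (a := fun x => ω x u) (b := fun x => ω x v) W
    (fun x y => f_add_left x y u) (fun x y => f_add_left x y v) ⟨w, hw, hwu⟩ hv
  rw [f_swap, neg_ne_zero] at h1 h2
  set a := (ω u a₀)⁻¹ • a₀ with hadef
  have ha : a ∈ W := W.smul_mem _ ha₀
  have hua : ω u a = 1 := by rw [hadef, f_smul_right, inv_mul_cancel₀ h1]
  have hva : ω v a ≠ 0 := by
    rw [hadef, f_smul_right]; exact mul_ne_zero (inv_ne_zero h1) h2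
  set b := (ω v a)⁻¹ • v - u with hbdef
  have hab : ω a b = 0 := by
    rw [f_swap, neg_eq_zero, hbdef, f_sub_left, f_smul_left, inv_mul_cancel₀ hva, hua, sub_self]
  have hEm : E a b ∈ stab W := fun x hx => by
    rw [app_E hab, hW x hx a ha, zero_smul, add_zero]
    exact W.add_mem hx (W.smul_mem _ ha)
  have h3 := app_mem_centres (hK (T_mem_stab (Or.inl ha) (-ω u b)))
    (app_mem_centres (hK hEm) hu)
  rw [app_E hab, hua, one_smul, app_T, f_add_left, f_add_left, f_smul_left, f_self, mul_zero,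
    add_zero, hua, show ω b a = 0 by rw [f_swap, hab, neg_zero], add_zero, mul_one,
    add_assoc, neg_smul, add_neg_cancel, add_zero, hbdef, add_sub_cancel] at h3
  simpa [smul_smul, hva] using smul_mem_centres (ω v a) h3

/-- Transitivity on a non-degenerate subspace. -/
theorem exists_move_in {P : Submodule F V} (hP : ∀ w ∈ P, w ≠ 0 → ∃ z ∈ P, ω w z ≠ 0) {u w : V}
    (hu : u ∈ P) (hw : w ∈ P) (hu0 : u ≠ 0) (hw0 : w ≠ 0) :
    ∃ g ∈ gen (P : Set V), app g u = w := by
  have step : ∀ a b : V, a ∈ P → b ∈ P → ω a b ≠ 0 → ∃ g ∈ gen (P : Set V), app g a = b :=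
    fun a b ha hb h => ⟨T (b - a) (ω a b)⁻¹,
      T_mem_gen (W := (P : Set V)) (show b - a ∈ P from P.sub_mem hb ha) _, T_diff h⟩
  obtain ⟨z, hz, h1, h2⟩ := exists_ne_pair P (f_add_right u) (f_add_right w)
    (hP u hu hu0) (hP w hw hw0)
  obtain ⟨g, hg, hgu⟩ := step u z hu hz h1
  obtain ⟨g', hg', hgz⟩ := step z w hz hw (by rw [f_swap]; exact neg_ne_zero.2 h2)
  exact ⟨g' * g, mul_mem hg' hg, by rw [app_mul, hgu, hgz]⟩

/-- The orthogonal of `W`. -/
def orth (W : Submodule F V) : Submodule F V where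
  carrier := {u | ∀ w ∈ W, ω w u = 0}
  add_mem' := fun {a b} ha hb w hw => by rw [f_add_right, ha w hw, hb w hw, add_zero]
  zero_mem' := fun w _ => f_zero_right w
  smul_mem' := fun c u hu w hw => by rw [f_smul_right, hu w hw, mul_zero]

theorem exists_split {W : Submodule F V} (hW : Cfsg.Geo.IsNondegenerateOn (ω) W) (v : V) :
    ∃ a ∈ W, v - a ∈ orth W := by
  let φ : W →ₗ[F] Module.Dual F W := LinearMap.mk₂ F (fun (a x : W) => ω (x : V) (a : V))
    (fun a b x => f_add_right _ _ _) (fun c a x => f_smul_right c _ _)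
    (fun a x y => f_add_left _ _ _) (fun c a x => f_smul_left c _ _)
  have hφ : Function.Injective φ := by
    rw [← LinearMap.ker_eq_bot, Submodule.eq_bot_iff]
    intro a ha
    by_contra h0
    obtain ⟨x, hx, hxa⟩ := (hW a a.2 fun h => h0 (Subtype.ext h)).1
    exact hxa (LinearMap.congr_fun ha ⟨x, hx⟩)
  obtain ⟨a, ha⟩ := (LinearMap.injective_iff_surjective_of_finrank_eq_finrank
    Subspace.dual_finrank_eq.symm).1 hφ
    { toFun := fun x => ω (x : V) v, map_add' := fun x y => f_add_left _ _ _,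
      map_smul' := fun c x => f_smul_left c _ _ }
  exact ⟨a, a.2, fun w hw => by
    rw [f_sub_right, sub_eq_zero]; exact (LinearMap.congr_fun ha ⟨w, hw⟩).symm⟩

theorem isCompl_orth {W : Submodule F V} (hW : Cfsg.Geo.IsNondegenerateOn (ω) W) :
    IsCompl W (orth W) := by
  refine IsCompl.of_eq ((Submodule.eq_bot_iff _).2 fun a ha => ?_) (eq_top_iff.2 fun v _ => ?_)
  · by_contra h0
    obtain ⟨x, hx, hxa⟩ := (hW a ha.1 h0).1
    exact hxa (ha.2 x hx)
  · obtain ⟨a, ha, hva⟩ := exists_split hW v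
    exact Submodule.mem_sup.2 ⟨a, ha, v - a, hva, add_sub_cancel a v⟩

theorem nondegenerate_le_or_top {W : Submodule F V} (hW : Cfsg.Geo.IsNondegenerateOn (ω) W)
    (hd : Module.finrank F W < m) (K : Subgroup G) (hK : stab W ⊆ K) :
    K = ⊤ ∨ (K : Set G) ⊆ stab W := by
  have hW' : ∀ w ∈ W, w ≠ 0 → ∃ z ∈ W, ω w z ≠ 0 := fun w hw h0 => (hW w hw h0).2
  have hU : ∀ b ∈ orth W, b ≠ 0 → ∃ z ∈ orth W, ω b z ≠ 0 := fun b hb h0 => by
    by_contra hc
    push Not at hc
    refine h0 (eq_zero_of_f b fun v => ?_)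
    obtain ⟨a, ha, hva⟩ := exists_split hW v
    rw [← add_sub_cancel a v, f_add_right, hc _ hva, add_zero, f_swap, hb a ha, neg_zero]
  have hc1 : ∀ v ∈ W, v ∈ centres K := fun v hv c => hK (T_mem_stab (Or.inl hv) c)
  have hc2 : ∀ v ∈ orth W, v ∈ centres K := fun v hv c => hK (T_mem_stab (Or.inr hv) c)
  have hgK : ∀ P : Submodule F V, (∀ v ∈ P, v ∈ centres K) → gen (P : Set V) ≤ K := fun P hP => by
    rw [gen, Subgroup.closure_le]
    rintro _ ⟨v, hv, c, rfl⟩
    exact hP v hv c
  have hW1 : ∀ p ∈ orth W, ∀ v ∈ W, ω p v = 0 := fun p hp v hv => by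
    rw [f_swap, hp v hv, neg_zero]
  have hdim : Module.finrank F W < Module.finrank F (orth W) := by
    have := Submodule.finrank_add_eq_of_isCompl (isCompl_orth hW)
    rw [Module.finrank_pi, Fintype.card_sum, Fintype.card_fin] at this
    omega
  by_cases hR : ∀ u ∈ centres K, u ∈ W ∨ u ∈ orth W
  · refine Or.inr fun g hg w hw => ?_
    have hP : ∀ u ∈ orth W, app g u ∈ orth W := by
      by_contra hc
      push Not at hc
      obtain ⟨u, hu, hgu⟩ := hc
      have h1 : app g u ∈ W := (hR _ (app_mem_centres hg (hc2 u hu))).resolve_right hgu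
      have h2 : ∀ u' ∈ orth W, app g u' ∈ W := fun u' hu' => by
        rcases hR _ (app_mem_centres hg (hc2 _ hu')) with h | h
        · exact h
        rcases hR _ (app_mem_centres hg (hc2 _ ((orth W).add_mem hu hu'))) with h' | h' <;>
          rw [app_add] at h'
        · exact (W.add_mem_iff_right h1).1 h'
        · exact absurd (((orth W).add_mem_iff_left h).1 h') hgu
      have := LinearMap.finrank_le_finrank_of_injective (f := (lin g).restrict h2)
        fun a b e => Subtype.ext (app_injective g (congrArg Subtype.val e))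
      omega
    obtain ⟨a, ha, hb⟩ := exists_split hW (app g w)
    have : app g w - a = 0 := by
      by_contra h0
      obtain ⟨z, hz, hbz⟩ := hU _ hb h0
      obtain ⟨⟨u', hu'⟩, he⟩ := ((lin g).restrict hP).surjective_of_injective
        (fun a b e => Subtype.ext (app_injective g (congrArg Subtype.val e))) ⟨z, hz⟩
      refine hbz ?_
      have h1 : ω (app g w) z = 0 := by
        have he' : app g u' = z := congrArg Subtype.val he
        rw [← he', f_app]; exact hu' w hw
      rw [f_sub_left, h1, hz a ha, sub_zero]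
    rwa [sub_eq_zero.1 this]
  left
  push Not at hR
  obtain ⟨u, hu, huW, huU⟩ := hR
  refine eq_top_of_centres fun v => ?_
  obtain ⟨a, ha, hb⟩ := exists_split hW u
  obtain ⟨a', ha', hb'⟩ := exists_split hW v
  have ha0 : a ≠ 0 := fun h => huU (by rw [h, sub_zero] at hb; exact hb)
  have hb0 : u - a ≠ 0 := fun h => huW (by rw [sub_eq_zero.1 h]; exact ha)
  by_cases ha'0 : a' = 0
  · rw [ha'0, sub_zero] at hb'; exact hc2 v hb'
  by_cases hb'0 : v - a' = 0
  · rw [sub_eq_zero.1 hb'0]; exact hc1 a' ha'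
  obtain ⟨g, hg, hga⟩ := exists_move_in hW' ha ha' ha0 ha'0
  obtain ⟨h, hh, hhb⟩ := exists_move_in hU hb hb' hb0 hb'0
  have := app_mem_centres (hgK _ hc2 hh) (app_mem_centres (hgK _ hc1 hg) hu)
  have h1 : app h a' = a' := gen_fix (fun x (hx : x ∈ orth W) => hx a' ha') hh
  rwa [← add_sub_cancel a u, app_add, hga, gen_fix (hW1 _ hb) hg, app_add,
    h1, hhb, add_sub_cancel] at this

theorem exists_notMem_stab {W : Submodule F V} (hW0 : W ≠ ⊥) (hW1 : W ≠ ⊤) :
    ∃ g : G, g ∉ stab W := by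
  obtain ⟨w, hw, hw0⟩ := Submodule.exists_mem_ne_zero_of_ne_bot hW0
  obtain ⟨v, hv⟩ : ∃ v, v ∉ W := by
    by_contra hc
    push Not at hc
    exact hW1 (eq_top_iff.2 fun v _ => hc v)
  obtain ⟨g, hg⟩ := exists_app_eq hw0 (w := v) fun h => hv (h ▸ W.zero_mem)
  exact ⟨g, fun h => hv (hg ▸ h w hw)⟩

theorem mem_subspaceStabilizer_iff (W : Submodule F V) (g : G) :
    (toSpGL g : GL (Fin m ⊕ Fin m) F) ∈ Cfsg.Geo.subspaceStabilizer W ↔ g ∈ stab W :=
  ⟨fun h w hw => (h w).1 hw, fun h v => stab_iff h v⟩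

theorem isMaximalIn_of {W : Submodule F V} (hW0 : W ≠ ⊥) (hW1 : W ≠ ⊤)
    (h : ∀ K : Subgroup G, stab W ⊆ K → K = ⊤ ∨ (K : Set G) ⊆ stab W) :
    Cfsg.Geo.IsMaximalIn (spGL m F) (Cfsg.Geo.subspaceStabilizer W ⊓ spGL m F) := by
  refine ⟨lt_of_le_not_ge inf_le_right fun hle => ?_, fun M hM hM' => ?_⟩
  · obtain ⟨g, hg⟩ := exists_notMem_stab hW0 hW1
    exact hg ((mem_subspaceStabilizer_iff W g).1 (hle (toSpGL g).2).1)
  rcases h (M.comap ((spGL m F).subtype.comp toSpGL)) (fun g hg =>
      hM ⟨(mem_subspaceStabilizer_iff W g).2 hg, (toSpGL g).2⟩) with h | h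
  · refine Or.inr (le_antisymm hM' fun g hg => ?_)
    obtain ⟨s, hs⟩ := toSpGL_surjective (⟨g, hg⟩ : spGL m F)
    have : s ∈ M.comap ((spGL m F).subtype.comp toSpGL) := h ▸ Subgroup.mem_top s
    simpa [hs] using this
  · refine Or.inl (le_antisymm (fun g hg => ?_) hM)
    obtain ⟨s, hs⟩ := toSpGL_surjective (⟨g, hM' hg⟩ : spGL m F)
    have hs' : (toSpGL s : GL (Fin m ⊕ Fin m) F) = g := congrArg Subtype.val hs
    subst hs'
    exact ⟨(mem_subspaceStabilizer_iff W s).2 (h hg), (toSpGL s).2⟩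

end CfsgLib.Classical.SympStab
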