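import Cfsg.Agent.Lib.Classical.TensorNotMax
import Cfsg.Agent.Lib.Classical.OrthSpinor

set_option autoImplicit false
set_option linter.unusedSectionVars false

/-!
Over the field of two elements the stabiliser in `Ω^+` of a tensor product of symplectic spaces of
dimensions 2 and `m` normalises an extension field, so it is not maximal.
-/

namespace CfsgLib.Classical.TensorOrthNotMax

open Matrix Cfsg
open CfsgLib.Classical.TensorNotMax
open scoped MatrixGroups Kronecker

variable {F : Type*} [Field F] [Fintype F]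

/-- The block of the first factor. -/
def e00 (F : Type*) [Field F] : Matrix (Fin 2) (Fin 2) F := !![1, 0; 0, 0]

/-- The other block of the first factor. -/
def e11 (F : Type*) [Field F] : Matrix (Fin 2) (Fin 2) F := !![0, 0; 0, 1]

/-- The alternating matrix of order two in characteristic two. -/
def hyp (F : Type*) [Field F] : Matrix (Fin 2) (Fin 2) F := !![0, 1; 1, 0]

/-- A bilinear map given as a function is given by its Gram matrix. -/
theorem apply_eq_gram {κ : Type} [Fintype κ] [DecidableEq κ] {f : (κ → F) → (κ → F) → F}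
    (hf : Cfsg.Geo.IsBilinearForm f) (x y : κ → F) : f x y = x ⬝ᵥ Cfsg.Geo.gramMatrix f *ᵥ y := by
  let L : (κ → F) →ₗ[F] (κ → F) →ₗ[F] F :=
    LinearMap.mk₂ F f hf.add_left hf.smul_left hf.add_right hf.smul_right
  show L x y = _
  conv_lhs => rw [pi_eq_sum_univ' x, pi_eq_sum_univ' y]
  simp only [map_sum, LinearMap.sum_apply, map_smul, LinearMap.smul_apply, dotProduct, mulVec,
    Finset.mul_sum, smul_eq_mul, L, LinearMap.mk₂_apply, Cfsg.Geo.gramMatrix]
  rw [Finset.sum_comm]
  refine Finset.sum_congr rfl fun i _ => Finset.sum_congr rfl fun j _ => ?_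
  ring

theorem gram_hyp (hq : Fintype.card F = 2) {f : (Fin 2 → F) → (Fin 2 → F) → F}
    (hf : Cfsg.Geo.IsSymplecticForm f) : Cfsg.Geo.gramMatrix f = hyp F := by
  have two := two_zero hq
  have h01 : f (Pi.single 0 1) (Pi.single 1 1) ≠ 0 := by
    intro h0
    obtain ⟨-, x, hx⟩ := hf.nondegenerate (Pi.single 0 1) (by simp)
    apply hx
    rw [apply_eq_gram hf.bilinear]
    simp [dotProduct, mulVec, Fin.sum_univ_two, Cfsg.Geo.gramMatrix, hf.alternating, h0]
  have h1 := (field_two hq _).resolve_left h01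
  ext i j
  fin_cases i <;> fin_cases j
  · simpa [Cfsg.Geo.gramMatrix, hyp] using hf.alternating _
  · simpa [Cfsg.Geo.gramMatrix, hyp] using h1
  · have := hf.skew (Pi.single 1 1) (Pi.single 0 1)
    rw [h1] at this
    simp [Cfsg.Geo.gramMatrix, hyp, this]
    linear_combination -two
  · simpa [Cfsg.Geo.gramMatrix, hyp] using hf.alternating _

/-- A quadratic map is determined by its polar map and its values on a basis. -/
theorem quad_ext {κ : Type} [Fintype κ] [DecidableEq κ] (q q' : (κ → F) → F)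
    (hadd : ∀ x y, q (x + y) - q x - q y = q' (x + y) - q' x - q' y)
    (hbase : ∀ a (c : F), q (Pi.single a c) = q' (Pi.single a c)) (h0 : q 0 = q' 0) : q = q' := by
  funext z
  suffices h : ∀ s : Finset κ, q (∑ a ∈ s, Pi.single a (z a)) = q' (∑ a ∈ s, Pi.single a (z a)) by
    have := h Finset.univ
    rwa [Finset.univ_sum_single] at this
  intro s
  induction s using Finset.induction with
  | empty => simpa using h0
  | insert a s ha ih =>
    rw [Finset.sum_insert ha]
    linear_combination hadd (Pi.single a (z a)) (∑ b ∈ s, Pi.single b (z b)) + hbase a (z a) + ih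

/-- The change of coordinates. -/
def tmap {m n : ℕ} (e : Fin n ≃ Fin 2 × Fin m) (P : GL (Fin n) F) :
    GL (Fin 2 × Fin m) F ≃* GL (Fin n) F :=
  (Cfsg.Geo.glReindex e.symm).trans (MulAut.conj P)

/-- The coordinates of a vector. -/
def tvec {m n : ℕ} (e : Fin n ≃ Fin 2 × Fin m) (P : GL (Fin n) F) (z : Fin 2 × Fin m → F) : Fin n → F :=
  (P : Matrix (Fin n) (Fin n) F) *ᵥ (z ∘ e)

theorem tvec_surj {m n : ℕ} (e : Fin n ≃ Fin 2 × Fin m) (P : GL (Fin n) F) (v : Fin n → F) :
    ∃ z, tvec e P z = v := by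
  refine ⟨((P⁻¹ : GL (Fin n) F).1 *ᵥ v) ∘ e.symm, ?_⟩
  rw [tvec, Function.comp_assoc, Equiv.symm_comp_self, Function.comp_id, mulVec_mulVec, Units.mul_inv,
    one_mulVec]

theorem tmap_mulVec {m n : ℕ} (e : Fin n ≃ Fin 2 × Fin m) (P : GL (Fin n) F) (g : GL (Fin 2 × Fin m) F)
    (z : Fin 2 × Fin m → F) :
    (tmap e P g : Matrix (Fin n) (Fin n) F) *ᵥ tvec e P z = tvec e P (g.1 *ᵥ z) := by
  show ((P : Matrix (Fin n) (Fin n) F) * Matrix.submatrix g.1 e e * (P⁻¹ : GL (Fin n) F).1) *ᵥ _ = _
  rw [tvec, tvec, mulVec_mulVec, mul_assoc, Units.inv_mul, mul_one, ← mulVec_mulVec,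
    Matrix.submatrix_mulVec_equiv]
  congr 2
  rw [Function.comp_assoc, Equiv.self_comp_symm, Function.comp_id]

theorem exists_between (hq : Fintype.card F = 2) {n : ℕ} (hn : 13 ≤ n) (Q : (Fin n → F) → F)
    (hQ : Cfsg.Geo.IsNondegenerateQuadraticForm Q) (m : ℕ) (e : Fin n ≃ Fin 2 × Fin m) (P : GL (Fin n) F)
    (f₁ : (Fin 2 → F) → (Fin 2 → F) → F) (f₂ : (Fin m → F) → (Fin m → F) → F)
    (hf₁ : Cfsg.Geo.IsSymplecticForm f₁) (hf₂ : Cfsg.Geo.IsSymplecticForm f₂)
    (hT : Cfsg.Geo.IsTensorFormStructure id (QuadraticMap.polar Q) f₁ f₂ e P)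
    (hpure : ∀ (x₁ : Fin 2 → F) (x₂ : Fin m → F),
      Q ((P : Matrix (Fin n) (Fin n) F) *ᵥ ((fun a : Fin 2 × Fin m => x₁ a.1 * x₂ a.2) ∘ e)) = 0) :
    ∃ K : Subgroup (GL (Fin n) F),
      Cfsg.Geo.tensorProductSubgroup 2 m e P ⊓ Cfsg.Geo.omegaGL Q < K ∧ K < Cfsg.Geo.omegaGL Q := by
  classical
  have two := two_zero hq
  have hn2 : n = 2 * m := by
    have := Fintype.card_congr e
    simpa [Fintype.card_prod] using this
  obtain ⟨c, hc, hB⟩ := hT
  rw [(field_two hq c).resolve_left hc] at hB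
  set G := Cfsg.Geo.gramMatrix f₂
  rw [gram_hyp hq hf₁] at hB
  have hB' : ∀ x y, QuadraticMap.polar Q (tvec e P x) (tvec e P y) = x ⬝ᵥ (hyp F ⊗ₖ G) *ᵥ y := by
    intro x y
    rw [tvec, tvec, hB, one_mul, Cfsg.Geo.formOfGram, dotProduct]
    simp only [mulVec, dotProduct, id, Finset.mul_sum, G, mul_assoc]
  have htadd : ∀ x y, tvec e P (x + y) = tvec e P x + tvec e P y := fun x y => by
    rw [tvec, tvec, tvec, ← mulVec_add]; rfl
  -- a kronecker element with the two blocks adjoint is an isometry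
  have hiso : ∀ g : GL (Fin 2 × Fin m) F, g.1ᵀ * (hyp F ⊗ₖ G) * g.1 = hyp F ⊗ₖ G →
      (∀ a (c : F), Q (tvec e P (g.1 *ᵥ Pi.single a c)) = 0) →
      tmap e P g ∈ Cfsg.isometryGroup F Q := by
    intro g hg hb v
    obtain ⟨z, rfl⟩ := tvec_surj e P v
    intro _
    show Q ((tmap e P g : Matrix (Fin n) (Fin n) F) *ᵥ tvec e P z) = Q (tvec e P z)
    rw [tmap_mulVec]
    refine congrFun (quad_ext (fun z => Q (tvec e P (g.1 *ᵥ z))) (fun z => Q (tvec e P z))
      (fun x y => ?_) (fun a c => ?_) (by simp)) z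
    · simp only [mulVec_add, htadd]
      show QuadraticMap.polar Q _ _ = QuadraticMap.polar Q _ _
      rw [hB', hB']
      conv_rhs => rw [← hg]
      rw [← mulVec_mulVec, ← mulVec_mulVec, Matrix.dotProduct_mulVec x g.1ᵀ, vecMul_transpose]
    · rw [hb]
      refine Eq.trans (hpure (Pi.single a.1 c) (Pi.single a.2 1)).symm (congrArg Q ?_)
      rw [tvec]
      congr 1
      funext k
      obtain ⟨a1, a2⟩ := a
      simp only [Function.comp_apply]
      rcases e k with ⟨k1, k2⟩
      simp only [Pi.single_apply, Prod.mk.injEq]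
      split_ifs <;> simp_all
  -- an isometry of order three lies in omega
  obtain ⟨Q', hQ', hnd⟩ : ∃ Q' : QuadraticForm F (Fin n → F), ⇑Q' = Q ∧ CfsgLib.Orth.Nondeg Q' := by
    refine ⟨QuadraticMap.ofPolar Q (fun c x => by rw [hQ.smul, smul_eq_mul, pow_two])
      (fun x y z => hQ.polar_bilinear.add_left x y z)
      (fun c x y => hQ.polar_bilinear.smul_left c x y), rfl, fun x hx => ?_⟩
    by_contra h0
    obtain ⟨y, hy⟩ := (hQ.nondegenerate x h0).2
    exact hy (hx y)
  subst hQ'
  have homega : ∀ g : GL (Fin n) F, g ∈ Cfsg.isometryGroup F ⇑Q' → g * g * g = 1 → g ∈ Cfsg.Geo.omegaGL ⇑Q' := by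
    intro g hg h3
    refine ⟨⟨g, hg⟩, ?_, rfl⟩
    show (⟨g, hg⟩ : Cfsg.isometryGroup F ⇑Q') ∈ Cfsg.Omega F ⇑Q'
    rw [CfsgLib.Orth.omega_eq_ker_dickson hnd two (by rw [Module.finrank_fin_fun]; omega)
      (by rw [Module.finrank_fin_fun]; omega), MonoidHom.mem_ker]
    set u : Cfsg.isometryGroup F ⇑Q' := ⟨g, hg⟩
    have hu : u * u * u = 1 := Subtype.ext h3
    have := congrArg (CfsgLib.Orth.dickson hnd) hu
    rw [map_mul, map_mul, map_one, Int.units_mul_self, one_mul] at this
    exact this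
  -- the second factor: three basis vectors
  have hsymm : Gᵀ = G := by
    ext i j
    show f₂ _ _ = f₂ _ _
    rw [hf₂.skew]
    linear_combination -(f₂ (Pi.single i 1) (Pi.single j 1)) * two
  have hdiag : ∀ i, G i i = 0 := fun i => hf₂.alternating _
  let i : Fin m := ⟨0, by omega⟩
  obtain ⟨k, hk⟩ : ∃ k, G i k ≠ 0 := by
    by_contra h
    push Not at h
    obtain ⟨-, x, hx⟩ := hf₂.nondegenerate (Pi.single i 1) (by simp)
    apply hx
    rw [apply_eq_gram hf₂.bilinear]
    simp [dotProduct, mulVec, Pi.single_apply, G, h]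
  replace hk : G i k = 1 := (field_two hq _).resolve_left hk
  have hik : i ≠ k := fun h => by rw [← h, hdiag] at hk; exact zero_ne_one hk
  have hki : G k i = 1 := by rw [← hsymm]; exact hk
  obtain ⟨j, hji, hjk⟩ : ∃ j : Fin m, j ≠ i ∧ j ≠ k := by
    have : 1 < (Finset.univ.erase i).card := by rw [Finset.card_erase_of_mem (Finset.mem_univ _)]; simp; omega
    obtain ⟨j, hj, hjk⟩ := Finset.exists_mem_ne this k
    exact ⟨j, (Finset.mem_erase.1 hj).1, hjk⟩
  -- the projection to a hyperbolic plane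
  let π : Matrix (Fin m) (Fin m) F := Matrix.of fun a b =>
    (if a = i then G k b else 0) + (if a = k then G i b else 0)
  have hGπ : ∀ a b, (G * π) a b = G a i * G k b + G a k * G i b := by
    intro a b
    simp [Matrix.mul_apply, π, mul_add, Finset.sum_add_distrib]
  have hππ : π * π = π := by
    ext a b
    simp [Matrix.mul_apply, π, add_mul, mul_add, Finset.sum_add_distrib, hdiag, hk, hki]
  have hπG : (G * π)ᵀ = G * π := by
    ext a b
    rw [transpose_apply, hGπ, hGπ, show G b i = G i b from congrFun (congrFun hsymm i) b,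
      show G b k = G k b from congrFun (congrFun hsymm k) b,
      show G a i = G i a from congrFun (congrFun hsymm i) a,
      show G a k = G k a from congrFun (congrFun hsymm k) a]
    ring
  have hπt : πᵀ * G = G * π := by rw [← hπG, transpose_mul, hsymm]
  have hpp : ∀ A : Matrix (Fin m) (Fin m) F, A + A = 0 := fun A => by
    rw [← two_smul F A, two, zero_smul]
  have hom3 : (om : Matrix (Fin 2) (Fin 2) F) * om * om = 1 := by
    ext a b; fin_cases a <;> fin_cases b <;> simp [om, Matrix.mul_apply, Fin.sum_univ_two] <;>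
      first | rfl | linear_combination two | linear_combination (0 : F)
  have homG : (omᵀ : Matrix (Fin 2) (Fin 2) F) * hyp F * om = hyp F := by
    ext a b; fin_cases a <;> fin_cases b <;>
      simp [om, hyp, Matrix.mul_apply, Fin.sum_univ_two] <;>
      first | rfl | linear_combination two | linear_combination (0 : F)
  let M : Matrix (Fin 2 × Fin m) (Fin 2 × Fin m) F := om ⊗ₖ π + 1 ⊗ₖ (1 - π)
  have h1π : π * (1 - π) = 0 := by rw [mul_sub, mul_one, hππ, sub_self]
  have hπ1 : (1 - π) * π = 0 := by rw [sub_mul, one_mul, hππ, sub_self]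
  have h11 : (1 - π) * (1 - π) = 1 - π := by rw [mul_sub, mul_one, hπ1, sub_zero]
  have hM3 : M * M * M = 1 := by
    simp only [M, add_mul, mul_add, ← mul_kronecker_mul, hππ, h1π, hπ1, h11, kronecker_zero,
      zero_mul, mul_zero, one_mul, mul_one, add_zero, zero_add, hom3]
    rw [← kronecker_add, add_sub_cancel, one_kronecker_one]
  let gM : GL (Fin 2 × Fin m) F := ⟨M, M * M, by rw [← mul_assoc, hM3], hM3⟩
  have hMmem : gM ∈ fieldNorm hq := fun b => ⟨b, by
    show M * _ = _ * M
    simp only [M, Y, add_mul, mul_add, one_mul, mul_one, ← mul_kronecker_mul,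
      mul_smul_comm, smul_mul_assoc, smul_add]
    abel⟩
  have hMiso : gM.1ᵀ * (hyp F ⊗ₖ G) * gM.1 = hyp F ⊗ₖ G := by
    show Mᵀ * _ * M = _
    simp only [M, transpose_add, ← kroneckerMap_transpose]
    simp only [add_mul, mul_add, ← mul_kronecker_mul, transpose_one, one_mul, mul_one, transpose_sub, homG]
    have a1 : πᵀ * G * π = G * π := by rw [hπt, mul_assoc, hππ]
    have a2 : πᵀ * G * (1 - π) = 0 := by rw [hπt, mul_assoc, h1π, mul_zero]
    have a3 : (1 - πᵀ) * G * π = 0 := by rw [sub_mul, one_mul, hπt, sub_mul, mul_assoc G π π, hππ, sub_self]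
    have a4 : (1 - πᵀ) * G * (1 - π) = G - G * π := by
      rw [sub_mul, one_mul, hπt, sub_mul, mul_assoc G π, h1π, mul_zero, sub_zero, mul_sub, mul_one]
    simp only [a1, a2, a3, a4, kronecker_zero, add_zero, zero_add]
    rw [← kronecker_add, add_sub_cancel]
  have hpureK : ∀ (A : Matrix (Fin 2) (Fin 2) F) (C : Matrix (Fin m) (Fin m) F) a (c : F),
      Q' (tvec e P ((A ⊗ₖ C) *ᵥ Pi.single a c)) = 0 := by
    intro A C a c
    refine Eq.trans (congrArg Q' ?_) (hpure (fun s => A s a.1 * c) (fun t => C t a.2))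
    rw [tvec]
    congr 1
    funext z
    simp [kroneckerMap_apply]
    ring
  have hQadd : ∀ x y, Q' (tvec e P (x + y)) = Q' (tvec e P x) + Q' (tvec e P y) + x ⬝ᵥ (hyp F ⊗ₖ G) *ᵥ y := by
    intro x y
    rw [← hB', htadd, QuadraticMap.polar]
    ring
  have hgMb : ∀ a (c : F), Q' (tvec e P (gM.1 *ᵥ Pi.single a c)) = 0 := by
    intro a c
    show Q' (tvec e P (M *ᵥ _)) = 0
    simp only [M, add_mulVec]
    rw [hQadd, hpureK, hpureK, zero_add, zero_add, Matrix.dotProduct_mulVec, ← vecMul_transpose,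
      vecMul_vecMul, ← Matrix.dotProduct_mulVec, mulVec_mulVec, ← kroneckerMap_transpose,
      ← mul_kronecker_mul, ← mul_kronecker_mul, hπt, mul_assoc G π, h1π, mul_zero, kronecker_zero, zero_mulVec,
      dotProduct_zero]
  -- an element of omega moving the field
  let A : Matrix (Fin m) (Fin m) F := Matrix.of fun a b =>
    if a = i then (if b = j then 1 else 0) else
    if a = j then (if b = i ∨ b = j then 1 else 0) else if a = b then 1 else 0
  have hA3 : A * A * A = 1 := by
    have hrow : ∀ (X : Matrix (Fin m) (Fin m) F) a b,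
        (A * X) a b = if a = i then X j b else if a = j then X i b + X j b else X a b := by
      intro X a b
      rw [Matrix.mul_apply]
      rcases eq_or_ne a i with rfl | hai
      · rw [if_pos rfl, Finset.sum_eq_single j (fun c _ hc => by simp [A, hc]) (by simp)]
        simp [A]
      rcases eq_or_ne a j with rfl | haj
      · rw [if_neg hai, if_pos rfl, Finset.sum_eq_add i a hji.symm
          (fun c _ hc => by simp [A, hai, hc.1, hc.2]) (by simp) (by simp)]
        simp [A, hai]
      · rw [if_neg hai, if_neg haj, Finset.sum_eq_single a (fun c _ hc => by simp [A, hai, haj, Ne.symm hc])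
          (by simp)]
        simp [A, hai, haj]
    rw [mul_assoc]
    ext a b
    have hA' : ∀ a b, A a b = (A * (1 : Matrix (Fin m) (Fin m) F)) a b := fun a b => by rw [mul_one]
    rw [hrow, hrow, hrow, hrow, hA' i, hA' j, hA' a, hrow, hrow, hrow]
    rcases eq_or_ne a i with rfl | hai
    · simp only [if_true, if_neg hji]
      linear_combination ((1 : Matrix (Fin m) (Fin m) F) j b) * two
    rcases eq_or_ne a j with rfl | haj
    · simp only [if_true, if_neg hai]
      linear_combination ((1 : Matrix (Fin m) (Fin m) F) i b + (1 : Matrix (Fin m) (Fin m) F) a b) * two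
    · simp only [if_neg hai, if_neg haj]
  have hdet : IsUnit G.det := by
    rw [isUnit_iff_ne_zero]
    intro h0
    obtain ⟨v, hv0, hv⟩ := Matrix.exists_mulVec_eq_zero_iff.2 h0
    obtain ⟨x, hx⟩ := (hf₂.nondegenerate v hv0).1
    exact hx (by rw [apply_eq_gram hf₂.bilinear, hv, dotProduct_zero])
  let C : Matrix (Fin m) (Fin m) F := G⁻¹ * (A * A)ᵀ * G
  have hC3 : C * C * C = 1 := by
    have : C * C * C = G⁻¹ * ((A * A)ᵀ * (A * A)ᵀ * (A * A)ᵀ) * G := by
      simp only [C, mul_assoc, Matrix.mul_nonsing_inv_cancel_left G _ hdet]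
    rw [this, ← transpose_mul, ← transpose_mul, show A * A * (A * A * (A * A)) = (A * A * A) * (A * A * A) by
      simp only [mul_assoc], hA3, one_mul, transpose_one, mul_one, Matrix.nonsing_inv_mul G hdet]
  have hAC : Aᵀ * G * C = G := by
    simp only [C, mul_assoc, Matrix.mul_nonsing_inv_cancel_left G _ hdet]
    rw [← mul_assoc, ← transpose_mul, hA3, transpose_one, one_mul]
  have hCA : Cᵀ * G * A = G := by
    have := congrArg Matrix.transpose hAC
    simp only [transpose_mul, transpose_transpose, hsymm, ← mul_assoc] at this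
    exact this
  let N : Matrix (Fin 2 × Fin m) (Fin 2 × Fin m) F := e00 F ⊗ₖ A + e11 F ⊗ₖ C
  have hee : e00 F * e00 F = e00 F ∧ e11 F * e11 F = e11 F ∧ e00 F * e11 F = 0 ∧ e11 F * e00 F = 0 ∧
      e00 F + e11 F = 1 := by
    refine ⟨?_, ?_, ?_, ?_, ?_⟩ <;> ext a b <;> fin_cases a <;> fin_cases b <;>
      simp [e00, e11, Matrix.mul_apply, Fin.sum_univ_two]
  obtain ⟨ee0, ee1, ee01, ee10, eesum⟩ := hee
  have hN3 : N * N * N = 1 := by
    simp only [N, add_mul, mul_add, ← mul_kronecker_mul, ee0, ee1, ee01, ee10, zero_kronecker,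
      zero_mul, mul_zero, add_zero, zero_add, hA3, hC3]
    rw [← add_kronecker, eesum, one_kronecker_one]
  let gN : GL (Fin 2 × Fin m) F := ⟨N, N * N, by rw [← mul_assoc, hN3], hN3⟩
  have hNiso : gN.1ᵀ * (hyp F ⊗ₖ G) * gN.1 = hyp F ⊗ₖ G := by
    show Nᵀ * _ * N = _
    simp only [N, transpose_add, ← kroneckerMap_transpose]
    simp only [add_mul, mul_add, ← mul_kronecker_mul]
    have b1 : (e00 F)ᵀ * hyp F * e00 F = 0 := by
      ext a b; fin_cases a <;> fin_cases b <;> simp [e00, hyp, Matrix.mul_apply, Fin.sum_univ_two]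
    have b2 : (e11 F)ᵀ * hyp F * e11 F = 0 := by
      ext a b; fin_cases a <;> fin_cases b <;> simp [e11, hyp, Matrix.mul_apply, Fin.sum_univ_two]
    have b3 : (e00 F)ᵀ * hyp F * e11 F + (e11 F)ᵀ * hyp F * e00 F = hyp F := by
      ext a b; fin_cases a <;> fin_cases b <;> simp [e00, e11, hyp, Matrix.mul_apply, Fin.sum_univ_two]
    simp only [b1, b2, hAC, hCA, zero_kronecker, zero_add, add_zero]
    rw [add_comm, ← add_kronecker, b3]
  have hgNb : ∀ a (c : F), Q' (tvec e P (gN.1 *ᵥ Pi.single a c)) = 0 := by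
    rintro ⟨s, t⟩ c
    show Q' (tvec e P (N *ᵥ _)) = 0
    have hs : N *ᵥ Pi.single (s, t) c = (1 ⊗ₖ (if s = 0 then A else C)) *ᵥ Pi.single (s, t) c := by
      funext z
      obtain ⟨z1, z2⟩ := z
      fin_cases s <;> fin_cases z1 <;> simp [N, e00, e11, kroneckerMap_apply, Matrix.one_apply]
    rw [hs]
    exact hpureK _ _ _ _
  have hMO := homega _ (hiso gM hMiso hgMb) (by rw [← map_mul, ← map_mul]; exact (congrArg _ (Units.ext hM3)).trans (map_one _))
  have hNO := homega _ (hiso gN hNiso hgNb) (by rw [← map_mul, ← map_mul]; exact (congrArg _ (Units.ext hN3)).trans (map_one _))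
  have hinj : Function.Injective (tmap e P).toMonoidHom := (tmap e P).injective
  have hTsub : Cfsg.Geo.tensorProductSubgroup 2 m e P =
      (Cfsg.Geo.kroneckerSubgroup 2 m F).map (tmap e P).toMonoidHom := by
    rw [Cfsg.Geo.tensorProductSubgroup, Subgroup.map_map]
    rfl
  refine ⟨(fieldNorm hq).map (tmap e P).toMonoidHom ⊓ Cfsg.Geo.omegaGL ⇑Q', lt_of_le_not_ge ?_ fun hge => ?_,
    lt_of_le_not_ge inf_le_right fun hge => ?_⟩
  · rw [hTsub]
    exact inf_le_inf_right _ (Subgroup.map_mono (kronecker_le hq m))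
  · have hmem : (tmap e P).toMonoidHom gM ∈ Cfsg.Geo.tensorProductSubgroup 2 m e P :=
      (hge ⟨Subgroup.mem_map_of_mem _ hMmem, hMO⟩).1
    rw [hTsub, Subgroup.mem_map_iff_mem hinj] at hmem
    obtain ⟨a, b, hab⟩ := hmem
    have hblock : ∀ s t u, M (s, t) (s, u) = a.1 s s * b.1 t u := fun s t u => congrFun (congrFun hab (s, t)) (s, u)
    have hb1 : ∀ t u, a.1 1 1 * b.1 t u = (1 : Matrix (Fin m) (Fin m) F) t u := fun t u => by
      rw [← hblock]
      simp [M, om, kroneckerMap_apply]
    have hb0 : ∀ t u, a.1 0 0 * b.1 t u = (1 - π) t u := fun t u => by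
      rw [← hblock]
      simp [M, om, kroneckerMap_apply]
    have ha11 : a.1 1 1 = 1 := (field_two hq _).resolve_left fun h => by
      have := hb1 i i
      rw [h, zero_mul, Matrix.one_apply_eq] at this
      exact zero_ne_one this
    have hii := hb0 i i
    have hjj := hb0 j j
    have hbi := hb1 i i
    have hbj := hb1 j j
    rw [ha11, one_mul, Matrix.one_apply_eq] at hbi hbj
    rw [hbi, mul_one] at hii
    rw [hbj, mul_one, hii] at hjj
    simp [π, hik, hji, hjk, hki] at hjj
  · obtain ⟨g', hg', he⟩ := (hge hNO).1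
    obtain rfl : g' = gN := hinj he
    obtain ⟨b, hb⟩ := hg' 0
    have h00 := fun t u => congrFun (congrFun hb ((0 : Fin 2), t)) ((0 : Fin 2), u)
    have h01 := fun t u => congrFun (congrFun hb ((0 : Fin 2), t)) ((1 : Fin 2), u)
    simp [gN, N, Y, e00, e11, om, Matrix.mul_apply, Fintype.sum_prod_type, Fin.sum_univ_two,
      kroneckerMap_apply, Matrix.one_apply] at h00 h01
    have hAeq : A = C := by
      ext t u
      exact h01 t u
    rw [← hAeq] at hAC
    have hki' := congrFun (congrFun hAC k) i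
    have hkj' := congrFun (congrFun hAC k) j
    rw [hki] at hki'
    simp [A, Matrix.mul_apply, Matrix.transpose_apply, hjk.symm, hik.symm, Finset.sum_ite, hji,
      hji.symm] at hki' hkj'
    simp [Finset.filter_eq', Finset.mem_filter, hji, hki, hki'] at hkj'

end CfsgLib.Classical.TensorOrthNotMax
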