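import Cfsg.Agent.Lib.Classical.SympStab
import Cfsg.Agent.Lib.Classical.SympDecomp
import Cfsg.Agent.Lib.Classical.SympPair
import Cfsg.Agent.Lib.Classical.SympExtFieldMax
import Cfsg.Agent.Lib.Classical.SympOverfieldUMax
import Cfsg.Agent.Lib.Classical.TensorMixed.Main
import Cfsg.Agent.Lib.Classical.SympSubfield
import Cfsg.Agent.Lib.Classical.SympQuadMax

set_option autoImplicit false

/-!
Geometric maximal subgroups of `Sp 2m`, in the form the tables of small dimension quote them.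
-/

namespace CfsgLib.Classical.GeometricSymp

variable {F : Type*} [Field F] [Fintype F] {m : ℕ}

theorem two_ne_zero (hodd : Odd (Fintype.card F)) : (2 : F) ≠ 0 :=
  Ring.two_ne_zero fun e => Nat.not_even_iff_odd.2 hodd (Nat.even_iff.2 (FiniteField.even_card_of_char_two e))

theorem singular (W : Submodule F (Fin m ⊕ Fin m → F)) (hW0 : W ≠ ⊥)
    (hW : Cfsg.Geo.IsTotallySingularFor (Cfsg.sympForm m F) W) :
    Cfsg.Geo.IsMaximalIn (Cfsg.spGL m F) (Cfsg.Geo.subspaceStabilizer W ⊓ Cfsg.spGL m F) := by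
  have h1 : W ≠ ⊤ := fun h => hW0 ((Submodule.eq_bot_iff W).2 fun x hx =>
    SympTrans.eq_zero_of_f x fun v => hW x hx v (h ▸ Submodule.mem_top))
  exact SympStab.isMaximalIn_of hW0 h1 (SympStab.singular_le_or_top hW)

theorem nondegenerate (W : Submodule F (Fin m ⊕ Fin m → F)) (hW0 : W ≠ ⊥)
    (hW : Cfsg.Geo.IsNondegenerateOn (Cfsg.sympForm m F) W) (hdim : Module.finrank F W < m) :
    Cfsg.Geo.IsMaximalIn (Cfsg.spGL m F) (Cfsg.Geo.subspaceStabilizer W ⊓ Cfsg.spGL m F) := by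
  have h1 : W ≠ ⊤ := fun h => by
    rw [h, finrank_top, Module.finrank_pi, Fintype.card_sum, Fintype.card_fin] at hdim
    omega
  exact SympStab.isMaximalIn_of hW0 h1 (SympStab.nondegenerate_le_or_top hW hdim)

theorem decomposition {t k : ℕ} {D : Fin t → Submodule F (Fin m ⊕ Fin m → F)}
    (hD : Cfsg.Geo.IsNondegenerateMDecomposition (Cfsg.sympForm m F) k D) (hex : k = 2 → 3 ≤ Fintype.card F) :
    Cfsg.Geo.IsMaximalIn (Cfsg.spGL m F) (Cfsg.Geo.decompositionStabilizer D ⊓ Cfsg.spGL m F) :=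
  SympDecomp.isMaximalIn hD (by
    rw [Nat.card_eq_fintype_card]
    exact fun h => absurd (hex h.1) (by omega))

theorem unitary (hm : 5 ≤ m) (hodd : Odd (Fintype.card F))
    (K : Subalgebra F (Matrix (Fin m ⊕ Fin m) (Fin m ⊕ Fin m) F)) (hK : Cfsg.Geo.IsFieldSubalgebra 2 K)
    (hac : Cfsg.Geo.IsAdjointClosedFor (Cfsg.sympForm m F) K)
    (hnsa : ¬ Cfsg.Geo.IsSelfAdjointFor (Cfsg.sympForm m F) K) :
    Cfsg.Geo.IsMaximalIn (Cfsg.spGL m F) (Cfsg.Geo.subalgebraNormalizer K ⊓ Cfsg.spGL m F) :=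
  CfsgLib.SympU.isMaximalIn hm (two_ne_zero hodd) hK hac hnsa

theorem quad (hm : 3 ≤ m) (heven : ¬ Odd (Fintype.card F)) (Q : (Fin m ⊕ Fin m → F) → F)
    (hQ : Cfsg.Geo.IsNondegenerateQuadraticForm Q)
    (hpol : ∀ u v, QuadraticMap.polar Q u v = Cfsg.sympForm m F u v) :
    Cfsg.Geo.IsMaximalIn (Cfsg.spGL m F) (Cfsg.Geo.quadSimilarityGroup Q ⊓ Cfsg.spGL m F) := by
  have h2 : (2 : F) = 0 := by
    by_contra h
    refine heven (Nat.odd_iff.2 ?_)
    rcases Nat.mod_two_eq_zero_or_one (Fintype.card F) with he | he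
    · refine absurd ?_ h
      have h2' := FiniteField.even_card_iff_char_two.2 he
      haveI := ringChar.of_eq h2'
      exact CharTwo.two_eq_zero
    · exact he
  exact SympQuad.isMaximalIn (Q := Q) ⟨h2, hQ.smul, fun u v => by
    have := hpol u v
    rw [QuadraticMap.polar] at this
    linear_combination this, by omega, Or.inl hm⟩

theorem subfield (hm : 2 ≤ m) (F₀ : Subfield F) (r : ℕ) (P : GL (Fin m ⊕ Fin m) F) (ζ : F) (hr : r.Prime)
    (hcard : Fintype.card F = Nat.card F₀ ^ r) (hζ : ζ ≠ 0)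
    (hP : Cfsg.Geo.IsFormRationalStructure (Cfsg.sympForm m F) F₀ ζ P) :
    Cfsg.Geo.IsMaximalIn (Cfsg.spGL m F) (Cfsg.Geo.subfieldSubgroup F₀ P ⊓ Cfsg.spGL m F) :=
  SympSubfield.isMaximalIn_subfield hr (by rw [Nat.card_eq_fintype_card (α := F)]; exact hcard) (ζ := ζ) ⟨hζ, hP, hm⟩

end CfsgLib.Classical.GeometricSymp
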