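import Mathlib

set_option autoImplicit false

/-!
Small facts on quadratic and alternating forms: Witt index is well defined, binary forms in
characteristic two, Lagrangians, nondegeneracy of tensor products.
-/

namespace CfsgLib.Classical.Geometry

open QuadraticMap
open scoped TensorProduct

variable {F V : Type*} [Field F] [AddCommGroup V] [Module F V]

theorem polar_eq_zero_of_singular (Q : QuadraticForm F V) {W : Submodule F V}
    (h : ∀ w ∈ W, Q w = 0) {a b : V} (ha : a ∈ W) (hb : b ∈ W) : polar Q a b = 0 := by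
  simp [QuadraticMap.polar, h _ (W.add_mem ha hb), h a ha, h b hb]

theorem finrank_le_of_maximal [FiniteDimensional F V] (Q : QuadraticForm F V)
    {W₁ W₂ : Submodule F V} (h₁ : ∀ w ∈ W₁, Q w = 0) (h₂ : ∀ w ∈ W₂, Q w = 0)
    (hmax : ∀ W : Submodule F V, W₁ ≤ W → (∀ w ∈ W, Q w = 0) → W = W₁) :
    Module.finrank F W₂ ≤ Module.finrank F W₁ := by
  classical
  let f : W₂ →ₗ[F] Module.Dual F W₁ :=
    ((polarBilin Q).domRestrict W₂).compr₂ LinearMap.id |>.compl₂ W₁.subtype
  have hf : ∀ (w : W₂) (a : W₁), f w a = polar Q (w : V) (a : V) := fun w a => rfl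
  let I : Submodule F W₁ := W₂.comap W₁.subtype
  let J : Submodule F W₂ := W₁.comap W₂.subtype
  have hker : LinearMap.ker f ≤ J := by
    intro w hw
    rw [LinearMap.mem_ker] at hw
    show (w : V) ∈ W₁
    have hW := hmax (W₁ ⊔ Submodule.span F {(w : V)}) le_sup_left (by
      intro x hx
      obtain ⟨a, ha, b, hb, rfl⟩ := Submodule.mem_sup.1 hx
      obtain ⟨c, rfl⟩ := Submodule.mem_span_singleton.1 hb
      have hp : polar Q (w : V) a = 0 := by
        rw [← hf w ⟨a, ha⟩, hw]; rfl
      rw [QuadraticMap.map_add Q a (c • (w : V)), h₁ a ha, QuadraticMap.map_smul,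
        h₂ w w.2, QuadraticMap.polar_smul_right, QuadraticMap.polar_comm, hp]
      simp)
    rw [← hW]
    exact Submodule.mem_sup_right (Submodule.mem_span_singleton_self _)
  have hrange : LinearMap.range f ≤ I.dualAnnihilator := by
    rintro _ ⟨w, rfl⟩
    rw [Submodule.mem_dualAnnihilator]
    intro a ha
    rw [hf]
    exact polar_eq_zero_of_singular Q h₂ w.2 ha
  have e : Module.finrank F J = Module.finrank F I := by
    have e₁ := (Submodule.equivMapOfInjective _ W₂.injective_subtype J).finrank_eq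
    have e₂ := (Submodule.equivMapOfInjective _ W₁.injective_subtype I).finrank_eq
    rw [e₁, e₂]
    simp only [I, J]
    rw [Submodule.map_comap_eq, Submodule.map_comap_eq, Submodule.range_subtype,
      Submodule.range_subtype, inf_comm]
  have a1 := f.finrank_range_add_finrank_ker
  have a2 := Submodule.finrank_mono hker
  have a3 := Submodule.finrank_mono hrange
  have a4 := Subspace.finrank_add_finrank_dualAnnihilator_eq I
  omega

theorem two_mul_finrank_le [FiniteDimensional F V] (Q : QuadraticForm F V)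
    (hQ : (polarBilin Q).Nondegenerate) {W : Submodule F V} (h : ∀ w ∈ W, Q w = 0) :
    2 * Module.finrank F W ≤ Module.finrank F V := by
  have hrefl : (polarBilin Q).IsRefl := fun a b hab => by
    simpa [QuadraticMap.polar_comm] using hab
  have hle : W ≤ LinearMap.BilinForm.orthogonal (polarBilin Q) W := by
    intro w hw u hu
    exact polar_eq_zero_of_singular Q h hu hw
  have a1 := Submodule.finrank_mono hle
  have a2 := LinearMap.BilinForm.finrank_orthogonal hQ W
  have a3 := W.finrank_le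
  omega

theorem exists_sq_eq [Finite F] [CharP F 2] (c : F) : ∃ a : F, a ^ 2 = c := by
  obtain ⟨a, ha⟩ := isSquare_iff_exists_sq c |>.1 (FiniteField.isSquare_of_char_two (by
    exact ringChar.eq F 2) c)
  exact ⟨a, ha.symm⟩

theorem binary_char_two [Finite F] [CharP F 2] (Q : QuadraticForm F V)
    (h2 : Module.finrank F V = 2) (hQ : (polarBilin Q).Nondegenerate) :
    (∃ v w : V, LinearIndependent F ![v, w] ∧ Q v = 0 ∧ Q w = 0 ∧ polar Q v w = 1) ∨
      ∃ (v w : V) (μ : F), LinearIndependent F ![v, w] ∧ (∀ x : F, x ^ 2 + x + μ ≠ 0) ∧ Q v = 1 ∧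
        Q w = μ ∧ polar Q v w = 1 := by
  have hpart : ∀ v : V, v ≠ 0 → ∃ w, polar Q v w = 1 := by
    intro v hv
    obtain ⟨w, hw⟩ : ∃ w, polar Q v w ≠ 0 := by
      by_contra hcon
      push Not at hcon
      exact hv (hQ.1 v fun y => hcon y)
    exact ⟨(polar Q v w)⁻¹ • w, by rw [QuadraticMap.polar_smul_right, smul_eq_mul, inv_mul_cancel₀ hw]⟩
  have hind : ∀ v w : V, v ≠ 0 → polar Q v w = 1 → LinearIndependent F ![v, w] := by
    intro v w hv hp
    rw [LinearIndependent.pair_iff' hv]
    intro a ha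
    rw [← ha, QuadraticMap.polar_smul_right, QuadraticMap.polar_self] at hp
    have h20 : (2 : F) = 0 := CharTwo.two_eq_zero
    simp [h20] at hp
  by_cases hs : ∃ v : V, v ≠ 0 ∧ Q v = 0
  · obtain ⟨v, hv, hQv⟩ := hs
    obtain ⟨w, hw⟩ := hpart v hv
    have hw' : polar Q v (w + Q w • v) = 1 := by
      rw [QuadraticMap.polar_add_right, QuadraticMap.polar_smul_right, QuadraticMap.polar_self, hw, hQv]
      simp
    refine Or.inl ⟨v, w + Q w • v, hind _ _ hv hw', hQv, ?_, hw'⟩
    rw [QuadraticMap.map_add (⇑Q), QuadraticMap.map_smul, QuadraticMap.polar_smul_right,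
      QuadraticMap.polar_comm, hw, hQv]
    simp [CharTwo.add_self_eq_zero]
  · push Not at hs
    have : Module.Finite F V := Module.finite_of_finrank_eq_succ (n := 1) h2
    obtain ⟨v₀, hv₀⟩ := Module.finrank_pos_iff_exists_ne_zero.1 (by omega : 0 < Module.finrank F V)
    obtain ⟨a, ha⟩ := exists_sq_eq (Q v₀)⁻¹
    have ha0 : a ≠ 0 := by
      rintro rfl
      exact hs v₀ hv₀ (inv_eq_zero.1 (by simpa using ha.symm))
    have hv : a • v₀ ≠ 0 := smul_ne_zero ha0 hv₀
    have hQv : Q (a • v₀) = 1 := by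
      rw [QuadraticMap.map_smul, ← _root_.sq, ha, smul_eq_mul, inv_mul_cancel₀ (hs v₀ hv₀)]
    obtain ⟨w, hw⟩ := hpart _ hv
    refine Or.inr ⟨a • v₀, w, Q w, hind _ _ hv hw, fun x hx => ?_, hQv, rfl, hw⟩
    refine hs (w + x • a • v₀) ?_ ?_
    · intro h0
      have hq : polar Q (a • v₀) (w + x • a • v₀) = 0 := by rw [h0, QuadraticMap.polar_zero_right]
      rw [QuadraticMap.polar_add_right, QuadraticMap.polar_smul_right, QuadraticMap.polar_self,
        hw, hQv] at hq
      simp [CharTwo.two_eq_zero] at hq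
    · rw [QuadraticMap.map_add (⇑Q), QuadraticMap.map_smul, hQv, QuadraticMap.polar_smul_right,
        QuadraticMap.polar_comm, hw]
      linear_combination hx

theorem exists_lagrangian [FiniteDimensional F V] (B : LinearMap.BilinForm F V)
    (hB : B.Nondegenerate) (hA : B.IsAlt) :
    ∃ W : Submodule F V, 2 * Module.finrank F W = Module.finrank F V ∧
      ∀ x ∈ W, ∀ y ∈ W, B x y = 0 := by
  obtain ⟨W, hW, hmax⟩ := exists_maximal_of_wellFoundedGT
    (fun W : Submodule F V => ∀ x ∈ W, ∀ y ∈ W, B x y = 0) ⟨⊥, by simp⟩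
  refine ⟨W, ?_, hW⟩
  have hrefl : B.IsRefl := hA.isRefl
  have hle : W ≤ B.orthogonal W := fun w hw u hu => hW u hu w hw
  have heq : B.orthogonal W = W := by
    refine le_antisymm (fun v hv => ?_) hle
    have h' : ∀ x ∈ W ⊔ Submodule.span F {v}, ∀ y ∈ W ⊔ Submodule.span F {v}, B x y = 0 := by
      intro x hx y hy
      obtain ⟨a, ha, b, hb, rfl⟩ := Submodule.mem_sup.1 hx
      obtain ⟨a', ha', b', hb', rfl⟩ := Submodule.mem_sup.1 hy
      obtain ⟨c, rfl⟩ := Submodule.mem_span_singleton.1 hb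
      obtain ⟨c', rfl⟩ := Submodule.mem_span_singleton.1 hb'
      have h1 : B a v = 0 := hv a ha
      have h2 : B v a' = 0 := hrefl _ _ (hv a' ha')
      simp [hW a ha a' ha', h1, h2, hA.self_eq_zero]
    exact hmax h' le_sup_left (Submodule.mem_sup_right (Submodule.mem_span_singleton_self v))
  have a2 := LinearMap.BilinForm.finrank_orthogonal hB W
  rw [heq] at a2
  have a3 := W.finrank_le
  omega

theorem tmul_eq_dualDistrib {U W : Type*} [AddCommGroup U] [Module F U] [AddCommGroup W] [Module F W]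
    (B₁ : LinearMap.BilinForm F U) (B₂ : LinearMap.BilinForm F W) :
    (B₁.tmul B₂ : (U ⊗[F] W) →ₗ[F] Module.Dual F (U ⊗[F] W)) =
      (TensorProduct.dualDistrib F U W) ∘ₗ TensorProduct.map B₁ B₂ := by
  ext a b c d
  simp [mul_comm]

theorem tmul_nondegenerate {U W : Type*} [AddCommGroup U] [Module F U] [FiniteDimensional F U]
    [AddCommGroup W] [Module F W] [FiniteDimensional F W]
    (B₁ : LinearMap.BilinForm F U) (B₂ : LinearMap.BilinForm F W)
    (h₁ : B₁.Nondegenerate) (h₂ : B₂.Nondegenerate) : (B₁.tmul B₂).Nondegenerate := by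
  refine (LinearMap.BilinForm.nondegenerate_iff_ker_eq_bot (B := B₁.tmul B₂)).2 ?_
  rw [LinearMap.ker_eq_bot, tmul_eq_dualDistrib]
  have e : ⇑(TensorProduct.map B₁ B₂) =
      ⇑(TensorProduct.congr (LinearMap.BilinForm.toDual B₁ h₁) (LinearMap.BilinForm.toDual B₂ h₂)) :=
    rfl
  rw [LinearMap.coe_comp, e]
  exact (TensorProduct.dualDistribEquiv F U W).injective.comp (LinearEquiv.injective _)

theorem tmul_isSymm_of_isAlt {U W : Type*} [AddCommGroup U] [Module F U]
    [AddCommGroup W] [Module F W] (B₁ : LinearMap.BilinForm F U) (B₂ : LinearMap.BilinForm F W)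
    (h₁ : B₁.IsAlt) (h₂ : B₂.IsAlt) : (B₁.tmul B₂).IsSymm := by
  have h : (B₁.tmul B₂ : (U ⊗[F] W) →ₗ[F] Module.Dual F (U ⊗[F] W)) = (B₁.tmul B₂).flip := by
    ext a b c d
    have e1 := LinearMap.IsAlt.neg h₁ a c
    have e2 := LinearMap.IsAlt.neg h₂ b d
    simp [← e1, ← e2]
  exact ⟨fun x y => LinearMap.congr_fun₂ h x y⟩

theorem tmul_plus_type {U W : Type*} [AddCommGroup U] [Module F U] [FiniteDimensional F U]
    [AddCommGroup W] [Module F W] [FiniteDimensional F W]
    (B₁ : LinearMap.BilinForm F U) (B₂ : LinearMap.BilinForm F W) {L : Submodule F U}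
    (hL : ∀ x ∈ L, ∀ y ∈ L, B₁ x y = 0) :
    ∃ X : Submodule F (U ⊗[F] W), Module.finrank F X = Module.finrank F L * Module.finrank F W ∧
      ∀ x ∈ X, ∀ y ∈ X, (B₁.tmul B₂) x y = 0 := by
  let f : L ⊗[F] W →ₗ[F] U ⊗[F] W := L.subtype.rTensor W
  refine ⟨LinearMap.range f, ?_, ?_⟩
  · rw [LinearMap.finrank_range_of_inj
      (Module.Flat.rTensor_preserves_injective_linearMap _ L.injective_subtype),
      Module.finrank_tensorProduct]
  · have h : ((B₁.tmul B₂).compl₁₂ f f) = 0 := by
      ext a b c d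
      simp [f, hL a a.2 c c.2]
    rintro _ ⟨x, rfl⟩ _ ⟨y, rfl⟩
    exact LinearMap.congr_fun₂ h x y

end CfsgLib.Classical.Geometry
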