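import Cfsg.Agent.Lib.Classical.SLMonomial

set_option autoImplicit false
set_option linter.unusedSectionVars false

/-!
A set of matrices closed under products which contains the monomial matrices away from one coordinate
and a homology which is not axial contains a root element.
-/

namespace CfsgLib.Classical.HomRoot

open Matrix CfsgLib.Classical.SLMon

variable {ι F : Type*} [Fintype ι] [DecidableEq ι] [Field F]

/-- The homologies with centre `u` and axis `φ` lie in `L`. -/
def Hom (j : ι) (L : Set (Matrix ι ι F)) (u φ : ι → F) : Prop :=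
  φ ⬝ᵥ u = 1 ∧ u j = 0 ∧ φ j = 0 ∧ ∀ a : F, a ≠ 0 → R ((a - 1) • u) φ ∈ L

/-- `L` is multiplicatively closed and contains enough monomial matrices. -/
structure Big (j : ι) (L : Set (Matrix ι ι F)) : Prop where
  mul : ∀ A ∈ L, ∀ B ∈ L, A * B ∈ L
  dg : ∀ k, k ≠ j → Hom j L (Pi.single k 1) (Pi.single k 1)
  sw : ∀ k l, k ≠ j → l ≠ j → pmat (Equiv.swap k l) (fun _ => (1 : F)) ∈ L

/-- `L` contains a root element. -/
def Root (j : ι) (L : Set (Matrix ι ι F)) : Prop :=
  ∃ i l, i ≠ l ∧ i ≠ j ∧ l ≠ j ∧ ∃ c : F, c ≠ 0 ∧ R (Pi.single i 1) (c • Pi.single l 1) ∈ L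

theorem hom_mul_inv {u φ : ι → F} (h : φ ⬝ᵥ u = 1) {a : F} (ha : a ≠ 0) :
    R ((a - 1) • u) φ * R ((a⁻¹ - 1) • u) φ = 1 := by
  rw [R_mul_same_right, dotProduct_smul, h]
  have e : (a - 1) • u + (a⁻¹ - 1) • u + ((a⁻¹ - 1) • (1 : F)) • (a - 1) • u = 0 := by
    rw [smul_eq_mul, mul_one, smul_smul, ← add_smul, ← add_smul,
      show a - 1 + (a⁻¹ - 1) + (a⁻¹ - 1) * (a - 1) = 0 by field_simp; ring, zero_smul]
  rw [e, R_zero_left]

variable {j : ι} {L : Set (Matrix ι ι F)}

theorem Big.conj_mem (hL : Big j L) {u φ v ψ : ι → F} (hv : Hom j L v ψ) {b : F} (hb : b ≠ 0)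
    (h : R u φ ∈ L) :
    R (u + ((b - 1) * (ψ ⬝ᵥ u)) • v) (φ + ((b⁻¹ - 1) * (φ ⬝ᵥ v)) • ψ) ∈ L := by
  have hm := hL.mul _ (hL.mul _ (hv.2.2.2 b hb) _ h) _ (hv.2.2.2 b⁻¹ (inv_ne_zero hb))
  rw [conj_R (hom_mul_inv hv.1 hb), R_mulVec, vecMul_R, dotProduct_smul, smul_eq_mul,
    smul_smul, mul_comm (ψ ⬝ᵥ u)] at hm
  exact hm

theorem Hom.conj (hL : Big j L) {u φ v ψ : ι → F} (h : Hom j L u φ) (hv : Hom j L v ψ) {b : F}
    (hb : b ≠ 0) :
    Hom j L (u + ((b - 1) * (ψ ⬝ᵥ u)) • v) (φ + ((b⁻¹ - 1) * (φ ⬝ᵥ v)) • ψ) := by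
  refine ⟨?_, by simp [h.2.1, hv.2.1], by simp [h.2.2.1, hv.2.2.1], fun a ha => ?_⟩
  · simp only [dotProduct_add, add_dotProduct, smul_dotProduct, dotProduct_smul, smul_eq_mul,
      h.1, hv.1]
    field_simp
    ring
  · have := hL.conj_mem hv hb (h.2.2.2 a ha)
    rw [dotProduct_smul, smul_eq_mul] at this
    rwa [smul_add, smul_smul, show (a - 1) * ((b - 1) * (ψ ⬝ᵥ u)) =
      (b - 1) * ((a - 1) * (ψ ⬝ᵥ u)) by ring]

theorem Big.transpose (hL : Big j L) : Big j {A | Aᵀ ∈ L} := by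
  refine ⟨fun A hA B hB => ?_, fun k hk => ?_, fun k l hk hl => ?_⟩
  · show (A * B)ᵀ ∈ L
    rw [transpose_mul]; exact hL.mul _ hB _ hA
  · refine ⟨(hL.dg k hk).1, (hL.dg k hk).2.1, (hL.dg k hk).2.2.1, fun a ha => ?_⟩
    show (R _ _)ᵀ ∈ L
    rw [R_transpose, ← R_smul]
    exact (hL.dg k hk).2.2.2 a ha
  · show (pmat _ _)ᵀ ∈ L
    convert hL.sw k l hk hl using 1
    ext a b
    simp only [transpose_apply, pmat_apply]
    congr 1
    exact propext ⟨fun h => by rw [h, Equiv.swap_apply_self], fun h => by rw [h, Equiv.swap_apply_self]⟩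

theorem Hom.transpose {u φ : ι → F} (h : Hom j L u φ) : Hom j {A | Aᵀ ∈ L} φ u := by
  refine ⟨by rw [dotProduct_comm, h.1], h.2.2.1, h.2.1, fun a ha => ?_⟩
  show (R _ _)ᵀ ∈ L
  rw [R_transpose, ← R_smul]
  exact h.2.2.2 a ha

theorem Root.of_transpose (h : Root j {A | Aᵀ ∈ L}) : Root j L := by
  obtain ⟨i, l, hil, hij, hlj, c, hc, hR⟩ := h
  refine ⟨l, i, hil.symm, hlj, hij, c, hc, ?_⟩
  have h' : (R (Pi.single i 1) (c • Pi.single l 1))ᵀ ∈ L := hR
  rwa [R_transpose, R_smul] at h'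

variable (hq : ∃ c : F, c ≠ 0 ∧ c ≠ 1)
include hq

/-- An elation with an axial centre. -/
theorem root_of_axis (hL : Big j L) {k : ι} (hkj : k ≠ j) {φ : ι → F} (hk : φ k = 0) (hj : φ j = 0)
    (hφ : φ ≠ 0) (h : R (Pi.single k 1) φ ∈ L) : Root j L := by
  obtain ⟨l, hl⟩ := Function.ne_iff.1 hφ
  have hl0 : φ l ≠ 0 := hl
  have hlk : l ≠ k := fun e => hl0 (e ▸ hk)
  have hlj : l ≠ j := fun e => hl0 (e ▸ hj)
  obtain ⟨c, hc0, hc1⟩ := hq
  have h1 := hL.conj_mem (hL.dg l hlj) hc0 h
  simp only [dotProduct_single, mul_one, single_dotProduct, one_mul,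
    Pi.single_eq_of_ne hlk, Pi.single_eq_of_ne hlk.symm, mul_zero, zero_smul, add_zero] at h1
  have h2 := hL.conj_mem (hL.dg k hkj) (neg_ne_zero.2 (one_ne_zero (α := F))) h
  simp only [dotProduct_single, mul_one, hk, mul_zero, zero_smul, add_zero,
    Pi.single_eq_same] at h2
  have e2 : (Pi.single k 1 + ((-1 : F) - 1) • Pi.single k 1 : ι → F) = (-1 : F) • Pi.single k 1 := by
    module
  rw [e2, R_smul] at h2
  have h3 := hL.mul _ h1 _ h2
  rw [R_mul_same_left _ _ _ (by simp [hk, hlk.symm]), neg_one_smul,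
    add_neg_eq_iff_eq_add.2 (add_comm _ _)] at h3
  exact ⟨k, l, hlk.symm, hkj, hlj, (c⁻¹ - 1) * φ l,
    mul_ne_zero (sub_ne_zero.2 fun e => hc1 (inv_eq_one.1 e)) hl0, h3⟩

theorem root_of_left (hL : Big j L) {u φ : ι → F} (h : Hom j L u φ) {k : ι} (hu : u k ≠ 0)
    (hφ : φ k = 0) : Root j L := by
  have hkj : k ≠ j := fun e => hu (e ▸ h.2.1)
  obtain ⟨c, hc0, hc1⟩ := hq
  have h1 : Hom j L (u + ((c - 1) * u k) • Pi.single k 1) φ := by
    have := h.conj hL (hL.dg k hkj) hc0
    simpa [hφ] using this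
  have h2 := hL.mul _ (h1.2.2.2 c hc0) _ (h.2.2.2 c⁻¹ (inv_ne_zero hc0))
  rw [R_mul_same_right, dotProduct_smul, h.1] at h2
  have e : (c - 1) • (u + ((c - 1) * u k) • Pi.single k 1) + (c⁻¹ - 1) • u +
      ((c⁻¹ - 1) • (1 : F)) • (c - 1) • (u + ((c - 1) * u k) • Pi.single k 1) =
      (-((c⁻¹ - 1) * ((c - 1) * u k))) • (Pi.single k 1 : ι → F) := by
    rw [smul_eq_mul, mul_one]
    match_scalars <;> field_simp <;> ring
  rw [e, R_smul] at h2
  refine root_of_axis ⟨c, hc0, hc1⟩ hL hkj (by simp [hφ]) (by simp [h.2.2.1]) (fun e => ?_) h2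
  have hφ0 : φ ≠ 0 := fun e => by simpa [e] using h.1
  rcases smul_eq_zero.1 e with e | e
  · rw [neg_eq_zero, mul_eq_zero, mul_eq_zero] at e
    rcases e with e | e | e
    · exact hc1 (inv_eq_one.1 (sub_eq_zero.1 e))
    · exact hc1 (sub_eq_zero.1 e)
    · exact hu e
  · exact hφ0 e

theorem root_of_ne (hL : Big j L) {u φ : ι → F} (h : Hom j L u φ) {k : ι}
    (hne : ¬ (u k = 0 ↔ φ k = 0)) : Root j L := by
  by_cases hu : u k = 0
  · exact (root_of_left hq hL.transpose h.transpose (fun e => hne (by simp [hu, e])) hu).of_transpose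
  · refine root_of_left hq hL h hu ?_
    by_contra e
    exact hne (by simp [hu, e])

theorem root_of_good (hL : Big j L) {u φ : ι → F} (h : Hom j L u φ) {k l : ι} (hlk : l ≠ k)
    (hk : u k ≠ 0) (hl : u l ≠ 0) {r : F} (hr0 : r ≠ 0) (hr1 : r ≠ 1)
    (hf : 1 + (r - 1) * (u k * φ k) ≠ 0) (hg : u k * φ k * (r - 1) ^ 2 + r ≠ 0) : Root j L := by
  have hkj : k ≠ j := fun e => hk (e ▸ h.2.1)
  by_cases hφk : φ k = 0
  · exact root_of_left hq hL h hk hφk
  by_cases hφl : φ l = 0
  · exact root_of_left hq hL h hl hφl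
  have h1 := h.conj hL (hL.dg k hkj) (inv_ne_zero hr0)
  simp only [single_dotProduct, dotProduct_single, one_mul, mul_one, inv_inv] at h1
  set u' := u + ((r⁻¹ - 1) * u k) • (Pi.single k 1 : ι → F)
  set φ' := φ + ((r - 1) * φ k) • (Pi.single k 1 : ι → F)
  set p := u k * φ k
  have hp : p ≠ 0 := mul_ne_zero hk hφk
  set f := 1 + (r - 1) * p
  have hf1 : f - 1 ≠ 0 := by
    show 1 + (r - 1) * p - 1 ≠ 0
    rw [add_sub_cancel_left]
    exact mul_ne_zero (sub_ne_zero.2 hr1) hp
  have hfu : φ' ⬝ᵥ u = f := by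
    simp [φ', f, p, add_dotProduct, smul_dotProduct, h.1]; ring
  have hfu' : φ ⬝ᵥ u' = 1 + (r⁻¹ - 1) * p := by
    simp [u', p, dotProduct_add, dotProduct_smul, h.1]; ring
  have h2 := h.conj hL h1 (b := (f - 1) / f) (div_ne_zero hf1 hf)
  rw [hfu, hfu', inv_div, show ((f - 1) / f - 1) * f = -1 by field_simp; ring,
    show f / (f - 1) - 1 = 1 / (f - 1) by field_simp; ring, neg_one_smul] at h2
  refine root_of_ne hq hL h2 (k := l) fun hiff => ?_
  have hul : (u + -u') l = 0 := by simp [u', hlk]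
  have := hiff.1 hul
  simp [φ', hlk] at this
  apply hg
  have h3 : (f - 1)⁻¹ * (1 + (r⁻¹ - 1) * p) * φ l + φ l = 0 := by linear_combination this
  have h4 : (f - 1)⁻¹ * (1 + (r⁻¹ - 1) * p) + 1 = 0 := by
    refine (mul_eq_zero.1 ?_).resolve_right hφl
    rw [add_mul, one_mul, h3]
  have h5 : (1 + (r⁻¹ - 1) * p) + (f - 1) = 0 := by
    have := congrArg ((f - 1) * ·) h4
    simp only [mul_zero, mul_add, ← mul_assoc, mul_inv_cancel₀ hf1, one_mul, mul_one] at this
    exact this
  have h6 := congrArg (r * ·) h5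
  simp only [f, mul_zero] at h6
  field_simp at h6
  linear_combination h6

omit hq in
theorem good_five : ∀ x : ZMod 5, x ≠ 0 → x ≠ 3 →
    ∃ r : ZMod 5, r ≠ 0 ∧ r ≠ 1 ∧ 1 + (r - 1) * x ≠ 0 ∧ x * (r - 1) ^ 2 + r ≠ 0 := by decide

omit hq in
theorem exists_good [Fintype F] (h5 : 5 ≤ Fintype.card F) {p : F} (hp : p ≠ 0)
    (hbad : ¬ (Fintype.card F = 5 ∧ p = 3)) :
    ∃ r : F, r ≠ 0 ∧ r ≠ 1 ∧ 1 + (r - 1) * p ≠ 0 ∧ p * (r - 1) ^ 2 + r ≠ 0 := by
  classical
  by_cases hc : Fintype.card F = 5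
  · haveI : Fact (Nat.Prime 5) := ⟨by norm_num⟩
    let e : ZMod 5 ≃+* F := ZMod.ringEquivOfPrime F (by norm_num) hc
    have hx : e.symm p ≠ 3 := fun h => hbad ⟨hc, by
      have := congrArg e h; rwa [e.apply_symm_apply, map_ofNat] at this⟩
    obtain ⟨r, r0, r1, r2, r3⟩ := good_five (e.symm p) (fun h => hp (by simpa using congrArg e h)) hx
    refine ⟨e r, ?_, ?_, fun h => r2 ?_, fun h => r3 ?_⟩
    · simpa using r0
    · simpa using r1
    · apply e.injective; simpa using h
    · apply e.injective; simpa using h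
  by_contra hn
  push Not at hn
  let B : Finset F := {0, 1, 1 - p⁻¹}
  let C : Finset F := Finset.univ.filter fun r => p * (r - 1) ^ 2 + r = 0
  have hC : C.card ≤ 2 := by
    by_contra h
    obtain ⟨a, b, c, ha, hb, hc, hab, hac, hbc⟩ := Finset.two_lt_card_iff.1 (not_le.1 h)
    simp only [C, Finset.mem_filter, Finset.mem_univ, true_and] at ha hb hc
    have e1 : (a - b) * (p * (a + b - 2) + 1) = 0 := by linear_combination ha - hb
    have e2 : (a - c) * (p * (a + c - 2) + 1) = 0 := by linear_combination ha - hc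
    rw [mul_eq_zero, sub_eq_zero] at e1 e2
    have e3 : p * (b - c) = 0 := by
      linear_combination (e1.resolve_left hab) - (e2.resolve_left hac)
    exact hbc (sub_eq_zero.1 ((mul_eq_zero.1 e3).resolve_left hp))
  have hcov : (Finset.univ : Finset F) ⊆ B ∪ C := fun r _ => by
    simp only [Finset.mem_union, B, Finset.mem_insert, Finset.mem_singleton, C, Finset.mem_filter,
      Finset.mem_univ, true_and]
    by_cases r0 : r = 0
    · exact Or.inl (Or.inl r0)
    by_cases r1 : r = 1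
    · exact Or.inl (Or.inr (Or.inl r1))
    by_cases r2 : 1 + (r - 1) * p = 0
    · refine Or.inl (Or.inr (Or.inr ?_))
      field_simp
      linear_combination r2
    exact Or.inr (hn r r0 r1 r2)
  have h1 := (Finset.card_le_card hcov).trans (Finset.card_union_le _ _)
  have hB : B.card ≤ 3 := Finset.card_le_three
  rw [Finset.card_univ] at h1
  omega

theorem root_of_hom [Fintype F] [DecidableEq F] (h5 : 5 ≤ Fintype.card F) (hι : 4 ≤ Fintype.card ι) (hL : Big j L) :
    ∀ (N : ℕ) (u φ : ι → F), (Finset.univ.filter fun a => u a ≠ 0).card ≤ N → Hom j L u φ →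
      ∀ k l, k ≠ l → u k ≠ 0 → u l ≠ 0 → Root j L := by
  classical
  -- the sum of `u a φ a`
  have hsum : ∀ u φ : ι → F, Hom j L u φ → (∀ a, u a ≠ 0 → u a * φ a = 3) →
      ((Finset.univ.filter fun a => u a ≠ 0).card : F) * 3 = 1 := by
    intro u φ h hall
    calc _ = ∑ a ∈ Finset.univ.filter (fun a => u a ≠ 0), (3 : F) := by
          rw [Finset.sum_const, nsmul_eq_mul]
      _ = ∑ a ∈ Finset.univ.filter (fun a => u a ≠ 0), φ a * u a :=
          Finset.sum_congr rfl fun a ha => by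
            rw [mul_comm, hall a (Finset.mem_filter.1 ha).2]
      _ = φ ⬝ᵥ u := Finset.sum_subset (Finset.subset_univ _) fun a _ ha => by
            simp only [Finset.mem_filter, Finset.mem_univ, true_and, not_not] at ha
            rw [ha, mul_zero]
      _ = 1 := h.1
  -- all coordinates bad
  have good : ∀ u φ : ι → F, Hom j L u φ → ∀ k l, k ≠ l → u k ≠ 0 → u l ≠ 0 → Root j L ∨
      (Fintype.card F = 5 ∧ ∀ a, u a ≠ 0 → u a * φ a = 3) := by
    intro u φ h k l hkl hk hl
    by_cases hr : Root j L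
    · exact Or.inl hr
    refine Or.inr ?_
    have hb : ∀ a, u a ≠ 0 → Fintype.card F = 5 ∧ u a * φ a = 3 := by
      intro a ha
      by_contra hnb
      apply hr
      have hp : u a * φ a ≠ 0 := mul_ne_zero ha fun e => hr (root_of_left hq hL h ha e)
      obtain ⟨r, r0, r1, r2, r3⟩ := exists_good h5 hp hnb
      rcases eq_or_ne a k with rfl | hak
      · exact root_of_good hq hL h hkl.symm ha hl r0 r1 r2 r3
      · exact root_of_good hq hL h hak.symm ha hk r0 r1 r2 r3
    exact ⟨(hb k hk).1, fun a ha => (hb a ha).2⟩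
  intro N
  induction N with
  | zero =>
    intro u φ hN _ k _ _ hk _
    have : k ∈ Finset.univ.filter fun a => u a ≠ 0 := by simp [hk]
    rw [Finset.card_eq_zero.1 (Nat.le_zero.1 hN)] at this
    simp at this
  | succ N ih =>
    intro u φ hN h k l hkl hk hl
    rcases good u φ h k l hkl hk hl with hr | ⟨hc, hall⟩
    · exact hr
    haveI : Fact (Nat.Prime 5) := ⟨by norm_num⟩
    haveI : CharP F 5 := charP_of_card_eq_prime hc
    have five : (5 : F) = 0 := by exact_mod_cast CharP.cast_eq_zero F 5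
    have lit : ∀ m : ℕ, ¬ 5 ∣ m → (m : F) ≠ 0 := fun m hm h0 =>
      hm ((CharP.cast_eq_zero_iff F 5 m).1 h0)
    have h3 : (3 : F) ≠ 0 := by exact_mod_cast lit 3 (by norm_num)
    have hkj : k ≠ j := fun e => hk (e ▸ h.2.1)
    have hlj : l ≠ j := fun e => hl (e ▸ h.2.1)
    by_cases hS : ∃ o, o ≠ k ∧ o ≠ l ∧ u o ≠ 0
    · obtain ⟨o, hok, hol, ho⟩ := hS
      have h1 := h.conj hL (hL.dg k hkj) h3
      simp only [single_dotProduct, dotProduct_single, one_mul, mul_one] at h1
      have h2 := h.conj hL h1 h3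
      have hinv : (3 : F)⁻¹ = 2 := inv_eq_of_mul_eq_one_right (by linear_combination five)
      have e : (φ + ((3⁻¹ - 1) * φ k) • Pi.single k 1) ⬝ᵥ u = 4 := by
        rw [add_dotProduct, smul_dotProduct, h.1, single_dotProduct, one_mul, smul_eq_mul, hinv]
        linear_combination hall k hk
      rw [e] at h2
      set u2 := u + ((3 - 1) * 4 : F) • (u + ((3 - 1) * u k) • (Pi.single k 1 : ι → F))
      have h2k : u2 k = 0 := by
        simp [u2]; linear_combination (5 * u k) * five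
      have h2a : ∀ a, a ≠ k → u2 a = 9 * u a := fun a ha => by
        simp [u2, ha]; ring
      have h9 : (9 : F) ≠ 0 := by exact_mod_cast lit 9 (by norm_num)
      refine ih u2 _ ?_ h2 l o hol.symm (by rw [h2a l hkl.symm]; exact mul_ne_zero h9 hl)
        (by rw [h2a o hok]; exact mul_ne_zero h9 ho)
      have hsub : (Finset.univ.filter fun a => u2 a ≠ 0) ⊆
          (Finset.univ.filter fun a => u a ≠ 0).erase k := fun a ha => by
        rw [Finset.mem_filter] at ha
        have hak : a ≠ k := fun e => ha.2 (e ▸ h2k)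
        refine Finset.mem_erase.2 ⟨hak, Finset.mem_filter.2 ⟨Finset.mem_univ _, fun e => ha.2 ?_⟩⟩
        rw [h2a a hak, e, mul_zero]
      have := Finset.card_le_card hsub
      rw [Finset.card_erase_of_mem (by simp [hk])] at this
      omega
    push Not at hS
    -- support of size two: enlarge it
    by_cases hne : ∃ a, ¬ (u a = 0 ↔ φ a = 0)
    · obtain ⟨a, ha⟩ := hne
      exact root_of_ne hq hL h ha
    push Not at hne
    obtain ⟨o, ho⟩ : ∃ o, o ∈ (((Finset.univ.erase j).erase k).erase l : Finset ι) := by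
      refine Finset.card_pos.1 ?_
      have h1 := Finset.pred_card_le_card_erase (s := (Finset.univ.erase j).erase k) (a := l)
      have h2 := Finset.pred_card_le_card_erase (s := (Finset.univ.erase j : Finset ι)) (a := k)
      have h3 := Finset.pred_card_le_card_erase (s := (Finset.univ : Finset ι)) (a := j)
      rw [Finset.card_univ] at h3
      omega
    simp only [Finset.mem_erase, Finset.mem_univ, and_true] at ho
    obtain ⟨hol, hok, hoj⟩ := ho
    set P := pmat (Equiv.swap l o) (fun _ => (1 : F))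
    have hP : P * P = 1 := by
      rw [pmat_mul, Equiv.swap_mul_self]
      simp only [mul_one]
      exact pmat_one
    have hjfix : Equiv.swap l o j = j := Equiv.swap_apply_of_ne_of_ne hlj.symm hoj.symm
    have h1 : Hom j L (fun a => u (Equiv.swap l o a)) (fun a => φ (Equiv.swap l o a)) := by
      refine ⟨?_, by simp [hjfix, h.2.1], by simp [hjfix, h.2.2.1], fun a ha => ?_⟩
      · exact (Equiv.sum_comp (Equiv.swap l o) (fun a => φ a * u a)).trans h.1
      · have := hL.mul _ (hL.mul _ (hL.sw l o hlj hoj) _ (h.2.2.2 a ha)) _ (hL.sw l o hlj hoj)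
        rw [conj_R hP, mulVec_smul, pmat_mulVec, vecMul_pmat] at this
        simpa [Equiv.symm_swap] using this
    have hsk : Equiv.swap l o k = k := Equiv.swap_apply_of_ne_of_ne hkl hok.symm
    have huo : u o = 0 := hS o hok hol
    have hφo : φ o = 0 := (hne o).1 huo
    have he : (fun a => φ (Equiv.swap l o a)) ⬝ᵥ u = 3 := by
      rw [dotProduct, Finset.sum_eq_single k]
      · rw [hsk, mul_comm]; exact hall k hk
      · intro b _ hb
        by_cases hbl : b = l
        · subst hbl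
          rw [Equiv.swap_apply_left, hφo, zero_mul]
        · rw [hS b hb hbl, mul_zero]
      · simp
    have h2 := h.conj hL h1 h3
    rw [he, show ((3 : F) - 1) * 3 = 1 by linear_combination five, one_smul] at h2
    have h2k : (u + fun a => u (Equiv.swap l o a)) k = 2 * u k := by
      simp [hsk]; ring
    have h22 : (2 : F) ≠ 0 := by exact_mod_cast lit 2 (by norm_num)
    have hk' : (u + fun a => u (Equiv.swap l o a)) k ≠ 0 := by
      rw [h2k]; exact mul_ne_zero h22 hk
    rcases good _ _ h2 k l hkl hk' (by simp [huo, hl]) with hr | ⟨-, hall'⟩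
    · exact hr
    exfalso
    have hs := hsum _ _ h2 hall'
    have hcard : (Finset.univ.filter fun a => (u + fun a => u (Equiv.swap l o a)) a ≠ 0) = {k, l, o} := by
      ext a
      simp only [Finset.mem_filter, Finset.mem_univ, true_and, Finset.mem_insert,
        Finset.mem_singleton]
      constructor
      · intro ha
        by_contra hn
        simp only [not_or] at hn
        exact ha (by simp [Equiv.swap_apply_of_ne_of_ne hn.2.1 hn.2.2, hS a hn.1 hn.2.1])
      · rintro (rfl | rfl | rfl)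
        · exact hk'
        · simp [huo, hl]
        · simp [huo, hl]
    rw [hcard, Finset.card_eq_three.2 ⟨k, l, o, hkl, hok.symm, hol.symm, rfl⟩] at hs
    have h8 : (8 : F) = 0 := by linear_combination hs
    exact (by exact_mod_cast lit 8 (by norm_num) : (8 : F) ≠ 0) h8

end CfsgLib.Classical.HomRoot
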