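import Mathlib
import Cfsg.Prelude.Def_Local
import Cfsg.Agent.Lib.Classical.Transvection
import Cfsg.Agent.Lib.Layer.Basic

set_option autoImplicit false
set_option linter.unusedSectionVars false

/-!
The special linear group on a hyperplane is a standard subgroup.
-/

namespace CfsgLib.HyperplaneStandard

open Matrix Cfsg
open scoped commutatorElement

variable {F : Type*} [Field F] {k : ℕ}

/-- The block embedding. -/
def blockMat : SpecialLinearGroup (Fin k) F →* Matrix (Fin (k + 1)) (Fin (k + 1)) F where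
  toFun A := (fromBlocks (A : Matrix (Fin k) (Fin k) F) 0 0 (1 : Matrix (Fin 1) (Fin 1) F)).submatrix
    finSumFinEquiv.symm finSumFinEquiv.symm
  map_one' := by simp
  map_mul' A B := by
    rw [Matrix.submatrix_mul_equiv, fromBlocks_multiply]
    simp

theorem blockMat_cast (A : SpecialLinearGroup (Fin k) F) (i j : Fin k) :
    blockMat A i.castSucc j.castSucc = (A : Matrix (Fin k) (Fin k) F) i j := by
  simp [blockMat, finSumFinEquiv_symm_apply_castSucc]

theorem blockMat_last (A : SpecialLinearGroup (Fin k) F) :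
    blockMat A (Fin.last k) (Fin.last k) = 1 := by
  simp [blockMat, finSumFinEquiv_symm_last]

theorem blockMat_off (A : SpecialLinearGroup (Fin k) F) (i : Fin k) :
    blockMat A i.castSucc (Fin.last k) = 0 ∧ blockMat A (Fin.last k) i.castSucc = 0 := by
  constructor <;> simp [blockMat, finSumFinEquiv_symm_last,
    finSumFinEquiv_symm_apply_castSucc]

/-- The embedding. -/
def emb : SpecialLinearGroup (Fin k) F →* SpecialLinearGroup (Fin (k + 1)) F where
  toFun A := ⟨blockMat A, by
    show ((fromBlocks (A : Matrix (Fin k) (Fin k) F) 0 0 (1 : Matrix (Fin 1) (Fin 1) F)).submatrix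
      finSumFinEquiv.symm finSumFinEquiv.symm).det = 1
    rw [Matrix.det_submatrix_equiv_self, det_fromBlocks_zero₂₁, A.2, det_one, one_mul]⟩
  map_one' := Subtype.ext (map_one blockMat)
  map_mul' A B := Subtype.ext (map_mul blockMat A B)

theorem emb_injective : Function.Injective (emb (F := F) (k := k)) := fun A B h =>
  Subtype.ext (Matrix.ext fun i j => by
    rw [← blockMat_cast A, ← blockMat_cast B]
    exact congrFun (congrFun (congrArg Subtype.val h) _) _)

/-- The block shape. -/
def Shape (M : Matrix (Fin (k + 1)) (Fin (k + 1)) F) : Prop :=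
  ∀ i : Fin k, M i.castSucc (Fin.last k) = 0 ∧ M (Fin.last k) i.castSucc = 0

theorem mem_range {g : SpecialLinearGroup (Fin (k + 1)) F} :
    g ∈ (emb (F := F) (k := k)).range ↔
      Shape (g : Matrix (Fin (k + 1)) (Fin (k + 1)) F) ∧
        (g : Matrix (Fin (k + 1)) (Fin (k + 1)) F) (Fin.last k) (Fin.last k) = 1 := by
  constructor
  · rintro ⟨A, rfl⟩
    exact ⟨blockMat_off A, blockMat_last A⟩
  · rintro ⟨hs, h1⟩
    set M := (g : Matrix (Fin (k + 1)) (Fin (k + 1)) F)
    have e : M = (fromBlocks (M.submatrix Fin.castSucc Fin.castSucc) 0 0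
        (1 : Matrix (Fin 1) (Fin 1) F)).submatrix finSumFinEquiv.symm finSumFinEquiv.symm := by
      ext i j
      induction i using Fin.lastCases <;> induction j using Fin.lastCases <;>
        simp [finSumFinEquiv_symm_last,
          finSumFinEquiv_symm_apply_castSucc, h1, (hs _).1, (hs _).2]
    have hd : (M.submatrix Fin.castSucc Fin.castSucc).det = 1 := by
      have := g.2
      change M.det = 1 at this
      rwa [e, Matrix.det_submatrix_equiv_self, det_fromBlocks_zero₂₁, det_one,
        mul_one] at this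
    exact ⟨⟨_, hd⟩, Subtype.ext e.symm⟩

variable {t : SpecialLinearGroup (Fin (k + 1)) F}
  (ht : (t : Matrix (Fin (k + 1)) (Fin (k + 1)) F) =
    Matrix.diagonal fun i => if i = Fin.last k then (1 : F) else -1)
  (h2 : (2 : F) ≠ 0)
include ht h2

theorem shape_iff {g : SpecialLinearGroup (Fin (k + 1)) F} :
    g ∈ Subgroup.centralizer ({t} : Set (SpecialLinearGroup (Fin (k + 1)) F)) ↔
      Shape (g : Matrix (Fin (k + 1)) (Fin (k + 1)) F) := by
  rw [Subgroup.mem_centralizer_singleton_iff]
  set M := (g : Matrix (Fin (k + 1)) (Fin (k + 1)) F)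
  constructor
  · intro h i
    have e : M * (t : Matrix (Fin (k + 1)) (Fin (k + 1)) F) = (t : Matrix (Fin (k + 1)) (Fin (k + 1)) F) * M :=
      congrArg Subtype.val h
    rw [ht] at e
    have e1 := congrFun (congrFun e i.castSucc) (Fin.last k)
    have e2 := congrFun (congrFun e (Fin.last k)) i.castSucc
    rw [Matrix.mul_diagonal, Matrix.diagonal_mul, if_pos rfl, if_neg i.castSucc_ne_last] at e1
    rw [Matrix.mul_diagonal, Matrix.diagonal_mul, if_pos rfl, if_neg i.castSucc_ne_last] at e2
    exact ⟨(mul_eq_zero.1 (show (2 : F) * M i.castSucc (Fin.last k) = 0 by linear_combination e1)).resolve_left h2,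
      (mul_eq_zero.1 (show (2 : F) * M (Fin.last k) i.castSucc = 0 by linear_combination -e2)).resolve_left h2⟩
  · intro h
    refine Subtype.ext ?_
    show M * _ = _ * M
    rw [ht]
    ext i j
    rw [Matrix.mul_diagonal, Matrix.diagonal_mul]
    induction i using Fin.lastCases <;> induction j using Fin.lastCases <;>
      simp [(h _).1, (h _).2, mul_comm]

theorem mul_last {g h : SpecialLinearGroup (Fin (k + 1)) F}
    (hg : g ∈ Subgroup.centralizer ({t} : Set (SpecialLinearGroup (Fin (k + 1)) F))) :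
    ((g * h : SpecialLinearGroup (Fin (k + 1)) F) : Matrix (Fin (k + 1)) (Fin (k + 1)) F) (Fin.last k) (Fin.last k) =
      (g : Matrix (Fin (k + 1)) (Fin (k + 1)) F) (Fin.last k) (Fin.last k) *
        (h : Matrix (Fin (k + 1)) (Fin (k + 1)) F) (Fin.last k) (Fin.last k) := by
  show ((g : Matrix (Fin (k + 1)) (Fin (k + 1)) F) * (h : Matrix (Fin (k + 1)) (Fin (k + 1)) F)) _ _ = _
  rw [Matrix.mul_apply, Fin.sum_univ_castSucc,
    Finset.sum_eq_zero fun i _ => by rw [((shape_iff ht h2).1 hg i).2, zero_mul], zero_add]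

/-- The last diagonal entry. -/
noncomputable def lastHom :
    Subgroup.centralizer ({t} : Set (SpecialLinearGroup (Fin (k + 1)) F)) →* F where
  toFun g := ((g : SpecialLinearGroup (Fin (k + 1)) F) : Matrix (Fin (k + 1)) (Fin (k + 1)) F) (Fin.last k) (Fin.last k)
  map_one' := by simp
  map_mul' g h := mul_last ht h2 g.2

theorem range_le :
    (emb (F := F) (k := k)).range ≤ Subgroup.centralizer ({t} : Set (SpecialLinearGroup (Fin (k + 1)) F)) :=
  fun _ hg => (shape_iff ht h2).2 (mem_range.1 hg).1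

theorem conj_range {g x : SpecialLinearGroup (Fin (k + 1)) F}
    (hg : g ∈ Subgroup.centralizer ({t} : Set (SpecialLinearGroup (Fin (k + 1)) F)))
    (hx : x ∈ (emb (F := F) (k := k)).range) : g * x * g⁻¹ ∈ (emb (F := F) (k := k)).range := by
  let a : Subgroup.centralizer ({t} : Set (SpecialLinearGroup (Fin (k + 1)) F)) := ⟨g, hg⟩
  let b : Subgroup.centralizer ({t} : Set (SpecialLinearGroup (Fin (k + 1)) F)) := ⟨x, range_le ht h2 hx⟩
  refine mem_range.2 ⟨(shape_iff ht h2).1 (a * b * a⁻¹).2, ?_⟩
  have hb : lastHom ht h2 b = 1 := (mem_range.1 hx).2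
  show lastHom ht h2 (a * b * a⁻¹) = 1
  rw [map_mul, map_mul, hb, mul_one, ← map_mul, mul_inv_cancel, map_one]

omit ht h2 in
theorem centralizer_range (hk : 2 ≤ k) {z : SpecialLinearGroup (Fin (k + 1)) F}
    (hz : z ∈ Subgroup.centralizer ((emb (F := F) (k := k)).range : Set (SpecialLinearGroup (Fin (k + 1)) F))) :
    Shape (z : Matrix (Fin (k + 1)) (Fin (k + 1)) F) ∧
      ∃ c : F, ∀ i j : Fin k, (z : Matrix (Fin (k + 1)) (Fin (k + 1)) F) i.castSucc j.castSucc =
        if i = j then c else 0 := by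
  classical
  set M := (z : Matrix (Fin (k + 1)) (Fin (k + 1)) F)
  have hE : ∀ i j : Fin k, i ≠ j → M * Matrix.single i.castSucc j.castSucc (1 : F) =
      Matrix.single i.castSucc j.castSucc (1 : F) * M := by
    intro i j hij
    have h := Subgroup.mem_centralizer_iff.1 hz _ ⟨SpecialLinearGroup.transvection hij 1, rfl⟩
    have e : (emb (SpecialLinearGroup.transvection hij (1 : F)) : Matrix (Fin (k + 1)) (Fin (k + 1)) F) =
        1 + Matrix.single i.castSucc j.castSucc 1 := by
      show blockMat _ = _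
      ext a b
      induction a using Fin.lastCases <;> induction b using Fin.lastCases <;>
        simp [blockMat_last, (blockMat_off _ _).1, (blockMat_off _ _).2, blockMat_cast,
          SpecialLinearGroup.transvection_coe, Matrix.one_apply, Matrix.single_apply,
          Fin.castSucc_inj, Fin.castSucc_ne_last, (Fin.castSucc_ne_last _).symm]
    have h' : (emb (SpecialLinearGroup.transvection hij (1 : F)) : Matrix (Fin (k + 1)) (Fin (k + 1)) F) * M =
        M * (emb (SpecialLinearGroup.transvection hij (1 : F)) : Matrix (Fin (k + 1)) (Fin (k + 1)) F) :=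
      congrArg Subtype.val h
    rw [e, add_mul, one_mul, mul_add, mul_one] at h'
    exact (add_left_cancel h').symm
  have hcol : ∀ i j : Fin k, i ≠ j → ∀ a : Fin (k + 1), a ≠ i.castSucc → M a i.castSucc = 0 := by
    intro i j hij a ha
    have := congrFun (congrFun (hE i j hij) a) j.castSucc
    rwa [Matrix.mul_single_apply_same, mul_one, Matrix.single_mul_apply_of_ne _ _ _ _ _ ha] at this
  have hrow : ∀ i j : Fin k, i ≠ j → ∀ b : Fin (k + 1), b ≠ j.castSucc → M j.castSucc b = 0 := by
    intro i j hij b hb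
    have := congrFun (congrFun (hE i j hij) i.castSucc) b
    rwa [Matrix.mul_single_apply_of_ne _ _ _ _ _ hb, Matrix.single_mul_apply_same, one_mul, eq_comm] at this
  have hdiag : ∀ i j : Fin k, M i.castSucc i.castSucc = M j.castSucc j.castSucc := by
    intro i j
    rcases eq_or_ne i j with rfl | hij
    · rfl
    have := congrFun (congrFun (hE i j hij) i.castSucc) j.castSucc
    rwa [Matrix.mul_single_apply_same, Matrix.single_mul_apply_same, mul_one, one_mul] at this
  have hother : ∀ i : Fin k, ∃ j, i ≠ j := fun i => by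
    haveI : Nontrivial (Fin k) := Fin.nontrivial_iff_two_le.2 hk
    obtain ⟨j, hj⟩ := exists_ne i
    exact ⟨j, hj.symm⟩
  refine ⟨fun i => ?_, M (Fin.castSucc (⟨0, by omega⟩ : Fin k)) (Fin.castSucc (⟨0, by omega⟩ : Fin k)), fun i j => ?_⟩
  · obtain ⟨j, hj⟩ := hother i
    exact ⟨hrow j i hj.symm _ i.castSucc_ne_last.symm, hcol i j hj _ i.castSucc_ne_last.symm⟩
  · split_ifs with h
    · subst h; exact hdiag _ _
    · exact hrow j i (Ne.symm h) _ fun e => h (Fin.castSucc_inj.1 e).symm

theorem involution_eq (hk : 2 ≤ k) (hev : Even k) {z : SpecialLinearGroup (Fin (k + 1)) F}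
    (hz : z ∈ Subgroup.centralizer ((emb (F := F) (k := k)).range : Set (SpecialLinearGroup (Fin (k + 1)) F)))
    (hz2 : z * z = 1) (hz1 : z ≠ 1) : z = t := by
  obtain ⟨hs, c, hc⟩ := centralizer_range hk hz
  set M := (z : Matrix (Fin (k + 1)) (Fin (k + 1)) F)
  have e : M = Matrix.diagonal fun i => if i = Fin.last k then M (Fin.last k) (Fin.last k) else c := by
    ext i j
    induction i using Fin.lastCases <;> induction j using Fin.lastCases <;>
      simp [(hs _).1, (hs _).2, hc, Matrix.diagonal_apply, Fin.castSucc_inj, Fin.castSucc_ne_last,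
        (Fin.castSucc_ne_last _).symm]
  set μ := M (Fin.last k) (Fin.last k)
  have h22 : M * M = 1 := congrArg Subtype.val hz2
  have hdet : M.det = 1 := z.2
  rw [e] at h22 hdet
  rw [Matrix.diagonal_mul_diagonal, ← Matrix.diagonal_one] at h22
  have hcc : c * c = 1 := by
    have := congrFun (Matrix.diagonal_injective h22) (Fin.castSucc (⟨0, by omega⟩ : Fin k))
    have hne : Fin.castSucc (⟨0, by omega⟩ : Fin k) ≠ Fin.last k := Fin.castSucc_ne_last _
    simpa only [if_neg hne] using this
  rw [Matrix.det_diagonal, Fin.prod_univ_castSucc] at hdet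
  simp only [Fin.castSucc_ne_last, if_false, if_true, Finset.prod_const, Finset.card_univ,
    Fintype.card_fin] at hdet
  obtain ⟨l, rfl⟩ := hev
  rw [← two_mul, pow_mul, sq, hcc, one_pow, one_mul] at hdet
  refine Subtype.ext ?_
  show M = _
  rw [e, ht, hdet]
  rcases mul_self_eq_one_iff.1 hcc with h | h
  · exfalso
    refine hz1 (Subtype.ext ?_)
    show M = 1
    rw [e, hdet, h, ← Matrix.diagonal_one]
    congr 1
    funext i
    split_ifs <;> rfl
  · rw [h]

variable [Fintype F]

theorem isStandard (hk : 3 ≤ k) (hev : Even k) :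
    IsStandardSubgroup ((Cfsg.layer (Subgroup.centralizer ({t} : Set (SpecialLinearGroup (Fin (k + 1)) F)))).map
      (Subgroup.centralizer ({t} : Set (SpecialLinearGroup (Fin (k + 1)) F))).subtype) := by
  classical
  haveI : Nontrivial (Fin k) := Fin.nontrivial_iff_two_le.2 (by omega)
  set C := Subgroup.centralizer ({t} : Set (SpecialLinearGroup (Fin (k + 1)) F)) with hC
  set L := (emb (F := F) (k := k)).range with hL
  have h3 : 3 ≤ Fintype.card (Fin k) := by rw [Fintype.card_fin]; exact hk
  have hqSL : IsQuasisimple (SpecialLinearGroup (Fin k) F) :=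
    ⟨⟨CfsgLib.Classical.commutator_SL_eq_top (Or.inl h3)⟩,
      CfsgLib.Classical.isSimpleGroup_PSL (Or.inl h3)⟩
  have hqL : IsQuasisimple L :=
    CfsgLib.Layer.isQuasisimple_of_mulEquiv (MonoidHom.ofInjective emb_injective) hqSL
  have hLC : L ≤ C := range_le ht h2
  haveI hn : (L.subgroupOf C).Normal := ⟨fun x hx g => conj_range ht h2 g.2 hx⟩
  have hqL' : IsQuasisimple (L.subgroupOf C) :=
    CfsgLib.Layer.isQuasisimple_of_mulEquiv (Subgroup.subgroupOfEquivOfLe hLC).symm hqL
  have hlay : Cfsg.layer C = L.subgroupOf C := by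
    refine le_antisymm (sSup_le ?_) (le_sSup ⟨Subgroup.Normal.isSubnormal hn, hqL'⟩)
    rintro K ⟨hKs, hKq⟩
    haveI := hKq.1
    have hcomm : ⁅K, K⁆ = K := by
      have := congrArg (Subgroup.map K.subtype) (Group.IsPerfect.commutator_eq_top (G := K))
      rwa [commutator_def, Subgroup.map_commutator, ← MonoidHom.range_eq_map, Subgroup.range_subtype]
        at this
    rw [← hcomm, Subgroup.commutator_le]
    intro a _ b _
    refine mem_range.2 ⟨(shape_iff ht h2).1 (⁅a, b⁆ : C).2, ?_⟩
    show lastHom ht h2 ⁅a, b⁆ = 1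
    rw [commutatorElement_def, map_mul, map_mul, map_mul, mul_comm (lastHom ht h2 a) (lastHom ht h2 b),
      mul_assoc (lastHom ht h2 b), ← map_mul _ a a⁻¹, mul_inv_cancel, map_one, mul_one, ← map_mul,
      mul_inv_cancel, map_one]
  have hmap : (Cfsg.layer C).map C.subtype = L := by
    rw [hlay, Subgroup.map_subgroupOf_eq_of_le hLC]
  rw [hmap]
  set Z := Subgroup.centralizer (L : Set (SpecialLinearGroup (Fin (k + 1)) F)) with hZ
  have htZ : t ∈ Z := Subgroup.mem_centralizer_iff.2 fun x hx =>
    Subgroup.mem_centralizer_singleton_iff.1 (hLC hx)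
  have ht2 : t * t = 1 := by
    apply Subtype.ext
    show (t : Matrix (Fin (k + 1)) (Fin (k + 1)) F) * t = 1
    rw [ht, Matrix.diagonal_mul_diagonal, ← Matrix.diagonal_one]
    congr 1; funext i; split_ifs <;> simp
  have ht1 : t ≠ 1 := fun h => by
    have e := congrFun (congrFun (show (t : Matrix (Fin (k + 1)) (Fin (k + 1)) F) = 1 by rw [h]; rfl)
      (Fin.castSucc (⟨0, by omega⟩ : Fin k))) (Fin.castSucc (⟨0, by omega⟩ : Fin k))
    rw [ht, Matrix.diagonal_apply_eq, if_neg (Fin.castSucc_ne_last _), Matrix.one_apply_eq] at e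
    exact h2 (by linear_combination -e)
  have hCN : C ≤ Subgroup.normalizer (L : Set (SpecialLinearGroup (Fin (k + 1)) F)) := fun g hg => by
    refine Subgroup.mem_normalizer_iff.2 fun x => ⟨conj_range ht h2 hg, fun hx => ?_⟩
    have := conj_range ht h2 (inv_mem hg) hx
    simpa [hL, mul_assoc, -MonoidHom.mem_range] using this
  have hLN : Subgroup.normalizer (L : Set (SpecialLinearGroup (Fin (k + 1)) F)) ≤
      Subgroup.normalizer (Z : Set (SpecialLinearGroup (Fin (k + 1)) F)) := by
    intro g hg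
    rw [Subgroup.mem_normalizer_iff] at hg ⊢
    intro x
    simp only [hZ, Subgroup.mem_centralizer_iff]
    constructor
    · intro hx y hy
      have h' : g⁻¹ * y * g ∈ L := (hg _).2 (by simpa [mul_assoc] using hy)
      calc y * (g * x * g⁻¹) = g * ((g⁻¹ * y * g) * x) * g⁻¹ := by group
        _ = g * (x * (g⁻¹ * y * g)) * g⁻¹ := by rw [hx _ h']
        _ = g * x * g⁻¹ * y := by group
    · intro hx y hy
      have h' := hx _ ((hg y).1 hy)
      calc y * x = g⁻¹ * (g * y * g⁻¹ * (g * x * g⁻¹)) * g := by group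
        _ = g⁻¹ * (g * x * g⁻¹ * (g * y * g⁻¹)) * g := by rw [h']
        _ = x * y := by group
  have hinvol : ∀ g : SpecialLinearGroup (Fin (k + 1)) F, ∀ x ∈ Z, x * x = 1 → x ≠ 1 → g * x * g⁻¹ ∈ Z →
      g ∈ C := by
    intro g x hx hx2 hx1 hgx
    rw [involution_eq ht h2 (by omega) hev hx hx2 hx1] at hgx
    have e : g * t * g⁻¹ = t := involution_eq ht h2 (by omega) hev hgx
      (by calc g * t * g⁻¹ * (g * t * g⁻¹) = g * (t * t) * g⁻¹ := by group
            _ = 1 := by rw [ht2]; group)
      (fun h => ht1 (by simpa [mul_inv_eq_one] using h))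
    exact Subgroup.mem_centralizer_singleton_iff.2 (mul_inv_eq_iff_eq_mul.1 e)
  have hZN : Subgroup.normalizer (Z : Set (SpecialLinearGroup (Fin (k + 1)) F)) ≤ C := fun g hg =>
    hinvol g t htZ ht2 ht1 ((Subgroup.mem_normalizer_iff.1 hg t).1 htZ)
  refine ⟨hqL, ⟨?_, fun g hg => ?_⟩, fun g _ hbot => ?_, le_antisymm hLN (hZN.trans hCN)⟩
  · refine even_iff_two_dvd.2 ?_
    have h := orderOf_dvd_natCard (⟨t, htZ⟩ : Z)
    rwa [← Subgroup.orderOf_coe, orderOf_eq_prime (by rw [sq]; exact ht2) ht1] at h
  · rw [← Nat.not_even_iff_odd, even_iff_two_dvd]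
    intro hev'
    haveI := Fact.mk Nat.prime_two
    obtain ⟨x, hx⟩ := exists_prime_orderOf_dvd_card' 2 hev'
    rw [← Subgroup.orderOf_coe] at hx
    obtain ⟨hxZ, y, hyZ, hy⟩ := x.2
    have hy' : g * y * g⁻¹ = x := hy
    have hy2 : y * y = 1 := by
      have h : (g * y * g⁻¹) ^ 2 = 1 := by rw [hy', ← hx]; exact pow_orderOf_eq_one _
      rwa [conj_pow, mul_inv_eq_one, mul_eq_left, sq] at h
    have hy1 : y ≠ 1 := fun h => by
      rw [← hy', h, mul_one, mul_inv_cancel, orderOf_one] at hx
      exact absurd hx (by norm_num)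
    exact hg (hLN (hCN (hinvol g y hyZ hy2 hy1 (hy'.symm ▸ hxZ))))
  · refine CfsgLib.Layer.center_ne_top_of_isQuasisimple hqL ?_
    have hle : L.map (MulAut.conj g).toMonoidHom ≤ Z :=
      Subgroup.commutator_eq_bot_iff_le_centralizer.1 (by rwa [Subgroup.commutator_comm])
    have hZab : ∀ a ∈ Z, ∀ b ∈ Z, a * b = b * a := by
      intro a ha b hb
      obtain ⟨hs, c, hc⟩ := centralizer_range (by omega : 2 ≤ k) ha
      obtain ⟨hs', c', hc'⟩ := centralizer_range (by omega : 2 ≤ k) hb
      apply Subtype.ext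
      show (a : Matrix (Fin (k + 1)) (Fin (k + 1)) F) * b = b * a
      ext i j
      rw [Matrix.mul_apply, Matrix.mul_apply, Fin.sum_univ_castSucc, Fin.sum_univ_castSucc]
      induction i using Fin.lastCases <;> induction j using Fin.lastCases <;>
        simp [(hs _).1, (hs _).2, (hs' _).1, (hs' _).2, hc, hc', mul_comm]
    refine (Subgroup.eq_top_iff' _).2 fun a => Subgroup.mem_center_iff.2 fun b => ?_
    have h := hZab _ (hle ⟨(a : SpecialLinearGroup (Fin (k + 1)) F), a.2, rfl⟩) _
      (hle ⟨(b : SpecialLinearGroup (Fin (k + 1)) F), b.2, rfl⟩)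
    rw [← map_mul, ← map_mul] at h
    exact Subtype.ext ((MulAut.conj g).injective h).symm

end CfsgLib.HyperplaneStandard
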