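import Cfsg.Agent.Lib.Classical.SympSemisimple
import Cfsg.Agent.Lib.Classical.WittExtension
import Cfsg.Agent.Lib.Classical.RestrictScalars

/-!
Semisimple isometries of odd order of two quadratic forms: the forms are equivalent through the centralizer.
-/

set_option autoImplicit false
set_option linter.style.haveILetI false
set_option maxHeartbeats 800000

namespace CfsgLib.Classical.OrthSemisimple

open Module QuadraticMap Matrix
open scoped MatrixGroups

universe u

variable {F : Type u} [Field F] [Finite F] {V : Type u} [AddCommGroup V] [Module F V] [FiniteDimensional F V]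

omit [Finite F] [FiniteDimensional F V] in
theorem polar_map (Q : QuadraticForm F V) (g : V →ₗ[F] V) (hg : ∀ v, Q (g v) = Q v) (u v : V) :
    polar Q (g u) (g v) = polar Q u v := by
  simp only [polar, ← map_add, hg]

/-- Two quadratic forms with nondegenerate polar forms, invariant under a map of odd order without
fixed points, are equivalent through its centralizer. -/
theorem exists_equiv_of_fpf (Q Q' : QuadraticForm F V) (hQ : ∀ v, (∀ w, polar Q v w = 0) → v = 0)
    (hQ' : ∀ v, (∀ w, polar Q' v w = 0) → v = 0) (f : End F V) (hf : ∀ v, Q (f v) = Q v)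
    (hf' : ∀ v, Q' (f v) = Q' v) {N : ℕ} (hodd : Odd N) (hN : f ^ N = 1) (hfix : ∀ x, f x = x → x = 0) :
    ∃ y : V ≃ₗ[F] V, (∀ x, y (f x) = f (y x)) ∧ ∀ v, Q (y v) = Q' v := by
  classical
  obtain ⟨y, hy, hyB⟩ := SympSemisimple.exists_centralizer_equiv_of_injective 1 (polarBilin Q) (polarBilin Q')
    (fun u v => (polar_comm Q _ _).trans (one_mul _).symm) (fun u v => (polar_comm Q' _ _).trans (one_mul _).symm)
    hQ hQ' f (polar_map Q f hf) (polar_map Q' f hf')
    hodd.pos hN ((injective_iff_map_eq_zero _).2 fun x hx => hfix x (by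
      have h2 : f (f x) = x := by simpa [sub_eq_zero] using hx
      obtain ⟨k, hk⟩ := hodd
      have h3 : ∀ k : ℕ, (f ^ (2 * k)) x = x := fun k => by
        induction k with
        | zero => rfl
        | succ k ih => rw [mul_add, pow_add, End.mul_apply, mul_one, pow_two, End.mul_apply, h2, ih]
      have := LinearMap.congr_fun hN x
      rw [hk, pow_succ', End.mul_apply, h3] at this
      exact this))
  refine ⟨y, hy, fun v => ?_⟩
  set d : V → F := fun v => Q (y v) - Q' v with hd
  have hdadd : ∀ u v, d (u + v) = d u + d v := fun u v => by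
    have h1 : polar Q (y u) (y v) = polar Q' u v := hyB u v
    simp only [polar] at h1
    simp only [hd, map_add]
    linear_combination h1
  have hdf : ∀ v, d (f v) = d v := fun v => by simp only [hd, hy, hf, hf']
  obtain ⟨w, hw⟩ : ∃ w, f w - w = v := (LinearMap.injective_iff_surjective (f := f - 1)).1
    ((injective_iff_map_eq_zero _).2 fun x hx => hfix x (by simpa [sub_eq_zero] using hx)) v
  have h3 : d (-w) = d w := by simp only [hd, map_neg, QuadraticMap.map_neg]
  have h4 : d (w + (-w)) = d w + d (-w) := hdadd _ _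
  rw [add_neg_cancel, h3, show d 0 = 0 by simp [hd]] at h4
  have h5 : d v = 0 := by rw [← hw, sub_eq_add_neg, hdadd, h3, hdf, ← h4]
  exact sub_eq_zero.1 h5

theorem exists_centralizer_equiv (Q : QuadraticForm F V) (hQ : (polarBilin Q).Nondegenerate)
    (e : V ≃ₗ[F] V) (f : End F V) (hf : ∀ v, Q (f v) = Q v) (hf' : ∀ v, Q (e (f v)) = Q (e v))
    {N : ℕ} (hodd : Odd N) (hN : f ^ N = 1) (hN0 : (N : F) ≠ 0) :
    ∃ h : V ≃ₗ[F] V, (∀ x, h (f x) = f (h x)) ∧ ∀ v, Q (h v) = Q (e v) := by
  classical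
  set B : LinearMap.BilinForm F V := polarBilin Q
  set B' : LinearMap.BilinForm F V := B.compl₁₂ (e : V →ₗ[F] V) (e : V →ₗ[F] V)
  have hB' : ∀ u v, B' u v = polar Q (e u) (e v) := fun u v => rfl
  have hBf : ∀ u v, B (f u) (f v) = B u v := polar_map Q f hf
  have hBf' : ∀ u v, B' (f u) (f v) = B' u v := fun u v => by
    simp only [hB', polar, ← map_add, hf']
  set t : End F V := f - 1 with ht
  set K := LinearMap.ker t
  set I := LinearMap.range t
  have hK : ∀ x, x ∈ K ↔ f x = x := fun x => by simp [K, t, sub_eq_zero]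
  have hdisj : K ⊓ I = ⊥ := by
    rw [eq_bot_iff]
    rintro x ⟨hx, z, rfl⟩
    rw [Submodule.mem_bot]
    show f z - z = 0
    exact sub_eq_zero.2 (SympSemisimple.eq_zero_of_sq hN hN0 ((hK _).1 hx))
  have hC : IsCompl K I := by
    refine ⟨disjoint_iff.2 hdisj, codisjoint_iff.2 (Submodule.eq_top_of_finrank_eq ?_)⟩
    have := Submodule.finrank_sup_add_finrank_inf_eq K I
    rw [hdisj, finrank_bot] at this
    have := LinearMap.finrank_range_add_finrank_ker t
    change finrank F I + finrank F K = _ at this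
    omega
  have hsplit : ∀ w : V, ∃ k ∈ K, ∃ i ∈ I, k + i = w := fun w =>
    Submodule.mem_sup.1 (hC.sup_eq_top ▸ Submodule.mem_top)
  have horth : ∀ C : LinearMap.BilinForm F V, (∀ x y, C (f x) (f y) = C x y) →
      ∀ k ∈ K, ∀ i ∈ I, C i k = 0 := by
    rintro C hCf k hk _ ⟨z, rfl⟩
    show C (f z - z) k = 0
    rw [map_sub, LinearMap.sub_apply, sub_eq_zero]
    conv_lhs => rw [← (hK k).1 hk]
    exact hCf z k
  have hBnd : ∀ v, (∀ w, B v w = 0) → v = 0 := hQ.1
  have hBnd' : ∀ v, (∀ w, B' v w = 0) → v = 0 := fun v hv => e.map_eq_zero_iff.1 (hBnd _ fun w => by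
    have := hv (e.symm w)
    simpa [B'] using this)
  have hrest : ∀ C : LinearMap.BilinForm F V, (∀ x y, C (f x) (f y) = C x y) → (∀ v, (∀ w, C v w = 0) → v = 0) →
      ∀ v : I, (∀ w, C.restrict I v w = 0) → v = 0 := by
    intro C hCf hCnd v hv
    refine Subtype.ext (hCnd _ fun w => ?_)
    obtain ⟨k, hk, i, hi, rfl⟩ := hsplit w
    rw [map_add, horth C hCf k hk _ v.2, zero_add]
    exact hv ⟨i, hi⟩
  have hfI : ∀ x ∈ I, f x ∈ I := by
    rintro _ ⟨z, rfl⟩
    exact ⟨f z, by simp [t, map_sub]⟩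
  set fI : End F I := f.restrict hfI with hfIdef
  have hfix : ∀ x : I, fI x = x → x = 0 := fun x hx => by
    have : (x : V) ∈ K ⊓ I := ⟨(hK _).2 (congrArg Subtype.val hx), x.2⟩
    rw [hdisj, Submodule.mem_bot] at this
    exact Subtype.ext this
  have hfIN : fI ^ N = 1 := by
    rw [hfIdef, Module.End.pow_restrict N hfI]
    exact LinearMap.ext fun x => Subtype.ext (LinearMap.congr_fun hN x.1)
  obtain ⟨y, hy, hy_q'⟩ := exists_equiv_of_fpf (Q.comp I.subtype) (Q.comp ((e : V →ₗ[F] V) ∘ₗ I.subtype))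
    (fun v hv => hrest B hBf hBnd v fun w => by
      show polar Q (v : V) (w : V) = 0
      simpa [polar, QuadraticMap.comp_apply] using hv w)
    (fun v hv => hrest B' hBf' hBnd' v fun w => by
      show polar Q (e (v : V)) (e (w : V)) = 0
      simpa [polar, QuadraticMap.comp_apply] using hv w)
    fI (fun v => hf v) (fun v => hf' v) hodd hfIN hfix
  have hy_q : ∀ v : I, Q (y v : V) = Q (e v) := hy_q'
  let φ : (I.map (e : V →ₗ[F] V)) ≃ₗ[F] I := (e.submoduleMap I).symm.trans y
  have hφ : ∀ x : I.map (e : V →ₗ[F] V), Q (φ x : V) = Q (x : V) := fun x => by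
    show Q (y ((e.submoduleMap I).symm x) : V) = _
    rw [hy_q]
    exact congrArg Q (congrArg Subtype.val ((e.submoduleMap I).apply_symm_apply x))
  obtain ⟨g, hg, hgI⟩ := Witt.witt_quadratic Q hQ _ I φ hφ
  have hgI' : ∀ i : I, g (e (i : V)) = (y i : V) := fun i => by
    have := hgI (e.submoduleMap I i)
    rw [show (φ (e.submoduleMap I i)) = y i by simp [φ]] at this
    exact this
  have hgB : ∀ u v, polar Q (g (e u)) (g (e v)) = polar Q (e u) (e v) := fun u v => polar_map Q (g : V →ₗ[F] V) hg _ _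
  refine ⟨e.trans g, fun x => ?_, fun v => hg (e v)⟩
  obtain ⟨k, hk, i, hi, rfl⟩ := hsplit x
  simp only [LinearEquiv.trans_apply]
  have hki : f (g (e k)) = g (e k) := by
    obtain ⟨k', hk', i', hi', hw⟩ := hsplit (g (e k))
    have hzero : (⟨i', hi'⟩ : I) = 0 := hrest B hBf hBnd _ fun z => by
      obtain ⟨z', rfl⟩ := y.surjective z
      show B i' (y z' : V) = 0
      have e1 : B (g (e k)) (y z' : V) = 0 := by
        rw [← hgI']
        show polar Q _ _ = 0
        rw [hgB, polar_comm]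
        exact horth B' hBf' k hk _ z'.2
      have e2 : B k' (y z' : V) = 0 := by
        show polar Q _ _ = 0
        rw [polar_comm]
        exact horth B hBf k' hk' _ (y z').2
      rw [← hw, map_add, LinearMap.add_apply, e2, zero_add] at e1
      exact e1
    rw [← hw, show i' = 0 from congrArg Subtype.val hzero, add_zero, (hK k').1 hk']
  have hi2 : g (e (f i)) = f (g (e i)) := by
    rw [show f i = ((fI ⟨i, hi⟩ : I) : V) from rfl, hgI', hy, show g (e i) = (y ⟨i, hi⟩ : V) from hgI' ⟨i, hi⟩]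
    rfl
  simp only [map_add, (hK k).1 hk, hki, hi2]

variable {ι : Type} [Fintype ι] [DecidableEq ι] {p : ℕ} [hp : Fact p.Prime] [CharP F p]

theorem isConj_of_linear (Q : QuadraticForm F (ι → F)) (hQ : (polarBilin Q).Nondegenerate)
    (A B : ↥(Cfsg.isometryGroup F ⇑Q)) (hodd : Odd (orderOf A)) (hA : (orderOf A).Coprime p)
    (e : (ι → F) ≃ₗ[F] (ι → F))
    (he : ∀ x, e (((A : GL ι F) : Matrix ι ι F) *ᵥ x) = ((B : GL ι F) : Matrix ι ι F) *ᵥ e x) :
    IsConj A B := by
  set a := Matrix.toLin' ((A : GL ι F) : Matrix ι ι F)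
  have hpow : a ^ orderOf A = 1 := by
    rw [← Matrix.toLin'_pow, ← Units.val_pow_eq_pow_val, ← SubmonoidClass.coe_pow, pow_orderOf_eq_one]
    exact Matrix.toLin'_one
  obtain ⟨h, hh, hhQ⟩ := exists_centralizer_equiv Q hQ e a
    (fun v => RestrictScalars.isometry_mem.1 A.2 v)
    (fun v => by rw [show e (a v) = _ from he v]; exact RestrictScalars.isometry_mem.1 B.2 (e v))
    hodd hpow (fun h => hp.out.coprime_iff_not_dvd.mp hA.symm ((CharP.cast_eq_zero_iff F p _).mp h))
  set g : (ι → F) ≃ₗ[F] (ι → F) := h.symm.trans e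
  let c' : GL ι F := ⟨LinearMap.toMatrix' (g : (ι → F) →ₗ[F] (ι → F)),
    LinearMap.toMatrix' (g.symm : (ι → F) →ₗ[F] (ι → F)),
    by rw [← LinearMap.toMatrix'_comp]; simp, by rw [← LinearMap.toMatrix'_comp]; simp⟩
  have happ : ∀ x, (c' : Matrix ι ι F) *ᵥ x = g x := fun x => by
    show LinearMap.toMatrix' (g : (ι → F) →ₗ[F] (ι → F)) *ᵥ x = _
    rw [← Matrix.toLin'_apply, Matrix.toLin'_toMatrix']; rfl
  have hmem : c' ∈ Cfsg.isometryGroup F ⇑Q := RestrictScalars.isometry_mem.2 fun v => by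
    rw [happ]
    show Q (e (h.symm v)) = Q v
    rw [← hhQ, h.apply_symm_apply]
  refine isConj_iff.mpr ⟨⟨c', hmem⟩, mul_inv_eq_iff_eq_mul.mpr (Subtype.ext (Units.ext
    (Matrix.toLin'.injective (LinearMap.ext fun x => ?_))))⟩
  rw [Subgroup.coe_mul, Subgroup.coe_mul, Units.val_mul, Units.val_mul, Matrix.toLin'_mul, Matrix.toLin'_mul]
  simp only [LinearMap.comp_apply, Matrix.toLin'_apply]
  rw [happ, happ]
  show e (h.symm (a x)) = _ *ᵥ e (h.symm x)
  rw [show h.symm (a x) = a (h.symm x) from h.injective (by rw [h.apply_symm_apply, hh, h.apply_symm_apply])]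
  exact he _

theorem isConj_iff_matrix (Q : QuadraticForm F (ι → F)) (hQ : (polarBilin Q).Nondegenerate)
    (A B : ↥(Cfsg.isometryGroup F ⇑Q)) (hodd : Odd (orderOf A)) (hA : (orderOf A).Coprime p) :
    IsConj A B ↔ IsConj ((A : GL ι F) : Matrix ι ι F) ((B : GL ι F) : Matrix ι ι F) := by
  refine ⟨fun h => ((Units.coeHom _).comp (Cfsg.isometryGroup F ⇑Q).subtype).map_isConj h, ?_⟩
  rintro ⟨U, hU⟩
  let e : (ι → F) ≃ₗ[F] (ι → F) :=
    LinearEquiv.ofLinear (Matrix.toLin' (U : Matrix ι ι F)) (Matrix.toLin' ((U⁻¹ : GL ι F) : Matrix ι ι F))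
      (by rw [← Matrix.toLin'_mul, U.mul_inv, Matrix.toLin'_one])
      (by rw [← Matrix.toLin'_mul, U.inv_mul, Matrix.toLin'_one])
  refine isConj_of_linear (p := p) Q hQ A B hodd hA e fun x => ?_
  show Matrix.toLin' (U : Matrix ι ι F) _ = _ *ᵥ Matrix.toLin' (U : Matrix ι ι F) x
  rw [Matrix.toLin'_apply, Matrix.toLin'_apply, Matrix.mulVec_mulVec, Matrix.mulVec_mulVec, hU.eq]

end CfsgLib.Classical.OrthSemisimple
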