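import Cfsg.Agent.Lib.Classical.SemisimpleClasses

/-!
Classes of elements of prime order `r` of a central quotient, when the scalars contain the `r`-th roots of unity.
-/

set_option autoImplicit false
set_option linter.style.haveILetI false
set_option maxHeartbeats 800000

namespace CfsgLib.Classical.ProjPrimeOrder

open Matrix Polynomial UniqueFactorizationMonoid
open scoped MatrixGroups

theorem charpoly_smul {K : Type*} [Field K] {n : ℕ} (z : K) (hz : z ≠ 0) (A : Matrix (Fin n) (Fin n) K) :
    (z • A).charpoly = C (z ^ n) * A.charpoly.comp (C z⁻¹ * X) := by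
  set φ := Polynomial.compRingHom (C z⁻¹ * X : K[X])
  have h : charmatrix (z • A) = (C z) • (charmatrix A).map φ := by
    ext i j : 1
    rw [Matrix.smul_apply, Matrix.map_apply, charmatrix_apply, charmatrix_apply, smul_eq_mul, map_sub]
    by_cases hij : i = j
    · subst hij
      rw [Matrix.diagonal_apply_eq, Matrix.smul_apply, smul_eq_mul]
      simp only [φ, coe_compRingHom_apply, X_comp, C_comp, map_mul]
      rw [mul_sub, ← mul_assoc, show (C z : K[X]) * C z⁻¹ = 1 by rw [← C_mul, mul_inv_cancel₀ hz, C_1], one_mul]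
    · rw [Matrix.diagonal_apply_ne _ hij, Matrix.smul_apply, smul_eq_mul]
      simp only [φ, coe_compRingHom_apply, zero_comp, C_comp, map_mul]
      ring
  show (charmatrix (z • A)).det = _
  rw [h, Matrix.det_smul, Fintype.card_fin, ← RingHom.mapMatrix_apply, ← RingHom.map_det, ← C_pow]
  rfl

theorem prod_shift {K : Type*} [Field K] (z : K) (hz : z ≠ 0) (L : Multiset K) :
    C (z ^ Multiset.card L) * ((L.map fun a => X - C a).prod).comp (C z⁻¹ * X) =
      ((L.map fun a => z * a).map fun a => X - C a).prod := by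
  induction L using Multiset.induction with
  | empty => simp
  | cons a L ih =>
    simp only [Multiset.map_cons, Multiset.prod_cons, Multiset.card_cons, mul_comp, sub_comp, X_comp, C_comp]
    rw [← ih, pow_succ, C_mul, show (C (z * a) : K[X]) = C z * C a from C_mul,
      show (X : K[X]) - C z * C a = C z * (C z⁻¹ * X - C a) by
        rw [mul_sub, ← mul_assoc, show (C z : K[X]) * C z⁻¹ = 1 by rw [← C_mul, mul_inv_cancel₀ hz, C_1], one_mul]]
    ring

theorem eq_zero_of_factors {K : Type*} [Field K] [Fintype K] {p : ℕ} [Fact p.Prime] [CharP K p] {n : ℕ}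
    (g : GL (Fin n) K) (hg : (orderOf g).Coprime p) (R : K[X]) (hR : R ≠ 0)
    (h : ∀ P : K[X], Irreducible P → P ∣ (g : Matrix (Fin n) (Fin n) K).charpoly → P ∣ R) :
    aeval (g : Matrix (Fin n) (Fin n) K) R = 0 := by
  classical
  set A := (g : Matrix (Fin n) (Fin n) K)
  have hne : minpoly K A ≠ 0 := minpoly.ne_zero (IsIntegral.of_finite K A)
  have hsq : Squarefree (minpoly K A) := by
    have := (SemisimpleClasses.isSemisimple_toLin' g hg).minpoly_squarefree
    rwa [Matrix.minpoly_toLin'] at this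
  have hmin : minpoly K A ∣ R := by
    rw [dvd_iff_normalizedFactors_le_normalizedFactors hne hR,
      Multiset.le_iff_subset ((squarefree_iff_nodup_normalizedFactors hne).mp hsq)]
    intro P hP
    have hPi := irreducible_of_normalized_factor P hP
    refine (mem_normalizedFactors_iff' hR).mpr ⟨hPi, ((mem_normalizedFactors_iff' hne).mp hP).2.1, h P hPi ?_⟩
    exact (dvd_of_mem_normalizedFactors hP).trans (Matrix.minpoly_dvd_charpoly A)
  obtain ⟨c, hc⟩ := hmin
  rw [hc, map_mul, minpoly.aeval, zero_mul]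

theorem factors_dvd {K : Type*} [Field K] {n : ℕ} (g : GL (Fin n) K) (R : K[X])
    (h : aeval (g : Matrix (Fin n) (Fin n) K) R = 0) (P : K[X]) (hP : Irreducible P)
    (hd : P ∣ (g : Matrix (Fin n) (Fin n) K).charpoly) : P ∣ R := by
  haveI := Fact.mk hP
  exact SemisimpleClasses.dvd_of_dvd_charpoly _ hd h

theorem card_classes {K : Type*} [Field K] [Fintype K] {p : ℕ} [hp : Fact p.Prime] [CharP K p] {G : Type*}
    [Group G] [Finite G] {n r : ℕ} (hn : 2 ≤ n) (hr : r.Prime) (ι : G →* GL (Fin n) K) (hι : Function.Injective ι)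
    (U : Subgroup Kˣ) (hrU : r ∣ Nat.card U) (hroot : ∀ a : Kˣ, a ^ r ∈ U → a ∈ U)
    (hscal : ∀ u ∈ U, ∃ z : G, z ∈ Subgroup.center G ∧ ι z = Matrix.GeneralLinearGroup.scalar (Fin n) u)
    (hcenter : ∀ z ∈ Subgroup.center G, ∃ u ∈ U, ι z = Matrix.GeneralLinearGroup.scalar (Fin n) u)
    (hconj : ∀ g h : G, (orderOf (ι g)).Coprime p → (orderOf (ι h)).Coprime p →
      (ι g : Matrix (Fin n) (Fin n) K).charpoly = (ι h : Matrix (Fin n) (Fin n) K).charpoly → IsConj g h)
    (hex₁ : ∀ L : Multiset Kˣ, Multiset.card L = n → (∀ a ∈ L, a ∈ U) → ∃ g : G, (orderOf (ι g)).Coprime p ∧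
      (ι g : Matrix (Fin n) (Fin n) K).charpoly = (L.map fun a : Kˣ => X - C (a : K)).prod)
    (hex₂ : ∀ c ∈ U, ∀ m : ℕ, r * m = n → ∃ g : G, (orderOf (ι g)).Coprime p ∧
      (ι g : Matrix (Fin n) (Fin n) K).charpoly = (X ^ r - C (c : K)) ^ m) :
    Nat.card {C : ConjClasses (G ⧸ Subgroup.center G) //
      ∃ g : G ⧸ Subgroup.center G, ConjClasses.mk g = C ∧ orderOf g = r} =
      (Nat.choose (n + r - 1) (r - 1) - r - (if r ∣ n then 1 else 0)) / r + r * (if r ∣ n then 1 else 0) := by
  classical
  haveI := Fact.mk hr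
  set Mr := (powMonoidHom r : Kˣ →* Kˣ).ker
  have hMU : ∀ a : Mr, (a : Kˣ) ∈ U := fun a => hroot _ (by
    have h : (a : Kˣ) ^ r = 1 := a.2
    rw [h]; exact U.one_mem)
  have hMr : Nat.card Mr = r := by
    rw [IsCyclic.card_powMonoidHom_ker, Nat.gcd_eq_right (hrU.trans (Subgroup.card_subgroup_dvd_card U))]
  have hrp : r ≠ p := by
    intro h
    subst h
    obtain ⟨k, -, hk⟩ := FiniteField.card K r
    have h1 : r ∣ Fintype.card K - 1 := by
      rw [← Fintype.card_units, ← Nat.card_eq_fintype_card]
      exact hrU.trans (Subgroup.card_subgroup_dvd_card U)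
    have h2 : r ∣ Fintype.card K := hk ▸ dvd_pow_self r k.ne_zero
    have h3 := Nat.dvd_sub h2 h1
    rw [Nat.sub_sub_self Fintype.card_pos] at h3
    exact hr.not_dvd_one h3
  have hcop : ∀ (g : G) (u : Kˣ), ι g ^ r = Matrix.GeneralLinearGroup.scalar (Fin n) u → (orderOf (ι g)).Coprime p := by
    intro g u h
    obtain ⟨k, -, hk⟩ := FiniteField.card K p
    refine Nat.Coprime.coprime_dvd_left (orderOf_dvd_of_pow_eq_one
      (show ι g ^ (r * orderOf u) = 1 by rw [pow_mul, h, ← map_pow, pow_orderOf_eq_one, map_one])) ?_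
    refine Nat.Coprime.mul_left ((Nat.coprime_primes hr hp.out).mpr hrp) ?_
    refine Nat.Coprime.coprime_dvd_left (orderOf_dvd_natCard u) (Nat.Coprime.symm ?_)
    rw [Nat.card_eq_fintype_card, Fintype.card_units, hp.out.coprime_iff_not_dvd, hk]
    intro hd
    have h2 : p ∣ p ^ (k : ℕ) := dvd_pow_self p k.ne_zero
    have h3 := Nat.dvd_sub h2 hd
    rw [Nat.sub_sub_self (Nat.one_le_pow _ _ hp.out.pos)] at h3
    exact hp.out.not_dvd_one h3
  choose zc hzcC hzc using hscal
  have hcomm : ∀ (v : Kˣ) (x : GL (Fin n) K), Commute (Matrix.GeneralLinearGroup.scalar (Fin n) v) x := fun v x => by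
    have hm : Matrix.GeneralLinearGroup.scalar (Fin n) v ∈ Subgroup.center (GL (Fin n) K) := by
      rw [Matrix.GeneralLinearGroup.center_eq_range_scalar]; exact ⟨v, rfl⟩
    exact (Subgroup.mem_center_iff.mp hm x).symm
  have hscalval : ∀ (u : Kˣ) (A : GL (Fin n) K), ((Matrix.GeneralLinearGroup.scalar (Fin n) u * A : GL (Fin n) K) :
      Matrix (Fin n) (Fin n) K) = (u : K) • (A : Matrix (Fin n) (Fin n) K) := fun u A => by
    rw [Units.val_mul]
    show Matrix.scalar (Fin n) (u : K) * _ = _
    rw [Matrix.scalar_apply, ← Matrix.smul_one_eq_diagonal, smul_mul_assoc, one_mul]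
  have hscalinj : ∀ u v : Kˣ, Matrix.GeneralLinearGroup.scalar (Fin n) u = Matrix.GeneralLinearGroup.scalar (Fin n) v →
      u = v := fun u v h => by
    have h1 := congrArg (fun A : GL (Fin n) K => (A : Matrix (Fin n) (Fin n) K) ⟨0, by omega⟩ ⟨0, by omega⟩) h
    refine Units.ext ?_
    change Matrix.scalar (Fin n) (u : K) _ _ = Matrix.scalar (Fin n) (v : K) _ _ at h1
    simpa using h1
  let π : G →* G ⧸ Subgroup.center G := QuotientGroup.mk' _
  have hπz : ∀ u hu, π (zc u hu) = 1 := fun u hu => (QuotientGroup.eq_one_iff _).mpr (hzcC u hu)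
  let pr : G → ConjClasses (G ⧸ Subgroup.center G) := fun g => ConjClasses.mk (π g)
  have hprc : ∀ g h : G, IsConj g h → pr g = pr h := fun g h hgh =>
    ConjClasses.mk_eq_mk_iff_isConj.mpr (π.map_isConj hgh)
  have hprz : ∀ u hu g, pr (zc u hu * g) = pr g := fun u hu g => by
    simp only [pr, map_mul, hπz, one_mul]
  have hpreq : ∀ g h : G, pr g = pr h → ∃ u ∈ U, ∃ c : GL (Fin n) K, c * ι g * c⁻¹ = Matrix.GeneralLinearGroup.scalar (Fin n) u * ι h := by
    intro g h e
    obtain ⟨c, hc⟩ := isConj_iff.mp (ConjClasses.mk_eq_mk_iff_isConj.mp e)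
    obtain ⟨c, rfl⟩ := QuotientGroup.mk'_surjective _ c
    have hz : c * g * c⁻¹ * h⁻¹ ∈ Subgroup.center G := by
      rw [← QuotientGroup.eq_one_iff]
      show π _ = 1
      rw [map_mul, map_mul, map_mul, map_inv, map_inv, show π c * π g * (π c)⁻¹ = π h from hc, mul_inv_cancel]
    obtain ⟨u, hu, hzu⟩ := hcenter _ hz
    refine ⟨u, hu, ι c, ?_⟩
    rw [map_mul, map_mul, map_mul, map_inv, map_inv] at hzu
    rw [← hzu]; group
  -- charpolys of the lifts
  have hshift : ∀ (u : Kˣ) (g : GL (Fin n) K) (L : Multiset Kˣ), Multiset.card L = n →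
      (g : Matrix (Fin n) (Fin n) K).charpoly = (L.map fun a : Kˣ => X - C (a : K)).prod →
      ((Matrix.GeneralLinearGroup.scalar (Fin n) u * g : GL (Fin n) K) : Matrix (Fin n) (Fin n) K).charpoly =
        ((L.map fun a => u * a).map fun a : Kˣ => X - C (a : K)).prod := by
    intro u g L hL h
    rw [hscalval, charpoly_smul _ u.ne_zero, h]
    have e := prod_shift (u : K) u.ne_zero (L.map Units.val)
    rw [Multiset.card_map, hL, Multiset.map_map, Multiset.map_map, Multiset.map_map] at e
    rw [Multiset.map_map]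
    exact e
  have hroots : ∀ L L' : Multiset Kˣ, (L.map fun a : Kˣ => X - C (a : K)).prod = (L'.map fun a : Kˣ => X - C (a : K)).prod →
      L = L' := fun L L' h => by
    have e : ∀ M : Multiset Kˣ, ((M.map fun a : Kˣ => X - C (a : K)).prod).roots = M.map Units.val := fun M => by
      rw [show (M.map fun a : Kˣ => X - C (a : K)) = (M.map Units.val).map fun a => X - C a by rw [Multiset.map_map]; rfl]
      exact roots_multiset_prod_X_sub_C _
    exact Multiset.map_injective Units.val_injective (by rw [← e, ← e, h])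
  -- the shift action
  letI : MulAction Mr (Sym Mr n) :=
    { smul := fun z s => s.map (fun a => z * a)
      one_smul := fun s => by
        show s.map (fun a => (1 : Mr) * a) = s
        simp
      mul_smul := fun z w s => by
        show s.map (fun a => z * w * a) = (s.map fun a => w * a).map fun a => z * a
        rw [Sym.map_map]
        exact congrArg (fun f => s.map f) (funext fun a => mul_assoc z w a) }
  have hsmul : ∀ (z : Mr) (s : Sym Mr n), (z • s).1 = s.1.map (fun a => z * a) := fun z s => rfl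
  let Ls : Sym Mr n → Multiset Kˣ := fun s => s.1.map Subtype.val
  have hLs : ∀ s, Multiset.card (Ls s) = n ∧ ∀ a ∈ Ls s, a ∈ U := fun s => by
    refine ⟨by rw [Multiset.card_map]; exact s.2, fun a ha => ?_⟩
    obtain ⟨b, -, rfl⟩ := Multiset.mem_map.mp ha
    exact hMU b
  choose g₁ hg₁c hg₁ using fun s : Sym Mr n => hex₁ (Ls s) (hLs s).1 (hLs s).2
  have hg₁r : ∀ s, ι (g₁ s) ^ r = 1 := fun s => by
    have h0 := eq_zero_of_factors (p := p) (ι (g₁ s)) (hg₁c s) (X ^ r - 1) (by
      rw [← map_one C]; exact X_pow_sub_C_ne_zero hr.pos 1) fun P hP hd => by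
      rw [hg₁] at hd
      obtain ⟨Q, hQ, hPQ⟩ := hP.prime.exists_mem_multiset_dvd hd
      obtain ⟨a, ha, rfl⟩ := Multiset.mem_map.mp hQ
      refine hPQ.trans (dvd_iff_isRoot.mpr ?_)
      obtain ⟨b, -, rfl⟩ := Multiset.mem_map.mp ha
      have hb : (b : Kˣ) ^ r = 1 := b.2
      simp [IsRoot, ← Units.val_pow_eq_pow_val, hb]
    rw [map_sub, map_pow, aeval_X, map_one, sub_eq_zero] at h0
    exact Units.ext (by rw [Units.val_pow_eq_pow_val]; exact h0)
  let Ω := MulAction.orbitRel.Quotient Mr (Sym Mr n)
  let ψ₁ : Ω → ConjClasses (G ⧸ Subgroup.center G) := Quotient.lift (fun s => pr (g₁ s)) fun s s' h => by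
    obtain ⟨z, rfl⟩ := MulAction.orbitRel_apply.mp h
    refine (hprc (g₁ (z • s')) (zc _ (hMU z) * g₁ s') (hconj _ _ (hg₁c _) ?_ ?_)).trans (hprz _ _ _)
    · exact hcop _ ((z : Kˣ) ^ r) (by rw [map_mul, hzc, (hcomm _ _).mul_pow, hg₁r, mul_one, map_pow])
    · rw [hg₁, map_mul, hzc, hshift (z : Kˣ) _ _ (hLs s').1 (hg₁ s')]
      simp only [Ls, hsmul, Multiset.map_map]
      rfl
  let E := {e : U ⧸ (powMonoidHom r : U →* U).range // e ≠ 1 ∧ r ∣ n}
  choose g₂ hg₂c hg₂ using fun e : E => hex₂ (e.1.out : U).1 (e.1.out : U).2 (n / r) (Nat.mul_div_cancel' e.2.2)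
  have hnot : ∀ (c : U), (c : U ⧸ (powMonoidHom r : U →* U).range) ≠ 1 → ∀ b : K, b ^ r ≠ ((c : Kˣ) : K) := by
    intro c hc b hb
    have hb0 : b ≠ 0 := fun h => by
      rw [h, zero_pow hr.ne_zero] at hb
      exact (c : Kˣ).ne_zero hb.symm
    have hbu : (Units.mk0 b hb0) ^ r = (c : Kˣ) := Units.ext (by rw [Units.val_pow_eq_pow_val]; exact hb)
    exact hc ((QuotientGroup.eq_one_iff _).mpr ⟨⟨_, hroot _ (hbu ▸ c.2)⟩, Subtype.ext hbu⟩)
  have hg₂r : ∀ e : E, ι (g₂ e) ^ r = Matrix.GeneralLinearGroup.scalar (Fin n) ((e.1.out : U) : Kˣ) := fun e => by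
    have h0 := eq_zero_of_factors (p := p) (ι (g₂ e)) (hg₂c e) (X ^ r - C (((e.1.out : U) : Kˣ) : K))
      (X_pow_sub_C_ne_zero hr.pos _) fun P hP hd => by
      rw [hg₂] at hd
      exact hP.prime.dvd_of_dvd_pow hd
    rw [map_sub, map_pow, aeval_X, aeval_C, sub_eq_zero] at h0
    refine Units.ext ?_
    rw [Units.val_pow_eq_pow_val, h0]
    show _ = Matrix.scalar (Fin n) _
    rw [Matrix.scalar_apply, Algebra.algebraMap_eq_smul_one, Matrix.smul_one_eq_diagonal]
  let S := {C : ConjClasses (G ⧸ Subgroup.center G) | ∃ x, ConjClasses.mk x = C ∧ x ^ r = 1}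
  have hpow_rel : ∀ (g h : G) (u : Kˣ) (c : GL (Fin n) K) (a b : Kˣ),
      c * ι g * c⁻¹ = Matrix.GeneralLinearGroup.scalar (Fin n) u * ι h →
      ι g ^ r = Matrix.GeneralLinearGroup.scalar (Fin n) a → ι h ^ r = Matrix.GeneralLinearGroup.scalar (Fin n) b →
      a = u ^ r * b := by
    intro g h u c a b e ha hb
    have hc := hcomm
    have h1 := congrArg (· ^ r) e
    simp only [conj_pow, (hc u (ι h)).mul_pow, ha, hb] at h1
    rw [← (hc a c).eq, mul_inv_cancel_right, ← map_pow, ← map_mul] at h1
    exact hscalinj _ _ h1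
  let Ψ : Ω ⊕ E → S := Sum.elim
    (fun o => ⟨ψ₁ o, by
      induction o using Quotient.inductionOn with
      | h s => exact ⟨π (g₁ s), rfl, by rw [← map_pow, hι (show ι (g₁ s ^ r) = ι 1 by rw [map_pow, hg₁r, map_one]), map_one]⟩⟩)
    (fun e => ⟨pr (g₂ e), π (g₂ e), rfl, by
      rw [← map_pow, show g₂ e ^ r = zc _ (e.1.out : U).2 from hι (by rw [map_pow, hg₂r, hzc]), hπz]⟩)
  have hΨ : Function.Bijective Ψ := by
    constructor
    · rintro (o | e) (o' | e') h
      · induction o using Quotient.inductionOn with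
        | h s =>
        induction o' using Quotient.inductionOn with
        | h s' =>
        obtain ⟨u, hu, c, hc⟩ := hpreq _ _ (congrArg Subtype.val h : pr (g₁ s) = pr (g₁ s'))
        have hur := hpow_rel _ _ u c 1 1 hc (by rw [map_one, hg₁r]) (by rw [map_one, hg₁r])
        rw [mul_one] at hur
        congr 1
        refine Quotient.sound (MulAction.orbitRel_apply.mpr ⟨⟨u, hur.symm⟩, ?_⟩)
        have hch := congrArg (fun A : GL (Fin n) K => (A : Matrix (Fin n) (Fin n) K).charpoly) hc
        simp only [Units.val_mul (a := c * ι (g₁ s)), Units.val_mul (a := c), Matrix.coe_units_inv,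
          Matrix.charpoly_units_conj] at hch
        rw [hshift u _ _ (hLs s').1 (hg₁ s'), hg₁] at hch
        have hL := hroots _ _ hch
        simp only [Ls, Multiset.map_map] at hL
        refine Subtype.ext (Multiset.map_injective Subtype.val_injective ?_)
        simp only [hsmul, Multiset.map_map]
        exact hL.symm
      · exfalso
        induction o using Quotient.inductionOn with
        | h s =>
        obtain ⟨u, hu, c, hc⟩ := hpreq _ _ (congrArg Subtype.val h : pr (g₁ s) = pr (g₂ e'))
        have hur := hpow_rel _ _ u c 1 _ hc (by rw [map_one, hg₁r]) (hg₂r e')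
        refine e'.2.1 ?_
        rw [← QuotientGroup.out_eq' e'.1, QuotientGroup.eq_one_iff]
        exact ⟨⟨u⁻¹, U.inv_mem hu⟩, Subtype.ext (by
          show u⁻¹ ^ r = _
          rw [inv_pow, eq_comm]
          exact eq_inv_of_mul_eq_one_right hur.symm)⟩
      · exfalso
        induction o' using Quotient.inductionOn with
        | h s =>
        obtain ⟨u, hu, c, hc⟩ := hpreq _ _ (congrArg Subtype.val h : pr (g₂ e) = pr (g₁ s))
        have hur := hpow_rel _ _ u c _ 1 hc (hg₂r e) (by rw [map_one, hg₁r])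
        rw [mul_one] at hur
        refine e.2.1 ?_
        rw [← QuotientGroup.out_eq' e.1, QuotientGroup.eq_one_iff]
        exact ⟨⟨u, hu⟩, Subtype.ext hur.symm⟩
      · obtain ⟨u, hu, c, hc⟩ := hpreq _ _ (congrArg Subtype.val h : pr (g₂ e) = pr (g₂ e'))
        have hur := hpow_rel _ _ u c _ _ hc (hg₂r e) (hg₂r e')
        congr 1
        apply Subtype.ext
        rw [← QuotientGroup.out_eq' e.1, ← QuotientGroup.out_eq' e'.1, QuotientGroup.eq]
        refine ⟨⟨u⁻¹, U.inv_mem hu⟩, Subtype.ext ?_⟩
        show u⁻¹ ^ r = ((e.1.out : U) : Kˣ)⁻¹ * ((e'.1.out : U) : Kˣ)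
        rw [hur, inv_pow, _root_.mul_inv_rev, mul_comm ((e'.1.out : U) : Kˣ)⁻¹, mul_assoc, inv_mul_cancel, mul_one]
    · rintro ⟨C₀, x, rfl, hx⟩
      obtain ⟨g, rfl⟩ := QuotientGroup.mk'_surjective _ x
      rw [← map_pow] at hx
      obtain ⟨a, ha, hga⟩ := hcenter _ ((QuotientGroup.eq_one_iff _).mp hx)
      rw [map_pow] at hga
      set e : U ⧸ (powMonoidHom r : U →* U).range := QuotientGroup.mk (⟨a, ha⟩ : U)
      by_cases he : e = 1
      · obtain ⟨b, hb⟩ := (QuotientGroup.eq_one_iff _).mp he
        have hb' : (b : Kˣ) ^ r = a := congrArg Subtype.val hb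
        set g' := zc _ (U.inv_mem b.2) * g
        have hcs : Commute (ι (zc _ (U.inv_mem b.2))) (ι g) :=
          (show Commute (zc _ (U.inv_mem b.2)) g from (Subgroup.mem_center_iff.mp (hzcC _ _) g).symm).map ι
        have hg' : ι g' ^ r = 1 := by
          rw [map_mul, hcs.mul_pow, hzc, hga, ← map_pow, ← map_mul, inv_pow, hb', inv_mul_cancel, map_one]
        set f := (ι g' : Matrix (Fin n) (Fin n) K).charpoly with hf
        have hfm : f.Monic := Matrix.charpoly_monic _
        have hlin : ∀ P ∈ normalizedFactors f, ∃ z : Mr, P = X - C ((z : Kˣ) : K) := by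
          intro P hP
          have hPi := irreducible_of_normalized_factor P hP
          have hd := factors_dvd (ι g') (X ^ r - 1) (by
            rw [map_sub, map_pow, aeval_X, map_one, ← Units.val_pow_eq_pow_val, hg', Units.val_one, sub_self])
            P hPi (dvd_of_mem_normalizedFactors hP)
          haveI : Fintype Mr := Fintype.ofFinite _
          have hsplit : (X ^ r - 1 : K[X]) = ((Finset.univ : Finset Mr).val.map fun z : Mr => X - C ((z : Kˣ) : K)).prod := by
            have hm : (X ^ r - 1 : K[X]).Monic := by simpa using monic_X_pow_sub_C (1 : K) hr.ne_zero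
            set M := (Finset.univ : Finset Mr).val.map fun z : Mr => ((z : Kˣ) : K) with hM
            have hMn : M.Nodup := (Finset.univ : Finset Mr).nodup.map fun x y h => Subtype.ext (Units.ext h)
            have hle : M ≤ (X ^ r - 1 : K[X]).roots := (Multiset.le_iff_subset hMn).mpr fun x hx => by
              obtain ⟨z, -, rfl⟩ := Multiset.mem_map.mp hx
              rw [mem_roots hm.ne_zero]
              have hz : (z : Kˣ) ^ r = 1 := z.2
              simp [IsRoot, ← Units.val_pow_eq_pow_val, hz]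
            have hd : (M.map fun x => X - C x).prod ∣ (X ^ r - 1 : K[X]) :=
              (Multiset.prod_dvd_prod_of_le (Multiset.map_le_map hle)).trans (prod_multiset_X_sub_C_dvd _)
            have hdeg : (M.map fun x => X - C x).prod.natDegree = r := by
              rw [natDegree_multiset_prod_X_sub_C_eq_card, hM, Multiset.card_map]
              show Fintype.card Mr = r
              rw [← Nat.card_eq_fintype_card, hMr]
            have := eq_of_monic_of_dvd_of_natDegree_le
              (monic_multiset_prod_of_monic _ _ fun x _ => monic_X_sub_C x) hm hd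
              (by rw [hdeg, ← map_one C, natDegree_X_pow_sub_C])
            rw [hM, Multiset.map_map] at this
            exact this
          rw [hsplit] at hd
          obtain ⟨Q, hQ, hPQ⟩ := hPi.prime.exists_mem_multiset_dvd hd
          obtain ⟨z, -, rfl⟩ := Multiset.mem_map.mp hQ
          exact ⟨z, eq_of_monic_of_associated
            (((mem_normalizedFactors_iff' hfm.ne_zero).mp hP).2.1 ▸ monic_normalize hPi.ne_zero) (monic_X_sub_C _)
            (hPi.associated_of_dvd (irreducible_X_sub_C _) hPQ)⟩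
        choose root hroot' using hlin
        set R : Multiset Mr := (normalizedFactors f).attach.map (fun P => root P.1 P.2) with hRdef
        have hR : f = ((R.map Subtype.val).map fun a : Kˣ => X - C (a : K)).prod := by
          conv_lhs => rw [← hfm.normalize_eq_self, ← prod_normalizedFactors_eq hfm.ne_zero,
            ← Multiset.attach_map_val (normalizedFactors f)]
          rw [hRdef, Multiset.map_map, Multiset.map_map]
          exact congrArg Multiset.prod (Multiset.map_congr rfl fun P _ => hroot' P.1 P.2)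
        have hRc : Multiset.card R = n := by
          have h2 := congrArg natDegree hR
          rw [Matrix.charpoly_natDegree_eq_dim, Fintype.card_fin,
            show ((R.map Subtype.val).map fun a : Kˣ => X - C (a : K)) =
              ((R.map Subtype.val).map Units.val).map fun a => X - C a by simp only [Multiset.map_map]; rfl,
            natDegree_multiset_prod_X_sub_C_eq_card, Multiset.card_map, Multiset.card_map] at h2
          exact h2.symm
        refine ⟨Sum.inl (Quotient.mk _ ⟨R, hRc⟩), Subtype.ext ?_⟩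
        show pr (g₁ ⟨R, hRc⟩) = pr g
        rw [← hprz _ (U.inv_mem b.2) g]
        exact hprc _ _ (hconj _ _ (hg₁c _) (hcop g' 1 (by rw [hg', map_one])) ((hg₁ _).trans hR.symm))
      · have hout := QuotientGroup.out_eq' e
        obtain ⟨b, hb⟩ := QuotientGroup.eq.mp (show (QuotientGroup.mk (⟨a, ha⟩ : U) : U ⧸ (powMonoidHom r : U →* U).range) = QuotientGroup.mk e.out from hout.symm)
        have hb' : (b : Kˣ) ^ r = a⁻¹ * ((e.out : U) : Kˣ) := congrArg Subtype.val hb
        set g' := zc _ b.2 * g
        have hcs : Commute (ι (zc _ b.2)) (ι g) :=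
          (show Commute (zc _ b.2) g from (Subgroup.mem_center_iff.mp (hzcC _ _) g).symm).map ι
        have hg' : ι g' ^ r = Matrix.GeneralLinearGroup.scalar (Fin n) ((e.out : U) : Kˣ) := by
          rw [map_mul, hcs.mul_pow, hzc, hga, ← map_pow, ← map_mul, hb', mul_comm a⁻¹, inv_mul_cancel_right]
        set f := (ι g' : Matrix (Fin n) (Fin n) K).charpoly with hf
        have hfm : f.Monic := Matrix.charpoly_monic _
        have hnb := hnot e.out (by rw [hout]; exact he)
        have hP := X_pow_sub_C_irreducible_of_prime hr hnb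
        have hPm := monic_X_pow_sub_C (((e.out : U) : Kˣ) : K) hr.ne_zero
        have hall : ∀ P ∈ normalizedFactors f, P = X ^ r - C (((e.out : U) : Kˣ) : K) := by
          intro P hP'
          have hPi := irreducible_of_normalized_factor P hP'
          have hd := factors_dvd (ι g') (X ^ r - C (((e.out : U) : Kˣ) : K)) (by
            rw [map_sub, map_pow, aeval_X, aeval_C, ← Units.val_pow_eq_pow_val, hg', sub_eq_zero]
            show Matrix.scalar (Fin n) _ = _
            rw [Matrix.scalar_apply, Algebra.algebraMap_eq_smul_one, Matrix.smul_one_eq_diagonal])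
            P hPi (dvd_of_mem_normalizedFactors hP')
          exact eq_of_monic_of_associated
            (((mem_normalizedFactors_iff' hfm.ne_zero).mp hP').2.1 ▸ monic_normalize hPi.ne_zero) hPm
            (hPi.associated_of_dvd hP hd)
        set k := Multiset.card (normalizedFactors f)
        have hfk : f = (X ^ r - C (((e.out : U) : Kˣ) : K)) ^ k := by
          conv_lhs => rw [← hfm.normalize_eq_self, ← prod_normalizedFactors_eq hfm.ne_zero,
            Multiset.eq_replicate_card.mpr hall, Multiset.prod_replicate]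
        have hk : r * k = n := by
          have h2 := congrArg natDegree hfk
          rw [Matrix.charpoly_natDegree_eq_dim, Fintype.card_fin, natDegree_pow, natDegree_X_pow_sub_C, mul_comm] at h2
          exact h2.symm
        refine ⟨Sum.inr ⟨e, he, ⟨k, hk.symm⟩⟩, Subtype.ext ?_⟩
        show pr (g₂ ⟨e, he, ⟨k, hk.symm⟩⟩) = pr g
        rw [← hprz _ b.2 g]
        refine hprc _ _ (hconj _ _ (hg₂c _) (hcop g' _ hg') ?_)
        have hnk : n / r = k := by rw [← hk, Nat.mul_div_cancel_left _ hr.pos]
        rw [hg₂, ← hf, hfk, hnk]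
  have hS := Nat.card_congr (Equiv.ofBijective Ψ hΨ)
  haveI : Fintype Mr := Fintype.ofFinite _
  rw [Nat.card_sum] at hS
  -- orbits
  set δ := if r ∣ n then 1 else 0 with hδ
  have hfix : ∀ z : Mr, z ≠ 1 → Fintype.card (MulAction.fixedBy (Sym Mr n) z) = δ := by
    intro z hz
    have hgen : Subgroup.zpowers z = ⊤ := zpowers_eq_top_of_prime_card hMr hz
    have hconst : ∀ s : Sym Mr n, z • s = s → ∀ a, (s : Multiset Mr).count a = (s : Multiset Mr).count 1 := by
      intro s hs a
      obtain ⟨k, rfl⟩ : ∃ k : ℕ, z ^ k = a := by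
        have : a ∈ Subgroup.zpowers z := hgen ▸ Subgroup.mem_top a
        exact (Submonoid.mem_powers_iff _ _).mp (mem_powers_iff_mem_zpowers.mpr this)
      induction k with
      | zero => rw [pow_zero]
      | succ k ih =>
        rw [← ih, pow_succ']
        conv_lhs => rw [← hs]
        show Multiset.count (z * z ^ k) (s.1.map fun a => z * a) = _
        rw [Multiset.count_map_eq_count' _ _ (mul_right_injective z)]
        rfl
    have hn' : ∀ s : Sym Mr n, z • s = s → n = r * (s : Multiset Mr).count 1 := fun s hs => by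
      have h := Multiset.sum_count_eq_card (s := (Finset.univ : Finset Mr)) (m := (s : Multiset Mr)) fun a _ => Finset.mem_univ a
      rw [Finset.sum_congr rfl fun a _ => hconst s hs a, Finset.sum_const, Finset.card_univ, smul_eq_mul,
        ← Nat.card_eq_fintype_card, hMr] at h
      rw [h]; exact s.2.symm
    by_cases hd : r ∣ n
    · rw [hδ, if_pos hd, Fintype.card_eq_one_iff]
      let u : Sym Mr n := ⟨(n / r) • (Finset.univ : Finset Mr).val, by
        rw [Multiset.card_nsmul]
        show n / r * Fintype.card Mr = n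
        rw [← Nat.card_eq_fintype_card, hMr, Nat.div_mul_cancel hd]⟩
      have hu : z • u = u := Subtype.ext (by
        rw [hsmul]
        show ((n / r) • (Finset.univ : Finset Mr).val).map _ = _
        rw [Multiset.map_nsmul]
        congr 1
        exact congrArg Finset.val (Finset.map_univ_equiv (Equiv.mulLeft z)))
      refine ⟨⟨u, hu⟩, fun ⟨s, hs⟩ => Subtype.ext (Subtype.ext (Multiset.ext.mpr fun a => ?_))⟩
      show (s : Multiset Mr).count a = ((n / r) • (Finset.univ : Finset Mr).val).count a
      rw [Multiset.count_nsmul, Multiset.count_eq_one_of_mem (Finset.univ : Finset Mr).nodup (Finset.mem_univ a),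
        mul_one, hconst s hs a, Nat.div_eq_of_eq_mul_right hr.pos (hn' s hs)]
    · rw [hδ, if_neg hd, Fintype.card_eq_zero_iff]
      exact ⟨fun ⟨s, hs⟩ => hd ⟨_, hn' s hs⟩⟩
  haveI : Fintype Ω := Fintype.ofFinite _
  set Ch := Nat.choose (n + r - 1) (r - 1) with hCh
  have hB : Ch + (r - 1) * δ = Fintype.card Ω * r := by
    have h := MulAction.sum_card_fixedBy_eq_card_orbits_mul_card_group Mr (Sym Mr n)
    rw [← Finset.sum_erase_add _ _ (Finset.mem_univ (1 : Mr)),
      Finset.sum_congr rfl fun z hz => hfix z (Finset.ne_of_mem_erase hz), Finset.sum_const, smul_eq_mul,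
      Finset.card_erase_of_mem (Finset.mem_univ _), Finset.card_univ, ← Nat.card_eq_fintype_card (α := Mr), hMr] at h
    have h1 : Fintype.card (MulAction.fixedBy (Sym Mr n) (1 : Mr)) = Ch := by
      rw [Fintype.card_congr ((Equiv.setCongr (MulAction.fixedBy_one_eq_univ (Sym Mr n) Mr)).trans (Equiv.Set.univ _)),
        Sym.card_sym_eq_choose, ← Nat.card_eq_fintype_card, hMr, hCh, show r + n - 1 = n + (r - 1) by have := hr.pos; omega,
        show n + r - 1 = n + (r - 1) by have := hr.pos; omega, Nat.choose_symm_add]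
    rw [h1, add_comm] at h
    exact h
  have hCE : Nat.card E = δ * (r - 1) := by
    by_cases hd : r ∣ n
    · rw [hδ, if_pos hd, one_mul, Nat.card_congr (Equiv.subtypeEquivRight fun e => and_iff_left hd)]
      have hidx : Nat.card (U ⧸ (powMonoidHom r : U →* U).range) = r := by
        rw [← Subgroup.index_eq_card, IsCyclic.index_powMonoidHom_range, Nat.gcd_eq_right hrU]
      haveI : Fintype (U ⧸ (powMonoidHom r : U →* U).range) := Fintype.ofFinite _
      rw [Nat.card_eq_fintype_card, Fintype.card_subtype_compl, Fintype.card_subtype_eq,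
        ← Nat.card_eq_fintype_card, hidx]
    · rw [hδ, if_neg hd, zero_mul]
      haveI : IsEmpty E := ⟨fun e => hd e.2.2⟩
      exact Nat.card_of_isEmpty
  have h1S : ConjClasses.mk 1 ∈ S := ⟨1, rfl, one_pow r⟩
  have e : {C : ConjClasses (G ⧸ Subgroup.center G) |
      ∃ g : G ⧸ Subgroup.center G, ConjClasses.mk g = C ∧ orderOf g = r} = S \ {ConjClasses.mk 1} := by
    ext C
    constructor
    · rintro ⟨g, rfl, hg⟩
      refine ⟨⟨g, rfl, hg ▸ pow_orderOf_eq_one g⟩, fun h => ?_⟩
      have h' := ConjClasses.mk_eq_mk_iff_isConj.mp (Set.mem_singleton_iff.mp h)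
      rw [isConj_one_right.mp h'.symm, orderOf_one] at hg
      exact hr.ne_one hg.symm
    · rintro ⟨⟨g, rfl, hg⟩, hne⟩
      exact ⟨g, rfl, orderOf_eq_prime hg fun h => hne (by rw [h]; rfl)⟩
  have h := congrArg Set.ncard e
  rw [Set.ncard_sdiff_singleton_of_mem h1S, ← Nat.card_coe_set_eq, ← Nat.card_coe_set_eq, ← hS, hCE,
    Nat.card_eq_fintype_card (α := Ω)] at h
  refine h.trans ?_
  have hCge : r + δ ≤ Ch := by
    rcases (show r = 2 ∨ 3 ≤ r by have := hr.two_le; omega) with h2 | h3
    · rw [hCh, h2, show n + 2 - 1 = n + 1 by omega, show (2 : ℕ) - 1 = 1 from rfl, Nat.choose_one_right]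
      have : δ ≤ 1 := by rw [hδ]; split_ifs <;> omega
      omega
    · have h4 : (r + 1).choose (r - 1) ≤ Ch := Nat.choose_le_choose _ (by omega)
      rw [show r + 1 = 2 + (r - 1) by omega, ← Nat.choose_symm_add, Nat.choose_two_right] at h4
      have : δ ≤ 1 := by rw [hδ]; split_ifs <;> omega
      have h5 : 2 * r + 2 ≤ (2 + (r - 1)) * (2 + (r - 1) - 1) := by
        obtain ⟨r', rfl⟩ : ∃ r', r = r' + 3 := ⟨r - 3, by omega⟩
        rw [show 2 + (r' + 3 - 1) = r' + 4 by omega, show r' + 4 - 1 = r' + 3 by omega]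
        ring_nf; omega
      have h6 := (Nat.le_div_iff_mul_le two_pos).mpr (show (r + 1) * 2 ≤ (2 + (r - 1)) * (2 + (r - 1) - 1) by omega)
      omega
  have hsmall : δ ≤ 1 := by rw [hδ]; split_ifs <;> omega
  obtain ⟨r', rfl⟩ : ∃ r', r = r' + 1 := ⟨r - 1, by have := hr.pos; omega⟩
  rw [Nat.add_sub_cancel] at hB ⊢
  rcases Nat.le_one_iff_eq_zero_or_eq_one.mp hsmall with h0 | h0 <;> rw [h0] at hB hCge ⊢
  · have hΩ : 1 ≤ Fintype.card Ω := by
      by_contra hc; rw [show Fintype.card Ω = 0 by omega, zero_mul] at hB; omega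
    rw [show Ch - (r' + 1) - 0 = (Fintype.card Ω - 1) * (r' + 1) by rw [Nat.sub_mul, one_mul]; omega,
      Nat.mul_div_cancel _ (Nat.succ_pos r')]
    omega
  · have hΩ : 2 ≤ Fintype.card Ω := by
      by_contra hc
      have : Fintype.card Ω * (r' + 1) ≤ 1 * (r' + 1) := Nat.mul_le_mul_right _ (by omega)
      omega
    rw [show Ch - (r' + 1) - 1 = (Fintype.card Ω - 2) * (r' + 1) by rw [Nat.sub_mul]; omega,
      Nat.mul_div_cancel _ (Nat.succ_pos r')]
    omega

end CfsgLib.Classical.ProjPrimeOrder
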