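import Cfsg.Agent.Lib.Classical.SympClasses
import Cfsg.Agent.Lib.FormRep.Adj

/-!
Every palindromic polynomial is the characteristic polynomial of a symplectic matrix, also of a semisimple one.
-/

set_option autoImplicit false
set_option linter.style.haveILetI false
set_option maxHeartbeats 800000

namespace CfsgLib.Classical.SympCompanion

open Matrix Polynomial Module CfsgLib.Classical.SympTrans CfsgLib.Classical.SympClasses

variable {F : Type*} [Field F]

theorem exists_charpoly {n : ℕ} (f : F[X]) (hm : f.Monic) (hd : f.natDegree = 2 * n)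
    (h0 : f.coeff 0 = 1) (hrev : f.reverse = f) :
    ∃ g : Matrix.symplecticGroup (Fin n) F,
      (g : Matrix (Fin n ⊕ Fin n) (Fin n ⊕ Fin n) F).charpoly = f := by
  classical
  rcases Nat.eq_zero_or_pos n with rfl | hn
  · refine ⟨1, ?_⟩
    rw [eq_one_of_monic_natDegree_zero hm (by omega)]
    exact eq_one_of_monic_natDegree_zero (Matrix.charpoly_monic _) (by simp [Matrix.charpoly_natDegree_eq_dim])
  haveI : Module.Finite F (AdjoinRoot f) := (AdjoinRoot.powerBasis' hm).finite
  set x := AdjoinRoot.root f with hx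
  let ψ : AdjoinRoot f →ₗ[F] F := (lcoeff F (2 * n - 1)).comp (AdjoinRoot.modByMonicHom hm)
  have hψ : ∀ p : F[X], p.natDegree < 2 * n → ψ (AdjoinRoot.mk f p) = p.coeff (2 * n - 1) := fun p hp => by
    show (AdjoinRoot.modByMonicHom hm (AdjoinRoot.mk f p)).coeff _ = _
    rw [AdjoinRoot.modByMonicHom_mk, (modByMonic_eq_self_iff hm).mpr (degree_lt_degree (hd ▸ hp))]
  have hψx : ∀ i, i < 2 * n → ψ (x ^ i) = if i = 2 * n - 1 then 1 else 0 := fun i hi => by
    rw [hx, ← AdjoinRoot.mk_X, ← map_pow, hψ _ (by rwa [natDegree_X_pow]), coeff_X_pow]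
    exact if_congr eq_comm rfl rfl
  set w : AdjoinRoot f := AdjoinRoot.mk f (-f.divX) with hw
  have hxw : x * w = 1 := by
    rw [hx, hw, ← AdjoinRoot.mk_X, ← map_mul, ← map_one (AdjoinRoot.mk f), AdjoinRoot.mk_eq_mk]
    refine ⟨-1, ?_⟩
    have e := X_mul_divX_add f
    rw [h0, map_one] at e
    linear_combination -e
  have hψw : ψ w = -1 := by
    rw [hw, hψ _ (by rw [natDegree_neg, natDegree_divX_eq_natDegree_tsub_one, hd]; omega), coeff_neg,
      coeff_divX, show 2 * n - 1 + 1 = f.natDegree by omega, hm.coeff_natDegree]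
  have hwroot : aeval w f = 0 := by
    have h := FormRep.Adj.aeval_reflect_aux hxw f.natDegree f le_rfl
    rw [show reflect f.natDegree f = f from hrev, hx, AdjoinRoot.aeval_eq, AdjoinRoot.mk_self] at h
    have hu : IsUnit (x ^ f.natDegree) := (IsUnit.of_mul_eq_one _ hxw).pow _
    exact hu.mul_right_eq_zero.1 h.symm
  let σ : AdjoinRoot f →ₐ[F] AdjoinRoot f := AdjoinRoot.liftAlgHom f (Algebra.ofId F (AdjoinRoot f)) w (by rw [← hwroot]; rfl)
  have hσx : σ x = w := AdjoinRoot.liftAlgHom_root _ _ _ _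
  have hσw : σ w = x := by
    calc σ w = σ w * (σ x * x) := by rw [hσx, mul_comm w x, hxw, mul_one]
      _ = x := by rw [← mul_assoc, ← map_mul, mul_comm w x, hxw, map_one, one_mul]
  have hσσ : ∀ r, σ (σ r) = r := by
    have : σ.comp σ = AlgHom.id F (AdjoinRoot f) := AdjoinRoot.algHom_ext (by
      show σ (σ x) = x
      rw [hσx, hσw])
    exact fun r => AlgHom.congr_fun this r
  let pb := AdjoinRoot.powerBasis' hm
  have hdim : pb.dim = 2 * n := by rw [AdjoinRoot.powerBasis'_dim, hd]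
  have hbas : ∀ i : Fin pb.dim, pb.basis i = x ^ (i : ℕ) := fun i => by
    rw [pb.basis_eq_pow, AdjoinRoot.powerBasis'_gen]
  let φ : AdjoinRoot f →ₗ[F] F := ψ.comp (LinearMap.mulLeft F (x ^ (n - 1)))
  have hφ : ∀ r, φ r = ψ (x ^ (n - 1) * r) := fun _ => rfl
  have hxwk : ∀ k, x ^ k * w ^ k = 1 := fun k => by rw [← mul_pow, hxw, one_pow]
  have hφσ : ∀ r, φ (σ r) = -φ r := by
    have key : φ.comp (σ.toLinearMap.comp (LinearMap.mulLeft F (w ^ (n - 1)))) =
        -(φ.comp (LinearMap.mulLeft F (w ^ (n - 1)))) := by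
      refine pb.basis.ext fun i => ?_
      have hi : (i : ℕ) < 2 * n := hdim ▸ i.2
      show φ (σ (w ^ (n - 1) * pb.basis i)) = -φ (w ^ (n - 1) * pb.basis i)
      rw [hbas, map_mul, map_pow, map_pow, hσw, hσx, hφ, hφ, ← mul_assoc, ← mul_assoc, hxwk, one_mul,
        ← pow_add, hψx _ hi]
      rcases Nat.lt_or_ge (i : ℕ) (2 * n - 1) with h | h
      · rw [if_neg h.ne, neg_zero, show n - 1 + (n - 1) = (2 * n - 2 - (i : ℕ)) + (i : ℕ) by omega, pow_add,
          mul_assoc, hxwk, mul_one, hψx _ (by omega), if_neg (by omega)]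
      · have hi' : (i : ℕ) = (n - 1 + (n - 1)) + 1 := by omega
        rw [if_pos (by omega), hi', pow_succ w, ← mul_assoc, hxwk, one_mul, hψw]
    intro r
    have := LinearMap.congr_fun key (x ^ (n - 1) * r)
    simp only [LinearMap.comp_apply, LinearMap.neg_apply, LinearMap.mulLeft_apply, AlgHom.toLinearMap_apply] at this
    rwa [show w ^ (n - 1) * (x ^ (n - 1) * r) = r by
      rw [← mul_assoc, mul_comm (w ^ (n - 1)), hxwk, one_mul]] at this
  let B : LinearMap.BilinForm F (AdjoinRoot f) := LinearMap.mk₂ F (fun u v => φ (u * σ v))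
    (fun a b v => by rw [add_mul, map_add]) (fun c a v => by rw [smul_mul_assoc, map_smul])
    (fun u a b => by rw [map_add, mul_add, map_add]) (fun c u a => by rw [map_smul, mul_smul_comm, map_smul])
  have hBs : CfsgLib.SympCount.Symp B := by
    refine ⟨fun u => ?_, fun v hv => ?_⟩
    · show φ (u * σ u) = 0
      let Q : AdjoinRoot f →+ F :=
        { toFun := fun u => φ (u * σ u)
          map_zero' := by simp
          map_add' := fun a b => by
            have h1 := hφσ (a * σ b)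
            rw [map_mul, hσσ] at h1
            rw [map_add, show (a + b) * (σ a + σ b) = a * σ a + b * σ b + (a * σ b + σ a * b) by ring, map_add,
              map_add, map_add, h1, add_neg_cancel, add_zero] }
      show Q u = 0
      rw [← pb.basis.sum_repr u, map_sum]
      refine Finset.sum_eq_zero fun i _ => ?_
      show φ (_ * σ _) = 0
      rw [hbas, map_smul, map_pow, hσx, smul_mul_smul_comm, hxwk, map_smul, hφ, mul_one,
        hψx _ (by omega), if_neg (by omega), smul_zero]
    · by_contra hv0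
      set v' := x ^ (n - 1) * v
      have hv' : v' ≠ 0 := fun h => hv0 (by
        rw [← one_mul v, ← hxwk (n - 1), mul_comm (x ^ (n - 1)), mul_assoc, show x ^ (n - 1) * v = 0 from h,
          mul_zero])
      obtain ⟨p, hp, hpdeg⟩ : ∃ p, AdjoinRoot.mk f p = v' ∧ p.natDegree < 2 * n := by
        obtain ⟨p, hp⟩ := AdjoinRoot.mk_surjective v'
        refine ⟨p %ₘ f, ?_, hd ▸ natDegree_modByMonic_lt p hm (by rintro rfl; simp at hd; omega)⟩
        rw [← hp, AdjoinRoot.mk_eq_mk]
        exact ⟨-(p /ₘ f), by linear_combination modByMonic_add_div p f⟩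
      have hp0 : p ≠ 0 := fun h => hv' (by rw [← hp, h, map_zero])
      have h1 := hv (σ (x ^ (2 * n - 1 - p.natDegree)))
      change φ (v * σ (σ _)) = 0 at h1
      rw [hσσ, hφ, ← mul_assoc, show x ^ (n - 1) * v = v' from rfl, ← hp, hx, ← AdjoinRoot.mk_X, ← map_pow,
        ← map_mul, hψ _ (by rw [natDegree_mul_X_pow _ hp0]; omega), coeff_mul_X_pow',
        if_pos (by omega), show 2 * n - 1 - (2 * n - 1 - p.natDegree) = p.natDegree by omega] at h1
      exact hp0 (leadingCoeff_eq_zero.1 h1)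
  have hfr : finrank F (AdjoinRoot f) = finrank F (Fin n ⊕ Fin n → F) := by
    rw [(AdjoinRoot.powerBasis' hm).finrank, AdjoinRoot.powerBasis'_dim, hd]
    simp; omega
  obtain ⟨e, he⟩ := CfsgLib.SympCount.exists_isometry (symp_sb F n) hBs hfr
  set T := Algebra.lmul F (AdjoinRoot f) x
  have hT : T.charpoly = f := by
    rw [← LinearMap.charpoly_toMatrix T pb.basis]
    refine (charpoly_leftMulMatrix pb).trans ?_
    refine (AdjoinRoot.minpoly_root hm.ne_zero).trans ?_
    rw [hm.leadingCoeff, inv_one, map_one, mul_one]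
  have hmem : LinearMap.toMatrix' (e.conj T) ∈ Matrix.symplecticGroup (Fin n) F := mem_iff_f.2 fun u v => by
    rw [← Matrix.toLin'_apply, ← Matrix.toLin'_apply, Matrix.toLin'_toMatrix', ← sb_apply, ← sb_apply]
    show sb F n (e (T (e.symm u))) (e (T (e.symm v))) = _
    rw [he, show T (e.symm u) = x * e.symm u from rfl, show T (e.symm v) = x * e.symm v from rfl]
    show φ (x * e.symm u * σ (x * e.symm v)) = _
    rw [map_mul σ, hσx, show x * e.symm u * (w * σ (e.symm v)) = (x * w) * (e.symm u * σ (e.symm v)) by ring,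
      hxw, one_mul]
    have := he (e.symm u) (e.symm v)
    rw [e.apply_symm_apply, e.apply_symm_apply] at this
    exact this.symm
  refine ⟨⟨_, hmem⟩, ?_⟩
  show (LinearMap.toMatrix' (e.conj T)).charpoly = f
  rw [← Matrix.charpoly_toLin', Matrix.toLin'_toMatrix', LinearEquiv.charpoly_conj, hT]

theorem charpoly_palindromic {n : ℕ} (g : Matrix.symplecticGroup (Fin n) F) :
    (g : Matrix (Fin n ⊕ Fin n) (Fin n ⊕ Fin n) F).charpoly.coeff 0 = 1 ∧
      (g : Matrix (Fin n ⊕ Fin n) (Fin n ⊕ Fin n) F).charpoly.reverse =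
        (g : Matrix (Fin n ⊕ Fin n) (Fin n ⊕ Fin n) F).charpoly := by
  set A := (g : Matrix (Fin n ⊕ Fin n) (Fin n ⊕ Fin n) F) with hA
  have hdet : A.det = 1 := SymplecticGroup.det_eq_one g.2
  have heven : ∀ (R : Type _) [CommRing R], ((-1 : R) ^ Fintype.card (Fin n ⊕ Fin n)) = 1 := fun R _ => by
    rw [Fintype.card_sum, Fintype.card_fin, ← two_mul, pow_mul, neg_one_sq, one_pow]
  have hu : IsUnit A := (Matrix.isUnit_iff_isUnit_det A).2 (hdet ▸ isUnit_one)
  refine ⟨?_, ?_⟩
  · have := A.det_eq_sign_charpoly_coeff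
    rw [heven F, one_mul, hdet] at this
    exact this.symm
  · have h1 : A⁻¹ = (-Matrix.J (Fin n) F) * Aᵀ * Matrix.J (Fin n) F := Matrix.inv_eq_left_inv (by
      rw [mul_assoc, mul_assoc, ← mul_assoc Aᵀ, SymplecticGroup.mem_iff'.1 g.2, neg_mul,
        J_squared, neg_neg])
    have hJ : (-Matrix.J (Fin n) F) * Matrix.J (Fin n) F = 1 := by rw [neg_mul, J_squared, neg_neg]
    let U : (Matrix (Fin n ⊕ Fin n) (Fin n ⊕ Fin n) F)ˣ := ⟨-Matrix.J (Fin n) F, Matrix.J (Fin n) F, hJ,
      by rw [mul_neg, J_squared, neg_neg]⟩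
    have h2 : A⁻¹.charpoly = A.charpoly := by
      rw [h1, ← A.charpoly_transpose]
      have h3 := Matrix.charpoly_units_conj U Aᵀ
      rwa [← Matrix.coe_units_inv] at h3
    rw [Matrix.charpoly_inv _ hu, ← Matrix.reverse_charpoly, hdet, Ring.inverse_one, map_one, mul_one,
      heven, one_mul] at h2
    exact h2

theorem exists_semisimple [Fintype F] {p : ℕ} [hp : Fact p.Prime] [CharP F p] {n : ℕ} (f : F[X])
    (hm : f.Monic) (hd : f.natDegree = 2 * n) (h0 : f.coeff 0 = 1) (hrev : f.reverse = f) :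
    ∃ g : Matrix.symplecticGroup (Fin n) F, (orderOf g).Coprime p ∧
      (g : Matrix (Fin n ⊕ Fin n) (Fin n ⊕ Fin n) F).charpoly = f := by
  classical
  obtain ⟨g, hg⟩ := exists_charpoly f hm hd h0 hrev
  have hgpos : 0 < orderOf g := orderOf_pos g
  obtain ⟨a, m, hpm, ham⟩ := Nat.exists_eq_pow_mul_and_not_dvd hgpos.ne' p hp.out.ne_one
  obtain ⟨k, hk⟩ := FiniteField.card F p
  have hq : ∀ j : ℕ, (((g ^ (Fintype.card F) ^ j : Matrix.symplecticGroup (Fin n) F)) :
      Matrix (Fin n ⊕ Fin n) (Fin n ⊕ Fin n) F).charpoly = f := by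
    intro j
    induction j with
    | zero => rw [pow_zero, pow_one]; exact hg
    | succ j ih => rw [pow_succ, pow_mul, SubmonoidClass.coe_pow, FiniteField.Matrix.charpoly_pow_card, ih]
  refine ⟨g ^ (Fintype.card F) ^ a, ?_, hq a⟩
  have hpa : p ^ a ∣ Fintype.card F ^ a := pow_dvd_pow_of_dvd (hk.2 ▸ dvd_pow_self p k.ne_zero) a
  obtain ⟨c, hc⟩ := hpa
  have hdvd : orderOf (g ^ Fintype.card F ^ a) ∣ m := by
    refine orderOf_dvd_of_pow_eq_one ?_
    rw [← pow_mul, hc, mul_right_comm, ← ham, pow_mul, pow_orderOf_eq_one, one_pow]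
  exact Nat.Coprime.coprime_dvd_left hdvd ((hp.out.coprime_iff_not_dvd.mpr hpm).symm)

end CfsgLib.Classical.SympCompanion
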