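import Mathlib

/-!
The twisted reciprocal of a polynomial, and the commutant of a semisimple map with squarefree
characteristic polynomial.
-/

set_option autoImplicit false

namespace CfsgLib.Classical.UnitaryTwistPoly

open Polynomial

variable {K : Type*} [Field K] (σ : K →+* K)

/-- The twisted reciprocal. -/
noncomputable def tw (P : K[X]) : K[X] := C (σ (P.coeff 0))⁻¹ * (P.map σ).reverse

theorem tw_mul (P Q : K[X]) : tw σ (P * Q) = tw σ P * tw σ Q := by
  rw [tw, tw, tw, mul_coeff_zero, map_mul, Polynomial.map_mul, reverse_mul_of_domain, _root_.mul_inv, C_mul]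
  ring

theorem coeff_tw (P : K[X]) (i : ℕ) :
    (tw σ P).coeff i = (σ (P.coeff 0))⁻¹ * σ (P.coeff (revAt P.natDegree i)) := by
  rw [tw, coeff_C_mul, coeff_reverse, natDegree_map_eq_of_injective σ.injective, coeff_map]

theorem natDegree_tw {P : K[X]} (h0 : P.coeff 0 ≠ 0) : (tw σ P).natDegree = P.natDegree := by
  rw [tw, natDegree_C_mul (inv_ne_zero ((map_ne_zero σ).mpr h0)), reverse_natDegree,
    natDegree_map_eq_of_injective σ.injective]
  have : (P.map σ).natTrailingDegree = 0 :=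
    natTrailingDegree_eq_zero.mpr (Or.inr (by rw [coeff_map]; exact (map_ne_zero σ).mpr h0))
  omega

theorem monic_tw {P : K[X]} (h0 : P.coeff 0 ≠ 0) : (tw σ P).Monic := by
  rw [Monic, leadingCoeff, natDegree_tw σ h0, coeff_tw, revAt_le le_rfl, Nat.sub_self,
    inv_mul_cancel₀ ((map_ne_zero σ).mpr h0)]

theorem coeff_zero_tw {P : K[X]} (hm : P.Monic) (_h0 : P.coeff 0 ≠ 0) :
    (tw σ P).coeff 0 = (σ (P.coeff 0))⁻¹ := by
  rw [coeff_tw, revAt_le (Nat.zero_le _), Nat.sub_zero, hm.coeff_natDegree, map_one, mul_one]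

theorem tw_tw (hσ : ∀ x, σ (σ x) = x) {P : K[X]} (hm : P.Monic) (h0 : P.coeff 0 ≠ 0) : tw σ (tw σ P) = P := by
  ext i
  rw [coeff_tw, coeff_zero_tw σ hm h0, natDegree_tw σ h0, coeff_tw, revAt_invol, map_mul, map_inv₀, hσ, hσ,
    inv_inv, ← mul_assoc, mul_inv_cancel₀ h0, one_mul]

theorem tw_dvd {P Q : K[X]} (h : P ∣ Q) : tw σ P ∣ tw σ Q := by
  obtain ⟨R, rfl⟩ := h
  exact ⟨tw σ R, tw_mul σ P R⟩

theorem coeff_zero_ne_of_dvd {P Q : K[X]} (h : P ∣ Q) (h0 : Q.coeff 0 ≠ 0) : P.coeff 0 ≠ 0 := by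
  obtain ⟨R, rfl⟩ := h
  rw [mul_coeff_zero] at h0
  exact left_ne_zero_of_mul h0

theorem squarefree_tw (hσ : ∀ x, σ (σ x) = x) {P : K[X]} (hm : P.Monic) (h0 : P.coeff 0 ≠ 0)
    (hs : Squarefree P) : Squarefree (tw σ P) := by
  intro x hx
  have hx0 : x ≠ 0 := by
    rintro rfl
    rw [zero_mul, zero_dvd_iff] at hx
    exact (monic_tw σ h0).ne_zero hx
  have htw0 : (tw σ P).coeff 0 ≠ 0 := by
    rw [coeff_zero_tw σ hm h0]; exact inv_ne_zero ((map_ne_zero σ).mpr h0)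
  have hxc : x.coeff 0 ≠ 0 := coeff_zero_ne_of_dvd (dvd_trans (dvd_mul_right x x) hx) htw0
  have h := tw_dvd σ hx
  rw [tw_mul, tw_tw σ hσ hm h0] at h
  have hu := hs _ h
  rw [isUnit_iff_degree_eq_zero, degree_eq_natDegree (monic_tw σ hxc).ne_zero, natDegree_tw σ hxc] at hu
  rw [isUnit_iff_degree_eq_zero, degree_eq_natDegree hx0]
  exact hu

/-- The squarefree kernel of a fixed polynomial is fixed. -/
theorem exists_fixed_split (hσ : ∀ x, σ (σ x) = x) {f : K[X]} (hm : f.Monic) (h0 : f.coeff 0 ≠ 0)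
    (hf : tw σ f = f) : ∃ P Q : K[X], P * Q = f ∧ P.Monic ∧ Q.Monic ∧ Squarefree P ∧
      tw σ P = P ∧ tw σ Q = Q ∧ (0 < f.natDegree → 0 < P.natDegree) := by
  classical
  obtain ⟨r, hrd, hrs, hrall⟩ : ∃ r : K[X], r ∣ f ∧ Squarefree r ∧ ∀ d : K[X], Squarefree d → d ∣ f → d ∣ r :=
    ⟨UniqueFactorizationMonoid.radical f, UniqueFactorizationMonoid.radical_dvd_self,
      UniqueFactorizationMonoid.squarefree_radical,
      fun d hd hdf => (UniqueFactorizationMonoid.dvd_radical_iff hd.isRadical hm.ne_zero).mpr hdf⟩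
  have hr0 : r ≠ 0 := ne_zero_of_dvd_ne_zero hm.ne_zero hrd
  obtain ⟨P, hPm, hPd, hPs, hPall⟩ : ∃ P : K[X], P.Monic ∧ P ∣ f ∧ Squarefree P ∧
      ∀ d : K[X], Squarefree d → d ∣ f → d ∣ P :=
    ⟨normalize r, monic_normalize hr0, normalize_dvd_iff.mpr hrd,
      hrs.squarefree_of_dvd (normalize_associated r).dvd, fun d hd hdf => dvd_normalize_iff.mpr (hrall d hd hdf)⟩
  have hP0 := coeff_zero_ne_of_dvd hPd h0
  have hPt : tw σ P = P := by
    have hd : tw σ P ∣ P := hPall _ (squarefree_tw σ hσ hPm hP0 hPs) (hf ▸ tw_dvd σ hPd)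
    exact (eq_of_monic_of_dvd_of_natDegree_le (monic_tw σ hP0) hPm hd (by rw [natDegree_tw σ hP0])).symm
  obtain ⟨Q, hQ⟩ := hPd
  have hQm : Q.Monic := hPm.of_mul_monic_left (hQ ▸ hm)
  refine ⟨P, Q, hQ.symm, hPm, hQm, hPs, hPt, ?_, fun hpos => ?_⟩
  · rw [hQ, tw_mul, hPt] at hf
    exact mul_left_cancel₀ hPm.ne_zero hf
  · by_contra hz
    have hP1 : P = 1 := hPm.natDegree_eq_zero.mp (by omega)
    obtain ⟨x, hx, hxd⟩ := exists_irreducible_of_natDegree_pos hpos
    have h1 : x ∣ P := hPall x hx.squarefree hxd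
    rw [hP1] at h1
    exact hx.not_isUnit (isUnit_of_dvd_one h1)

/-- Endomorphisms commuting with a cyclic semisimple one commute. -/
theorem lmul_of_commute {P : K[X]} (Z : Module.End K (AdjoinRoot P))
    (hZ : ∀ x, Z (AdjoinRoot.root P * x) = AdjoinRoot.root P * Z x) :
    ∀ x, Z x = Z 1 * x := by
  have key : ∀ (u : AdjoinRoot P) x, Z (u * x) = u * Z x := by
    intro u
    obtain ⟨u, rfl⟩ := AdjoinRoot.mk_surjective u
    induction u using Polynomial.induction_on with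
    | C c =>
      intro x
      rw [AdjoinRoot.mk_C, ← AdjoinRoot.algebraMap_eq, ← Algebra.smul_def, map_smul, Algebra.smul_def]
    | add a b ha hb => intro x; rw [map_add, add_mul, map_add, ha, hb, add_mul]
    | monomial k c ih =>
      intro x
      rw [pow_succ, ← mul_assoc (C c), map_mul (AdjoinRoot.mk P), AdjoinRoot.mk_X, mul_assoc, ih, hZ, ← mul_assoc]
  intro x
  conv_lhs => rw [← mul_one x]
  rw [key, mul_comm]

end CfsgLib.Classical.UnitaryTwistPoly
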