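import Cfsg.Agent.Lib.Classical.PrimeOrderCount
import Cfsg.Agent.Lib.Classical.UnitaryTwistPoly

/-!
Counting polynomials fixed by a twisted reciprocal that pairs off the allowed irreducible factors.
-/

set_option autoImplicit false
set_option linter.style.haveILetI false
set_option maxHeartbeats 800000

namespace CfsgLib.Classical.TwistPairCount

open Polynomial UniqueFactorizationMonoid CfsgLib.Classical.UnitaryTwistPoly
  CfsgLib.Classical.PrimeOrderCount

variable {K : Type*} [Field K] (σ : K →+* K)

theorem tw_one : tw σ (1 : K[X]) = 1 := by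
  rw [tw, Polynomial.map_one, coeff_one_zero, map_one, inv_one, C_1, one_mul, ← C_1, reverse_C]

theorem tw_X_sub_one : tw σ (X - 1 : K[X]) = X - 1 := by
  have hd : (X - 1 : K[X]).natDegree = 1 := by simpa using natDegree_X_sub_C (1 : K)
  ext i
  rw [coeff_tw, hd]
  rcases i with _ | _ | i
  · rw [revAt_le (Nat.zero_le _)]; simp [coeff_one]
  · rw [revAt_le le_rfl]; simp [coeff_one]
  · rw [revAt_eq_self_of_lt (by omega)]; simp [coeff_one, coeff_X]

theorem tw_prod (L : Multiset K[X]) : tw σ L.prod = (L.map (tw σ)).prod := by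
  induction L using Multiset.induction with
  | empty => simp [tw_one]
  | cons a L ih => rw [Multiset.prod_cons, tw_mul, ih, Multiset.map_cons, Multiset.prod_cons]

theorem nf_prod [DecidableEq K] (L : Multiset K[X]) (h : ∀ P ∈ L, P.Monic ∧ Irreducible P) :
    normalizedFactors L.prod = L := by
  rw [normalizedFactors_prod_eq _ fun P hP => (h P hP).2]
  exact (Multiset.map_congr rfl fun P hP => Monic.normalize_eq_self (h P hP).1).trans (Multiset.map_id' _)

theorem prod_nf [DecidableEq K] {f : K[X]} (hm : f.Monic) : (normalizedFactors f).prod = f := by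
  have h := prod_normalizedFactors_eq (a := f) hm.ne_zero
  rwa [hm.normalize_eq_self] at h

variable [Fintype K] [DecidableEq K]

theorem card_fixed (D : Finset K[X]) (i n : ℕ) (hi : 0 < i)
    (hD : ∀ P ∈ D, P.Monic ∧ Irreducible P ∧ P.natDegree = i) (h1 : X - 1 ∉ D)
    (hτ : ∀ P ∈ D, tw σ P ∈ D ∧ tw σ (tw σ P) = P ∧ tw σ P ≠ P) :
    Nat.card {f : K[X] // f.Monic ∧ f.natDegree = n ∧ tw σ f = f ∧
      ∀ P ∈ normalizedFactors f, P = X - 1 ∨ P ∈ D} =
      Nat.choose (n / (2 * i) + D.card / 2) (D.card / 2) := by
  classical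
  let τ : K[X] → K[X] := tw σ
  have hX1m : (X - 1 : K[X]).Monic := by simpa using monic_X_sub_C (1 : K)
  have hX1i : Irreducible (X - 1 : K[X]) := by simpa using irreducible_X_sub_C (1 : K)
  have hX1d : (X - 1 : K[X]).natDegree = 1 := by simpa using natDegree_X_sub_C (1 : K)
  let e := D.equivFin
  let lt : K[X] → K[X] → Prop := fun P P' => ∃ (h : P ∈ D) (h' : P' ∈ D), e ⟨P, h⟩ < e ⟨P', h'⟩
  set D₁ := D.filter fun P => lt P (τ P) with hD₁def
  have hsub : D₁ ⊆ D := Finset.filter_subset _ _
  have hD₁ : ∀ P ∈ D, (P ∈ D₁ ↔ τ P ∉ D₁) := by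
    intro P hP
    simp only [D₁, τ, Finset.mem_filter, hP, (hτ P hP).1, true_and, (hτ P hP).2.1, lt, exists_true_left]
    have hne : e ⟨P, hP⟩ ≠ e ⟨tw σ P, (hτ P hP).1⟩ := fun h =>
      (hτ P hP).2.2 (congrArg Subtype.val (e.injective h)).symm
    constructor
    · intro h; exact not_lt.mpr h.le
    · intro h; exact lt_of_le_of_ne (not_lt.mp h) hne
  have hD₁c : D₁.card = D.card / 2 := by
    have hcompl : D₁.image τ = D \ D₁ := by
      ext P
      simp only [Finset.mem_image, Finset.mem_sdiff]
      constructor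
      · rintro ⟨P', hP', rfl⟩
        exact ⟨(hτ _ (hsub hP')).1, (hD₁ P' (hsub hP')).mp hP'⟩
      · rintro ⟨hP, hn⟩
        exact ⟨τ P, by_contra fun h => hn ((hD₁ P hP).mpr h), (hτ P hP).2.1⟩
    have hc := congrArg Finset.card hcompl
    rw [Finset.card_image_of_injOn (fun a ha b hb hab => by
      rw [← (hτ a (hsub ha)).2.1]; show tw σ (τ a) = b; rw [hab]; exact (hτ b (hsub hb)).2.1),
      Finset.card_sdiff_of_subset hsub] at hc
    have := Finset.card_le_card hsub
    omega
  set N := n / (2 * i) with hN
  have hNi : N * i / i = N := Nat.mul_div_cancel _ hi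
  have hcount := card_products D₁ i (N * i) hi (fun P hP => hD P (hsub hP)) (fun h => h1 (hsub h))
  rw [hNi, hD₁c] at hcount
  rw [← hcount]
  have hrep : ∀ k : ℕ, (Multiset.replicate k (X - 1 : K[X])).filter (· ∈ D₁) = 0 := fun k =>
    Multiset.filter_eq_nil.mpr fun P hP h' => by
      rw [Multiset.eq_of_mem_replicate hP] at h'
      exact h1 (hsub h')
  let Y := {g : K[X] // g.Monic ∧ g.natDegree = N * i ∧ ∀ P ∈ normalizedFactors g, P = X - 1 ∨ P ∈ D₁}
  let A : Y → Multiset K[X] := fun g => (normalizedFactors g.1).filter (· ∈ D₁)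
  let build : Multiset K[X] → Multiset K[X] := fun A =>
    Multiset.replicate (n - 2 * i * Multiset.card A) (X - 1) + (A + A.map τ)
  have hbuild : ∀ A : Multiset K[X], (∀ P ∈ A, P ∈ D₁) → ∀ P ∈ build A, P = X - 1 ∨ P ∈ D := by
    intro A hA P hP
    rcases Multiset.mem_add.mp hP with h | h
    · exact Or.inl (Multiset.eq_of_mem_replicate h)
    rcases Multiset.mem_add.mp h with h | h
    · exact Or.inr (hsub (hA P h))
    · obtain ⟨P', hP', rfl⟩ := Multiset.mem_map.mp h
      exact Or.inr (hτ P' (hsub (hA P' hP'))).1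
  have hmon : ∀ P : K[X], (P = X - 1 ∨ P ∈ D) → P.Monic ∧ Irreducible P := fun P h => by
    rcases h with rfl | h
    · exact ⟨hX1m, hX1i⟩
    · exact ⟨(hD P h).1, (hD P h).2.1⟩
  have hsum : ∀ A : Multiset K[X], (∀ P ∈ A, P ∈ D) → (A.map natDegree).sum = i * Multiset.card A := fun A hA => by
    rw [Multiset.map_congr rfl fun P hP => (hD P (hA P hP)).2.2, Multiset.map_const', Multiset.sum_replicate,
      smul_eq_mul, mul_comm]
  have hAD : ∀ g : Y, ∀ P ∈ A g, P ∈ D₁ := fun g P hP => (Multiset.mem_filter.mp hP).2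
  have hAcard : ∀ g : Y, Multiset.card (A g) ≤ N := fun g => by
    have h2 := natDegree_multiset_prod_of_monic (normalizedFactors g.1) fun P hP =>
      normalizedFactor_monic g.2.1.ne_zero hP
    rw [prod_nf g.2.1, g.2.2.1, ← Multiset.filter_add_not (· ∈ D₁) (normalizedFactors g.1), Multiset.map_add,
      Multiset.sum_add, hsum _ fun P hP => hsub (hAD g P hP)] at h2
    exact Nat.le_of_mul_le_mul_left (by rw [mul_comm i N]; omega) hi
  have hcard2 : ∀ g : Y, 2 * i * Multiset.card (A g) ≤ n := fun g =>
    (Nat.mul_le_mul_left _ (hAcard g)).trans (Nat.mul_div_le n (2 * i))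
  refine (Nat.card_eq_of_bijective (fun g : Y => (⟨(build (A g)).prod,
    monic_multiset_prod_of_monic _ id (fun P hP => (hmon P (hbuild _ (hAD g) P hP)).1) |> (fun h => by simpa using h),
    ?_, ?_, fun P hP => hbuild _ (hAD g) P
      (nf_prod _ (fun P hP => hmon P (hbuild _ (hAD g) P hP)) ▸ hP)⟩ :
    {f : K[X] // f.Monic ∧ f.natDegree = n ∧ tw σ f = f ∧
      ∀ P ∈ normalizedFactors f, P = X - 1 ∨ P ∈ D})) ⟨?_, ?_⟩).symm
  · rw [natDegree_multiset_prod_of_monic _ fun P hP => (hmon P (hbuild _ (hAD g) P hP)).1]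
    simp only [build, Multiset.map_add, Multiset.sum_add, Multiset.map_replicate, Multiset.sum_replicate, hX1d,
      smul_eq_mul, mul_one]
    rw [hsum _ fun P hP => hsub (hAD g P hP), hsum _ (fun P hP => by
      obtain ⟨P', hP', rfl⟩ := Multiset.mem_map.mp hP
      exact (hτ P' (hsub (hAD g P' hP'))).1), Multiset.card_map]
    have := hcard2 g
    rw [mul_assoc] at this ⊢
    omega
  · rw [tw_prod]
    congr 1
    simp only [build, Multiset.map_add, Multiset.map_replicate, tw_X_sub_one]
    have hττ : ((A g).map τ).map (tw σ) = A g := by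
      rw [Multiset.map_map]
      exact (Multiset.map_congr rfl fun P hP => (hτ P (hsub (hAD g P hP))).2.1).trans (Multiset.map_id _)
    rw [hττ, add_comm ((A g).map (tw σ)) (A g)]
  · intro g g' hgg
    have h := congrArg (fun f => normalizedFactors f.1) hgg
    simp only at h
    rw [nf_prod _ fun P hP => hmon P (hbuild _ (hAD g) P hP),
      nf_prod _ fun P hP => hmon P (hbuild _ (hAD g') P hP)] at h
    have hA : A g = A g' := by
      have key : ∀ g : Y, (build (A g)).filter (· ∈ D₁) = A g := fun g => by
        simp only [build, Multiset.filter_add]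
        rw [hrep _,
          Multiset.filter_eq_self.mpr (hAD g), Multiset.filter_eq_nil.mpr (fun P hP h' => by
            obtain ⟨P', hP', rfl⟩ := Multiset.mem_map.mp hP
            exact (hD₁ P' (hsub (hAD g P' hP'))).mp (hAD g P' hP') h'), zero_add, add_zero]
      rw [← key g, h, key g']
    apply Subtype.ext
    have key : ∀ g : Y, normalizedFactors g.1 = Multiset.replicate (N * i - i * Multiset.card (A g)) (X - 1) + A g := by
      intro g
      have hs := Multiset.filter_add_not (· ∈ D₁) (normalizedFactors g.1)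
      have hrest : (normalizedFactors g.1).filter (fun P => P ∉ D₁) = Multiset.replicate
          (Multiset.card ((normalizedFactors g.1).filter (fun P => P ∉ D₁))) (X - 1) :=
        Multiset.eq_replicate_card.mpr fun P hP =>
          (g.2.2.2 P (Multiset.mem_filter.mp hP).1).resolve_right (Multiset.mem_filter.mp hP).2
      have h2 := natDegree_multiset_prod_of_monic (normalizedFactors g.1) fun P hP =>
        normalizedFactor_monic g.2.1.ne_zero hP
      rw [prod_nf g.2.1, g.2.2.1, ← hs, hrest, Multiset.map_add, Multiset.sum_add,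
        hsum _ fun P hP => hsub (hAD g P hP), Multiset.map_replicate, Multiset.sum_replicate, hX1d, smul_eq_mul,
        mul_one] at h2
      conv_lhs => rw [← hs, hrest, add_comm]
      congr 1
      congr 1
      simp only [A] at h2 ⊢
      omega
    rw [← prod_nf g.2.1, ← prod_nf g'.2.1, key g, key g', hA]
  · rintro ⟨f, hm, hd, hf, hQ⟩
    set L := normalizedFactors f
    have hτL : L.map τ = L := by
      have hτmem : ∀ P ∈ L.map τ, P = X - 1 ∨ P ∈ D := fun P hP => by
        obtain ⟨P', hP', rfl⟩ := Multiset.mem_map.mp hP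
        rcases hQ P' hP' with rfl | h
        · exact Or.inl (tw_X_sub_one σ)
        · exact Or.inr (hτ P' h).1
      rw [← nf_prod (L.map τ) fun P hP => hmon P (hτmem P hP), ← tw_prod, prod_nf hm, hf]
    set L₁ := L.filter (· ∈ D₁)
    set c := L.count (X - 1)
    have hsplit : L = Multiset.replicate c (X - 1) + (L₁ + L₁.map τ) := by
      refine Multiset.ext.mpr fun P => ?_
      simp only [Multiset.count_add, Multiset.count_replicate]
      have z2 : ∀ P, P ∉ D → (L₁.map τ).count P = 0 := fun P hP => Multiset.count_eq_zero.mpr fun h => by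
        obtain ⟨P', hP', e'⟩ := Multiset.mem_map.mp h
        exact hP (e' ▸ (hτ P' (hsub (Multiset.mem_filter.mp hP').2)).1)
      have z1 : ∀ P, P ∉ D → L₁.count P = 0 := fun P hP => Multiset.count_eq_zero.mpr fun h =>
        hP (hsub (Multiset.mem_filter.mp h).2)
      by_cases hP1 : X - 1 = P
      · subst hP1
        rw [if_pos rfl, z1 _ h1, z2 _ h1, add_zero, add_zero]
      rw [if_neg hP1, zero_add]
      by_cases hPD : P ∈ D
      · have hmap : L₁.map τ = (L.map τ).filter (fun P => τ P ∈ D₁ ∧ P ∈ D) := by
          rw [Multiset.filter_map]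
          refine congrArg (Multiset.map τ) (Multiset.filter_congr fun a ha => ?_)
          rcases hQ a ha with rfl | haD
          · simp only [Function.comp, τ, tw_X_sub_one, h1, and_false, iff_false]
            exact fun h => h1 (hsub h)
          · simp only [Function.comp, τ, (hτ a haD).2.1, (hτ a haD).1, and_true]
        rw [hmap, hτL]
        by_cases hP2 : P ∈ D₁
        · rw [Multiset.count_filter_of_pos hP2, Multiset.count_filter_of_neg (fun h => (hD₁ P hPD).mp hP2 h.1),
            add_zero]
        · rw [Multiset.count_filter_of_neg hP2, Multiset.count_filter_of_pos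
            ⟨by_contra fun h => hP2 ((hD₁ P hPD).mpr h), hPD⟩, zero_add]
      · rw [z1 P hPD, z2 P hPD, Multiset.count_eq_zero.mpr fun h => hPD ((hQ P h).resolve_left (Ne.symm hP1))]
    have hdeg : n = c + (i * Multiset.card L₁ + i * Multiset.card L₁) := by
      have h2 := natDegree_multiset_prod_of_monic L fun P hP => normalizedFactor_monic hm.ne_zero hP
      rw [prod_nf hm, hd, hsplit, Multiset.map_add, Multiset.map_add, Multiset.sum_add, Multiset.sum_add,
        Multiset.map_replicate, Multiset.sum_replicate, hX1d, smul_eq_mul, mul_one,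
        hsum L₁ fun P hP => hsub (Multiset.mem_filter.mp hP).2,
        hsum (L₁.map τ) (fun P hP => by
          obtain ⟨P', hP', rfl⟩ := Multiset.mem_map.mp hP
          exact (hτ P' (hsub (Multiset.mem_filter.mp hP').2)).1), Multiset.card_map] at h2
      exact h2
    have hL₁ : Multiset.card L₁ ≤ N := by
      rw [hN, Nat.le_div_iff_mul_le (by omega), mul_comm, mul_assoc]
      omega
    set B := Multiset.replicate (N * i - i * Multiset.card L₁) (X - 1 : K[X]) + L₁
    have hB : ∀ P ∈ B, P = X - 1 ∨ P ∈ D₁ := fun P hP => by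
      rcases Multiset.mem_add.mp hP with h | h
      · exact Or.inl (Multiset.eq_of_mem_replicate h)
      · exact Or.inr (Multiset.mem_filter.mp h).2
    have hBm : ∀ P ∈ B, P.Monic ∧ Irreducible P := fun P hP => hmon P ((hB P hP).imp id fun h => hsub h)
    refine ⟨⟨B.prod, monic_multiset_prod_of_monic _ id (fun P hP => (hBm P hP).1) |> fun h => by simpa using h,
      ?_, fun P hP => hB P (nf_prod B hBm ▸ hP)⟩, Subtype.ext ?_⟩
    · rw [natDegree_multiset_prod_of_monic _ fun P hP => (hBm P hP).1]
      simp only [B, Multiset.map_add, Multiset.sum_add, Multiset.map_replicate, Multiset.sum_replicate, hX1d,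
        smul_eq_mul, mul_one]
      rw [hsum L₁ fun P hP => hsub (Multiset.mem_filter.mp hP).2]
      have : i * Multiset.card L₁ ≤ N * i := by rw [mul_comm N]; exact Nat.mul_le_mul_left _ hL₁
      omega
    · have hAB : (normalizedFactors B.prod).filter (· ∈ D₁) = L₁ := by
        rw [nf_prod B hBm]
        simp only [B, Multiset.filter_add]
        rw [hrep _,
          Multiset.filter_eq_self.mpr (fun P hP => (Multiset.mem_filter.mp hP).2), zero_add]
      show (build ((normalizedFactors B.prod).filter (· ∈ D₁))).prod = f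
      rw [hAB]
      conv_rhs => rw [← prod_nf hm]
      congr 1
      show _ = L
      rw [hsplit]
      simp only [build]
      rw [show n - 2 * i * Multiset.card L₁ = c by rw [mul_assoc]; omega]

end CfsgLib.Classical.TwistPairCount
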