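import Cfsg.Agent.Lib.Classical.OrthModels
import Cfsg.Agent.Lib.Classical.OrthSemisimple
import Cfsg.Agent.Lib.Classical.SympCompanion
import Cfsg.Agent.Lib.Classical.SemisimpleClasses
import Cfsg.Agent.Lib.Classical.ProjPrimeOrder
import Cfsg.Agent.Lib.Classical.TwistPairCount
import Cfsg.Agent.Lib.Classical.ZeroCount
import Cfsg.Agent.Lib.Classical.OrthForms

/-!
Characteristic polynomials realised by isometries of prime order of quadratic spaces.
-/

set_option autoImplicit false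
set_option linter.style.haveILetI false
set_option maxHeartbeats 800000

namespace CfsgLib.Classical.OrthPrimeReal

open scoped Matrix
open Polynomial Module CfsgLib.Classical.UnitaryTwistPoly CfsgLib.Classical.OrthModels

universe u v w

variable {F : Type u} [Field F]

local notation "τ" => tw (RingHom.id F)

/-- Some isometry of `Q` with `T ^ r = 1` has characteristic polynomial `f`. -/
def Real (r : ℕ) {V : Type v} [AddCommGroup V] [Module F V] [FiniteDimensional F V] (Q : V → F) (f : F[X]) : Prop :=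
  ∃ T : Module.End F V, (∀ x, Q (T x) = Q x) ∧ T ^ r = 1 ∧ T.charpoly = f

section

variable {r : ℕ} {V : Type v} [AddCommGroup V] [Module F V] [FiniteDimensional F V]
  {W : Type w} [AddCommGroup W] [Module F W] [FiniteDimensional F W]

theorem Real.of_iso {Q : V → F} {Q' : W → F} (h : Iso Q Q') {f : F[X]} (hf : Real r Q f) : Real r Q' f := by
  obtain ⟨e, he⟩ := h
  obtain ⟨T, hT, hr, hc⟩ := hf
  refine ⟨e.conj T, fun x => ?_, ?_, by rw [LinearEquiv.charpoly_conj, hc]⟩
  · show Q' (e (T (e.symm x))) = _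
    rw [he, hT, ← he, e.apply_symm_apply]
  · rw [show e.conj T ^ r = e.conj (T ^ r) from (map_pow (e.conjRingEquiv) T r).symm, hr]
    exact map_one e.conjRingEquiv

theorem Real.of_scale {Q : V → F} {l : F} (hl : l ≠ 0) {f : F[X]} (hf : Real r (fun x => l * Q x) f) :
    Real r Q f := by
  obtain ⟨T, hT, hr, hc⟩ := hf
  exact ⟨T, fun x => mul_left_cancel₀ hl (hT x), hr, hc⟩

theorem Real.sum {Q : V → F} {Q' : W → F} {f g : F[X]} (hf : Real r Q f) (hg : Real r Q' g) :
    Real r (add Q Q') (f * g) := by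
  obtain ⟨T, hT, hr, hc⟩ := hf
  obtain ⟨S, hS, hr', hc'⟩ := hg
  refine ⟨LinearMap.prodMapRingHom F V W (T, S), fun x => ?_, ?_, ?_⟩
  · show Q (T x.1) + Q' (S x.2) = _
    rw [hT, hS]; rfl
  · rw [← map_pow, show (T, S) ^ r = 1 from Prod.ext hr hr', map_one]
  · rw [LinearMap.prodMapRingHom_apply, LinearMap.charpoly_prodMap, hc, hc']

theorem real_one (Q : V → F) : Real r Q ((X - 1) ^ finrank F V) :=
  ⟨1, fun _ => rfl, one_pow r, LinearMap.charpoly_one⟩

theorem fpf_of_real {T : Module.End F V} (h1 : T.charpoly.eval 1 ≠ 0) (x : V) (hx : T x = x) : x = 0 := by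
  by_contra hx0
  exact h1 (Module.End.hasEigenvalue_iff_isRoot_charpoly T 1 |>.mp
    (Module.End.hasEigenvalue_of_hasEigenvector ⟨Module.End.mem_eigenspace_iff.mpr (by rw [one_smul, hx]), hx0⟩))

end

theorem charpoly_inv_tw {ι : Type} [Fintype ι] [DecidableEq ι] (A : GL ι F) :
    ((A⁻¹ : GL ι F) : Matrix ι ι F).charpoly = τ (A : Matrix ι ι F).charpoly := by
  set M := (A : Matrix ι ι F)
  have hd : M.det = (-1) ^ Fintype.card ι * M.charpoly.coeff 0 := M.det_eq_sign_charpoly_coeff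
  rw [Matrix.coe_units_inv, Matrix.charpoly_inv _ A.isUnit, ← Matrix.reverse_charpoly, Ring.inverse_eq_inv', hd,
    tw, Polynomial.map_id, RingHom.id_apply]
  congr 1
  rw [show ((-1 : F[X]) ^ Fintype.card ι) = C ((-1 : F) ^ Fintype.card ι) by simp, ← C_mul, _root_.mul_inv,
    ← mul_assoc, mul_inv_cancel₀ (pow_ne_zero _ (neg_ne_zero.mpr one_ne_zero)), one_mul]

theorem tw_charpoly {ι : Type} [Fintype ι] [DecidableEq ι] (Q : QuadraticForm F (ι → F)) (hQ : CfsgLib.Orth.Nondeg Q)
    (A : GL ι F) (hA : A ∈ Cfsg.isometryGroup F ⇑Q) :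
    τ (A : Matrix ι ι F).charpoly = (A : Matrix ι ι F).charpoly := by
  set M := (A : Matrix ι ι F)
  set B := LinearMap.toMatrix₂' F (QuadraticMap.polarBilin Q) with hBdef
  have hB : IsUnit B.det := (Matrix.nondegenerate_iff_det_ne_zero.mp
    (LinearMap.nondegenerate_toMatrix₂'_iff.mpr (CfsgLib.Orth.bilin_nondeg hQ))).isUnit
  have hAB : M.transpose * B * M = B := by
    have h : (QuadraticMap.polarBilin Q).compl₁₂ (Matrix.toLin' M) (Matrix.toLin' M) = QuadraticMap.polarBilin Q :=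
      LinearMap.ext₂ fun x y => by
        show QuadraticMap.polar Q (M *ᵥ x) (M *ᵥ y) = QuadraticMap.polar Q x y
        simp only [QuadraticMap.polar, ← Matrix.mulVec_add, RestrictScalars.isometry_mem.1 hA _, M]
    have := congrArg (LinearMap.toMatrix₂' F) h
    rwa [LinearMap.toMatrix₂'_compl₁₂, LinearMap.toMatrix'_toLin', ← hBdef] at this
  obtain ⟨U, hU⟩ := (Matrix.isUnit_iff_isUnit_det B).mpr hB
  have h1 : ((A⁻¹ : GL ι F) : Matrix ι ι F) = ((U⁻¹ : GL ι F) : Matrix ι ι F) * M.transpose * (U : Matrix ι ι F) := by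
    symm
    refine (Units.eq_inv_of_mul_eq_one_left ?_)
    rw [mul_eq_one_comm, mul_assoc, mul_assoc, ← mul_assoc M.transpose, hU, hAB, ← hU, Units.inv_mul]
  rw [← charpoly_inv_tw, h1, Matrix.coe_units_inv, Matrix.charpoly_units_conj', Matrix.charpoly_transpose]

/-- A semisimple map whose factors divide `X ^ r - 1`. -/
theorem pow_eq_one_of_factors {ι : Type} [Fintype ι] [DecidableEq ι] [Fintype F] {p : ℕ} [hp : Fact p.Prime]
    [CharP F p] {r : ℕ} (hr : 0 < r) (A : Matrix ι ι F) {N : ℕ} (hN : N.Coprime p) (hA : A ^ N = 1)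
    (h : ∀ P : F[X], Irreducible P → P ∣ A.charpoly → P ∣ X ^ r - 1) : A ^ r = 1 := by
  classical
  have hR : (X ^ r - 1 : F[X]) ≠ 0 := by simpa using X_pow_sub_C_ne_zero hr (1 : F)
  have hne : minpoly F A ≠ 0 := minpoly.ne_zero (IsIntegral.of_finite F A)
  have hsq : Squarefree (minpoly F A) := by
    have := (SemisimpleDet.isSemisimple_of_pow p (Matrix.toLin' A) (k := N)
      (hp.out.coprime_iff_not_dvd.mp hN.symm) (by rw [← Matrix.toLin'_pow, hA]; exact Matrix.toLin'_one)).minpoly_squarefree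
    rwa [Matrix.minpoly_toLin'] at this
  have hmin : minpoly F A ∣ X ^ r - 1 := by
    rw [UniqueFactorizationMonoid.dvd_iff_normalizedFactors_le_normalizedFactors hne hR,
      Multiset.le_iff_subset ((UniqueFactorizationMonoid.squarefree_iff_nodup_normalizedFactors hne).mp hsq)]
    intro P hP
    have hPi := UniqueFactorizationMonoid.irreducible_of_normalized_factor P hP
    refine (UniqueFactorizationMonoid.mem_normalizedFactors_iff' hR).mpr
      ⟨hPi, ((UniqueFactorizationMonoid.mem_normalizedFactors_iff' hne).mp hP).2.1, h P hPi ?_⟩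
    exact (UniqueFactorizationMonoid.dvd_of_mem_normalizedFactors hP).trans (Matrix.minpoly_dvd_charpoly A)
  obtain ⟨c, hc⟩ := hmin
  have h0 : aeval A (X ^ r - 1 : F[X]) = 0 := by rw [hc, map_mul, minpoly.aeval, zero_mul]
  rwa [map_sub, map_pow, aeval_X, map_one, sub_eq_zero] at h0

variable [Fintype F] {p : ℕ} [hp : Fact p.Prime] [CharP F p] {r : ℕ}

include hp in
/-- A pair of dual blocks on a hyperbolic space. -/
theorem real_pair (hr : 0 < r) {k : ℕ} (g : F[X]) (hm : g.Monic) (hd : g.natDegree = k) (h0 : g.coeff 0 ≠ 0)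
    (h : ∀ P : F[X], Irreducible P → P ∣ g → P ∣ X ^ r - 1) :
    Real r (Cfsg.quadFormPlus k F) (g * τ g) := by
  classical
  obtain ⟨A, hA, hAc⟩ := SemisimpleClasses.exists_semisimple (p := p) g hm hd h0
  have hAr : (A : Matrix (Fin k) (Fin k) F) ^ r = 1 := pow_eq_one_of_factors (p := p) hr _ hA
    (by rw [← Units.val_pow_eq_pow_val, pow_orderOf_eq_one, Units.val_one]) (hAc ▸ h)
  set M := (A : Matrix (Fin k) (Fin k) F)
  set N := (((A⁻¹ : GL (Fin k) F) : Matrix (Fin k) (Fin k) F)).transpose with hNdef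
  have hNr : N ^ r = 1 := by
    rw [hNdef, ← Matrix.transpose_pow, ← Units.val_pow_eq_pow_val, inv_pow,
      show A ^ r = 1 from Units.ext (by rw [Units.val_pow_eq_pow_val]; exact hAr), inv_one, Units.val_one,
      Matrix.transpose_one]
  have hi : Iso (fun x : (Fin k → F) × (Fin k → F) => x.1 ⬝ᵥ x.2) (Cfsg.quadFormPlus k F) :=
    ⟨(LinearEquiv.sumArrowLequivProdArrow _ _ F F).symm, fun x => by
      simp [Cfsg.quadFormPlus, arrow_symm, dotProduct]⟩
  refine Real.of_iso hi ⟨LinearMap.prodMapRingHom F _ _ (Matrix.toLin' M, Matrix.toLin' N), fun x => ?_, ?_, ?_⟩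
  · show (M *ᵥ x.1) ⬝ᵥ (N *ᵥ x.2) = _
    rw [hNdef, Matrix.dotProduct_mulVec, Matrix.vecMul_transpose, Matrix.mulVec_mulVec,
      show (((A⁻¹ : GL (Fin k) F) : Matrix (Fin k) (Fin k) F)) * M = 1 from A.inv_mul, Matrix.one_mulVec]
  · rw [← map_pow, Prod.pow_mk, ← Matrix.toLin'_pow, ← Matrix.toLin'_pow, hAr, hNr]
    exact congrArg₂ (fun a b => LinearMap.prodMapRingHom F _ _ (a, b)) Matrix.toLin'_one Matrix.toLin'_one |>.trans
      (map_one (LinearMap.prodMapRingHom F (Fin k → F) (Fin k → F)))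
  · rw [LinearMap.prodMapRingHom_apply, LinearMap.charpoly_prodMap, Matrix.charpoly_toLin', Matrix.charpoly_toLin',
      hNdef, Matrix.charpoly_transpose, charpoly_inv_tw, hAc]

include hp in
/-- A self-reciprocal polynomial without the root `1` lives on a nondegenerate quadratic space. -/
theorem real_self (hr : 0 < r) (hodd : Odd r) {k : ℕ} (h : F[X]) (hm : h.Monic) (hd : h.natDegree = 2 * k)
    (h0 : h.coeff 0 = 1) (hrev : h.reverse = h) (h1 : h.eval 1 ≠ 0)
    (hh : ∀ P : F[X], Irreducible P → P ∣ h → P ∣ X ^ r - 1) :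
    ∃ Q : QuadraticForm F (Fin k ⊕ Fin k → F), (QuadraticMap.polarBilin Q).Nondegenerate ∧ Real r (⇑Q) h := by
  classical
  obtain ⟨g, hg, hgc⟩ := SympCompanion.exists_semisimple (p := p) h hm hd h0 hrev
  set M := (g : Matrix (Fin k ⊕ Fin k) (Fin k ⊕ Fin k) F)
  have hgr : M ^ r = 1 := pow_eq_one_of_factors (p := p) hr _ hg
    (by rw [← SubmonoidClass.coe_pow, pow_orderOf_eq_one]; rfl) (hgc ▸ hh)
  set B := SympClasses.sb F k
  set T : Module.End F (Fin k ⊕ Fin k → F) := Matrix.toLin' M with hTdef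
  have hTr : T ^ r = 1 := by rw [hTdef, ← Matrix.toLin'_pow, hgr]; exact Matrix.toLin'_one
  have hTc : T.charpoly = h := by rw [hTdef, Matrix.charpoly_toLin', hgc]
  have halt : ∀ v, B v v = 0 := fun v => (SympClasses.symp_sb F k).alt v
  have hskew : ∀ u v, B u v = -B v u := fun u v => by
    have e := halt (u + v)
    simp only [map_add, LinearMap.add_apply, halt] at e
    linear_combination e
  have hB : ∀ u v, B (T u) (T v) = B u v := fun u v => SympClasses.app_isometry g u v
  let Q : QuadraticForm F (Fin k ⊕ Fin k → F) := LinearMap.BilinMap.toQuadraticMap (LinearMap.comp B T)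
  have hQ : ∀ x, Q x = B (T x) x := fun x => rfl
  refine ⟨Q, ?_, T, fun x => by rw [hQ, hQ, hB], hTr, hTc⟩
  have hpol : ∀ u v, QuadraticMap.polar Q u v = B (T u) v + B (T v) u := fun u v => by
    simp only [QuadraticMap.polar, hQ, map_add, LinearMap.add_apply]
    ring
  have hleft : ∀ u, (∀ v, QuadraticMap.polar Q u v = 0) → u = 0 := by
    intro u hu
    have h2 : T (T u) = u := by
      refine sub_eq_zero.1 ((SympClasses.symp_sb F k).nd _ fun v => ?_)
      have e := hu v
      rw [hpol, hskew (T v) u, ← hB (T u) v] at e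
      obtain ⟨w, rfl⟩ : ∃ w, T w = v := by
        refine ⟨(T ^ (r - 1)) v, ?_⟩
        rw [← Module.End.mul_apply, ← pow_succ', show r - 1 + 1 = r by omega, hTr]; rfl
      show B (T (T u) - u) (T w) = 0
      have e' := hu w
      rw [hpol, hskew (T w) u, ← hB (T u) w] at e'
      rw [map_sub, LinearMap.sub_apply]
      linear_combination e'
    obtain ⟨j, hj⟩ := hodd
    have h3 : ∀ j : ℕ, (T ^ (2 * j)) u = u := fun j => by
      induction j with
      | zero => rfl
      | succ j ih => rw [mul_add, pow_add, Module.End.mul_apply, mul_one, pow_two, Module.End.mul_apply, h2, ih]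
    have h4 := LinearMap.congr_fun hTr u
    rw [hj, pow_succ', Module.End.mul_apply, h3] at h4
    exact fpf_of_real (by rw [hTc]; exact h1) u h4
  exact ⟨hleft, fun v hv => hleft v fun u => by rw [QuadraticMap.polar_comm]; exact hv u⟩

section zeros

/-- Zeros of the split form. -/
theorem card_zero_plus (k : ℕ) :
    (Fintype.card F : ℤ) * Nat.card {x : Fin k ⊕ Fin k → F // Cfsg.quadFormPlus k F x = 0} =
      (Fintype.card F : ℤ) ^ (2 * k) - (Fintype.card F : ℤ) ^ k + (Fintype.card F : ℤ) ^ (k + 1) := by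
  have h := CfsgLib.ZeroCount.card_zero (F := F) (fun _ : Unit => (0 : F)) k
  rw [Nat.card_congr (Equiv.subtypeEquiv (Equiv.prodPUnit _) (q := fun x => Cfsg.quadFormPlus k F x = 0)
    fun w => by simp)] at h
  rw [h]
  simp

/-- Zeros of the elliptic form. -/
theorem card_zero_minus (j : ℕ) (a b : F)
    (hab : ∀ z₁ z₂ : F, z₁ ^ 2 + a * z₁ * z₂ + b * z₂ ^ 2 = 0 → z₁ = 0 ∧ z₂ = 0) :
    (Fintype.card F : ℤ) * Nat.card {x : (Fin j ⊕ Fin j) ⊕ Fin 2 → F // Cfsg.quadFormMinus j F a b x = 0} =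
      (Fintype.card F : ℤ) ^ (2 * (j + 1)) - (Fintype.card F : ℤ) ^ (j + 2) + (Fintype.card F : ℤ) ^ (j + 1) := by
  have h := CfsgLib.ZeroCount.card_zero (F := F) (bin a b) j
  obtain ⟨e, he⟩ := minus_def j a b
  rw [Nat.card_congr (Equiv.subtypeEquiv e.toEquiv (q := fun x => Cfsg.quadFormMinus j F a b x = 0)
    fun w => by rw [show e.toEquiv w = e w from rfl, he]; rfl)] at h
  have h1 : Nat.card {z : Fin 2 → F // bin a b z = 0} = 1 := Nat.card_eq_one_iff_unique.mpr
    ⟨⟨fun y z => Subtype.ext (by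
      funext i
      obtain ⟨y0, y1⟩ := hab _ _ y.2
      obtain ⟨z0, z1⟩ := hab _ _ z.2
      fin_cases i <;> simp [y0, y1, z0, z1])⟩, ⟨⟨0, by simp [bin]⟩⟩⟩
  rw [h, h1, Fintype.card_fun, Fintype.card_fin]
  push_cast
  ring

theorem card_zero_modEq {V : Type v} [AddCommGroup V] [Module F V] [FiniteDimensional F V] (hr : r.Prime)
    {Q : V → F} (hQ0 : Q 0 = 0) {f : F[X]} (hf : Real r Q f) (h1 : f.eval 1 ≠ 0) :
    (Nat.card {x : V // Q x = 0} : ZMod r) = 1 := by
  classical
  haveI := Fact.mk hr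
  haveI : Finite V := Module.finite_of_finite F
  haveI := Fintype.ofFinite V
  obtain ⟨T, hT, hTr, hTc⟩ := hf
  let g : Function.End {x : V // Q x = 0} := fun x => ⟨T x, (hT x).trans x.2⟩
  have hg : ∀ (n : ℕ) x, (((g ^ n) x) : V) = (T ^ n) x.1 := fun n => by
    induction n with
    | zero => intro x; rfl
    | succ n ih => intro x; rw [pow_succ, pow_succ]; exact ih (g x)
  have hgr : g ^ r ^ 1 = 1 := by
    rw [pow_one]
    funext x
    exact Subtype.ext (by rw [hg, hTr]; rfl)
  have hfix : Fintype.card (Function.fixedPoints g) = 1 := by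
    refine Fintype.card_eq_one_iff.mpr ⟨⟨⟨0, hQ0⟩, Subtype.ext (map_zero T)⟩, fun x => ?_⟩
    exact Subtype.ext (Subtype.ext (fpf_of_real (hTc ▸ h1) _ (congrArg Subtype.val x.2)))
  have h := Equiv.Perm.card_fixedPoints_modEq hgr
  rw [hfix, ← Nat.card_eq_fintype_card] at h
  rw [(ZMod.natCast_eq_natCast_iff _ _ r).mpr h, Nat.cast_one]

theorem plus_parity (hr : r.Prime) {k : ℕ} {f : F[X]}
    (hf : Real r (Cfsg.quadFormPlus k F) f) (h1 : f.eval 1 ≠ 0) :
    ((Fintype.card F : ZMod r) ^ k - 1) * ((Fintype.card F : ZMod r) ^ k + Fintype.card F) = 0 := by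
  have h := congrArg (Int.cast : ℤ → ZMod r) (card_zero_plus (F := F) k)
  push_cast at h
  rw [card_zero_modEq hr (by simp [Cfsg.quadFormPlus]) hf h1, two_mul, pow_add, pow_succ] at h
  linear_combination -h

theorem minus_parity (hr : r.Prime) {j : ℕ} (a b : F)
    (hab : ∀ z₁ z₂ : F, z₁ ^ 2 + a * z₁ * z₂ + b * z₂ ^ 2 = 0 → z₁ = 0 ∧ z₂ = 0) {f : F[X]}
    (hf : Real r (Cfsg.quadFormMinus j F a b) f) (h1 : f.eval 1 ≠ 0) :
    ((Fintype.card F : ZMod r) ^ (j + 1) + 1) * ((Fintype.card F : ZMod r) ^ (j + 1) - Fintype.card F) = 0 := by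
  have h := congrArg (Int.cast : ℤ → ZMod r) (card_zero_minus j a b hab)
  push_cast at h
  rw [card_zero_modEq hr (by simp [Cfsg.quadFormMinus]) hf h1] at h
  linear_combination -h

include hp in
/-- The split and the elliptic space share no fixed-point-free isometry class of odd order. -/
theorem not_both (hr : Odd r) {j : ℕ} (a b : F)
    (hab : ∀ z₁ z₂ : F, z₁ ^ 2 + a * z₁ * z₂ + b * z₂ ^ 2 = 0 → z₁ = 0 ∧ z₂ = 0) {f : F[X]}
    (hr' : ¬ p ∣ r) (hp' : Real r (Cfsg.quadFormPlus (j + 1) F) f) (hm' : Real r (Cfsg.quadFormMinus j F a b) f)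
    (h1 : f.eval 1 ≠ 0) : False := by
  classical
  obtain ⟨Qp, hQp, hQpn⟩ := CfsgLib.Orth.exists_quadForm_plus (F := F) (j + 1)
  obtain ⟨Qm, hQm, hQmn⟩ := CfsgLib.Orth.exists_quadForm_minus j hab
  obtain ⟨S, hS, hSr, hSc⟩ := hp'
  obtain ⟨T, hT, hTr, hTc⟩ := hm'
  obtain ⟨e, he⟩ := SemisimpleClasses.exists_conj_aux _ _ _ T S rfl
    (SemisimpleDet.isSemisimple_of_pow p T hr' hTr) (SemisimpleDet.isSemisimple_of_pow p S hr' hSr)
    (hTc.trans hSc.symm)
  obtain ⟨y, -, hy⟩ := OrthSemisimple.exists_equiv_of_fpf Qm (Qp.comp (e : _ →ₗ[F] _)) hQmn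
    (fun v hv => e.map_eq_zero_iff.1 (hQpn _ fun w => by
      have := hv (e.symm w)
      simpa [QuadraticMap.polar, QuadraticMap.comp_apply] using this))
    T (by rw [hQm]; exact hT) (fun v => by
      show Qp (e (T v)) = Qp (e v)
      rw [he, hQp, hS])
    hr hTr (fun x => fpf_of_real (hTc ▸ h1) x)
  have hcard : Nat.card {x : Fin (j + 1) ⊕ Fin (j + 1) → F // Cfsg.quadFormPlus (j + 1) F x = 0} =
      Nat.card {x : (Fin j ⊕ Fin j) ⊕ Fin 2 → F // Cfsg.quadFormMinus j F a b x = 0} :=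
    Nat.card_congr (Equiv.subtypeEquiv (e.symm.trans y).toEquiv fun x => by
      have := hy (e.symm x)
      rw [QuadraticMap.comp_apply, hQm, hQp] at this
      simp only [LinearEquiv.coe_coe, e.apply_symm_apply] at this
      rw [← this]; rfl)
  have h2 := card_zero_minus j a b hab
  rw [← hcard, card_zero_plus, show j + 1 + 1 = j + 2 from rfl] at h2
  have hq : (1 : ℤ) < Fintype.card F := by exact_mod_cast Fintype.one_lt_card
  have : (Fintype.card F : ℤ) ^ (j + 1) < (Fintype.card F : ℤ) ^ (j + 2) := pow_lt_pow_right₀ hq (by omega)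
  linarith

end zeros

end CfsgLib.Classical.OrthPrimeReal
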