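import Cfsg.Agent.Lib.Classical.InvolutionData
import Cfsg.Agent.Lib.Classical.OrthOrderStd
import Cfsg.Agent.Lib.Classical.OrthPrimeReal
import Cfsg.Agent.Lib.Classical.OrthForms

/-!
Counting isotropic and singular tuples, and the identities between the group orders they give.
-/

set_option autoImplicit false

namespace CfsgLib.Classical.InvolutionCount

open Module
open CfsgLib.SympCount (Symp)

universe u

variable {F : Type u} [Field F] [Finite F]

/-- Independent tuples with pairwise orthogonal entries. -/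
def IsoTuple {V : Type u} [AddCommGroup V] [Module F V] (B : LinearMap.BilinForm F V) {s : ℕ}
    (w : Fin s → V) : Prop :=
  LinearIndependent F w ∧ ∀ i j, B (w i) (w j) = 0

omit [Field F] [Finite F] in
theorem snoc_split {V : Type u} {s : ℕ} (P : (Fin (s + 1) → V) → Prop)
    (P' : (Fin s → V) → Prop) (R : (Fin s → V) → V → Prop)
    (h : ∀ w v, P (Fin.snoc w v) ↔ P' w ∧ R w v) (c : ℕ) [Finite V]
    (hc : ∀ w, P' w → Nat.card {v // R w v} = c) :
    Nat.card {w // P w} = Nat.card {w // P' w} * c := by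
  have e : {w // P w} ≃ Σ w : {w // P' w}, {v // R w.1 v} :=
    { toFun := fun w => ⟨⟨Fin.init w.1, ((h _ _).1 (by rw [Fin.snoc_init_self]; exact w.2)).1⟩,
        ⟨w.1 (Fin.last s), ((h _ _).1 (by rw [Fin.snoc_init_self]; exact w.2)).2⟩⟩
      invFun := fun p => ⟨Fin.snoc p.1.1 p.2.1, (h _ _).2 ⟨p.1.2, p.2.2⟩⟩
      left_inv := fun w => Subtype.ext (Fin.snoc_init_self w.1)
      right_inv := fun p => Sigma.subtype_ext (Subtype.ext (funext fun i => by simp [Fin.init])) (by simp) }
  cases nonempty_fintype {w // P' w}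
  rw [Nat.card_congr e, Nat.card_sigma, Finset.sum_const_nat fun w _ => hc w.1 w.2, Finset.card_univ,
    Nat.card_eq_fintype_card]

omit [Finite F] in
theorem mem_orth_of_gen {V : Type u} [AddCommGroup V] [Module F V] (B : LinearMap.BilinForm F V)
    {s : ℕ} {w : Fin s → V} {v : V} :
    v ∈ B.orthogonal (Submodule.span F (Set.range w)) ↔ ∀ i, B (w i) v = 0 := by
  refine ⟨fun h i => h _ (Submodule.subset_span ⟨i, rfl⟩), fun h n hn => ?_⟩
  show B n v = 0
  induction hn using Submodule.span_induction with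
  | mem x hx => obtain ⟨i, rfl⟩ := hx; exact h i
  | zero => simp
  | add x y _ _ hx hy => simp [hx, hy]
  | smul c x _ hx => simp [hx]

omit [Finite F] in
theorem snoc_iso_iff {V : Type u} [AddCommGroup V] [Module F V] {B : LinearMap.BilinForm F V}
    (hA : B.IsAlt) {s : ℕ} {w : Fin s → V} {v : V} :
    IsoTuple B (Fin.snoc w v : Fin (s + 1) → V) ↔
      IsoTuple B w ∧ (∀ i, B (w i) v = 0) ∧ v ∉ Submodule.span F (Set.range w) := by
  refine ⟨fun ⟨hli, hB⟩ => ?_, fun ⟨⟨hli, hB⟩, hv, hnot⟩ => ?_⟩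
  · rw [linearIndependent_finSnoc] at hli
    exact ⟨⟨hli.1, fun i j => by simpa using hB i.castSucc j.castSucc⟩,
      fun i => by simpa using hB i.castSucc (Fin.last s), hli.2⟩
  · refine ⟨linearIndependent_finSnoc.2 ⟨hli, hnot⟩, fun i j => ?_⟩
    cases i using Fin.lastCases with
    | last =>
      cases j using Fin.lastCases with
      | last => simpa using hA v
      | cast j => rw [Fin.snoc_last, Fin.snoc_castSucc, ← hA.neg_eq, hv j, neg_zero]
    | cast i =>
      cases j using Fin.lastCases with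
      | last => simpa using hv i
      | cast j => simpa using hB i j

theorem card_isoTuple {V : Type u} [AddCommGroup V] [Module F V] [FiniteDimensional F V]
    {B : LinearMap.BilinForm F V} (h : Symp B) {m : ℕ} (hd : finrank F V = m + m) :
    ∀ s, s ≤ m → Nat.card {w : Fin s → V // IsoTuple B w} =
      ∏ i ∈ Finset.range s, (Nat.card F ^ (2 * m - i) - Nat.card F ^ i) := by
  classical
  have : Finite V := Module.finite_of_finite F
  intro s
  induction s with
  | zero =>
    intro _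
    rw [Finset.range_zero, Finset.prod_empty, Nat.card_eq_one_iff_unique]
    exact ⟨⟨fun a b => Subtype.ext (funext fun i => i.elim0)⟩,
      ⟨⟨Fin.elim0, linearIndependent_empty_type, fun i => i.elim0⟩⟩⟩
  | succ s ih =>
    intro hs
    rw [Finset.prod_range_succ, ← ih (by omega)]
    refine snoc_split _ _ (fun w v => (∀ i, B (w i) v = 0) ∧ v ∉ Submodule.span F (Set.range w))
      (fun w v => snoc_iso_iff h.alt) _ fun w hw => ?_
    set S := Submodule.span F (Set.range w)
    have hS : finrank F S = s := by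
      rw [finrank_span_eq_card hw.1, Fintype.card_fin]
    have hle : (S : Set V) ⊆ (B.orthogonal S : Set V) := fun x hx => by
      show x ∈ B.orthogonal S
      refine (mem_orth_of_gen B).2 fun i => ?_
      induction hx using Submodule.span_induction with
      | mem y hy => obtain ⟨j, rfl⟩ := hy; exact hw.2 i j
      | zero => simp
      | add x y _ _ hx hy => simp [hx, hy]
      | smul c x _ hx => simp [hx]
    have e : {v // (∀ i, B (w i) v = 0) ∧ v ∉ S} ≃ ↥((B.orthogonal S : Set V) \ S) :=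
      Equiv.subtypeEquivRight fun v => by
        show _ ↔ v ∈ B.orthogonal S ∧ v ∉ S
        rw [mem_orth_of_gen]
    rw [Nat.card_congr e, Nat.card_coe_set_eq, Set.ncard_diff hle, ← Nat.card_coe_set_eq,
      ← Nat.card_coe_set_eq]
    show Nat.card (B.orthogonal S) - Nat.card S = _
    rw [natCard_eq_pow_finrank (K := F), natCard_eq_pow_finrank (K := F) (V := S),
      LinearMap.BilinForm.finrank_orthogonal (InvolutionData.nondegenerate h), hd, hS, two_mul]

/-! ### Singular tuples in the standard hyperbolic space -/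

section plus

variable {m : ℕ} {Q : QuadraticForm F (Fin m ⊕ Fin m → F)}

local notation "bQ" => QuadraticMap.polarBilin Q

/-- Independent tuples spanning a singular subspace. -/
def SingTuple (Q : QuadraticForm F (Fin m ⊕ Fin m → F)) {s : ℕ}
    (w : Fin s → Fin m ⊕ Fin m → F) : Prop :=
  IsoTuple (QuadraticMap.polarBilin Q) w ∧ ∀ i, Q (w i) = 0

omit [Finite F] in
theorem q_span {s : ℕ} {w : Fin s → Fin m ⊕ Fin m → F} (hw : SingTuple Q w)
    {x : Fin m ⊕ Fin m → F} (hx : x ∈ Submodule.span F (Set.range w)) :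
    Q x = 0 ∧ ∀ i, bQ (w i) x = 0 := by
  induction hx using Submodule.span_induction with
  | mem y hy => obtain ⟨j, rfl⟩ := hy; exact ⟨hw.2 j, fun i => hw.1.2 i j⟩
  | zero => simp
  | add x y hx' _ hx hy =>
    refine ⟨?_, fun i => by rw [map_add, hx.2 i, hy.2 i, add_zero]⟩
    have hxy : bQ y x = 0 := (mem_orth_of_gen bQ).2 hx.2 y (by assumption)
    rw [QuadraticMap.map_add (f := ⇑Q), hx.1, hy.1, QuadraticMap.polar_comm, ← QuadraticMap.polarBilin_apply_apply,
      hxy, add_zero, add_zero]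
  | smul c x _ hx =>
    exact ⟨by rw [QuadraticMap.map_smul, hx.1, smul_zero], fun i => by rw [map_smul, hx.2 i, smul_zero]⟩

theorem exists_move (hB : CfsgLib.Orth.Nondeg Q) {s : ℕ} {w e : Fin s → Fin m ⊕ Fin m → F}
    (hw : SingTuple Q w) (he : SingTuple Q e) :
    ∃ g : (Fin m ⊕ Fin m → F) ≃ₗ[F] (Fin m ⊕ Fin m → F), (∀ x, Q (g x) = Q x) ∧ ∀ i, g (w i) = e i := by
  let φ := (Basis.span hw.1.1).equiv (Basis.span he.1.1) (Equiv.refl _)
  obtain ⟨g, hg, hgX⟩ := CfsgLib.Classical.Witt.witt_quadratic Q (CfsgLib.Orth.bilin_nondeg hB) _ _ φ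
    fun x => by rw [(q_span hw x.2).1, (q_span he (φ x).2).1]
  refine ⟨g, hg, fun i => ?_⟩
  have h := hgX (Basis.span hw.1.1 i)
  rw [Basis.equiv_apply, Equiv.refl_apply, Basis.span_apply, Basis.span_apply] at h
  exact h

omit [Finite F] in
theorem bq_single (hQ : ⇑Q = Cfsg.quadFormPlus m F) (j : Fin m) (x : Fin m ⊕ Fin m → F) :
    bQ (Pi.single (.inl j) 1) x = x (.inr j) := by
  rw [QuadraticMap.polarBilin_apply_apply, hQ, CfsgLib.Orth.polar_plus, Finset.sum_eq_single j
    (fun b _ hb => by simp [hb]) (by simp)]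
  simp

omit [Finite F] in
theorem std_sing (hQ : ⇑Q = Cfsg.quadFormPlus m F) {k : ℕ} (hk : k ≤ m) :
    SingTuple Q fun i : Fin k => Pi.single (Sum.inl (Fin.castLE hk i)) (1 : F) := by
  refine ⟨⟨?_, fun i j => by rw [bq_single hQ]; simp⟩, fun i => ?_⟩
  · exact (Pi.linearIndependent_single_one (Fin m ⊕ Fin m) F).comp _
      (Sum.inl_injective.comp (Fin.castLE_injective hk))
  · rw [hQ, Cfsg.quadFormPlus]
    exact Finset.sum_eq_zero fun b _ => by simp

/-- The vectors orthogonal to a singular tuple with a given value of `Q`. -/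
theorem card_level (hQ : ⇑Q = Cfsg.quadFormPlus m F) (hB : CfsgLib.Orth.Nondeg Q) {k : ℕ}
    (hk : k ≤ m) {w : Fin k → Fin m ⊕ Fin m → F} (hw : SingTuple Q w) (a : F) :
    Nat.card {v // (∀ i, bQ (w i) v = 0) ∧ Q v = a} =
      Nat.card F ^ k * Nat.card {z : Fin (m - k) ⊕ Fin (m - k) → F // Cfsg.quadFormPlus (m - k) F z = a} := by
  obtain ⟨g, hg, hgw⟩ := exists_move hB hw (std_sing hQ hk)
  have hgb : ∀ x y, bQ (g x) (g y) = bQ x y := fun x y => by
    simp only [QuadraticMap.polarBilin_apply_apply, QuadraticMap.polar, ← map_add, hg]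
  have e1 : {v // (∀ i, bQ (w i) v = 0) ∧ Q v = a} ≃
      {v : Fin m ⊕ Fin m → F // (∀ i : Fin k, v (.inr (Fin.castLE hk i)) = 0) ∧
        Cfsg.quadFormPlus m F v = a} :=
    g.toEquiv.subtypeEquiv fun v => by
      show _ ↔ (∀ i : Fin k, g v _ = 0) ∧ _
      refine and_congr (forall_congr' fun i => ?_) ?_
      · rw [← hgb, hgw, bq_single hQ]
      · rw [← hQ]; exact (hg v).symm ▸ Iff.rfl
  rw [Nat.card_congr e1]
  obtain ⟨l, rfl⟩ := Nat.exists_eq_add_of_le hk
  have hfun : Nat.card F ^ k = Nat.card (Fin k → F) := by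
    rw [Nat.card_fun, Nat.card_eq_fintype_card (α := Fin k), Fintype.card_fin]
  rw [Nat.add_sub_cancel_left, hfun, ← Nat.card_prod]
  have hcast : ∀ i : Fin k, Fin.castLE hk i = Fin.castAdd l i := fun i => rfl
  simp only [hcast]
  refine Nat.card_congr
    { toFun := fun v => (fun i => v.1 (.inl (Fin.castAdd l i)),
        ⟨Sum.elim (fun i => v.1 (.inl (Fin.natAdd k i))) fun i => v.1 (.inr (Fin.natAdd k i)), ?_⟩)
      invFun := fun p => ⟨Sum.elim (Fin.append p.1 (p.2.1 ∘ Sum.inl)) (Fin.append 0 (p.2.1 ∘ Sum.inr)),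
        fun i => by simp, ?_⟩
      left_inv := fun v => ?_
      right_inv := fun p => ?_ }
  · have := v.2.2
    simp only [Cfsg.quadFormPlus, Fin.sum_univ_add, v.2.1, mul_zero, Finset.sum_const_zero,
      zero_add] at this
    simpa [Cfsg.quadFormPlus] using this
  · have := p.2.2
    simpa [Cfsg.quadFormPlus, Fin.sum_univ_add] using this
  · refine Subtype.ext (funext fun r => ?_)
    rcases r with i | i <;> cases i using Fin.addCases with
    | left i => simp [v.2.1]
    | right i => simp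
  · refine Prod.ext (funext fun i => by simp) (Subtype.ext (funext fun r => ?_))
    rcases r with i | i <;> simp

theorem card_plus_zero (j : ℕ) :
    Nat.card {z : Fin (j + 1) ⊕ Fin (j + 1) → F // Cfsg.quadFormPlus (j + 1) F z = 0} =
      (Nat.card F ^ (j + 1) - 1) * (Nat.card F ^ j + 1) + 1 := by
  cases nonempty_fintype F
  have h := OrthPrimeReal.card_zero_plus (F := F) (j + 1)
  have hq : 0 < Fintype.card F := Fintype.card_pos
  refine Nat.eq_of_mul_eq_mul_left hq (Nat.cast_injective (R := ℤ) ?_)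
  rw [Nat.cast_mul, h, Nat.cast_mul, Nat.cast_add, Nat.cast_mul, Nat.cast_sub (Nat.one_le_pow _ _
    (by rw [Nat.card_eq_fintype_card]; exact hq)), Nat.card_eq_fintype_card]
  push_cast
  ring

theorem card_plus_one [CharP F 2] (j : ℕ) :
    Nat.card {z : Fin (j + 1) ⊕ Fin (j + 1) → F // Cfsg.quadFormPlus (j + 1) F z = 1} =
      Nat.card F ^ j * (Nat.card F ^ (j + 1) - 1) := by
  cases nonempty_fintype F
  have h := CfsgLib.ZeroCount.card_zero (F := F) (fun _ : Unit => (1 : F)) (j + 1)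
  rw [Nat.card_congr (Equiv.subtypeEquiv (Equiv.prodPUnit _)
    (q := fun x => Cfsg.quadFormPlus (j + 1) F x = 1) fun w => by
      simp [add_eq_zero_iff_eq_neg, CharTwo.neg_eq])] at h
  have h0 : Nat.card {_b : Unit // (1 : F) = 0} = 0 := by simp
  rw [h0] at h
  have hq : 0 < Fintype.card F := Fintype.card_pos
  refine Nat.eq_of_mul_eq_mul_left hq (Nat.cast_injective (R := ℤ) ?_)
  rw [Nat.cast_mul, h, Nat.cast_mul, Nat.cast_mul, Nat.cast_sub (Nat.one_le_pow _ _
    (by rw [Nat.card_eq_fintype_card]; exact hq)), Nat.card_eq_fintype_card]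
  push_cast [Fintype.card_unit]
  ring

omit [Finite F] in
theorem snoc_sing_iff (hA : (bQ).IsAlt) {s : ℕ} {w : Fin s → Fin m ⊕ Fin m → F}
    {v : Fin m ⊕ Fin m → F} :
    SingTuple Q (Fin.snoc w v : Fin (s + 1) → Fin m ⊕ Fin m → F) ↔
      SingTuple Q w ∧ ((∀ i, bQ (w i) v = 0) ∧ Q v = 0) ∧ v ∉ Submodule.span F (Set.range w) := by
  rw [SingTuple, snoc_iso_iff hA]
  constructor
  · rintro ⟨⟨h1, h2, h3⟩, hq⟩
    exact ⟨⟨h1, fun i => by simpa using hq i.castSucc⟩, ⟨h2, by simpa using hq (Fin.last s)⟩, h3⟩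
  · rintro ⟨⟨h1, hq⟩, ⟨h2, hv⟩, h3⟩
    refine ⟨⟨h1, h2, h3⟩, fun i => ?_⟩
    cases i using Fin.lastCases with
    | last => simpa using hv
    | cast i => simpa using hq i

theorem card_singTuple (hQ : ⇑Q = Cfsg.quadFormPlus m F) (hB : CfsgLib.Orth.Nondeg Q)
    (hA : (bQ).IsAlt) : ∀ s, s ≤ m → Nat.card {w : Fin s → _ // SingTuple Q w} =
      ∏ i ∈ Finset.range s, Nat.card F ^ i *
        ((Nat.card F ^ (m - i) - 1) * (Nat.card F ^ (m - i - 1) + 1)) := by
  classical
  intro s
  induction s with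
  | zero =>
    intro _
    rw [Finset.range_zero, Finset.prod_empty, Nat.card_eq_one_iff_unique]
    exact ⟨⟨fun a b => Subtype.ext (funext fun i => i.elim0)⟩,
      ⟨⟨Fin.elim0, ⟨linearIndependent_empty_type, fun i => i.elim0⟩, fun i => i.elim0⟩⟩⟩
  | succ s ih =>
    intro hs
    rw [Finset.prod_range_succ, ← ih (by omega)]
    refine snoc_split _ _ (fun w v => ((∀ i, bQ (w i) v = 0) ∧ Q v = 0) ∧ v ∉ Submodule.span F (Set.range w))
      (fun w v => snoc_sing_iff hA) _ fun w hw => ?_
    set S := Submodule.span F (Set.range w)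
    have hle : (S : Set (Fin m ⊕ Fin m → F)) ⊆ {v | (∀ i, bQ (w i) v = 0) ∧ Q v = 0} := fun x hx =>
      ⟨(q_span hw hx).2, (q_span hw hx).1⟩
    have hS : Nat.card S = Nat.card F ^ s := by
      rw [natCard_eq_pow_finrank (K := F), finrank_span_eq_card hw.1.1, Fintype.card_fin]
    have e : {v // ((∀ i, bQ (w i) v = 0) ∧ Q v = 0) ∧ v ∉ S} ≃
        ↥({v | (∀ i, bQ (w i) v = 0) ∧ Q v = 0} \ (S : Set (Fin m ⊕ Fin m → F))) :=
      Equiv.subtypeEquivRight fun v => Iff.rfl
    rw [Nat.card_congr e, Nat.card_coe_set_eq, Set.ncard_diff hle, ← Nat.card_coe_set_eq,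
      ← Nat.card_coe_set_eq]
    show Nat.card {v // (∀ i, bQ (w i) v = 0) ∧ Q v = 0} - Nat.card S = _
    obtain ⟨j, hj⟩ : ∃ j, m - s = j + 1 := ⟨m - s - 1, by omega⟩
    rw [card_level hQ hB (by omega) hw, hS, hj, card_plus_zero, Nat.mul_add, Nat.mul_one,
      Nat.add_sub_cancel, Nat.add_sub_cancel]

/-- Singular tuples followed by an orthogonal vector of norm one. -/
theorem card_unitTuple [CharP F 2] (hQ : ⇑Q = Cfsg.quadFormPlus m F) (hB : CfsgLib.Orth.Nondeg Q)
    (hA : (bQ).IsAlt) {k : ℕ} (hk : k < m) :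
    Nat.card {w : Fin (k + 1) → Fin m ⊕ Fin m → F //
      SingTuple Q (Fin.init w) ∧ (∀ i, bQ (Fin.init w i) (w (Fin.last k)) = 0) ∧ Q (w (Fin.last k)) = 1} =
      (∏ i ∈ Finset.range k, Nat.card F ^ i *
        ((Nat.card F ^ (m - i) - 1) * (Nat.card F ^ (m - i - 1) + 1))) *
        (Nat.card F ^ k * (Nat.card F ^ (m - k - 1) * (Nat.card F ^ (m - k) - 1))) := by
  rw [← card_singTuple hQ hB hA k hk.le]
  refine snoc_split _ _ (fun w v => (∀ i, bQ (w i) v = 0) ∧ Q v = 1)
    (fun w v => by simp) _ fun w hw => ?_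
  obtain ⟨j, hj⟩ : ∃ j, m - k = j + 1 := ⟨m - k - 1, by omega⟩
  rw [card_level hQ hB hk.le hw, hj, card_plus_one, Nat.add_sub_cancel]

end plus

/-! ### The identities between orders -/

section arith

variable {q : ℕ}

/-- The order formula of the symplectic groups. -/
def spOrd (q n : ℕ) : ℕ := q ^ (n ^ 2) * ∏ i : Fin n, (q ^ (2 * ((i : ℕ) + 1)) - 1)

/-- The order formula of the hyperbolic orthogonal groups. -/
def orthOrd (q n : ℕ) : ℕ :=
  if n = 0 then 1 else 2 * q ^ (n * (n - 1)) * (q ^ n - 1) *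
    ∏ i ∈ Finset.range (n - 1), (q ^ (2 * (i + 1)) - 1)

theorem spOrd_succ (n : ℕ) :
    spOrd q (n + 1) = q ^ (2 * n + 1) * (q ^ (2 * (n + 1)) - 1) * spOrd q n := by
  rw [spOrd, spOrd, Fin.prod_univ_castSucc, Fin.val_last]
  simp only [Fin.val_castSucc]
  rw [show (n + 1) ^ 2 = 2 * n + 1 + n ^ 2 by ring, pow_add]
  ring

theorem orthOrd_succ (n : ℕ) :
    orthOrd q (n + 1) = q ^ (2 * n) * ((q ^ (n + 1) - 1) * (q ^ n + 1)) * orthOrd q n := by
  cases n with
  | zero => simp [orthOrd]; ring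
  | succ j =>
    rw [orthOrd, orthOrd, if_neg (Nat.succ_ne_zero _), if_neg (Nat.succ_ne_zero _)]
    simp only [Nat.add_sub_cancel]
    have key : q ^ (2 * (j + 1)) - 1 = (q ^ (j + 1) - 1) * (q ^ (j + 1) + 1) := by
      rw [two_mul, pow_add, mul_comm (q ^ (j + 1) - 1), ← Nat.mul_self_sub_mul_self_eq, one_mul]
    rw [Finset.prod_range_succ, key, show (j + 1 + 1) * (j + 1) = 2 * (j + 1) + (j + 1) * j by ring, pow_add]
    ring

/-- The symplectic order splits off the count of isotropic tuples. -/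
theorem spOrd_split (l s : ℕ) : ∀ e, 2 * e = 4 * l * s + s ^ 2 + s →
    spOrd q (l + s) = q ^ e * (∏ i ∈ Finset.range s, (q ^ (2 * (l + s) - i) - q ^ i)) * spOrd q l := by
  induction s with
  | zero =>
    intro e he
    rw [show e = 0 by simpa using he]
    simp
  | succ s ih =>
    intro e he
    obtain ⟨e₀, he₀⟩ : ∃ e₀, e = e₀ + (2 * l + s + 1) := ⟨e - (2 * l + s + 1), by
      have : 2 * (2 * l + s + 1) ≤ 2 * e := by
        rw [he]; nlinarith
      omega⟩
    have h := ih e₀ (by subst he₀; linarith)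
    have hstep : ∀ i ∈ Finset.range s, q ^ (2 * (l + s + 1) - (i + 1)) - q ^ (i + 1) =
        q * (q ^ (2 * (l + s) - i) - q ^ i) := fun i hi => by
      rw [Finset.mem_range] at hi
      rw [Nat.mul_sub, ← pow_succ', ← pow_succ']
      congr 2; omega
    rw [← Nat.add_assoc, spOrd_succ, h, Finset.prod_range_succ', Finset.prod_congr rfl hstep,
      Finset.prod_mul_distrib, Finset.prod_const, Finset.card_range, Nat.sub_zero, pow_zero, he₀]
    simp only [mul_add, pow_add]
    ring

/-- The orthogonal order splits off the count of singular tuples. -/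
theorem orthOrd_split (l s : ℕ) : ∀ e, 2 * e + s = 4 * l * s + s ^ 2 →
    orthOrd q (l + s) = q ^ e * (∏ i ∈ Finset.range s,
      q ^ i * ((q ^ (l + s - i) - 1) * (q ^ (l + s - i - 1) + 1))) * orthOrd q l := by
  induction s with
  | zero =>
    intro e he
    rw [show e = 0 by simpa using he]
    simp
  | succ s ih =>
    intro e he
    obtain ⟨e₀, he₀⟩ : ∃ e₀, e = e₀ + (2 * l + s) := ⟨e - (2 * l + s), by
      have : 2 * (2 * l + s) ≤ 2 * e := by
        by_contra hlt
        have h1 : s ^ 2 + s = s * (s + 1) := by ring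
        nlinarith [Nat.zero_le (l * s)]
      omega⟩
    have h := ih e₀ (by subst he₀; linarith)
    have hstep : ∀ i ∈ Finset.range s,
        q ^ (i + 1) * ((q ^ (l + s + 1 - (i + 1)) - 1) * (q ^ (l + s + 1 - (i + 1) - 1) + 1)) =
        q * (q ^ i * ((q ^ (l + s - i) - 1) * (q ^ (l + s - i - 1) + 1))) := fun i _ => by
      rw [Nat.succ_sub_succ, pow_succ']
      ring
    have hprod := Finset.prod_congr rfl hstep
    rw [Finset.prod_mul_distrib (f := fun _ => q), Finset.prod_const, Finset.card_range] at hprod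
    rw [← Nat.add_assoc, orthOrd_succ, h, Finset.prod_range_succ', hprod, he₀]
    simp only [Nat.sub_zero, pow_zero, one_mul, Nat.add_sub_cancel, mul_add, pow_add]
    ring

end arith

end CfsgLib.Classical.InvolutionCount
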