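import Mathlib

/-!
The number of nilpotent square matrices over a finite field (Fine–Herstein), by Fitting's decomposition.
-/

set_option autoImplicit false

namespace CfsgLib.NilCount

open Matrix

variable {F : Type*} [Field F]

/-- Block diagonal conjugate. -/
noncomputable def conjBlock {ι κ : Type*} [Fintype ι] [Fintype κ] [DecidableEq ι] [DecidableEq κ]
    (g : GL (ι ⊕ κ) F) (N : Matrix ι ι F) (A : Matrix κ κ F) : Matrix (ι ⊕ κ) (ι ⊕ κ) F :=
  (g : Matrix (ι ⊕ κ) (ι ⊕ κ) F) * fromBlocks N 0 0 A * ((g⁻¹ : GL (ι ⊕ κ) F) : Matrix (ι ⊕ κ) (ι ⊕ κ) F)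

/-- Intertwiners of a nilpotent-plus-invertible matrix are block diagonal. -/
theorem intertwine_zero {ι κ : Type*} [Fintype ι] [Fintype κ] [DecidableEq ι] [DecidableEq κ]
    {N N' : Matrix ι ι F} {A A' : Matrix κ κ F} {n : ℕ} (hN : N ^ n = 0) (hN' : N' ^ n = 0)
    (hA : IsUnit A) (hA' : IsUnit A') (h : Matrix (ι ⊕ κ) (ι ⊕ κ) F)
    (e : h * fromBlocks N 0 0 A = fromBlocks N' 0 0 A' * h) :
    h.toBlocks₁₂ = 0 ∧ h.toBlocks₂₁ = 0 ∧ h.toBlocks₁₁ * N = N' * h.toBlocks₁₁ ∧
      h.toBlocks₂₂ * A = A' * h.toBlocks₂₂ := by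
  have hp : ∀ (X : Matrix ι ι F) (Y : Matrix κ κ F) (j : ℕ),
      (fromBlocks X 0 0 Y) ^ j = fromBlocks (X ^ j) 0 0 (Y ^ j) := by
    intro X Y j
    induction j with
    | zero => simp [fromBlocks_one]
    | succ j ih => simp [pow_succ, ih, fromBlocks_multiply]
  have ej : h * (fromBlocks N 0 0 A) ^ n = (fromBlocks N' 0 0 A') ^ n * h :=
    (SemiconjBy.pow_right (show SemiconjBy h (fromBlocks N 0 0 A) (fromBlocks N' 0 0 A') from e) n)
  rw [hp, hp, hN, hN', ← fromBlocks_toBlocks h, fromBlocks_multiply, fromBlocks_multiply] at ej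
  simp only [Matrix.mul_zero, Matrix.zero_mul, zero_add, add_zero, fromBlocks_inj] at ej
  obtain ⟨-, h12, h21, -⟩ := ej
  have h12' : h.toBlocks₁₂ = 0 := by
    exact (IsUnit.mul_right_eq_zero_iff_matrix (hA.pow n)).1 h12
  have h21' : h.toBlocks₂₁ = 0 := by
    exact (IsUnit.mul_left_eq_zero_iff_matrix (hA'.pow n)).1 h21.symm
  rw [← fromBlocks_toBlocks h, fromBlocks_multiply, fromBlocks_multiply] at e
  simp only [h12', h21', Matrix.mul_zero, Matrix.zero_mul, zero_add, add_zero, fromBlocks_inj] at e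
  exact ⟨h12', h21', e.1, e.2.2.2⟩
where
  IsUnit.mul_right_eq_zero_iff_matrix {ι κ : Type _} [Fintype κ] [DecidableEq κ]
      {X : Matrix ι κ F} {A : Matrix κ κ F} (hA : IsUnit A) : X * A = 0 ↔ X = 0 := by
    obtain ⟨u, rfl⟩ := hA
    refine ⟨fun h => ?_, fun h => by rw [h, Matrix.zero_mul]⟩
    rw [← Matrix.mul_one X, ← u.mul_inv, ← Matrix.mul_assoc, h, Matrix.zero_mul]
  IsUnit.mul_left_eq_zero_iff_matrix {ι κ : Type _} [Fintype κ] [DecidableEq κ]
      {X : Matrix κ ι F} {A : Matrix κ κ F} (hA : IsUnit A) : A * X = 0 ↔ X = 0 := by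
    obtain ⟨u, rfl⟩ := hA
    refine ⟨fun h => ?_, fun h => by rw [h, Matrix.mul_zero]⟩
    rw [← Matrix.one_mul X, ← u.inv_mul, Matrix.mul_assoc, h, Matrix.mul_zero]

/-- Fitting normal form. -/
theorem exists_conjBlock {k m : ℕ} (M : Matrix (Fin k ⊕ Fin m) (Fin k ⊕ Fin m) F)
    (hM : (M ^ (k + m)).rank = m) :
    ∃ (g : GL (Fin k ⊕ Fin m) F) (N : Matrix (Fin k) (Fin k) F) (A : GL (Fin m) F),
      IsNilpotent N ∧ conjBlock g N (A : Matrix (Fin m) (Fin m) F) = M := by
  classical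
  set f := Matrix.toLin' M with hf
  have hdim : Module.finrank F (Fin k ⊕ Fin m → F) = k + m := by simp
  have hpow : f ^ (k + m) = Matrix.toLin' (M ^ (k + m)) := (map_pow Matrix.toLinAlgEquiv' M _).symm
  have hr : Module.finrank F ↥(LinearMap.range (f ^ (k + m))) = m := by
    rw [hpow, Matrix.toLin'_apply']; exact hM
  have hk : Module.finrank F ↥(LinearMap.ker (f ^ (k + m))) = k := by
    have := LinearMap.finrank_range_add_finrank_ker (f ^ (k + m))
    omega
  have hdisj : LinearMap.ker (f ^ (k + m)) ⊓ LinearMap.range (f ^ (k + m)) = ⊥ := by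
    rw [eq_bot_iff]
    rintro x ⟨hx, y, rfl⟩
    rw [Submodule.mem_bot]
    have hy : y ∈ LinearMap.ker (f ^ (k + m + (k + m))) := by
      rw [LinearMap.mem_ker, pow_add]; exact hx
    rw [Module.End.ker_pow_eq_ker_pow_finrank_of_le (by omega), hdim] at hy
    exact hy
  have hc : IsCompl (LinearMap.ker (f ^ (k + m))) (LinearMap.range (f ^ (k + m))) := by
    refine ⟨disjoint_iff.2 hdisj, codisjoint_iff.2 (Submodule.eq_top_of_finrank_eq ?_)⟩
    have := Submodule.finrank_sup_add_finrank_inf_eq (LinearMap.ker (f ^ (k + m)))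
      (LinearMap.range (f ^ (k + m)))
    rw [hdisj, finrank_bot, hk, hr] at this
    omega
  let b : Module.Basis (Fin k ⊕ Fin m) F (Fin k ⊕ Fin m → F) :=
    ((Module.finBasisOfFinrankEq F _ hk).prod (Module.finBasisOfFinrankEq F _ hr)).map
      (Submodule.prodEquivOfIsCompl _ _ hc)
  have hbl : ∀ i, b (.inl i) ∈ LinearMap.ker (f ^ (k + m)) := fun i => by simp [b]
  have hbr : ∀ i, b (.inr i) ∈ LinearMap.range (f ^ (k + m)) := fun i => by simp [b]
  have hker_repr : ∀ x ∈ LinearMap.ker (f ^ (k + m)), ∀ i, b.repr x (.inr i) = 0 := by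
    intro x hx i
    simp [b, Submodule.prodEquivOfIsCompl_symm_apply_left _ _ hc ⟨x, hx⟩]
  have hrange_repr : ∀ x ∈ LinearMap.range (f ^ (k + m)), ∀ i, b.repr x (.inl i) = 0 := by
    intro x hx i
    simp [b, Submodule.prodEquivOfIsCompl_symm_apply_right _ _ hc ⟨x, hx⟩]
  set T := LinearMap.toMatrix b b f with hT
  have hfk : ∀ x ∈ LinearMap.ker (f ^ (k + m)), f x ∈ LinearMap.ker (f ^ (k + m)) := fun x hx => by
    rw [LinearMap.mem_ker] at hx ⊢
    rw [← Module.End.mul_apply, ← pow_succ, pow_succ', Module.End.mul_apply, hx, map_zero]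
  have hfr : ∀ x ∈ LinearMap.range (f ^ (k + m)), f x ∈ LinearMap.range (f ^ (k + m)) := by
    rintro x ⟨y, rfl⟩
    exact ⟨f y, by rw [← Module.End.mul_apply, ← pow_succ, pow_succ', Module.End.mul_apply]⟩
  have hT12 : T.toBlocks₁₂ = 0 := by
    ext i j
    exact (LinearMap.toMatrix_apply b b f _ _).trans (hrange_repr _ (hfr _ (hbr j)) i)
  have hT21 : T.toBlocks₂₁ = 0 := by
    ext i j
    exact (LinearMap.toMatrix_apply b b f _ _).trans (hker_repr _ (hfk _ (hbl j)) i)
  have hTeq : T = fromBlocks T.toBlocks₁₁ 0 0 T.toBlocks₂₂ := by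
    conv_lhs => rw [← fromBlocks_toBlocks T, hT12, hT21]
  have hTn : ∀ j : ℕ, T ^ j = fromBlocks (T.toBlocks₁₁ ^ j) 0 0 (T.toBlocks₂₂ ^ j) := by
    intro j
    induction j with
    | zero => simp [fromBlocks_one]
    | succ j ih =>
      rw [pow_succ, ih]
      nth_rewrite 3 [hTeq]
      simp [fromBlocks_multiply, pow_succ]
  have hN : T.toBlocks₁₁ ^ (k + m) = 0 := by
    have h1 : T ^ (k + m) = LinearMap.toMatrix b b (f ^ (k + m)) :=
      (map_pow (LinearMap.toMatrixAlgEquiv b) f _).symm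
    ext i j
    have h2 := congrFun (congrFun h1 (.inl i)) (.inl j)
    rw [hTn, fromBlocks_apply₁₁, LinearMap.toMatrix_apply, LinearMap.mem_ker.1 (hbl j)] at h2
    simpa using h2
  have hA : IsUnit T.toBlocks₂₂ := by
    rw [← Matrix.mulVec_injective_iff_isUnit, ← Matrix.coe_mulVecLin, injective_iff_map_eq_zero]
    intro x hx
    rw [Matrix.mulVecLin_apply] at hx
    set v := b.equivFun.symm (Sum.elim (0 : Fin k → F) x) with hv
    have hrep : ⇑(b.repr v) = Sum.elim (0 : Fin k → F) x := by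
      rw [← Module.Basis.equivFun_apply, hv, LinearEquiv.apply_symm_apply]
    have hfv : f v = 0 := by
      refine b.equivFun.injective ?_
      rw [map_zero, Module.Basis.equivFun_apply, ← LinearMap.toMatrix_mulVec_repr b b f v, ← hT,
        hrep, hTeq, fromBlocks_mulVec]
      simp only [Sum.elim_comp_inl, Sum.elim_comp_inr, Matrix.zero_mulVec, Matrix.mulVec_zero,
        add_zero, hx]
      funext i; cases i <;> rfl
    have hvk : v ∈ LinearMap.ker (f ^ (k + m)) := by
      rcases Nat.eq_zero_or_pos (k + m) with h0 | h0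
      · obtain ⟨rfl, rfl⟩ : k = 0 ∧ m = 0 := by omega
        rw [Subsingleton.elim v 0]
        exact zero_mem _
      · obtain ⟨j, hj⟩ : ∃ j, k + m = j + 1 := ⟨k + m - 1, by omega⟩
        rw [LinearMap.mem_ker, hj, pow_succ, Module.End.mul_apply, hfv, map_zero]
    funext i
    have := hker_repr v hvk i
    rwa [hrep] at this
  let P : GL (Fin k ⊕ Fin m) F :=
    ⟨(Pi.basisFun F _).toMatrix b, b.toMatrix (Pi.basisFun F _),
      Module.Basis.toMatrix_mul_toMatrix_flip _ _, Module.Basis.toMatrix_mul_toMatrix_flip _ _⟩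
  refine ⟨P, T.toBlocks₁₁, hA.unit, ⟨k + m, hN⟩, ?_⟩
  rw [conjBlock, IsUnit.unit_spec, ← hTeq]
  show (Pi.basisFun F _).toMatrix b * T * b.toMatrix (Pi.basisFun F _) = M
  rw [basis_toMatrix_mul_linearMap_toMatrix_mul_basis_toMatrix]
  exact LinearMap.toMatrix'_toLin' M

/-- The rank of a high power of a conjugated block matrix. -/
theorem rank_conjBlock {k m : ℕ} (g : GL (Fin k ⊕ Fin m) F) {N : Matrix (Fin k) (Fin k) F}
    (hN : N ^ (k + m) = 0) (A : GL (Fin m) F) :
    (conjBlock g N (A : Matrix (Fin m) (Fin m) F) ^ (k + m)).rank = m := by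
  classical
  have hp : ∀ j : ℕ, (fromBlocks N 0 0 (A : Matrix (Fin m) (Fin m) F)) ^ j =
      fromBlocks (N ^ j) 0 0 ((A : Matrix (Fin m) (Fin m) F) ^ j) := by
    intro j
    induction j with
    | zero => simp [fromBlocks_one]
    | succ j ih => simp [pow_succ, ih, fromBlocks_multiply]
  have hpow : conjBlock g N (A : Matrix (Fin m) (Fin m) F) ^ (k + m) =
      (g : Matrix _ _ F) * fromBlocks 0 0 0 ((A : Matrix (Fin m) (Fin m) F) ^ (k + m)) *
        ((g⁻¹ : GL (Fin k ⊕ Fin m) F) : Matrix _ _ F) := by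
    rw [conjBlock, Units.conj_pow, hp, hN]
  have hd : fromBlocks (0 : Matrix (Fin k) (Fin k) F) 0 0 ((A : Matrix (Fin m) (Fin m) F) ^ (k + m)) =
      fromBlocks (1 : Matrix (Fin k) (Fin k) F) 0 0 ((A : Matrix (Fin m) (Fin m) F) ^ (k + m)) *
        Matrix.diagonal (Sum.elim (fun _ : Fin k => (0 : F)) (fun _ : Fin m => 1)) := by
    rw [← fromBlocks_diagonal, fromBlocks_multiply]
    simp
  have hu : IsUnit (fromBlocks (1 : Matrix (Fin k) (Fin k) F) 0 0 ((A : Matrix (Fin m) (Fin m) F) ^ (k + m))).det := by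
    rw [det_fromBlocks_zero₁₂, det_one, one_mul]
    exact (Matrix.isUnit_iff_isUnit_det _).1 (A.isUnit.pow _)
  rw [hpow, hd, Matrix.rank_mul_eq_left_of_isUnit_det _ _
      ((Matrix.isUnit_iff_isUnit_det _).1 (g⁻¹).isUnit),
    Matrix.rank_mul_eq_right_of_isUnit_det _ _ ((Matrix.isUnit_iff_isUnit_det _).1 g.isUnit),
    Matrix.rank_mul_eq_right_of_isUnit_det _ _ hu, Matrix.rank_diagonal, Fintype.card_subtype]
  simp [Finset.card_filter, Fintype.sum_sum_type]

variable [Fintype F]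

/-- Number of nilpotent matrices of size `k`. -/
noncomputable def nilCard (F : Type*) [Field F] (k : ℕ) : ℕ :=
  Nat.card {N : Matrix (Fin k) (Fin k) F // IsNilpotent N}

/-- One Fitting stratum. -/
theorem card_stratum (k m : ℕ) :
    Nat.card {M : Matrix (Fin k ⊕ Fin m) (Fin k ⊕ Fin m) F // (M ^ (k + m)).rank = m} *
      (Nat.card (GL (Fin k) F) * Nat.card (GL (Fin m) F)) =
    Nat.card (GL (Fin k ⊕ Fin m) F) * (nilCard F k * Nat.card (GL (Fin m) F)) := by
  classical
  have hnil : ∀ N : {N : Matrix (Fin k) (Fin k) F // IsNilpotent N}, N.1 ^ (k + m) = 0 := fun N => by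
    have h := (Matrix.isNilpotent_charpoly_sub_pow_of_isNilpotent N.2).eq_zero
    rw [sub_eq_zero, Fintype.card_fin] at h
    have h0 : N.1 ^ k = 0 := by simpa [h] using Matrix.aeval_self_charpoly N.1
    exact pow_eq_zero_of_le (Nat.le_add_right _ _) h0
  let Dom := GL (Fin k ⊕ Fin m) F ×
    ({N : Matrix (Fin k) (Fin k) F // IsNilpotent N} × GL (Fin m) F)
  let φ : Dom → {M : Matrix (Fin k ⊕ Fin m) (Fin k ⊕ Fin m) F // (M ^ (k + m)).rank = m} :=
    fun x => ⟨conjBlock x.1 x.2.1.1 (x.2.2 : Matrix (Fin m) (Fin m) F),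
      rank_conjBlock x.1 (hnil x.2.1) x.2.2⟩
  have hfib : ∀ y, Nat.card {x // φ x = y} = Nat.card (GL (Fin k) F × GL (Fin m) F) := by
    intro y
    obtain ⟨g, N, A, hN, hy⟩ := exists_conjBlock y.1 y.2
    let dg : GL (Fin k) F → GL (Fin m) F → GL (Fin k ⊕ Fin m) F := fun a d =>
      ⟨fromBlocks (a : Matrix (Fin k) (Fin k) F) 0 0 (d : Matrix (Fin m) (Fin m) F),
        fromBlocks ((a⁻¹ : GL (Fin k) F) : Matrix (Fin k) (Fin k) F) 0 0
          ((d⁻¹ : GL (Fin m) F) : Matrix (Fin m) (Fin m) F),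
        by simp [fromBlocks_multiply, fromBlocks_one],
        by simp [fromBlocks_multiply, fromBlocks_one]⟩
    let back : GL (Fin k) F × GL (Fin m) F → Dom := fun z => (g * dg z.1 z.2,
      ⟨((z.1⁻¹ : GL (Fin k) F) : Matrix (Fin k) (Fin k) F) * N * (z.1 : Matrix (Fin k) (Fin k) F),
        hN.imp fun j hj => by rw [Units.conj_pow', hj, mul_zero, zero_mul]⟩,
      z.2⁻¹ * A * z.2)
    have hback : ∀ z, φ (back z) = y := by
      rintro ⟨a, d⟩
      refine Subtype.ext ?_
      show conjBlock _ _ _ = y.1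
      rw [← hy, conjBlock, conjBlock, _root_.mul_inv_rev]
      show (g : Matrix (Fin k ⊕ Fin m) (Fin k ⊕ Fin m) F) *
          fromBlocks (a : Matrix (Fin k) (Fin k) F) 0 0 (d : Matrix (Fin m) (Fin m) F) *
        fromBlocks (((a⁻¹ : GL (Fin k) F) : Matrix (Fin k) (Fin k) F) * N * (a : Matrix (Fin k) (Fin k) F))
          0 0 ((d⁻¹ * A * d : GL (Fin m) F) : Matrix (Fin m) (Fin m) F) *
        (fromBlocks ((a⁻¹ : GL (Fin k) F) : Matrix (Fin k) (Fin k) F) 0 0
          ((d⁻¹ : GL (Fin m) F) : Matrix (Fin m) (Fin m) F) *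
          ((g⁻¹ : GL (Fin k ⊕ Fin m) F) : Matrix (Fin k ⊕ Fin m) (Fin k ⊕ Fin m) F)) = _
      have key : fromBlocks (a : Matrix (Fin k) (Fin k) F) 0 0 (d : Matrix (Fin m) (Fin m) F) *
          fromBlocks (((a⁻¹ : GL (Fin k) F) : Matrix (Fin k) (Fin k) F) * N * (a : Matrix (Fin k) (Fin k) F))
            0 0 ((d⁻¹ * A * d : GL (Fin m) F) : Matrix (Fin m) (Fin m) F) *
          fromBlocks ((a⁻¹ : GL (Fin k) F) : Matrix (Fin k) (Fin k) F) 0 0
            ((d⁻¹ : GL (Fin m) F) : Matrix (Fin m) (Fin m) F) =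
          fromBlocks N 0 0 (A : Matrix (Fin m) (Fin m) F) := by
        simp [fromBlocks_multiply, Matrix.mul_assoc]
      rw [← key]
      simp only [Matrix.mul_assoc]
    refine (Nat.card_eq_of_bijective (fun z => (⟨back z, hback z⟩ : {x // φ x = y})) ⟨?_, ?_⟩).symm
    · intro z z' e
      have e1 : g * dg z.1 z.2 = g * dg z'.1 z'.2 := congrArg (fun x => x.1.1) e
      have e2 := congrArg Units.val (mul_left_cancel e1)
      simp only [dg, fromBlocks_inj] at e2
      exact Prod.ext (Units.ext e2.1) (Units.ext e2.2.2.2)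
    · rintro ⟨⟨g', ⟨N', hN'⟩, A'⟩, hx⟩
      have hx' : conjBlock g' N' (A' : Matrix (Fin m) (Fin m) F) = conjBlock g N A :=
        (congrArg Subtype.val hx).trans hy.symm
      have hint : ((g⁻¹ * g' : GL (Fin k ⊕ Fin m) F) : Matrix _ _ F) *
          fromBlocks N' 0 0 (A' : Matrix (Fin m) (Fin m) F) =
          fromBlocks N 0 0 (A : Matrix (Fin m) (Fin m) F) *
            ((g⁻¹ * g' : GL (Fin k ⊕ Fin m) F) : Matrix _ _ F) := by
        have := congrArg (fun X => ((g⁻¹ : GL (Fin k ⊕ Fin m) F) : Matrix _ _ F) * X *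
          (g' : Matrix _ _ F)) hx'
        simp only [conjBlock, Matrix.mul_assoc, Units.inv_mul, Matrix.mul_one,
          Units.inv_mul_cancel_left] at this
        rw [Units.val_mul, Matrix.mul_assoc, this]
      set u := g⁻¹ * g' with hu
      obtain ⟨u12, u21, e11, e22⟩ := intertwine_zero (hnil ⟨N', hN'⟩) (hnil ⟨N, hN⟩) A'.isUnit A.isUnit _ hint
      set U := (u : Matrix (Fin k ⊕ Fin m) (Fin k ⊕ Fin m) F) with hU
      have hdiag : U = fromBlocks U.toBlocks₁₁ 0 0 U.toBlocks₂₂ := by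
        conv_lhs => rw [← fromBlocks_toBlocks U, u12, u21]
      have hunit : IsUnit U.toBlocks₁₁ ∧ IsUnit U.toBlocks₂₂ := by
        have := (Matrix.isUnit_iff_isUnit_det U).1 u.isUnit
        rw [hdiag, det_fromBlocks_zero₁₂, IsUnit.mul_iff] at this
        exact ⟨(Matrix.isUnit_iff_isUnit_det _).2 this.1, (Matrix.isUnit_iff_isUnit_det _).2 this.2⟩
      refine ⟨(hunit.1.unit, hunit.2.unit), Subtype.ext ?_⟩
      refine Prod.ext ?_ (Prod.ext (Subtype.ext ?_) ?_)
      · show g * dg hunit.1.unit hunit.2.unit = g'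
        rw [show dg hunit.1.unit hunit.2.unit = u from Units.ext hdiag.symm, hu, mul_inv_cancel_left]
      · show _ * N * _ = N'
        rw [Matrix.mul_assoc, IsUnit.unit_spec, ← e11, ← Matrix.mul_assoc]
        have h3 := hunit.1.unit.inv_mul
        rw [IsUnit.unit_spec] at h3
        rw [h3, Matrix.one_mul]
      · show hunit.2.unit⁻¹ * A * hunit.2.unit = A'
        rw [mul_assoc, inv_mul_eq_iff_eq_mul]
        exact Units.ext (by simpa using e22.symm)
  have h1 : Nat.card Dom = Nat.card {M : Matrix (Fin k ⊕ Fin m) (Fin k ⊕ Fin m) F //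
      (M ^ (k + m)).rank = m} * Nat.card (GL (Fin k) F × GL (Fin m) F) := by
    rw [← Nat.card_congr (Equiv.sigmaFiberEquiv φ), Nat.card_sigma]
    simp only [hfib]
    rw [Finset.sum_const, Finset.card_univ, smul_eq_mul, ← Nat.card_eq_fintype_card]
  rw [← Nat.card_prod (GL (Fin k) F), ← h1, Nat.card_prod, Nat.card_prod]
  rfl

/-- Order recursion of the general linear group. -/
theorem card_GL_succ (n : ℕ) : (Nat.card (GL (Fin (n + 1)) F) : ℚ) =
    ((Fintype.card F : ℚ) ^ (n + 1) - 1) * (Fintype.card F : ℚ) ^ n * Nat.card (GL (Fin n) F) := by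
  have hc : ∀ j : ℕ, (Nat.card (GL (Fin j) F) : ℚ) =
      ∏ i : Fin j, ((Fintype.card F : ℚ) ^ j - (Fintype.card F : ℚ) ^ (i : ℕ)) := fun j => by
    rw [Matrix.card_GL_field, Nat.cast_prod]
    refine Finset.prod_congr rfl fun i _ => ?_
    rw [Nat.cast_sub (Nat.pow_le_pow_right Fintype.card_pos i.2.le)]
    push_cast; ring
  rw [hc, hc, Fin.prod_univ_succ, mul_assoc]
  congr 1
  rw [Finset.prod_congr rfl fun (i : Fin n) _ =>
      show (Fintype.card F : ℚ) ^ (n + 1) - (Fintype.card F : ℚ) ^ ((i.succ : Fin (n + 1)) : ℕ) =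
        (Fintype.card F : ℚ) * ((Fintype.card F : ℚ) ^ n - (Fintype.card F : ℚ) ^ (i : ℕ)) by
        rw [Fin.val_succ]; ring,
    Finset.prod_mul_distrib, Fin.prod_const]

/-- The sum over all Fitting strata. -/
theorem sum_nilCard (n : ℕ) :
    ∑ k ∈ Finset.range (n + 1), (nilCard F k : ℚ) / Nat.card (GL (Fin k) F) =
      (Fintype.card F : ℚ) ^ (n * n) / Nat.card (GL (Fin n) F) := by
  classical
  have hpart : Nat.card (Matrix (Fin n) (Fin n) F) = ∑ k ∈ Finset.range (n + 1),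
      Nat.card {M : Matrix (Fin n) (Fin n) F // (M ^ n).rank = n - k} := by
    rw [Nat.card_eq_fintype_card, ← Finset.card_univ]
    rw [Finset.card_eq_sum_card_fiberwise (f := fun M : Matrix (Fin n) (Fin n) F => n - (M ^ n).rank)
      (t := Finset.range (n + 1))
      (fun M _ => Finset.mem_coe.2 (Finset.mem_range.2 (Nat.lt_succ_of_le (Nat.sub_le _ _))))]
    refine Finset.sum_congr rfl fun k hk => ?_
    rw [Nat.card_eq_fintype_card, Fintype.card_subtype]
    refine congrArg Finset.card (Finset.filter_congr fun M _ => ?_)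
    have := (M ^ n).rank_le_card_width
    rw [Fintype.card_fin] at this
    have := Finset.mem_range.1 hk
    omega
  have hterm : ∀ k ∈ Finset.range (n + 1),
      (Nat.card {M : Matrix (Fin n) (Fin n) F // (M ^ n).rank = n - k} : ℚ) / Nat.card (GL (Fin n) F) =
        (nilCard F k : ℚ) / Nat.card (GL (Fin k) F) := by
    intro k hk
    have hk := Finset.mem_range.1 hk
    obtain ⟨m, rfl⟩ : ∃ m, n = k + m := ⟨n - k, by omega⟩
    rw [Nat.add_sub_cancel_left]
    have hs := card_stratum (F := F) k m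
    let e : Fin k ⊕ Fin m ≃ Fin (k + m) := finSumFinEquiv
    let E := Matrix.reindexAlgEquiv F F e
    have hM : Nat.card {M : Matrix (Fin k ⊕ Fin m) (Fin k ⊕ Fin m) F // (M ^ (k + m)).rank = m} =
        Nat.card {M : Matrix (Fin (k + m)) (Fin (k + m)) F // (M ^ (k + m)).rank = m} :=
      Nat.card_congr (E.toEquiv.subtypeEquiv fun M => by
        show _ ↔ ((E M) ^ (k + m)).rank = m
        rw [← map_pow, Matrix.coe_reindexAlgEquiv, Matrix.rank_reindex])
    have hG : Nat.card (GL (Fin k ⊕ Fin m) F) = Nat.card (GL (Fin (k + m)) F) :=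
      Nat.card_congr (Units.mapEquiv E.toMulEquiv).toEquiv
    rw [hM, hG] at hs
    have hs' := congrArg (fun x : ℕ => (x : ℚ)) hs
    push_cast at hs'
    have h1 : (Nat.card (GL (Fin (k + m)) F) : ℚ) ≠ 0 := Nat.cast_ne_zero.2 Nat.card_pos.ne'
    have h2 : (Nat.card (GL (Fin k) F) : ℚ) ≠ 0 := Nat.cast_ne_zero.2 Nat.card_pos.ne'
    have h3 : (Nat.card (GL (Fin m) F) : ℚ) ≠ 0 := Nat.cast_ne_zero.2 Nat.card_pos.ne'
    rw [div_eq_div_iff h1 h2]
    refine mul_right_cancel₀ h3 ?_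
    linear_combination hs'
  rw [← Finset.sum_congr rfl hterm, ← Finset.sum_div, ← Nat.cast_sum, ← hpart,
    Nat.card_eq_fintype_card, Module.card_eq_pow_finrank (K := F), Module.finrank_matrix]
  simp

/-- Fine and Herstein: there are `q ^ (n (n - 1))` nilpotent matrices. -/
theorem nilCard_eq (n : ℕ) : nilCard F n = Fintype.card F ^ (n * (n - 1)) := by
  have key : (nilCard F n : ℚ) = (Fintype.card F : ℚ) ^ (n * (n - 1)) := by
    cases n with
    | zero =>
      have := sum_nilCard (F := F) 0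
      simpa using this
    | succ n =>
      have h1 := sum_nilCard (F := F) (n + 1)
      rw [Finset.sum_range_succ, sum_nilCard (F := F) n, card_GL_succ] at h1
      have hq : (1 : ℚ) < Fintype.card F := by exact_mod_cast Fintype.one_lt_card
      have h2 : (Fintype.card F : ℚ) ^ (n + 1) - 1 ≠ 0 :=
        (sub_pos.2 (one_lt_pow₀ hq (by omega))).ne'
      have h3 : (Nat.card (GL (Fin n) F) : ℚ) ≠ 0 := Nat.cast_ne_zero.2 Nat.card_pos.ne'
      have h4 : (Fintype.card F : ℚ) ^ n ≠ 0 := pow_ne_zero _ (by positivity)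
      field_simp at h1
      have e1 : (Fintype.card F : ℚ) ^ ((n + 1) * (n + 1)) =
          (Fintype.card F : ℚ) ^ (n * n) * (Fintype.card F : ℚ) ^ n * (Fintype.card F : ℚ) ^ (n + 1) := by
        rw [← pow_add, ← pow_add]; congr 1; ring
      have e2 : (Fintype.card F : ℚ) ^ ((n + 1) * (n + 1 - 1)) =
          (Fintype.card F : ℚ) ^ (n * n) * (Fintype.card F : ℚ) ^ n := by
        rw [← pow_add]; congr 1; rw [Nat.add_sub_cancel]; ring
      rw [e1] at h1
      rw [e2]
      linear_combination h1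
  exact_mod_cast key

end CfsgLib.NilCount
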