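import Cfsg.Agent.Lib.Classical.SympLagrangian
import Cfsg.Agent.Lib.Classical.NilpotentCount
import Cfsg.Agent.Lib.Classical.SympOrder

/-!
Steinberg's count of the unipotent elements of the symplectic group.
-/

set_option autoImplicit false

namespace CfsgLib.SympCount

open Module Polynomial
open scoped Matrix

universe u

variable (F : Type u) [Field F]

/-- The standard symplectic space. -/
abbrev StdV (m : ℕ) : Type u := Fin m ⊕ Fin m → F

/-- The standard symplectic form. -/
noncomputable def stdForm (m : ℕ) : LinearMap.BilinForm F (StdV F m) :=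
  Matrix.toBilin' (Matrix.J (Fin m) F)

variable {F}

theorem stdForm_apply (m : ℕ) (x y : StdV F m) :
    stdForm F m x y = x ⬝ᵥ (Matrix.J (Fin m) F *ᵥ y) := Matrix.toBilin'_apply' _ _ _

theorem stdForm_symp (m : ℕ) : Symp (stdForm F m) where
  alt x := by
    rw [stdForm_apply, Matrix.J, Matrix.fromBlocks_mulVec]
    simp [dotProduct, Fintype.sum_sum_type, Matrix.neg_mulVec, mul_comm]
  nd x hx := by
    have h0 : x ᵥ* Matrix.J (Fin m) F = 0 := dotProduct_eq_zero _ fun y => by
      rw [← Matrix.dotProduct_mulVec, ← stdForm_apply]; exact hx y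
    refine Matrix.vecMul_injective_iff_isUnit.2
      ((Matrix.isUnit_iff_isUnit_det _).2 (Matrix.isUnit_det_J (Fin m) F)) ?_
    simpa using h0

theorem finrank_stdV (m : ℕ) : finrank F (StdV F m) = m + m := by simp

/-- A matrix gives an endomorphism with a bilinear identity. -/
theorem cond_toLin' {a b c : F} {m : ℕ} (A : Matrix (Fin m ⊕ Fin m) (Fin m ⊕ Fin m) F) :
    Cond a b c (stdForm F m) (Matrix.toLin' A) ↔
      a • (Aᵀ * Matrix.J (Fin m) F * A) + b • (Aᵀ * Matrix.J (Fin m) F + Matrix.J (Fin m) F * A) +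
        c • Matrix.J (Fin m) F = 0 := by
  set J := Matrix.J (Fin m) F with hJ
  set M := a • (Aᵀ * J * A) + b • (Aᵀ * J + J * A) + c • J with hM
  have key : ∀ x y : StdV F m, a * stdForm F m (A *ᵥ x) (A *ᵥ y) +
      b * (stdForm F m (A *ᵥ x) y + stdForm F m x (A *ᵥ y)) + c * stdForm F m x y = x ⬝ᵥ (M *ᵥ y) := by
    intro x y
    have hA : ∀ w : StdV F m, (A *ᵥ x) ⬝ᵥ w = x ⬝ᵥ (Aᵀ *ᵥ w) := fun w => by
      rw [Matrix.dotProduct_mulVec x, Matrix.vecMul_transpose]
    simp only [stdForm_apply, ← hJ, hM, Matrix.add_mulVec, Matrix.smul_mulVec, dotProduct_add,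
      dotProduct_smul, smul_eq_mul, ← Matrix.mulVec_mulVec, hA]
  constructor
  · intro h
    refine Matrix.toLin'.injective (LinearMap.ext fun y => ?_)
    rw [map_zero, LinearMap.zero_apply, Matrix.toLin'_apply]
    refine dotProduct_eq_zero _ fun x => ?_
    rw [dotProduct_comm, ← key]
    exact h x y
  · intro h x y
    show a * stdForm F m (A *ᵥ x) (A *ᵥ y) + b * (stdForm F m (A *ᵥ x) y + stdForm F m x (A *ᵥ y)) +
      c * stdForm F m x y = 0
    rw [key, h, Matrix.zero_mulVec, dotProduct_zero]

variable [Finite F]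

variable (F) in
/-- The order of the isometry group of the standard form. -/
noncomputable def grpCard (m : ℕ) : ℕ := Nat.card (isoGrp (stdForm F m))

theorem grpCard_pos (m : ℕ) : 0 < grpCard F m := Nat.card_pos

omit [Finite F] in
theorem grpCard_eq (m : ℕ) : grpCard F m = Nat.card (Matrix.symplecticGroup (Fin m) F) := by
  rw [grpCard, card_isoGrp (stdForm_symp m)]
  refine Nat.card_congr (Matrix.toLin'.toEquiv.subtypeEquiv fun A => ?_).symm
  show A ∈ Matrix.symplecticGroup (Fin m) F ↔ Cond 1 0 (-1) (stdForm F m) (Matrix.toLin' A)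
  rw [cond_toLin', SymplecticGroup.mem_iff', one_smul, zero_smul, add_zero, neg_one_smul,
    ← sub_eq_add_neg, sub_eq_zero]

omit [Finite F] in
/-- Any symplectic space is a standard one. -/
theorem exists_std {V : Type u} [AddCommGroup V] [Module F V] [FiniteDimensional F V]
    {B : LinearMap.BilinForm F V} (h : Symp B) {m : ℕ} (hd : finrank F V = m + m) :
    ∃ e : StdV F m ≃ₗ[F] V, IsIsometry B (stdForm F m) e :=
  exists_isometry h (stdForm_symp m) (by rw [finrank_stdV, hd])

omit [Finite F] in
theorem card_isoGrp_std {V : Type u} [AddCommGroup V] [Module F V] [FiniteDimensional F V]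
    {B : LinearMap.BilinForm F V} (h : Symp B) {m : ℕ} (hd : finrank F V = m + m) :
    Nat.card (isoGrp B) = grpCard F m := by
  obtain ⟨e, he⟩ := exists_std h hd
  rw [grpCard, card_isoGrp h, card_isoGrp (stdForm_symp m)]
  exact (cnt_congr (a := (1 : F)) (b := 0) (c := -1) (π := (X : F[X])) he).2.2.symm

/-- Splitting the count along Fitting's decomposition. -/
theorem sum_strata {a b c : F} {π : F[X]}
    (horth : ∀ {V : Type u} [AddCommGroup V] [Module F V] [FiniteDimensional F V]
      (B : LinearMap.BilinForm F V) (f : End F V), Symp B → Cond a b c B f →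
      ∀ k ∈ LinearMap.ker (aeval f π ^ finrank F V),
      ∀ i ∈ LinearMap.range (aeval f π ^ finrank F V), B i k = 0) (m : ℕ) :
    (Nat.card {f : End F (StdV F m) // Cond a b c (stdForm F m) f} : ℚ) / grpCard F m =
      ∑ p ∈ Finset.HasAntidiagonal.antidiagonal m,
        ((cntNil a b c π (stdForm F p.1) : ℚ) / grpCard F p.1) *
          ((cntInj a b c π (stdForm F p.2) : ℚ) / grpCard F p.2) := by
  classical
  have hpart : Nat.card {f : End F (StdV F m) // Cond a b c (stdForm F m) f} =
      ∑ p ∈ Finset.HasAntidiagonal.antidiagonal m, Nat.card (stratum a b c π (stdForm F m) (p.1 + p.1)) := by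
    have : Fintype (End F (StdV F m)) := Fintype.ofFinite _
    rw [Nat.card_eq_fintype_card, Fintype.card_subtype,
      Finset.Nat.sum_antidiagonal_eq_sum_range_succ
        (fun i _ => Nat.card (stratum a b c π (stdForm F m) (i + i))) m,
      Finset.card_eq_sum_card_fiberwise
        (f := fun f : End F (StdV F m) =>
          finrank F ↥(LinearMap.ker (aeval f π ^ finrank F (StdV F m))) / 2)
        (t := Finset.range m.succ) (fun f _ => Finset.mem_coe.2 (Finset.mem_range.2 (by
          have := Submodule.finrank_le (LinearMap.ker (aeval f π ^ finrank F (StdV F m)))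
          simp only [finrank_stdV] at this ⊢
          omega)))]
    refine Finset.sum_congr rfl fun k _ => ?_
    rw [stratum, Set.coe_ofPred, Nat.card_eq_fintype_card, Fintype.card_subtype, Finset.filter_filter]
    refine congrArg Finset.card (Finset.filter_congr fun f _ => and_congr_right fun hf => ?_)
    obtain ⟨l, hl⟩ := even_finrank ((stdForm_symp (F := F) m).restrict (fitting (aeval f π))
      (horth (stdForm F m) f (stdForm_symp m) hf)).1
    omega
  rw [hpart, Nat.cast_sum, Finset.sum_div]
  refine Finset.sum_congr rfl fun p hp => ?_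
  obtain ⟨i, l⟩ := p
  rw [Finset.HasAntidiagonal.mem_antidiagonal] at hp
  subst hp
  have hs : Symp (prodForm (stdForm F i) (stdForm F l)) := (stdForm_symp i).prod (stdForm_symp l)
  have hd : finrank F (StdV F i × StdV F l) = (i + l) + (i + l) := by
    rw [finrank_prod, finrank_stdV, finrank_stdV]; ring
  obtain ⟨e, he⟩ := exists_std hs hd
  have h := card_stratum (a := a) (b := b) (c := c) (π := π) (stdForm_symp (F := F) i)
    (stdForm_symp (F := F) l) (fun f hf => horth (prodForm (stdForm F i) (stdForm F l)) f hs hf)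
  rw [card_isoGrp_std hs hd, finrank_stdV] at h
  have htr : Nat.card (stratum a b c π (stdForm F (i + l)) (i + i)) =
      Nat.card (stratum a b c π (prodForm (stdForm F i) (stdForm F l)) (i + i)) := by
    refine Nat.card_congr (e.conj.toEquiv.subtypeEquiv fun f => ?_)
    refine and_congr (Cond.conj_iff he f).symm ?_
    show _ ↔ finrank F ↥(LinearMap.ker (aeval (e.conj f) π ^ finrank F (StdV F i × StdV F l))) = i + i
    rw [conj_aeval, conj_pow', finrank_stdV, hd]
    refine Eq.congr_left (LinearEquiv.finrank_eq ((e.submoduleMap _).trans (LinearEquiv.ofEq _ _ ?_)))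
    ext x
    simp only [Submodule.mem_map_equiv, LinearMap.mem_ker, LinearEquiv.conj_apply_apply,
      LinearEquiv.map_eq_zero_iff]
  rw [← htr] at h
  have h1 : (grpCard F (i + l) : ℚ) ≠ 0 := Nat.cast_ne_zero.2 (grpCard_pos _).ne'
  have h2 : (grpCard F i : ℚ) ≠ 0 := Nat.cast_ne_zero.2 (grpCard_pos _).ne'
  have h3 : (grpCard F l : ℚ) ≠ 0 := Nat.cast_ne_zero.2 (grpCard_pos _).ne'
  have h' := congrArg (fun x : ℕ => (x : ℚ)) h
  push_cast at h'
  rw [show (Nat.card (isoGrp (stdForm F i)) : ℚ) = grpCard F i from rfl,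
    show (Nat.card (isoGrp (stdForm F l)) : ℚ) = grpCard F l from rfl] at h'
  field_simp
  linear_combination h'

omit [Finite F] in
/-- Adjoints of powers. -/
theorem apply_pow {V : Type u} [AddCommGroup V] [Module F V] {B : LinearMap.BilinForm F V}
    {s t : End F V} (h : ∀ x y, B (s x) y = B x (t y)) :
    ∀ (n : ℕ) x y, B ((s ^ n) x) y = B x ((t ^ n) y) := by
  intro n
  induction n with
  | zero => intro x y; rfl
  | succ n ih => intro x y; rw [pow_succ', End.mul_apply, h, ih, pow_succ, End.mul_apply]

omit [Finite F] in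
theorem horth_group {V : Type u} [AddCommGroup V] [Module F V] [FiniteDimensional F V]
    (B : LinearMap.BilinForm F V) (f : End F V) (hB : Symp B) (hf : Cond (1 : F) 0 (-1) B f) :
    ∀ k ∈ LinearMap.ker (aeval f (X - 1 : F[X]) ^ finrank F V),
    ∀ i ∈ LinearMap.range (aeval f (X - 1 : F[X]) ^ finrank F V), B i k = 0 := by
  have hiso : ∀ x y, B (f x) (f y) = B x y := fun x y => by
    have := hf x y
    linear_combination this
  have hinj : Function.Injective f := (injective_iff_map_eq_zero f).2 fun v hv =>
    hB.nd v fun w => by rw [← hiso, hv, map_zero, LinearMap.zero_apply]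
  set g := LinearEquiv.ofInjectiveEndo f hinj with hg
  rw [map_sub, map_one, aeval_X]
  set n := finrank F V
  rintro k hk _ ⟨w, rfl⟩
  have hadj : ∀ x y, B ((f - 1) x) y = B x (((g.symm : End F V) - 1) y) := fun x y => by
    rw [LinearMap.sub_apply, LinearMap.sub_apply, map_sub, map_sub, LinearMap.sub_apply]
    congr 1
    conv_lhs => rw [← g.apply_symm_apply y]
    exact hiso x _
  rw [apply_pow hadj]
  have hgf : (g.symm : End F V) * f = 1 := LinearMap.ext fun x => g.symm_apply_apply x
  have hfg : f * (g.symm : End F V) = 1 := LinearMap.ext fun x => g.apply_symm_apply x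
  have e1 : (g.symm : End F V) - 1 = -((g.symm : End F V) * (f - 1)) := by
    rw [mul_sub, hgf, mul_one, neg_sub]
  have hc0 : Commute (g.symm : End F V) f := by
    show (g.symm : End F V) * f = f * (g.symm : End F V)
    rw [hgf, hfg]
  have hcom : Commute (g.symm : End F V) (f - 1) := hc0.sub_right (Commute.one_right _)
  rw [e1, neg_pow, hcom.mul_pow, End.mul_apply, End.mul_apply, LinearMap.mem_ker.1 hk, map_zero,
    map_zero, map_zero]

omit [Finite F] in
theorem horth_affine {V : Type u} [AddCommGroup V] [Module F V] [FiniteDimensional F V]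
    (B : LinearMap.BilinForm F V) (f : End F V) (_hB : Symp B) (hf : Cond (0 : F) 1 1 B f) :
    ∀ k ∈ LinearMap.ker (aeval f (X ^ 2 + X : F[X]) ^ finrank F V),
    ∀ i ∈ LinearMap.range (aeval f (X ^ 2 + X : F[X]) ^ finrank F V), B i k = 0 := by
  have hP : ∀ x y, B (f x) y = B x ((-1 - f) y) := fun x y => by
    have := hf x y
    rw [LinearMap.sub_apply, LinearMap.neg_apply, End.one_apply, map_sub, map_neg]
    linear_combination this
  rw [map_add, map_pow, aeval_X]
  rintro k hk _ ⟨w, rfl⟩
  have hadj : ∀ x y, B ((f ^ 2 + f) x) y = B x ((f ^ 2 + f) y) := fun x y => by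
    have e : f ^ 2 + f = (-1 - f) * (-1 - f) + (-1 - f) := by noncomm_ring
    conv_rhs => rw [e]
    rw [sq, LinearMap.add_apply, LinearMap.add_apply, End.mul_apply, End.mul_apply, map_add, map_add,
      LinearMap.add_apply, hP, hP, hP]
  rw [apply_pow hadj, LinearMap.mem_ker.1 hk, map_zero]

omit [Finite F] in
/-- The Cayley correspondence. -/
theorem cntInj_group_eq (m : ℕ) :
    cntInj (1 : F) 0 (-1) (X - 1) (stdForm F m) = cntInj (0 : F) 1 1 (X ^ 2 + X) (stdForm F m) := by
  classical
  set B := stdForm F m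
  have hB : Symp B := stdForm_symp m
  have hg : ∀ f : End F (StdV F m), aeval f (X - 1 : F[X]) = f - 1 := fun f => by
    rw [map_sub, map_one, aeval_X]
  have ha : ∀ P : End F (StdV F m), aeval P (X ^ 2 + X : F[X]) = (P + 1) * P := fun P => by
    rw [map_add, map_pow, aeval_X, add_mul, one_mul, sq]
  let toP : {f : End F (StdV F m) // Cond (1 : F) 0 (-1) B f ∧ Function.Injective (aeval f (X - 1 : F[X]))} →
      End F (StdV F m) := fun f => ((LinearEquiv.ofInjectiveEndo _ f.2.2).symm : End F (StdV F m))
  have h1 : ∀ f, aeval f.1 (X - 1 : F[X]) * toP f = 1 := fun f =>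
    LinearMap.ext fun x => (LinearEquiv.ofInjectiveEndo _ f.2.2).apply_symm_apply x
  have hcond : ∀ f, Cond (0 : F) 1 1 B (toP f) ∧ Function.Injective (toP f) := fun f => by
    refine ⟨fun x y => ?_, (LinearEquiv.ofInjectiveEndo _ f.2.2).symm.injective⟩
    have hx := LinearMap.congr_fun (h1 f) x
    have hy := LinearMap.congr_fun (h1 f) y
    simp only [hg, End.mul_apply, LinearMap.sub_apply, End.one_apply] at hx hy
    have := f.2.1 (toP f x) (toP f y)
    rw [show f.1 (toP f x) = x + toP f x from sub_eq_iff_eq_add.1 hx,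
      show f.1 (toP f y) = y + toP f y from sub_eq_iff_eq_add.1 hy] at this
    simp only [map_add, LinearMap.add_apply] at this
    linear_combination this
  have hinjP : ∀ P : End F (StdV F m), Cond (0 : F) 1 1 B P → Function.Injective P →
      Function.Injective (aeval P (X ^ 2 + X : F[X])) := fun P hP hi => by
    rw [ha, End.coe_mul]
    refine Function.Injective.comp ((injective_iff_map_eq_zero _).2 fun x hx => hB.nd x fun w => ?_) hi
    obtain ⟨w', rfl⟩ := LinearMap.injective_iff_surjective.1 hi w
    rw [LinearMap.add_apply, End.one_apply, ← eq_neg_iff_add_eq_zero] at hx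
    have := hP x w'
    rw [hx, map_neg, LinearMap.neg_apply] at this
    simp only [LinearMap.neg_apply] at this ⊢
    linear_combination this
  refine Nat.card_eq_of_bijective (fun f => ⟨toP f, (hcond f).1, hinjP _ (hcond f).1 (hcond f).2⟩) ⟨?_, ?_⟩
  · intro f f' e
    have e' : toP f = toP f' := congrArg Subtype.val e
    have h2 : aeval f.1 (X - 1 : F[X]) = aeval f'.1 (X - 1 : F[X]) := by
      refine LinearMap.ext fun x => ?_
      obtain ⟨y, rfl⟩ : ∃ y, toP f y = x := ⟨_, (LinearEquiv.ofInjectiveEndo _ f.2.2).symm_apply_apply x⟩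
      rw [← End.mul_apply, h1, e', ← End.mul_apply, h1]
    rw [hg, hg, sub_left_inj] at h2
    exact Subtype.ext h2
  · rintro ⟨P, hP, hPi⟩
    have hi : Function.Injective P := by
      rw [ha, End.coe_mul] at hPi
      exact hPi.of_comp
    set e := LinearEquiv.ofInjectiveEndo P hi with he
    set g : End F (StdV F m) := 1 + (e.symm : End F (StdV F m)) with hgdef
    have hcg : Cond (1 : F) 0 (-1) B g := by
      intro x y
      obtain ⟨a, rfl⟩ := e.surjective x
      obtain ⟨b, rfl⟩ := e.surjective y
      simp only [hgdef, LinearMap.add_apply, End.one_apply, LinearEquiv.coe_coe, e.symm_apply_apply]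
      have := hP a b
      rw [show P a = e a from rfl, show P b = e b from rfl] at this
      simp only [map_add, LinearMap.add_apply]
      linear_combination this
    have hgi : Function.Injective (aeval g (X - 1 : F[X])) := by
      rw [hg, hgdef, add_sub_cancel_left]; exact e.symm.injective
    refine ⟨⟨g, hcg, hgi⟩, Subtype.ext (LinearMap.ext fun x => hgi ?_)⟩
    refine (LinearMap.congr_fun (h1 ⟨g, hcg, hgi⟩) x).trans ?_
    rw [hg, hgdef, add_sub_cancel_left]
    exact (e.symm_apply_apply x).symm

/-- The affine space has `q ^ (m (2 m + 1))` points. -/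
theorem card_affine (m : ℕ) :
    Nat.card {f : End F (StdV F m) // Cond (0 : F) 1 1 (stdForm F m) f} = Nat.card F ^ (m * (2 * m + 1)) := by
  classical
  set J := Matrix.J (Fin m) F with hJ
  have hJd : ∀ i, J i i = 0 := fun i => by rcases i with i | i <;> simp [hJ, Matrix.J]
  have hJt : Jᵀ = -J := Matrix.J_transpose _ _
  have hJskew : ∀ i j, J i j + J j i = 0 := fun i j => by
    have := congrFun (congrFun hJt j) i
    rw [Matrix.transpose_apply, Matrix.neg_apply] at this
    rw [this]; ring
  let JU : (Matrix (Fin m ⊕ Fin m) (Fin m ⊕ Fin m) F)ˣ :=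
    ((Matrix.isUnit_iff_isUnit_det _).2 (Matrix.isUnit_det_J (Fin m) F)).unit
  have h1 : Nat.card {f : End F (StdV F m) // Cond (0 : F) 1 1 (stdForm F m) f} =
      Nat.card {S : Matrix (Fin m ⊕ Fin m) (Fin m ⊕ Fin m) F // Sᵀ = S + J} := by
    refine Nat.card_congr (((Units.mulLeft JU⁻¹).trans Matrix.toLin'.toEquiv).subtypeEquiv fun S => ?_).symm
    show Sᵀ = S + J ↔
      Cond (0 : F) 1 1 (stdForm F m) (Matrix.toLin' ((JU⁻¹ : _ˣ) * S))
    set A := ((JU⁻¹ : _ˣ) : Matrix (Fin m ⊕ Fin m) (Fin m ⊕ Fin m) F) * S with hA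
    have hSA : S = J * A := by
      rw [hA, ← Matrix.mul_assoc, show J = (JU : Matrix _ _ F) from rfl, Units.mul_inv, Matrix.one_mul]
    rw [cond_toLin', zero_smul, zero_add, one_smul, one_smul, ← hJ, hSA, Matrix.transpose_mul, hJt,
      Matrix.mul_neg]
    refine ⟨fun h => ?_, fun h => ?_⟩
    · rw [← neg_neg (Aᵀ * J), h]; abel
    · rw [neg_eq_iff_eq_neg, ← sub_eq_zero, ← h]; abel
  set ix := Fintype.equivFin (Fin m ⊕ Fin m)
  let E : {S : Matrix (Fin m ⊕ Fin m) (Fin m ⊕ Fin m) F // Sᵀ = S + J} ≃
      ({p : Fin (Fintype.card (Fin m ⊕ Fin m)) × Fin (Fintype.card (Fin m ⊕ Fin m)) // p.1 ≤ p.2} → F) :=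
    { toFun := fun S p => S.1 (ix.symm p.1.1) (ix.symm p.1.2)
      invFun := fun f => ⟨Matrix.of fun i j => if h : ix i ≤ ix j then f ⟨(ix i, ix j), h⟩ else
          f ⟨(ix j, ix i), (le_total _ _).resolve_left h⟩ + J j i, by
        ext i j
        simp only [Matrix.transpose_apply, Matrix.add_apply, Matrix.of_apply]
        by_cases h : ix i ≤ ix j <;> by_cases h' : ix j ≤ ix i
        · obtain rfl : i = j := ix.injective (le_antisymm h h')
          rw [dif_pos h, hJd, add_zero]
        · rw [dif_pos h, dif_neg h']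
        · rw [dif_neg h, dif_pos h', add_assoc, add_comm (J j i), hJskew, add_zero]
        · exact absurd ((le_total _ _).resolve_left h) h'⟩
      left_inv := fun S => Subtype.ext (Matrix.ext fun i j => by
        simp only [Matrix.of_apply, Equiv.symm_apply_apply]
        split_ifs with h
        · rfl
        · have := congrFun (congrFun S.2 j) i
          rw [Matrix.transpose_apply, Matrix.add_apply] at this
          exact this.symm)
      right_inv := fun f => funext fun p => by
        simp only [Matrix.of_apply, Equiv.apply_symm_apply]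
        rw [dif_pos p.2] }
  let _ : Fintype F := Fintype.ofFinite F
  rw [h1, Nat.card_congr E, Nat.card_fun, ← Nat.card_congr Sym2.sortEquiv]
  simp only [Nat.card_eq_fintype_card, Sym2.card, Fintype.card_fin, Fintype.card_sum]
  congr 1
  rw [Nat.choose_two_right, Nat.add_sub_cancel, show (m + m + 1) * (m + m) = m * (2 * m + 1) * 2 by ring,
    Nat.mul_div_cancel _ two_pos]

variable [Fintype F]

/-- Steinberg's count, in the language of isometries. -/
theorem cntNil_group (m : ℕ) :
    cntNil (1 : F) 0 (-1) (X - 1) (stdForm F m) = Nat.card F ^ (2 * m ^ 2) := by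
  classical
  set q : ℚ := (Nat.card F : ℚ) with hq
  have hq1 : 1 < q := by rw [hq]; exact_mod_cast Finite.one_lt_card
  have hq0 : q ≠ 0 := by positivity
  let G : ℕ → ℚ := fun k => (grpCard F k : ℚ)
  have hG : ∀ k, G k ≠ 0 := fun k => Nat.cast_ne_zero.2 (grpCard_pos k).ne'
  let C : PowerSeries ℚ := PowerSeries.mk fun k => (cntNil (1 : F) 0 (-1) (X - 1) (stdForm F k) : ℚ) / G k
  let Bs : PowerSeries ℚ := PowerSeries.mk fun k => (cntInj (1 : F) 0 (-1) (X - 1) (stdForm F k) : ℚ) / G k
  let A : PowerSeries ℚ := PowerSeries.mk fun k => (cntNil (0 : F) 1 1 (X ^ 2 + X) (stdForm F k) : ℚ) / G k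
  let One : PowerSeries ℚ := PowerSeries.mk fun _ => 1
  let D : PowerSeries ℚ := PowerSeries.mk fun k => q ^ (k * (2 * k + 1)) / G k
  let E : PowerSeries ℚ := PowerSeries.mk fun k => q ^ (2 * k ^ 2) / G k
  have hCB : C * Bs = One := by
    refine PowerSeries.ext fun k => ?_
    rw [PowerSeries.coeff_mul]
    simp only [C, Bs, One, PowerSeries.coeff_mk]
    rw [← sum_strata (a := (1 : F)) (b := 0) (c := -1) (π := X - 1) (fun B f => horth_group B f) k,
      show (Nat.card {f : End F (StdV F k) // Cond (1 : F) 0 (-1) (stdForm F k) f} : ℚ) = G k by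
        rw [← card_isoGrp (stdForm_symp k)]; rfl]
    exact div_self (hG k)
  have hAB : A * Bs = D := by
    refine PowerSeries.ext fun k => ?_
    rw [PowerSeries.coeff_mul]
    simp only [A, Bs, D, PowerSeries.coeff_mk, cntInj_group_eq]
    rw [← sum_strata (a := (0 : F)) (b := 1) (c := 1) (π := X ^ 2 + X) (fun B f => horth_affine B f) k,
      card_affine, Nat.cast_pow]
  have hA : ∀ j, PowerSeries.coeff j A = (NilCount.nilCard F j : ℚ) / Nat.card (GL (Fin j) F) := by
    intro j
    have hlag := card_lag (F := F) j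
    have hd : finrank F ((Fin j → F) × (Fin j → F)) = j + j := by simp
    obtain ⟨e, he⟩ := exists_std (lagForm_symp j) hd
    rw [← (cnt_congr (a := (0 : F)) (b := 1) (c := 1) (π := X ^ 2 + X) he).1,
      card_isoGrp_std (lagForm_symp j) hd] at hlag
    simp only [A, PowerSeries.coeff_mk]
    rw [div_eq_div_iff (hG j) (Nat.cast_ne_zero.2 Nat.card_pos.ne')]
    have h' := congrArg (fun x : ℕ => (x : ℚ)) hlag
    push_cast at h'
    rw [NilCount.nilCard]
    linear_combination h'
  have hT : ∀ n, PowerSeries.coeff n (One * A) = q ^ (n * n) / Nat.card (GL (Fin n) F) := by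
    intro n
    rw [mul_comm One A, PowerSeries.coeff_mul, Finset.Nat.sum_antidiagonal_eq_sum_range_succ_mk]
    simp only [One, PowerSeries.coeff_mk, mul_one, hA]
    rw [NilCount.sum_nilCard, hq]
    simp [Nat.card_eq_fintype_card]
  -- the recursion of the orders
  have hGs : ∀ k, G (k + 1) = q ^ (2 * k + 1) * (q ^ (2 * k + 2) - 1) * G k := by
    intro k
    simp only [G, grpCard_eq, CfsgLib.Classical.SympTrans.card_symplectic, Finset.prod_range_succ]
    rw [Nat.cast_mul, Nat.cast_mul, Nat.cast_mul, Nat.cast_sub (Nat.one_le_pow _ _ Nat.card_pos),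
      show (k + 1) ^ 2 = k ^ 2 + (2 * k + 1) by ring, pow_add]
    push_cast
    rw [hq, show 2 * (k + 1) = 2 * k + 2 by ring]
    ring
  set u : ℚ := q⁻¹ with hu
  have hE : E = PowerSeries.rescale u D := by
    refine PowerSeries.ext fun k => ?_
    simp only [E, D, PowerSeries.coeff_rescale, PowerSeries.coeff_mk, hu]
    rw [show k * (2 * k + 1) = 2 * k ^ 2 + k by ring, pow_add, inv_pow]
    field_simp
  have hD0 : PowerSeries.coeff 0 D = 1 := by
    have : grpCard F 0 = 1 := by
      rw [grpCard_eq, CfsgLib.Classical.SympTrans.card_symplectic]; simp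
    simp [D, G, this]
  have hDrec : D - PowerSeries.rescale u (PowerSeries.rescale u D) = PowerSeries.X * D := by
    refine PowerSeries.ext fun k => ?_
    cases k with
    | zero =>
      rw [map_sub, PowerSeries.coeff_rescale, PowerSeries.coeff_rescale, pow_zero, one_mul, one_mul,
        sub_self, PowerSeries.coeff_zero_X_mul]
    | succ k =>
      rw [map_sub, PowerSeries.coeff_succ_X_mul, PowerSeries.coeff_rescale, PowerSeries.coeff_rescale]
      simp only [D, PowerSeries.coeff_mk, hu, inv_pow]
      have hne : q ^ (2 * k + 2) - 1 ≠ 0 := (sub_pos.2 (one_lt_pow₀ hq1 (by omega))).ne'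
      have := hG k
      rw [hGs k, show (k + 1) * (2 * (k + 1) + 1) = k * (2 * k + 1) + (2 * k + 1) + (k + 1) + (k + 1) by ring,
        show 2 * k + 2 = (k + 1) + (k + 1) by ring] at *
      field_simp
      ring
  have hP : ∀ n, PowerSeries.coeff n (E * D) = q ^ (n * n) / Nat.card (GL (Fin n) F) := by
    have hrec : PowerSeries.rescale u (E * D) = E * D - PowerSeries.X * (E * D) := by
      rw [map_mul, hE, show PowerSeries.rescale u (PowerSeries.rescale u D) = D - PowerSeries.X * D by
        rw [← hDrec]; ring]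
      ring
    intro n
    induction n with
    | zero =>
      rw [PowerSeries.coeff_mul, Finset.Nat.antidiagonal_zero, Finset.sum_singleton, hD0, hE,
        PowerSeries.coeff_rescale, hD0]
      simp
    | succ n ih =>
      have h := congrArg (PowerSeries.coeff (n + 1)) hrec
      rw [PowerSeries.coeff_rescale, map_sub, PowerSeries.coeff_succ_X_mul, ih] at h
      rw [NilCount.card_GL_succ, show (n + 1) * (n + 1) = n * n + n + (n + 1) by ring]
      rw [hu, inv_pow] at h
      rw [show (Fintype.card F : ℚ) = q by rw [hq, Nat.card_eq_fintype_card]]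
      have hne : q ^ (n + 1) - 1 ≠ 0 := (sub_pos.2 (one_lt_pow₀ hq1 (by omega))).ne'
      have hgl : (Nat.card (GL (Fin n) F) : ℚ) ≠ 0 := Nat.cast_ne_zero.2 Nat.card_pos.ne'
      field_simp at h ⊢
      simp only [pow_add] at h ⊢
      linear_combination -(q ^ n) * h
  have hED : E * D = One * A := PowerSeries.ext fun n => (hP n).trans (hT n).symm
  have hCE : C = E := by
    have h1 : C * D = E * D := by rw [hED, ← hAB, ← hCB]; ring
    have hD : D ≠ 0 := fun h => by rw [h, map_zero] at hD0; exact zero_ne_one hD0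
    exact mul_right_cancel₀ hD h1
  have := congrArg (PowerSeries.coeff m) hCE
  simp only [C, E, PowerSeries.coeff_mk] at this
  rw [div_left_inj' (hG m), hq] at this
  exact_mod_cast this

end CfsgLib.SympCount
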