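import Cfsg.Agent.Lib.Classical.InvolutionData
import Cfsg.Agent.Lib.Classical.SympCount

/-!
Centralisers of square-zero self-adjoint maps: reduction to the isometries of the form on the image,
and the orders of those groups of isometries in characteristic two.
-/

set_option autoImplicit false

namespace CfsgLib.Classical.InvolutionOrbit

open Module
open CfsgLib.SympCount (Symp isoGrp grpCard)
open CfsgLib.Classical.InvolutionData

universe u

/-- The elements of a group are counted along the fibres of an equivariant map. -/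
theorem card_fiber {G X : Type*} [Group G] (ev : G → X) (P : X → Prop) (hP : ∀ g, P (ev g))
    (hsurj : ∀ x, P x → ∃ g, ev g = x) (hmul : ∀ g h h', ev h = ev h' → ev (g * h) = ev (g * h')) :
    Nat.card G = Nat.card {x // P x} * Nat.card {g // ev g = ev 1} := by
  choose σ hσ using hsurj
  rw [← Nat.card_prod]
  refine Nat.card_congr
    { toFun := fun g => (⟨ev g, hP g⟩, ⟨(σ _ (hP g))⁻¹ * g, ?_⟩)
      invFun := fun p => σ _ p.1.2 * p.2.1
      left_inv := fun g => mul_inv_cancel_left _ g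
      right_inv := fun p => ?_ }
  · exact (hmul _ _ _ (hσ _ (hP g)).symm).trans (by rw [inv_mul_cancel])
  · obtain ⟨⟨x, hx⟩, ⟨k, hk⟩⟩ := p
    have key : ev (σ x hx * k) = x := by rw [hmul _ _ _ hk, mul_one, hσ]
    refine Prod.ext (Subtype.ext key) (Subtype.ext ?_)
    show (σ (ev (σ x hx * k)) _)⁻¹ * (σ x hx * k) = k
    have e : ∀ y (hy : P y), y = x → σ y hy = σ x hx := fun y hy hyx => by subst hyx; rfl
    rw [e _ _ key, inv_mul_cancel_left]

variable {F : Type u} [Field F] {V : Type u} [AddCommGroup V] [Module F V]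
variable {B : LinearMap.BilinForm F V}

section centralizer

variable {H : Subgroup (V ≃ₗ[F] V)}

/-- The elements of `H` commuting with `u`. -/
def commGrp (H : Subgroup (V ≃ₗ[F] V)) (u : End F V) : Subgroup (V ≃ₗ[F] V) where
  carrier := {g | g ∈ H ∧ ∀ x, g (u x) = u (g x)}
  mul_mem' {g h} hg hh := ⟨H.mul_mem hg.1 hh.1, fun x => by
    rw [LinearEquiv.mul_apply, LinearEquiv.mul_apply, hh.2, hg.2]⟩
  one_mem' := ⟨H.one_mem, fun _ => rfl⟩
  inv_mem' {g} hg := ⟨H.inv_mem hg.1, fun x => g.injective (by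
    show g (g.symm (u x)) = g (u (g.symm x))
    rw [g.apply_symm_apply, hg.2, g.apply_symm_apply])⟩

theorem card_comm [CharP F 2] (h : Symp B) (hH : ∀ g ∈ H, ∀ x y, B (g x) (g y) = B x y)
    {u : End F V} (hu : Nil B u) {U : Type u} [AddCommGroup U] [Module F U] (j₀ : U →ₗ[F] V)
    (hr : LinearMap.range j₀ = LinearMap.range u) (P : (U →ₗ[F] V) → Prop)
    (hP : ∀ g ∈ H, P (g.toLinearMap ∘ₗ j₀))
    (hPt : ∀ j, P j → ∃ g ∈ H, g.toLinearMap ∘ₗ j₀ = j)
    (hPα : ∀ α ∈ isoGrp (phi B u),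
      P ((LinearMap.range u).subtype ∘ₗ (α : LinearMap.range u ≃ₗ[F] LinearMap.range u).toLinearMap ∘ₗ
        j₀.codRestrict (LinearMap.range u) fun a => hr ▸ LinearMap.mem_range_self j₀ a)) :
    Nat.card (commGrp H u) * Nat.card {j // P j} = Nat.card H * Nat.card (isoGrp (phi B u)) := by
  set W := LinearMap.range u
  set j₁ := j₀.codRestrict W fun a => hr ▸ LinearMap.mem_range_self j₀ a with hj₁
  have hs : Function.Surjective j₁ := fun w => by
    obtain ⟨a, ha⟩ : (w : V) ∈ LinearMap.range j₀ := (SetLike.ext_iff.1 hr _).2 w.2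
    exact ⟨a, Subtype.ext ha⟩
  let lift : isoGrp (phi B u) → (U →ₗ[F] V) := fun α =>
    W.subtype ∘ₗ (α.1 : W ≃ₗ[F] W).toLinearMap ∘ₗ j₁
  have hlift : Function.Injective lift := fun α β hαβ => Subtype.ext (LinearEquiv.ext fun w => by
    obtain ⟨a, rfl⟩ := hs w
    exact Subtype.ext (LinearMap.congr_fun hαβ a))
  have hmul : ∀ (g : V ≃ₗ[F] V) (k k' : V ≃ₗ[F] V), k.toLinearMap ∘ₗ j₀ = k'.toLinearMap ∘ₗ j₀ →
      (g * k).toLinearMap ∘ₗ j₀ = (g * k').toLinearMap ∘ₗ j₀ := fun g k k' e =>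
    LinearMap.ext fun a => congrArg g (LinearMap.congr_fun e a)
  have hA := card_fiber (fun g : H => (g : V ≃ₗ[F] V).toLinearMap ∘ₗ j₀) P (fun g => hP g g.2)
    (fun j hj => by obtain ⟨g, hg, hgj⟩ := hPt j hj; exact ⟨⟨g, hg⟩, hgj⟩) fun g k k' => hmul g k k'
  have hC := card_fiber (fun g : commGrp H u => (g : V ≃ₗ[F] V).toLinearMap ∘ₗ j₀)
    (fun j => j ∈ Set.range lift)
    (fun g => by
      have hsta : ∀ w ∈ W, (g : V ≃ₗ[F] V) w ∈ W := by
        rintro _ ⟨x, rfl⟩; exact ⟨(g : V ≃ₗ[F] V) x, (g.2.2 x).symm⟩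
      have hsta' : ∀ w ∈ W, ((g⁻¹ : commGrp H u) : V ≃ₗ[F] V) w ∈ W := by
        rintro _ ⟨x, rfl⟩
        exact ⟨((g⁻¹ : commGrp H u) : V ≃ₗ[F] V) x, ((g⁻¹).2.2 x).symm⟩
      let α : W ≃ₗ[F] W := LinearEquiv.ofLinear ((g : V ≃ₗ[F] V).toLinearMap.restrict hsta)
        (((g⁻¹ : commGrp H u) : V ≃ₗ[F] V).toLinearMap.restrict hsta')
        (LinearMap.ext fun w => Subtype.ext ((g : V ≃ₗ[F] V).apply_symm_apply _))
        (LinearMap.ext fun w => Subtype.ext ((g : V ≃ₗ[F] V).symm_apply_apply _))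
      refine ⟨⟨α, fun w z => ?_⟩, rfl⟩
      obtain ⟨x, hx⟩ := w.2
      rw [phi_eq hu hx.symm, phi_eq hu (w := α w) (x := (g : V ≃ₗ[F] V) x)
        (by show (g : V ≃ₗ[F] V) (w : V) = _; rw [← g.2.2, hx])]
      exact hH _ g.2.1 _ _)
    (fun j ⟨α, hα⟩ => by
      obtain ⟨g, hg, hgj⟩ := hPt _ (hPα α α.2)
      have hgα : ∀ w : W, g (w : V) = ((α.1 : W ≃ₗ[F] W) w : V) := fun w => by
        obtain ⟨a, rfl⟩ := hs w
        exact LinearMap.congr_fun hgj a
      exact ⟨⟨g, hg, intertwine h hu hu g (hH g hg) α.1 hgα α.2⟩, hgj.trans hα⟩)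
    fun g k k' => hmul g k k'
  have hK : Nat.card {g : commGrp H u // (g : V ≃ₗ[F] V).toLinearMap ∘ₗ j₀ =
        ((1 : commGrp H u) : V ≃ₗ[F] V).toLinearMap ∘ₗ j₀} =
      Nat.card {g : H // (g : V ≃ₗ[F] V).toLinearMap ∘ₗ j₀ =
        ((1 : H) : V ≃ₗ[F] V).toLinearMap ∘ₗ j₀} := by
    refine Nat.card_congr
      { toFun := fun g => ⟨⟨g.1.1, g.1.2.1⟩, g.2⟩
        invFun := fun g => ⟨⟨g.1.1, g.1.2, ?_⟩, g.2⟩
        left_inv := fun g => rfl
        right_inv := fun g => rfl }
    exact intertwine h hu hu g.1.1 (hH _ g.1.2) (LinearEquiv.refl F W) (fun w => by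
      obtain ⟨a, rfl⟩ := hs w
      exact LinearMap.congr_fun g.2 a) (fun _ _ => rfl)
  rw [hC, hA, hK, ← Nat.card_congr (Equiv.ofInjective lift hlift)]
  ac_rfl

end centralizer

/-! ### The isometries of a symmetric form -/

section orders

variable {W : Type u} [AddCommGroup W] [Module F W] {φ : LinearMap.BilinForm F W}

/-- The isometries fixing the image of `1 - π` are those of the kernel part. -/
theorem card_fix_eq (hφ : Sym φ) {R : Submodule F W} (π : W →ₗ[F] R) (hπ : ∀ r : R, π r = r)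
    (horth : ∀ x, ∀ r : R, φ (x - π x) r = 0) :
    Nat.card {g : isoGrp φ // ∀ x, (g : W ≃ₗ[F] W) (x - π x) = x - π x} =
      Nat.card (isoGrp (φ.restrict R)) := by
  have hmem : ∀ y, (∀ x, φ (x - π x) y = 0) → y ∈ R := fun y hy => by
    have h0 : y - π y = 0 := hφ.nd _ fun x => by
      have e : φ (y - π y) x = φ (y - π y) (x - π x) + φ (y - π y) (π x : W) := by
        rw [← map_add, sub_add_cancel]
      rw [e, horth y (π x), add_zero, hφ.symm, map_sub, hy x, horth x (π y), sub_zero]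
    rw [sub_eq_zero] at h0
    rw [h0]; exact (π y).2
  have hsta : ∀ g : W ≃ₗ[F] W, g ∈ isoGrp φ → (∀ x, g (x - π x) = x - π x) → ∀ r ∈ R, g r ∈ R :=
    fun g hg hfix r hr => hmem _ fun x => by rw [← hfix x, hg]; exact horth x ⟨r, hr⟩
  have hfix' : ∀ g : W ≃ₗ[F] W, (∀ x, g (x - π x) = x - π x) →
      ∀ x, g⁻¹ (x - π x) = x - π x := fun g hg x => g.injective (by
    show g (g.symm _) = _
    rw [g.apply_symm_apply, hg])
  let ext : (R ≃ₗ[F] R) → (W →ₗ[F] W) := fun α =>
    (LinearMap.id - R.subtype ∘ₗ π) + R.subtype ∘ₗ α.toLinearMap ∘ₗ π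
  have hext : ∀ α x, ext α x = (x - π x) + (α (π x) : W) := fun α x => rfl
  have hπ0 : ∀ x, π (x - π x) = 0 := fun x => by rw [map_sub, hπ, sub_self]
  have hinv : ∀ α β : R ≃ₗ[F] R, (∀ r, α (β r) = r) → ∀ x, ext α (ext β x) = x := fun α β e x => by
    rw [hext, hext]
    simp only [map_add, hπ0, hπ, zero_add, e]
    abel
  refine Nat.card_congr
    { toFun := fun g => ⟨LinearEquiv.ofLinear
          ((g.1 : W ≃ₗ[F] W).toLinearMap.restrict (hsta _ g.1.2 g.2))
          ((g.1 : W ≃ₗ[F] W)⁻¹.toLinearMap.restrict (hsta _ (g.1⁻¹).2 (hfix' _ g.2)))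
          (LinearMap.ext fun w => Subtype.ext ((g.1 : W ≃ₗ[F] W).apply_symm_apply _))
          (LinearMap.ext fun w => Subtype.ext ((g.1 : W ≃ₗ[F] W).symm_apply_apply _)),
        fun a b => g.1.2 a b⟩
      invFun := fun α => ⟨⟨LinearEquiv.ofLinear (ext α.1) (ext α.1.symm)
          (LinearMap.ext (hinv _ _ α.1.apply_symm_apply))
          (LinearMap.ext (hinv _ _ α.1.symm_apply_apply)), ?_⟩, ?_⟩
      left_inv := fun g => ?_
      right_inv := fun α => ?_ }
  · intro x y
    show φ (ext α.1 x) (ext α.1 y) = φ x y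
    conv_rhs => rw [← sub_add_cancel x (π x : W), ← sub_add_cancel y (π y : W)]
    rw [hext, hext]
    have horth' : ∀ z, ∀ r : R, φ (r : W) (z - π z) = 0 := fun z r => by rw [hφ.symm]; exact horth z r
    simp only [map_add, LinearMap.add_apply, horth, horth', add_zero, zero_add]
    exact congrArg _ (α.2 (π x) (π y))
  · intro x
    show ext α.1 (x - π x) = x - π x
    rw [hext, hπ0, map_zero, ZeroMemClass.coe_zero, sub_zero, add_zero]
  · refine Subtype.ext (Subtype.ext (LinearEquiv.ext fun x => ?_))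
    show ext _ x = (g.1 : W ≃ₗ[F] W) x
    rw [hext]
    conv_rhs => rw [← sub_add_cancel x (π x : W), map_add, g.2]
    rfl
  · refine Subtype.ext (LinearEquiv.ext fun r => Subtype.ext ?_)
    show ext α.1 r = (α.1 r : W)
    rw [hext, hπ, sub_self, zero_add]

variable [FiniteDimensional F W] [Finite F] [CharP F 2]

theorem card_alt (hφ : Sym φ) (h : ∀ x, φ x x = 0) {k : ℕ} (hd : finrank F W = k + k) :
    Nat.card (isoGrp φ) = grpCard F k :=
  CfsgLib.SympCount.card_isoGrp_std (⟨h, hφ.nd⟩ : Symp φ) hd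

omit [FiniteDimensional F W] in
/-- The linear functional whose square is the diagonal is preserved. -/
theorem fix_of_sqrt (hφ : Sym φ) {e : W} (he : ∀ x, φ e x * φ e x = φ x x) {g : W ≃ₗ[F] W}
    (hg : g ∈ isoGrp φ) : g e = e := by
  refine sub_eq_zero.1 (hφ.nd _ fun y => ?_)
  obtain ⟨x, rfl⟩ := g.surjective y
  rw [map_sub, LinearMap.sub_apply, hg]
  have h1 : φ e x * φ e x = φ e (g x) * φ e (g x) := by rw [he, he, hg]
  have h2 : φ e x = φ e (g x) := by
    rcases mul_self_eq_mul_self_iff.1 h1 with h | h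
    · exact h
    · rwa [CharTwo.neg_eq] at h
  rw [h2, sub_self]

theorem exists_sqrt (hφ : Sym φ) (hna : ¬ ∀ x, φ x x = 0) :
    ∃ e f, (∀ x, φ e x * φ e x = φ x x) ∧ φ e f = 1 ∧ φ e e = (finrank F W : F) := by
  classical
  obtain ⟨b, hb⟩ := exists_basis hφ hna
  have hpos : 0 < finrank F W := Nat.pos_of_ne_zero fun e => hna fun x => by
    rw [finrank_zero_iff_forall_zero.1 e x, map_zero]
  have hcoord : ∀ i x, φ (b i) x = b.repr x i := fun i x =>
    LinearMap.congr_fun (b.ext (f₁ := φ (b i)) (f₂ := b.coord i) fun j => by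
      rw [hb, Basis.coord_apply, Basis.repr_self, Finsupp.single_apply]
      simp [eq_comm]) x
  have he : ∀ x, φ (∑ i, b i) x = ∑ i, b.repr x i := fun x => by
    rw [map_sum, LinearMap.sum_apply]
    exact Finset.sum_congr rfl fun i _ => hcoord i x
  refine ⟨∑ i, b i, b ⟨0, hpos⟩, fun x => ?_, ?_, ?_⟩
  · rw [he, CharTwo.sum_mul_self]
    conv_rhs => arg 1; arg 2; rw [← b.sum_repr x]
    rw [map_sum, LinearMap.sum_apply]
    exact Finset.sum_congr rfl fun i _ => by
      rw [map_smul, LinearMap.smul_apply, hcoord, smul_eq_mul]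
  · simp [map_sum, hb]
  · simp [map_sum, hb]

theorem card_odd (hφ : Sym φ) (hna : ¬ ∀ x, φ x x = 0) {k : ℕ} (hd : finrank F W = 2 * k + 1) :
    Nat.card (isoGrp φ) = grpCard F k := by
  obtain ⟨e, f, he, -, hee⟩ := exists_sqrt hφ hna
  have hee : φ e e = 1 := by
    rw [hee, hd, Nat.cast_add, Nat.cast_mul, Nat.cast_ofNat, CharTwo.two_eq_zero, zero_mul,
      zero_add, Nat.cast_one]
  obtain ⟨hsym, hdim⟩ := perp_facts hφ hee
  let π : W →ₗ[F] LinearMap.ker (φ e) := (LinearMap.id - (φ e).smulRight e).codRestrict _ fun x => by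
    simp [hee]
  have hπ : ∀ x, (π x : W) = x - φ e x • e := fun x => rfl
  rw [← CfsgLib.SympCount.card_isoGrp_std (V := ↥(LinearMap.ker (φ e)))
    (B := φ.restrict (LinearMap.ker (φ e))) ⟨fun p => ?_, hsym.nd⟩ (m := k) (by omega),
    ← card_fix_eq hφ π]
  · refine Nat.card_congr (Equiv.subtypeUnivEquiv fun g x => ?_).symm
    rw [hπ, sub_sub_cancel, map_smul, fix_of_sqrt hφ he g.2]
  · exact fun r => Subtype.ext (by rw [hπ, LinearMap.mem_ker.1 r.2, zero_smul, sub_zero])
  · intro x r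
    rw [hπ, sub_sub_cancel, map_smul, LinearMap.smul_apply, LinearMap.mem_ker.1 r.2, smul_zero]
  · show φ (p : W) (p : W) = 0
    rw [← he, LinearMap.mem_ker.1 p.2, mul_zero]

theorem card_even (hφ : Sym φ) (hna : ¬ ∀ x, φ x x = 0) {k : ℕ} (hd : finrank F W = 2 * k + 2) :
    Nat.card (isoGrp φ) = Nat.card F ^ (2 * k + 1) * grpCard F k := by
  obtain ⟨e, f, he, hef, hee⟩ := exists_sqrt hφ hna
  have hee : φ e e = 0 := by
    rw [hee, hd, Nat.cast_add, Nat.cast_mul, Nat.cast_ofNat, CharTwo.two_eq_zero, zero_mul, zero_add]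
  have hff : ∀ f', φ e f' = 1 → φ f' f' = 1 := fun f' h => by rw [← he, h, mul_one]
  -- the decomposition at a vector `f'` with `φ e f' = 1`
  let Φ : W → (W →ₗ[F] F × F) := fun f' => (φ e).prod (φ f')
  have hdim : ∀ f', φ e f' = 1 → finrank F ↥(LinearMap.ker (Φ f')) + 2 = finrank F W := by
    intro f' hf'
    have hfe : φ f' e = 1 := by rw [hφ.symm]; exact hf'
    have hsurj : LinearMap.range (Φ f') = ⊤ := LinearMap.range_eq_top.2 fun ⟨a, b⟩ =>
      ⟨a • f' + (b - a) • e, by simp [Φ, hf', hfe, hee, hff f' hf']⟩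
    have := LinearMap.finrank_range_add_finrank_ker (Φ f')
    rw [hsurj, finrank_top, finrank_prod, finrank_self] at this
    omega
  have hproj : ∀ f', φ e f' = 1 → ∀ x, x - φ e x • f' - (φ f' x - φ e x) • e ∈ LinearMap.ker (Φ f') := by
    intro f' hf' x
    have hfe : φ f' e = 1 := by rw [hφ.symm]; exact hf'
    simp [Φ, hf', hfe, hee, hff f' hf']
  have hmem : ∀ f', ∀ r ∈ LinearMap.ker (Φ f'), φ e r = 0 ∧ φ f' r = 0 := fun f' r hr =>
    Prod.ext_iff.1 (LinearMap.mem_ker.1 hr)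
  have hsymp : ∀ f', φ e f' = 1 → Symp (φ.restrict (LinearMap.ker (Φ f'))) := fun f' hf' =>
    { alt := fun p => by show φ (p : W) (p : W) = 0; rw [← he, (hmem f' p p.2).1, mul_zero]
      nd := fun p hp => Subtype.ext (hφ.nd p fun x => by
        have h2 : φ (p : W) (x - φ e x • f' - (φ f' x - φ e x) • e) = 0 := hp ⟨_, hproj f' hf' x⟩
        have h3 : φ (p : W) f' = 0 := by rw [hφ.symm]; exact (hmem f' p p.2).2
        have h4 : φ (p : W) e = 0 := by rw [hφ.symm]; exact (hmem f' p p.2).1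
        simpa [h3, h4] using h2) }
  have hev := card_fiber (fun g : isoGrp φ => (g : W ≃ₗ[F] W) f) (fun f' => φ e f' = 1)
    (fun g => by
      show φ e ((g : W ≃ₗ[F] W) f) = 1
      rw [← fix_of_sqrt hφ he g.2, g.2, hef])
    (fun f' hf' => by
      have hfe : φ f e = 1 := by rw [hφ.symm]; exact hef
      have hfe' : φ f' e = 1 := by rw [hφ.symm]; exact hf'
      obtain ⟨α, hα⟩ := CfsgLib.SympCount.exists_isometry (hsymp f' hf') (hsymp f hef)
        (by have := hdim f hef; have := hdim f' hf'; omega)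
      let π : W →ₗ[F] LinearMap.ker (Φ f) :=
        (LinearMap.id - (φ e).smulRight f - (φ f - φ e).smulRight e).codRestrict _ (hproj f hef)
      have hπ : ∀ x, (π x : W) = x - φ e x • f - (φ f x - φ e x) • e := fun x => rfl
      let g₀ : W →ₗ[F] W := (φ e).smulRight f' + (φ f - φ e).smulRight e +
        (LinearMap.ker (Φ f')).subtype ∘ₗ α.toLinearMap ∘ₗ π
      have hg₀ : ∀ x, g₀ x = φ e x • f' + (φ f x - φ e x) • e + (α (π x) : W) := fun x => rfl
      have hpres : ∀ x y, φ (g₀ x) (g₀ y) = φ x y := fun x y => by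
        obtain ⟨ha1, ha2⟩ := hmem f' _ (α (π x)).2
        obtain ⟨hb1, hb2⟩ := hmem f' _ (α (π y)).2
        have hxy : φ (α (π x) : W) (α (π y) : W) = φ (π x : W) (π y : W) := hα (π x) (π y)
        have ha1' : φ (α (π x) : W) e = 0 := by rw [hφ.symm]; exact ha1
        have ha2' : φ (α (π x) : W) f' = 0 := by rw [hφ.symm]; exact ha2
        rw [hg₀, hg₀]
        simp only [map_add, map_smul, LinearMap.add_apply, LinearMap.smul_apply, smul_eq_mul, hee,
          hf', hfe', hff f' hf', ha1', ha2', hb1, hb2, hxy, hπ, map_sub, LinearMap.sub_apply,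
          hφ.symm x e, hφ.symm x f, hef, hfe, hff f hef]
        ring
      have hinj : Function.Injective g₀ := (injective_iff_map_eq_zero g₀).2 fun x hx =>
        hφ.nd x fun y => by rw [← hpres, hx, map_zero, LinearMap.zero_apply]
      refine ⟨⟨LinearEquiv.ofInjectiveEndo g₀ hinj, hpres⟩, ?_⟩
      show g₀ f = f'
      have : π f = 0 := Subtype.ext (by
        rw [hπ, hef, hff f hef, one_smul, sub_self, sub_self, zero_smul, sub_zero]; rfl)
      rw [hg₀, this, map_zero, hef, hff f hef, one_smul, sub_self, zero_smul, add_zero,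
        ZeroMemClass.coe_zero, add_zero])
    (fun g k k' hk => congrArg (g : W ≃ₗ[F] W) hk)
  rw [hev]
  congr 1
  · have hker : finrank F ↥(LinearMap.ker (φ e)) = 2 * k + 1 := by
      have hr : LinearMap.range (φ e) = ⊤ := LinearMap.range_eq_top.2 fun c => ⟨c • f, by simp [hef]⟩
      have := LinearMap.finrank_range_add_finrank_ker (φ e)
      rw [hr, finrank_top, finrank_self] at this
      omega
    rw [← hker, ← natCard_eq_pow_finrank (K := F)]
    exact Nat.card_congr ((Equiv.subRight f).subtypeEquiv fun x => by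
      simp [LinearMap.mem_ker, hef, sub_eq_zero])
  · let π : W →ₗ[F] LinearMap.ker (Φ f) :=
      (LinearMap.id - (φ e).smulRight f - (φ f - φ e).smulRight e).codRestrict _ (hproj f hef)
    have hπ : ∀ x, (π x : W) = x - φ e x • f - (φ f x - φ e x) • e := fun x => rfl
    have hd' := hdim f hef
    rw [← CfsgLib.SympCount.card_isoGrp_std (hsymp f hef) (m := k) (by omega), ← card_fix_eq hφ π]
    · refine Nat.card_congr (Equiv.subtypeEquivRight fun g => ⟨fun hg x => ?_, fun hg => ?_⟩)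
      · have hgf : (g : W ≃ₗ[F] W) f = f := hg
        rw [hπ, sub_sub, sub_sub_cancel, map_add, map_smul, map_smul, hgf, fix_of_sqrt hφ he g.2]
      · show (g : W ≃ₗ[F] W) f = f
        have h0 : (π f : W) = 0 := by
          rw [hπ, hef, hff f hef, one_smul, sub_self, sub_self, zero_smul, sub_zero]
        have := hg f
        rwa [h0, sub_zero] at this
    · exact fun r => Subtype.ext (by
        rw [hπ, (hmem f r r.2).1, (hmem f r r.2).2, zero_smul, sub_zero, sub_zero, zero_smul,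
          sub_zero])
    · intro x r
      rw [hπ, sub_sub, sub_sub_cancel, map_add, map_smul, map_smul, LinearMap.add_apply,
        LinearMap.smul_apply, LinearMap.smul_apply, (hmem f r r.2).1, (hmem f r r.2).2, smul_zero,
        smul_zero, add_zero]

end orders

end CfsgLib.Classical.InvolutionOrbit
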