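import Cfsg.Agent.Lib.Classical.InvolutionSymp
import Cfsg.Agent.Lib.Classical.InvolutionOrbit
import Cfsg.Agent.Lib.Classical.InvolutionCount

/-!
Centralisers of involutions of the symplectic groups in characteristic two.
-/

set_option autoImplicit false

namespace CfsgLib.Classical.InvolutionCentralizerSymp

open Module Matrix
open CfsgLib.SympCount (isoGrp grpCard)
open CfsgLib.Classical.InvolutionData CfsgLib.Classical.SympTrans CfsgLib.Classical.SympClasses
open CfsgLib.Classical.InvolutionSymp CfsgLib.Classical.InvolutionOrbit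
open CfsgLib.Classical.InvolutionCount

universe u

variable {F : Type u} [Field F] {m : ℕ}

local notation "V" => (Fin m ⊕ Fin m → F)
local notation "G" => Matrix.symplecticGroup (Fin m) F

theorem equivOf_injective : Function.Injective (equivOf : G → V ≃ₗ[F] V) := fun _ _ h =>
  ext_app fun x => LinearEquiv.congr_fun h x

theorem card_group_eq [Finite F] : Nat.card (isoGrp (sb F m)) = spOrd (Nat.card F) m := by
  rw [spOrd, Fin.prod_univ_eq_prod_range (fun i => Nat.card F ^ (2 * (i + 1)) - 1),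
    ← card_symplectic (m := m)]
  refine (Nat.card_congr (Equiv.ofBijective
    (fun g : G => (⟨equivOf g, sb_app g⟩ : isoGrp (sb F m))) ⟨fun a b h => ?_, fun g => ?_⟩)).symm
  · exact equivOf_injective (congrArg Subtype.val h)
  · obtain ⟨c, hc⟩ := exists_elem g.1 g.2
    exact ⟨c, Subtype.ext (LinearEquiv.ext hc)⟩

theorem card_centralizer_eq (t : G) :
    Nat.card ↥(Subgroup.centralizer ({t} : Set G)) =
      Nat.card (commGrp (isoGrp (sb F m)) (uS t)) := by
  have key : ∀ g : G, t * g = g * t ↔ ∀ x, equivOf g (uS t x) = uS t (equivOf g x) := fun g => by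
    show _ ↔ ∀ x, app g (uS t x) = uS t (app g x)
    simp only [uS_apply, app_sub, sub_left_inj, ← app_mul]
    exact ⟨fun e x => by rw [e], fun e => (ext_app fun x => (e x).symm)⟩
  refine Nat.card_congr (Equiv.ofBijective
    (fun g => (⟨equivOf g.1, sb_app g.1, (key g.1).1 (Subgroup.mem_centralizer_iff.1 g.2 t rfl)⟩ :
      commGrp (isoGrp (sb F m)) (uS t))) ⟨fun a b h => ?_, fun g => ?_⟩)
  · exact Subtype.ext (equivOf_injective (congrArg Subtype.val h))
  · obtain ⟨c, hc⟩ := exists_elem g.1 g.2.1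
    refine ⟨⟨c, Subgroup.mem_centralizer_iff.2 fun y hy => ?_⟩, Subtype.ext (LinearEquiv.ext hc)⟩
    rw [Set.mem_singleton_iff.1 hy]
    refine (key c).2 fun x => ?_
    show app c _ = uS t (app c x)
    rw [hc, hc]; exact g.2.2 x

variable [Finite F] [CharP F 2]

/-- The order of a centraliser in terms of the isometries of the form on the image. -/
theorem card_centralizer {t : G} (ht : t * t = 1) {l s e : ℕ}
    (hs : finrank F ↥(LinearMap.range (uS t)) = s) (hm : m = l + s)
    (he : 2 * e = 4 * l * s + s ^ 2 + s) :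
    Nat.card ↥(Subgroup.centralizer ({t} : Set G)) =
      Nat.card F ^ e * Nat.card (isoGrp (phi (sb F m) (uS t))) * spOrd (Nat.card F) l := by
  set u := uS t
  have hu : Nil (sb F m) u := nil ht
  let j₀ : (Fin s → F) →ₗ[F] V :=
    (LinearMap.range u).subtype ∘ₗ (finBasisOfFinrankEq F _ hs).equivFun.symm.toLinearMap
  have hj₀ : Function.Injective j₀ :=
    (LinearMap.range u).injective_subtype.comp (LinearEquiv.injective _)
  have hr : LinearMap.range j₀ = LinearMap.range u := by
    rw [LinearMap.range_comp, LinearEquiv.range, Submodule.map_top, Submodule.range_subtype]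
  let P : ((Fin s → F) →ₗ[F] V) → Prop := fun j =>
    Function.Injective j ∧ ∀ a b, sb F m (j a) (j b) = 0
  have hiso : ∀ a b, sb F m (j₀ a) (j₀ b) = 0 := fun a b =>
    hu.isotropic (hr ▸ LinearMap.mem_range_self j₀ a) (hr ▸ LinearMap.mem_range_self j₀ b)
  have hmain := card_comm (H := isoGrp (sb F m)) (symp_sb F m) (fun g hg => hg) hu j₀ hr P
    (fun g hg => ⟨g.injective.comp hj₀, fun a b => (hg _ _).trans (hiso a b)⟩)
    (fun j hj => by
      let φ := (LinearEquiv.ofInjective j₀ hj₀).symm.trans (LinearEquiv.ofInjective j hj.1)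
      obtain ⟨g, hg, hgX⟩ := CfsgLib.Classical.Witt.witt_alternating (sb F m)
        (nondegenerate (symp_sb F m)) (symp_sb F m).alt _ _ φ fun x y => by
          obtain ⟨a, ha⟩ := x.2
          obtain ⟨b, hb⟩ := y.2
          obtain ⟨a', ha'⟩ := (φ x).2
          obtain ⟨b', hb'⟩ := (φ y).2
          rw [← ha, ← hb, ← ha', ← hb', hiso, hj.2]
      refine ⟨g, hg, LinearMap.ext fun a => ?_⟩
      show g (j₀ a) = j a
      have := hgX (LinearEquiv.ofInjective j₀ hj₀ a)
      simpa [φ] using this)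
    (fun α _ => ⟨(LinearMap.range u).injective_subtype.comp (α.injective.comp
      fun a b h => hj₀ (congrArg Subtype.val h)), fun a b => hu.isotropic (Subtype.mem _) (Subtype.mem _)⟩)
  have hP : Nat.card {j // P j} = ∏ i ∈ Finset.range s,
      (Nat.card F ^ (2 * m - i) - Nat.card F ^ i) := by
    rw [← card_isoTuple (symp_sb F m) (m := m) (by simp) s (by omega)]
    let E := ((Pi.basisFun F (Fin s)).constr F : (Fin s → V) ≃ₗ[F] _)
    refine (Nat.card_congr (E.toEquiv.subtypeEquiv fun w => ?_)).symm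
    have hE : ∀ c, E w c = Fintype.linearCombination F w c := fun c => by
      simp [E, Basis.constr_apply_fintype, Fintype.linearCombination_apply]
    show IsoTuple _ w ↔ Function.Injective (E w) ∧ _
    rw [IsoTuple, linearIndependent_iff_injective_fintypeLinearCombination,
      show ⇑(E w) = ⇑(Fintype.linearCombination F w) from funext hE]
    refine and_congr_right fun _ => ⟨fun h a b => ?_, fun h i j => ?_⟩
    · simp [hE, Fintype.linearCombination_apply, map_sum, h]
    · simpa [hE, Fintype.linearCombination_apply_single] using h (Pi.single i 1) (Pi.single j 1)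
  have hsplit := spOrd_split (q := Nat.card F) l s e he
  rw [← hm] at hsplit
  rw [hP, ← card_centralizer_eq, card_group_eq, hsplit] at hmain
  have hne : ∏ i ∈ Finset.range s, (Nat.card F ^ (2 * m - i) - Nat.card F ^ i) ≠ 0 := fun h0 => by
    have h := card_group_eq (F := F) (m := m)
    rw [hsplit, h0, mul_zero, zero_mul] at h
    exact Nat.card_pos.ne' h
  refine mul_right_cancel₀ hne (hmain.trans ?_)
  ring

theorem phi_facts {t : G} (ht : t * t = 1) :
    Sym (phi (sb F m) (uS t)) ∧ (AltS t ↔ ∀ w, phi (sb F m) (uS t) w w = 0) :=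
  ⟨phi_sym (symp_sb F m) (nil ht), alt_iff (nil ht)⟩

omit [CharP F 2] in
theorem grpCard_spOrd (k : ℕ) : grpCard F k = spOrd (Nat.card F) k := by
  rw [CfsgLib.SympCount.grpCard_eq, spOrd,
    Fin.prod_univ_eq_prod_range (fun i => Nat.card F ^ (2 * (i + 1)) - 1), ← card_symplectic]

theorem rank_le {t : G} (ht : t * t = 1) : finrank F ↥(LinearMap.range (uS t)) ≤ m := by
  have := (nil ht).two_mul_rank_le
  rw [finrank_pi, Fintype.card_sum, Fintype.card_fin] at this
  omega

theorem card_odd {t : G} (ht : t * t = 1) {s : ℕ} (hs : finrank F ↥(LinearMap.range (uS t)) = s)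
    (hodd : Odd s) : Nat.card ↥(Subgroup.centralizer ({t} : Set G)) =
      Nat.card F ^ (2 * m * s - (3 * s ^ 2 - s) / 2) * spOrd (Nat.card F) ((s - 1) / 2) *
        spOrd (Nat.card F) (m - s) := by
  obtain ⟨k, rfl⟩ := hodd
  obtain ⟨l, hl⟩ := Nat.exists_eq_add_of_le' (hs ▸ rank_le ht)
  have hna : ¬ ∀ w, phi (sb F m) (uS t) w w = 0 := fun h => by
    have := even_of_alt (phi_facts ht).1 h
    rw [hs] at this
    exact Nat.not_even_iff_odd.2 ⟨k, rfl⟩ this
  rw [card_centralizer ht hs hl (e := 2 * l * (2 * k + 1) + (2 * k + 1) * (k + 1)) (by ring),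
    InvolutionOrbit.card_odd (phi_facts ht).1 hna hs, grpCard_spOrd, show (2 * k + 1 - 1) / 2 = k by omega,
    show m - (2 * k + 1) = l by omega]
  congr 3
  have h1 : 3 * (2 * k + 1) ^ 2 - (2 * k + 1) = 2 * (6 * k ^ 2 + 5 * k + 1) := by
    ring_nf; omega
  rw [h1, Nat.mul_div_cancel_left _ (by omega), hl]
  refine (Nat.sub_eq_of_eq_add ?_).symm
  ring

theorem card_alt {t : G} (ht : t * t = 1) {s : ℕ} (hs : finrank F ↥(LinearMap.range (uS t)) = s)
    (heven : Even s) (halt : AltS t) : Nat.card ↥(Subgroup.centralizer ({t} : Set G)) =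
      Nat.card F ^ (2 * m * s - (3 * s ^ 2 - s) / 2) * spOrd (Nat.card F) (s / 2) *
        spOrd (Nat.card F) (m - s) := by
  obtain ⟨k, rfl⟩ := heven
  obtain ⟨l, hl⟩ := Nat.exists_eq_add_of_le' (hs ▸ rank_le ht)
  rw [card_centralizer ht hs hl (e := 2 * l * (k + k) + k * (2 * k + 1)) (by ring),
    InvolutionOrbit.card_alt (phi_facts ht).1 ((phi_facts ht).2.1 halt) hs, grpCard_spOrd,
    show (k + k) / 2 = k by omega, show m - (k + k) = l by omega]
  congr 3
  have h1 : 3 * (k + k) ^ 2 - (k + k) = 2 * (6 * k ^ 2 - k) := by ring_nf; omega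
  have hk : k ≤ 6 * k ^ 2 := le_trans (Nat.le_self_pow two_ne_zero k) (Nat.le_mul_of_pos_left _ (by omega))
  rw [h1, Nat.mul_div_cancel_left _ (by omega), hl]
  refine (Nat.sub_eq_of_eq_add ?_).symm
  zify [hk]
  ring

theorem card_nonalt {t : G} (ht : t * t = 1) {s : ℕ} (hs : finrank F ↥(LinearMap.range (uS t)) = s)
    (heven : Even s) (hna : ¬ AltS t) : Nat.card ↥(Subgroup.centralizer ({t} : Set G)) =
      Nat.card F ^ (2 * m * s - (3 * s ^ 2 - 3 * s) / 2 - 1) * spOrd (Nat.card F) ((s - 2) / 2) *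
        spOrd (Nat.card F) (m - s) := by
  obtain ⟨k', rfl⟩ := heven
  have hna' : ¬ ∀ w, phi (sb F m) (uS t) w w = 0 := fun h => hna ((phi_facts ht).2.2 h)
  obtain ⟨k, rfl⟩ : ∃ k, k' = k + 1 := Nat.exists_eq_add_one.2 (Nat.pos_of_ne_zero fun h0 => hna' fun w => by
    subst h0
    rw [finrank_zero_iff_forall_zero.1 hs w, map_zero])
  obtain ⟨l, hl⟩ := Nat.exists_eq_add_of_le' (hs ▸ rank_le ht)
  rw [card_centralizer ht hs hl (e := 2 * l * (k + 1 + (k + 1)) + (k + 1) * (2 * k + 3)) (by ring),
    InvolutionOrbit.card_even (phi_facts ht).1 hna' (k := k) (by omega), grpCard_spOrd,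
    show (k + 1 + (k + 1) - 2) / 2 = k by omega, show m - (k + 1 + (k + 1)) = l by omega,
    ← mul_assoc (Nat.card F ^ _), ← pow_add]
  congr 3
  have h1 : 3 * (k + 1 + (k + 1)) ^ 2 - 3 * (k + 1 + (k + 1)) = 2 * (6 * k ^ 2 + 9 * k + 3) := by
    ring_nf; omega
  rw [h1, Nat.mul_div_cancel_left _ (by omega), hl, Nat.sub_sub]
  refine (Nat.sub_eq_of_eq_add ?_).symm
  ring

end CfsgLib.Classical.InvolutionCentralizerSymp
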