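import Cfsg.Agent.Lib.Classical.InvolutionOmegaStd
import Cfsg.Agent.Lib.Classical.InvolutionCentralizerSymp

/-!
Centralisers in `Ω⁺` of involutions in characteristic two.
-/

set_option autoImplicit false

namespace CfsgLib.Classical.InvolutionCentralizerOrth

open Module Matrix CfsgLib.Orth
open CfsgLib.SympCount (isoGrp grpCard)
open CfsgLib.Classical.InvolutionData CfsgLib.Classical.InvolutionOrbit
open CfsgLib.Classical.InvolutionOrth CfsgLib.Classical.InvolutionDickson
open CfsgLib.Classical.InvolutionCount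

universe u

variable {F : Type u} [Field F]

section general

variable {ι : Type} [Fintype ι] [DecidableEq ι] {Q : QuadraticForm F (ι → F)}

/-- The linear equivalences preserving `Q`. -/
def qGrp (Q : QuadraticForm F (ι → F)) : Subgroup ((ι → F) ≃ₗ[F] (ι → F)) where
  carrier := {g | ∀ x, Q (g x) = Q x}
  mul_mem' {g h} hg hh x := by rw [LinearEquiv.mul_apply, hg, hh]
  one_mem' _ := rfl
  inv_mem' {g} hg x := by
    conv_rhs => rw [← g.apply_symm_apply x, hg]
    rfl

/-- An isometry as a linear equivalence. -/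
def equivO (g : Grp Q) : (ι → F) ≃ₗ[F] (ι → F) where
  toFun := ap g
  map_add' := ap_add g
  map_smul' := ap_smul g
  invFun := ap g⁻¹
  left_inv := ap_inv_ap g
  right_inv := ap_ap_inv g

theorem equivO_injective : Function.Injective (equivO : Grp Q → _) := fun _ _ h =>
  ext_ap fun x => LinearEquiv.congr_fun h x

theorem card_qGrp (hB : Nondeg Q) : Nat.card (qGrp Q) = Nat.card (Grp Q) := by
  refine (Nat.card_congr (Equiv.ofBijective
    (fun g : Grp Q => (⟨equivO g, ap_q g⟩ : qGrp Q)) ⟨fun a b h => ?_, fun g => ?_⟩)).symm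
  · exact equivO_injective (congrArg Subtype.val h)
  · obtain ⟨c, hc⟩ := exists_iso hB g.1.toLinearMap g.2
    exact ⟨c, Subtype.ext (LinearEquiv.ext hc)⟩

theorem card_centralizer_eq (hB : Nondeg Q) (t : Grp Q) :
    Nat.card ↥(Subgroup.centralizer ({t} : Set (Grp Q))) = Nat.card (commGrp (qGrp Q) (uO t)) := by
  have key : ∀ g : Grp Q, t * g = g * t ↔ ∀ x, ap g (uO t x) = uO t (ap g x) := fun g => by
    simp only [uO_apply, ap_sub, sub_left_inj, ← ap_mul]
    exact ⟨fun e x => by rw [e], fun e => (ext_ap fun x => (e x).symm)⟩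
  refine Nat.card_congr (Equiv.ofBijective
    (fun g => (⟨equivO g.1, ap_q g.1, (key g.1).1 (Subgroup.mem_centralizer_iff.1 g.2 t rfl)⟩ :
      commGrp (qGrp Q) (uO t))) ⟨fun a b h => ?_, fun g => ?_⟩)
  · exact Subtype.ext (equivO_injective (congrArg Subtype.val h))
  · obtain ⟨c, hc⟩ := exists_iso hB g.1.toLinearMap g.2.1
    refine ⟨⟨c, Subgroup.mem_centralizer_iff.2 fun y hy => ?_⟩, Subtype.ext (LinearEquiv.ext hc)⟩
    rw [Set.mem_singleton_iff.1 hy]
    refine (key c).2 fun x => ?_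
    rw [hc, hc]; exact g.2.2 x

theorem card_comm_orth [CharP F 2] (hB : Nondeg Q) {t : Grp Q} (ht : t * t = 1) {U : Type u}
    [AddCommGroup U] [Module F U] (j₀ : U →ₗ[F] (ι → F)) (hj₀ : Function.Injective j₀)
    (hr : LinearMap.range j₀ = LinearMap.range (uO t)) :
    Nat.card ↥(Subgroup.centralizer ({t} : Set (Grp Q))) *
        Nat.card {j : U →ₗ[F] (ι → F) // Function.Injective j ∧ ∀ c, Q (j c) = Q (j₀ c)} =
      Nat.card (Grp Q) * Nat.card (isoGrp (phi (QuadraticMap.polarBilin Q) (uO t))) := by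
  rw [card_centralizer_eq hB, ← card_qGrp hB]
  refine card_comm (InvolutionOrth.symp hB) (fun g hg x y => ?_) (nil ht) j₀ hr _
    (fun g hg => ⟨g.injective.comp hj₀, fun c => hg _⟩) (fun j hj => ?_) (fun α hα => ?_)
  · simp only [QuadraticMap.polarBilin_apply_apply, QuadraticMap.polar, ← map_add, hg _]
  · let φ := (LinearEquiv.ofInjective j₀ hj₀).symm.trans (LinearEquiv.ofInjective j hj.1)
    obtain ⟨g, hg, hgX⟩ := CfsgLib.Classical.Witt.witt_quadratic Q (bilin_nondeg hB) _ _ φ fun x => by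
      obtain ⟨a, rfl⟩ := (LinearEquiv.ofInjective j₀ hj₀).surjective x
      simp [φ, hj.2]
    refine ⟨g, hg, LinearMap.ext fun a => ?_⟩
    show g (j₀ a) = j a
    have := hgX (LinearEquiv.ofInjective j₀ hj₀ a)
    simpa [φ] using this
  · refine ⟨(LinearMap.range (uO t)).injective_subtype.comp (α.injective.comp
      fun a b h => hj₀ (congrArg Subtype.val h)), fun c => ?_⟩
    have hq : ∀ w : LinearMap.range (uO t), Q (w : ι → F) =
        phi (QuadraticMap.polarBilin Q) (uO t) w w := fun w => by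
      obtain ⟨x, hx⟩ := w.2
      rw [phi_eq (nil ht) hx.symm, ← hx, quad_range (B := QuadraticMap.polarBilin Q)
        (fun _ _ => rfl) (preserves t)]
    show Q ((α (j₀.codRestrict _ _ c) : LinearMap.range (uO t)) : ι → F) = Q (j₀ c)
    rw [hq, hα, ← hq]
    rfl

theorem card_omega_part {hB : Nondeg Q} (hΩ : Cfsg.Omega F ⇑Q = (dickson hB).ker) (t : Grp Q) :
    Nat.card {g : ↥(Cfsg.Omega F ⇑Q) // (g : Grp Q) * t = t * (g : Grp Q)} =
      Nat.card {c : ↥(Subgroup.centralizer ({t} : Set (Grp Q))) //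
        dickson hB (c : Grp Q) = 1} := by
  refine Nat.card_congr
    { toFun := fun g => ⟨⟨g.1.1, Subgroup.mem_centralizer_iff.2 fun y hy => by
          rw [Set.mem_singleton_iff.1 hy]; exact g.2.symm⟩,
        MonoidHom.mem_ker.1 (hΩ ▸ g.1.2 : g.1.1 ∈ (dickson hB).ker)⟩
      invFun := fun c => ⟨⟨c.1.1, by rw [hΩ]; exact c.2⟩,
        (Subgroup.mem_centralizer_iff.1 c.1.2 t rfl).symm⟩
      left_inv := fun g => rfl
      right_inv := fun c => rfl }

theorem two_mul_omega_part {hB : Nondeg Q} (hΩ : Cfsg.Omega F ⇑Q = (dickson hB).ker) [CharP F 2]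
    {t : Grp Q} (ht : t * t = 1)
    (hnot : ¬ (2 * finrank F ↥(LinearMap.range (uO t)) = finrank F (ι → F) ∧ AltO t)) :
    Nat.card ↥(Subgroup.centralizer ({t} : Set (Grp Q))) =
      2 * Nat.card {g : ↥(Cfsg.Omega F ⇑Q) // (g : Grp Q) * t = t * (g : Grp Q)} := by
  obtain ⟨v, hv, hQv⟩ := exists_fixed_aniso hB ht hnot
  obtain ⟨r, hr, hrt⟩ := exists_odd_commutant hB ht hv hQv
  have h := card_fiber (fun c : ↥(Subgroup.centralizer ({t} : Set (Grp Q))) => dickson hB (c : Grp Q))
    (fun _ => True) (fun _ => trivial) (fun x _ => by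
      rcases Int.units_eq_one_or x with rfl | rfl
      · exact ⟨1, map_one _⟩
      · exact ⟨⟨r, Subgroup.mem_centralizer_iff.2 fun y hy => by
          rw [Set.mem_singleton_iff.1 hy]; exact hrt.symm⟩, hr⟩)
    (fun g k k' hk => by simp [map_mul, hk])
  rw [h, card_omega_part hΩ, Nat.card_congr (Equiv.subtypeUnivEquiv fun _ => trivial),
    Nat.card_eq_fintype_card]
  simp only [OneMemClass.coe_one, map_one]
  rfl

theorem omega_part_all {hB : Nondeg Q} (hΩ : Cfsg.Omega F ⇑Q = (dickson hB).ker) {t : Grp Q}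
    (hU : IsHalf Q (LinearMap.range (uO t))) :
    Nat.card {g : ↥(Cfsg.Omega F ⇑Q) // (g : Grp Q) * t = t * (g : Grp Q)} =
      Nat.card ↥(Subgroup.centralizer ({t} : Set (Grp Q))) := by
  rw [card_omega_part hΩ]
  refine Nat.card_congr (Equiv.subtypeUnivEquiv fun c => ?_)
  have hc : (c : Grp Q) * t * (c : Grp Q)⁻¹ = t := by
    rw [← Subgroup.mem_centralizer_iff.1 c.2 t rfl, mul_inv_cancel_right]
  rw [dickson_half hB hU, ← range_conj hc, inf_idem]
  exact Even.neg_one_pow ⟨_, rfl⟩

end general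

variable [Finite F] [CharP F 2] {m : ℕ} {Q : QuadraticForm F (Fin m ⊕ Fin m → F)}

local notation "bQ" => QuadraticMap.polarBilin Q

omit [Finite F] in
theorem isAlt (hB : Nondeg Q) : (bQ).IsAlt := (InvolutionOrth.symp hB).alt

omit [CharP F 2] in
theorem card_grp (hQ : ⇑Q = Cfsg.quadFormPlus m F) (hB : Nondeg Q) (hm : 1 ≤ m) :
    Nat.card (Grp Q) = orthOrd (Nat.card F) m := by
  rw [orthOrd, if_neg (by omega), card_orth_plus m hm hQ hB]

omit [Finite F] in
theorem phi_facts {hB : Nondeg Q} {t : Grp Q} (ht : t * t = 1) :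
    Sym (phi bQ (uO t)) ∧ (AltO t ↔ ∀ w, phi bQ (uO t) w w = 0) ∧
      finrank F ↥(LinearMap.range (uO t)) ≤ m ∧
      ∀ w : LinearMap.range (uO t), Q (w : _) = phi bQ (uO t) w w := by
  refine ⟨phi_sym (InvolutionOrth.symp hB) (nil ht), alt_iff (nil ht), ?_, fun w => ?_⟩
  · have := (nil ht).two_mul_rank_le
    rw [finrank_pi, Fintype.card_sum, Fintype.card_fin] at this
    omega
  · obtain ⟨x, hx⟩ := w.2
    rw [phi_eq (nil ht) hx.symm, ← hx, quad_range (B := bQ) (fun _ _ => rfl) (preserves t)]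

theorem centralizer_alt (hQ : ⇑Q = Cfsg.quadFormPlus m F) (hB : Nondeg Q) (hm : 1 ≤ m) {t : Grp Q}
    (ht : t * t = 1) (hA : AltO t) {l s e : ℕ} (hs : finrank F ↥(LinearMap.range (uO t)) = s)
    (hml : m = l + s) (he : 2 * e + s = 4 * l * s + s ^ 2) :
    Nat.card ↥(Subgroup.centralizer ({t} : Set (Grp Q))) =
      Nat.card F ^ e * Nat.card (isoGrp (phi bQ (uO t))) * orthOrd (Nat.card F) l := by
  obtain ⟨-, hAiff, -, hq⟩ := phi_facts (hB := hB) ht
  let b := finBasisOfFinrankEq F ↥(LinearMap.range (uO t)) hs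
  let j₀ : (Fin s → F) →ₗ[F] (Fin m ⊕ Fin m → F) :=
    (LinearMap.range (uO t)).subtype ∘ₗ b.equivFun.symm.toLinearMap
  have hj₀ : Function.Injective j₀ :=
    (LinearMap.range (uO t)).injective_subtype.comp (LinearEquiv.injective _)
  have hr : LinearMap.range j₀ = LinearMap.range (uO t) := by
    rw [LinearMap.range_comp, LinearEquiv.range, Submodule.map_top, Submodule.range_subtype]
  have hmain := card_comm_orth hB ht j₀ hj₀ hr
  have h0 : ∀ c, Q (j₀ c) = 0 := fun c => (hq _).trans (hAiff.1 hA _)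
  simp only [h0] at hmain
  have hP : Nat.card {j : (Fin s → F) →ₗ[F] (Fin m ⊕ Fin m → F) //
      Function.Injective j ∧ ∀ c, Q (j c) = 0} =
      ∏ i ∈ Finset.range s, Nat.card F ^ i *
        ((Nat.card F ^ (m - i) - 1) * (Nat.card F ^ (m - i - 1) + 1)) := by
    rw [← card_singTuple hQ hB (isAlt hB) s (by omega)]
    let E := ((Pi.basisFun F (Fin s)).constr F :
      (Fin s → (Fin m ⊕ Fin m → F)) ≃ₗ[F] _)
    refine (Nat.card_congr (E.toEquiv.subtypeEquiv fun w => ?_)).symm
    have hE : ∀ c, E w c = Fintype.linearCombination F w c := fun c => by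
      simp [E, Basis.constr_apply_fintype, Fintype.linearCombination_apply]
    show SingTuple Q w ↔ Function.Injective (E w) ∧ _
    rw [show ⇑(E w) = ⇑(Fintype.linearCombination F w) from funext hE]
    constructor
    · intro hw
      refine ⟨linearIndependent_iff_injective_fintypeLinearCombination.1 hw.1.1, fun c => ?_⟩
      show Q (E w c) = 0
      rw [hE, Fintype.linearCombination_apply]
      exact (q_span hw (Submodule.sum_mem _ fun i _ =>
        Submodule.smul_mem _ _ (Submodule.subset_span ⟨i, rfl⟩))).1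
    · rintro ⟨hi, hc⟩
      have hc' : ∀ c, Q (Fintype.linearCombination F w c) = 0 := fun c => by
        rw [← hE]; exact hc c
      have hw : ∀ i, Q (w i) = 0 := fun i => by
        simpa [Fintype.linearCombination_apply_single] using hc' (Pi.single i 1)
      refine ⟨⟨linearIndependent_iff_injective_fintypeLinearCombination.2 hi, fun i j => ?_⟩, hw⟩
      have h1 := hc' (Pi.single i 1 + Pi.single j 1)
      rw [map_add, Fintype.linearCombination_apply_single, Fintype.linearCombination_apply_single,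
        one_smul, one_smul, q_add, hw, hw, zero_add, zero_add] at h1
      exact h1
  have hsplit := orthOrd_split (q := Nat.card F) l s e he
  rw [← hml] at hsplit
  rw [hP, card_grp hQ hB hm, hsplit] at hmain
  have hne : ∏ i ∈ Finset.range s, Nat.card F ^ i *
      ((Nat.card F ^ (m - i) - 1) * (Nat.card F ^ (m - i - 1) + 1)) ≠ 0 := fun h0 => by
    have h := card_grp hQ hB hm
    rw [hsplit, h0, mul_zero, zero_mul] at h
    exact Nat.card_pos.ne' h
  refine mul_right_cancel₀ hne (hmain.trans ?_)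
  ring

theorem centralizer_nonalt (hQ : ⇑Q = Cfsg.quadFormPlus m F) (hB : Nondeg Q) {t : Grp Q}
    (ht : t * t = 1) (hA : ¬ AltO t) {l k : ℕ} (hs : finrank F ↥(LinearMap.range (uO t)) = k + 1)
    (hml : m = l + (k + 1)) {e : ℕ} (he : 2 * e = 4 * l * k + k ^ 2 + k) :
    Nat.card ↥(Subgroup.centralizer ({t} : Set (Grp Q))) =
      2 * Nat.card F ^ e * Nat.card (isoGrp (phi bQ (uO t))) * spOrd (Nat.card F) l := by
  classical
  obtain ⟨hsym, hAiff, -, hq⟩ := phi_facts (hB := hB) ht
  obtain ⟨w, hw⟩ := exists_orthonormal _ _ _ hsym hs (Or.inr fun h => hA (hAiff.2 h))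
  -- the linear change of coordinates moving the sum of the coordinates to the last one
  let σ : (Fin (k + 1) → F) →ₗ[F] F := ∑ i, LinearMap.proj i
  have hσ : ∀ z, σ z = ∑ i, z i := fun z => by simp [σ]
  let T : (Fin (k + 1) → F) →ₗ[F] (Fin (k + 1) → F) :=
    LinearMap.pi (Fin.lastCases σ fun i => LinearMap.proj i.castSucc)
  have hTl : ∀ z, T z (Fin.last k) = σ z := fun z => by simp [T]
  have hTc : ∀ z i, T z (Fin.castSucc i) = z i.castSucc := fun z i => by simp [T]
  have hT : Function.Involutive T := fun z => funext fun i => by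
    cases i using Fin.lastCases with
    | last =>
      rw [hTl, hσ, Fin.sum_univ_castSucc]
      simp only [hTc, hTl, hσ, Fin.sum_univ_castSucc]
      rw [← add_assoc, CharTwo.add_self_eq_zero, zero_add]
    | cast i => rw [hTc, hTc]
  let j₁ : (Fin (k + 1) → F) →ₗ[F] ↥(LinearMap.range (uO t)) := Fintype.linearCombination F w ∘ₗ T
  have hφ : ∀ c, phi bQ (uO t) (Fintype.linearCombination F w c) (Fintype.linearCombination F w c) =
      σ c * σ c := fun c => by
    rw [hσ, CharTwo.sum_mul_self, Fintype.linearCombination_apply]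
    simp [map_sum, hw]
  have hli : LinearIndependent F w := Fintype.linearIndependent_iff.2 fun g hg i => by
    have := congrArg (phi bQ (uO t) (w i)) hg
    simpa [map_sum, hw] using this
  have hj₁ : Function.Bijective j₁ := by
    have hi : Function.Injective j₁ :=
      (linearIndependent_iff_injective_fintypeLinearCombination.1 hli).comp hT.injective
    exact ⟨hi, (LinearMap.injective_iff_surjective_of_finrank_eq_finrank (by rw [hs, finrank_fin_fun])).1 hi⟩
  let j₀ := (LinearMap.range (uO t)).subtype ∘ₗ j₁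
  have hj₀ : Function.Injective j₀ := (LinearMap.range (uO t)).injective_subtype.comp hj₁.1
  have hr : LinearMap.range j₀ = LinearMap.range (uO t) := by
    rw [LinearMap.range_comp, LinearMap.range_eq_top.2 hj₁.2, Submodule.map_top, Submodule.range_subtype]
  have hmain := card_comm_orth hB ht j₀ hj₀ hr
  have h0 : ∀ c, Q (j₀ c) = c (Fin.last k) * c (Fin.last k) := fun c => by
    rw [show j₀ c = (j₁ c : _) from rfl, hq]
    show phi bQ (uO t) (Fintype.linearCombination F w (T c))
      (Fintype.linearCombination F w (T c)) = _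
    rw [hφ]
    conv_rhs => rw [← hT c, hTl]
  simp only [h0] at hmain
  have hP : Nat.card {j : (Fin (k + 1) → F) →ₗ[F] (Fin m ⊕ Fin m → F) //
      Function.Injective j ∧ ∀ c, Q (j c) = c (Fin.last k) * c (Fin.last k)} =
      (∏ i ∈ Finset.range k, Nat.card F ^ i *
        ((Nat.card F ^ (m - i) - 1) * (Nat.card F ^ (m - i - 1) + 1))) *
        (Nat.card F ^ k * (Nat.card F ^ (m - k - 1) * (Nat.card F ^ (m - k) - 1))) := by
    rw [← card_unitTuple hQ hB (isAlt hB) (k := k) (by omega)]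
    let E := ((Pi.basisFun F (Fin (k + 1))).constr F :
      (Fin (k + 1) → (Fin m ⊕ Fin m → F)) ≃ₗ[F] _)
    refine (Nat.card_congr (E.toEquiv.subtypeEquiv fun v => ?_)).symm
    have hE : ∀ c, E v c = ∑ i : Fin k, c i.castSucc • Fin.init v i + c (Fin.last k) • v (Fin.last k) :=
      fun c => by simp [E, Basis.constr_apply_fintype, Fin.sum_univ_castSucc, Fin.init]
    have hEs : ∀ i, E v (Pi.single i 1) = v i := fun i => by
      simpa [E, Pi.basisFun_apply] using (Pi.basisFun F (Fin (k + 1))).constr_basis F v i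
    show (SingTuple Q (Fin.init v) ∧ _) ↔ Function.Injective (E v) ∧ ∀ c, Q (E v c) = _
    constructor
    · rintro ⟨hs', hb, h1⟩
      have hQE : ∀ c, Q (E v c) = c (Fin.last k) * c (Fin.last k) := fun c => by
        have hx : ∑ i : Fin k, c i.castSucc • Fin.init v i ∈ Submodule.span F (Set.range (Fin.init v)) :=
          Submodule.sum_mem _ fun i _ => Submodule.smul_mem _ _ (Submodule.subset_span ⟨i, rfl⟩)
        have hxv : QuadraticMap.polar ⇑Q (∑ i : Fin k, c i.castSucc • Fin.init v i)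
            (c (Fin.last k) • v (Fin.last k)) = 0 := by
          rw [← bq_apply]
          simp [map_sum, hb]
        rw [hE, q_add, (q_span hs' hx).1, hxv, q_smul, h1, mul_one, zero_add, add_zero]
      refine ⟨(injective_iff_map_eq_zero (E v)).2 fun c hc => ?_, hQE⟩
      have hl : c (Fin.last k) = 0 := by
        have h2 := hQE c
        rw [hc, QuadraticMap.map_zero] at h2
        exact mul_self_eq_zero.1 h2.symm
      rw [hE, hl, zero_smul, add_zero] at hc
      funext i
      cases i using Fin.lastCases with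
      | last => exact hl
      | cast i => exact Fintype.linearIndependent_iff.1 hs'.1.1 (fun i => c i.castSucc) hc i
    · rintro ⟨hi, hc⟩
      have hv : ∀ i, Q (v i) = (Pi.single i 1 : Fin (k + 1) → F) (Fin.last k) := fun i => by
        rw [← hEs, hc]
        by_cases h : Fin.last k = i <;> simp [Pi.single_apply, h]
      have hpol : ∀ i j, bQ (v i) (v j) = 0 := fun i j => by
        have hc2 := hc (Pi.single i 1 + Pi.single j 1)
        rw [map_add, hEs, hEs, q_add, hv, hv, Pi.add_apply, CharTwo.add_mul_self] at hc2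
        have : ∀ l : Fin (k + 1), (Pi.single l 1 : Fin (k + 1) → F) (Fin.last k) *
            (Pi.single l 1 : Fin (k + 1) → F) (Fin.last k) =
            (Pi.single l 1 : Fin (k + 1) → F) (Fin.last k) := fun l => by
          by_cases h : Fin.last k = l <;> simp [Pi.single_apply, h]
        rw [this, this, add_eq_left] at hc2
        exact hc2
      have hlv : LinearIndependent F v :=
        linearIndependent_iff_injective_fintypeLinearCombination.2 (fun a b h => hi (by
          simpa [E, Basis.constr_apply_fintype, Fintype.linearCombination_apply] using h))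
      refine ⟨⟨⟨hlv.comp _ (Fin.castSucc_injective k), fun i j => hpol _ _⟩, fun i => ?_⟩,
        fun i => hpol _ _, ?_⟩
      · show Q (v i.castSucc) = 0
        rw [hv, Pi.single_eq_of_ne (Fin.castSucc_lt_last i).ne']
      · rw [hv, Pi.single_eq_same]
  rw [hP, card_grp hQ hB (by omega)] at hmain
  have hsplit := orthOrd_split (q := Nat.card F) (l + 1) k (e + k) (by linarith)
  rw [show l + 1 + k = m by omega] at hsplit
  rw [show m - k - 1 = l by omega, show m - k = l + 1 by omega] at hmain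
  have hord : orthOrd (Nat.card F) (l + 1) =
      2 * (Nat.card F ^ l * (Nat.card F ^ (l + 1) - 1)) * spOrd (Nat.card F) l := by
    rw [orthOrd, if_neg (Nat.succ_ne_zero l), Nat.add_sub_cancel, spOrd,
      Fin.prod_univ_eq_prod_range (fun i => Nat.card F ^ (2 * (i + 1)) - 1),
      show (l + 1) * l = l + l ^ 2 by ring, pow_add]
    ring
  rw [hsplit, hord, pow_add (Nat.card F) e k] at hmain
  have hne : (∏ i ∈ Finset.range k, Nat.card F ^ i *
      ((Nat.card F ^ (m - i) - 1) * (Nat.card F ^ (m - i - 1) + 1))) *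
        (Nat.card F ^ k * (Nat.card F ^ l * (Nat.card F ^ (l + 1) - 1))) ≠ 0 := fun h0 => by
    have h := card_grp hQ hB (by omega)
    rw [hsplit, hord, pow_add (Nat.card F) e k] at h
    refine Nat.card_pos.ne' (h.trans ?_)
    linear_combination (2 * Nat.card F ^ e * spOrd (Nat.card F) l) * h0
  refine mul_right_cancel₀ hne (hmain.trans ?_)
  ring

theorem omega_nonalt (hQ : ⇑Q = Cfsg.quadFormPlus m F) (hB : Nondeg Q)
    (hh : Nat.card F ≠ 2 ∨ m ≠ 2) {t : Grp Q} (ht : t * t = 1) (hA : ¬ AltO t) {l k e : ℕ}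
    (hs : finrank F ↥(LinearMap.range (uO t)) = k + 1) (hml : m = l + (k + 1))
    (he : 2 * e = 4 * l * k + k ^ 2 + k) :
    Nat.card {g : ↥(Cfsg.Omega F ⇑Q) // (g : Grp Q) * t = t * (g : Grp Q)} =
      Nat.card F ^ e * Nat.card (isoGrp (phi bQ (uO t))) * spOrd (Nat.card F) l := by
  have hΩ := InvolutionOmegaStd.omega_plus_eq_ker hB (by omega) hh
  have h := (two_mul_omega_part hΩ ht fun hc => hA hc.2).symm.trans
    (centralizer_nonalt hQ hB ht hA hs hml he)
  rw [mul_assoc 2 (Nat.card F ^ e), mul_assoc 2] at h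
  exact Nat.eq_of_mul_eq_mul_left two_pos h

theorem omega_odd (hQ : ⇑Q = Cfsg.quadFormPlus m F) (hB : Nondeg Q)
    (hh : Nat.card F ≠ 2 ∨ m ≠ 2) {t : Grp Q} (ht : t * t = 1) {s : ℕ}
    (hs : finrank F ↥(LinearMap.range (uO t)) = s) (hodd : Odd s) :
    Nat.card {g : ↥(Cfsg.Omega F ⇑Q) // (g : Grp Q) * t = t * (g : Grp Q)} =
      Nat.card F ^ (2 * m * (s - 1) - (3 * s ^ 2 - 3 * s) / 2) *
        spOrd (Nat.card F) ((s - 1) / 2) * spOrd (Nat.card F) (m - s) := by
  obtain ⟨hsym, hAiff, hle, -⟩ := phi_facts (hB := hB) ht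
  obtain ⟨k, rfl⟩ := hodd
  obtain ⟨l, hl⟩ := Nat.exists_eq_add_of_le' (hs ▸ hle)
  have hna : ¬ ∀ w, phi bQ (uO t) w w = 0 := fun h => by
    have := even_of_alt hsym h
    rw [hs] at this
    exact Nat.not_even_iff_odd.2 ⟨k, rfl⟩ this
  rw [omega_nonalt hQ hB hh ht (fun h => hna (hAiff.1 h)) hs hl
      (e := 4 * l * k + k * (2 * k + 1)) (by ring),
    InvolutionOrbit.card_odd hsym hna hs, InvolutionCentralizerSymp.grpCard_spOrd,
    show (2 * k + 1 - 1) / 2 = k by omega, show 2 * k + 1 - 1 = 2 * k by omega,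
    show m - (2 * k + 1) = l by omega]
  congr 3
  have h1 : 3 * (2 * k + 1) ^ 2 - 3 * (2 * k + 1) = 2 * (6 * k ^ 2 + 3 * k) := by ring_nf; omega
  rw [h1, Nat.mul_div_cancel_left _ (by omega), hl]
  refine (Nat.sub_eq_of_eq_add ?_).symm
  ring

theorem omega_even (hQ : ⇑Q = Cfsg.quadFormPlus m F) (hB : Nondeg Q)
    (hh : Nat.card F ≠ 2 ∨ m ≠ 2) {t : Grp Q} (ht : t * t = 1) {s : ℕ}
    (hs : finrank F ↥(LinearMap.range (uO t)) = s) (heven : Even s) (hA : ¬ AltO t) :
    Nat.card {g : ↥(Cfsg.Omega F ⇑Q) // (g : Grp Q) * t = t * (g : Grp Q)} =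
      Nat.card F ^ (2 * m * (s - 1) - (3 * s ^ 2 - 5 * s) / 2 - 1) *
        spOrd (Nat.card F) ((s - 2) / 2) * spOrd (Nat.card F) (m - s) := by
  obtain ⟨hsym, hAiff, hle, -⟩ := phi_facts (hB := hB) ht
  obtain ⟨k', rfl⟩ := heven
  have hna : ¬ ∀ w, phi bQ (uO t) w w = 0 := fun h => hA (hAiff.2 h)
  obtain ⟨k, rfl⟩ : ∃ k, k' = k + 1 := Nat.exists_eq_add_one.2 (Nat.pos_of_ne_zero fun h0 => hna fun w => by
    subst h0
    rw [finrank_zero_iff_forall_zero.1 hs w, map_zero])
  obtain ⟨l, hl⟩ := Nat.exists_eq_add_of_le' (hs ▸ hle)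
  rw [omega_nonalt hQ hB hh ht hA (k := 2 * k + 1) (hs.trans (by ring)) (hl.trans (by ring))
      (e := 2 * l * (2 * k + 1) + (2 * k + 1) * (k + 1)) (by ring),
    InvolutionOrbit.card_even hsym hna (k := k) (by omega), InvolutionCentralizerSymp.grpCard_spOrd,
    show (k + 1 + (k + 1) - 2) / 2 = k by omega, show k + 1 + (k + 1) - 1 = 2 * k + 1 by omega,
    show m - (k + 1 + (k + 1)) = l by omega, ← mul_assoc (Nat.card F ^ _), ← pow_add]
  congr 3
  have h1 : 3 * (k + 1 + (k + 1)) ^ 2 - 5 * (k + 1 + (k + 1)) = 2 * (6 * k ^ 2 + 7 * k + 1) := by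
    ring_nf; omega
  rw [h1, Nat.mul_div_cancel_left _ (by omega), hl, Nat.sub_sub]
  refine (Nat.sub_eq_of_eq_add ?_).symm
  ring

theorem omega_alt (hQ : ⇑Q = Cfsg.quadFormPlus m F) (hB : Nondeg Q)
    (hh : Nat.card F ≠ 2 ∨ m ≠ 2) {t : Grp Q} (ht : t * t = 1) {s : ℕ}
    (hs : finrank F ↥(LinearMap.range (uO t)) = s) (hs0 : 1 ≤ s) (heven : Even s) (hA : AltO t) :
    Nat.card {g : ↥(Cfsg.Omega F ⇑Q) // (g : Grp Q) * t = t * (g : Grp Q)} =
      Nat.card F ^ (2 * m * s - (3 * s ^ 2 + s) / 2) * spOrd (Nat.card F) (s / 2) *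
        (if s = m then 1 else Nat.card F ^ ((m - s) * (m - s - 1)) * (Nat.card F ^ (m - s) - 1) *
          ∏ i : Fin (m - s - 1), (Nat.card F ^ (2 * ((i : ℕ) + 1)) - 1)) := by
  obtain ⟨hsym, hAiff, hle, hq⟩ := phi_facts (hB := hB) ht
  obtain ⟨k, rfl⟩ := heven
  obtain ⟨l, hl⟩ := Nat.exists_eq_add_of_le' (hs ▸ hle)
  have hm : 1 ≤ m := by omega
  have hΩ := InvolutionOmegaStd.omega_plus_eq_ker hB hm hh
  have hc := centralizer_alt hQ hB hm ht hA hs hl (e := 4 * l * k + (2 * k ^ 2 - k))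
    (by
      have : k ≤ 2 * k ^ 2 := le_trans (Nat.le_self_pow two_ne_zero k) (Nat.le_mul_of_pos_left _ two_pos)
      zify [this]; ring)
  rw [InvolutionOrbit.card_alt hsym (hAiff.1 hA) hs, InvolutionCentralizerSymp.grpCard_spOrd] at hc
  have hexp : 2 * m * (k + k) - (3 * (k + k) ^ 2 + (k + k)) / 2 = 4 * l * k + (2 * k ^ 2 - k) := by
    have h1 : 3 * (k + k) ^ 2 + (k + k) = 2 * (6 * k ^ 2 + k) := by ring
    have hk : k ≤ 2 * k ^ 2 := le_trans (Nat.le_self_pow two_ne_zero k) (Nat.le_mul_of_pos_left _ two_pos)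
    rw [h1, Nat.mul_div_cancel_left _ two_pos, hl]
    refine Nat.sub_eq_of_eq_add ?_
    zify [hk]; ring
  rw [hexp, show (k + k) / 2 = k by omega, show m - (k + k) = l by omega]
  by_cases hsm : k + k = m
  · rw [if_pos hsm, mul_one]
    have hl0 : l = 0 := by omega
    have hd : finrank F (Fin m ⊕ Fin m → F) = m + m := by simp
    rw [omega_part_all hΩ ⟨?_, by omega⟩, hc, hl0]
    · simp [orthOrd]
    · intro x hx
      exact (hq ⟨x, hx⟩).trans (hAiff.1 hA _)
  · rw [if_neg hsm]
    have hd : finrank F (Fin m ⊕ Fin m → F) = m + m := by simp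
    have h := (two_mul_omega_part hΩ ht fun hn => hsm (by have := hn.1; omega)).symm.trans hc
    rw [orthOrd, if_neg (by omega)] at h
    refine Nat.eq_of_mul_eq_mul_left two_pos (h.trans ?_)
    rw [Fin.prod_univ_eq_prod_range (fun i => Nat.card F ^ (2 * (i + 1)) - 1)]
    ring

end CfsgLib.Classical.InvolutionCentralizerOrth
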