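import Mathlib

/-!
Counting the classes of involutions separated by a rank and a parity condition.
-/

set_option autoImplicit false

namespace CfsgLib.Classical.InvolutionClasses

/-- Classes of involutions are counted by the attained invariants. -/
theorem card_classes {G : Type*} [Group G] (r : G → ℕ) (A : G → Prop) (S T : Finset ℕ)
    (hiff : ∀ a b : G, orderOf a = 2 → orderOf b = 2 → (IsConj a b ↔ r a = r b ∧ (A a ↔ A b)))
    (hA : ∀ a, orderOf a = 2 → A a → r a ∈ T)
    (hnA : ∀ a, orderOf a = 2 → ¬ A a → r a ∈ S)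
    (hS : ∀ s ∈ S, ∃ a, orderOf a = 2 ∧ r a = s ∧ ¬ A a)
    (hT : ∀ s ∈ T, ∃ a, orderOf a = 2 ∧ r a = s ∧ A a) :
    Nat.card {C : ConjClasses G // ∃ g : G, ConjClasses.mk g = C ∧ orderOf g = 2} =
      S.card + T.card := by
  choose f hf using hS
  choose g hg using hT
  let rep : S ⊕ T → G := Sum.elim (fun s => f s.1 s.2) fun s => g s.1 s.2
  have hrep : ∀ i, orderOf (rep i) = 2 := by
    rintro (s | s)
    · exact (hf s.1 s.2).1
    · exact (hg s.1 s.2).1
  let Φ : S ⊕ T → {C : ConjClasses G // ∃ g : G, ConjClasses.mk g = C ∧ orderOf g = 2} :=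
    fun i => ⟨ConjClasses.mk (rep i), rep i, rfl, hrep i⟩
  have hbij : Function.Bijective Φ := by
    constructor
    · intro i j hij
      obtain ⟨hr, hAA⟩ := (hiff _ _ (hrep i) (hrep j)).1
        (ConjClasses.mk_eq_mk_iff_isConj.1 (congrArg Subtype.val hij))
      rcases i with ⟨s, hs⟩ | ⟨s, hs⟩ <;> rcases j with ⟨s', hs'⟩ | ⟨s', hs'⟩
      · exact congrArg Sum.inl (Subtype.ext ((hf s hs).2.1.symm.trans (hr.trans (hf s' hs').2.1)))
      · exact absurd (hAA.2 (hg s' hs').2.2) (hf s hs).2.2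
      · exact absurd (hAA.1 (hg s hs).2.2) (hf s' hs').2.2
      · exact congrArg Sum.inr (Subtype.ext ((hg s hs).2.1.symm.trans (hr.trans (hg s' hs').2.1)))
    · rintro ⟨C, a, rfl, ha⟩
      by_cases h : A a
      · refine ⟨Sum.inr ⟨r a, hA a ha h⟩, Subtype.ext (ConjClasses.mk_eq_mk_iff_isConj.2 ?_)⟩
        exact (hiff _ _ (hrep _) ha).2 ⟨(hg _ _).2.1, iff_of_true (hg _ _).2.2 h⟩
      · refine ⟨Sum.inl ⟨r a, hnA a ha h⟩, Subtype.ext (ConjClasses.mk_eq_mk_iff_isConj.2 ?_)⟩
        exact (hiff _ _ (hrep _) ha).2 ⟨(hf _ _).2.1, iff_of_false (hf _ _).2.2 h⟩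
  rw [← Nat.card_congr (Equiv.ofBijective Φ hbij), Nat.card_sum, Nat.card_eq_finsetCard,
    Nat.card_eq_finsetCard]

/-- The multiples of two between `2` and `n`. -/
theorem card_evens (n : ℕ) : ((Finset.Icc 1 n).filter fun s => Even s).card = n / 2 := by
  induction n with
  | zero => rfl
  | succ n ih =>
    rw [← Finset.insert_Icc_right_eq_Icc_add_one (by omega), Finset.filter_insert]
    by_cases h : Even (n + 1)
    · rw [if_pos h, Finset.card_insert_of_notMem (by simp), ih]
      obtain ⟨k, hk⟩ := h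
      omega
    · rw [if_neg h, ih]
      obtain ⟨k, hk⟩ := Nat.not_even_iff_odd.1 h
      omega

end CfsgLib.Classical.InvolutionClasses
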