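import Cfsg.Agent.Lib.Classical.InvolutionOrth

/-!
The Dickson invariant on half subspaces, and the conjugacy of involutions under `Ω` in characteristic two.
-/

set_option autoImplicit false

namespace CfsgLib.Classical.InvolutionDickson

open Module Matrix CfsgLib.Orth
open CfsgLib.Classical.InvolutionData CfsgLib.Classical.InvolutionOrth

universe u

variable {F : Type u} [Field F] {ι : Type} [Fintype ι] [DecidableEq ι]
variable {Q : QuadraticForm F (ι → F)}

local notation "bQ" => QuadraticMap.polarBilin Q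

/-- `U ⊕ U` inside the doubled space. -/
def sumSub (U : Submodule F (ι → F)) : Submodule F (ι ⊕ ι → F) where
  carrier := {x | x ∘ Sum.inl ∈ U ∧ x ∘ Sum.inr ∈ U}
  add_mem' {a b} ha hb := ⟨U.add_mem ha.1 hb.1, U.add_mem ha.2 hb.2⟩
  zero_mem' := ⟨U.zero_mem, U.zero_mem⟩
  smul_mem' c _ ha := ⟨U.smul_mem c ha.1, U.smul_mem c ha.2⟩

theorem sumSub_half {U : Submodule F (ι → F)} (hU : IsHalf Q U) : IsHalf (double Q) (sumSub U) := by
  refine ⟨fun x hx => by rw [double_apply, hU.1 _ hx.1, hU.1 _ hx.2, sub_zero], ?_⟩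
  have e : sumSub U = (U.prod U).map
      (LinearEquiv.sumArrowLequivProdArrow ι ι F F).symm.toLinearMap := by
    ext x
    rw [Submodule.mem_map_equiv]
    rfl
  rw [e, LinearEquiv.finrank_map_eq,
    show U.prod U = LinearMap.range (U.subtype.prodMap U.subtype) by
      rw [LinearMap.range_prodMap, Submodule.range_subtype],
    LinearMap.finrank_range_of_inj (LinearMap.coe_prodMap U.subtype U.subtype ▸
      U.injective_subtype.prodMap U.injective_subtype), finrank_prod,
    finrank_pi, Fintype.card_sum]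
  have := hU.2
  rw [finrank_pi] at this
  omega

/-- The graph map of an isometry. -/
def graphMap (g : Grp Q) : (ι → F) →ₗ[F] (ι ⊕ ι → F) where
  toFun v := Sum.elim v (ap g v)
  map_add' v w := by funext i; rcases i with i | i <;> simp [ap_add]
  map_smul' c v := by funext i; rcases i with i | i <;> simp [ap_smul]

theorem finrank_sum_inf_graph (g : Grp Q) (U : Submodule F (ι → F)) :
    finrank F ↥(sumSub U ⊓ graph g) = finrank F ↥(U ⊓ img g U) := by
  have e : sumSub U ⊓ graph g = (U ⊓ img g⁻¹ U).map (graphMap g) := by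
    ext x
    constructor
    · rintro ⟨⟨h1, h2⟩, h3⟩
      have h3 : x ∘ Sum.inr = ap g (x ∘ Sum.inl) := h3
      refine ⟨x ∘ Sum.inl, ⟨h1, mem_img.2 (by rw [inv_inv, ← h3]; exact h2)⟩, ?_⟩
      show Sum.elim _ (ap g _) = x
      rw [← h3, Sum.elim_comp_inl_inr]
    · rintro ⟨v, ⟨hv, hv'⟩, rfl⟩
      have hv' : ap g⁻¹⁻¹ v ∈ U := mem_img.1 hv'
      rw [inv_inv] at hv'
      exact ⟨⟨hv, hv'⟩, rfl⟩
  have hinj : Function.Injective (graphMap g) := fun v w h => funext fun i => congrFun h (.inl i)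
  rw [e, ← (Submodule.equivMapOfInjective _ hinj _).finrank_eq, ← finrank_img g, img_inf, ← img_mul,
    mul_inv_cancel, img_one, inf_comm]

/-- The Dickson invariant read off a half subspace. -/
theorem dickson_half (hB : Nondeg Q) {U : Submodule F (ι → F)} (hU : IsHalf Q U) (g : Grp Q) :
    dickson hB g = (-1) ^ (finrank F U + finrank F ↥(U ⊓ img g U)) := by
  have ht := even_half_triangle (double_nondeg hB) (graph_half (1 : Grp Q)) (sumSub_half hU)
    (graph_half g)
  have e1 := finrank_sum_inf_graph (1 : Grp Q) U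
  rw [img_one, inf_idem, inf_comm] at e1
  have e2 := finrank_sum_inf_graph g U
  have e3 := (graphInfEquiv (1 : Grp Q) g).finrank_eq
  rw [inv_one, one_mul] at e3
  have e0 := (graph_half (1 : Grp Q)).2
  rw [finrank_pi, Fintype.card_sum] at e0
  show (-1 : ℤˣ) ^ (_ + _) = _
  refine neg_one_pow_congr ?_
  rw [finrank_pi]
  simp only [Nat.even_iff] at ht ⊢
  omega

variable [CharP F 2]

/-- A reflection in a fixed vector commutes with the involution. -/
theorem exists_odd_commutant (hB : Nondeg Q) {t : Grp Q} (ht : t * t = 1) {v : ι → F}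
    (hv : uO t v = 0) (hQv : Q v ≠ 0) : ∃ r : Grp Q, dickson hB r = -1 ∧ r * t = t * r := by
  obtain ⟨r, hr⟩ := exists_refl hB hQv
  refine ⟨r, dickson_refl hB hr, ext_ap fun x => ?_⟩
  have htv : ap t v = v := by rwa [uO_apply, sub_eq_zero] at hv
  have hb : QuadraticMap.polar ⇑Q v (ap t x) = QuadraticMap.polar ⇑Q v x := by
    conv_lhs => rw [← htv, ap_b]
  have hb' : QuadraticMap.polar ⇑Q (ap t x) v = QuadraticMap.polar ⇑Q x v := by
    conv_lhs => rw [← htv, ap_b]
  rw [ap_mul, ap_mul, hr.2, hr.2, ap_sub, ap_smul, htv]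
  simp only [hb, hb']

/-- The fixed space is totally singular only at half rank with alternating form. -/
theorem exists_fixed_aniso (hB : Nondeg Q) {t : Grp Q} (ht : t * t = 1)
    (h : ¬ (2 * finrank F ↥(LinearMap.range (uO t)) = finrank F (ι → F) ∧ AltO t)) :
    ∃ v, uO t v = 0 ∧ Q v ≠ 0 := by
  by_contra hcon
  push Not at hcon
  have hn := nil ht
  have h1 : 2 * finrank F ↥(LinearMap.ker (uO t)) ≤ finrank F (ι → F) :=
    two_mul_finrank_le hB (le_orth_of_singular fun x hx => hcon x hx)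
  have h2 := LinearMap.finrank_range_add_finrank_ker (uO t)
  have h3 := hn.two_mul_rank_le
  refine h ⟨by omega, fun x => ?_⟩
  rw [← quad_range (B := bQ) (fun _ _ => rfl) (preserves t)]
  exact hcon _ (hn.sq x)

theorem mem_omega_iff_rank {hB : Nondeg Q} (hΩ : Cfsg.Omega F ⇑Q = (dickson hB).ker) (g : Grp Q) :
    g ∈ Cfsg.Omega F ⇑Q ↔ Even (finrank F ↥(LinearMap.range (uO g))) := by
  rw [hΩ, MonoidHom.mem_ker, dickson_invol,
    neg_one_pow_eq_one_iff_even (by decide : (-1 : ℤˣ) ≠ 1)]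

/-- Conjugate involutions are conjugate under `Ω` unless the fixed space is totally singular. -/
theorem exists_omega_conj {hB : Nondeg Q} (hΩ : Cfsg.Omega F ⇑Q = (dickson hB).ker) {t s : Grp Q}
    (ht : t * t = 1)
    (hnot : ¬ (2 * finrank F ↥(LinearMap.range (uO t)) = finrank F (ι → F) ∧ AltO t))
    (hconj : IsConj t s) : ∃ g ∈ Cfsg.Omega F ⇑Q, g * t * g⁻¹ = s := by
  obtain ⟨c, hc⟩ := isConj_iff.1 hconj
  simp only [hΩ, MonoidHom.mem_ker]
  rcases Int.units_eq_one_or (dickson hB c) with h | h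
  · exact ⟨c, h, hc⟩
  · obtain ⟨v, hv, hQv⟩ := exists_fixed_aniso hB ht hnot
    obtain ⟨r, hr, hrt⟩ := exists_odd_commutant hB ht hv hQv
    refine ⟨c * r, by rw [map_mul, h, hr]; decide, ?_⟩
    rw [_root_.mul_inv_rev, mul_assoc c r t, hrt, ← hc]
    group

omit [CharP F 2] in
theorem range_conj {t s c : Grp Q} (h : c * t * c⁻¹ = s) :
    LinearMap.range (uO s) = img c (LinearMap.range (uO t)) := by
  ext x
  have hcu : ∀ y, ap c (uO t y) = uO s (ap c y) := fun y => by
    rw [uO_apply, uO_apply, ap_sub, ← h, ap_mul, ap_mul, ap_inv_ap]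
  constructor
  · rintro ⟨y, rfl⟩
    rw [← ap_ap_inv c y, ← hcu]
    exact ap_mem_img c ⟨_, rfl⟩
  · intro hx
    obtain ⟨y, hy⟩ := mem_img.1 hx
    exact ⟨ap c y, by rw [← hcu, hy, ap_ap_inv]⟩

/-- At half rank with alternating form the classes split by the family of the image. -/
theorem omega_conj_iff {hB : Nondeg Q} (hΩ : Cfsg.Omega F ⇑Q = (dickson hB).ker) {t s : Grp Q}
    (h2 : 2 * finrank F ↥(LinearMap.range (uO t)) = finrank F (ι → F)) (hA : AltO t)
    (hconj : IsConj t s) :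
    (∃ g ∈ Cfsg.Omega F ⇑Q, g * t * g⁻¹ = s) ↔
      Even (finrank F ↥(LinearMap.range (uO t)) +
        finrank F ↥(LinearMap.range (uO t) ⊓ LinearMap.range (uO s))) := by
  have hU : IsHalf Q (LinearMap.range (uO t)) := by
    refine ⟨?_, h2⟩
    rintro _ ⟨x, rfl⟩
    rw [quad_range (B := bQ) (fun _ _ => rfl) (preserves t)]
    exact hA x
  have key : ∀ c : Grp Q, c * t * c⁻¹ = s → (c ∈ Cfsg.Omega F ⇑Q ↔
      Even (finrank F ↥(LinearMap.range (uO t)) +
        finrank F ↥(LinearMap.range (uO t) ⊓ LinearMap.range (uO s)))) := fun c hc => by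
    rw [hΩ, MonoidHom.mem_ker, dickson_half hB hU, range_conj hc,
      neg_one_pow_eq_one_iff_even (by decide : (-1 : ℤˣ) ≠ 1)]
  obtain ⟨c, hc⟩ := isConj_iff.1 hconj
  exact ⟨fun ⟨g, hg, hgt⟩ => (key g hgt).1 hg, fun he => ⟨c, (key c hc).2 he, hc⟩⟩

end CfsgLib.Classical.InvolutionDickson
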