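import Cfsg.Agent.Lib.Classical.OmegaTests
import Cfsg.Agent.Lib.Classical.OrthOrderStd
import Cfsg.Agent.Lib.Classical.Card
import Cfsg.Agent.Lib.Classical.Transvection
import Cfsg.Agent.Lib.Classical.CenterQuot

set_option autoImplicit false

/-!
`SL_2` and the orthogonal groups in dimensions three and four.
-/

namespace CfsgLib.Classical.SmallIso

open Matrix

variable {F : Type*} [Field F]

/-- `SL_2(q)`, `q ≥ 3`, has no nontrivial map to a group of exponent two. -/
theorem hom_two_trivial [Fintype F] (h3 : 3 ≤ Fintype.card F) {M : Type*} [Group M]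
    (hM : ∀ x : M, x * x = 1) (hcomm : ∀ x y : M, x * y = y * x)
    (φ : SpecialLinearGroup (Fin 2) F →* M) : φ = 1 := by
  rw [← MonoidHom.ker_eq_top_iff]
  by_cases h2 : (2 : F) = 0
  · have hex : ∃ x : F, x ≠ 0 ∧ x ^ 2 ≠ 1 := by
      classical
      obtain ⟨x, -, hx⟩ := Finset.exists_mem_notMem_of_card_lt_card
        (t := (Finset.univ : Finset F)) (s := {0, 1}) (lt_of_le_of_lt Finset.card_le_two (by
          rw [Finset.card_univ]; omega))
      simp only [Finset.mem_insert, Finset.mem_singleton, not_or] at hx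
      refine ⟨x, hx.1, fun h => hx.2 (sub_eq_zero.1 (mul_self_eq_zero.1 ?_))⟩
      linear_combination h + (1 - x) * h2
    refine top_le_iff.1 ((commutator_SL_eq_top (F := F) (ι := Fin 2) (Or.inr hex)).ge.trans ?_)
    rw [commutator_def, Subgroup.commutator_le]
    intro a _ b _
    rw [MonoidHom.mem_ker, map_commutatorElement, commutatorElement_eq_one_iff_commute]
    exact hcomm _ _
  · refine eq_top_of_transvection_mem _ fun i j hij c => ?_
    have e : SpecialLinearGroup.transvection hij c =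
        SpecialLinearGroup.transvection hij (c / 2) * SpecialLinearGroup.transvection hij (c / 2) :=
      Subtype.ext (by
        show Matrix.transvection i j c = Matrix.transvection i j (c / 2) * Matrix.transvection i j (c / 2)
        rw [transvection_mul_transvection_same i j hij, ← add_div, ← two_mul, mul_div_cancel_left₀ _ h2])
    rw [MonoidHom.mem_ker, e, map_mul]
    exact hM _

theorem center_sq (z : Subgroup.center (SpecialLinearGroup (Fin 2) F)) : z * z = 1 := by
  obtain ⟨r, hr, hz⟩ := Matrix.SpecialLinearGroup.mem_center_iff.1 z.2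
  rw [Fintype.card_fin] at hr
  refine Subtype.ext (Subtype.ext ?_)
  show z.1.1 * z.1.1 = 1
  rw [← hz, ← map_mul, ← sq, hr, map_one]

theorem mul_units (x y : ℤˣ) : x * y = y * x := mul_comm x y

/-- Trace zero matrices in coordinates. -/
def sym2 (M : Matrix (Fin 2) (Fin 2) F) :
    Matrix (Unit ⊕ (Fin 1 ⊕ Fin 1)) (Unit ⊕ (Fin 1 ⊕ Fin 1)) F :=
  fun s t => Sum.elim
    (fun _ => Sum.elim (fun _ => M 0 0 * M 1 1 + M 0 1 * M 1 0)
      (Sum.elim (fun _ => -(M 0 0 * M 1 0)) (fun _ => M 0 1 * M 1 1)) t)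
    (Sum.elim
      (fun _ => Sum.elim (fun _ => -2 * M 0 0 * M 0 1)
        (Sum.elim (fun _ => M 0 0 * M 0 0) (fun _ => -(M 0 1 * M 0 1))) t)
      (fun _ => Sum.elim (fun _ => 2 * M 1 0 * M 1 1)
        (Sum.elim (fun _ => -(M 1 0 * M 1 0)) (fun _ => M 1 1 * M 1 1)) t)) s

theorem sym2_mul (M N : Matrix (Fin 2) (Fin 2) F) : sym2 (M * N) = sym2 M * sym2 N := by
  ext s t
  rcases s with s | s | s <;> rcases t with t | t | t <;>
    (simp [sym2, Matrix.mul_apply, Fintype.sum_sum_type, Fin.sum_univ_two]; ring)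

theorem sym2_one : sym2 (1 : Matrix (Fin 2) (Fin 2) F) = 1 := by
  ext s t
  rcases s with s | s | s <;> rcases t with t | t | t <;>
    simp [sym2, Matrix.one_apply, Fin.fin_one_eq_zero]

theorem sym2_isometry (M : Matrix (Fin 2) (Fin 2) F) (x : Unit ⊕ (Fin 1 ⊕ Fin 1) → F) :
    Cfsg.quadFormOdd 1 F (sym2 M *ᵥ x) = M.det ^ 2 * Cfsg.quadFormOdd 1 F x := by
  simp [Cfsg.quadFormOdd, sym2, Matrix.mulVec, dotProduct, Fintype.sum_sum_type, Matrix.det_fin_two]
  ring

open CfsgLib.Orth in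
/-- `PΩ_3(q) ≅ PSL_2(q)`. -/
theorem pomega_three [Fintype F] (hodd : Odd (Fintype.card F)) :
    Nonempty (Cfsg.POmega F (Cfsg.quadFormOdd 1 F) ≃* ProjectiveSpecialLinearGroup (Fin 2) F) := by
  classical
  have h3 : 3 ≤ Fintype.card F := by
    have := Fintype.one_lt_card (α := F)
    rw [Nat.odd_iff] at hodd; omega
  have h2 : (2 : F) ≠ 0 := by
    refine Ring.two_ne_zero fun e => ?_
    have := FiniteField.even_card_of_char_two e
    rw [Nat.odd_iff] at hodd; omega
  obtain ⟨Q, hQ, hB⟩ := exists_quadForm_odd h2 1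
  rw [← hQ]
  let M : SpecialLinearGroup (Fin 2) F →* Matrix (Unit ⊕ (Fin 1 ⊕ Fin 1)) (Unit ⊕ (Fin 1 ⊕ Fin 1)) F :=
    { toFun := fun g => sym2 g.1
      map_one' := sym2_one
      map_mul' := fun a b => sym2_mul a.1 b.1 }
  let φ : SpecialLinearGroup (Fin 2) F →* Grp Q := M.toHomUnits.codRestrict _ fun g x _ => by
    show Q (sym2 g.1 *ᵥ x) = Q x
    rw [hQ, sym2_isometry, g.2, one_pow, one_mul]
  have hn : 2 ≤ Module.finrank F (Unit ⊕ (Fin 1 ⊕ Fin 1) → F) := by simp
  have hex : Module.finrank F (Unit ⊕ (Fin 1 ⊕ Fin 1) → F) = 4 → Nat.card F ≠ 2 := by simp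
  obtain ⟨hΩ, htop, -⟩ := omega_eq_ker_psi hB h2 hn (one_ne_zero (α := F))
  have hrange : ∀ g, φ g ∈ Cfsg.Omega F ⇑Q := fun g => by
    have h1 := DFunLike.congr_fun
      (hom_two_trivial h3 (fun x : ℤˣ => Int.units_mul_self x) mul_units ((dickson hB).comp φ)) g
    have h4 := DFunLike.congr_fun
      (hom_two_trivial h3 (fun x : ℤˣ => Int.units_mul_self x) mul_units ((spinor Q 1).comp φ)) g
    exact (mem_omega_iff hB hn hex (φ g)).2 ⟨h1, fun _ => h4⟩
  let f := φ.codRestrict (Cfsg.Omega F ⇑Q) hrange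
  have hker : ∀ g ∈ f.ker, g ∈ Subgroup.center (SpecialLinearGroup (Fin 2) F) ∧
      (g.1 : Matrix (Fin 2) (Fin 2) F) 0 1 = 0 := fun g hg => by
    have h : sym2 g.1 = 1 := congrArg (fun x : Cfsg.Omega F ⇑Q =>
      (((x : Grp Q) : GL (Unit ⊕ (Fin 1 ⊕ Fin 1)) F) :
        Matrix (Unit ⊕ (Fin 1 ⊕ Fin 1)) (Unit ⊕ (Fin 1 ⊕ Fin 1)) F)) (MonoidHom.mem_ker.1 hg)
    have e1 := congrFun (congrFun h (.inr (.inl 0))) (.inr (.inr 0))
    have e2 := congrFun (congrFun h (.inr (.inr 0))) (.inr (.inl 0))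
    have e3 := congrFun (congrFun h (.inr (.inl 0))) (.inr (.inl 0))
    simp [sym2] at e1 e2 e3
    have h01 : g.1 0 1 = 0 := e1
    have h10 : g.1 1 0 = 0 := e2
    have hdet := g.2
    rw [Matrix.det_fin_two] at hdet
    have h11 : g.1 1 1 = g.1 0 0 := by
      rw [h01, h10] at hdet
      linear_combination (g.1 0 0) * hdet - (g.1 1 1) * e3
    refine ⟨Matrix.SpecialLinearGroup.mem_center_iff.2 ⟨g.1 0 0, ?_, ?_⟩, h01⟩
    · rw [Fintype.card_fin, sq]; exact e3
    · ext i j
      fin_cases i <;> fin_cases j <;> simp [h01, h10, h11]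
  have hsurj : Function.Surjective f := by
    have hO := card_orth_odd h2 1 hQ hB
    have hidx : (Cfsg.Omega F ⇑Q).index = 4 := by
      rw [hΩ, Subgroup.index_ker, htop]; simp
    have hΩc := Subgroup.index_mul_card (Cfsg.Omega F ⇑Q)
    rw [show Nat.card ↥(Cfsg.isometryGroup F ⇑Q) = Nat.card (Grp Q) from rfl, hO, hidx] at hΩc
    rw [← MonoidHom.range_eq_top]
    refine Subgroup.eq_top_of_le_card _ ?_
    have hk := Subgroup.card_eq_card_quotient_mul_card_subgroup f.ker
    rw [Nat.card_congr (QuotientGroup.quotientKerEquivRange f).toEquiv, card_SL_two] at hk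
    have hk2 : Nat.card f.ker ≤ 2 := by
      refine le_trans (Subgroup.card_le_of_le fun g hg => (hker g hg).1) ?_
      rw [card_center_SL, Fintype.card_fin]
      exact Nat.le_of_dvd (by norm_num) (Nat.gcd_dvd_left _ _)
    simp only [Finset.prod_range_one, one_pow, pow_one, mul_one, Nat.card_eq_fintype_card (α := F)] at hΩc
    norm_num at hΩc
    have : Nat.card f.range * Nat.card f.ker ≤ Nat.card f.range * 2 := Nat.mul_le_mul_left _ hk2
    simp only [Nat.card_eq_fintype_card] at *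
    nlinarith
  obtain ⟨e⟩ := center_quotient_equiv_of_hom
    (fun ψ => hom_two_trivial h3 center_sq (fun x y => Subtype.ext (Subgroup.mem_center_iff.1 y.2 _)) ψ)
    f hsurj fun g hg => (hker g hg).1
  exact ⟨e.symm⟩

/-- No maps from `SL_2 × SL_2` to groups of exponent two. -/
theorem prod_hom_trivial [Fintype F] (h3 : 3 ≤ Fintype.card F) {M : Type*} [Group M]
    (hM : ∀ x : M, x * x = 1) (hc : ∀ x y : M, x * y = y * x)
    (ψ : SpecialLinearGroup (Fin 2) F × SpecialLinearGroup (Fin 2) F →* M) : ψ = 1 := by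
  refine MonoidHom.ext fun p => ?_
  have h1 : ψ (p.1, 1) = 1 :=
    DFunLike.congr_fun (hom_two_trivial h3 hM hc (ψ.comp (MonoidHom.inl _ _))) p.1
  have h2 : ψ (1, p.2) = 1 :=
    DFunLike.congr_fun (hom_two_trivial h3 hM hc (ψ.comp (MonoidHom.inr _ _))) p.2
  rw [show p = (p.1, 1) * (1, p.2) by simp, map_mul, h1, h2, mul_one]
  rfl

/-- The Kronecker action on `2 × 2` matrices in coordinates. -/
def pi4 : Fin 2 ⊕ Fin 2 → (Fin 2 × Fin 2) :=
  Sum.elim ![(0, 0), (0, 1)] ![(1, 1), (1, 0)]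

/-- The sign of a coordinate. -/
def sg4 : Fin 2 ⊕ Fin 2 → F := Sum.elim ![1, 1] ![1, -1]

/-- `X ↦ g X hᵀ`. -/
def kron (g h : Matrix (Fin 2) (Fin 2) F) : Matrix (Fin 2 ⊕ Fin 2) (Fin 2 ⊕ Fin 2) F :=
  fun s t => sg4 s * sg4 t * (g (pi4 s).1 (pi4 t).1 * h (pi4 s).2 (pi4 t).2)

theorem kron_mul (g h g' h' : Matrix (Fin 2) (Fin 2) F) :
    kron (g * g') (h * h') = kron g h * kron g' h' := by
  ext s t
  rcases s with s | s <;> fin_cases s <;> rcases t with t | t <;> fin_cases t <;>
    (simp [kron, pi4, sg4, Matrix.mul_apply, Fintype.sum_sum_type, Fin.sum_univ_two]; ring)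

theorem kron_one : kron (1 : Matrix (Fin 2) (Fin 2) F) 1 = 1 := by
  ext s t
  rcases s with s | s <;> fin_cases s <;> rcases t with t | t <;> fin_cases t <;>
    simp [kron, pi4, sg4, Matrix.one_apply, Fin.ext_iff]

theorem kron_isometry (g h : Matrix (Fin 2) (Fin 2) F) (x : Fin 2 ⊕ Fin 2 → F) :
    Cfsg.quadFormPlus 2 F (kron g h *ᵥ x) = g.det * h.det * Cfsg.quadFormPlus 2 F x := by
  simp [Cfsg.quadFormPlus, kron, pi4, sg4, Matrix.mulVec, dotProduct, Fintype.sum_sum_type,
    Matrix.det_fin_two, Fin.sum_univ_two]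
  ring

open CfsgLib.Orth in
/-- `PΩ^+_4(q) ≅ PSL_2(q) × PSL_2(q)`. -/
theorem pomega_four_plus [Fintype F] (h3 : 3 ≤ Fintype.card F) :
    Nonempty (Cfsg.POmega F (Cfsg.quadFormPlus 2 F) ≃*
      ProjectiveSpecialLinearGroup (Fin 2) F × ProjectiveSpecialLinearGroup (Fin 2) F) := by
  classical
  obtain ⟨Q, hQ, hB⟩ := exists_quadForm_plus (F := F) 2
  rw [← hQ]
  let G := SpecialLinearGroup (Fin 2) F × SpecialLinearGroup (Fin 2) F
  let M : G →* Matrix (Fin 2 ⊕ Fin 2) (Fin 2 ⊕ Fin 2) F :=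
    { toFun := fun p => kron p.1.1 p.2.1
      map_one' := kron_one
      map_mul' := fun a b => kron_mul a.1.1 a.2.1 b.1.1 b.2.1 }
  let φ : G →* Grp Q := M.toHomUnits.codRestrict _ fun p x _ => by
    show Q (kron p.1.1 p.2.1 *ᵥ x) = Q x
    rw [hQ, kron_isometry, p.1.2, p.2.2, one_mul, one_mul]
  have hn : 2 ≤ Module.finrank F (Fin 2 ⊕ Fin 2 → F) := by simp
  have hex : Module.finrank F (Fin 2 ⊕ Fin 2 → F) = 4 → Nat.card F ≠ 2 := fun _ h => by
    rw [Nat.card_eq_fintype_card] at h; omega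
  have hrange : ∀ g, φ g ∈ Cfsg.Omega F ⇑Q := fun g =>
    (mem_omega_iff hB hn hex (φ g)).2
      ⟨DFunLike.congr_fun (prod_hom_trivial h3 (fun x : ℤˣ => Int.units_mul_self x) mul_units ((dickson hB).comp φ)) g,
        fun _ => DFunLike.congr_fun
          (prod_hom_trivial h3 (fun x : ℤˣ => Int.units_mul_self x) mul_units ((spinor Q 1).comp φ)) g⟩
  let f := φ.codRestrict (Cfsg.Omega F ⇑Q) hrange
  have hker : ∀ p ∈ f.ker, ∃ a : F, a * a = 1 ∧ p.1.1 = a • (1 : Matrix (Fin 2) (Fin 2) F) ∧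
      p.2.1 = a • (1 : Matrix (Fin 2) (Fin 2) F) := fun p hp => by
    have h : kron p.1.1 p.2.1 = 1 := congrArg (fun x : Cfsg.Omega F ⇑Q =>
      (((x : Grp Q) : GL (Fin 2 ⊕ Fin 2) F) : Matrix (Fin 2 ⊕ Fin 2) (Fin 2 ⊕ Fin 2) F))
      (MonoidHom.mem_ker.1 hp)
    have e00 := congrFun (congrFun h (.inl 0)) (.inl 0)
    have e11 := congrFun (congrFun h (.inr 0)) (.inr 0)
    have e01 := congrFun (congrFun h (.inl 1)) (.inl 1)
    have ea := congrFun (congrFun h (.inl 0)) (.inr 1)
    have eb := congrFun (congrFun h (.inr 1)) (.inl 0)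
    have ec := congrFun (congrFun h (.inl 0)) (.inl 1)
    have ed := congrFun (congrFun h (.inl 1)) (.inl 0)
    simp [kron, pi4, sg4] at e00 e11 e01 ea eb ec ed
    have dg := p.1.2
    have dh := p.2.2
    rw [Matrix.det_fin_two] at dg dh
    obtain ⟨hg00, hh00⟩ : p.1.1 0 0 ≠ 0 ∧ p.2.1 0 0 ≠ 0 :=
      ⟨fun e => by rw [e, zero_mul] at e00; exact zero_ne_one e00,
        fun e => by rw [e, mul_zero] at e00; exact zero_ne_one e00⟩
    have g01 : p.1.1 0 1 = 0 := ea.resolve_right hh00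
    have g10 : p.1.1 1 0 = 0 := eb.resolve_right hh00
    have h01 : p.2.1 0 1 = 0 := ec.resolve_left hg00
    have h10 : p.2.1 1 0 = 0 := ed.resolve_left hg00
    rw [g01, g10] at dg
    rw [h01, h10] at dh
    have hh11 : p.2.1 1 1 = p.2.1 0 0 := mul_left_cancel₀ hg00 (e01.trans e00.symm)
    have hsq : p.2.1 0 0 * p.2.1 0 0 = 1 := by rw [hh11] at dh; linear_combination dh
    have hgh : p.1.1 0 0 = p.2.1 0 0 := by
      linear_combination (p.2.1 0 0) * e00 - (p.1.1 0 0) * hsq
    have hg11 : p.1.1 1 1 = p.2.1 0 0 := by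
      rw [hgh] at dg
      linear_combination (p.2.1 0 0) * dg - (p.1.1 1 1) * hsq
    refine ⟨p.2.1 0 0, hsq, ?_, ?_⟩ <;> ext i j <;> fin_cases i <;> fin_cases j <;>
      simp [g01, g10, h01, h10, hh11, hgh, hg11]
  have hkc : f.ker ≤ Subgroup.center G := fun p hp => by
    obtain ⟨a, -, h1, h2⟩ := hker p hp
    refine Subgroup.mem_center_iff.2 fun g => Prod.ext (Subtype.ext ?_) (Subtype.ext ?_)
    · show g.1.1 * p.1.1 = p.1.1 * g.1.1
      rw [h1]; simp
    · show g.2.1 * p.2.1 = p.2.1 * g.2.1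
      rw [h2]; simp
  have hsurj : Function.Surjective f := by
    have hO := card_orth_plus 2 (by norm_num) hQ hB
    obtain ⟨k, hk2, hidx⟩ : ∃ k : ℕ, Nat.card f.ker ≤ k ∧ (Cfsg.Omega F ⇑Q).index = 2 * k := by
      by_cases h2 : (2 : F) = 0
      · refine ⟨1, ?_, ?_⟩
        · refine (Finite.card_le_one_iff_subsingleton).2 ⟨fun a b => ?_⟩
          have : ∀ x : f.ker, x = 1 := fun x => by
            obtain ⟨c, hc, h1, h4⟩ := hker x.1 x.2
            have : c = 1 := sub_eq_zero.1 (mul_self_eq_zero.1 (by linear_combination hc + (1 - c) * h2))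
            refine Subtype.ext (Prod.ext (Subtype.ext ?_) (Subtype.ext ?_))
            · rw [h1, this, one_smul]; rfl
            · rw [h4, this, one_smul]; rfl
          rw [this a, this b]
        · rw [omega_eq_ker_dickson hB h2 (by simp) hex, Subgroup.index_ker]
          obtain ⟨v, hv⟩ := exists_aniso hB (by simp)
          obtain ⟨r, hr⟩ := exists_refl hB hv
          have htop : (dickson hB).range = ⊤ := by
            refine eq_top_iff.2 fun u _ => ?_
            rcases Int.units_eq_one_or u with e | e <;> subst e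
            · exact one_mem _
            · exact ⟨r, dickson_refl hB hr⟩
          rw [htop]
          simp
      · refine ⟨2, ?_, ?_⟩
        · have hinj : Function.Injective (fun x : f.ker => decide ((x.1.1.1 : Matrix (Fin 2) (Fin 2) F) 0 0 = 1)) := by
            intro a b hab
            obtain ⟨c, hc, a1, a2⟩ := hker a.1 a.2
            obtain ⟨d, hd, b1, b2⟩ := hker b.1 b.2
            have hab' : c = 1 ↔ d = 1 := by simpa [a1, b1] using hab
            have hcd : c = d := by
              rcases mul_self_eq_one_iff.1 hc with e | e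
              · rw [e, hab'.1 e]
              · rcases mul_self_eq_one_iff.1 hd with e' | e'
                · rw [e', hab'.2 e']
                · rw [e, e']
            refine Subtype.ext (Prod.ext (Subtype.ext ?_) (Subtype.ext ?_))
            · rw [a1, b1, hcd]
            · rw [a2, b2, hcd]
          exact (Nat.card_le_card_of_injective _ hinj).trans (by simp)
        · obtain ⟨h1, htop, -⟩ := omega_eq_ker_psi hB h2 hn (one_ne_zero (α := F))
          rw [h1, Subgroup.index_ker, htop]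
          simp
    have hΩc := Subgroup.index_mul_card (Cfsg.Omega F ⇑Q)
    rw [show Nat.card ↥(Cfsg.isometryGroup F ⇑Q) = Nat.card (Grp Q) from rfl, hO, hidx] at hΩc
    rw [← MonoidHom.range_eq_top]
    refine Subgroup.eq_top_of_le_card _ ?_
    have hk := Subgroup.card_eq_card_quotient_mul_card_subgroup f.ker
    rw [Nat.card_congr (QuotientGroup.quotientKerEquivRange f).toEquiv, Nat.card_prod, card_SL_two] at hk
    have e : k * Nat.card ↥(Cfsg.Omega F ⇑Q) = Nat.card f.range * Nat.card f.ker := by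
      rw [← hk]
      refine Nat.eq_of_mul_eq_mul_left (by norm_num : 0 < 2) ?_
      rw [← mul_assoc, hΩc]
      simp only [Nat.card_eq_fintype_card (α := F)]
      norm_num
      ring
    have hpos : 0 < k := lt_of_lt_of_le Nat.card_pos hk2
    refine Nat.le_of_mul_le_mul_left ?_ hpos
    rw [e, mul_comm k]
    exact Nat.mul_le_mul_left _ hk2
  obtain ⟨e⟩ := center_quotient_equiv_of_hom
    (fun ψ => prod_hom_trivial h3 (M := Subgroup.center G) (fun z => by
        have h1 : z.1.1 ∈ Subgroup.center (SpecialLinearGroup (Fin 2) F) := Subgroup.mem_center_iff.2 fun g =>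
          congrArg Prod.fst (Subgroup.mem_center_iff.1 z.2 (g, 1))
        have h2 : z.1.2 ∈ Subgroup.center (SpecialLinearGroup (Fin 2) F) := Subgroup.mem_center_iff.2 fun g =>
          congrArg Prod.snd (Subgroup.mem_center_iff.1 z.2 (1, g))
        exact Subtype.ext (Prod.ext (congrArg Subtype.val (center_sq ⟨_, h1⟩))
          (congrArg Subtype.val (center_sq ⟨_, h2⟩))))
      (fun x y => Subtype.ext (Subgroup.mem_center_iff.1 y.2 _)) ψ) f hsurj hkc
  let Z := Subgroup.center (SpecialLinearGroup (Fin 2) F)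
  let q2 : G →* ProjectiveSpecialLinearGroup (Fin 2) F × ProjectiveSpecialLinearGroup (Fin 2) F :=
    (QuotientGroup.mk' Z).prodMap (QuotientGroup.mk' Z)
  have hq : Function.Surjective q2 := (QuotientGroup.mk'_surjective Z).prodMap (QuotientGroup.mk'_surjective Z)
  have hqk : q2.ker = Subgroup.center G := by
    ext p
    rw [MonoidHom.mem_ker, Subgroup.mem_center_iff]
    constructor
    · intro hp g
      have h1 := (QuotientGroup.eq_one_iff _).1 (congrArg Prod.fst hp)
      have h2 := (QuotientGroup.eq_one_iff _).1 (congrArg Prod.snd hp)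
      exact Prod.ext (Subgroup.mem_center_iff.1 h1 g.1) (Subgroup.mem_center_iff.1 h2 g.2)
    · intro hp
      exact Prod.ext
        ((QuotientGroup.eq_one_iff _).2 (Subgroup.mem_center_iff.2 fun g => congrArg Prod.fst (hp (g, 1))))
        ((QuotientGroup.eq_one_iff _).2 (Subgroup.mem_center_iff.2 fun g => congrArg Prod.snd (hp (1, g))))
  exact ⟨e.symm.trans ((QuotientGroup.quotientMulEquivOfEq hqk.symm).trans
    (QuotientGroup.quotientKerEquivOfSurjective q2 hq))⟩

end CfsgLib.Classical.SmallIso
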