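import Cfsg.Agent.Lib.Classical.OmegaOnto
import Cfsg.Agent.Lib.Classical.SmallIso
import Cfsg.Agent.Lib.Classical.QuadExt
import Cfsg.Agent.Lib.Classical.SymmOrth

set_option autoImplicit false

/-!
`PΩ^-_4(q) ≅ PSL_2(q^2)` through Hermitian matrices.
-/

namespace CfsgLib.Classical.OmegaFourMinus

open Matrix CfsgLib.Orth

variable {F K : Type*} [Field F] [Fintype F] [Field K] [Fintype K]

theorem index_omega_two_four {a b : F} (hF : Fintype.card F = 2)
    (hab : ∀ z₁ z₂ : F, z₁ ^ 2 + a * z₁ * z₂ + b * z₂ ^ 2 = 0 → z₁ = 0 ∧ z₂ = 0) :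
    (Cfsg.Omega F (Cfsg.quadFormMinus 1 F a b)).index = 2 := by
  have h2 : ∀ x : F, x = 0 ∨ x = 1 := fun x => by
    classical
    by_contra hc
    push Not at hc
    have : ({0, 1, x} : Finset F).card ≤ 2 := hF ▸ Finset.card_le_univ _
    rw [Finset.card_eq_three.2 ⟨0, 1, x, zero_ne_one, hc.1.symm, hc.2.symm, rfl⟩] at this
    omega
  have h20 : (2 : F) = 0 := by
    have := FiniteField.cast_card_eq_zero F
    rwa [hF, Nat.cast_ofNat] at this
  have hb : b = 1 := (h2 b).resolve_left fun e => one_ne_zero (hab 0 1 (by rw [e]; ring)).2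
  have ha : a = 1 := (h2 a).resolve_left fun e =>
    one_ne_zero (hab 1 1 (by rw [e, hb]; linear_combination h20)).2
  subst ha hb
  obtain ⟨e⟩ := SymmOrth.minus_four_of_card (F := F) hF
  rw [← Subgroup.index_map_equiv _ e]
  have hA : commutator (Equiv.Perm (Fin 5)) = alternatingGroup (Fin 5) := by
    refine le_antisymm alternatingGroup.commutator_perm_le ?_
    have h := _root_.commutator_alternatingGroup_eq_top (α := Fin 5) (by simp)
    calc alternatingGroup (Fin 5)
        = (commutator ↥(alternatingGroup (Fin 5))).map (alternatingGroup (Fin 5)).subtype := by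
          rw [h, ← MonoidHom.range_eq_map, Subgroup.range_subtype]
      _ ≤ commutator (Equiv.Perm (Fin 5)) := by
          rw [commutator_def, commutator_def, Subgroup.map_commutator]
          exact Subgroup.commutator_mono le_top le_top
  show ((commutator _).map e.toMonoidHom).index = 2
  rw [commutator_def, Subgroup.map_commutator, Subgroup.map_top_of_surjective e.toMonoidHom e.surjective,
    ← commutator_def, hA, alternatingGroup.index_eq_two]

set_option maxHeartbeats 1600000 in
/-- `PΩ^-_4(q) ≅ PSL_2(q^2)`. -/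
theorem pomega_four_minus {q : ℕ} (hF : Fintype.card F = q) (hK : Fintype.card K = q ^ 2) (a b : F)
    (hab : ∀ z₁ z₂ : F, z₁ ^ 2 + a * z₁ * z₂ + b * z₂ ^ 2 = 0 → z₁ = 0 ∧ z₂ = 0) :
    Nonempty (Cfsg.POmega F (Cfsg.quadFormMinus 1 F a b) ≃* ProjectiveSpecialLinearGroup (Fin 2) K) := by
  classical
  obtain ⟨ι, σ, ω, hσq, hσ2, hfix, hsum, hprod, hbij⟩ := QuadExt.exists_frame hF hK a b hab
  have hσι : ∀ y, σ (ι y) = ι y := fun y => (hfix _).2 ⟨y, rfl⟩
  obtain ⟨Q, hQ, hB⟩ := exists_quadForm_minus (F := F) 1 hab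
  let _ : Algebra F K := ι.toAlgebra
  let Φ : ((Fin 1 ⊕ Fin 1) ⊕ Fin 2 → F) →ₗ[F] Matrix (Fin 2) (Fin 2) K :=
    { toFun := fun v => !![ι (v (.inl (.inl 0))), ι (v (.inr 0)) + ω * ι (v (.inr 1));
          ι (v (.inr 0)) + σ ω * ι (v (.inr 1)), -ι (v (.inl (.inr 0)))]
      map_add' := fun v w => by
        ext i j; fin_cases i <;> fin_cases j <;> simp [map_add] <;> ring
      map_smul' := fun c v => by
        ext i j; fin_cases i <;> fin_cases j <;> simp [Algebra.smul_def, RingHom.algebraMap_toAlgebra] <;> ring }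
  have hΦdet : ∀ v, (Φ v).det = -ι (Q v) := fun v => by
    rw [hQ, Matrix.det_fin_two]
    simp [Φ, Cfsg.quadFormMinus, map_add, map_mul, map_pow]
    linear_combination (-(ι (v (.inr 0)) * ι (v (.inr 1)))) * hsum - (ι (v (.inr 1))) ^ 2 * hprod
  have hΦσ : ∀ v, ((Φ v).map σ)ᵀ = Φ v := fun v => by
    ext i j; fin_cases i <;> fin_cases j <;> simp [Φ, map_add, map_mul, hσι, hσ2]
  have hinj : Function.Injective Φ := fun v w h => by
    have e00 := congrFun (congrFun h 0) 0
    have e11 := congrFun (congrFun h 1) 1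
    have e01 := congrFun (congrFun h 0) 1
    simp [Φ] at e00 e11 e01
    have e := @hbij.1 (v (.inr 0), v (.inr 1)) (w (.inr 0), w (.inr 1)) e01
    rw [Prod.mk.injEq] at e
    funext i
    rcases i with (i | i) | i <;> fin_cases i
    · exact ι.injective e00
    · exact ι.injective e11
    · exact e.1
    · exact e.2
  have hsurj : ∀ X : Matrix (Fin 2) (Fin 2) K, (X.map σ)ᵀ = X → ∃ v, Φ v = X := by
    intro X hX
    have h00 : σ (X 0 0) = X 0 0 := congrFun (congrFun hX 0) 0
    have h11 : σ (X 1 1) = X 1 1 := congrFun (congrFun hX 1) 1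
    have h10 : σ (X 0 1) = X 1 0 := congrFun (congrFun hX 1) 0
    obtain ⟨x, hx⟩ := (hfix _).1 h00
    obtain ⟨y, hy⟩ := (hfix _).1 h11
    obtain ⟨⟨z1, z2⟩, hz⟩ := hbij.2 (X 0 1)
    refine ⟨Sum.elim (Sum.elim (fun _ => x) fun _ => -y) ![z1, z2], ?_⟩
    simp only at hz
    ext i j; fin_cases i <;> fin_cases j <;> simp [Φ, hx, hy, hz]
    rw [← h10, ← hz]; simp [map_add, map_mul, hσι]
  let c : Matrix (Fin 2) (Fin 2) K → Matrix (Fin 2) (Fin 2) K → Matrix (Fin 2) (Fin 2) K :=
    fun g X => g * X * (g.map σ)ᵀ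
  have hex1 : ∀ g : SpecialLinearGroup (Fin 2) K, ∃ t : Grp Q, ∀ v, Φ (ap t v) = c g.1 (Φ v) := by
    intro g
    have hcσ : ∀ v, ((c g.1 (Φ v)).map σ)ᵀ = c g.1 (Φ v) := fun v => by
      simp only [c]
      have hm : ∀ A : Matrix (Fin 2) (Fin 2) K, (((A.map σ)ᵀ).map σ) = Aᵀ := fun A => by
        ext i j; simp [hσ2]
      rw [Matrix.map_mul, Matrix.map_mul, Matrix.transpose_mul, Matrix.transpose_mul, hm g.1,
        transpose_transpose, hΦσ v, Matrix.mul_assoc]
    choose f hf using fun v => hsurj _ (hcσ v)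
    let fl : ((Fin 1 ⊕ Fin 1) ⊕ Fin 2 → F) →ₗ[F] ((Fin 1 ⊕ Fin 1) ⊕ Fin 2 → F) :=
      { toFun := f
        map_add' := fun v w => hinj (by
          rw [hf, map_add Φ, map_add Φ, hf, hf]
          simp only [c, Matrix.mul_add, Matrix.add_mul])
        map_smul' := fun r v => hinj (by
          rw [hf, map_smul Φ, RingHom.id_apply, map_smul Φ, hf]
          simp only [c, Matrix.mul_smul, Matrix.smul_mul]) }
    obtain ⟨t, ht⟩ := exists_iso hB fl fun v => by
      apply ι.injective
      have hd : (g.1.map σ).det = 1 := by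
        rw [show g.1.map σ = σ.mapMatrix g.1 from rfl, ← RingHom.map_det, g.2, map_one]
      have h := congrArg Matrix.det (hf v)
      simp only [c, Matrix.det_mul, g.2, one_mul, Matrix.det_transpose, hd, mul_one, hΦdet, neg_inj] at h
      exact h
    exact ⟨t, fun v => by rw [ht]; exact hf v⟩
  choose φ₀ hφ₀ using hex1
  let φ : SpecialLinearGroup (Fin 2) K →* Grp Q := MonoidHom.mk' φ₀ fun g h => ext_ap fun v => hinj (by
    rw [hφ₀, ap_mul, hφ₀, hφ₀]
    show c (g.1 * h.1) _ = _
    simp only [c, Matrix.map_mul, Matrix.transpose_mul, Matrix.mul_assoc])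
  have hq2 : 2 ≤ q := hF ▸ Fintype.one_lt_card
  have hK3 : 3 ≤ Fintype.card K := by rw [hK]; nlinarith
  have hn : 2 ≤ Module.finrank F ((Fin 1 ⊕ Fin 1) ⊕ Fin 2 → F) := by simp
  have hKF : (2 : K) = 0 ↔ (2 : F) = 0 := by
    rw [← map_ofNat ι 2, map_eq_zero_iff ι ι.injective]
  have hrange : ∀ g, φ g ∈ Cfsg.Omega F ⇑Q := by
    by_cases h2 : (2 : F) = 0
    · have hperf : commutator (SpecialLinearGroup (Fin 2) K) = ⊤ := by
        refine commutator_SL_eq_top (Or.inr ?_)
        obtain ⟨x, -, hx⟩ := Finset.exists_mem_notMem_of_card_lt_card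
          (t := (Finset.univ : Finset K)) (s := {0, 1}) (lt_of_le_of_lt Finset.card_le_two (by
            rw [Finset.card_univ]; omega))
        simp only [Finset.mem_insert, Finset.mem_singleton, not_or] at hx
        refine ⟨x, hx.1, fun h => hx.2 (sub_eq_zero.1 (mul_self_eq_zero.1 ?_))⟩
        linear_combination h + (1 - x) * hKF.2 h2
      intro g
      have hle : φ.range ≤ Cfsg.Omega F ⇑Q := by
        rw [MonoidHom.range_eq_map, ← hperf]
        show _ ≤ commutator _
        rw [commutator_def, commutator_def, Subgroup.map_commutator]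
        exact Subgroup.commutator_mono le_top le_top
      exact hle ⟨g, rfl⟩
    · intro g
      have hcard : Nat.card F ≠ 2 := fun e => h2 (by
        have := FiniteField.cast_card_eq_zero F
        rwa [← Nat.card_eq_fintype_card, e, Nat.cast_ofNat] at this)
      exact (mem_omega_iff hB hn (fun _ => hcard) (φ g)).2
        ⟨DFunLike.congr_fun (SmallIso.hom_two_trivial hK3 (fun x : ℤˣ => Int.units_mul_self x)
            SmallIso.mul_units ((dickson hB).comp φ)) g,
          fun _ => DFunLike.congr_fun (SmallIso.hom_two_trivial hK3 (fun x : ℤˣ => Int.units_mul_self x)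
            SmallIso.mul_units ((spinor Q 1).comp φ)) g⟩
  let f := φ.codRestrict (Cfsg.Omega F ⇑Q) hrange
  have hker : ∀ g ∈ f.ker, g.1 = g.1 0 0 • (1 : Matrix (Fin 2) (Fin 2) K) ∧ g.1 0 0 * g.1 0 0 = 1 := by
    intro g hg
    have h1 : φ g = 1 := congrArg Subtype.val (MonoidHom.mem_ker.1 hg)
    have hall : ∀ X : Matrix (Fin 2) (Fin 2) K, (X.map σ)ᵀ = X → c g.1 X = X := fun X hX => by
      obtain ⟨v, rfl⟩ := hsurj X hX
      rw [← hφ₀, show φ₀ g = φ g from rfl, h1, ap_one]
    have hI := hall 1 (by simp)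
    simp only [c, Matrix.mul_one] at hI
    have hcomm : ∀ X : Matrix (Fin 2) (Fin 2) K, (X.map σ)ᵀ = X → g.1 * X = X * g.1 := fun X hX => by
      have h := congrArg (fun Y => Y * g.1) (hall X hX)
      simp only [c, Matrix.mul_assoc, mul_eq_one_comm.1 hI, Matrix.mul_one] at h
      exact h
    have hE := hcomm !![1, 0; 0, 0] (by ext i j; fin_cases i <;> fin_cases j <;> simp)
    have hS := hcomm !![0, 1; 1, 0] (by ext i j; fin_cases i <;> fin_cases j <;> simp)
    have e1 := congrFun (congrFun hE 0) 1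
    have e2 := congrFun (congrFun hE 1) 0
    have e3 := congrFun (congrFun hS 0) 1
    simp [Matrix.mul_apply, Fin.sum_univ_two] at e1 e2 e3
    have hdet := g.2
    rw [Matrix.det_fin_two] at hdet
    have h01 : g.1 0 1 = 0 := by simp [e1]
    have h10 : g.1 1 0 = 0 := by simp [e2]
    rw [h01, h10, ← e3] at hdet
    refine ⟨?_, by linear_combination hdet⟩
    ext i j; fin_cases i <;> fin_cases j <;> simp [h01, h10, e3]
  have hkc : f.ker ≤ Subgroup.center (SpecialLinearGroup (Fin 2) K) := fun g hg => by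
    refine Subgroup.mem_center_iff.2 fun s => Subtype.ext ?_
    show s.1 * g.1 = g.1 * s.1
    rw [(hker g hg).1]; simp
  have hk : Nat.card f.ker ≤ Nat.gcd 2 (q - 1) := by
    by_cases h2 : (2 : F) = 0
    · refine le_trans ?_ (Nat.gcd_pos_of_pos_left _ two_pos)
      refine (Finite.card_le_one_iff_subsingleton).2 ⟨fun x y => ?_⟩
      have : ∀ z : f.ker, z = 1 := fun z => by
        obtain ⟨e, hsq⟩ := hker z.1 z.2
        have : z.1.1 0 0 = 1 := sub_eq_zero.1 (mul_self_eq_zero.1
          (by linear_combination hsq + (1 - z.1.1 0 0) * hKF.2 h2))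
        refine Subtype.ext (Subtype.ext ?_)
        rw [e, this, one_smul]; rfl
      rw [this x, this y]
    · have hqodd : q % 2 = 1 := by
        rw [← hF]
        exact FiniteField.odd_card_of_char_ne_two fun e => h2 (by
          have := CharP.cast_eq_zero F (ringChar F)
          rwa [e, Nat.cast_ofNat] at this)
      rw [Nat.gcd_eq_left (by omega : 2 ∣ q - 1)]
      refine le_trans (Subgroup.card_le_of_le hkc) ?_
      rw [card_center_SL, Fintype.card_fin]
      exact Nat.le_of_dvd (by norm_num) (Nat.gcd_dvd_left _ _)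
  have hidx : (Cfsg.Omega F ⇑Q).index = 2 * Nat.gcd 2 (q - 1) := by
    by_cases h2 : (2 : F) = 0
    · have hqev : q % 2 = 0 := by
        rw [← hF]
        exact FiniteField.even_card_of_char_two (by
          have : CharP F 2 := CharTwo.of_one_ne_zero_of_two_eq_zero one_ne_zero h2
          exact ringChar.eq F 2)
      rw [(Nat.prime_two.coprime_iff_not_dvd.2 (by omega : ¬ 2 ∣ q - 1)).gcd_eq_one, mul_one]
      by_cases hq : q = 2
      · rw [hQ]; exact index_omega_two_four (hq ▸ hF) hab
      · exact index_omega_two hB h2 (by simp) fun _ => by rw [Nat.card_eq_fintype_card, hF]; exact hq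
    · have hqodd : q % 2 = 1 := by
        rw [← hF]
        exact FiniteField.odd_card_of_char_ne_two fun e => h2 (by
          have := CharP.cast_eq_zero F (ringChar F)
          rwa [e, Nat.cast_ofNat] at this)
      rw [Nat.gcd_eq_left (by omega : 2 ∣ q - 1), index_omega_odd hB h2 hn]
  have hsur : Function.Surjective f := by
    refine surjective_of_count f hidx hk ?_
    rw [card_SL_two, hK, show Nat.card ↥(Cfsg.isometryGroup F ⇑Q) = Nat.card (Grp Q) from rfl,
      card_orth_minus 2 (by norm_num) hab hQ hB, Nat.card_eq_fintype_card (α := F), hF]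
    simp only [Finset.prod_range_one, show (2 : ℕ) - 1 = 1 from rfl]
    have : (q ^ 2) ^ 2 - 1 = (q ^ 2 + 1) * (q ^ 2 - 1) := by
      rw [← Nat.sq_sub_sq, one_pow]
    rw [this]
    norm_num
    ring
  obtain ⟨e⟩ := center_quotient_equiv_of_hom
    (fun ψ => SmallIso.hom_two_trivial hK3 SmallIso.center_sq
      (fun x y => Subtype.ext (Subgroup.mem_center_iff.1 y.2 _)) ψ) f hsur hkc
  rw [← hQ]
  exact ⟨e.symm⟩

end CfsgLib.Classical.OmegaFourMinus
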