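import Cfsg.Agent.Lib.Classical.InvolutionOrthStd
import Cfsg.Agent.Lib.Classical.InvolutionDickson
import Cfsg.Agent.Lib.Classical.OmegaFourMinus

/-!
Involution classes of `Ω±` in characteristic two.
-/

set_option autoImplicit false

namespace CfsgLib.Classical.InvolutionOmegaStd

open Module Matrix CfsgLib.Orth
open CfsgLib.Classical.InvolutionOrth CfsgLib.Classical.InvolutionDickson
open CfsgLib.Classical.InvolutionOrthStd

universe u

variable {F : Type u} [Field F]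

section general

variable {ι : Type} [Fintype ι] [DecidableEq ι] {Q : QuadraticForm F (ι → F)}

theorem sub_conj_iff (a b : ↥(Cfsg.Omega F ⇑Q)) :
    IsConj a b ↔ ∃ g ∈ Cfsg.Omega F ⇑Q, g * (a : Grp Q) * g⁻¹ = (b : Grp Q) := by
  rw [isConj_iff]
  constructor
  · rintro ⟨c, hc⟩
    exact ⟨c.1, c.2, congrArg Subtype.val hc⟩
  · rintro ⟨g, hg, hgt⟩
    exact ⟨⟨g, hg⟩, Subtype.ext hgt⟩

theorem orderOf_val {a : ↥(Cfsg.Omega F ⇑Q)} (h : orderOf a = 2) : orderOf (a : Grp Q) = 2 := by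
  rw [Subgroup.orderOf_coe, h]

theorem conj_of_sub {a b : ↥(Cfsg.Omega F ⇑Q)} (h : IsConj a b) : IsConj (a : Grp Q) (b : Grp Q) := by
  obtain ⟨g, -, hgt⟩ := (sub_conj_iff a b).1 h
  exact isConj_iff.2 ⟨g, hgt⟩

end general

variable [Finite F] [CharP F 2]

theorem omega_plus_eq_ker {m : ℕ} {Q : QuadraticForm F (Fin m ⊕ Fin m → F)} (hB : Nondeg Q)
    (hm : 1 ≤ m) (h : Nat.card F ≠ 2 ∨ m ≠ 2) : Cfsg.Omega F ⇑Q = (dickson hB).ker := by
  have hd : finrank F (Fin m ⊕ Fin m → F) = m + m := by simp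
  exact omega_eq_ker_dickson hB CharTwo.two_eq_zero (by omega) (by omega)

theorem omega_minus_eq_ker {k : ℕ} {a b : F} {Q : QuadraticForm F ((Fin k ⊕ Fin k) ⊕ Fin 2 → F)}
    (hQ : ⇑Q = Cfsg.quadFormMinus k F a b)
    (hab : ∀ z₁ z₂ : F, z₁ ^ 2 + a * z₁ * z₂ + b * z₂ ^ 2 = 0 → z₁ = 0 ∧ z₂ = 0) (hB : Nondeg Q) :
    Cfsg.Omega F ⇑Q = (dickson hB).ker := by
  have hd : finrank F ((Fin k ⊕ Fin k) ⊕ Fin 2 → F) = k + k + 2 := by simp
  by_cases h : k = 1 ∧ Nat.card F = 2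
  swap
  · exact omega_eq_ker_dickson hB CharTwo.two_eq_zero (by omega) fun h4 hq => h ⟨by omega, hq⟩
  obtain ⟨rfl, hq⟩ := h
  cases nonempty_fintype F
  have hle : Cfsg.Omega F ⇑Q ≤ (dickson hB).ker := Abelianization.commutator_subset_ker _
  have hi : (Cfsg.Omega F ⇑Q).index = 2 := by
    rw [hQ]; exact OmegaFourMinus.index_omega_two_four (by rwa [← Nat.card_eq_fintype_card]) hab
  have hk : (dickson hB).ker.index = 2 := by
    obtain ⟨v, hv⟩ := exists_aniso hB (by omega)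
    obtain ⟨r, hr⟩ := exists_refl hB hv
    have hsurj : Function.Surjective (dickson hB) := fun u => by
      rcases Int.units_eq_one_or u with rfl | rfl
      · exact ⟨1, map_one _⟩
      · exact ⟨r, dickson_refl hB hr⟩
    rw [Subgroup.index_ker, MonoidHom.range_eq_top.2 hsurj, Subgroup.card_top,
      Nat.card_eq_fintype_card]
    rfl
  have := Subgroup.relIndex_mul_index hle
  rw [hi, hk] at this
  exact le_antisymm hle (Subgroup.relIndex_eq_one.1 (by omega))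

section minus

variable {k : ℕ} {a b : F} {Q : QuadraticForm F ((Fin k ⊕ Fin k) ⊕ Fin 2 → F)}

theorem minus_not_half (hQ : ⇑Q = Cfsg.quadFormMinus k F a b)
    (hab : ∀ z₁ z₂ : F, z₁ ^ 2 + a * z₁ * z₂ + b * z₂ ^ 2 = 0 → z₁ = 0 ∧ z₂ = 0) (hB : Nondeg Q)
    {t : Grp Q} (ht : orderOf t = 2) :
    ¬ (2 * finrank F ↥(LinearMap.range (uO t)) = finrank F ((Fin k ⊕ Fin k) ⊕ Fin 2 → F) ∧
      AltO t) := fun ⟨h2, hA⟩ => by
  have := (minus_rank_le hQ hab hB ht).2 hA
  have hd : finrank F ((Fin k ⊕ Fin k) ⊕ Fin 2 → F) = k + k + 2 := by simp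
  omega

theorem minus_omega_conj (hQ : ⇑Q = Cfsg.quadFormMinus k F a b)
    (hab : ∀ z₁ z₂ : F, z₁ ^ 2 + a * z₁ * z₂ + b * z₂ ^ 2 = 0 → z₁ = 0 ∧ z₂ = 0) (hB : Nondeg Q)
    {t s : Grp Q} (ht : orderOf t = 2) (h : IsConj t s) :
    ∃ g ∈ Cfsg.Omega F ⇑Q, g * t * g⁻¹ = s :=
  exists_omega_conj (omega_minus_eq_ker hQ hab hB) (orderOf_two ht) (minus_not_half hQ hab hB ht) h

theorem minus_omega_class_count (hQ : ⇑Q = Cfsg.quadFormMinus k F a b)
    (hab : ∀ z₁ z₂ : F, z₁ ^ 2 + a * z₁ * z₂ + b * z₂ ^ 2 = 0 → z₁ = 0 ∧ z₂ = 0) (hB : Nondeg Q) :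
    Nat.card {C : ConjClasses ↥(Cfsg.Omega F ⇑Q) //
      ∃ g : ↥(Cfsg.Omega F ⇑Q), ConjClasses.mk g = C ∧ orderOf g = 2} = (k + 1) / 2 + k / 2 := by
  have hΩ := omega_minus_eq_ker hQ hab hB
  rw [InvolutionClasses.card_classes (fun c : ↥(Cfsg.Omega F ⇑Q) =>
      finrank F ↥(LinearMap.range (uO (c : Grp Q)))) (fun c => AltO (c : Grp Q))
    ((Finset.Icc 1 (k + 1)).filter fun s : ℕ => Even s)
    ((Finset.Icc 1 k).filter fun s : ℕ => Even s)
    (fun c d hc hd => by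
      rw [← isConj_iff_invariants hB (orderOf_two (orderOf_val hc)) (orderOf_two (orderOf_val hd))]
      exact ⟨conj_of_sub,
        fun h => (sub_conj_iff c d).2 (minus_omega_conj hQ hab hB (orderOf_val hc) h)⟩),
    InvolutionClasses.card_evens, InvolutionClasses.card_evens]
  · exact fun c hc hA => Finset.mem_filter.2 ⟨Finset.mem_Icc.2 ⟨(rank_bounds hB (orderOf_val hc)).1,
      (minus_rank_le hQ hab hB (orderOf_val hc)).2 hA⟩, (mem_omega_iff_rank hΩ _).1 c.2⟩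
  · exact fun c hc _ => Finset.mem_filter.2 ⟨Finset.mem_Icc.2 ⟨(rank_bounds hB (orderOf_val hc)).1,
      (minus_rank_le hQ hab hB (orderOf_val hc)).1⟩, (mem_omega_iff_rank hΩ _).1 c.2⟩
  · intro s hs
    obtain ⟨hs, hev⟩ := Finset.mem_filter.1 hs
    obtain ⟨g, hg, hr, hA⟩ := minus_exists_nonalt hQ hB (Finset.mem_Icc.1 hs).1 (Finset.mem_Icc.1 hs).2
    exact ⟨⟨g, (mem_omega_iff_rank hΩ g).2 (hr ▸ hev)⟩, (Subgroup.orderOf_mk g _).trans hg, hr, hA⟩
  · intro s hs
    obtain ⟨hs, hev⟩ := Finset.mem_filter.1 hs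
    obtain ⟨g, hg, hr, hA⟩ := minus_exists_alt hQ hB (Finset.mem_Icc.1 hs).1 hev (Finset.mem_Icc.1 hs).2
    exact ⟨⟨g, (mem_omega_iff_rank hΩ g).2 (hr ▸ hev)⟩, (Subgroup.orderOf_mk g _).trans hg, hr, hA⟩

end minus

section plus

variable {m : ℕ} {Q : QuadraticForm F (Fin m ⊕ Fin m → F)}

omit [Finite F] [CharP F 2] in
theorem half_iff {W : Submodule F (Fin m ⊕ Fin m → F)} :
    2 * finrank F W = finrank F (Fin m ⊕ Fin m → F) ↔ finrank F W = m := by
  rw [finrank_pi, Fintype.card_sum, Fintype.card_fin]; omega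

/-- The invariant separating the classes of `Ω⁺`. -/
noncomputable def inv' (U : Submodule F (Fin m ⊕ Fin m → F)) (g : Grp Q) : ℕ := by
  classical
  exact if (AltO g ∧ finrank F ↥(LinearMap.range (uO g)) = m) ∧
      Even (m + finrank F ↥(LinearMap.range (uO g) ⊓ U))
    then m + 1 else finrank F ↥(LinearMap.range (uO g))

omit [Finite F] [CharP F 2] in
theorem inv'_neg {U : Submodule F (Fin m ⊕ Fin m → F)} {g : Grp Q}
    (h : ¬ (AltO g ∧ finrank F ↥(LinearMap.range (uO g)) = m)) :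
    inv' U g = finrank F ↥(LinearMap.range (uO g)) := by
  classical
  unfold inv'
  exact if_neg fun h' => h h'.1

omit [Finite F] [CharP F 2] in
theorem inv'_pos {U : Submodule F (Fin m ⊕ Fin m → F)} {g : Grp Q}
    (h : AltO g ∧ finrank F ↥(LinearMap.range (uO g)) = m) :
    (Even (m + finrank F ↥(LinearMap.range (uO g) ⊓ U)) ∧ inv' U g = m + 1) ∨
      (¬ Even (m + finrank F ↥(LinearMap.range (uO g) ⊓ U)) ∧ inv' U g = m) := by
  classical
  unfold inv'
  by_cases he : Even (m + finrank F ↥(LinearMap.range (uO g) ⊓ U))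
  · exact Or.inl ⟨he, if_pos ⟨h, he⟩⟩
  · exact Or.inr ⟨he, (if_neg fun h' => he h'.2).trans h.2⟩

theorem plus_omega_conj_iff (hm : 1 ≤ m) (h : Nat.card F ≠ 2 ∨ m ≠ 2) (hB : Nondeg Q)
    {U : Submodule F (Fin m ⊕ Fin m → F)} (hU : IsHalf Q U) {t s : Grp Q} (ht : orderOf t = 2)
    (hs : orderOf s = 2) :
    (∃ g ∈ Cfsg.Omega F ⇑Q, g * t * g⁻¹ = s) ↔ inv' U t = inv' U s ∧ (AltO t ↔ AltO s) := by
  have hΩ := omega_plus_eq_ker hB hm h
  have hle : ∀ {g : Grp Q}, orderOf g = 2 → finrank F ↥(LinearMap.range (uO g)) ≤ m :=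
    fun hg => plus_rank_le hB hg
  have hhalf : ∀ {g : Grp Q}, AltO g → orderOf g = 2 → finrank F ↥(LinearMap.range (uO g)) = m →
      IsHalf Q (LinearMap.range (uO g)) := fun hA hg hr =>
    ⟨((rank_bounds hB hg).2.2 hA).2, half_iff.2 hr⟩
  by_cases hsp : AltO t ∧ finrank F ↥(LinearMap.range (uO t)) = m
  · by_cases hc : IsConj t s
    swap
    · refine iff_of_false (fun ⟨g, _, hg⟩ => hc (isConj_iff.2 ⟨g, hg⟩)) fun ⟨hi, hA⟩ => hc ?_
      refine (isConj_iff_invariants hB (orderOf_two ht) (orderOf_two hs)).2 ⟨?_, hA⟩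
      have h1 := hle hs
      have h2 := inv'_pos (U := U) hsp
      by_cases hs2 : AltO s ∧ finrank F ↥(LinearMap.range (uO s)) = m
      · rw [hsp.2, hs2.2]
      · rw [inv'_neg hs2] at hi; omega
    obtain ⟨hr, hA⟩ := (isConj_iff_invariants hB (orderOf_two ht) (orderOf_two hs)).1 hc
    rw [omega_conj_iff hΩ (half_iff.2 hsp.2) hsp.1 hc, hsp.2, and_iff_left hA]
    have ht3 := even_half_triangle hB (hhalf hsp.1 ht hsp.2) hU (hhalf (hA.1 hsp.1) hs (hr ▸ hsp.2))
    rw [inf_comm U, hsp.2] at ht3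
    have h2 := inv'_pos (U := U) hsp
    have h3 := inv'_pos (U := U) (⟨hA.1 hsp.1, hr ▸ hsp.2⟩ :
      AltO s ∧ finrank F ↥(LinearMap.range (uO s)) = m)
    simp only [Nat.even_iff] at ht3 h2 h3 ⊢
    omega
  · have e : inv' U t = finrank F ↥(LinearMap.range (uO t)) := inv'_neg hsp
    have hne : ¬ (2 * finrank F ↥(LinearMap.range (uO t)) = finrank F (Fin m ⊕ Fin m → F) ∧
        AltO t) := fun h' => hsp ⟨h'.2, half_iff.1 h'.1⟩
    constructor
    · rintro ⟨g, -, hg⟩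
      obtain ⟨hr, hA⟩ := invariants_of_conj (isConj_iff.2 ⟨g, hg⟩)
      refine ⟨?_, hA⟩
      rw [e, inv'_neg fun h' => hsp ⟨hA.2 h'.1, hr.trans h'.2⟩, hr]
    · rintro ⟨hi, hA⟩
      refine exists_omega_conj hΩ (orderOf_two ht) hne
        ((isConj_iff_invariants hB (orderOf_two ht) (orderOf_two hs)).2 ⟨?_, hA⟩)
      have h1 := hle ht
      rw [e] at hi
      by_cases hs2 : AltO s ∧ finrank F ↥(LinearMap.range (uO s)) = m
      · rcases inv'_pos (U := U) hs2 with ⟨-, h2⟩ | ⟨-, h2⟩ <;> omega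
      · rw [hi, inv'_neg hs2]

theorem plus_omega_class_count (hQ : ⇑Q = Cfsg.quadFormPlus m F) (hm : 1 ≤ m)
    (h : Nat.card F ≠ 2 ∨ m ≠ 2) (hB : Nondeg Q) :
    Nat.card {C : ConjClasses ↥(Cfsg.Omega F ⇑Q) //
      ∃ g : ↥(Cfsg.Omega F ⇑Q), ConjClasses.mk g = C ∧ orderOf g = 2} =
      2 * (m / 2) + (if Even m then 1 else 0) := by
  classical
  have hΩ := omega_plus_eq_ker hB hm h
  let U := LinearMap.range (Function.ExtendByZero.linearMap F
    (fun i : Fin m => (Sum.inl i : Fin m ⊕ Fin m)))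
  have hU : IsHalf Q U := by
    refine ⟨fun x hx => ?_, half_iff.2 ?_⟩
    · obtain ⟨z, rfl⟩ := hx
      exact plus_singular hQ id z
    · rw [LinearMap.finrank_range_of_inj (extz_injective Sum.inl_injective), finrank_fin_fun]
  have hbound : ∀ c : ↥(Cfsg.Omega F ⇑Q), orderOf c = 2 →
      finrank F ↥(LinearMap.range (uO (c : Grp Q))) ∈
        (Finset.Icc 1 m).filter fun s : ℕ => Even s := fun c hc =>
    Finset.mem_filter.2 ⟨Finset.mem_Icc.2 ⟨(rank_bounds hB (orderOf_val hc)).1,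
      plus_rank_le hB (orderOf_val hc)⟩, (mem_omega_iff_rank hΩ _).1 c.2⟩
  have hnot : m + 1 ∉ (Finset.Icc 1 m).filter fun s : ℕ => Even s := by simp
  let T : Finset ℕ := if Even m then insert (m + 1) ((Finset.Icc 1 m).filter fun s : ℕ => Even s)
    else (Finset.Icc 1 m).filter fun s : ℕ => Even s
  have hT : T.card = m / 2 + if Even m then 1 else 0 := by
    by_cases he : Even m <;>
      simp [T, he, Finset.card_insert_of_notMem hnot, InvolutionClasses.card_evens]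
  have hsub : ∀ s ∈ (Finset.Icc 1 m).filter (fun s : ℕ => Even s), s ∈ T := fun s hs => by
    simp only [T]; split_ifs
    · exact Finset.mem_insert_of_mem hs
    · exact hs
  rw [InvolutionClasses.card_classes (fun c : ↥(Cfsg.Omega F ⇑Q) => inv' U (c : Grp Q))
    (fun c => AltO (c : Grp Q)) ((Finset.Icc 1 m).filter fun s : ℕ => Even s) T
    (fun c d hc hd => (sub_conj_iff c d).trans
      (plus_omega_conj_iff hm h hB hU (orderOf_val hc) (orderOf_val hd))),
    InvolutionClasses.card_evens, hT, two_mul, add_assoc]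
  · intro c hc hA
    by_cases hh : AltO (c : Grp Q) ∧ finrank F ↥(LinearMap.range (uO (c : Grp Q))) = m
    · have hev : Even m := hh.2 ▸ (mem_omega_iff_rank hΩ _).1 c.2
      rcases inv'_pos (U := U) hh with ⟨-, h2⟩ | ⟨-, h2⟩ <;> simp [T, hev, h2, hm]
    · show inv' U _ ∈ T
      rw [inv'_neg hh]; exact hsub _ (hbound c hc)
  · intro c hc hA
    show inv' U _ ∈ _
    rw [inv'_neg fun hh => hA hh.1]
    exact hbound c hc
  · intro s hs
    obtain ⟨hs, hev⟩ := Finset.mem_filter.1 hs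
    obtain ⟨g, hg, hr, hA⟩ := plus_exists_nonalt hQ hB (Finset.mem_Icc.1 hs).1 (Finset.mem_Icc.1 hs).2
    exact ⟨⟨g, (mem_omega_iff_rank hΩ g).2 (hr ▸ hev)⟩, (Subgroup.orderOf_mk g _).trans hg,
      (inv'_neg fun hh => hA hh.1).trans hr, hA⟩
  · intro s hs
    by_cases hlt : s < m
    · have hs' : s ∈ (Finset.Icc 1 m).filter fun s : ℕ => Even s := by
        simp only [T] at hs; split_ifs at hs
        · exact (Finset.mem_insert.1 hs).resolve_left (by omega)
        · exact hs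
      obtain ⟨hs', hev⟩ := Finset.mem_filter.1 hs'
      obtain ⟨g, hg, hr, hA⟩ :=
        plus_exists_alt hQ hB (Finset.mem_Icc.1 hs').1 hev (Finset.mem_Icc.1 hs').2
      exact ⟨⟨g, (mem_omega_iff_rank hΩ g).2 (hr ▸ hev)⟩, (Subgroup.orderOf_mk g _).trans hg,
        (inv'_neg fun hh => hlt.ne (hr.symm.trans hh.2)).trans hr, hA⟩
    have hcase : Even m ∧ (s = m ∨ s = m + 1) := by
      simp only [T] at hs
      split_ifs at hs with hev
      · exact ⟨hev, by simp at hs; omega⟩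
      · simp at hs
        have : s = m := by omega
        exact absurd (this ▸ hs.2) hev
    obtain ⟨hev, hs2⟩ := hcase
    obtain ⟨g, hg, hr, hA⟩ := plus_exists_alt hQ hB hm hev le_rfl
    obtain ⟨v, hv⟩ := exists_aniso hB (by rw [finrank_pi, Fintype.card_sum, Fintype.card_fin]; omega)
    obtain ⟨r, hrefl⟩ := exists_refl hB hv
    have hg' : orderOf (r * g * r⁻¹) = 2 :=
      (MulEquiv.orderOf_eq (MulAut.conj r) g).trans hg
    obtain ⟨hr', hA'⟩ := invariants_of_conj (isConj_iff.2 ⟨r, rfl⟩ : IsConj g (r * g * r⁻¹))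
    have hdiff : inv' U g ≠ inv' U (r * g * r⁻¹) := by
      intro he
      obtain ⟨c, hc, hcg⟩ := (plus_omega_conj_iff hm h hB hU hg hg').2 ⟨he, hA'⟩
      have hW : IsHalf Q (LinearMap.range (uO g)) :=
        ⟨((rank_bounds hB hg).2.2 hA).2, half_iff.2 hr⟩
      have h1 := dickson_half hB hW r
      rw [dickson_refl hB hrefl, ← range_conj rfl] at h1
      rw [hΩ, MonoidHom.mem_ker, dickson_half hB hW, ← range_conj hcg] at hc
      rw [hc] at h1
      exact absurd h1 (by decide)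
    have hv1 : ∀ x : Grp Q, finrank F ↥(LinearMap.range (uO x)) = m →
        inv' U x = m ∨ inv' U x = m + 1 := fun x hx => by
      by_cases hh : AltO x ∧ finrank F ↥(LinearMap.range (uO x)) = m
      · rcases inv'_pos (U := U) hh with ⟨-, h2⟩ | ⟨-, h2⟩
        · exact Or.inr h2
        · exact Or.inl h2
      · exact Or.inl ((inv'_neg hh).trans hx)
    have hmem : ∀ x : Grp Q, finrank F ↥(LinearMap.range (uO x)) = m → x ∈ Cfsg.Omega F ⇑Q :=
      fun x hx => (mem_omega_iff_rank hΩ x).2 (by rw [hx]; exact hev)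
    have := hv1 g hr
    have := hv1 _ (hr'.symm.trans hr)
    by_cases hgs : inv' U g = s
    · exact ⟨⟨g, hmem g hr⟩, (Subgroup.orderOf_mk g _).trans hg, hgs, hA⟩
    · exact ⟨⟨_, hmem _ (hr'.symm.trans hr)⟩, (Subgroup.orderOf_mk _ _).trans hg',
        (by omega : inv' U (r * g * r⁻¹) = s), hA'.1 hA⟩

end plus

end CfsgLib.Classical.InvolutionOmegaStd
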