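import Cfsg.Agent.Lib.Classical.InvolutionData
import Cfsg.Agent.Lib.Classical.InvolutionClasses
import Cfsg.Agent.Lib.Classical.SympCount
import Cfsg.Agent.Lib.Classical.OrthSpinor
import Cfsg.Agent.Lib.Classical.OrthDisc
import Cfsg.Agent.Lib.Classical.OrthForms

/-!
Involutions of the orthogonal groups in characteristic two.
-/

set_option autoImplicit false

namespace CfsgLib.Classical.InvolutionOrth

open Module Matrix CfsgLib.Orth
open CfsgLib.Classical.InvolutionData
open CfsgLib.SympCount (Symp)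

universe u

variable {F : Type u} [Field F] {ι : Type} [Fintype ι] [DecidableEq ι]
variable {Q : QuadraticForm F (ι → F)}

local notation "bQ" => QuadraticMap.polarBilin Q

theorem bq_apply (x y : ι → F) : bQ x y = QuadraticMap.polar ⇑Q x y := rfl

omit [Fintype ι] [DecidableEq ι] in
theorem symp [CharP F 2] (hB : Nondeg Q) : Symp bQ where
  alt x := by
    show QuadraticMap.polar ⇑Q x x = 0
    rw [b_self, CharTwo.two_eq_zero, zero_mul]
  nd x hx := hB x hx

/-- The linear map `g - 1`. -/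
noncomputable def uO (g : Grp Q) : End F (ι → F) :=
  Matrix.toLin' (((g : GL ι F) : Matrix ι ι F) - 1)

theorem uO_apply (g : Grp Q) (x : ι → F) : uO g x = ap g x - x := by
  rw [uO, toLin'_apply, sub_mulVec, one_mulVec]; rfl

theorem rank_eq (g : Grp Q) :
    (((g : GL ι F) : Matrix ι ι F) - 1).rank = finrank F ↥(LinearMap.range (uO g)) := rfl

theorem uO_eq (g : Grp Q) :
    uO g = Matrix.toLin' ((g : GL ι F) : Matrix ι ι F) - 1 := by
  rw [uO, map_sub, toLin'_one]; rfl

theorem nil [CharP F 2] {g : Grp Q} (h2 : g * g = 1) : Nil bQ (uO g) := by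
  rw [uO_eq]
  refine nil_of_invol (fun x y => ?_) fun x => ?_
  · simp only [toLin'_apply]; exact ap_b g x y
  · simp only [toLin'_apply]
    show ap g (ap g x) = x
    rw [← ap_mul, h2, ap_one]

theorem preserves (g : Grp Q) (x : ι → F) : Q (x + uO g x) = Q x := by
  rw [uO_apply, add_sub_cancel, ap_q]

/-- The form on the image of `g - 1` is alternating. -/
def AltO (g : Grp Q) : Prop := Alt bQ (uO g)

theorem altO_iff [CharP F 2] (g : Grp Q) :
    AltO g ↔ ∀ v, Q ((((g : GL ι F) : Matrix ι ι F) - 1) *ᵥ v) = 0 := by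
  refine forall_congr' fun v => ?_
  rw [← quad_range (Q := Q) (u := uO g) (fun _ _ => rfl) (preserves g), uO, toLin'_apply]

theorem equiv_of_grp (g : Grp Q) :
    ∃ e : (ι → F) ≃ₗ[F] (ι → F), ∀ x, e x = ap g x :=
  ⟨{ toFun := ap g, map_add' := ap_add g, map_smul' := ap_smul g, invFun := ap g⁻¹,
     left_inv := ap_inv_ap g, right_inv := ap_ap_inv g }, fun _ => rfl⟩

/-- An element of `GL` preserving the polar form conjugates to the same invariants. -/
theorem invariants_of_polar_conj {t s : Grp Q} (c : GL ι F)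
    (hc : ∀ x y, bQ ((c : Matrix ι ι F) *ᵥ x) ((c : Matrix ι ι F) *ᵥ y) = bQ x y)
    (h : c * (t : GL ι F) * c⁻¹ = (s : GL ι F)) :
    finrank F ↥(LinearMap.range (uO t)) = finrank F ↥(LinearMap.range (uO s)) ∧
      (AltO t ↔ AltO s) := by
  let e : (ι → F) ≃ₗ[F] (ι → F) :=
    LinearEquiv.ofLinear (Matrix.toLin' (c : Matrix ι ι F)) (Matrix.toLin' ((c⁻¹ : GL ι F) : Matrix ι ι F))
      (by rw [← toLin'_mul, ← Units.val_mul, mul_inv_cancel, Units.val_one, toLin'_one])
      (by rw [← toLin'_mul, ← Units.val_mul, inv_mul_cancel, Units.val_one, toLin'_one])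
  have he : ∀ x, e (uO t x) = uO s (e x) := fun x => by
    show Matrix.toLin' (c : Matrix ι ι F) (uO t x) = uO s (Matrix.toLin' (c : Matrix ι ι F) x)
    simp only [uO, toLin'_apply, mulVec_mulVec]
    rw [mul_sub, mul_one, sub_mul, one_mul, ← Units.val_mul, ← Units.val_mul, ← h,
      inv_mul_cancel_right]
  exact ⟨rank_eq_of_conj e he, alt_iff_of_conj e hc he⟩

theorem invariants_of_conj {t s : Grp Q} (h : IsConj t s) :
    finrank F ↥(LinearMap.range (uO t)) = finrank F ↥(LinearMap.range (uO s)) ∧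
      (AltO t ↔ AltO s) := by
  obtain ⟨c, hc⟩ := isConj_iff.1 h
  exact invariants_of_polar_conj (c : GL ι F) (ap_b c) (congrArg Subtype.val hc)

theorem orderOf_two {g : Grp Q} (h : orderOf g = 2) : g * g = 1 := by
  rw [← sq, ← h, pow_orderOf_eq_one]

theorem fixSpace_eq (g : Grp Q) : fixSpace g = LinearMap.ker (uO g) := by
  ext x
  rw [LinearMap.mem_ker, uO_apply, sub_eq_zero]
  exact mem_fixSpace

theorem dickson_invol (hB : Nondeg Q) (g : Grp Q) :
    dickson hB g = (-1) ^ finrank F ↥(LinearMap.range (uO g)) := by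
  show (-1 : ℤˣ) ^ (_ + _) = _
  have := LinearMap.finrank_range_add_finrank_ker (uO g)
  refine neg_one_pow_congr ?_
  rw [fixSpace_eq]
  simp only [Nat.even_iff]
  omega

variable [Finite F] [CharP F 2]

theorem mem_omega_iff (hB : Nondeg Q) (hn : 1 ≤ finrank F (ι → F))
    (hex : finrank F (ι → F) = 4 → Nat.card F ≠ 2) (g : Grp Q) :
    g ∈ Cfsg.Omega F ⇑Q ↔ Even (finrank F ↥(LinearMap.range (uO g))) := by
  rw [omega_eq_ker_dickson hB CharTwo.two_eq_zero hn hex, MonoidHom.mem_ker, dickson_invol,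
    neg_one_pow_eq_one_iff_even (by decide : (-1 : ℤˣ) ≠ 1)]

theorem isConj_iff_invariants (hB : Nondeg Q) {t s : Grp Q} (ht : t * t = 1) (hs : s * s = 1) :
    IsConj t s ↔ finrank F ↥(LinearMap.range (uO t)) = finrank F ↥(LinearMap.range (uO s)) ∧
      (AltO t ↔ AltO s) := by
  refine ⟨invariants_of_conj, fun ⟨hr, hA⟩ => ?_⟩
  obtain ⟨e, he, heu⟩ := exists_conj_quad (symp hB) Q (fun _ _ => rfl) (nil ht) (nil hs)
    (preserves t) (preserves s) hr hA
  obtain ⟨c, hc⟩ := exists_iso hB e.toLinearMap he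
  refine isConj_iff.2 ⟨c, mul_inv_eq_iff_eq_mul.2 (ext_ap fun x => ?_)⟩
  have := heu x
  rw [uO_apply, uO_apply, map_sub, sub_left_inj] at this
  rw [ap_mul, ap_mul, hc, hc]
  exact this

theorem isConj_iff_polar (hB : Nondeg Q) {t s : Grp Q} (ht : t * t = 1) (hs : s * s = 1) :
    IsConj t s ↔ ∃ g ∈ Cfsg.preserving (Units.coeHom (Matrix ι ι F))
        (fun x y => Q (x + y) - Q x - Q y), g * (t : GL ι F) * g⁻¹ = (s : GL ι F) := by
  constructor
  · intro h
    obtain ⟨c, hc⟩ := isConj_iff.1 h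
    exact ⟨(c : GL ι F), ap_b c, congrArg Subtype.val hc⟩
  · rintro ⟨g, hg, hgt⟩
    exact (isConj_iff_invariants hB ht hs).2 (invariants_of_polar_conj g hg hgt)

omit [Finite F] in
/-- A form on a subspace whose diagonal is `Q` gives an involution. -/
theorem exists_of_form (hB : Nondeg Q) {κ : Type} [Fintype κ] (j : (κ → F) →ₗ[F] (ι → F))
    (hj : Function.Injective j) {φ : LinearMap.BilinForm F (κ → F)} (hφ : Sym φ)
    (hQ : ∀ a, Q (j a) = φ a a) (hκ : 0 < Fintype.card κ) :
    ∃ g : Grp Q, orderOf g = 2 ∧ finrank F ↥(LinearMap.range (uO g)) = Fintype.card κ ∧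
      (AltO g ↔ ∀ a, φ a a = 0) := by
  have hiso : ∀ a b, bQ (j a) (j b) = 0 := fun a b => by
    show QuadraticMap.polar ⇑Q (j a) (j b) = 0
    rw [QuadraticMap.polar, ← map_add, hQ, hQ, hQ, map_add, map_add, LinearMap.add_apply,
      LinearMap.add_apply, hφ.symm b a, add_assoc, ← add_assoc (φ a b), CharTwo.add_self_eq_zero,
      zero_add, sub_sub, sub_self]
  obtain ⟨w, hw, hr, hA, hx⟩ := exists_nil (symp hB) j hj hiso hφ
  rw [finrank_pi] at hr
  have hpres : ∀ x, Q ((1 + w) x) = Q x := fun x => by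
    obtain ⟨a, ha, ha'⟩ := hx x
    show Q (x + w x) = Q x
    rw [QuadraticMap.map_add (f := ⇑Q), ← bq_apply x (w x), ha', ha, hQ, add_assoc,
      CharTwo.add_self_eq_zero, add_zero]
  obtain ⟨g, hg⟩ := exists_iso hB (1 + w) hpres
  have hu : uO g = w := LinearMap.ext fun x => by
    rw [uO_apply, hg]; show x + w x - x = w x; rw [add_sub_cancel_left]
  have h2 : g * g = 1 := ext_ap fun x => by
    rw [ap_mul, ap_one, hg, hg]
    show x + w x + w (x + w x) = x
    rw [map_add, hw.sq, add_zero, add_assoc, InvolutionData.add_self (F := F) (w x), add_zero]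
  refine ⟨g, orderOf_eq_prime (by rw [sq, h2]) fun e1 => ?_, by rw [hu, hr], by rw [AltO, hu, hA]⟩
  have : w = 0 := by
    rw [← hu, e1]; exact LinearMap.ext fun x => by rw [uO_apply, ap_one, sub_self]; rfl
  rw [this, LinearMap.range_zero, finrank_bot] at hr
  omega

omit [Finite F] in
/-- An involution with image spanned by a singular subspace and a vector of norm one. -/
theorem exists_nonalt (hB : Nondeg Q) {k : ℕ} (e : (Fin k → F) →ₗ[F] (ι → F))
    (he : Function.Injective e) (heQ : ∀ z, Q (e z) = 0) {v : ι → F} (hv : Q v = 1)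
    (hev : ∀ z, bQ (e z) v = 0) :
    ∃ g : Grp Q, orderOf g = 2 ∧ finrank F ↥(LinearMap.range (uO g)) = k + 1 ∧ ¬ AltO g := by
  let σ : (Fin (k + 1) → F) →ₗ[F] F := ∑ i, LinearMap.proj i
  have hσ : ∀ z, σ z = ∑ i, z i := fun z => by simp [σ]
  let j : (Fin (k + 1) → F) →ₗ[F] (ι → F) :=
    e ∘ₗ LinearMap.funLeft F F Fin.castSucc + σ.smulRight v
  have hj : ∀ z, j z = e (z ∘ Fin.castSucc) + σ z • v := fun z => rfl
  have hjQ : ∀ z, Q (j z) = σ z * σ z := fun z => by
    rw [hj, q_add, heQ, q_smul, hv, ← bq_apply, LinearMap.map_smul (bQ (e _)), hev, smul_zero,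
      add_zero, zero_add, mul_one]
  have hinj : Function.Injective j := by
    rw [injective_iff_map_eq_zero]
    intro z hz
    have h0 : σ z = 0 := by simpa [hz] using (hjQ z).symm
    rw [hj, h0, zero_smul, add_zero] at hz
    have hc := he (hz.trans (map_zero e).symm)
    refine funext fun i => ?_
    cases i using Fin.lastCases with
    | last =>
      rw [hσ, Fin.sum_univ_castSucc] at h0
      simpa [show ∀ i : Fin k, z i.castSucc = 0 from fun i => congrFun hc i] using h0
    | cast i => exact congrFun hc i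
  obtain ⟨g, hg, hr, hA⟩ := exists_of_form hB j hinj
    (φ := Matrix.toBilin' (1 : Matrix (Fin (k + 1)) (Fin (k + 1)) F))
    ⟨fun x y => by simp [toBilin'_apply', dotProduct_comm],
      fun x hx => dotProduct_eq_zero x fun y => by simpa [toBilin'_apply'] using hx y⟩
    (fun z => by
      rw [hjQ, hσ, CharTwo.sum_mul_self, toBilin'_apply', one_mulVec]; rfl)
    (by simp)
  refine ⟨g, hg, by simpa using hr, fun h => ?_⟩
  have := hA.1 h (Pi.single 0 1)
  simp [toBilin'_apply'] at this

omit [Finite F] in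
/-- An involution with singular image. -/
theorem exists_alt (hB : Nondeg Q) {k : ℕ} (hk : 0 < k)
    (e : (Fin k ⊕ Fin k → F) →ₗ[F] (ι → F)) (he : Function.Injective e) (heQ : ∀ z, Q (e z) = 0) :
    ∃ g : Grp Q, orderOf g = 2 ∧ finrank F ↥(LinearMap.range (uO g)) = k + k ∧ AltO g := by
  have hS := CfsgLib.SympCount.stdForm_symp (F := F) k
  obtain ⟨g, hg, hr, hA⟩ := exists_of_form hB e he
    (φ := CfsgLib.SympCount.stdForm F k) ⟨symm_of_alt hS.alt, hS.nd⟩
    (fun z => (heQ z).trans (hS.alt z).symm) (by simp; omega)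
  exact ⟨g, hg, by simpa using hr, hA.2 hS.alt⟩

omit [Finite F] in
theorem rank_bounds (hB : Nondeg Q) {g : Grp Q} (hg : orderOf g = 2) :
    1 ≤ finrank F ↥(LinearMap.range (uO g)) ∧
      2 * finrank F ↥(LinearMap.range (uO g)) ≤ finrank F (ι → F) ∧
      (AltO g → Even (finrank F ↥(LinearMap.range (uO g))) ∧
        ∀ x ∈ LinearMap.range (uO g), Q x = 0) := by
  have hn := nil (orderOf_two hg)
  refine ⟨Nat.one_le_iff_ne_zero.2 fun h0 => ?_, hn.two_mul_rank_le, fun hA => ⟨?_, ?_⟩⟩
  · have : g = 1 := ext_ap fun x => by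
      have := LinearMap.congr_fun (LinearMap.range_eq_bot.1 (Submodule.finrank_eq_zero.1 h0)) x
      rw [uO_apply, LinearMap.zero_apply, sub_eq_zero] at this
      rw [this, ap_one]
    rw [this, orderOf_one] at hg
    omega
  · exact even_rank_of_alt (symp hB) hn hA
  · rintro _ ⟨x, rfl⟩
    rw [quad_range (B := bQ) (fun _ _ => rfl) (preserves g)]
    exact hA x

end CfsgLib.Classical.InvolutionOrth
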