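import Cfsg.Agent.Lib.Classical.InvolutionOrth

/-!
Involutions of the standard orthogonal groups in characteristic two: existence and class counts.
-/

set_option autoImplicit false

namespace CfsgLib.Classical.InvolutionOrthStd

open Module Matrix CfsgLib.Orth
open CfsgLib.Classical.InvolutionOrth

universe u

variable {F : Type u} [Field F] [Finite F] [CharP F 2]

local notation "ext₀" => Function.ExtendByZero.linearMap F

omit [Finite F] [CharP F 2] in
theorem extz_injective {κ ι : Type} {σ : κ → ι} (hσ : Function.Injective σ) :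
    Function.Injective (ext₀ σ) := fun z z' e => funext fun i =>
  ((hσ.extend_apply z 0 i).symm.trans (congrFun e _)).trans (hσ.extend_apply z' 0 i)

section plus

variable {m : ℕ} {Q : QuadraticForm F (Fin m ⊕ Fin m → F)}

omit [Finite F] [CharP F 2] in
theorem plus_singular (hQ : ⇑Q = Cfsg.quadFormPlus m F) {κ : Type} (σ : κ → Fin m) (z : κ → F) :
    Q (ext₀ (fun i => Sum.inl (σ i)) z) = 0 := by
  rw [hQ]
  refine Finset.sum_eq_zero fun i _ => ?_
  have : ext₀ (fun i => (Sum.inl (σ i) : Fin m ⊕ Fin m)) z (.inr i) = 0 :=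
    Function.extend_apply' _ _ _ (by simp)
  rw [this, mul_zero]

theorem plus_exists_nonalt (hQ : ⇑Q = Cfsg.quadFormPlus m F) (hB : Nondeg Q) {s : ℕ} (hs : 1 ≤ s)
    (hsm : s ≤ m) :
    ∃ g : Grp Q, orderOf g = 2 ∧ finrank F ↥(LinearMap.range (uO g)) = s ∧ ¬ AltO g := by
  obtain ⟨k, rfl⟩ : ∃ k, s = k + 1 := ⟨s - 1, by omega⟩
  let σ : Fin k → Fin m := Fin.castLE (by omega)
  let p : Fin m := ⟨k, by omega⟩
  refine InvolutionOrth.exists_nonalt hB (ext₀ fun i => Sum.inl (σ i))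
    (extz_injective (Sum.inl_injective.comp (Fin.castLE_injective _)))
    (plus_singular hQ σ) (v := Sum.elim (Pi.single p 1) (Pi.single p 1)) ?_ fun z => ?_
  · rw [hQ, Cfsg.quadFormPlus, Finset.sum_eq_single p (fun i _ hi => by simp [hi]) (by simp)]
    simp
  · rw [bq_apply, hQ, polar_plus]
    have h0 : ext₀ (fun i => (Sum.inl (σ i) : Fin m ⊕ Fin m)) z (.inl p) = 0 :=
      Function.extend_apply' _ _ _ (by
        rintro ⟨i, hi⟩
        have := congrArg Fin.val (Sum.inl_injective hi)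
        simp [σ, p] at this
        omega)
    refine Finset.sum_eq_zero fun i _ => ?_
    have h1 : ext₀ (fun i => (Sum.inl (σ i) : Fin m ⊕ Fin m)) z (.inr i) = 0 :=
      Function.extend_apply' _ _ _ (by simp)
    by_cases hi : i = p
    · subst hi; simp [h0, h1]
    · simp [hi, h1]

theorem plus_exists_alt (hQ : ⇑Q = Cfsg.quadFormPlus m F) (hB : Nondeg Q) {s : ℕ} (hs : 1 ≤ s)
    (hev : Even s) (hsm : s ≤ m) :
    ∃ g : Grp Q, orderOf g = 2 ∧ finrank F ↥(LinearMap.range (uO g)) = s ∧ AltO g := by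
  obtain ⟨k, rfl⟩ := hev
  exact InvolutionOrth.exists_alt hB (by omega)
    (ext₀ fun i => Sum.inl (Fin.castLE hsm (finSumFinEquiv i)))
    (extz_injective (Sum.inl_injective.comp ((Fin.castLE_injective hsm).comp
      finSumFinEquiv.injective)))
    (plus_singular hQ _)

omit [Finite F] in
theorem plus_rank_le (hB : Nondeg Q) {g : Grp Q} (hg : orderOf g = 2) :
    finrank F ↥(LinearMap.range (uO g)) ≤ m := by
  have := (rank_bounds hB hg).2.1
  rw [finrank_pi, Fintype.card_sum, Fintype.card_fin] at this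
  omega

theorem plus_class_count (hQ : ⇑Q = Cfsg.quadFormPlus m F) (hB : Nondeg Q) :
    Nat.card {C : ConjClasses (Grp Q) // ∃ g : Grp Q, ConjClasses.mk g = C ∧ orderOf g = 2} =
      m + m / 2 := by
  rw [InvolutionClasses.card_classes (fun a => finrank F ↥(LinearMap.range (uO a))) AltO
    (Finset.Icc 1 m) ((Finset.Icc 1 m).filter fun s : ℕ => Even s)
    (fun a b ha hb => isConj_iff_invariants hB (orderOf_two ha) (orderOf_two hb)),
    InvolutionClasses.card_evens, Nat.card_Icc, Nat.add_sub_cancel]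
  · exact fun a ha hA => Finset.mem_filter.2 ⟨Finset.mem_Icc.2
      ⟨(rank_bounds hB ha).1, plus_rank_le hB ha⟩, ((rank_bounds hB ha).2.2 hA).1⟩
  · exact fun a ha _ => Finset.mem_Icc.2 ⟨(rank_bounds hB ha).1, plus_rank_le hB ha⟩
  · exact fun s hs => plus_exists_nonalt hQ hB (Finset.mem_Icc.1 hs).1 (Finset.mem_Icc.1 hs).2
  · intro s hs
    obtain ⟨hs, hev⟩ := Finset.mem_filter.1 hs
    exact plus_exists_alt hQ hB (Finset.mem_Icc.1 hs).1 hev (Finset.mem_Icc.1 hs).2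

end plus

section minus

variable {k : ℕ} {a b : F} {Q : QuadraticForm F ((Fin k ⊕ Fin k) ⊕ Fin 2 → F)}

omit [Finite F] [CharP F 2] in
theorem minus_singular (hQ : ⇑Q = Cfsg.quadFormMinus k F a b) {κ : Type} (σ : κ → Fin k)
    (z : κ → F) : Q (ext₀ (fun i => Sum.inl (Sum.inl (σ i))) z) = 0 := by
  have h : ∀ r, (∀ i, (Sum.inl (Sum.inl (σ i)) : (Fin k ⊕ Fin k) ⊕ Fin 2) ≠ r) →
      ext₀ (fun i => (Sum.inl (Sum.inl (σ i)) : (Fin k ⊕ Fin k) ⊕ Fin 2)) z r = 0 := fun r hr =>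
    Function.extend_apply' _ _ _ (fun ⟨i, hi⟩ => hr i hi)
  have h1 := fun i => h (.inl (.inr i)) (by simp)
  have h2 := fun i => h (.inr i) (by simp)
  simp [hQ, Cfsg.quadFormMinus, h1, h2]

theorem minus_exists_nonalt (hQ : ⇑Q = Cfsg.quadFormMinus k F a b) (hB : Nondeg Q) {s : ℕ}
    (hs : 1 ≤ s) (hsm : s ≤ k + 1) :
    ∃ g : Grp Q, orderOf g = 2 ∧ finrank F ↥(LinearMap.range (uO g)) = s ∧ ¬ AltO g := by
  obtain ⟨j, rfl⟩ : ∃ j, s = j + 1 := ⟨s - 1, by omega⟩
  let σ : Fin j → Fin k := Fin.castLE (by omega)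
  refine InvolutionOrth.exists_nonalt hB (ext₀ fun i => Sum.inl (Sum.inl (σ i)))
    (extz_injective (Sum.inl_injective.comp (Sum.inl_injective.comp (Fin.castLE_injective _))))
    (minus_singular hQ σ) (v := Sum.elim 0 ![1, 0]) ?_ fun z => ?_
  · simp [hQ, Cfsg.quadFormMinus]
  · rw [bq_apply, hQ, polar_minus]
    have h : ∀ r, (∀ i, (Sum.inl (Sum.inl (σ i)) : (Fin k ⊕ Fin k) ⊕ Fin 2) ≠ r) →
        ext₀ (fun i => (Sum.inl (Sum.inl (σ i)) : (Fin k ⊕ Fin k) ⊕ Fin 2)) z r = 0 := fun r hr =>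
      Function.extend_apply' _ _ _ (fun ⟨i, hi⟩ => hr i hi)
    have h1 := fun i => h (.inl (.inr i)) (by simp)
    have h2 := fun i => h (.inr i) (by simp)
    simp [h1, h2]

theorem minus_exists_alt (hQ : ⇑Q = Cfsg.quadFormMinus k F a b) (hB : Nondeg Q) {s : ℕ}
    (hs : 1 ≤ s) (hev : Even s) (hsm : s ≤ k) :
    ∃ g : Grp Q, orderOf g = 2 ∧ finrank F ↥(LinearMap.range (uO g)) = s ∧ AltO g := by
  obtain ⟨j, rfl⟩ := hev
  exact InvolutionOrth.exists_alt hB (by omega)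
    (ext₀ fun i => Sum.inl (Sum.inl (Fin.castLE hsm (finSumFinEquiv i))))
    (extz_injective (Sum.inl_injective.comp (Sum.inl_injective.comp ((Fin.castLE_injective hsm).comp
      finSumFinEquiv.injective))))
    (minus_singular hQ _)

theorem minus_rank_le (hQ : ⇑Q = Cfsg.quadFormMinus k F a b)
    (hab : ∀ z₁ z₂ : F, z₁ ^ 2 + a * z₁ * z₂ + b * z₂ ^ 2 = 0 → z₁ = 0 ∧ z₂ = 0) (hB : Nondeg Q)
    {g : Grp Q} (hg : orderOf g = 2) :
    finrank F ↥(LinearMap.range (uO g)) ≤ k + 1 ∧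
      (AltO g → finrank F ↥(LinearMap.range (uO g)) ≤ k) := by
  obtain ⟨-, h2, hA⟩ := rank_bounds hB hg
  have hd : finrank F ((Fin k ⊕ Fin k) ⊕ Fin 2 → F) = k + k + 2 := by simp
  refine ⟨by omega, fun h => ?_⟩
  by_contra hlt
  exact minus_no_half k hab hQ hB _ ⟨(hA h).2, by omega⟩

theorem minus_class_count (hQ : ⇑Q = Cfsg.quadFormMinus k F a b)
    (hab : ∀ z₁ z₂ : F, z₁ ^ 2 + a * z₁ * z₂ + b * z₂ ^ 2 = 0 → z₁ = 0 ∧ z₂ = 0) (hB : Nondeg Q) :
    Nat.card {C : ConjClasses (Grp Q) // ∃ g : Grp Q, ConjClasses.mk g = C ∧ orderOf g = 2} =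
      k + 1 + k / 2 := by
  rw [InvolutionClasses.card_classes (fun a => finrank F ↥(LinearMap.range (uO a))) AltO
    (Finset.Icc 1 (k + 1)) ((Finset.Icc 1 k).filter fun s : ℕ => Even s)
    (fun a b ha hb => isConj_iff_invariants hB (orderOf_two ha) (orderOf_two hb)),
    InvolutionClasses.card_evens, Nat.card_Icc, Nat.add_sub_cancel]
  · exact fun c hc hA => Finset.mem_filter.2 ⟨Finset.mem_Icc.2
      ⟨(rank_bounds hB hc).1, (minus_rank_le hQ hab hB hc).2 hA⟩, ((rank_bounds hB hc).2.2 hA).1⟩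
  · exact fun c hc _ => Finset.mem_Icc.2 ⟨(rank_bounds hB hc).1, (minus_rank_le hQ hab hB hc).1⟩
  · exact fun s hs => minus_exists_nonalt hQ hB (Finset.mem_Icc.1 hs).1 (Finset.mem_Icc.1 hs).2
  · intro s hs
    obtain ⟨hs, hev⟩ := Finset.mem_filter.1 hs
    exact minus_exists_alt hQ hB (Finset.mem_Icc.1 hs).1 hev (Finset.mem_Icc.1 hs).2

end minus

end CfsgLib.Classical.InvolutionOrthStd
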