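import Cfsg.Agent.Lib.Classical.SympSemisimple
import Cfsg.Agent.Lib.Classical.SympTrans
import Cfsg.Agent.Lib.Classical.SemisimpleClasses

/-!
Semisimple classes of the symplectic groups.
-/

set_option autoImplicit false
set_option linter.style.haveILetI false
set_option maxHeartbeats 800000

namespace CfsgLib.Classical.SympClasses

open Matrix Module CfsgLib.Classical.SympTrans

variable {F : Type*} [Field F] {m : ℕ}

local notation "V" => (Fin m ⊕ Fin m → F)
local notation "G" => Matrix.symplecticGroup (Fin m) F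

variable (F m) in
/-- The standard form as a bilinear form. -/
noncomputable def sb : LinearMap.BilinForm F V := Matrix.toBilin' (Matrix.J (Fin m) F)

theorem sb_apply (u v : V) : sb F m u v = Cfsg.sympForm m F u v := Matrix.toBilin'_apply' _ u v

variable (F m) in
theorem symp_sb : CfsgLib.SympCount.Symp (sb F m) := by
  refine ⟨fun u => by rw [sb_apply, f_self], fun v hv => funext fun i => ?_⟩
  rcases i with i | i
  · have := hv (Pi.single (.inr i) 1)
    rw [sb_apply, f_inr, neg_eq_zero] at this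
    exact this
  · have := hv (Pi.single (.inl i) 1)
    rwa [sb_apply, f_inl] at this

theorem app_isometry (A : G) (u v : V) :
    sb F m (Matrix.toLin' (A : Matrix (Fin m ⊕ Fin m) (Fin m ⊕ Fin m) F) u)
      (Matrix.toLin' (A : Matrix (Fin m ⊕ Fin m) (Fin m ⊕ Fin m) F) v) = sb F m u v := by
  rw [sb_apply, sb_apply]
  exact f_app A u v

theorem toLin'_pow_orderOf (A : G) :
    Matrix.toLin' (A : Matrix (Fin m ⊕ Fin m) (Fin m ⊕ Fin m) F) ^ orderOf A = 1 := by
  rw [← Matrix.toLin'_pow, ← SubmonoidClass.coe_pow, pow_orderOf_eq_one]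
  exact Matrix.toLin'_one

variable [Finite F] {p : ℕ} [hp : Fact p.Prime] [CharP F p]

theorem isConj_of_linear (A B : G) (hA : (orderOf A).Coprime p) (e : V ≃ₗ[F] V)
    (he : ∀ x, e (app A x) = app B (e x)) : IsConj A B := by
  set a := Matrix.toLin' (A : Matrix (Fin m ⊕ Fin m) (Fin m ⊕ Fin m) F)
  have hk : (orderOf A : F) ≠ 0 := fun h =>
    hp.out.coprime_iff_not_dvd.mp hA.symm ((CharP.cast_eq_zero_iff F p _).mp h)
  obtain ⟨y, hy, hyB⟩ := SympSemisimple.exists_centralizer_equiv (sb F m)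
    ((sb F m).compl₁₂ (e : V →ₗ[F] V) (e : V →ₗ[F] V)) (symp_sb F m)
    ⟨fun v => (symp_sb F m).alt (e v), fun v hv => e.map_eq_zero_iff.1 ((symp_sb F m).nd _ fun w => by
      have := hv (e.symm w)
      simpa using this)⟩
    a (app_isometry A) (fun u v => by
      show sb F m (e (a u)) (e (a v)) = sb F m (e u) (e v)
      rw [sb_apply, sb_apply]
      exact (congrArg₂ (Cfsg.sympForm m F) (he u) (he v)).trans (f_app B (e u) (e v)))
    (toLin'_pow_orderOf A) hk
  set g : V ≃ₗ[F] V := y.symm.trans e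
  have hg : ∀ u v, sb F m (g u) (g v) = sb F m u v := fun u v => by
    have := hyB (y.symm u) (y.symm v)
    rw [y.apply_symm_apply, y.apply_symm_apply] at this
    exact this.symm
  have hmem : LinearMap.toMatrix' (g : V →ₗ[F] V) ∈ G := mem_iff_f.2 fun u v => by
    rw [← Matrix.toLin'_apply, ← Matrix.toLin'_apply, Matrix.toLin'_toMatrix', ← sb_apply, ← sb_apply]
    exact hg u v
  let c : G := ⟨_, hmem⟩
  have happ : ∀ x, app c x = g x := fun x => by
    show LinearMap.toMatrix' (g : V →ₗ[F] V) *ᵥ x = _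
    rw [← Matrix.toLin'_apply, Matrix.toLin'_toMatrix']; rfl
  refine isConj_iff.mpr ⟨c, mul_inv_eq_iff_eq_mul.mpr (ext_app fun x => ?_)⟩
  rw [app_mul, app_mul, happ, happ]
  show e (y.symm (app A x)) = app B (e (y.symm x))
  rw [← he, show y.symm (app A x) = app A (y.symm x) from y.injective (by
    rw [y.apply_symm_apply]
    exact (congrArg (app A) (y.apply_symm_apply x)).symm.trans (hy (y.symm x)).symm)]

theorem isConj_iff_matrix (A B : G) (hA : (orderOf A).Coprime p) :
    IsConj A B ↔ IsConj (A : Matrix (Fin m ⊕ Fin m) (Fin m ⊕ Fin m) F)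
      (B : Matrix (Fin m ⊕ Fin m) (Fin m ⊕ Fin m) F) := by
  refine ⟨fun h => (Submonoid.subtype G).map_isConj h, ?_⟩
  rintro ⟨U, hU⟩
  set M : Matrix (Fin m ⊕ Fin m) (Fin m ⊕ Fin m) F := U.val
  set N : Matrix (Fin m ⊕ Fin m) (Fin m ⊕ Fin m) F := U.inv
  have h1 : ∀ x : V, N *ᵥ (M *ᵥ x) = x := fun x => by
    rw [mulVec_mulVec, show N * M = 1 from U.inv_val, one_mulVec]
  have h2 : ∀ x : V, M *ᵥ (N *ᵥ x) = x := fun x => by
    rw [mulVec_mulVec, show M * N = 1 from U.val_inv, one_mulVec]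
  refine isConj_of_linear (p := p) A B hA
    { Matrix.toLin' M with
      invFun := fun x => N *ᵥ x
      left_inv := h1
      right_inv := h2 } fun x => ?_
  show M *ᵥ ((A : Matrix (Fin m ⊕ Fin m) (Fin m ⊕ Fin m) F) *ᵥ x) = (B : Matrix (Fin m ⊕ Fin m) (Fin m ⊕ Fin m) F) *ᵥ (M *ᵥ x)
  rw [mulVec_mulVec, mulVec_mulVec, show M * _ = _ * M from hU.eq]

theorem isConj_of_charpoly_eq (A B : G) (hA : (orderOf A).Coprime p) (hB : (orderOf B).Coprime p)
    (hc : (A : Matrix (Fin m ⊕ Fin m) (Fin m ⊕ Fin m) F).charpoly =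
      (B : Matrix (Fin m ⊕ Fin m) (Fin m ⊕ Fin m) F).charpoly) : IsConj A B := by
  classical
  letI := Fintype.ofFinite F
  have hss : ∀ C : G, (orderOf C).Coprime p →
      Module.End.IsSemisimple (Matrix.toLin' (C : Matrix (Fin m ⊕ Fin m) (Fin m ⊕ Fin m) F)) := fun C hC =>
    SemisimpleDet.isSemisimple_of_pow p _ (k := orderOf C) (hp.out.coprime_iff_not_dvd.mp hC.symm)
      (toLin'_pow_orderOf C)
  obtain ⟨e, he⟩ := SemisimpleClasses.exists_conj_aux (m + m) V V _ _ (by simp) (hss A hA) (hss B hB)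
    (by rw [Matrix.charpoly_toLin', Matrix.charpoly_toLin', hc])
  exact isConj_of_linear (p := p) A B hA e he

end CfsgLib.Classical.SympClasses
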