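import Cfsg.Agent.Lib.Classical.InvolutionData
import Cfsg.Agent.Lib.Classical.InvolutionClasses
import Cfsg.Agent.Lib.Classical.SympClasses
import Cfsg.Agent.Lib.Classical.SympCount

/-!
Involutions of the symplectic groups in characteristic two.
-/

set_option autoImplicit false

namespace CfsgLib.Classical.InvolutionSymp

open Module Matrix
open CfsgLib.Classical.InvolutionData CfsgLib.Classical.SympTrans CfsgLib.Classical.SympClasses

universe u

variable {F : Type u} [Field F] {m : ℕ}

local notation "V" => (Fin m ⊕ Fin m → F)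
local notation "G" => Matrix.symplecticGroup (Fin m) F

/-- The linear map `g - 1`. -/
noncomputable def uS (g : G) : End F V :=
  Matrix.toLin' ((g : Matrix (Fin m ⊕ Fin m) (Fin m ⊕ Fin m) F) - 1)

theorem uS_apply (g : G) (x : V) : uS g x = app g x - x := by
  rw [uS, toLin'_apply, sub_mulVec, one_mulVec]; rfl

theorem rank_eq (g : G) :
    ((g : Matrix (Fin m ⊕ Fin m) (Fin m ⊕ Fin m) F) - 1).rank =
      finrank F ↥(LinearMap.range (uS g)) := rfl

theorem sb_app (g : G) (x y : V) : sb F m (app g x) (app g y) = sb F m x y := by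
  rw [sb_apply, sb_apply, f_app]

theorem nil [CharP F 2] {g : G} (h2 : g * g = 1) : Nil (sb F m) (uS g) := by
  have e : uS g = Matrix.toLin' (g : Matrix (Fin m ⊕ Fin m) (Fin m ⊕ Fin m) F) - 1 := by
    rw [uS, map_sub, toLin'_one]; rfl
  rw [e]
  refine nil_of_invol (fun x y => ?_) fun x => ?_
  · simp only [toLin'_apply]; exact sb_app g x y
  · simp only [toLin'_apply]
    show app g (app g x) = x
    rw [← app_mul, h2, app_one]

/-- The form on the image of `g - 1` is alternating. -/
def AltS (g : G) : Prop := Alt (sb F m) (uS g)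

theorem altS_iff (g : G) : AltS g ↔ ∀ v, Cfsg.sympForm m F v (app g v) = 0 := by
  refine forall_congr' fun v => ?_
  rw [uS_apply, map_sub, sb_apply, sb_apply, f_self, sub_zero]

theorem exists_elem (e : V ≃ₗ[F] V) (he : ∀ x y, sb F m (e x) (e y) = sb F m x y) :
    ∃ g : G, ∀ x, app g x = e x := by
  refine ⟨⟨LinearMap.toMatrix' e.toLinearMap, mem_iff_f.2 fun x y => ?_⟩, fun x => ?_⟩
  · simp only [← toLin'_apply, toLin'_toMatrix', LinearEquiv.coe_coe]
    rw [← sb_apply, ← sb_apply, he]
  · show (LinearMap.toMatrix' e.toLinearMap) *ᵥ x = e x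
    rw [← toLin'_apply, toLin'_toMatrix']; rfl

/-- An element as a linear equivalence. -/
def equivOf (g : G) : V ≃ₗ[F] V where
  toFun := app g
  map_add' := app_add g
  map_smul' := app_smul g
  invFun := app g⁻¹
  left_inv := app_inv g
  right_inv := app_inv' g

theorem intertwines {a b c : G} (h : c * a * c⁻¹ = b) (x : V) :
    equivOf c (uS a x) = uS b (equivOf c x) := by
  show app c (uS a x) = uS b (app c x)
  rw [uS_apply, uS_apply, app_sub, ← h, app_mul, app_mul, app_inv]

theorem invariants_of_conj {a b : G} (h : IsConj a b) :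
    finrank F ↥(LinearMap.range (uS a)) = finrank F ↥(LinearMap.range (uS b)) ∧
      (AltS a ↔ AltS b) := by
  obtain ⟨c, hc⟩ := isConj_iff.1 h
  exact ⟨rank_eq_of_conj (equivOf c) (intertwines hc),
    alt_iff_of_conj (equivOf c) (sb_app c) (intertwines hc)⟩

variable [Finite F] [CharP F 2]

theorem isConj_iff_invariants {a b : G} (ha : a * a = 1) (hb : b * b = 1) :
    IsConj a b ↔ finrank F ↥(LinearMap.range (uS a)) = finrank F ↥(LinearMap.range (uS b)) ∧
      (AltS a ↔ AltS b) := by
  refine ⟨invariants_of_conj, fun ⟨hr, hA⟩ => ?_⟩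
  obtain ⟨e, he, heu⟩ := exists_conj (symp_sb F m) (nil ha) (nil hb) hr hA
  obtain ⟨c, hc⟩ := exists_elem e he
  refine isConj_iff.2 ⟨c, mul_inv_eq_iff_eq_mul.2 (ext_app fun x => ?_)⟩
  have := heu x
  rw [uS_apply, uS_apply, map_sub, sub_left_inj, ← hc, ← hc] at this
  rw [app_mul, app_mul, this]

theorem zero_count_iff {a b : G} :
    ((∀ v, Cfsg.sympForm m F v (app a v) = 0) ↔ ∀ v, Cfsg.sympForm m F v (app b v) = 0) ↔
      ((AltS a ↔ AltS b)) := by
  rw [altS_iff, altS_iff]

omit [CharP F 2] in
theorem all_of_card {p : V → Prop} (h : Nat.card {v // p v} = Nat.card V) (v : V) : p v := by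
  have hbij := (Nat.bijective_iff_injective_and_card (Subtype.val : {v // p v} → V)).2
    ⟨Subtype.val_injective, h⟩
  obtain ⟨⟨w, hw⟩, rfl⟩ := hbij.2 v
  exact hw

theorem conj_iff_rank_count {a b : G} (ha : a * a = 1) (hb : b * b = 1) :
    IsConj a b ↔ (((a : Matrix (Fin m ⊕ Fin m) (Fin m ⊕ Fin m) F) - 1).rank =
        ((b : Matrix (Fin m ⊕ Fin m) (Fin m ⊕ Fin m) F) - 1).rank ∧
      (Even ((a : Matrix (Fin m ⊕ Fin m) (Fin m ⊕ Fin m) F) - 1).rank →
        Nat.card {v : V // Cfsg.sympForm m F v (app a v) = 0} =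
          Nat.card {v : V // Cfsg.sympForm m F v (app b v) = 0})) := by
  rw [rank_eq, rank_eq]
  constructor
  · intro h
    refine ⟨(invariants_of_conj h).1, fun _ => ?_⟩
    obtain ⟨c, hc⟩ := isConj_iff.1 h
    refine Nat.card_congr ((equivOf c).toEquiv.subtypeEquiv fun v => ?_)
    show _ ↔ Cfsg.sympForm m F (app c v) (app b (app c v)) = 0
    rw [← hc, app_mul, app_mul, app_inv, f_app]
  · rintro ⟨hr, hc⟩
    refine (isConj_iff_invariants ha hb).2 ⟨hr, ?_⟩
    by_cases hev : Even (finrank F ↥(LinearMap.range (uS a)))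
    · rw [altS_iff, altS_iff]
      have total : ∀ g : G, (∀ v, Cfsg.sympForm m F v (app g v) = 0) →
          Nat.card {v : V // Cfsg.sympForm m F v (app g v) = 0} = Nat.card V := fun g hg =>
        Nat.card_congr (Equiv.subtypeUnivEquiv hg)
      exact ⟨fun h => all_of_card ((hc hev).symm.trans (total a h)),
        fun h => all_of_card ((hc hev).trans (total b h))⟩
    · exact iff_of_false (fun h => hev (even_rank_of_alt (symp_sb F m) (nil ha) h))
        (fun h => hev (hr ▸ even_rank_of_alt (symp_sb F m) (nil hb) h))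

omit [Finite F] [CharP F 2] in
/-- The coordinates `x` of a standard Lagrangian. -/
noncomputable def emb {κ : Type*} (σ : κ → Fin m) : (κ → F) →ₗ[F] V :=
  LinearMap.pi (Sum.elim (fun i => LinearMap.proj i ∘ₗ Function.ExtendByZero.linearMap F σ) 0)

omit [Finite F] [CharP F 2] in
theorem emb_inl {κ : Type*} (σ : κ → Fin m) (z : κ → F) (i : Fin m) :
    emb σ z (.inl i) = Function.extend σ z 0 i := rfl

omit [Finite F] [CharP F 2] in
theorem emb_inr {κ : Type*} (σ : κ → Fin m) (z : κ → F) (i : Fin m) : emb σ z (.inr i) = 0 := rfl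

omit [Finite F] [CharP F 2] in
theorem emb_injective {κ : Type*} {σ : κ → Fin m} (hσ : Function.Injective σ) :
    Function.Injective (emb (F := F) σ) := fun z z' h => funext fun k => by
  simpa [emb_inl, hσ.extend_apply] using congrFun h (.inl (σ k))

theorem exists_of_form {κ : Type} [Fintype κ] {σ : κ → Fin m} (hσ : Function.Injective σ)
    {φ : LinearMap.BilinForm F (κ → F)} (hφ : Sym φ) (hκ : 0 < Fintype.card κ) :
    ∃ a : G, orderOf a = 2 ∧ finrank F ↥(LinearMap.range (uS a)) = Fintype.card κ ∧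
      (AltS a ↔ ∀ z, φ z z = 0) := by
  obtain ⟨w, hw, hr, hA, -⟩ := exists_nil (symp_sb F m) (emb σ) (emb_injective hσ)
    (fun x y => by rw [sb_apply, f_apply]; simp [emb_inr]) hφ
  rw [finrank_pi] at hr
  let f : End F V := 1 + w
  have hff : ∀ x, f (f x) = x := fun x => by
    simp only [f, LinearMap.add_apply, End.one_apply, map_add, hw.sq, add_zero]
    rw [add_assoc, InvolutionData.add_self (F := F) (w x), add_zero]
  let e : V ≃ₗ[F] V := LinearEquiv.ofLinear f f (LinearMap.ext hff) (LinearMap.ext hff)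
  obtain ⟨g, hg⟩ := exists_elem e fun x y => hw.isometry x y
  have hu : uS g = w := LinearMap.ext fun x => by
    rw [uS_apply, hg]; show x + w x - x = w x; rw [add_sub_cancel_left]
  have h2 : g * g = 1 := ext_app fun x => by
    rw [app_mul, app_one, hg, hg]; exact hff x
  refine ⟨g, orderOf_eq_prime (by rw [sq, h2]) fun e1 => ?_, by rw [hu, hr], by rw [AltS, hu, hA]⟩
  have : w = 0 := by
    rw [← hu, e1]; exact LinearMap.ext fun x => by rw [uS_apply, app_one, sub_self]; rfl
  rw [this, LinearMap.range_zero, finrank_bot] at hr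
  omega

omit [Finite F] [CharP F 2] in
theorem dot_sym (κ : Type) [Fintype κ] [DecidableEq κ] :
    Sym (Matrix.toBilin' (1 : Matrix κ κ F)) where
  symm x y := by simp [toBilin'_apply', dotProduct_comm]
  nd x hx := dotProduct_eq_zero x fun y => by simpa [toBilin'_apply'] using hx y

theorem class_count :
    Nat.card {C : ConjClasses G // ∃ g : G, ConjClasses.mk g = C ∧ orderOf g = 2} = m + m / 2 := by
  have h2 : ∀ {a : G}, orderOf a = 2 → a * a = 1 := fun {a} ha => by
    rw [← sq, ← ha, pow_orderOf_eq_one]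
  have hle : ∀ {a : G}, orderOf a = 2 →
      1 ≤ finrank F ↥(LinearMap.range (uS a)) ∧ finrank F ↥(LinearMap.range (uS a)) ≤ m := by
    intro a ha
    refine ⟨Nat.one_le_iff_ne_zero.2 fun h0 => ?_, ?_⟩
    · have : a = 1 := ext_app fun x => by
        have := LinearMap.congr_fun (LinearMap.range_eq_bot.1 (Submodule.finrank_eq_zero.1 h0)) x
        rw [uS_apply, LinearMap.zero_apply, sub_eq_zero] at this
        rw [this, app_one]
      rw [this, orderOf_one] at ha
      omega
    · have := (nil (h2 ha)).two_mul_rank_le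
      rw [finrank_pi, Fintype.card_sum, Fintype.card_fin] at this
      omega
  rw [InvolutionClasses.card_classes (fun a => finrank F ↥(LinearMap.range (uS a))) AltS
    (Finset.Icc 1 m) ((Finset.Icc 1 m).filter fun s => Even s)
    (fun a b ha hb => isConj_iff_invariants (h2 ha) (h2 hb)), InvolutionClasses.card_evens,
    Nat.card_Icc, Nat.add_sub_cancel]
  · exact fun a ha hA => Finset.mem_filter.2
      ⟨Finset.mem_Icc.2 (hle ha), even_rank_of_alt (symp_sb F m) (nil (h2 ha)) hA⟩
  · exact fun a ha _ => Finset.mem_Icc.2 (hle ha)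
  · intro s hs
    rw [Finset.mem_Icc] at hs
    obtain ⟨a, ha, hr, hA⟩ := exists_of_form (F := F) (Fin.castLE_injective hs.2) (dot_sym (Fin s))
      (by simp; omega)
    refine ⟨a, ha, by simpa using hr, fun h => ?_⟩
    have := hA.1 h (Pi.single ⟨0, by omega⟩ 1)
    simp [toBilin'_apply'] at this
  · intro s hs
    obtain ⟨hs, k, rfl⟩ := Finset.mem_filter.1 hs |>.imp_right id
    rw [Finset.mem_Icc] at hs
    obtain ⟨a, ha, hr, hA⟩ := exists_of_form (F := F)
      (σ := fun i => Fin.castLE hs.2 (finSumFinEquiv i))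
      ((Fin.castLE_injective hs.2).comp finSumFinEquiv.injective)
      ⟨symm_of_alt (CfsgLib.SympCount.stdForm_symp k).alt, (CfsgLib.SympCount.stdForm_symp k).nd⟩
      (by simp; omega)
    exact ⟨a, ha, by simpa using hr, hA.2 (CfsgLib.SympCount.stdForm_symp k).alt⟩

end CfsgLib.Classical.InvolutionSymp
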