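import Cfsg.Agent.Lib.Classical.Forms
import Cfsg.Agent.Lib.Classical.SympTrans
import Cfsg.Agent.Lib.Classical.UnitaryOrder

set_option autoImplicit false

/-!
The stabiliser of a nondegenerate subspace in an isometry group is the product of the two isometry groups.
-/

namespace CfsgLib.Classical.IsoProd

open Matrix

variable {F : Type*} [Field F] {V W : Type*} [AddCommGroup V] [Module F V] [AddCommGroup W] [Module F W]

/-- The linear automorphisms preserving a function of two variables. -/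
def Iso (ω : V → V → F) : Subgroup (V ≃ₗ[F] V) where
  carrier := {g | ∀ u v, ω (g u) (g v) = ω u v}
  one_mem' _ _ := rfl
  mul_mem' {a b} ha hb u v := (ha (b u) (b v)).trans (hb u v)
  inv_mem' {a} ha u v := by
    have h := ha (a⁻¹ u) (a⁻¹ v)
    have e : ∀ x, a (a⁻¹ x) = x := fun x => a.apply_symm_apply x
    rw [e, e] at h
    exact h.symm

/-- Transport along an isometry. -/
def congr {ω : V → V → F} {ω' : W → W → F} (e : V ≃ₗ[F] W) (he : ∀ u v, ω' (e u) (e v) = ω u v) :
    Iso ω ≃* Iso ω' where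
  toFun g := ⟨e.symm.trans (g.1.trans e), fun u v => by
    simp only [LinearEquiv.trans_apply, he, g.2 (e.symm u) (e.symm v)]
    rw [← he, e.apply_symm_apply, e.apply_symm_apply]⟩
  invFun g := ⟨e.trans (g.1.trans e.symm), fun u v => by
    simp only [LinearEquiv.trans_apply]
    rw [← he, e.apply_symm_apply, e.apply_symm_apply, g.2, he]⟩
  left_inv g := Subtype.ext (LinearEquiv.ext fun x => by simp)
  right_inv g := Subtype.ext (LinearEquiv.ext fun x => by simp)
  map_mul' g h := Subtype.ext (LinearEquiv.ext fun x => by simp)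

/-- The stabiliser of a subspace inside the isometry group. -/
def stab (ω : V → V → F) (U : Submodule F V) : Subgroup (Iso ω) where
  carrier := {g | ∀ v, v ∈ U ↔ g.1 v ∈ U}
  one_mem' _ := Iff.rfl
  mul_mem' {a b} ha hb v := (hb v).trans (ha (b.1 v))
  inv_mem' {a} ha v := by
    have h := ha ((a⁻¹ : Iso ω).1 v)
    have e : a.1 ((a⁻¹ : Iso ω).1 v) = v := a.1.apply_symm_apply v
    rw [e] at h
    exact h.symm

/-- Restriction of a linear automorphism to an invariant subspace. -/
noncomputable def restr (g : V ≃ₗ[F] V) (U : Submodule F V) (h : ∀ v, v ∈ U ↔ g v ∈ U) : U ≃ₗ[F] U :=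
  LinearEquiv.ofBijective (g.toLinearMap.restrict fun v hv => (h v).1 hv)
    ⟨fun a b e => Subtype.ext (g.injective (congrArg Subtype.val e)),
      fun b => ⟨⟨g.symm b, (h _).2 (by rw [g.apply_symm_apply]; exact b.2)⟩,
        Subtype.ext (g.apply_symm_apply _)⟩⟩

theorem restr_val (g : V ≃ₗ[F] V) (U : Submodule F V) (h : ∀ v, v ∈ U ↔ g v ∈ U) (a : U) :
    ((restr g U h a : U) : V) = g a := rfl

theorem restr_mul (g h : V ≃ₗ[F] V) (U : Submodule F V) (hg : ∀ v, v ∈ U ↔ g v ∈ U)
    (hh : ∀ v, v ∈ U ↔ h v ∈ U) (hgh : ∀ v, v ∈ U ↔ (g * h) v ∈ U) :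
    restr (g * h) U hgh = restr g U hg * restr h U hh :=
  LinearEquiv.ext fun _ => Subtype.ext rfl

/-- Restriction as a homomorphism of isometry groups. -/
noncomputable def restrHom (ω : V → V → F) (U X : Submodule F V)
    (h : ∀ g : stab ω U, ∀ v, v ∈ X ↔ g.1.1 v ∈ X) : stab ω U →* Iso (fun a b : X => ω a b) :=
  MonoidHom.mk' (fun g => ⟨restr g.1.1 X (h g), fun a b => g.1.2 a b⟩)
    fun g k => Subtype.ext (restr_mul g.1.1 k.1.1 X (h g) (h k) (h (g * k)))

theorem restrHom_val (ω : V → V → F) (U X : Submodule F V)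
    (h : ∀ g : stab ω U, ∀ v, v ∈ X ↔ g.1.1 v ∈ X) (g : stab ω U) :
    (restrHom ω U X h g).1 = restr g.1.1 X (h g) := rfl

/-- The stabiliser is a product. -/
theorem nonempty_prod (ω : V → V → F) (U U' : Submodule F V) (hc : IsCompl U U')
    (hperp : ∀ v, v ∈ U' ↔ ∀ u ∈ U, ω u v = 0)
    (hsplit : ∀ a ∈ U, ∀ b ∈ U', ∀ c ∈ U, ∀ d ∈ U', ω (a + b) (c + d) = ω a c + ω b d) :
    Nonempty (stab ω U ≃* Iso (fun a b : U => ω a b) × Iso (fun a b : U' => ω a b)) := by
  have hU' : ∀ g : stab ω U, ∀ v, v ∈ U' ↔ g.1.1 v ∈ U' := by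
    intro g v
    rw [hperp, hperp]
    constructor
    · intro h u hu
      have e := g.1.2 (g.1.1.symm u) v
      rw [g.1.1.apply_symm_apply] at e
      rw [e]
      exact h _ ((g.2 _).2 (by rw [g.1.1.apply_symm_apply]; exact hu))
    · intro h u hu
      rw [← g.1.2 u v]
      exact h _ ((g.2 u).1 hu)
  have hU : ∀ g : stab ω U, ∀ v, v ∈ U ↔ g.1.1 v ∈ U := fun g => g.2
  let e := Submodule.prodEquivOfIsCompl U U' hc
  let φ := (restrHom ω U U hU).prod (restrHom ω U U' hU')
  have hinj : Function.Injective φ := by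
    intro g h hgh
    have h1 : restrHom ω U U hU g = restrHom ω U U hU h := congrArg Prod.fst hgh
    have h2 : restrHom ω U U' hU' g = restrHom ω U U' hU' h := congrArg Prod.snd hgh
    refine Subtype.ext (Subtype.ext (LinearEquiv.ext fun v => ?_))
    obtain ⟨⟨a, b⟩, rfl⟩ := e.surjective v
    have e1 := congrArg (fun f => ((f.1 a : U) : V)) h1
    have e2 := congrArg (fun f => ((f.1 b : U') : V)) h2
    simp only [restrHom_val, restr_val] at e1 e2
    simp only [e, Submodule.coe_prodEquivOfIsCompl', map_add, e1, e2]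
  refine ⟨MulEquiv.ofBijective φ ⟨hinj, fun x => ?_⟩⟩
  let f : V ≃ₗ[F] V := e.symm.trans ((x.1.1.prodCongr x.2.1).trans e)
  have hf : ∀ (a : U) (b : U'), f ((a : V) + b) = (x.1.1 a : V) + (x.2.1 b : V) := by
    intro a b
    rw [show (a : V) + b = e (a, b) from (Submodule.coe_prodEquivOfIsCompl' U U' hc (a, b)).symm]
    simp only [f, LinearEquiv.trans_apply, LinearEquiv.symm_apply_apply]
    simp only [LinearEquiv.prodCongr_apply, e, Submodule.coe_prodEquivOfIsCompl']
  have hiso : f ∈ Iso ω := by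
    intro u v
    obtain ⟨⟨a, b⟩, rfl⟩ := e.surjective u
    obtain ⟨⟨c, d⟩, rfl⟩ := e.surjective v
    simp only [e, Submodule.coe_prodEquivOfIsCompl']
    rw [hf, hf, hsplit _ (x.1.1 a).2 _ (x.2.1 b).2 _ (x.1.1 c).2 _ (x.2.1 d).2,
      hsplit _ a.2 _ b.2 _ c.2 _ d.2]
    exact congrArg₂ (· + ·) (x.1.2 a c) (x.2.2 b d)
  have hst : (⟨f, hiso⟩ : Iso ω) ∈ stab ω U := by
    intro v
    obtain ⟨⟨a, b⟩, rfl⟩ := e.surjective v
    show _ ↔ f _ ∈ U
    simp only [e, Submodule.coe_prodEquivOfIsCompl']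
    rw [hf, U.add_mem_iff_right a.2, U.add_mem_iff_right (x.1.1 a).2]
    have key : ∀ z : U', (z : V) ∈ U ↔ z = 0 := fun z =>
      ⟨fun h => Subtype.ext ((Submodule.mem_bot F).1 (hc.inf_eq_bot ▸ ⟨h, z.2⟩)),
        fun h => by rw [h]; exact U.zero_mem⟩
    rw [key, key]
    exact (LinearEquiv.map_eq_zero_iff _).symm
  refine ⟨⟨⟨f, hiso⟩, hst⟩, Prod.ext (Subtype.ext (LinearEquiv.ext fun a => Subtype.ext ?_))
    (Subtype.ext (LinearEquiv.ext fun b => Subtype.ext ?_))⟩
  · show ((restr f U (hU ⟨⟨f, hiso⟩, hst⟩) a : U) : V) = _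
    rw [restr_val]
    simpa using hf a 0
  · show ((restr f U' (hU' ⟨⟨f, hiso⟩, hst⟩) b : U') : V) = _
    rw [restr_val]
    simpa using hf 0 b

section Matrices

variable {ι : Type} [Fintype ι] [DecidableEq ι] {H : Type*} [Group H]

/-- A group of matrices as linear automorphisms. -/
noncomputable def toLE (φ : H →* Matrix ι ι F) : H →* ((ι → F) ≃ₗ[F] (ι → F)) where
  toFun h :=
    { Matrix.mulVecLin (φ h) with
      invFun := fun v => φ h⁻¹ *ᵥ v
      left_inv := fun v => by simp [Matrix.mulVec_mulVec, ← map_mul]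
      right_inv := fun v => by simp [Matrix.mulVec_mulVec, ← map_mul] }
  map_one' := LinearEquiv.ext fun v => by simp
  map_mul' a b := LinearEquiv.ext fun v => by simp [Matrix.mulVec_mulVec]

theorem toLE_apply (φ : H →* Matrix ι ι F) (h : H) (v : ι → F) : toLE φ h v = φ h *ᵥ v := rfl

theorem nonempty_matrix (φ : H →* Matrix ι ι F) (hφ : Function.Injective φ)
    (ω : (ι → F) → (ι → F) → F) (hmem : ∀ h u v, ω (φ h *ᵥ u) (φ h *ᵥ v) = ω u v)
    (hsurj : ∀ M : Matrix ι ι F, IsUnit M → (∀ u v, ω (M *ᵥ u) (M *ᵥ v) = ω u v) → ∃ h, φ h = M) :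
    ∃ E : H ≃* Iso ω, ∀ h v, (E h).1 v = φ h *ᵥ v := by
  refine ⟨MulEquiv.ofBijective ((toLE φ).codRestrict (Iso ω) hmem) ⟨?_, ?_⟩, fun h v => rfl⟩
  · intro a b e
    refine hφ (Matrix.ext_of_mulVec_single fun j => ?_)
    exact LinearEquiv.congr_fun (congrArg Subtype.val e) (Pi.single j 1)
  · rintro ⟨g, hg⟩
    have hM : ∀ v, LinearMap.toMatrix' g.toLinearMap *ᵥ v = g v := fun v => by
      rw [← Matrix.toLin'_apply, Matrix.toLin'_toMatrix']
      rfl
    obtain ⟨h, hh⟩ := hsurj (LinearMap.toMatrix' g.toLinearMap)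
      (by
        rw [Matrix.isUnit_iff_isUnit_det, LinearMap.det_toMatrix']
        exact LinearEquiv.isUnit_det' g)
      (fun u v => by rw [hM, hM]; exact hg u v)
    exact ⟨h, Subtype.ext (LinearEquiv.ext fun v => by
      show φ h *ᵥ v = g v
      rw [hh, hM])⟩

theorem nonempty_stab (φ : H →* Matrix ι ι F) {ω : (ι → F) → (ι → F) → F} (E : H ≃* Iso ω)
    (hE : ∀ h v, (E h).1 v = φ h *ᵥ v) (U : Submodule F (ι → F)) :
    Nonempty (Cfsg.stabilizing φ (U : Set (ι → F)) ≃* stab ω U) := by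
  have e : (Cfsg.stabilizing φ (U : Set (ι → F))).map E.toMonoidHom = stab ω U := by
    ext g
    rw [Subgroup.mem_map_equiv]
    have h := hE (E.symm g)
    rw [E.apply_symm_apply] at h
    refine forall_congr' fun v => ?_
    rw [h]
    rfl
  exact ⟨(Subgroup.equivMapOfInjective _ E.toMonoidHom E.injective).trans (MulEquiv.subgroupCongr e)⟩

end Matrices

/-! ### Symplectic -/

theorem sp_equiv (m : ℕ) :
    ∃ E : Matrix.symplecticGroup (Fin m) F ≃* Iso (Cfsg.sympForm m F),
      ∀ h v, (E h).1 v = Cfsg.spToMat m F h *ᵥ v :=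
  nonempty_matrix (Cfsg.spToMat m F) Subtype.val_injective _
    (fun h => CfsgLib.Classical.SympTrans.mem_iff_f.1 h.2)
    (fun M _ hM => ⟨⟨M, CfsgLib.Classical.SympTrans.mem_iff_f.2 hM⟩, rfl⟩)

/-- The symplectic form as a bilinear form. -/
noncomputable def sympBilin (m : ℕ) : LinearMap.BilinForm F (Fin m ⊕ Fin m → F) :=
  Matrix.toLinearMap₂' F (Matrix.J (Fin m) F)

theorem sympBilin_apply (m : ℕ) (u v : Fin m ⊕ Fin m → F) : sympBilin m u v = Cfsg.sympForm m F u v :=
  Matrix.toLinearMap₂'_apply' _ u v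

theorem sympBilin_alt (m : ℕ) : (sympBilin (F := F) m).IsAlt := fun v => by
  rw [sympBilin_apply, Cfsg.sympForm]
  simp [Matrix.J, dotProduct, Fintype.sum_sum_type, Matrix.fromBlocks_mulVec, Matrix.neg_mulVec, mul_comm]

theorem sp_part [FiniteDimensional F V] (B : LinearMap.BilinForm F V) (hA : B.IsAlt)
    (hB : ∀ v, (∀ w, B v w = 0) → v = 0) (k : ℕ) (hk : Module.finrank F V = 2 * k) :
    Nonempty (Iso (fun a b : V => B a b) ≃* Matrix.symplecticGroup (Fin k) F) := by
  obtain ⟨m, b, h1, h2, h3⟩ := CfsgLib.Forms.exists_symplectic_basis_nondeg B hA hB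
  have hm : m = k := by
    have := Module.finrank_eq_card_basis b
    simp at this
    omega
  subst hm
  let b' := b.reindex (Equiv.sumComm (Fin m) (Fin m))
  let e : (Fin m ⊕ Fin m → F) ≃ₗ[F] V := b'.equivFun.symm
  have he : B.compl₁₂ e.toLinearMap e.toLinearMap = sympBilin m := by
    refine LinearMap.ext_basis (Pi.basisFun F _) (Pi.basisFun F _) fun i j => ?_
    have hei : ∀ i, e (Pi.single i 1) = b' i := fun i => by
      simp [e, Module.Basis.equivFun_symm_apply, Pi.single_apply]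
    simp only [LinearMap.compl₁₂_apply, LinearEquiv.coe_coe, Pi.basisFun_apply, hei, sympBilin_apply,
      Cfsg.sympForm]
    have h21 : ∀ i j, B (b (.inr i)) (b (.inl j)) = -(if j = i then 1 else 0) := fun i j => by
      rw [← LinearMap.IsAlt.neg hA (b (.inl j)) (b (.inr i)), h1]
    rcases i with i | i <;> rcases j with j | j <;>
      simp [b', Matrix.J, h1, h2, h3, h21, Matrix.mulVec_single, Pi.single_apply, Matrix.one_apply,
        eq_comm]
  obtain ⟨E, -⟩ := sp_equiv (F := F) m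
  exact ⟨((congr (ω := Cfsg.sympForm m F) (ω' := fun a b : V => B a b) e (fun u v => by
    rw [← sympBilin_apply, ← he]; rfl)).symm).trans E.symm⟩

theorem sp_stab_equiv_prod (m k : ℕ) (hk : k ≤ m) (U : Submodule F (Fin m ⊕ Fin m → F))
    (hUk : Module.finrank F U = 2 * k)
    (hU : ∀ u ∈ U, (∀ v ∈ U, Cfsg.sympForm m F u v = 0) → u = 0) :
    Nonempty (↥(Cfsg.stabilizing (Cfsg.spToMat m F) (U : Set (Fin m ⊕ Fin m → F))) ≃*
      Matrix.symplecticGroup (Fin k) F × Matrix.symplecticGroup (Fin (m - k)) F) := by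
  let B := sympBilin (F := F) m
  have hA : B.IsAlt := sympBilin_alt m
  have hB : ∀ v, (∀ w, B v w = 0) → v = 0 := fun v h =>
    CfsgLib.Classical.SympTrans.eq_zero_of_f v fun w => by rw [← sympBilin_apply]; exact h w
  let U' := B.orthogonal U
  have hrU : (B.restrict U).Nondegenerate := by
    have hs : ∀ x : U, (∀ y : U, B.restrict U x y = 0) → x = 0 := fun x h =>
      Subtype.ext (hU x x.2 fun v hv => by rw [← sympBilin_apply]; exact h ⟨v, hv⟩)
    exact ⟨hs, fun y h => hs y fun x => hA.isRefl _ _ (h x)⟩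
  have hc : IsCompl U U' :=
    LinearMap.BilinForm.isCompl_orthogonal_of_restrict_nondegenerate hA.isRefl hrU
  obtain ⟨p⟩ := nonempty_prod (Cfsg.sympForm m F) U U' hc
    (fun v => ⟨fun h u hu => by rw [← sympBilin_apply]; exact h u hu,
      fun h u hu => by
        show B u v = 0
        rw [sympBilin_apply]; exact h u hu⟩)
    (fun a ha b hb c hc d hd => by
      have e1 : sympBilin m a d = 0 := hd a ha
      have e2 : sympBilin m b c = 0 := hA.isRefl _ _ (hb c hc)
      simp only [← sympBilin_apply, map_add, LinearMap.add_apply, e1, e2, add_zero, zero_add])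
  have hd : Module.finrank F U' = 2 * (m - k) := by
    have := Submodule.finrank_add_eq_of_isCompl hc
    rw [hUk, Module.finrank_pi] at this
    simp at this
    omega
  have hBU' : ∀ v : U', (∀ w : U', B v w = 0) → v = 0 := by
    intro v h
    refine Subtype.ext (hB v fun w => ?_)
    obtain ⟨a, ha, b, hb, rfl⟩ := Submodule.mem_sup.1 (hc.sup_eq_top ▸ Submodule.mem_top (x := w))
    rw [map_add, h ⟨b, hb⟩, add_zero]
    exact hA.isRefl _ _ (v.2 a ha)
  obtain ⟨e1⟩ := sp_part (B.restrict U) (fun x => hA x)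
    (fun v h => hrU.1 v h) k hUk
  obtain ⟨e2⟩ := sp_part (B.restrict U') (fun x => hA x) hBU' (m - k) hd
  obtain ⟨E, hE⟩ := sp_equiv (F := F) m
  obtain ⟨s⟩ := nonempty_stab (Cfsg.spToMat m F) E hE U
  have i1 : Iso (fun a b : U => Cfsg.sympForm m F a b) = Iso (fun a b : U => B.restrict U a b) := by
    congr 1; funext a b; exact (sympBilin_apply m _ _).symm
  have i2 : Iso (fun a b : U' => Cfsg.sympForm m F a b) = Iso (fun a b : U' => B.restrict U' a b) := by
    congr 1; funext a b; exact (sympBilin_apply m _ _).symm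
  exact ⟨(s.trans p).trans (((MulEquiv.subgroupCongr i1).trans e1).prodCongr
    ((MulEquiv.subgroupCongr i2).trans e2))⟩

/-! ### Unitary -/

section Unitary

variable [Finite F] {q : ℕ}

open CfsgLib.ClassicalAut (Unitary.Conj Unitary.herm_apply)

/-- The Hermitian form, semilinear in the first variable: `(v, u) ↦ h(u, v)`. -/
noncomputable def hermSesq (K : Unitary.Conj F q) (n : ℕ) :
    (Fin n → F) →ₛₗ[K.bar.toRingHom] (Fin n → F) →ₗ[F] F :=
  LinearMap.mk₂'ₛₗ K.bar.toRingHom (RingHom.id F) (fun v u => Cfsg.hermForm n F q u v)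
    (fun a b u => by simp only [Unitary.herm_apply K, Pi.add_apply, map_add, mul_add, Finset.sum_add_distrib])
    (fun c a u => by
      simp only [Unitary.herm_apply K, Pi.smul_apply, smul_eq_mul, map_mul, Finset.mul_sum]
      exact Finset.sum_congr rfl fun i _ => mul_left_comm _ _ _)
    (fun v a b => by simp only [Unitary.herm_apply K, Pi.add_apply, add_mul, Finset.sum_add_distrib])
    (fun c v a => by
      simp only [Unitary.herm_apply K, Pi.smul_apply, smul_eq_mul, Finset.mul_sum, mul_assoc,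
        RingHom.id_apply])

theorem hermSesq_apply (K : Unitary.Conj F q) (n : ℕ) (u v : Fin n → F) :
    hermSesq K n v u = Cfsg.hermForm n F q u v := rfl

theorem hermSesq_swap (K : Unitary.Conj F q) (n : ℕ) (u v : Fin n → F) :
    K.bar (hermSesq K n v u) = hermSesq K n u v := by
  simp only [hermSesq_apply, Unitary.herm_apply K, map_sum, map_mul, K.bar_bar]
  exact Finset.sum_congr rfl fun i _ => mul_comm _ _

theorem gu_equiv (n : ℕ) :
    ∃ E : Cfsg.GU n F q ≃* Iso (Cfsg.hermForm n F q),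
      ∀ h v, (E h).1 v = ((Cfsg.glToMat (Fin n) F).comp (Cfsg.GU n F q).subtype) h *ᵥ v :=
  nonempty_matrix ((Cfsg.glToMat (Fin n) F).comp (Cfsg.GU n F q).subtype)
    (Units.val_injective.comp Subtype.val_injective) _ (fun h => h.2)
    (fun M hM hp => ⟨⟨hM.unit, fun u v => hp u v⟩, rfl⟩)

theorem gu_part [FiniteDimensional F V] (K : Unitary.Conj F q)
    (B : V →ₛₗ[K.bar.toRingHom] V →ₗ[F] F) (hS : ∀ x y, K.bar (B x y) = B y x)
    (hB : ∀ v, (∀ w, B v w = 0) → v = 0) (k : ℕ) (hk : Module.finrank F V = k) :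
    Nonempty (Iso (fun a b : V => B b a) ≃* Cfsg.GU k F q) := by
  subst hk
  obtain ⟨b, hb⟩ := CfsgLib.Forms.exists_orthonormal_basis K.bar.toRingHom
    (fun h => by
      obtain ⟨y, hy⟩ := K.exists_moved
      exact hy (RingHom.congr_fun h y))
    K.bar_bar B hS hB
  let e : (Fin (Module.finrank F V) → F) ≃ₗ[F] V := b.equivFun.symm
  obtain ⟨E, -⟩ := gu_equiv (F := F) (q := q) (Module.finrank F V)
  refine ⟨((congr (ω := Cfsg.hermForm (Module.finrank F V) F q) (ω' := fun a c : V => B c a) e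
    (fun u v => ?_)).symm).trans E.symm⟩
  have h1 : ∀ x, B (∑ i, v i • b i) (b x) = K.bar (v x) := fun x => by
    rw [map_sum, LinearMap.coe_sum, Finset.sum_apply, Finset.sum_eq_single x]
    · rw [map_smulₛₗ B, LinearMap.smul_apply, hb, if_pos rfl, smul_eq_mul, mul_one]; rfl
    · intro y _ hy
      rw [map_smulₛₗ B, LinearMap.smul_apply, hb, if_neg hy, smul_zero]
    · simp
  simp only [e, Module.Basis.equivFun_symm_apply, Unitary.herm_apply K]
  rw [map_sum (B (∑ i, v i • b i))]
  exact Finset.sum_congr rfl fun x _ => by rw [map_smul, smul_eq_mul, h1]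

theorem gu_stab_equiv_prod [Fintype F] (hF : Fintype.card F = q ^ 2) (n k : ℕ) (hk : k ≤ n)
    (U : Submodule F (Fin n → F)) (hUk : Module.finrank F U = k)
    (hU : ∀ u ∈ U, (∀ v ∈ U, Cfsg.hermForm n F q u v = 0) → u = 0) :
    Nonempty (↥((Cfsg.stabilizing (Cfsg.glToMat (Fin n) F) (U : Set (Fin n → F))).subgroupOf
      (Cfsg.GU n F q)) ≃* ↥(Cfsg.GU k F q) × ↥(Cfsg.GU (n - k) F q)) := by
  obtain ⟨K⟩ := CfsgLib.Classical.Herm.exists_conj_of_card hF
  let B := hermSesq K n
  have hsw : ∀ u v, B u v = 0 → B v u = 0 := fun u v h => by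
    rw [← hermSesq_swap K n v u, h, map_zero]
  let U' : Submodule F (Fin n → F) := ⨅ u : U, LinearMap.ker (B (u : Fin n → F))
  have hU' : ∀ v, v ∈ U' ↔ ∀ u ∈ U, B u v = 0 := fun v => by
    simp [U', Submodule.mem_iInf]
  have hB : ∀ v, (∀ w, B v w = 0) → v = 0 := fun v h => by
    funext i
    have := h (Pi.single i 1)
    simp only [B, hermSesq_apply, Unitary.herm_apply K] at this
    rw [Finset.sum_eq_single i (fun j _ hj => by simp [hj]) (by simp)] at this
    simpa using this
  have hinf : U ⊓ U' = ⊥ := by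
    rw [Submodule.eq_bot_iff]
    rintro x ⟨hx, hx'⟩
    exact hU x hx fun v hv => (hU' x).1 hx' v hv
  let u := Module.finBasisOfFinrankEq F U hUk
  let T : (Fin n → F) →ₗ[F] (Fin k → F) := LinearMap.pi fun j => B (u j : Fin n → F)
  have hker : LinearMap.ker T ≤ U' := fun v hv => (hU' v).2 fun x hx => by
    have hv' : ∀ j, B (u j : Fin n → F) v = 0 := fun j => congrFun (LinearMap.mem_ker.1 hv) j
    have e : x = ∑ j, u.repr ⟨x, hx⟩ j • (u j : Fin n → F) := by
      have := congrArg Subtype.val (u.sum_repr ⟨x, hx⟩)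
      simp only [Submodule.coe_sum, Submodule.coe_smul] at this
      exact this.symm
    rw [e, map_sum, LinearMap.coe_sum, Finset.sum_apply]
    exact Finset.sum_eq_zero fun j _ => by rw [map_smulₛₗ B, LinearMap.smul_apply, hv' j, smul_zero]
  have hc : IsCompl U U' := by
    refine ⟨disjoint_iff.2 hinf, codisjoint_iff.2 (Submodule.eq_top_of_finrank_eq ?_)⟩
    have h1 := Submodule.finrank_sup_add_finrank_inf_eq U U'
    rw [hinf, finrank_bot, hUk] at h1
    have h2 := T.finrank_range_add_finrank_ker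
    have h3 := (LinearMap.range T).finrank_le
    have h4 := Submodule.finrank_mono hker
    have h5 := (U ⊔ U').finrank_le
    rw [Module.finrank_fin_fun] at h2 h3 h5
    rw [Module.finrank_fin_fun]
    omega
  have hperp : ∀ v, v ∈ U' ↔ ∀ a ∈ U, Cfsg.hermForm n F q a v = 0 := fun v => (hU' v).trans
    ⟨fun h a ha => hsw _ _ (h a ha), fun h a ha => hsw _ _ (h a ha)⟩
  obtain ⟨p⟩ := nonempty_prod (Cfsg.hermForm n F q) U U' hc hperp
    (fun a ha b hb c hc d hd => by
      have e1 : B d a = 0 := (hperp d).1 hd a ha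
      have e2 : B c b = 0 := (hU' b).1 hb c hc
      simp only [← hermSesq_apply K, map_add, LinearMap.add_apply]
      rw [show hermSesq K n c b = 0 from e2, show hermSesq K n d a = 0 from e1, zero_add, add_zero])
  have hd : Module.finrank F U' = n - k := by
    have := Submodule.finrank_add_eq_of_isCompl hc
    rw [hUk, Module.finrank_fin_fun] at this
    omega
  have hres : ∀ (X : Submodule F (Fin n → F)), (∀ x : X, (∀ y : X, B (x : Fin n → F) y = 0) → x = 0) →
      ∀ j, Module.finrank F X = j →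
      Nonempty (Iso (fun a b : X => Cfsg.hermForm n F q a b) ≃* Cfsg.GU j F q) := by
    intro X hX j hj
    refine gu_part K ((B.domRestrict X).compl₂ X.subtype) (fun x y => hermSesq_swap K n _ _) ?_ j hj
    exact fun x h => hX x h
  obtain ⟨e1⟩ := hres U (fun x h => Subtype.ext (hU x x.2 fun v hv => by
    have := hsw _ _ (h ⟨v, hv⟩)
    exact this)) k hUk
  obtain ⟨e2⟩ := hres U' (fun x h => Subtype.ext (hB x fun w => by
    obtain ⟨a, ha, b, hb, rfl⟩ := Submodule.mem_sup.1 (hc.sup_eq_top ▸ Submodule.mem_top (x := w))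
    rw [map_add, h ⟨b, hb⟩, add_zero]
    exact hsw _ _ ((hU' _).1 x.2 a ha))) (n - k) hd
  obtain ⟨E, hE⟩ := gu_equiv (F := F) (q := q) n
  obtain ⟨s⟩ := nonempty_stab ((Cfsg.glToMat (Fin n) F).comp (Cfsg.GU n F q).subtype) E hE U
  exact ⟨(s.trans p).trans (e1.prodCongr e2)⟩

end Unitary

end CfsgLib.Classical.IsoProd
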