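import Cfsg.Agent.Lib.Classical.UnitaryTrans
import Cfsg.Agent.Lib.ClassicalAut.Simple

set_option autoImplicit false

/-!
`SU_n(q)` is perfect and `PSU_n(q)` simple, transvections are commutators.
-/

namespace CfsgLib.Classical.Herm

open Matrix Cfsg
open CfsgLib.ClassicalAut (Unitary.Conj Unitary.space Unitary.rep Unitary.skewSurj Unitary.exists_frame)

variable {F : Type*} [Field F] [Finite F] {q : ℕ} (K : Unitary.Conj F q) {n : ℕ}

local notation "H" => hermForm n F q

include K in
theorem unitaryTransvection_eq (v : Fin n → F) (c : F) :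
    unitaryTransvection n q v c = quasi K v c := by
  rw [unitaryTransvection, quasi]
  simp only [K.bar_apply]

include K in
theorem skew_of_isometry {v : Fin n → F} {c : F} (hv : H v v = 0) (hv0 : v ≠ 0)
    (hiso : ∀ x y, H (x + (c * H x v) • v) (y + (c * H y v) • v) = H x y) : c + K.bar c = 0 := by
  set S := Unitary.space (n := n) K
  obtain ⟨x, hx⟩ := S.exists_ne v hv0
  have hxv : S.h v x = 1 := by rw [S.swap, hx, map_one, mul_one]; rfl
  have h := hiso x x
  rw [show H x v = 1 from hx, mul_one] at h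
  change S.h (x + c • v) (x + c • v) = S.h x x at h
  rw [S.add_left, S.add_right, S.add_right, S.smul_left, S.smul_left, S.smul_right, S.smul_right,
    hxv, hx, show S.h v v = 0 from hv, show S.bar c = K.bar c from rfl] at h
  linear_combination h

/-- An element with the matrix of a transvection is one. -/
theorem exists_isT_of_matrix {v : Fin n → F} {c : F} {g : SU n F q} (hv : H v v = 0)
    (hg : (g.1 : Matrix (Fin n) (Fin n) F) = unitaryTransvection n q v c) :
    ∃ c', IsT K g v c' := by
  have hga : ∀ x, app g x = x + (c * H x v) • v := fun x => by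
    rw [app, hg, unitaryTransvection_eq K, quasi_apply]
  by_cases hv0 : v = 0
  · exact ⟨0, hv, by rw [map_zero, add_zero], fun x => by
      rw [hga, hv0, smul_zero, add_zero, smul_zero, add_zero]⟩
  · exact ⟨c, hv, skew_of_isometry K hv hv0 (fun x y => by rw [← hga, ← hga, h_app]), hga⟩

theorem isT_matrix {v : Fin n → F} {c : F} {g : SU n F q} (hg : IsT K g v c) :
    (g.1 : Matrix (Fin n) (Fin n) F) = unitaryTransvection n q v c := by
  rw [unitaryTransvection_eq K]
  exact Matrix.ext_of_mulVec_single fun i => by rw [quasi_apply]; exact hg.2.2 _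

include K in
theorem exists_perp_pair (hn : 3 ≤ n) {e : Fin n → F} (he : H e e = 0) (he0 : e ≠ 0) :
    ∃ z w : Fin n → F, H z e = 0 ∧ H w e = 0 ∧ H z w = 1 := by
  set S := Unitary.space (n := n) K
  obtain ⟨f, hf, hef⟩ := S.exists_partner (v := e) he he0
  let L : (Fin n → F) →ₗ[F] (Fin 2 → F) :=
    { toFun := fun x => ![S.h x e, S.h x f]
      map_add' := fun x y => by ext i; fin_cases i <;> simp [S.add_left]
      map_smul' := fun a x => by ext i; fin_cases i <;> simp [S.smul_left] }
  obtain ⟨w, hw, hw0⟩ := Submodule.exists_mem_ne_zero_of_ne_bot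
    (LinearMap.ker_ne_bot_of_finrank_lt (f := L) (by simp; omega))
  have h1 : S.h w e = 0 := congrFun (LinearMap.mem_ker.1 hw) 0
  have h2 : S.h w f = 0 := congrFun (LinearMap.mem_ker.1 hw) 1
  obtain ⟨x, hx⟩ := S.exists_ne w hw0
  exact ⟨S.proj e f x, w, S.proj_left he hef, h1, by
    show S.h (S.proj e f x) w = 1
    rw [S.h_proj h1 h2, hx]⟩

variable (p : ℕ) [Fact p.Prime] [CharP F p]

omit [Finite F] in
theorem app_eq_rho [Finite F] (hn : 3 ≤ n) (g : SU n F q) (x : Fin n → F) :
    (Unitary.rep K hn p).ρ g x = app g x := rfl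

include p in
theorem mem_commutatorSet_of_T (hn : 3 ≤ n) {g : SU n F q} {v : Fin n → F} {c : F}
    (hg : IsT K g v c) : g ∈ commutatorSet (SU n F q) := by
  set S := Unitary.space (n := n) K
  set R := Unitary.rep K hn p
  obtain ⟨hv, hc, hgv⟩ := hg
  by_cases hv0 : v = 0
  · have h1 : g = 1 := ext_app fun x => by rw [hgv, hv0, smul_zero, add_zero, app_one]
    refine ⟨1, 1, ?_⟩
    rw [h1, commutatorElement_def]
    group
  obtain ⟨z, w, hze, hwe, hzw⟩ := exists_perp_pair K hn hv hv0
  obtain ⟨y, hy⟩ := Unitary.skewSurj (n := n) K c (show (1 : F) * c + K.bar c = 0 by rw [one_mul, hc])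
  refine R.mem_commutatorSet (e := v) (u := y • z) (v := w) (y := y) hv ?_ hwe ?_ ?_
  · show S.h (y • z) v = 0
    rw [S.smul_left, show S.h z v = 0 from hze, mul_zero]
  · show S.h (y • z) w = y
    rw [S.smul_left, show S.h z w = 1 from hzw, mul_one]
  · refine LinearMap.ext fun x => ?_
    rw [show S.ε * y - S.bar y = c by
      have hy' : y - (1 : F) * K.bar y = c := hy
      show (1 : F) * y - K.bar y = c
      linear_combination hy']
    rw [S.E_zero_apply]
    exact hgv x

include p K in
theorem commutator_eq_top (hn : 3 ≤ n) (h32 : ¬ (n = 3 ∧ q = 2)) :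
    commutator (SU n F q) = ⊤ := by
  rw [eq_top_iff, ← gen_top K hn h32, commutator_eq_closure]
  refine Subgroup.closure_mono ?_
  rintro g ⟨v, -, c, hg⟩
  exact mem_commutatorSet_of_T K p hn hg

include p K in
/-- `PSU_n(q)` is simple. -/
theorem isSimpleGroup (hn : 3 ≤ n) (h32 : ¬ (n = 3 ∧ q = 2)) : IsSimpleGroup (PSU n F q) := by
  set S := Unitary.space (n := n) K
  set R := Unitary.rep K hn p
  obtain ⟨Φ⟩ := Unitary.exists_frame K hn
  refine R.isSimpleGroup ?_ (commutator_eq_top K p hn h32) Φ.he fun h => ?_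
  · rw [eq_top_iff, ← gen_top K hn h32]
    refine Subgroup.closure_mono ?_
    rintro g ⟨v, -, c, hv, hc, hg⟩
    refine ⟨v, c, hv, S.valid_zero_iff.2 (show (1 : F) * c + K.bar c = 0 by rw [one_mul, hc]), ?_⟩
    exact LinearMap.ext fun x => by rw [S.E_zero_apply]; exact hg x
  · have := Φ.hef
    rw [h, S.zero_left] at this
    exact zero_ne_one this

end CfsgLib.Classical.Herm
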