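import Cfsg.Agent.Lib.Classical.Klein
import Cfsg.Agent.Lib.Classical.OmegaOnto
import Cfsg.Agent.Lib.Classical.QuadExt
import Cfsg.Agent.Lib.Classical.UnitaryOrder
import Cfsg.Agent.Lib.Classical.UnitarySimple

set_option autoImplicit false

/-!
`PΩ^-_6(q) ≅ PSU_4(q)`: the Klein correspondence twisted by the conjugation.
-/

namespace CfsgLib.Classical.KleinSix

open Matrix CfsgLib.Orth

section Twist

variable {K : Type*} [Field K]

theorem comp_map (σ : K →+* K) (M : Matrix (Fin 4) (Fin 4) K) :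
    Klein.comp (M.map σ) = (Klein.comp M).map σ := by
  ext s t
  simp [Klein.comp, Klein.wedge, map_sub, map_mul]

theorem comp_transpose (M : Matrix (Fin 4) (Fin 4) K) : Klein.comp Mᵀ = (Klein.comp M)ᵀ := by
  ext s t
  simp only [Klein.comp, Klein.wedge, Matrix.transpose_apply]
  ring

theorem polar_eq (x y : Fin 3 ⊕ Fin 3 → K) : Cfsg.quadFormPlus 3 K (x + y) =
    Cfsg.quadFormPlus 3 K x + Cfsg.quadFormPlus 3 K y + (x ∘ Sum.swap) ⬝ᵥ y := by
  simp [Cfsg.quadFormPlus, dotProduct, Fintype.sum_sum_type, Fin.sum_univ_three]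
  ring

/-- The twisted Hodge map commutes with the compounds of unitary matrices. -/
theorem comp_commutes (σ : K →+* K) (hσ2 : ∀ x, σ (σ x) = x) {M : Matrix (Fin 4) (Fin 4) K}
    (hM : M * (M.map σ)ᵀ = 1) (hdet : M.det = 1) (x : Fin 3 ⊕ Fin 3 → K) :
    Klein.comp M *ᵥ (σ ∘ x ∘ Sum.swap) = σ ∘ (Klein.comp M *ᵥ x) ∘ Sum.swap := by
  set N := Klein.comp M with hN
  have hNN : N * (N.map σ)ᵀ = 1 := by
    rw [hN, ← comp_map, ← comp_transpose, ← Klein.comp_mul, hM, Klein.comp_one]
  have hNN' : N.map σ * Nᵀ = 1 := by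
    have := congrArg Matrix.transpose hNN
    rwa [Matrix.transpose_mul, Matrix.transpose_transpose, Matrix.transpose_one] at this
  have hB : Nᵀ *ᵥ ((N *ᵥ x) ∘ Sum.swap) = x ∘ Sum.swap := by
    refine dotProduct_eq _ _ fun y => ?_
    rw [Matrix.mulVec_transpose, ← Matrix.dotProduct_mulVec]
    have h := Klein.comp_isometry M (x + y)
    rw [Matrix.mulVec_add, hdet, one_mul, polar_eq, polar_eq, Klein.comp_isometry, hdet,
      Klein.comp_isometry, hdet, one_mul, one_mul] at h
    exact add_left_cancel h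
  have h := congrArg (fun z => (N.map σ) *ᵥ z) hB
  simp only [Matrix.mulVec_mulVec, hNN', Matrix.one_mulVec] at h
  funext s
  show _ = σ ((N *ᵥ x) (Sum.swap s))
  rw [show (N *ᵥ x) (Sum.swap s) = _ from congrFun h s]
  simp [Matrix.mulVec, dotProduct, map_sum, map_mul, hσ2]

end Twist

variable {F K : Type*} [Field F] [Fintype F] [Field K] [Fintype K]

theorem exists_norm {q : ℕ} (hK : Fintype.card K = q ^ 2) {y : K} (hy0 : y ≠ 0) (hy : y ^ q = y) :
    ∃ x : K, x * x ^ q = y := by
  classical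
  obtain ⟨g, hg⟩ := IsCyclic.exists_generator (α := Kˣ)
  obtain ⟨j, hj⟩ := Submonoid.mem_powers_iff _ _ |>.1
    ((mem_powers_iff_mem_zpowers).2 (hg (Units.mk0 y hy0)))
  have hq : 2 ≤ q := by
    have := Fintype.one_lt_card (α := K)
    rw [hK] at this
    nlinarith
  have hord : orderOf g = q ^ 2 - 1 := by
    rw [orderOf_eq_card_of_forall_mem_zpowers hg, Nat.card_eq_fintype_card, Fintype.card_units, hK]
  have h1 : (g ^ j) ^ (q - 1) = 1 := by
    rw [hj]
    ext
    rw [Units.val_pow_eq_pow_val, Units.val_mk0, Units.val_one]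
    refine mul_right_cancel₀ hy0 ?_
    rw [← pow_succ, Nat.sub_add_cancel (by omega), hy, one_mul]
  rw [← pow_mul, ← orderOf_dvd_iff_pow_eq_one, hord] at h1
  have hsq : q ^ 2 - 1 = (q + 1) * (q - 1) := by rw [← Nat.sq_sub_sq, one_pow]
  rw [hsq] at h1
  obtain ⟨k, rfl⟩ := Nat.dvd_of_mul_dvd_mul_right (by omega) h1
  refine ⟨((g ^ k : Kˣ) : K), ?_⟩
  have := congrArg Units.val hj
  rw [Units.val_mk0] at this
  rw [← this, Units.val_pow_eq_pow_val, Units.val_pow_eq_pow_val, ← pow_mul, ← pow_add]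
  ring_nf

set_option maxHeartbeats 3200000 in
/-- `PΩ^-_6(q) ≅ PSU_4(q)`. -/
theorem pomega_six_minus {q : ℕ} (hF : Fintype.card F = q) (hK : Fintype.card K = q ^ 2) (a b : F)
    (hab : ∀ z₁ z₂ : F, z₁ ^ 2 + a * z₁ * z₂ + b * z₂ ^ 2 = 0 → z₁ = 0 ∧ z₂ = 0) :
    Nonempty (Cfsg.POmega F (Cfsg.quadFormMinus 2 F a b) ≃* Cfsg.PSU 4 K q) := by
  classical
  obtain ⟨ι, σ, ω, hσq, hσ2, hfix, hsum, hprod, hbij⟩ := QuadExt.exists_frame hF hK a b hab
  have hσι : ∀ y, σ (ι y) = ι y := fun y => (hfix _).2 ⟨y, rfl⟩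
  obtain ⟨Q, hQ, hB⟩ := exists_quadForm_minus (F := F) 2 hab
  have hb : ι b ≠ 0 := fun e => one_ne_zero (hab 0 1 (by
    rw [(map_eq_zero_iff ι ι.injective).1 e]; ring)).2
  have hω0 : ω ≠ 0 := fun e => hb (by rw [← hprod, e, zero_mul])
  have hsω0 : σ ω ≠ 0 := fun e => hb (by rw [← hprod, e, mul_zero])
  have hne : σ ω ≠ ω := fun e => by
    obtain ⟨y, hy⟩ := (hfix ω).1 e
    have := @hbij.1 (y, 0) (0, 1) (by simp [hy])
    simp at this
  have hd : σ ω - ω ≠ 0 := sub_ne_zero.2 hne
  obtain ⟨lam, hlam⟩ : ∃ lam : K, lam * σ lam = -1 := by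
    obtain ⟨x, hx⟩ := exists_norm hK (y := (-1 : K)) (by simp)
      (by rw [← hσq, map_neg, map_one])
    exact ⟨x, by rw [hσq, hx]⟩
  set lam' := lam * (ω / σ ω) with hlam'def
  have hu : (ω / σ ω) * σ (ω / σ ω) = 1 := by
    rw [map_div₀, hσ2]; field_simp
  have hlam' : lam' * σ lam' = -1 := by
    rw [hlam'def, map_mul, mul_mul_mul_comm, hlam, hu, mul_one]
  have hl0 : lam ≠ 0 := fun e => by simp [e] at hlam
  have hll : lam' ≠ lam := fun e => hne (by
    have h1 : ω / σ ω = 1 := mul_left_cancel₀ hl0 (by rw [mul_one]; exact e)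
    rw [div_eq_one_iff_eq hsω0] at h1
    exact h1.symm)
  set κ := 1 + lam * σ lam' with hκdef
  have hκ : κ ≠ 0 := fun e => hll (by
    have h2 : lam * σ lam' = lam' * σ lam' := by rw [hlam']; linear_combination e
    exact (mul_right_cancel₀ (fun e2 => by simp [e2] at hlam') h2).symm)
  have hsκ : σ κ = 1 + σ lam * lam' := by rw [hκdef, map_add, map_one, map_mul, hσ2]
  have hsκ0 : σ κ ≠ 0 := fun e => hκ (by rw [← hσ2 κ, e, map_zero])
  set r := 1 / (σ κ * (σ ω - ω)) with hrdef
  have hr : r ≠ 0 := by rw [hrdef]; exact one_div_ne_zero (mul_ne_zero hsκ0 hd)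
  have hsr : σ r = 1 / (κ * (ω - σ ω)) := by
    rw [hrdef, map_div₀, map_one, map_mul, map_sub, hσ2, hσ2]
  let _ : Algebra F K := ι.toAlgebra
  let P : ((Fin 2 ⊕ Fin 2) ⊕ Fin 2 → F) →ₗ[F] K :=
    { toFun := fun v => ι (v (.inl (.inl 0))) + ω * ι (v (.inl (.inl 1)))
      map_add' := fun v w => by simp [map_add]; ring
      map_smul' := fun c v => by simp [Algebra.smul_def, RingHom.algebraMap_toAlgebra]; ring }
  let R : ((Fin 2 ⊕ Fin 2) ⊕ Fin 2 → F) →ₗ[F] K :=
    { toFun := fun v => r * (ι (v (.inl (.inr 1))) - ω * ι (v (.inl (.inr 0))))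
      map_add' := fun v w => by simp [map_add]; ring
      map_smul' := fun c v => by simp [Algebra.smul_def, RingHom.algebraMap_toAlgebra]; ring }
  let Φ : ((Fin 2 ⊕ Fin 2) ⊕ Fin 2 → F) →ₗ[F] (Fin 3 → K) :=
    { toFun := fun v => ![P v + R v, lam * P v + lam' * R v, ι (v (.inr 0)) + ω * ι (v (.inr 1))]
      map_add' := fun v w => by
        funext i; fin_cases i <;> simp [map_add] <;> ring
      map_smul' := fun c v => by
        funext i; fin_cases i <;> simp [map_smul] <;> simp [Algebra.smul_def, RingHom.algebraMap_toAlgebra] <;> ring }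
  have hΦQ : ∀ v, ∑ i, Φ v i * σ (Φ v i) = ι (Q v) := fun v => by
    have h1 : P v * σ (R v) * κ + σ (P v) * R v * σ κ =
        ι (v (.inl (.inl 0))) * ι (v (.inl (.inr 0))) + ι (v (.inl (.inl 1))) * ι (v (.inl (.inr 1))) := by
      simp only [P, R, LinearMap.coe_mk, AddHom.coe_mk, map_add, map_mul, map_sub, hσι, hsr]
      rw [hrdef]
      have hd' : ω - σ ω ≠ 0 := sub_ne_zero.2 hne.symm
      field_simp
      ring
    rw [hQ, Fin.sum_univ_three]
    simp only [Φ, LinearMap.coe_mk, AddHom.coe_mk, Cfsg.quadFormMinus, Fin.sum_univ_two, map_add,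
      map_mul, map_pow, Matrix.cons_val_zero, Matrix.cons_val_one, Matrix.cons_val_two,
      Matrix.head_cons, Matrix.tail_cons, hσι]
    linear_combination h1 + (P v * σ (P v)) * hlam + (R v * σ (R v)) * hlam' -
      P v * σ (R v) * hκdef - σ (P v) * R v * hsκ +
      (ι (v (.inr 0)) * ι (v (.inr 1))) * hsum + (ι (v (.inr 1))) ^ 2 * hprod
  have hinj : Function.Injective Φ := by
    rw [← LinearMap.ker_eq_bot, LinearMap.ker_eq_bot']
    intro v hv
    have e0 : P v + R v = 0 := congrFun hv 0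
    have e1 : lam * P v + lam' * R v = 0 := congrFun hv 1
    have e2 : ι (v (.inr 0)) + ω * ι (v (.inr 1)) = 0 := congrFun hv 2
    have hR : R v = 0 := (mul_eq_zero.1 (show (lam' - lam) * R v = 0 by
      linear_combination e1 - lam * e0)).resolve_left (sub_ne_zero.2 hll)
    have hP : P v = 0 := by rw [hR, add_zero] at e0; exact e0
    have hR' : ι (v (.inl (.inr 1))) - ω * ι (v (.inl (.inr 0))) = 0 :=
      (mul_eq_zero.1 (show r * _ = 0 from hR)).resolve_left hr
    have a1 := @hbij.1 (v (.inl (.inl 0)), v (.inl (.inl 1))) (0, 0) (by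
      simp only [map_zero, mul_zero, add_zero]; exact hP)
    have a2 := @hbij.1 (v (.inl (.inr 1)), -v (.inl (.inr 0))) (0, 0) (by
      simp only [map_zero, mul_zero, add_zero, map_neg]; linear_combination hR')
    have a3 := @hbij.1 (v (.inr 0), v (.inr 1)) (0, 0) (by
      simp only [map_zero, mul_zero, add_zero]; exact e2)
    rw [Prod.mk.injEq] at a1 a2 a3
    rw [neg_eq_zero] at a2
    funext s
    rcases s with (s | s) | s <;> fin_cases s
    exacts [a1.1, a1.2, a2.2, a2.1, a3.1, a3.2]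
  let e : ((Fin 2 ⊕ Fin 2) ⊕ Fin 2 → F) ≃ₗ[F] (Fin 3 → K) := LinearEquiv.ofBijective Φ
    ((Fintype.bijective_iff_injective_and_card _).2 ⟨hinj, by
      simp only [Fintype.card_fun, Fintype.card_sum, Fintype.card_fin, hF, hK]; ring⟩)
  let em : ((Fin 2 ⊕ Fin 2) ⊕ Fin 2 → F) → (Fin 3 ⊕ Fin 3 → K) :=
    fun v => Sum.elim (e v) (σ ∘ e v)
  have hemQ : ∀ v, Cfsg.quadFormPlus 3 K (em v) = ι (Q v) := fun v => hΦQ v
  have hem_re : ∀ x : Fin 3 ⊕ Fin 3 → K, (∀ i, x (.inr i) = σ (x (.inl i))) →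
      em (e.symm fun i => x (.inl i)) = x := fun x hx => by
    funext s
    rcases s with s | s
    · simp [em]
    · simp [em, hx]
  have hM : ∀ g : Cfsg.SU 4 K q, g.1.1 * (g.1.1.map σ)ᵀ = 1 := fun g => by
    have h : g.1.1ᵀ * g.1.1.map σ = 1 := by
      ext i j
      have h0 := g.2 (Pi.single i 1) (Pi.single j 1)
      have hmv : ∀ k : Fin 4, ((Cfsg.slToMat 4 K g.1 : Matrix (Fin 4) (Fin 4) K) *ᵥ Pi.single k 1) =
          fun l => g.1.1 l k := fun k => by
        rw [Matrix.mulVec_single_one]; rfl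
      simp only [hmv, Cfsg.hermForm] at h0
      simp only [Matrix.mul_apply, Matrix.transpose_apply, Matrix.map_apply, hσq]
      rw [h0]
      rcases eq_or_ne i j with rfl | hij
      · rw [Matrix.one_apply_eq, Finset.sum_eq_single i] <;> simp +contextual [Pi.single_apply]
      · rw [Matrix.one_apply_ne hij]
        refine Finset.sum_eq_zero fun l _ => ?_
        rcases eq_or_ne l i with rfl | hl
        · simp [Pi.single_apply, hij, zero_pow (show q ≠ 0 by rw [← hF]; exact Fintype.card_ne_zero)]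
        · simp [Pi.single_apply, hl]
    have := congrArg Matrix.transpose (mul_eq_one_comm.1 h)
    rwa [Matrix.transpose_mul, Matrix.transpose_transpose, Matrix.transpose_one] at this
  have hstab : ∀ (g : Cfsg.SU 4 K q) v i, (Klein.comp g.1.1 *ᵥ em v) (.inr i) =
      σ ((Klein.comp g.1.1 *ᵥ em v) (.inl i)) := fun g v i => by
    have hτ : σ ∘ em v ∘ Sum.swap = em v := by
      funext s
      rcases s with s | s <;> simp [em, hσ2]
    have h := congrFun (comp_commutes σ hσ2 (hM g) g.1.2 (em v)) (.inr i)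
    rw [hτ] at h
    exact h
  let act : Cfsg.SU 4 K q → ((Fin 2 ⊕ Fin 2) ⊕ Fin 2 → F) →ₗ[F] ((Fin 2 ⊕ Fin 2) ⊕ Fin 2 → F) :=
    fun g =>
    { toFun := fun v => e.symm fun i => (Klein.comp g.1.1 *ᵥ em v) (.inl i)
      map_add' := fun v w => by
        rw [← map_add e.symm]
        congr 1
        funext i
        rw [show em (v + w) = em v + em w by
          funext s; rcases s with s | s <;> simp [em, map_add]]
        rw [Matrix.mulVec_add]
        rfl
      map_smul' := fun c v => by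
        rw [RingHom.id_apply, ← map_smul e.symm]
        congr 1
        funext i
        rw [show em (c • v) = ι c • em v by
          funext s; rcases s with s | s <;>
            simp [em, map_smul] <;> simp [Algebra.smul_def, RingHom.algebraMap_toAlgebra, hσι]]
        rw [Matrix.mulVec_smul]
        simp [Algebra.smul_def, RingHom.algebraMap_toAlgebra] }
  have hact : ∀ g v, em (act g v) = Klein.comp g.1.1 *ᵥ em v := fun g v => hem_re _ (hstab g v)
  have heminj : Function.Injective em := fun v w h => e.injective (funext fun i => congrFun h (.inl i))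
  have hex1 : ∀ g : Cfsg.SU 4 K q, ∃ t : Grp Q, ∀ v, em (ap t v) = Klein.comp g.1.1 *ᵥ em v := by
    intro g
    obtain ⟨t, ht⟩ := exists_iso hB (act g) fun v => ι.injective (by
      rw [← hemQ, ← hemQ, hact, Klein.comp_isometry, g.1.2, one_mul])
    exact ⟨t, fun v => by rw [ht, hact]⟩
  choose φ₀ hφ₀ using hex1
  let φ : Cfsg.SU 4 K q →* Grp Q := MonoidHom.mk' φ₀ fun g h => ext_ap fun v => heminj (by
    rw [hφ₀, ap_mul, hφ₀, hφ₀, Matrix.mulVec_mulVec, ← Klein.comp_mul]
    rfl)
  obtain ⟨C⟩ := Herm.exists_conj_of_card hK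
  obtain ⟨p, hp⟩ := CharP.exists K
  have hpp : p.Prime := CharP.char_is_prime K p
  have := Fact.mk hpp
  have hperf : commutator (Cfsg.SU 4 K q) = ⊤ :=
    Herm.commutator_eq_top C p (by norm_num) (by norm_num)
  have hrange : φ.range ≤ Cfsg.Omega F ⇑Q := by
    rw [MonoidHom.range_eq_map, ← hperf]
    show _ ≤ commutator _
    rw [commutator_def, commutator_def, Subgroup.map_commutator]
    exact Subgroup.commutator_mono le_top le_top
  let f := φ.codRestrict (Cfsg.Omega F ⇑Q) fun g => hrange ⟨g, rfl⟩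
  have hker : ∀ g ∈ f.ker, ∃ c : K, c * c = 1 ∧ g.1.1 = c • (1 : Matrix (Fin 4) (Fin 4) K) := by
    intro g hg
    have h1 : φ g = 1 := congrArg Subtype.val (MonoidHom.mem_ker.1 hg)
    have hfix' : ∀ x, (∀ i, x (.inr i) = σ (x (.inl i))) → Klein.comp g.1.1 *ᵥ x = x := fun x hx => by
      rw [← hem_re x hx, ← hφ₀, show φ₀ g = φ g from rfl, h1, ap_one]
    refine Klein.ker_scalar _ (Matrix.ext_of_mulVec_single fun t => ?_)
    rw [Matrix.one_mulVec]
    set x : Fin 3 ⊕ Fin 3 → K := Pi.single t 1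
    let z : Fin 3 ⊕ Fin 3 → K := Sum.elim (fun i => (x (.inl i) - σ (x (.inr i))) / (ω - σ ω))
      (fun i => σ ((x (.inl i) - σ (x (.inr i))) / (ω - σ ω)))
    have hz := hfix' z fun i => rfl
    have hd' : ω - σ ω ≠ 0 := sub_ne_zero.2 hne.symm
    have hy := hfix' (x - ω • z) fun i => by
      simp only [z, Pi.sub_apply, Pi.smul_apply, Sum.elim_inl, Sum.elim_inr, smul_eq_mul, map_sub,
        map_mul, map_div₀, hσ2]
      field_simp
      ring
    rw [Matrix.mulVec_sub, Matrix.mulVec_smul, hz] at hy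
    exact sub_left_injective hy
  have hkc : f.ker ≤ Subgroup.center (Cfsg.SU 4 K q) := fun g hg => by
    obtain ⟨c, -, hc⟩ := hker g hg
    refine Subgroup.mem_center_iff.2 fun s => Subtype.ext (Subtype.ext ?_)
    show s.1.1 * g.1.1 = g.1.1 * s.1.1
    rw [hc]; simp
  have hk : Nat.card f.ker ≤ Nat.gcd 2 (q - 1) := by
    by_cases h2 : (2 : F) = 0
    · have h2K : (2 : K) = 0 := by rw [← map_ofNat ι 2, h2, map_zero]
      refine le_trans ?_ (Nat.gcd_pos_of_pos_left _ two_pos)
      refine (Finite.card_le_one_iff_subsingleton).2 ⟨fun x y => ?_⟩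
      have : ∀ z : f.ker, z = 1 := fun z => by
        obtain ⟨c, hc, hz⟩ := hker z.1 z.2
        have : c = 1 := sub_eq_zero.1 (mul_self_eq_zero.1 (by linear_combination hc + (1 - c) * h2K))
        refine Subtype.ext (Subtype.ext (Subtype.ext ?_))
        rw [hz, this, one_smul]; rfl
      rw [this x, this y]
    · have hqodd : q % 2 = 1 := by
        rw [← hF]
        exact FiniteField.odd_card_of_char_ne_two fun e => h2 (by
          have := CharP.cast_eq_zero F (ringChar F)
          rwa [e, Nat.cast_ofNat] at this)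
      rw [Nat.gcd_eq_left (by omega : 2 ∣ q - 1)]
      have hsub : Function.Injective (fun x : f.ker =>
          decide ((x.1.1.1 : Matrix (Fin 4) (Fin 4) K) = 1)) := fun x y hxy => by
        obtain ⟨c, hc, hx⟩ := hker x.1 x.2
        obtain ⟨d, hd', hy⟩ := hker y.1 y.2
        refine Subtype.ext (Subtype.ext (Subtype.ext ?_))
        simp only [decide_eq_decide] at hxy
        have h11 : (-1 : K) ≠ 1 := fun e => h2 (ι.injective (by
          rw [map_ofNat, map_zero]; linear_combination -e))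
        have hne1 : ((-1 : K) • (1 : Matrix (Fin 4) (Fin 4) K)) ≠ 1 := fun e => h11 (by
          simpa using congrFun (congrFun e 0) 0)
        rcases mul_self_eq_one_iff.1 hc with rfl | rfl <;> rcases mul_self_eq_one_iff.1 hd' with rfl | rfl
        · rw [hx, hy]
        · exfalso; exact hne1 (hy ▸ hxy.1 (by rw [hx, one_smul]))
        · exfalso; exact hne1 (hx ▸ hxy.2 (by rw [hy, one_smul]))
        · rw [hx, hy]
      exact (Nat.card_le_card_of_injective _ hsub).trans (by simp)
  have hn : 2 ≤ Module.finrank F ((Fin 2 ⊕ Fin 2) ⊕ Fin 2 → F) := by simp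
  have hidx : (Cfsg.Omega F ⇑Q).index = 2 * Nat.gcd 2 (q - 1) := by
    by_cases h2 : (2 : F) = 0
    · have hqev : q % 2 = 0 := by
        rw [← hF]
        exact FiniteField.even_card_of_char_two (by
          have : CharP F 2 := CharTwo.of_one_ne_zero_of_two_eq_zero one_ne_zero h2
          exact ringChar.eq F 2)
      have hq1 : 0 < q := hF ▸ Fintype.card_pos
      rw [(Nat.prime_two.coprime_iff_not_dvd.2 (by omega : ¬ 2 ∣ q - 1)).gcd_eq_one, mul_one]
      exact index_omega_two hB h2 (by simp) (by simp)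
    · have hqodd : q % 2 = 1 := by
        rw [← hF]
        exact FiniteField.odd_card_of_char_ne_two fun e => h2 (by
          have := CharP.cast_eq_zero F (ringChar F)
          rwa [e, Nat.cast_ofNat] at this)
      rw [Nat.gcd_eq_left (by omega : 2 ∣ q - 1), index_omega_odd hB h2 hn]
  have hsur : Function.Surjective f := by
    refine surjective_of_count f hidx hk ?_
    refine Nat.eq_of_mul_eq_mul_left (by omega : 0 < q + 1) ?_
    rw [← mul_assoc, Herm.card_SU C (by norm_num), Herm.card_GU C,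
      show Nat.card ↥(Cfsg.isometryGroup F ⇑Q) = Nat.card (Grp Q) from rfl,
      card_orth_minus 3 (by norm_num) hab hQ hB, Nat.card_eq_fintype_card (α := F), hF]
    simp [Finset.prod_range_succ, Nat.even_iff]
    ring
  obtain ⟨e'⟩ := center_quotient_equiv hperf f hsur hkc
  rw [← hQ]
  exact ⟨e'.symm⟩

end CfsgLib.Classical.KleinSix
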