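import Cfsg.Agent.Lib.Classical.KleinFive
import Cfsg.Agent.Lib.Classical.KleinSix
import Cfsg.Agent.Lib.Classical.SymmOrth
import Cfsg.Agent.Lib.Classical.OrthReflect

set_option autoImplicit false
set_option maxRecDepth 20000
set_option maxHeartbeats 2000000

/-!
`PSU_4(2) ≅ PSp_4(3)`: both come from the integral reflection group of the root lattice of rank six,
read modulo `2` and modulo `3`.
-/

namespace CfsgLib.Classical.LatticeSix

open Matrix CfsgLib.Orth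
open scoped commutatorElement

/-- The Gram matrix. -/
def gram : Matrix (Fin 6) (Fin 6) ℤ :=
  !![2, 0, -1, 0, 0, 0; 0, 2, 0, -1, 0, 0; -1, 0, 2, -1, 0, 0; 0, -1, -1, 2, -1, 0;
    0, 0, 0, -1, 2, -1; 0, 0, 0, 0, -1, 2]

/-- The fundamental reflections. -/
def refl (i : Fin 6) : Matrix (Fin 6) (Fin 6) ℤ :=
  fun a b => (if a = b then 1 else 0) - if a = i then gram i b else 0

theorem refl_sq : ∀ i, refl i * refl i = 1 := by decide +kernel

/-- The reflections as units. -/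
def gen (i : Fin 6) : GL (Fin 6) ℤ := ⟨refl i, refl i, refl_sq i, refl_sq i⟩

/-- The group they generate. -/
def Γ : Subgroup (GL (Fin 6) ℤ) := Subgroup.closure (Set.range gen)

/-- Half the norm. -/
def qz (v : Fin 6 → ℤ) : ℤ :=
  v 0 ^ 2 + v 1 ^ 2 + v 2 ^ 2 + v 3 ^ 2 + v 4 ^ 2 + v 5 ^ 2 -
    (v 0 * v 2 + v 2 * v 3 + v 3 * v 4 + v 4 * v 5 + v 1 * v 3)

theorem dot_gram (v : Fin 6 → ℤ) : v ⬝ᵥ gram *ᵥ v = 2 * qz v := by
  simp [gram, qz, Matrix.mulVec, dotProduct, Fin.sum_univ_six]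
  ring

theorem qz_double (v : Fin 6 → ℤ) : 120 * qz v = 30 * (2 * v 0 - v 2) ^ 2 + 30 * (2 * v 1 - v 3) ^ 2 +
    10 * (3 * v 2 - 2 * v 3) ^ 2 + 2 * (5 * v 3 - 6 * v 4) ^ 2 + 3 * (4 * v 4 - 5 * v 5) ^ 2 +
    45 * v 5 ^ 2 := by
  simp only [qz]; ring

theorem qz_nonneg (v : Fin 6 → ℤ) : 0 ≤ qz v := by
  nlinarith [qz_double v, sq_nonneg (2 * v 0 - v 2), sq_nonneg (2 * v 1 - v 3),
    sq_nonneg (3 * v 2 - 2 * v 3), sq_nonneg (5 * v 3 - 6 * v 4), sq_nonneg (4 * v 4 - 5 * v 5),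
    sq_nonneg (v 5)]

theorem qz_eq_zero {v : Fin 6 → ℤ} (h : qz v = 0) : v = 0 := by
  have hd := qz_double v
  rw [h] at hd
  have n0 := sq_nonneg (2 * v 0 - v 2)
  have n1 := sq_nonneg (2 * v 1 - v 3)
  have n2 := sq_nonneg (3 * v 2 - 2 * v 3)
  have n3 := sq_nonneg (5 * v 3 - 6 * v 4)
  have n4 := sq_nonneg (4 * v 4 - 5 * v 5)
  have n5 := sq_nonneg (v 5)
  have e5 : v 5 = 0 := pow_eq_zero_iff two_ne_zero |>.1 (by omega : v 5 ^ 2 = 0)
  have e4 : 4 * v 4 - 5 * v 5 = 0 := pow_eq_zero_iff two_ne_zero |>.1 (by omega : (4 * v 4 - 5 * v 5) ^ 2 = 0)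
  have e3 : 5 * v 3 - 6 * v 4 = 0 := pow_eq_zero_iff two_ne_zero |>.1 (by omega : (5 * v 3 - 6 * v 4) ^ 2 = 0)
  have e2 : 3 * v 2 - 2 * v 3 = 0 := pow_eq_zero_iff two_ne_zero |>.1 (by omega : (3 * v 2 - 2 * v 3) ^ 2 = 0)
  have e1 : 2 * v 1 - v 3 = 0 := pow_eq_zero_iff two_ne_zero |>.1 (by omega : (2 * v 1 - v 3) ^ 2 = 0)
  have e0 : 2 * v 0 - v 2 = 0 := pow_eq_zero_iff two_ne_zero |>.1 (by omega : (2 * v 0 - v 2) ^ 2 = 0)
  funext i
  fin_cases i <;> simp <;> omega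

/-- The coordinates of the minus form. -/
def i2 : (Fin 2 ⊕ Fin 2) ⊕ Fin 2 → Fin 6 := Sum.elim (Sum.elim ![0, 1] ![2, 3]) ![4, 5]

/-- The coordinates of the odd form. -/
def i3 : Unit ⊕ (Fin 2 ⊕ Fin 2) → Fin 5 := Sum.elim (fun _ => 0) (Sum.elim ![1, 2] ![3, 4])

/-- To the coordinates modulo two. -/
def a2 : Matrix ((Fin 2 ⊕ Fin 2) ⊕ Fin 2) (Fin 6) (ZMod 2) :=
  (!![1, 0, 0, 1, 1, 0; 0, 0, 1, 1, 0, 1; 0, 1, 1, 0, 0, 0; 1, 0, 0, 0, 0, 0; 1, 0, 0, 0, 1, 0;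
    0, 1, 1, 1, 0, 1] : Matrix (Fin 6) (Fin 6) (ZMod 2)).submatrix i2 id

/-- From the coordinates modulo two. -/
def j2 : Matrix (Fin 6) ((Fin 2 ⊕ Fin 2) ⊕ Fin 2) (ZMod 2) :=
  (!![0, 0, 0, 1, 0, 0; 0, 1, 0, 0, 0, 1; 0, 1, 1, 0, 0, 1; 1, 0, 0, 0, 1, 0; 0, 0, 0, 1, 1, 0;
    1, 0, 1, 0, 1, 1] : Matrix (Fin 6) (Fin 6) (ZMod 2)).submatrix id i2

/-- The fixed vector modulo three. -/
def r3 : Fin 6 → ZMod 3 := ![1, 0, 2, 0, 1, 2]

/-- To the coordinates modulo three. -/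
def a3 : Matrix (Unit ⊕ (Fin 2 ⊕ Fin 2)) (Fin 6) (ZMod 3) :=
  (!![0, 2, 2, 2, 1, 2; 2, 1, 0, 0, 1, 0; 0, 0, 1, 1, 0, 2; 1, 1, 2, 0, 1, 0; 0, 2, 1, 1, 0, 2] :
    Matrix (Fin 5) (Fin 6) (ZMod 3)).submatrix i3 id

/-- From the coordinates modulo three. -/
def j3 : Matrix (Fin 6) (Unit ⊕ (Fin 2 ⊕ Fin 2)) (ZMod 3) :=
  (!![0, 0, 0, 0, 0; 0, 0, 1, 0, 2; 0, 1, 0, 2, 0; 1, 1, 1, 1, 1; 0, 1, 2, 0, 1; 1, 2, 0, 0, 1] :
    Matrix (Fin 6) (Fin 5) (ZMod 3)).submatrix id i3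

/-- Reduction modulo two. -/
def m2 (g : Matrix (Fin 6) (Fin 6) ℤ) :
    Matrix ((Fin 2 ⊕ Fin 2) ⊕ Fin 2) ((Fin 2 ⊕ Fin 2) ⊕ Fin 2) (ZMod 2) :=
  a2 * (Int.castRingHom (ZMod 2)).mapMatrix g * j2

/-- Reduction modulo three. -/
def m3 (g : Matrix (Fin 6) (Fin 6) ℤ) :
    Matrix (Unit ⊕ (Fin 2 ⊕ Fin 2)) (Unit ⊕ (Fin 2 ⊕ Fin 2)) (ZMod 3) :=
  a3 * (Int.castRingHom (ZMod 3)).mapMatrix g * j3

theorem a2_j2 : a2 * j2 = 1 := by decide +kernel

theorem j2_a2 : j2 * a2 = 1 := by decide +kernel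

theorem a3_j3 : a3 * j3 = 1 := by decide +kernel

theorem j3_a3 : j3 * a3 + Matrix.vecMulVec r3 (Pi.single 0 1) = 1 := by decide +kernel

theorem a3_r3 : a3 *ᵥ r3 = 0 := by decide +kernel

theorem m2_mul (g h : Matrix (Fin 6) (Fin 6) ℤ) : m2 (g * h) = m2 g * m2 h := by
  simp only [m2, map_mul, Matrix.mul_assoc]
  rw [← Matrix.mul_assoc j2 a2, j2_a2, Matrix.one_mul]

theorem m2_one : m2 1 = 1 := by rw [m2, map_one, Matrix.mul_one, a2_j2]

theorem m3_one : m3 1 = 1 := by rw [m3, map_one, Matrix.mul_one, a3_j3]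

theorem m3_mul {g : Matrix (Fin 6) (Fin 6) ℤ}
    (hg : (Int.castRingHom (ZMod 3)).mapMatrix g *ᵥ r3 = r3) (h : Matrix (Fin 6) (Fin 6) ℤ) :
    m3 (g * h) = m3 g * m3 h := by
  have h1 : a3 * (Int.castRingHom (ZMod 3)).mapMatrix g * (j3 * a3) =
      a3 * (Int.castRingHom (ZMod 3)).mapMatrix g := by
    rw [eq_sub_of_add_eq j3_a3, Matrix.mul_sub, Matrix.mul_one, Matrix.mul_vecMulVec,
      ← Matrix.mulVec_mulVec, hg, a3_r3]
    simp
  simp only [m3, map_mul, ← Matrix.mul_assoc] at h1 ⊢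
  rw [h1]

/-- The two forms. -/
abbrev q2 : ((Fin 2 ⊕ Fin 2) ⊕ Fin 2 → ZMod 2) → ZMod 2 := Cfsg.quadFormMinus 2 (ZMod 2) 1 1

/-- The odd form. -/
abbrev q3 : (Unit ⊕ (Fin 2 ⊕ Fin 2) → ZMod 3) → ZMod 3 := Cfsg.quadFormOdd 2 (ZMod 3)

theorem gen_facts : ∀ i, (refl i)ᵀ * gram * refl i = gram ∧
    (Int.castRingHom (ZMod 3)).mapMatrix (refl i) *ᵥ r3 = r3 := by decide +kernel

theorem gen_q2 : ∀ i x, q2 (m2 (refl i) *ᵥ x) = q2 x := by decide +kernel

theorem gen_q3 : ∀ i x, q3 (m3 (refl i) *ᵥ x) = q3 x := by decide +kernel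

/-- The invariants of the group. -/
def Good (g : Matrix (Fin 6) (Fin 6) ℤ) : Prop :=
  gᵀ * gram * g = gram ∧ (Int.castRingHom (ZMod 3)).mapMatrix g *ᵥ r3 = r3 ∧
    (∀ x, q2 (m2 g *ᵥ x) = q2 x) ∧ ∀ x, q3 (m3 g *ᵥ x) = q3 x

theorem good (g : Γ) : Good ((g : GL (Fin 6) ℤ) : Matrix (Fin 6) (Fin 6) ℤ) := by
  obtain ⟨g, hg⟩ := g
  show Good (g : Matrix (Fin 6) (Fin 6) ℤ)
  induction hg using Subgroup.closure_induction with
  | mem x hx =>
      obtain ⟨i, rfl⟩ := hx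
      exact ⟨(gen_facts i).1, (gen_facts i).2, gen_q2 i, gen_q3 i⟩
  | one =>
      refine ⟨by simp, by simp, fun x => ?_, fun x => ?_⟩
      · rw [Units.val_one, m2_one, Matrix.one_mulVec]
      · rw [Units.val_one, m3_one, Matrix.one_mulVec]
  | mul x y _ _ hx hy =>
      obtain ⟨x1, x2, x3, x4⟩ := hx
      obtain ⟨y1, y2, y3, y4⟩ := hy
      refine ⟨?_, ?_, fun v => ?_, fun v => ?_⟩
      · rw [Units.val_mul, Matrix.transpose_mul]
        conv_rhs => rw [← y1, ← x1]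
        simp only [Matrix.mul_assoc]
      · rw [Units.val_mul, map_mul, ← Matrix.mulVec_mulVec, y2, x2]
      · rw [Units.val_mul, m2_mul, ← Matrix.mulVec_mulVec, x3, y3]
      · rw [Units.val_mul, m3_mul x2, ← Matrix.mulVec_mulVec, x4, y4]
  | inv x _ hx =>
      obtain ⟨x1, x2, x3, x4⟩ := hx
      have hr : (Int.castRingHom (ZMod 3)).mapMatrix (x⁻¹ : GL (Fin 6) ℤ).1 *ᵥ r3 = r3 := by
        conv_lhs => rw [← x2, Matrix.mulVec_mulVec, ← map_mul, Units.inv_mul, map_one, Matrix.one_mulVec]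
      refine ⟨?_, hr, fun v => ?_, fun v => ?_⟩
      · conv_lhs => rw [← x1]
        rw [show (x⁻¹ : GL (Fin 6) ℤ).1ᵀ * (x.1ᵀ * gram * x.1) * (x⁻¹ : GL (Fin 6) ℤ).1 =
          (x.1 * (x⁻¹ : GL (Fin 6) ℤ).1)ᵀ * gram * (x.1 * (x⁻¹ : GL (Fin 6) ℤ).1) by
            simp only [Matrix.transpose_mul, Matrix.mul_assoc], Units.mul_inv]
        simp
      · rw [← x3, Matrix.mulVec_mulVec, ← m2_mul, Units.mul_inv, m2_one, Matrix.one_mulVec]
      · rw [← x4, Matrix.mulVec_mulVec, ← m3_mul x2, Units.mul_inv, m3_one, Matrix.one_mulVec]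

/-- Reduction modulo two as a homomorphism. -/
def h2 : Γ →* Cfsg.isometryGroup (ZMod 2) q2 :=
  (MonoidHom.toHomUnits
    { toFun := fun g : Γ => m2 ((g : GL (Fin 6) ℤ) : Matrix (Fin 6) (Fin 6) ℤ)
      map_one' := m2_one
      map_mul' := fun a b => m2_mul _ _ }).codRestrict _ fun g x _ => (good g).2.2.1 x

/-- Reduction modulo three as a homomorphism. -/
def h3 : Γ →* Cfsg.isometryGroup (ZMod 3) q3 :=
  (MonoidHom.toHomUnits
    { toFun := fun g : Γ => m3 ((g : GL (Fin 6) ℤ) : Matrix (Fin 6) (Fin 6) ℤ)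
      map_one' := m3_one
      map_mul' := fun a b => m3_mul (good a).2.1 _ }).codRestrict _ fun g x _ => (good g).2.2.2 x

theorem h2_injective : Function.Injective h2 := by
  refine (injective_iff_map_eq_one h2).2 fun g hg => ?_
  set A := ((g : GL (Fin 6) ℤ) : Matrix (Fin 6) (Fin 6) ℤ) with hA
  have hm : m2 A = 1 := congrArg (fun x : Cfsg.isometryGroup (ZMod 2) q2 =>
    ((x : GL ((Fin 2 ⊕ Fin 2) ⊕ Fin 2) (ZMod 2)) :
      Matrix ((Fin 2 ⊕ Fin 2) ⊕ Fin 2) ((Fin 2 ⊕ Fin 2) ⊕ Fin 2) (ZMod 2))) hg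
  have hmod : (Int.castRingHom (ZMod 2)).mapMatrix A = 1 := by
    have := congrArg (fun X => j2 * X * a2) hm
    simp only [m2, Matrix.mul_one, ← Matrix.mul_assoc, j2_a2, Matrix.one_mul] at this
    rw [Matrix.mul_assoc, j2_a2, Matrix.mul_one] at this
    exact this
  obtain ⟨hG, hr, -, -⟩ := good g
  rw [← hA] at hG hr
  have hcol : ∀ i j, (fun k => A k i) ⬝ᵥ gram *ᵥ (fun k => A k j) = gram i j := fun i j => by
    conv_rhs => rw [← hG]
    rw [Matrix.mul_assoc, Matrix.mul_apply_eq_vecMul]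
    simp [Matrix.vecMul, dotProduct, Matrix.mulVec, Matrix.mul_apply]
  have hqe : ∀ i, qz (fun k => if k = i then 1 else 0) = 1 := by decide +kernel
  have hpm : ∀ i, (∀ k, A k i = if k = i then 1 else 0) ∨ ∀ k, A k i = -(if k = i then 1 else 0) := by
    intro i
    have hw : ∀ k, ∃ w, A k i = (if k = i then 1 else 0) + 2 * w := fun k => by
      have h := congrFun (congrFun hmod k) i
      simp only [RingHom.mapMatrix_apply, Matrix.map_apply, Int.coe_castRingHom, Matrix.one_apply] at h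
      obtain ⟨w, hw⟩ : (2 : ℤ) ∣ A k i - (if k = i then 1 else 0) := by
        refine (ZMod.intCast_zmod_eq_zero_iff_dvd _ 2).1 ?_
        rw [Int.cast_sub, h]
        split_ifs <;> simp
      exact ⟨w, by linarith⟩
    choose w hw using hw
    have hn := hcol i i
    rw [dot_gram, show gram i i = 2 by fin_cases i <;> rfl,
      show (fun k => A k i) = fun k => (if k = i then 1 else 0) + 2 * w k from funext hw] at hn
    have hid : qz (fun k => (if k = i then 1 else 0) + 2 * w k) =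
        2 * qz (fun k => (if k = i then 1 else 0) + w k) + 2 * qz w - qz (fun k => if k = i then 1 else 0) := by
      simp only [qz]; ring
    rw [hqe] at hid
    have h1 := qz_nonneg w
    have h2 := qz_nonneg (fun k => (if k = i then 1 else 0) + w k)
    rcases (show qz w = 0 ∨ qz (fun k => (if k = i then 1 else 0) + w k) = 0 by omega) with e | e
    · exact Or.inl fun k => by rw [hw, congrFun (qz_eq_zero e) k]; simp
    · refine Or.inr fun k => ?_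
      have := congrFun (qz_eq_zero e) k
      rw [hw]
      simp only [Pi.zero_apply] at this
      omega
  have hdiag : ∀ i k, A k i = A i i * (if k = i then 1 else 0) := fun i k => by
    rcases hpm i with h | h <;> rw [h k, h i] <;> split_ifs <;> simp_all
  have hadj : ∀ i j, gram i j = -1 → A i i = A j j := fun i j hij => by
    have h := hcol i j
    rw [show (fun k => A k i) = A i i • (Pi.single i 1 : Fin 6 → ℤ) from funext fun k => by
        rw [hdiag i k]; simp [Pi.single_apply],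
      show (fun k => A k j) = A j j • (Pi.single j 1 : Fin 6 → ℤ) from funext fun k => by
        rw [hdiag j k]; simp [Pi.single_apply],
      Matrix.mulVec_smul, smul_dotProduct, dotProduct_smul, Matrix.mulVec_single_one,
      single_one_dotProduct, Matrix.col_apply, hij] at h
    rcases hpm i with e | e <;> rcases hpm j with e' | e' <;>
      have ei := e i <;> have ej := e' j <;> simp at ei ej <;> simp [ei, ej] at h ⊢
  have e2 : A 2 2 = A 0 0 := (hadj 0 2 rfl).symm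
  have e3 : A 3 3 = A 0 0 := (hadj 2 3 rfl).symm.trans e2
  have e1 : A 1 1 = A 0 0 := (hadj 1 3 rfl).trans e3
  have e4 : A 4 4 = A 0 0 := (hadj 3 4 rfl).symm.trans e3
  have e5 : A 5 5 = A 0 0 := (hadj 4 5 rfl).symm.trans e4
  have h0 : A 0 0 = 1 := by
    rcases hpm 0 with e | e
    · simpa using e 0
    · exfalso
      have := congrFun hr 0
      have e0 := e 0
      simp at e0
      simp [Matrix.mulVec, dotProduct, Fin.sum_univ_six, hdiag 1 0, hdiag 2 0, hdiag 3 0,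
        hdiag 4 0, hdiag 5 0, e0, r3] at this
      exact absurd this (by decide)
  refine Subtype.ext (Units.ext (Matrix.ext fun k i => ?_))
  show A k i = (1 : Matrix (Fin 6) (Fin 6) ℤ) k i
  rw [hdiag, show A i i = 1 by fin_cases i <;> simp [h0, e1, e2, e3, e4, e5], one_mul, Matrix.one_apply]

/-- The orbit of the fundamental roots modulo two. -/
def vecs : Fin 36 → Fin 6 → ZMod 2 :=
  ![![1, 0, 0, 1, 1, 0],
    ![0, 0, 1, 0, 0, 1],
    ![0, 1, 1, 0, 0, 1],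
    ![1, 1, 0, 0, 0, 1],
    ![1, 0, 0, 0, 1, 0],
    ![0, 1, 0, 0, 0, 1],
    ![1, 1, 1, 1, 1, 1],
    ![1, 1, 1, 0, 0, 0],
    ![1, 0, 1, 0, 0, 0],
    ![0, 1, 0, 0, 1, 1],
    ![1, 1, 0, 0, 1, 1],
    ![0, 0, 1, 1, 1, 0],
    ![1, 0, 0, 0, 0, 1],
    ![0, 1, 1, 0, 1, 0],
    ![0, 0, 1, 0, 1, 0],
    ![0, 0, 0, 0, 1, 0],
    ![0, 0, 0, 1, 1, 1],
    ![1, 0, 1, 1, 0, 0],
    ![0, 0, 0, 0, 1, 1],
    ![0, 0, 1, 0, 1, 1],
    ![0, 1, 1, 0, 1, 1],
    ![1, 0, 0, 1, 0, 1],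
    ![1, 1, 1, 1, 0, 1],
    ![1, 1, 0, 0, 1, 0],
    ![0, 1, 0, 0, 1, 0],
    ![0, 1, 0, 1, 0, 0],
    ![1, 1, 0, 1, 0, 0],
    ![1, 0, 0, 0, 1, 1],
    ![0, 0, 1, 1, 0, 1],
    ![0, 0, 0, 1, 0, 1],
    ![0, 0, 0, 0, 0, 1],
    ![0, 1, 1, 1, 0, 0],
    ![1, 0, 0, 1, 1, 1],
    ![1, 1, 1, 1, 1, 0],
    ![0, 0, 1, 1, 1, 1],
    ![0, 0, 0, 1, 1, 0]]

/-- The parent of a root. -/
def par : Fin 36 → Fin 36 × Fin 6 :=
  ![(0, 0), (1, 1), (2, 2), (3, 3), (4, 4), (5, 5), (0, 2), (1, 3), (2, 3), (3, 4), (4, 5), (6, 3), (7, 2), (7, 4), (8, 4), (9, 5), (11, 1), (11, 4), (12, 4), (13, 5), (14, 5), (16, 4), (17, 5), (18, 3), (18, 5), (21, 3), (21, 5), (23, 5), (25, 2), (25, 5), (27, 4), (28, 5), (29, 4), (31, 4), (33, 3), (34, 1)]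

/-- The vector of the table in coordinates. -/
def vec (j : Fin 36) : (Fin 2 ⊕ Fin 2) ⊕ Fin 2 → ZMod 2 := fun s => vecs j (i2 s)

theorem orbit_facts : ∀ j : Fin 36, ((j : ℕ) < 6 ∧ q2 (vec j) = 1 ∧ ∀ x,
      m2 (refl (par j).2) *ᵥ x = x - (q2 (vec j + x) - q2 (vec j) - q2 x) • vec j) ∨
    ((par j).1 < j ∧ m2 (refl (par j).2) *ᵥ vec (par j).1 = vec j) := by decide +kernel

theorem orbit_all : ∀ v, q2 v ≠ 0 → ∃ j, vec j = v := by decide +kernel

theorem h2_surjective : Function.Surjective h2 := by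
  obtain ⟨Q, hQ, hB⟩ := exists_quadForm_minus (F := ZMod 2) 2 (a := 1) (b := 1) (by decide)
  have key : ∀ (n : ℕ) (j : Fin 36), (j : ℕ) = n →
      ∃ γ : Γ, q2 (vec j) ≠ 0 ∧ ∀ x : (Fin 2 ⊕ Fin 2) ⊕ Fin 2 → ZMod 2,
        m2 ((γ : GL (Fin 6) ℤ) : Matrix (Fin 6) (Fin 6) ℤ) *ᵥ x =
          x - (q2 (vec j + x) - q2 (vec j) - q2 x) • vec j := by
    intro n
    induction n using Nat.strong_induction_on with
    | _ n ih =>
      intro j hj
      let s : Γ := ⟨gen (par j).2, Subgroup.subset_closure ⟨_, rfl⟩⟩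
      rcases orbit_facts j with ⟨-, hv, hx⟩ | ⟨hlt, hv⟩
      · exact ⟨s, by rw [hv]; decide, hx⟩
      obtain ⟨γ, hγ0, hγ⟩ := ih _ (hj ▸ hlt) (par j).1 rfl
      have hs : ∀ y, q2 (m2 (refl (par j).2) *ᵥ y) = q2 y := gen_q2 _
      refine ⟨s * γ * s, by rw [← hv, hs]; exact hγ0, fun x => ?_⟩
      show m2 (refl (par j).2 * ((γ : GL (Fin 6) ℤ) : Matrix (Fin 6) (Fin 6) ℤ) * refl (par j).2) *ᵥ x = _
      rw [m2_mul, m2_mul, ← Matrix.mulVec_mulVec, ← Matrix.mulVec_mulVec, hγ, Matrix.mulVec_sub,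
        Matrix.mulVec_smul, Matrix.mulVec_mulVec, ← m2_mul, refl_sq, m2_one, Matrix.one_mulVec, ← hv]
      refine congrArg (fun c : ZMod 2 => x - c • _) ?_
      rw [hs, ← hs (vec (par j).1 + _), Matrix.mulVec_add, Matrix.mulVec_mulVec, ← m2_mul, refl_sq,
        m2_one, Matrix.one_mulVec, hs]
  have hsur : ∀ g : Grp Q, g.1 ∈ Set.range fun γ => (h2 γ).1 := by
    intro g
    have hg : g ∈ Refl Q := by rw [refl_eq_top hB (by simp)]; trivial
    induction hg using Subgroup.closure_induction with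
    | mem r hr =>
        obtain ⟨v, hv0, hv⟩ := hr
        rw [hQ] at hv0
        obtain ⟨j, rfl⟩ := orbit_all v hv0
        obtain ⟨γ, -, hγ⟩ := key _ j rfl
        refine ⟨γ, Units.ext (Matrix.ext_of_mulVec_single fun i => ?_)⟩
        show m2 ((γ : GL (Fin 6) ℤ) : Matrix (Fin 6) (Fin 6) ℤ) *ᵥ _ = ap r _
        rw [hv, hγ, show (Q (vec j))⁻¹ = 1 by
          rcases (show ∀ t : ZMod 2, t = 0 ∨ t = 1 by decide) (Q (vec j)) with e | e
          · exact absurd (hQ ▸ e) hv0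
          · rw [e, inv_one], one_mul]
        rw [QuadraticMap.polar, hQ]
    | one => exact ⟨1, congrArg Subtype.val (map_one h2)⟩
    | mul x y _ _ hx hy =>
        obtain ⟨a, ha⟩ := hx
        obtain ⟨b, hb⟩ := hy
        exact ⟨a * b, by show (h2 (a * b)).1 = x.1 * y.1; rw [map_mul, Subgroup.coe_mul]; exact congrArg₂ _ ha hb⟩
    | inv x _ hx =>
        obtain ⟨a, ha⟩ := hx
        exact ⟨a⁻¹, by show (h2 a⁻¹).1 = x.1⁻¹; rw [map_inv, Subgroup.coe_inv]; exact congrArg _ ha⟩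
  intro g
  obtain ⟨γ, hγ⟩ := hsur ⟨g.1, by rw [hQ]; exact g.2⟩
  exact ⟨γ, Subtype.ext hγ⟩

/-- The reflections in the group. -/
def sgen (i : Fin 6) : Γ := ⟨gen i, Subgroup.subset_closure ⟨i, rfl⟩⟩

theorem two_ne : (2 : ZMod 3) ≠ 0 := by decide

theorem h3_noncomm : h3 (⁅(sgen 0), (sgen 2)⁆ *
      ⁅(sgen 3), (sgen 4)⁆) ≠
    h3 (⁅(sgen 3), (sgen 4)⁆ *
      ⁅(sgen 0), (sgen 2)⁆) := by
  intro h
  have h' : m3 (refl 0 * refl 2 * refl 0 * refl 2 * (refl 3 * refl 4 * refl 3 * refl 4)) =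
      m3 (refl 3 * refl 4 * refl 3 * refl 4 * (refl 0 * refl 2 * refl 0 * refl 2)) :=
    congrArg (fun x : Cfsg.isometryGroup (ZMod 3) q3 =>
      ((x : GL (Unit ⊕ (Fin 2 ⊕ Fin 2)) (ZMod 3)) :
        Matrix (Unit ⊕ (Fin 2 ⊕ Fin 2)) (Unit ⊕ (Fin 2 ⊕ Fin 2)) (ZMod 3))) h
  exact (by decide +kernel : m3 (refl 0 * refl 2 * refl 0 * refl 2 * (refl 3 * refl 4 * refl 3 * refl 4)) ≠
      m3 (refl 3 * refl 4 * refl 3 * refl 4 * (refl 0 * refl 2 * refl 0 * refl 2))) h'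

theorem card_O6 : Nat.card (Cfsg.isometryGroup (ZMod 2) q2) = 51840 := by
  obtain ⟨Q, hQ, hB⟩ := exists_quadForm_minus (F := ZMod 2) 2 (a := 1) (b := 1) (by decide)
  have h := card_orth_minus 3 (by norm_num) (a := (1 : ZMod 2)) (b := 1) (by decide) hQ hB
  have e : Nat.card (Grp Q) = Nat.card (Cfsg.isometryGroup (ZMod 2) q2) := by
    show Nat.card (Cfsg.isometryGroup (ZMod 2) ⇑Q) = _
    rw [hQ]
  rw [← e, h, Nat.card_zmod]
  rfl

theorem card_O5 : Nat.card (Cfsg.isometryGroup (ZMod 3) q3) = 103680 := by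
  haveI : Fact (Nat.Prime 3) := ⟨by norm_num⟩
  obtain ⟨Q, hQ, hB⟩ := exists_quadForm_odd (F := ZMod 3) two_ne 2
  have h := card_orth_odd (F := ZMod 3) two_ne 2 hQ hB
  have e : Nat.card (Grp Q) = Nat.card (Cfsg.isometryGroup (ZMod 3) q3) := by
    show Nat.card (Cfsg.isometryGroup (ZMod 3) ⇑Q) = _
    rw [hQ]
  rw [← e, h, Nat.card_zmod]
  rfl

theorem index_O6 : (Cfsg.Omega (ZMod 2) q2).index = 2 := by
  obtain ⟨Q, hQ, hB⟩ := exists_quadForm_minus (F := ZMod 2) 2 (a := 1) (b := 1) (by decide)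
  have h := index_omega_two hB (by decide) (by simp) (by simp)
  rwa [hQ] at h

theorem index_O5 : (Cfsg.Omega (ZMod 3) q3).index = 4 := by
  haveI : Fact (Nat.Prime 3) := ⟨by norm_num⟩
  obtain ⟨Q, hQ, hB⟩ := exists_quadForm_odd (F := ZMod 3) two_ne 2
  have h := index_omega_odd hB two_ne (by simp)
  rwa [hQ] at h

/-- Ring isomorphisms carry the derived isometry groups across. -/
theorem pomega_transfer {F K : Type*} [Field F] [Field K] {ι : Type} [Fintype ι] [DecidableEq ι]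
    (φ : F ≃+* K) (QF : (ι → F) → F) (QK : (ι → K) → K) (h : ∀ v, φ (QF v) = QK (φ ∘ v)) :
    Nonempty (Cfsg.POmega F QF ≃* Cfsg.POmega K QK) := by
  obtain ⟨e⟩ := SymmOrth.iso_transfer φ QF QK h
  have hm : (Cfsg.Omega F QF).map e.toMonoidHom = Cfsg.Omega K QK := by
    show (commutator _).map _ = commutator _
    rw [commutator_def, Subgroup.map_commutator, Subgroup.map_top_of_surjective _ e.surjective,
      ← commutator_def]
  let e' := (Subgroup.equivMapOfInjective _ e.toMonoidHom e.injective).trans (MulEquiv.subgroupCongr hm)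
  exact ⟨QuotientGroup.congr _ _ e' (by
    ext x
    rw [Subgroup.mem_map]
    constructor
    · rintro ⟨y, hy, rfl⟩
      refine Subgroup.mem_center_iff.2 fun z => ?_
      obtain ⟨z, rfl⟩ := e'.surjective z
      show e' z * e' y = e' y * e' z
      rw [← map_mul, ← map_mul, Subgroup.mem_center_iff.1 hy z]
    · intro hx
      refine ⟨e'.symm x, Subgroup.mem_center_iff.2 fun z => ?_, e'.apply_symm_apply x⟩
      apply e'.injective
      rw [map_mul, map_mul, MulEquiv.apply_symm_apply, Subgroup.mem_center_iff.1 hx (e' z)])⟩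

theorem aniso_two : ∀ z₁ z₂ : ZMod 2, z₁ ^ 2 + 1 * z₁ * z₂ + 1 * z₂ ^ 2 = 0 → z₁ = 0 ∧ z₂ = 0 := by
  decide

theorem psu_four_two {F K : Type*} [Field F] [Fintype F] [Field K] [Fintype K]
    (hF : Fintype.card F = 4) (hK : Fintype.card K = 3) :
    Nonempty (Cfsg.PSU 4 F 2 ≃* Cfsg.PSp 2 K) := by
  classical
  haveI : Fact (Nat.Prime 2) := ⟨Nat.prime_two⟩
  haveI : Fact (Nat.Prime 3) := ⟨by norm_num⟩
  obtain ⟨e6⟩ := KleinSix.pomega_six_minus (F := ZMod 2) (K := F) (q := 2) (ZMod.card 2)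
    (by rw [hF]; norm_num) 1 1 aniso_two
  let φ : ZMod 3 ≃+* K := ZMod.ringEquivOfPrime K (by norm_num) hK
  obtain ⟨e5⟩ := KleinFive.pomega_five (F := K) (by rw [hK]; decide)
  obtain ⟨e53⟩ := pomega_transfer φ q3 (Cfsg.quadFormOdd 2 K) fun v => by
    simp [q3, Cfsg.quadFormOdd, Fin.sum_univ_two]
  -- the simple group
  obtain ⟨C⟩ := Herm.exists_conj_of_card (F := F) (q := 2) (by rw [hF]; norm_num)
  obtain ⟨p, hp⟩ := CharP.exists F
  have := Fact.mk (CharP.char_is_prime F p)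
  have hsim : IsSimpleGroup (Cfsg.PSU 4 F 2) :=
    Herm.isSimpleGroup C p (by norm_num) (by norm_num)
  have hc6 : Nat.card (Cfsg.Omega (ZMod 2) q2) = 25920 := by
    have h := Subgroup.index_mul_card (Cfsg.Omega (ZMod 2) q2)
    rw [index_O6, card_O6] at h
    omega
  have hsu : Nat.card (Cfsg.PSU 4 F 2) = 25920 := by
    have h1 := Subgroup.card_eq_card_quotient_mul_card_subgroup (Subgroup.center (Cfsg.SU 4 F 2))
    rw [Herm.card_center C (by norm_num : 2 ≤ 4), show Nat.gcd 4 (2 + 1) = 1 by decide, mul_one] at h1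
    have h2 := Herm.card_SU C (n := 4) (by norm_num)
    rw [Herm.card_GU C, h1] at h2
    simp [-Nat.card_eq_fintype_card, Finset.prod_range_succ, Nat.even_iff] at h2
    show Nat.card (Cfsg.SU 4 F 2 ⧸ Subgroup.center (Cfsg.SU 4 F 2)) = _
    omega
  have hbot : Subgroup.center (Cfsg.Omega (ZMod 2) q2) = ⊥ := by
    have h := Subgroup.card_eq_card_quotient_mul_card_subgroup (Subgroup.center (Cfsg.Omega (ZMod 2) q2))
    rw [hc6, Nat.card_congr e6.toEquiv, hsu] at h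
    exact Subgroup.eq_bot_of_card_eq _ (by omega)
  let eΩ : Cfsg.Omega (ZMod 2) q2 ≃* Cfsg.PSU 4 F 2 :=
    (((QuotientGroup.quotientMulEquivOfEq hbot).trans QuotientGroup.quotientBot).symm).trans e6
  have hsimΩ : IsSimpleGroup (Cfsg.Omega (ZMod 2) q2) := eΩ.isSimpleGroup
  let e2 : Γ ≃* Cfsg.isometryGroup (ZMod 2) q2 := MulEquiv.ofBijective h2 ⟨h2_injective, h2_surjective⟩
  let ρ : Cfsg.isometryGroup (ZMod 2) q2 →* Cfsg.isometryGroup (ZMod 3) q3 := h3.comp e2.symm.toMonoidHom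
  have hρ : (Cfsg.Omega (ZMod 2) q2).map ρ ≤ Cfsg.Omega (ZMod 3) q3 := by
    show (commutator _).map _ ≤ commutator _
    rw [commutator_def, commutator_def, Subgroup.map_commutator]
    exact Subgroup.commutator_mono le_top le_top
  let χ : Cfsg.Omega (ZMod 2) q2 →* Cfsg.POmega (ZMod 3) q3 :=
    (QuotientGroup.mk' _).comp ((ρ.comp (Cfsg.Omega (ZMod 2) q2).subtype).codRestrict _
      fun g => hρ ⟨g.1, g.2, rfl⟩)
  have hne : χ.ker ≠ ⊤ := fun htop => by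
    refine h3_noncomm ?_
    let a : Γ := ⁅(sgen 0), (sgen 2)⁆
    let b : Γ := ⁅(sgen 3), (sgen 4)⁆
    have hmem : ∀ x y : Γ, e2 ⁅x, y⁆ ∈ Cfsg.Omega (ZMod 2) q2 := fun x y => by
      rw [map_commutatorElement]
      exact Subgroup.commutator_mem_commutator (Subgroup.mem_top _) (Subgroup.mem_top _)
    have hk : χ ⟨e2 a, hmem _ _⟩ = 1 := MonoidHom.mem_ker.1 (htop ▸ Subgroup.mem_top _)
    have hc := Subgroup.mem_center_iff.1 ((QuotientGroup.eq_one_iff _).1 hk)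
      ((ρ.comp (Cfsg.Omega (ZMod 2) q2).subtype).codRestrict _
        (fun g => hρ ⟨g.1, g.2, rfl⟩) ⟨e2 b, hmem _ _⟩)
    have hc' : ρ (e2 b) * ρ (e2 a) = ρ (e2 a) * ρ (e2 b) := congrArg Subtype.val hc
    simp only [ρ, MonoidHom.comp_apply, MulEquiv.coe_toMonoidHom, MulEquiv.symm_apply_apply] at hc'
    show h3 (a * b) = h3 (b * a)
    rw [map_mul, map_mul]
    exact hc'.symm
  have hinj : Function.Injective χ := by
    rw [← MonoidHom.ker_eq_bot_iff]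
    exact (hsimΩ.eq_bot_or_eq_top_of_normal χ.ker inferInstance).resolve_right hne
  have hc5 : Nat.card (Cfsg.POmega (ZMod 3) q3) ≤ 25920 := by
    have h := Subgroup.index_mul_card (Cfsg.Omega (ZMod 3) q3)
    rw [index_O5, card_O5] at h
    exact (Nat.card_le_card_of_surjective _ (QuotientGroup.mk'_surjective _)).trans (by omega)
  have hcard := Nat.card_le_card_of_injective χ hinj
  let eχ := MulEquiv.ofBijective χ ((Nat.bijective_iff_injective_and_card χ).2 ⟨hinj, by omega⟩)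
  exact ⟨eΩ.symm.trans (eχ.trans (e53.trans e5))⟩

end CfsgLib.Classical.LatticeSix
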