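import Cfsg.Agent.Lib.Classical.IsoProd
import Cfsg.Agent.Lib.Classical.WittExtension

set_option autoImplicit false

/-!
Numbers of totally isotropic lines.
-/

namespace CfsgLib.Classical.LineCount

open Matrix Cfsg

section General

variable {F V : Type*} [Field F] [Finite F] [AddCommGroup V] [Module F V] [FiniteDimensional F V]

omit [Finite F] [FiniteDimensional F V] in
theorem span_pair (s : Fin 2 → V) : Submodule.span F (Set.range s) = Submodule.span F {s 0, s 1} := by
  congr 1
  ext x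
  simp [Fin.exists_fin_two, eq_comm]

theorem card_frames (P : Submodule F V → Prop) :
    Nat.card {W : Submodule F V // Module.finrank F W = 2 ∧ P W} *
        ((Nat.card F ^ 2 - 1) * (Nat.card F ^ 2 - Nat.card F)) =
      Nat.card {s : Fin 2 → V // LinearIndependent F s ∧ P (Submodule.span F (Set.range s))} := by
  classical
  cases nonempty_fintype F
  have : Finite V := Module.finite_of_finite F
  let T := {W : Submodule F V // Module.finrank F W = 2 ∧ P W}
  have hsp : ∀ (W : T) (t : Fin 2 → V), LinearIndependent F t → (∀ i, t i ∈ W.1) →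
      Submodule.span F (Set.range t) = W.1 := fun W t ht hm =>
    Submodule.eq_of_le_of_finrank_eq (Submodule.span_le.2 (by rintro _ ⟨i, rfl⟩; exact hm i))
      (((finrank_span_eq_card ht).trans (Fintype.card_fin 2)).trans W.2.1.symm)
  let e : {s : Fin 2 → V // LinearIndependent F s ∧ P (Submodule.span F (Set.range s))} ≃
      Σ W : T, {t : Fin 2 → V // LinearIndependent F t ∧ ∀ i, t i ∈ W.1} :=
    { toFun := fun s => ⟨⟨Submodule.span F (Set.range s.1),
          (finrank_span_eq_card s.2.1).trans (Fintype.card_fin 2), s.2.2⟩,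
        s.1, s.2.1, fun i => Submodule.subset_span ⟨i, rfl⟩⟩
      invFun := fun x => ⟨x.2.1, x.2.2.1, by rw [hsp x.1 _ x.2.2.1 x.2.2.2]; exact x.1.2.2⟩
      left_inv := fun s => rfl
      right_inv := fun x => Sigma.subtype_ext (Subtype.ext (hsp x.1 _ x.2.2.1 x.2.2.2)) rfl }
  have := Fintype.ofFinite T
  rw [Nat.card_congr e, Nat.card_sigma]
  have hfib : ∀ W : T, Nat.card {t : Fin 2 → V // LinearIndependent F t ∧ ∀ i, t i ∈ W.1} =
      (Nat.card F ^ 2 - 1) * (Nat.card F ^ 2 - Nat.card F) := fun W => by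
    rw [Nat.card_congr (β := {t : Fin 2 → W.1 // LinearIndependent F t})
      { toFun := fun t => ⟨fun i => ⟨t.1 i, t.2.2 i⟩, LinearIndependent.of_comp W.1.subtype t.2.1⟩
        invFun := fun t => ⟨fun i => (t.1 i : V), t.2.map' W.1.subtype W.1.ker_subtype, fun i => (t.1 i).2⟩
        left_inv := fun t => rfl
        right_inv := fun t => rfl },
      card_linearIndependent (K := F) (V := W.1) (k := 2) W.2.1.ge, W.2.1, Fin.prod_univ_two,
      Nat.card_eq_fintype_card]
    simp
  simp only [hfib, Finset.sum_const, Finset.card_univ, smul_eq_mul, ← Nat.card_eq_fintype_card]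
  rfl

theorem card_second (P : V → Prop) (Q : V → V → Prop) (c : ℕ)
    (hc : ∀ v, v ≠ 0 → P v → Nat.card {w : V // Q v w ∧ w ∉ Submodule.span F {v}} = c) :
    Nat.card {s : Fin 2 → V // LinearIndependent F s ∧ P (s 0) ∧ Q (s 0) (s 1)} =
      Nat.card {v : V // v ≠ 0 ∧ P v} * c := by
  classical
  have : Finite V := Module.finite_of_finite F
  let e : {s : Fin 2 → V // LinearIndependent F s ∧ P (s 0) ∧ Q (s 0) (s 1)} ≃
      Σ v : {v : V // v ≠ 0 ∧ P v}, {w : V // Q v.1 w ∧ w ∉ Submodule.span F {v.1}} :=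
    { toFun := fun s => ⟨⟨s.1 0, s.2.1.ne_zero 0, s.2.2.1⟩, s.1 1, s.2.2.2, fun h => by
        obtain ⟨a, ha⟩ := Submodule.mem_span_singleton.1 h
        have hl := s.2.1
        rw [show s.1 = ![s.1 0, s.1 1] from funext fun i => by fin_cases i <;> rfl] at hl
        exact (LinearIndependent.pair_iff' (s.2.1.ne_zero 0)).1 hl a ha⟩
      invFun := fun x => ⟨![x.1.1, x.2.1], (LinearIndependent.pair_iff' x.1.2.1).2
        (fun a ha => x.2.2.2 (Submodule.mem_span_singleton.2 ⟨a, ha⟩)), x.1.2.2, x.2.2.1⟩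
      left_inv := fun s => Subtype.ext (funext fun i => by fin_cases i <;> rfl)
      right_inv := fun x => rfl }
  have := Fintype.ofFinite {v : V // v ≠ 0 ∧ P v}
  rw [Nat.card_congr e, Nat.card_sigma,
    Finset.sum_congr rfl (fun (v : {v : V // v ≠ 0 ∧ P v}) _ => hc v.1 v.2.1 v.2.2), Finset.sum_const,
    Finset.card_univ, smul_eq_mul, ← Nat.card_eq_fintype_card]

theorem card_diff_span {v : V} (hv : v ≠ 0) (S : Set V) (hS : ∀ a : F, a • v ∈ S) :
    Nat.card {w : V // w ∈ S ∧ w ∉ Submodule.span F {v}} = Nat.card S - Nat.card F := by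
  have : Finite V := Module.finite_of_finite F
  have h1 : Nat.card {w : V // w ∈ S ∧ w ∉ Submodule.span F {v}} =
      (S \ (Submodule.span F {v} : Set V)).ncard := Nat.card_coe_set_eq _
  have h2 : (Submodule.span F {v} : Set V).ncard = Nat.card F := by
    rw [← Nat.card_coe_set_eq]
    exact (Nat.card_congr (LinearEquiv.toSpanNonzeroSingleton F V v hv).toEquiv).symm
  rw [h1, Set.ncard_sdiff (fun w hw => by
    obtain ⟨a, rfl⟩ := Submodule.mem_span_singleton.1 hw
    exact hS a) (Set.toFinite _), h2, Nat.card_coe_set_eq]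

theorem card_through {v : V} (hv : v ≠ 0) (P : Submodule F V → Prop) :
    Nat.card {W : Submodule F V // Module.finrank F W = 2 ∧ v ∈ W ∧ P W} *
        (Nat.card F ^ 2 - Nat.card F) =
      Nat.card {w : V // P (Submodule.span F {v, w}) ∧ w ∉ Submodule.span F {v}} := by
  classical
  have : Finite V := Module.finite_of_finite F
  let T := {W : Submodule F V // Module.finrank F W = 2 ∧ v ∈ W ∧ P W}
  have hr : ∀ w, w ∉ Submodule.span F {v} → Module.finrank F (Submodule.span F ({v, w} : Set V)) = 2 := by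
    intro w hw
    have hl : LinearIndependent F ![v, w] :=
      (LinearIndependent.pair_iff' hv).2 fun a ha => hw (Submodule.mem_span_singleton.2 ⟨a, ha⟩)
    have := finrank_span_eq_card hl
    rw [span_pair, Matrix.cons_val_zero, Matrix.cons_val_one, Matrix.cons_val_fin_one, Fintype.card_fin] at this
    exact this
  have hspan : ∀ W : T, ∀ w ∈ W.1, w ∉ Submodule.span F {v} → Submodule.span F {v, w} = W.1 := by
    intro W w hw hn
    refine Submodule.eq_of_le_of_finrank_eq (Submodule.span_le.2 ?_) ((hr w hn).trans W.2.1.symm)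
    rintro x (rfl | rfl)
    · exact W.2.2.1
    · exact hw
  let e : {w : V // P (Submodule.span F {v, w}) ∧ w ∉ Submodule.span F {v}} ≃
      Σ W : T, {w : V // w ∈ W.1 ∧ w ∉ Submodule.span F {v}} :=
    { toFun := fun w => ⟨⟨Submodule.span F {v, w.1}, hr _ w.2.2,
          Submodule.subset_span (Set.mem_insert _ _), w.2.1⟩,
        w.1, Submodule.subset_span (Set.mem_insert_of_mem _ rfl), w.2.2⟩
      invFun := fun x => ⟨x.2.1, (hspan x.1 _ x.2.2.1 x.2.2.2).symm ▸ x.1.2.2.2, x.2.2.2⟩
      left_inv := fun w => rfl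
      right_inv := fun x => Sigma.subtype_ext (Subtype.ext (hspan x.1 _ x.2.2.1 x.2.2.2)) rfl }
  have := Fintype.ofFinite T
  rw [Nat.card_congr e, Nat.card_sigma]
  have hfib : ∀ W : T, Nat.card {w : V // w ∈ W.1 ∧ w ∉ Submodule.span F {v}} =
      Nat.card F ^ 2 - Nat.card F := fun W => by
    refine (card_diff_span hv (W.1 : Set V) fun a => W.1.smul_mem a W.2.2.1).trans ?_
    show Nat.card W.1 - _ = _
    rw [Module.natCard_eq_pow_finrank (K := F), W.2.1]
  simp only [hfib, Finset.sum_const, Finset.card_univ, smul_eq_mul, ← Nat.card_eq_fintype_card]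
  rfl

end General

section Symplectic

variable {F : Type*} [Field F] [Fintype F]

open IsoProd

local notation "V4" => (Fin 2 ⊕ Fin 2 → F)

theorem symp_perp_card {v : V4} (hv : v ≠ 0) :
    Nat.card {w : V4 // sympBilin 2 v w = 0 ∧ w ∉ Submodule.span F {v}} =
      Fintype.card F ^ 3 - Fintype.card F := by
  have hA := sympBilin_alt (F := F) 2
  have hne : sympBilin (F := F) 2 v ≠ 0 := fun h => hv (SympTrans.eq_zero_of_f v fun w => by
    rw [← sympBilin_apply, h]; rfl)
  have hr : LinearMap.range (sympBilin (F := F) 2 v) = ⊤ := by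
    rw [LinearMap.range_eq_top]
    exact LinearMap.surjective_iff_ne_zero.2 hne
  have hk := (sympBilin (F := F) 2 v).finrank_range_add_finrank_ker
  rw [hr, finrank_top, Module.finrank_self, Module.finrank_pi] at hk
  simp at hk
  rw [show Fintype.card F ^ 3 - Fintype.card F = Nat.card (LinearMap.ker (sympBilin (F := F) 2 v)) - Nat.card F by
    rw [Module.natCard_eq_pow_finrank (K := F), Nat.card_eq_fintype_card]
    congr 2
    omega]
  exact card_diff_span hv (LinearMap.ker (sympBilin (F := F) 2 v) : Set V4) fun a => by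
    simp [hA.self_eq_zero]

theorem iso_span_iff {v w : V4} : (∀ x ∈ Submodule.span F {v, w}, ∀ y ∈ Submodule.span F {v, w},
    sympForm 2 F x y = 0) ↔ sympBilin 2 v w = 0 := by
  have hA := sympBilin_alt (F := F) 2
  constructor
  · intro h
    rw [sympBilin_apply]
    exact h v (Submodule.subset_span (Set.mem_insert _ _)) w (Submodule.subset_span (Set.mem_insert_of_mem _ rfl))
  · intro h x hx y hy
    obtain ⟨a, b, rfl⟩ := Submodule.mem_span_pair.1 hx
    obtain ⟨c, d, rfl⟩ := Submodule.mem_span_pair.1 hy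
    rw [← sympBilin_apply]
    simp [hA.self_eq_zero, h, hA.isRefl _ _ h]

theorem symplectic_lines {q : ℕ} (hF : Fintype.card F = q) :
    Nat.card {W : Submodule F V4 // Module.finrank F W = 2 ∧ ∀ u ∈ W, ∀ v ∈ W, sympForm 2 F u v = 0} =
      (q + 1) * (q ^ 2 + 1) ∧
    ∀ v : V4, v ≠ 0 → Nat.card {W : Submodule F V4 // Module.finrank F W = 2 ∧ v ∈ W ∧
      ∀ u ∈ W, ∀ w ∈ W, sympForm 2 F u w = 0} = q + 1 := by
  classical
  subst hF
  set q := Fintype.card F
  have hq : 2 ≤ q := Fintype.one_lt_card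
  have hq1 : 1 ≤ q ^ 2 := Nat.one_le_pow _ _ (by omega)
  have hq2 : q ≤ q ^ 2 := Nat.le_self_pow two_ne_zero q
  have hq3 : q ≤ q ^ 3 := Nat.le_self_pow (by norm_num) q
  have hq4 : 1 ≤ q ^ 4 := Nat.one_le_pow _ _ (by omega)
  refine ⟨?_, fun v hv => ?_⟩
  · have h := card_frames (F := F) (V := V4) (fun W => ∀ u ∈ W, ∀ v ∈ W, sympForm 2 F u v = 0)
    have h2 := card_second (F := F) (V := V4) (fun _ => True) (fun v w => sympBilin 2 v w = 0)
      (q ^ 3 - q) fun v hv _ => symp_perp_card hv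
    have e : Nat.card {v : V4 // v ≠ 0 ∧ True} = q ^ 4 - 1 := by
      rw [Nat.card_congr (Equiv.subtypeEquivRight (q := fun v : V4 => ¬ v = 0) fun v => and_iff_left trivial),
        Nat.card_eq_fintype_card,
        Fintype.card_subtype_compl, Fintype.card_subtype_eq, Fintype.card_fun]
      simp [q]
    rw [e] at h2
    have e2 : Nat.card {s : Fin 2 → V4 // LinearIndependent F s ∧
        ∀ u ∈ Submodule.span F (Set.range s), ∀ v ∈ Submodule.span F (Set.range s), sympForm 2 F u v = 0} =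
        (q ^ 4 - 1) * (q ^ 3 - q) := by
      rw [← h2]
      refine Nat.card_congr (Equiv.subtypeEquivRight fun s => ?_)
      rw [span_pair, iso_span_iff, true_and]
    rw [e2, Nat.card_eq_fintype_card (α := F)] at h
    refine mul_right_cancel₀ (b := (q ^ 2 - 1) * (q ^ 2 - q)) ?_ ?_
    · have : q < q ^ 2 := by nlinarith
      exact Nat.mul_ne_zero (by omega) (by omega)
    rw [h]
    zify [hq1, hq2, hq3, hq4]
    ring
  · have h := card_through (F := F) hv (fun W => ∀ u ∈ W, ∀ v ∈ W, sympForm 2 F u v = 0)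
    rw [Nat.card_congr (Equiv.subtypeEquivRight (q := fun w : V4 => sympBilin 2 v w = 0 ∧ w ∉ Submodule.span F {v})
      fun w => and_congr_left' iso_span_iff), symp_perp_card hv,
      Nat.card_eq_fintype_card (α := F), show Fintype.card F = q from rfl] at h
    refine mul_right_cancel₀ (b := q ^ 2 - q) ?_ ?_
    · have : q < q ^ 2 := by nlinarith
      omega
    rw [h]
    zify [hq2, hq3]
    ring

end Symplectic

section Unitary

variable {F : Type*} [Field F] [Fintype F] {q : ℕ}

open IsoProd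
open CfsgLib.ClassicalAut (Unitary.Conj Unitary.herm_apply)
open CfsgLib.Classical.Herm (count count_zero_nat)

theorem perp_iso_card (K : Unitary.Conj F q) (k : ℕ) (v : Fin (k + 2) → F) (hv : v ≠ 0)
    (hvv : hermForm (k + 2) F q v v = 0) :
    Nat.card {w : Fin (k + 2) → F // hermForm (k + 2) F q w w = 0 ∧ hermForm (k + 2) F q w v = 0} =
      q ^ 2 * count K k 0 := by
  obtain ⟨c, hc⟩ := K.exists_norm (-1) (by rw [map_neg, map_one])
  let v₀ : Fin (k + 2) → F := Fin.cons 1 (Fin.cons c 0)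
  have hH : ∀ u w : Fin (k + 2) → F, hermForm (k + 2) F q u w =
      u 0 * K.bar (w 0) + (u 1 * K.bar (w 1) + ∑ i : Fin k, u i.succ.succ * K.bar (w i.succ.succ)) := by
    intro u w
    rw [Unitary.herm_apply K, Fin.sum_univ_succ, Fin.sum_univ_succ]
    rfl
  have hv₀ : v₀ ≠ 0 := fun h => one_ne_zero (α := F) (congrFun h 0)
  have h00 : hermForm (k + 2) F q v₀ v₀ = 0 := by
    rw [hH]
    simp [v₀, hc]
  have hσ : K.bar.toRingHom ≠ RingHom.id F := fun h => by
    obtain ⟨y, hy⟩ := K.exists_moved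
    exact hy (RingHom.congr_fun h y)
  let φ := (LinearEquiv.toSpanNonzeroSingleton F _ v hv).symm.trans
    (LinearEquiv.toSpanNonzeroSingleton F _ v₀ hv₀)
  have hsB : ∀ (a b : F) (x : Fin (k + 2) → F), hermSesq K (k + 2) (a • x) (b • x) =
      K.bar a * b * hermForm (k + 2) F q x x := fun a b x => by
    rw [map_smulₛₗ (hermSesq K (k + 2)), LinearMap.smul_apply, map_smul, smul_eq_mul, smul_eq_mul,
      hermSesq_apply, mul_assoc]
    rfl
  obtain ⟨g, hg, hgv⟩ := Witt.witt_hermitian K.bar.toRingHom hσ K.bar_bar (hermSesq K (k + 2))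
    (fun x y => hermSesq_swap K _ y x) (fun x hx => by
      funext i
      have h := hx (Pi.single i 1)
      rw [hermSesq_apply, Unitary.herm_apply K, Finset.sum_eq_single i
        (fun j _ hj => by simp [hj]) (by simp)] at h
      simpa using h)
    _ _ φ (fun x x' => by
      obtain ⟨a, rfl⟩ := (LinearEquiv.toSpanNonzeroSingleton F _ v hv).surjective x
      obtain ⟨b, rfl⟩ := (LinearEquiv.toSpanNonzeroSingleton F _ v hv).surjective x'
      simp only [φ, LinearEquiv.trans_apply, LinearEquiv.symm_apply_apply]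
      show hermSesq K (k + 2) (a • v₀) (b • v₀) = hermSesq K (k + 2) (a • v) (b • v)
      rw [hsB, hsB, hvv, h00])
  have hgv' : g v = v₀ := by
    have := hgv ⟨v, Submodule.mem_span_singleton_self v⟩
    simp only [φ, LinearEquiv.trans_apply] at this
    rw [show (LinearEquiv.toSpanNonzeroSingleton F _ v hv).symm ⟨v, Submodule.mem_span_singleton_self v⟩ = 1 from
      LinearEquiv.coord_self F _ v hv] at this
    simpa using this
  have hgH : ∀ a b, hermForm (k + 2) F q (g a) (g b) = hermForm (k + 2) F q a b := fun a b => hg b a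
  rw [Nat.card_congr (g.toEquiv.subtypeEquiv (q := fun w =>
    hermForm (k + 2) F q w w = 0 ∧ hermForm (k + 2) F q w v₀ = 0) fun w => by
      show _ ↔ hermForm (k + 2) F q (g w) (g w) = 0 ∧ hermForm (k + 2) F q (g w) v₀ = 0
      rw [← hgv', hgH, hgH])]
  have key : ∀ w : Fin (k + 2) → F, hermForm (k + 2) F q w w = 0 ∧ hermForm (k + 2) F q w v₀ = 0 ↔
      w 0 = -(w 1 * K.bar c) ∧ ∑ i : Fin k, w i.succ.succ * K.bar (w i.succ.succ) = 0 := by
    intro w
    rw [hH, hH]
    simp only [v₀, Fin.cons_zero, map_one, mul_one, show (1 : Fin (k + 2)) = Fin.succ 0 from rfl,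
      Fin.cons_succ, Pi.zero_apply, map_zero, mul_zero, Finset.sum_const_zero, add_zero]
    constructor
    · rintro ⟨h1, h2⟩
      have e : w 0 = -(w (Fin.succ 0) * K.bar c) := by linear_combination h2
      refine ⟨e, ?_⟩
      rw [e, map_neg, map_mul, K.bar_bar] at h1
      linear_combination h1 - (w (Fin.succ 0) * K.bar (w (Fin.succ 0))) * hc
    · rintro ⟨e, h1⟩
      refine ⟨?_, by linear_combination e⟩
      rw [e, map_neg, map_mul, K.bar_bar]
      linear_combination h1 + (w (Fin.succ 0) * K.bar (w (Fin.succ 0))) * hc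
  rw [Nat.card_congr (Equiv.subtypeEquivRight key)]
  have hF2 : Nat.card F = q ^ 2 := K.card
  rw [← hF2, count, ← Nat.card_prod]
  refine Nat.card_congr
    { toFun := fun w => (w.1 1, ⟨fun i => w.1 i.succ.succ, w.2.2⟩)
      invFun := fun x => ⟨Fin.cons (-(x.1 * K.bar c)) (Fin.cons x.1 x.2.1), by simp, by simpa using x.2.2⟩
      left_inv := fun w => Subtype.ext (funext fun i => ?_)
      right_inv := fun x => rfl }
  refine Fin.cases ?_ (fun j => ?_) i
  · simpa using w.2.1.symm
  · refine Fin.cases ?_ (fun l => ?_) j <;> simp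

theorem unitary_lines_mul (K : Unitary.Conj F q) (k : ℕ) :
    Nat.card {W : Submodule F (Fin (k + 2) → F) // Module.finrank F W = 2 ∧
        ∀ u ∈ W, ∀ v ∈ W, hermForm (k + 2) F q u v = 0} *
        (((q ^ 2) ^ 2 - 1) * ((q ^ 2) ^ 2 - q ^ 2)) =
      (count K (k + 2) 0 - 1) * (q ^ 2 * count K k 0 - q ^ 2) := by
  classical
  have hF2 : Nat.card F = q ^ 2 := K.card
  have h := card_frames (F := F) (V := Fin (k + 2) → F)
    (fun W => ∀ u ∈ W, ∀ v ∈ W, hermForm (k + 2) F q u v = 0)
  rw [hF2] at h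
  rw [h]
  have h2 := card_second (F := F) (V := Fin (k + 2) → F) (fun v => hermForm (k + 2) F q v v = 0)
    (fun v w => hermForm (k + 2) F q w w = 0 ∧ hermForm (k + 2) F q w v = 0)
    (q ^ 2 * count K k 0 - q ^ 2) fun v hv hvv => by
      rw [← perp_iso_card K k v hv hvv, ← hF2]
      exact card_diff_span hv {w | hermForm (k + 2) F q w w = 0 ∧ hermForm (k + 2) F q w v = 0} fun a => by
        simp only [Set.mem_setOf_eq, ← hermSesq_apply K]
        rw [map_smulₛₗ (hermSesq K (k + 2))]
        simp [hermSesq_apply, hvv]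
        exact Or.inr hvv
  have e : Nat.card {v : Fin (k + 2) → F // v ≠ 0 ∧ hermForm (k + 2) F q v v = 0} = count K (k + 2) 0 - 1 := by
    have hs : {v : Fin (k + 2) → F | v ≠ 0 ∧ hermForm (k + 2) F q v v = 0} =
        {v : Fin (k + 2) → F | ∑ i, v i * K.bar (v i) = 0} \ {0} := by
      ext v
      simp [Unitary.herm_apply K, and_comm]
    show Nat.card ↥{v : Fin (k + 2) → F | v ≠ 0 ∧ hermForm (k + 2) F q v v = 0} = _
    rw [hs, Nat.card_coe_set_eq, Set.ncard_sdiff_singleton_of_mem (by simp), ← Nat.card_coe_set_eq]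
    rfl
  rw [e] at h2
  rw [← h2]
  refine Nat.card_congr (Equiv.subtypeEquivRight fun s => ?_)
  rw [span_pair]
  refine and_congr_right fun _ => ⟨fun h => ?_, fun h x hx y hy => ?_⟩
  · have m0 : s 0 ∈ Submodule.span F {s 0, s 1} := Submodule.subset_span (Set.mem_insert _ _)
    have m1 : s 1 ∈ Submodule.span F {s 0, s 1} := Submodule.subset_span (Set.mem_insert_of_mem _ rfl)
    exact ⟨h _ m0 _ m0, h _ m1 _ m1, h _ m1 _ m0⟩
  · obtain ⟨a, b, rfl⟩ := Submodule.mem_span_pair.1 hx
    obtain ⟨c, d, rfl⟩ := Submodule.mem_span_pair.1 hy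
    have h01 : hermSesq K (k + 2) (s 1) (s 0) = 0 := by
      rw [← hermSesq_swap, hermSesq_apply, h.2.2, map_zero]
    have h10 : hermSesq K (k + 2) (s 0) (s 1) = 0 := h.2.2
    have h00 : hermSesq K (k + 2) (s 0) (s 0) = 0 := h.1
    have h11 : hermSesq K (k + 2) (s 1) (s 1) = 0 := h.2.1
    rw [← hermSesq_apply K]
    simp only [map_add, LinearMap.add_apply, map_smulₛₗ (hermSesq K (k + 2))]
    simp
    linear_combination (a * K.bar c) * h00 + (a * K.bar d) * h01 + (b * K.bar c) * h10 + (b * K.bar d) * h11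

theorem unitary_four (K : Unitary.Conj F q) :
    Nat.card {W : Submodule F (Fin 4 → F) // Module.finrank F W = 2 ∧
      ∀ u ∈ W, ∀ v ∈ W, hermForm 4 F q u v = 0} = (q + 1) * (q ^ 3 + 1) := by
  have hq := K.two_le
  have h := unitary_lines_mul K 2
  rw [count_zero_nat, count_zero_nat, if_pos (by decide), if_pos (by decide), Nat.add_sub_cancel] at h
  norm_num at h
  have h2 : 1 < q ^ 2 := Nat.one_lt_pow two_ne_zero (by omega)
  have h4 : q ^ 2 < (q ^ 2) ^ 2 := by nlinarith
  refine mul_right_cancel₀ (b := ((q ^ 2) ^ 2 - 1) * ((q ^ 2) ^ 2 - q ^ 2))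
    (Nat.mul_ne_zero (by omega) (by omega)) (h.trans ?_)
  have e : q ^ 2 * ((q ^ 2 - 1) * (q + 1) + 1) - q ^ 2 = q ^ 2 * ((q ^ 2 - 1) * (q + 1)) := by
    rw [Nat.mul_add, mul_one, Nat.add_sub_cancel]
  rw [e]
  have hp4 : 1 ≤ q ^ 4 := Nat.one_le_pow _ _ (by omega)
  have h4' : q ^ 2 ≤ (q ^ 2) ^ 2 := h4.le
  have h4'' : 1 ≤ (q ^ 2) ^ 2 := by omega
  zify [h2.le, hp4, h4', h4'']
  ring

theorem unitary_five (K : Unitary.Conj F q) :
    Nat.card {W : Submodule F (Fin 5 → F) // Module.finrank F W = 2 ∧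
      ∀ u ∈ W, ∀ v ∈ W, hermForm 5 F q u v = 0} = (q ^ 3 + 1) * (q ^ 5 + 1) := by
  have hq := K.two_le
  have h := unitary_lines_mul K 3
  rw [count_zero_nat, count_zero_nat, if_neg (by decide), if_neg (by decide), Nat.add_sub_cancel] at h
  norm_num at h
  have h2 : 1 < q ^ 2 := Nat.one_lt_pow two_ne_zero (by omega)
  have h4 : q ^ 2 < (q ^ 2) ^ 2 := by nlinarith
  refine mul_right_cancel₀ (b := ((q ^ 2) ^ 2 - 1) * ((q ^ 2) ^ 2 - q ^ 2))
    (Nat.mul_ne_zero (by omega) (by omega)) (h.trans ?_)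
  have e : q ^ 2 * ((q ^ 3 + 1) * (q ^ 2 - 1) + 1) - q ^ 2 = q ^ 2 * ((q ^ 3 + 1) * (q ^ 2 - 1)) := by
    rw [Nat.mul_add, mul_one, Nat.add_sub_cancel]
  rw [e]
  have hp4 : 1 ≤ q ^ 4 := Nat.one_le_pow _ _ (by omega)
  have h4' : q ^ 2 ≤ (q ^ 2) ^ 2 := h4.le
  have h4'' : 1 ≤ (q ^ 2) ^ 2 := by omega
  zify [h2.le, hp4, h4', h4'']
  ring

end Unitary

end CfsgLib.Classical.LineCount
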