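import Cfsg.Agent.Lib.Classical.SLMonomial

set_option autoImplicit false
set_option linter.unusedSectionVars false

/-!
Overgroups of the stabiliser of a block decomposition with blocks of size at least two in
`SL(κ × μ, F)`.
-/

namespace CfsgLib.Classical.LinBlocks

open Matrix CfsgLib.Classical.SLMon
open scoped MatrixGroups

variable {κ μ F : Type*} [Fintype κ] [DecidableEq κ] [Fintype μ] [DecidableEq μ] [Field F]

/-- The stabiliser of the blocks. -/
def bstab : Set (SpecialLinearGroup (κ × μ) F) :=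
  {g | ∃ σ : Equiv.Perm κ, ∀ a b, g.1 a b ≠ 0 → a.1 = σ b.1}

/-- Block diagonal. -/
def BD (A : Matrix (κ × μ) (κ × μ) F) : Prop := ∀ a b, A a b ≠ 0 → a.1 = b.1

theorem BD.mem {g : SpecialLinearGroup (κ × μ) F} (h : BD g.1) : g ∈ bstab (F := F) :=
  ⟨1, fun a b hab => by simpa using h a b hab⟩

theorem BD.mul {A B : Matrix (κ × μ) (κ × μ) F} (hA : BD A) (hB : BD B) : BD (A * B) := by
  intro a b hab
  rw [Matrix.mul_apply] at hab
  obtain ⟨c, -, hc⟩ := Finset.exists_ne_zero_of_sum_ne_zero hab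
  exact (hA a c (left_ne_zero_of_mul hc)).trans (hB c b (right_ne_zero_of_mul hc))

theorem BD_R {u φ : κ × μ → F} (i : κ) (hu : ∀ a, u a ≠ 0 → a.1 = i)
    (hφ : ∀ a, φ a ≠ 0 → a.1 = i) : BD (R u φ) := by
  intro a b hab
  by_cases e : a = b
  · rw [e]
  · simp only [R, Matrix.add_apply, Matrix.one_apply_ne e, vecMulVec_apply, zero_add] at hab
    rw [hu a (left_ne_zero_of_mul hab), hφ b (right_ne_zero_of_mul hab)]

variable (K : Subgroup (SpecialLinearGroup (κ × μ) F))

/-- The whole root group of `1 + u ψ` lies in `K`. -/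
def All (u ψ : κ × μ → F) : Prop := ∀ c : F, InT K u (c • ψ)

variable {K}

theorem All.smul_right {u ψ : κ × μ → F} (h : All K u ψ) (a : F) : All K u (a • ψ) := fun c => by
  rw [smul_smul]; exact h _

theorem All.sub_right {u ψ ψ' : κ × μ → F} (h : All K u ψ) (h' : All K u ψ') :
    All K u (ψ' - ψ) := fun c => by
  have := (h' c).add_right (h (-c))
  rwa [neg_smul, ← sub_eq_add_neg, ← smul_sub] at this

theorem All.smul_left {u ψ : κ × μ → F} (h : All K u ψ) {a : F} (ha : a ≠ 0) :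
    All K (a • u) ψ := fun c => by
  refine InT.swap_smul ?_ ha
  rw [smul_smul]; exact h _

theorem All.sub_left {u u' ψ : κ × μ → F} (h : All K u ψ) (h' : All K u' ψ) :
    All K (u' - u) ψ := fun c => by
  have := (h' c).add_left ((h.smul_left (a := -1) (neg_ne_zero.2 one_ne_zero)) c)
  rwa [neg_one_smul, ← sub_eq_add_neg] at this

theorem All.conj {u ψ u' ψ' : κ × μ → F} (h : All K u ψ)
    {s : SpecialLinearGroup (κ × μ) F} (hs : s ∈ K) (hu : s.1 *ᵥ u = u')
    (hψ : ψ' ᵥ* s.1 = ψ) : All K u' ψ' := fun c => by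
  have := (h c).conj hs
  rw [hu] at this
  convert this using 1
  have e : s.1 * (s⁻¹).1 = 1 := congrArg Subtype.val (mul_inv_cancel s)
  rw [← hψ, ← Matrix.smul_vecMul, vecMul_vecMul, e, vecMul_one]

theorem Tv_mem (hK : bstab (F := F) (κ := κ) (μ := μ) ⊆ K) {u φ : κ × μ → F} (i : κ)
    (hu : ∀ a, u a ≠ 0 → a.1 = i) (hφ : ∀ a, φ a ≠ 0 → a.1 = i) (h : φ ⬝ᵥ u = 0) :
    Tv u φ h ∈ K := hK (BD.mem (BD_R i hu hφ))

theorem single_supp {a : κ × μ} {c : F} : ∀ b, Pi.single (M := fun _ => F) a c b ≠ 0 → b.1 = a.1 := by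
  intro b hb
  by_cases e : b = a
  · rw [e]
  · exact absurd (Pi.single_eq_of_ne e _) hb

/-- From a root group element killing a block meeting the centre: an axis root group. -/
theorem root_of_zero_block (hμ : Nontrivial μ) (hK : bstab (F := F) (κ := κ) (μ := μ) ⊆ K)
    {u ψ : κ × μ → F} (h : All K u ψ) (hψ : ψ ≠ 0) {a : κ × μ} (ha : u a ≠ 0)
    (hz : ∀ b : κ × μ, b.1 = a.1 → ψ b = 0) :
    ∃ p r : κ × μ, p.1 ≠ r.1 ∧ All K (Pi.single p 1) (Pi.single r 1) := by
  obtain ⟨x', hx'⟩ := exists_ne a.2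
  set p : κ × μ := (a.1, x') with hp
  have hpa : a ≠ p := fun e => hx' (congrArg Prod.snd e).symm
  have h0 : (Pi.single a 1 : κ × μ → F) ⬝ᵥ Pi.single p 1 = 0 := by simp [hpa]
  have h1 : All K (Pi.single p 1) ψ := by
    have h2 : All K (u + u a • Pi.single p 1) ψ :=
      h.conj (Tv_mem hK a.1 (single_supp (a := p)) single_supp h0)
        (by simp [Tv, R_mulVec])
        (by simp [Tv, vecMul_R, hz p rfl])
    have h3 := h.sub_left h2
    rw [add_sub_cancel_left] at h3
    have h4 := h3.smul_left (inv_ne_zero ha)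
    rwa [smul_smul, inv_mul_cancel₀ ha, one_smul] at h4
  obtain ⟨r, hr⟩ := Function.ne_iff.1 hψ
  have hr0 : ψ r ≠ 0 := hr
  have hpr : p.1 ≠ r.1 := fun e => hr0 (hz r e.symm)
  obtain ⟨y', hy'⟩ := exists_ne r.2
  set r' : κ × μ := (r.1, y') with hr'
  have hrr : r' ≠ r := fun e => hy' (congrArg Prod.snd e)
  have hpr' : p ≠ r' := fun e => hpr (by rw [e])
  have h5 : (Pi.single r' 1 : κ × μ → F) ⬝ᵥ Pi.single r 1 = 0 := by simp [hrr]
  have h6 : All K (Pi.single p 1) (ψ - ψ r • Pi.single r' 1) :=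
    h1.conj (Tv_mem hK r.1 (single_supp (a := r)) (single_supp (a := r')) h5)
      (by simp only [Tv, R_mulVec]; simp [hpr'])
      (by simp [Tv, vecMul_R, Pi.single_apply, hrr.symm])
  have h7 := (h1.sub_right h6).smul_right (-(ψ r)⁻¹)
  rw [sub_sub_cancel_left, smul_neg, neg_smul, neg_neg, smul_smul, inv_mul_cancel₀ hr0,
    one_smul] at h7
  exact ⟨p, r', hpr, h7⟩

/-- The restriction to one block. -/
def blk (i : κ) (v : κ × μ → F) : κ × μ → F := fun a => if a.1 = i then v a else 0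

theorem blk_supp {i : κ} {v : κ × μ → F} : ∀ a, blk i v a ≠ 0 → a.1 = i := by
  intro a h
  by_contra e
  exact h (if_neg e)

theorem blk_dot_comm (i : κ) (v w : κ × μ → F) : blk i v ⬝ᵥ w = v ⬝ᵥ blk i w := by
  refine Finset.sum_congr rfl fun a _ => ?_
  by_cases e : a.1 = i <;> simp [blk, e]

theorem exists_root (hμ : Nontrivial μ) (hK : bstab (F := F) (κ := κ) (μ := μ) ⊆ K)
    (hex : 3 ≤ Fintype.card μ ∨ (3 ≤ Fintype.card κ ∧ ∃ c : F, c ≠ 0 ∧ c ≠ 1))
    {u ψ : κ × μ → F} (h : All K u ψ) (hψ : ψ ≠ 0) {a a' : κ × μ} (ha : u a ≠ 0) (ha' : u a' ≠ 0)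
    (haa : a.1 ≠ a'.1) :
    ∃ p r : κ × μ, p.1 ≠ r.1 ∧ All K (Pi.single p 1) (Pi.single r 1) := by
  by_cases hA : ∃ b, u b ≠ 0 ∧ ∀ c : κ × μ, c.1 = b.1 → ψ c = 0
  · obtain ⟨b, hb, hz⟩ := hA
    exact root_of_zero_block hμ hK h hψ hb hz
  push Not at hA
  -- a functional on one block, killing `u`
  have fin : ∀ χ : κ × μ → F, ∀ i : κ, (∀ c, χ c ≠ 0 → c.1 = i) → χ ≠ 0 → All K u χ →
      ∃ p r : κ × μ, p.1 ≠ r.1 ∧ All K (Pi.single p 1) (Pi.single r 1) := by
    intro χ i hχ hχ0 hA'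
    by_cases e : a.1 = i
    · refine root_of_zero_block hμ hK hA' hχ0 ha' fun c hc => ?_
      by_contra h0
      exact haa (by rw [e, ← hc, hχ c h0])
    · refine root_of_zero_block hμ hK hA' hχ0 ha fun c hc => ?_
      by_contra h0
      exact e (hc ▸ hχ c h0)
  by_cases hC : ∃ b, u b ≠ 0 ∧ ψ ⬝ᵥ blk b.1 u ≠ 0
  · obtain ⟨b, hb, hp⟩ := hC
    obtain ⟨x', hx'⟩ := exists_ne b.2
    set b' : κ × μ := (b.1, x')
    have hbb : b' ≠ b := fun e => hx' (congrArg Prod.snd e)
    set χ : κ × μ → F := u b • Pi.single b' 1 - u b' • Pi.single b 1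
    have hχs : ∀ c, χ c ≠ 0 → c.1 = b.1 := by
      intro c hc
      by_contra e
      apply hc
      have e1 : c ≠ b' := fun h => e (by rw [h])
      have e2 : c ≠ b := fun h => e (by rw [h])
      simp [χ, e1, e2]
    have hχu : χ ⬝ᵥ u = 0 := by
      simp [χ, sub_dotProduct, smul_dotProduct, mul_comm]
    have hχb : χ ⬝ᵥ blk b.1 u = 0 := by
      rw [← blk_dot_comm]
      refine Eq.trans ?_ hχu
      congr 1
      funext c
      by_cases e : c.1 = b.1
      · simp [blk, e]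
      · simp only [blk, if_neg e]
        by_contra hc
        exact e (hχs c (Ne.symm hc))
    have hχ0 : χ ≠ 0 := fun e => hb (by simpa [χ, hbb.symm, hbb] using congrFun e b')
    refine fin χ b.1 hχs hχ0 ?_
    have h1 : All K u (ψ - (ψ ⬝ᵥ blk b.1 u) • χ) :=
      h.conj (Tv_mem hK b.1 blk_supp hχs hχb)
        (by simp [Tv, R_mulVec, hχu])
        (by simp [Tv, vecMul_R, sub_dotProduct, smul_dotProduct, hχb])
    have h2 := (h.sub_right h1).smul_right (-(ψ ⬝ᵥ blk b.1 u)⁻¹)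
    rwa [sub_sub_cancel_left, smul_neg, neg_smul, neg_neg, smul_smul, inv_mul_cancel₀ hp,
      one_smul] at h2
  push Not at hC
  obtain ⟨y, hy, hψy⟩ := hA a ha
  rcases hex with h3 | ⟨h3, lam, hl0, hl1⟩
  · obtain ⟨x, hx⟩ : ∃ x, x ∈ (Finset.univ.erase y.2 : Finset μ) := by
      refine Finset.card_pos.1 ?_
      rw [Finset.card_erase_of_mem (Finset.mem_univ _), Finset.card_univ]; omega
    obtain ⟨x', hx'⟩ : ∃ x', x' ∈ ((Finset.univ.erase y.2).erase x : Finset μ) := by
      refine Finset.card_pos.1 ?_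
      rw [Finset.card_erase_of_mem hx, Finset.card_erase_of_mem (Finset.mem_univ _),
        Finset.card_univ]
      omega
    simp only [Finset.mem_erase, Finset.mem_univ, and_true] at hx hx'
    obtain ⟨hx'x, hx'y⟩ := hx'
    set p : κ × μ := (y.1, x)
    set p' : κ × μ := (y.1, x')
    have e1 : p ≠ y := fun e => hx (congrArg Prod.snd e)
    have e2 : p' ≠ y := fun e => hx'y (congrArg Prod.snd e)
    have e3 : p ≠ p' := fun e => hx'x (congrArg Prod.snd e).symm
    obtain ⟨χ, hχs, hχu, hχy, hχ0⟩ : ∃ χ : κ × μ → F, (∀ c, χ c ≠ 0 → c.1 = y.1) ∧ χ ⬝ᵥ u = 0 ∧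
        χ y = 0 ∧ χ ≠ 0 := by
      have supp : ∀ s t : F, ∀ c, (s • Pi.single p' 1 - t • Pi.single p 1 : κ × μ → F) c ≠ 0 →
          c.1 = y.1 := by
        intro s t c hc
        by_contra e
        apply hc
        have f1 : c ≠ p' := fun h => e (by rw [h])
        have f2 : c ≠ p := fun h => e (by rw [h])
        simp [f1, f2]
      by_cases hu : u p = 0
      · refine ⟨Pi.single p 1, single_supp, by simp [hu], by simp [e1.symm], ?_⟩
        exact fun e => one_ne_zero (α := F) (by simpa using congrFun e p)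
      · refine ⟨u p • Pi.single p' 1 - u p' • Pi.single p 1, supp _ _, ?_, by simp [e1.symm, e2.symm], ?_⟩
        · simp [sub_dotProduct, smul_dotProduct, mul_comm]
        · exact fun e => hu (by simpa [e3, e3.symm] using congrFun e p')
    refine fin χ y.1 hχs hχ0 ?_
    have h0 : χ ⬝ᵥ Pi.single y 1 = 0 := by simp [hχy]
    have h1 : All K u (ψ - ψ y • χ) :=
      h.conj (Tv_mem hK y.1 single_supp hχs h0)
        (by simp [Tv, R_mulVec, hχu])
        (by simp [Tv, vecMul_R, hχy])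
    have h2 := (h.sub_right h1).smul_right (-(ψ y)⁻¹)
    rwa [sub_sub_cancel_left, smul_neg, neg_smul, neg_neg, smul_smul, inv_mul_cancel₀ hψy,
      one_smul] at h2
  -- blocks of size two
  set i := a.1
  set bi : κ × μ → F := Pi.single y (ψ y)⁻¹
  set χi := blk i ψ
  have hbi : ψ ⬝ᵥ bi = 1 := by simp [bi, hψy]
  have hχbi : χi ⬝ᵥ bi = 1 := by simp [χi, bi, blk, i, hy, hψy]
  have hχiu : χi ⬝ᵥ u = 0 := by rw [blk_dot_comm]; exact hC a ha
  have key : ∀ (l j : κ) (b χ : κ × μ → F) (w : κ × μ), l ≠ i → (∀ c, b c ≠ 0 → c.1 = l) →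
      (∀ c, χ c ≠ 0 → c.1 = l) → χ ⬝ᵥ u = 0 → χ ⬝ᵥ b = 1 → w.1 = j → u w ≠ 0 →
      j ≠ l → j ≠ i →
      ∃ p r : κ × μ, p.1 ≠ r.1 ∧ All K (Pi.single p 1) (Pi.single r 1) := by
    intro l j b χ w hli hb hχ hχu hχb hwj hw hjl hji
    have z1 : χi ⬝ᵥ b = 0 := Finset.sum_eq_zero fun c _ => by
      by_cases e : b c = 0
      · rw [e, mul_zero]
      · rw [show χi c = 0 from if_neg (by rw [hb c e]; exact hli), zero_mul]
    have z2 : χ ⬝ᵥ bi = 0 := Finset.sum_eq_zero fun c _ => by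
      by_cases e : χ c = 0
      · rw [e, zero_mul]
      · rw [show bi c = 0 from Pi.single_eq_of_ne (fun h => hli ?_) _, mul_zero]
        rw [← hχ c e, h, hy]
    set p := ψ ⬝ᵥ b
    have hsdet : (R ((lam - 1) • bi) χi * R ((lam⁻¹ - 1) • b) χ).det = 1 := by
      rw [det_mul, det_R, det_R, dotProduct_smul, dotProduct_smul, hχbi, hχb]
      simp [hl0]
    have hbd : BD (R ((lam - 1) • bi) χi * R ((lam⁻¹ - 1) • b) χ) := by
      refine (BD_R i (fun c hc => ?_) blk_supp).mul (BD_R l (fun c hc => ?_) hχ)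
      · have := single_supp (a := y) (c := (ψ y)⁻¹) c (fun e => hc (by simp [bi, e]))
        rw [this, hy]
      · exact hb c fun e => hc (by simp [e])
    set ψ' := ψ + (lam⁻¹ - 1) • χi + ((lam - 1) * p) • χ
    have h1 : All K u ψ' := by
      refine h.conj (s := ⟨_, hsdet⟩) (hK (BD.mem hbd)) ?_ ?_
      · show (R ((lam - 1) • bi) χi * R ((lam⁻¹ - 1) • b) χ) *ᵥ u = u
        rw [← mulVec_mulVec, R_mulVec ((lam⁻¹ - 1) • b), hχu, zero_smul, add_zero, R_mulVec, hχiu, zero_smul,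
          add_zero]
      · show ψ' ᵥ* (R ((lam - 1) • bi) χi * R ((lam⁻¹ - 1) • b) χ) = ψ
        have f1 : ψ' + (ψ' ⬝ᵥ ((lam - 1) • bi)) • χi = ψ + ((lam - 1) * p) • χ := by
          simp only [ψ', add_dotProduct, smul_dotProduct, dotProduct_smul, hbi, hχbi, z2,
            smul_eq_mul]
          match_scalars <;> field_simp <;> ring
        have f2 : (ψ + ((lam - 1) * p) • χ) ⬝ᵥ ((lam⁻¹ - 1) • b) = -((lam - 1) * p) := by
          simp only [add_dotProduct, smul_dotProduct, dotProduct_smul, hχb, smul_eq_mul, mul_one]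
          show (lam⁻¹ - 1) * (p + (lam - 1) * p) = _
          field_simp
          ring
        rw [← vecMul_vecMul, vecMul_R, vecMul_R, f1, f2, neg_smul, add_neg_cancel_right]
    have h2 := h.sub_right h1
    have hzero : ∀ c : κ × μ, c.1 = j → (ψ' - ψ) c = 0 := by
      intro c hc
      have f1 : χi c = 0 := if_neg (by rw [hc]; exact hji)
      have f2 : χ c = 0 := by
        by_contra e
        exact hjl (hc ▸ hχ c e)
      simp [ψ', f1, f2]
    refine root_of_zero_block hμ hK h2 (fun e => ?_) hw (hwj ▸ hzero)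
    have f2 : χ y = 0 := by
      by_contra f
      exact hli ((hχ y f).symm.trans hy)
    have f1 : χi y = ψ y := if_pos hy
    have := congrFun e y
    simp [ψ', f1, f2, hψy] at this
    exact hl1 (inv_eq_one.1 (sub_eq_zero.1 this))
  by_cases hfull : ∃ k, ∀ x, u (k, x) = 0
  · obtain ⟨k, hk⟩ := hfull
    have hki : k ≠ i := fun e => ha (by rw [show a = (k, a.2) from Prod.ext e.symm rfl]; exact hk _)
    have hka : a'.1 ≠ k := fun e => ha' (by rw [show a' = (k, a'.2) from Prod.ext e rfl]; exact hk _)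
    exact key k a'.1 (Pi.single (k, a.2) 1) (Pi.single (k, a.2) 1) a' hki single_supp single_supp
      (by simp [hk]) (by simp) rfl ha' hka (Ne.symm haa)
  push Not at hfull
  obtain ⟨k, hk⟩ : ∃ k, k ∈ ((Finset.univ.erase i).erase a'.1 : Finset κ) := by
    refine Finset.card_pos.1 ?_
    rw [Finset.card_erase_of_mem (by simp [haa.symm, i]), Finset.card_erase_of_mem (Finset.mem_univ _),
      Finset.card_univ]
    omega
  simp only [Finset.mem_erase, Finset.mem_univ, and_true] at hk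
  obtain ⟨xk, hxk⟩ := hfull k
  obtain ⟨y', hy', hψy'⟩ := hA a' ha'
  refine key a'.1 k (Pi.single y' (ψ y')⁻¹) (blk a'.1 ψ) (k, xk) (Ne.symm haa) (fun c hc => ?_)
    blk_supp ?_ ?_ rfl hxk hk.1 hk.2
  · rw [single_supp c hc, hy']
  · rw [blk_dot_comm]; exact hC a' ha'
  · simp [blk, hy', hψy']

theorem all_within (hK : bstab (F := F) (κ := κ) (μ := μ) ⊆ K) {p r : κ × μ} (h : p.1 = r.1)
    (hne : p ≠ r) : All K (Pi.single p 1) (Pi.single r 1) := fun c => by
  refine ⟨by simp [hne.symm], Tv_mem hK p.1 single_supp (fun b hb => ?_) _⟩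
  have : b.1 = r.1 := single_supp (c := (1 : F)) b fun e => hb (by simp [e])
  rw [this, h]

/-- The permutation matrices of block permutations. -/
theorem exists_perm (hK : bstab (F := F) (κ := κ) (μ := μ) ⊆ K) {p r p' r' : κ × μ}
    (h : p.1 ≠ r.1) (h' : p'.1 ≠ r'.1) (hroot : All K (Pi.single p 1) (Pi.single r 1)) :
    All K (Pi.single p' 1) (Pi.single r' 1) := by
  let σ : Equiv.Perm κ := (Equiv.swap p.1 p'.1).trans
    (Equiv.swap (Equiv.swap p.1 p'.1 r.1) r'.1)
  have hr1 : Equiv.swap p.1 p'.1 r.1 ≠ p'.1 := fun e => h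
    ((Equiv.swap p.1 p'.1).injective ((Equiv.swap_apply_left p.1 p'.1).trans e.symm))
  have hσp : σ p.1 = p'.1 := by
    simp [σ, Equiv.swap_apply_of_ne_of_ne (Ne.symm hr1) h']
  have hσr : σ r.1 = r'.1 := by simp [σ]
  let π : κ → Equiv.Perm μ := fun b =>
    if b = p.1 then Equiv.swap p.2 p'.2 else Equiv.swap r.2 r'.2
  let τ : Equiv.Perm (κ × μ) := Equiv.prodShear σ π
  have hτp : τ p = p' := by
    show ((σ p.1, π p.1 p.2) : κ × μ) = p'
    simp [π, hσp]
  have hτr : τ r = r' := by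
    show ((σ r.1, π r.1 r.2) : κ × μ) = r'
    simp [π, hσr, h.symm]
  obtain ⟨s, d, hs, -, hd⟩ := exists_pmat_SL (F := F) τ p
  have hsK : s ∈ K := hK ⟨σ, fun b c hbc => by
    rw [hs, pmat_apply] at hbc
    split_ifs at hbc with e
    · rw [e]; rfl
    · exact absurd rfl hbc⟩
  have key : All K (d p • Pi.single p' 1) ((d r)⁻¹ • Pi.single r' 1) :=
    hroot.conj hsK
      (by
        rw [hs, pmat_mulVec]
        funext b
        by_cases e : b = p'
        · subst e; simp [← hτp]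
        · have e' : τ.symm b ≠ p := fun f => e (by rw [← hτp, ← f, Equiv.apply_symm_apply])
          simp [e, e'])
      (by
        rw [hs, vecMul_pmat]
        funext b
        by_cases e : b = r
        · subst e; simp [hτr, hd b]
        · have e' : τ b ≠ r' := fun f => e (τ.injective (f.trans hτr.symm))
          simp [e, e'])
  have h2 := (key.smul_left (inv_ne_zero (hd p))).smul_right (d r)
  rwa [smul_smul, smul_smul, inv_mul_cancel₀ (hd p), mul_inv_cancel₀ (hd r), one_smul,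
    one_smul] at h2

/-- Overgroups of the block stabiliser. -/
theorem le_bstab_or_top [Nonempty κ] (hμ : Nontrivial μ)
    (hex : 3 ≤ Fintype.card μ ∨ (3 ≤ Fintype.card κ ∧ ∃ c : F, c ≠ 0 ∧ c ≠ 1))
    (hK : bstab (F := F) (κ := κ) (μ := μ) ⊆ K) :
    K = ⊤ ∨ (K : Set (SpecialLinearGroup (κ × μ) F)) ⊆ bstab := by
  by_cases hR : ∀ g ∈ K, g ∈ bstab (F := F) (κ := κ) (μ := μ)
  · exact Or.inr hR
  push Not at hR
  obtain ⟨g, hg, hgb⟩ := hR
  -- a root group with centre in two blocks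
  have find : ∀ g ∈ K, (∀ f : κ → κ, ¬ ∀ a b, g.1 a b ≠ 0 → a.1 = f b.1) →
      ∃ p r : κ × μ, p.1 ≠ r.1 ∧ All K (Pi.single p 1) (Pi.single r 1) := by
    intro g hg hno
    have einv : (g⁻¹).1 * g.1 = 1 := congrArg Subtype.val (inv_mul_cancel g)
    have use2 : ∀ (u0 φ : κ × μ → F) (i : κ) (a a' : κ × μ), (∀ c, u0 c ≠ 0 → c.1 = i) →
        (∀ c, φ c ≠ 0 → c.1 = i) → φ ⬝ᵥ u0 = 0 → φ ≠ 0 → (g.1 *ᵥ u0) a ≠ 0 →
        (g.1 *ᵥ u0) a' ≠ 0 → a.1 ≠ a'.1 →
        ∃ p r : κ × μ, p.1 ≠ r.1 ∧ All K (Pi.single p 1) (Pi.single r 1) := by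
      intro u0 φ i a a' hu hφ h0 hφ0 h1 h2 h3
      have hA : All K u0 φ := fun c => ⟨by rw [smul_dotProduct, h0, smul_zero],
        Tv_mem hK i hu (fun b hb => hφ b fun e => hb (by simp [e])) _⟩
      have hA' : All K (g.1 *ᵥ u0) (φ ᵥ* (g⁻¹).1) :=
        hA.conj hg rfl (by rw [vecMul_vecMul, einv, vecMul_one])
      refine exists_root hμ hK hex hA' (fun e => hφ0 ?_) h1 h2 h3
      have h9 : (φ ᵥ* (g⁻¹).1) ᵥ* g.1 = 0 := by rw [e, zero_vecMul]
      rwa [vecMul_vecMul, einv, vecMul_one] at h9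
    by_cases hcol : ∃ a a' b, g.1 a b ≠ 0 ∧ g.1 a' b ≠ 0 ∧ a.1 ≠ a'.1
    · obtain ⟨a, a', b, h1, h2, h3⟩ := hcol
      obtain ⟨x', hx'⟩ := exists_ne b.2
      have hb : ((b.1, x') : κ × μ) ≠ b := fun e => hx' (congrArg Prod.snd e)
      refine use2 (Pi.single b 1) (Pi.single (b.1, x') 1) b.1 a a' single_supp single_supp
        (by simp [hb]) (fun e => one_ne_zero (α := F) (by simpa using congrFun e (b.1, x')))
        ?_ ?_ h3 <;> simpa [mulVec_single_one]
    push Not at hcol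
    have hne : ∀ b, ∃ a, g.1 a b ≠ 0 := by
      intro b
      by_contra hb
      push Not at hb
      have := det_eq_zero_of_column_eq_zero b hb
      exact one_ne_zero (g.2.symm.trans this)
    choose f hf using hne
    obtain ⟨x0, -⟩ := exists_pair_ne μ
    have hno' := hno fun i => (f (i, x0)).1
    push Not at hno'
    obtain ⟨a, b, hab, hne'⟩ := hno'
    set b0 : κ × μ := (b.1, x0)
    have hb0 : f b0 ≠ a := fun e => hne' (by rw [← e])
    have hbb : b ≠ b0 := fun e => hne' (hcol a (f b0) b hab (e ▸ hf b0))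
    refine use2 (Pi.single b 1 + Pi.single b0 1) (Pi.single b 1 - Pi.single b0 1) b.1 a (f b0)
      (fun c hc => ?_) (fun c hc => ?_) ?_
      (fun e => one_ne_zero (α := F) (by simpa [hbb] using congrFun e b)) ?_ ?_ hne'
    · by_contra e
      exact hc (by simp [show c ≠ b from fun h => e (by rw [h]),
        show c ≠ b0 from fun h => e (by rw [h])])
    · by_contra e
      exact hc (by simp [show c ≠ b from fun h => e (by rw [h]),
        show c ≠ b0 from fun h => e (by rw [h])])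
    · simp [sub_dotProduct, hbb, hbb.symm]
    · have z : g.1 a b0 = 0 := by
        by_contra h
        exact hne' (hcol a (f b0) b0 h (hf b0))
      simp [mulVec_add, mulVec_single_one, z, hab]
    · have z : g.1 (f b0) b = 0 := by
        by_contra h
        exact hne' (hcol a (f b0) b hab h)
      simp [mulVec_add, mulVec_single_one, z, hf b0]
  obtain ⟨p, r, hpr, hroot⟩ : ∃ p r : κ × μ, p.1 ≠ r.1 ∧
      All K (Pi.single p 1) (Pi.single r 1) := by
    by_cases h1 : ∀ f : κ → κ, ¬ ∀ a b, g.1 a b ≠ 0 → a.1 = f b.1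
    · exact find g hg h1
    refine find g⁻¹ (K.inv_mem hg) fun f' hf' => h1 fun f hf => hgb ?_
    have hid : ∀ i, f' (f i) = i := by
      intro i
      obtain ⟨x0, -⟩ := exists_pair_ne μ
      have e : ((g⁻¹).1 * g.1) (i, x0) (i, x0) ≠ 0 := by
        rw [show (g⁻¹).1 * g.1 = 1 from congrArg Subtype.val (inv_mul_cancel g)]
        simp
      rw [Matrix.mul_apply] at e
      obtain ⟨c, -, hc⟩ := Finset.exists_ne_zero_of_sum_ne_zero e
      rw [← hf c _ (right_ne_zero_of_mul hc)]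
      exact (hf' _ c (left_ne_zero_of_mul hc)).symm
    exact ⟨Equiv.ofBijective f (Finite.injective_iff_bijective.1 (Function.LeftInverse.injective hid)),
      hf⟩
  refine Or.inl ?_
  have : Nontrivial (κ × μ) := by
    obtain ⟨x, y, hxy⟩ := exists_pair_ne μ
    exact ⟨(p.1, x), (p.1, y), fun e => hxy (congrArg Prod.snd e)⟩
  refine eq_top_of_transvection_mem K fun a b hab c => InT.smul_root ?_ hab
  by_cases e : a.1 = b.1
  · exact all_within hK e hab c
  · exact exists_perm hK hpr e hroot c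

end CfsgLib.Classical.LinBlocks
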