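import Cfsg.Agent.Lib.Classical.Transvection

set_option autoImplicit false

/-!
The minimal index of a proper subgroup of `PSL_n(q)`, `n ≥ 3`, from the action of the transvection
groups `Q_x` (fixed centre) on the cosets.
-/

namespace CfsgLib.Classical.MinIndex

open Matrix
open scoped MatrixGroups

variable {F : Type*} [Field F] {n : ℕ}

/-- Apply a matrix of determinant one. -/
def app (g : SpecialLinearGroup (Fin n) F) (v : Fin n → F) : Fin n → F := g.1 *ᵥ v

theorem app_one (v : Fin n → F) : app (1 : SpecialLinearGroup (Fin n) F) v = v := one_mulVec _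

theorem app_mul (g h : SpecialLinearGroup (Fin n) F) (v : Fin n → F) :
    app (g * h) v = app g (app h v) := (mulVec_mulVec _ _ _).symm

theorem app_inv (g : SpecialLinearGroup (Fin n) F) (v : Fin n → F) : app g⁻¹ (app g v) = v := by
  rw [← app_mul, inv_mul_cancel, app_one]

theorem app_inv' (g : SpecialLinearGroup (Fin n) F) (v : Fin n → F) : app g (app g⁻¹ v) = v := by
  rw [← app_mul, mul_inv_cancel, app_one]

theorem app_add (g : SpecialLinearGroup (Fin n) F) (v w : Fin n → F) :
    app g (v + w) = app g v + app g w := mulVec_add _ _ _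

theorem app_smul (g : SpecialLinearGroup (Fin n) F) (a : F) (v : Fin n → F) :
    app g (a • v) = a • app g v := mulVec_smul _ _ _

theorem app_ne_zero (g : SpecialLinearGroup (Fin n) F) {v : Fin n → F} (hv : v ≠ 0) :
    app g v ≠ 0 := fun h => hv <| by rw [← app_inv g v, h, app, mulVec_zero]

theorem ext_app {g h : SpecialLinearGroup (Fin n) F} (e : ∀ v, app g v = app h v) : g = h :=
  Subtype.ext (Matrix.ext_of_mulVec_single fun _ => e _)

/-- A transvection. -/
def tv (a φ : Fin n → F) (h : φ ⬝ᵥ a = 0) : SpecialLinearGroup (Fin n) F :=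
  ⟨1 + replicateCol Unit a * replicateRow Unit φ, by
    rw [det_one_add_replicateCol_mul_replicateRow, h, add_zero]⟩

theorem app_tv (a φ : Fin n → F) (h : φ ⬝ᵥ a = 0) (v : Fin n → F) :
    app (tv a φ h) v = v + (φ ⬝ᵥ v) • a := by
  show (1 + replicateCol Unit a * replicateRow Unit φ) *ᵥ v = _
  rw [add_mulVec, one_mulVec, ← vecMulVec_eq, vecMulVec_mulVec]
  simp

theorem tv_zero (a : Fin n → F) (h : (0 : Fin n → F) ⬝ᵥ a = 0) : tv a 0 h = 1 :=
  ext_app fun v => by rw [app_tv, zero_dotProduct, zero_smul, add_zero, app_one]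

theorem tv_congr {a φ φ' : Fin n → F} (h : φ ⬝ᵥ a = 0) (h' : φ' ⬝ᵥ a = 0) (e : φ = φ') :
    tv a φ h = tv a φ' h' := by subst e; rfl

theorem tv_mul {a φ φ' : Fin n → F} (h : φ ⬝ᵥ a = 0) (h' : φ' ⬝ᵥ a = 0) :
    tv a φ h * tv a φ' h' = tv a (φ + φ') (by rw [add_dotProduct, h, h', add_zero]) :=
  ext_app fun v => by
    simp only [app_mul, app_tv, dotProduct_add, dotProduct_smul, add_dotProduct, smul_eq_mul, h]
    module

theorem tv_inv {a φ : Fin n → F} (h : φ ⬝ᵥ a = 0) :
    (tv a φ h)⁻¹ = tv a (-φ) (by rw [neg_dotProduct, h, neg_zero]) := by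
  refine inv_eq_of_mul_eq_one_right ?_
  rw [tv_mul]
  exact (tv_congr _ (zero_dotProduct a) (add_neg_cancel φ)).trans (tv_zero a _)

theorem conj_tv (g : SpecialLinearGroup (Fin n) F) {a φ : Fin n → F} (h : φ ⬝ᵥ a = 0) :
    g * tv a φ h * g⁻¹ = tv (app g a) (φ ᵥ* (g⁻¹).1) (by
      rw [← dotProduct_mulVec]; show φ ⬝ᵥ app g⁻¹ (app g a) = 0; rw [app_inv, h]) :=
  ext_app fun v => by
    rw [app_mul, app_mul, app_tv, app_tv, app_add, app_smul, app_inv', ← dotProduct_mulVec]
    rfl

theorem tv_ne_one {a φ : Fin n → F} (h : φ ⬝ᵥ a = 0) (ha : a ≠ 0) (hφ : φ ≠ 0) : tv a φ h ≠ 1 := by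
  intro he
  obtain ⟨i, hi⟩ := Function.ne_iff.1 hφ
  have h1 := congrArg (fun g => app g (Pi.single i 1)) he
  simp only [app_tv, app_one, dotProduct_single, mul_one, add_eq_left, smul_eq_zero] at h1
  exact h1.elim hi ha

/-- A functional killing a subspace. -/
theorem exists_sep (W : Submodule F (Fin n → F)) {u : Fin n → F} (hu : u ∉ W) :
    ∃ ψ : Fin n → F, (∀ w ∈ W, ψ ⬝ᵥ w = 0) ∧ ψ ⬝ᵥ u = 1 := by
  obtain ⟨f, hfu, hfW⟩ := Submodule.exists_dual_map_eq_bot_of_notMem hu inferInstance
  have key : ∀ v, (fun i => (f u)⁻¹ * f (Pi.single i 1)) ⬝ᵥ v = (f u)⁻¹ * f v := by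
    intro v
    conv_rhs => rw [pi_eq_sum_univ' v, map_sum, Finset.mul_sum]
    exact Finset.sum_congr rfl fun i _ => by rw [map_smul, smul_eq_mul]; ring
  refine ⟨fun i => (f u)⁻¹ * f (Pi.single i 1), fun w hw => ?_, by rw [key, inv_mul_cancel₀ hfu]⟩
  have h0 : f w ∈ W.map f := Submodule.mem_map_of_mem hw
  rw [hfW, Submodule.mem_bot] at h0
  rw [key, h0, mul_zero]

theorem span_pair_ne_top (hn : 3 ≤ n) (a b : Fin n → F) : Submodule.span F ({a, b} : Set (Fin n → F)) ≠ ⊤ := by
  classical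
  intro h
  have h1 := finrank_span_le_card (R := F) ({a, b} : Set (Fin n → F))
  rw [h, finrank_top, Module.finrank_fin_fun, Set.toFinset_insert, Set.toFinset_singleton] at h1
  have := Finset.card_insert_le a ({b} : Finset (Fin n → F))
  rw [Finset.card_singleton] at this
  omega

theorem exists_notMem_union {W W' : Submodule F (Fin n → F)} (h : W ≠ ⊤) (h' : W' ≠ ⊤) :
    ∃ v, v ∉ W ∧ v ∉ W' := by
  obtain ⟨a, ha⟩ := SetLike.exists_not_mem_of_ne_top W h rfl
  obtain ⟨b, hb⟩ := SetLike.exists_not_mem_of_ne_top W' h' rfl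
  by_cases ha' : a ∈ W'
  · by_cases hb' : b ∈ W
    · exact ⟨a + b, fun hc => ha (by simpa using W.sub_mem hc hb'),
        fun hc => hb (by simpa using W'.sub_mem hc ha')⟩
    · exact ⟨b, hb', hb⟩
  · exact ⟨a, ha, ha'⟩

/-- Transitivity on pairs (a point, an independent vector). -/
theorem exists_app_pair (hn : 3 ≤ n) {x v v' : Fin n → F} (hv : v ∉ Submodule.span F {x})
    (hv' : v' ∉ Submodule.span F {x}) :
    ∃ g : SpecialLinearGroup (Fin n) F, app g x = x ∧ app g v = v' := by
  have key : ∀ v v' : Fin n → F, v ∉ Submodule.span F {x} → v' ∉ Submodule.span F ({x, v} : Set (Fin n → F)) →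
      ∃ g : SpecialLinearGroup (Fin n) F, app g x = x ∧ app g v = v' := by
    intro v v' hv hv'
    obtain ⟨ψ, hψ, hψv⟩ := exists_sep (Submodule.span F {x, v' - v}) (u := v) (by
      intro hmem
      obtain ⟨a, b, hab⟩ := Submodule.mem_span_pair.1 hmem
      by_cases hb : b = 0
      · exact hv (Submodule.mem_span_singleton.2 ⟨a, by rw [← hab, hb, zero_smul, add_zero]⟩)
      · refine hv' (Submodule.mem_span_pair.2 ⟨-(b⁻¹ * a), b⁻¹ + 1, ?_⟩)
        have h' : v' = b⁻¹ • (b • (v' - v)) + v := by rw [smul_smul, inv_mul_cancel₀ hb, one_smul, sub_add_cancel]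
        rw [eq_sub_of_add_eq' hab] at h'
        conv_rhs => rw [h']
        module)
    have hx : ψ ⬝ᵥ x = 0 := hψ x (Submodule.subset_span (Set.mem_insert _ _))
    have hd : ψ ⬝ᵥ (v' - v) = 0 := hψ _ (Submodule.subset_span (Set.mem_insert_of_mem _ rfl))
    exact ⟨tv (v' - v) ψ hd, by rw [app_tv, hx, zero_smul, add_zero],
      by rw [app_tv, hψv, one_smul, add_sub_cancel]⟩
  obtain ⟨w, hw, hw'⟩ := exists_notMem_union (span_pair_ne_top hn x v) (span_pair_ne_top hn x v')
  have hwx : w ∉ Submodule.span F {x} :=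
    fun h => hw (Submodule.span_mono (by simp) h)
  obtain ⟨g, hgx, hgv⟩ := key v w hv hw
  obtain ⟨g', hgx', hgv'⟩ := key v' w hv' hw'
  exact ⟨g'⁻¹ * g, by rw [app_mul, hgx]; conv_lhs => rw [← hgx', app_inv],
    by rw [app_mul, hgv, ← hgv', app_inv]⟩

/-- Transitivity on non-zero vectors. -/
theorem exists_app (hn : 3 ≤ n) {a b : Fin n → F} (ha : a ≠ 0) (hb : b ≠ 0) :
    ∃ g : SpecialLinearGroup (Fin n) F, app g a = b := by
  obtain ⟨z, hza, hzb⟩ := exists_notMem_union (span_pair_ne_top hn a a) (span_pair_ne_top hn b b)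
  have key : ∀ c : Fin n → F, c ≠ 0 → z ∉ Submodule.span F ({c, c} : Set (Fin n → F)) →
      ∃ g : SpecialLinearGroup (Fin n) F, app g c = z := by
    intro c hc hz
    obtain ⟨ψ, hψ, hψc⟩ := exists_sep (Submodule.span F {z - c}) (u := c) (by
      intro hmem
      obtain ⟨t, ht⟩ := Submodule.mem_span_singleton.1 hmem
      by_cases h0 : t = 0
      · exact hc (by rw [← ht, h0, zero_smul])
      · refine hz (Submodule.mem_span_pair.2 ⟨t⁻¹ + 1, 0, ?_⟩)
        rw [zero_smul, add_zero, add_smul, one_smul, ← ht, smul_smul, inv_mul_cancel₀ h0, one_smul,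
          ht, sub_add_cancel])
    exact ⟨tv (z - c) ψ (hψ _ (Submodule.mem_span_singleton_self _)),
      by rw [app_tv, hψc, one_smul, add_sub_cancel]⟩
  obtain ⟨g, hg⟩ := key a ha hza
  obtain ⟨g', hg'⟩ := key b hb hzb
  exact ⟨g'⁻¹ * g, by rw [app_mul, hg, ← hg', app_inv]⟩

section Points

variable [Finite F]

/-- The number of points. -/
theorem sub_one_mul_card_points (n : ℕ) :
    (Nat.card F - 1) * Nat.card (Projectivization F (Fin n → F)) = Nat.card F ^ n - 1 := by
  rw [mul_comm, ← Projectivization.card F (Fin n → F), Nat.card_fun]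
  simp

theorem card_points_succ (n : ℕ) :
    Nat.card (Projectivization F (Fin (n + 1) → F)) =
      Nat.card F ^ n + Nat.card (Projectivization F (Fin n → F)) := by
  have h1 := sub_one_mul_card_points (F := F) (n + 1)
  have h2 := sub_one_mul_card_points (F := F) n
  have hq : 1 < Nat.card F := Finite.one_lt_card
  obtain ⟨r, hr⟩ := Nat.exists_eq_add_of_le hq.le
  refine Nat.eq_of_mul_eq_mul_left (show 0 < Nat.card F - 1 by omega) ?_
  rw [Nat.mul_add, h1, h2, pow_succ, Nat.sub_mul, one_mul, mul_comm (Nat.card F)]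
  have : 1 ≤ Nat.card F ^ n := Nat.one_le_pow _ _ (by omega)
  have : Nat.card F ^ n ≤ Nat.card F ^ n * Nat.card F := Nat.le_mul_of_pos_right _ (by omega)
  omega

theorem card_points_le (n : ℕ) : Nat.card (Projectivization F (Fin n → F)) ≤ Nat.card F ^ n - 1 := by
  rw [← sub_one_mul_card_points (F := F) n]
  exact Nat.le_mul_of_pos_left _ (by have : 1 < Nat.card F := Finite.one_lt_card; omega)

/-- A subgroup preserving a subspace has index at least the number of points. -/
theorem le_index_of_preserves (hn : 3 ≤ n) (H : Subgroup (SpecialLinearGroup (Fin n) F))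
    (W : Submodule F (Fin n → F)) (hW : W ≠ ⊥) (hW' : W ≠ ⊤)
    (hH : ∀ g ∈ H, ∀ w ∈ W, app g w ∈ W) :
    Nat.card (Projectivization F (Fin n → F)) ≤ H.index := by
  classical
  let im : SpecialLinearGroup (Fin n) F → Set (Fin n → F) := fun g => app g '' W
  have hconst : ∀ g h : SpecialLinearGroup (Fin n) F, (g : SpecialLinearGroup (Fin n) F ⧸ H) = h →
      im g = im h := by
    intro g h e
    have hk : g⁻¹ * h ∈ H := QuotientGroup.eq.1 e
    ext y
    constructor
    · rintro ⟨w, hw, rfl⟩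
      refine ⟨app (g⁻¹ * h)⁻¹ w, hH _ (inv_mem hk) w hw, ?_⟩
      rw [← app_mul]
      congr 1
      group
    · rintro ⟨w, hw, rfl⟩
      refine ⟨app (g⁻¹ * h) w, hH _ hk w hw, ?_⟩
      rw [← app_mul]
      congr 1
      group
  let f : SpecialLinearGroup (Fin n) F ⧸ H → Set (Fin n → F) :=
    fun c => Quotient.liftOn' c im (fun g h e => hconst g h (Quotient.sound' e))
  have hbound : ∀ S : Set (Set (Fin n → F)), (∀ s ∈ S, ∃ g, im g = s) → S.ncard ≤ H.index := by
    intro S hS
    rw [Subgroup.index, ← Set.ncard_univ]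
    refine le_trans (Set.ncard_le_ncard (t := f '' Set.univ) (fun s hs => ?_) (Set.toFinite _))
      (Set.ncard_image_le (Set.toFinite _))
    obtain ⟨g, hg⟩ := hS s hs
    exact ⟨(g : SpecialLinearGroup (Fin n) F ⧸ H), trivial, hg⟩
  obtain ⟨b, hbW⟩ := SetLike.exists_not_mem_of_ne_top W hW' rfl
  obtain ⟨w₀, hw₀, hw₀0⟩ := Submodule.exists_mem_ne_zero_of_ne_bot hW
  have hq : 1 < Nat.card F := Finite.one_lt_card
  obtain ⟨U, hU⟩ := W.exists_isCompl
  have hdim : Module.finrank F W + Module.finrank F U = n := by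
    rw [Submodule.finrank_add_eq_of_isCompl hU, Module.finrank_fin_fun]
  have hW1 : 1 ≤ Module.finrank F W := Submodule.one_le_finrank_iff.2 hW
  have hU1 : 1 ≤ Module.finrank F U := by
    by_contra hc
    have : Module.finrank F W = Module.finrank F (⊤ : Submodule F (Fin n → F)) := by
      rw [finrank_top, Module.finrank_fin_fun]; omega
    exact hW' (Submodule.eq_of_le_of_finrank_eq le_top this)
  by_cases h1 : Module.finrank F W = 1
  · -- the points
    have hspan : W = Submodule.span F {w₀} := (Submodule.eq_of_le_of_finrank_eq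
      ((Submodule.span_singleton_le_iff_mem _ _).2 hw₀) (by rw [finrank_span_singleton hw₀0, h1])).symm
    refine le_trans ?_ (hbound (Set.range fun P : Projectivization F (Fin n → F) => (P.submodule : Set (Fin n → F))) ?_)
    · exact (Set.ncard_range_of_injective (fun P Q e => Projectivization.submodule_injective
        (SetLike.coe_injective e))).ge
    · rintro _ ⟨P, rfl⟩
      obtain ⟨g, hg⟩ := exists_app hn hw₀0 P.rep_nonzero
      refine ⟨g, ?_⟩
      ext y
      simp only [im, hspan, P.submodule_eq, Set.mem_image, SetLike.mem_coe,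
        Submodule.mem_span_singleton]
      constructor
      · rintro ⟨_, ⟨a, rfl⟩, rfl⟩
        exact ⟨a, by rw [app_smul, hg]⟩
      · rintro ⟨a, rfl⟩
        exact ⟨_, ⟨a, rfl⟩, by rw [app_smul, hg]⟩
  by_cases h2 : Module.finrank F U = 1
  · -- the hyperplanes
    obtain ⟨ψ, hψW, hψb⟩ := exists_sep W hbW
    have hψ0 : ψ ≠ 0 := fun h => by rw [h, zero_dotProduct] at hψb; exact zero_ne_one hψb
    have hker : ∀ v, v ∈ W ↔ ψ ⬝ᵥ v = 0 := by
      intro v
      refine ⟨hψW v, fun hv => ?_⟩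
      by_contra hvW
      have htop : W ⊔ Submodule.span F {v} = ⊤ := Submodule.eq_top_of_finrank_eq (by
        have hlt : W < W ⊔ Submodule.span F {v} := left_lt_sup.2 fun h =>
          hvW (h (Submodule.mem_span_singleton_self v))
        have := Submodule.finrank_lt_finrank_of_lt hlt
        have := Submodule.finrank_le (W ⊔ Submodule.span F {v})
        rw [Module.finrank_fin_fun] at this ⊢
        omega)
      have hb' : b ∈ W ⊔ Submodule.span F {v} := htop ▸ Submodule.mem_top
      obtain ⟨w, hw, z, hz, rfl⟩ := Submodule.mem_sup.1 hb'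
      obtain ⟨t, rfl⟩ := Submodule.mem_span_singleton.1 hz
      rw [dotProduct_add, dotProduct_smul, hψW w hw, hv, smul_zero, add_zero] at hψb
      exact zero_ne_one hψb
    refine le_trans ?_ (hbound (Set.range fun P : Projectivization F (Fin n → F) => {v | P.rep ⬝ᵥ v = 0}) ?_)
    · refine (Set.ncard_range_of_injective (fun P Q e => ?_)).ge
      have hPQ : ∀ v, P.rep ⬝ᵥ v = 0 ↔ Q.rep ⬝ᵥ v = 0 := fun v => Set.ext_iff.1 e v
      obtain ⟨i, hi⟩ := Function.ne_iff.1 P.rep_nonzero
      have h3 : ∀ j, P.rep i * Q.rep j = Q.rep i * P.rep j := fun j => by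
        have hv : P.rep ⬝ᵥ (P.rep i • Pi.single j 1 - P.rep j • Pi.single i (1 : F)) = 0 := by
          rw [dotProduct_sub, dotProduct_smul, dotProduct_smul, dotProduct_single, dotProduct_single]
          simp [mul_comm]
        have h4 := (hPQ _).1 hv
        rw [dotProduct_sub, dotProduct_smul, dotProduct_smul, dotProduct_single, dotProduct_single] at h4
        simp only [smul_eq_mul, mul_one] at h4
        linear_combination h4
      have hQi : Q.rep i ≠ 0 := fun h0 => Q.rep_nonzero (funext fun j => by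
        have := h3 j
        rw [h0, zero_mul, mul_eq_zero] at this
        exact this.resolve_left hi)
      rw [← P.mk_rep, ← Q.mk_rep, Projectivization.mk_eq_mk_iff']
      exact ⟨P.rep i / Q.rep i, funext fun j => by
        rw [Pi.smul_apply, smul_eq_mul, div_mul_eq_mul_div, h3 j, mul_div_cancel_left₀ _ hQi]⟩
    · rintro _ ⟨P, rfl⟩
      obtain ⟨g, hg⟩ := exists_app hn hψ0 P.rep_nonzero
      refine ⟨(g.transpose)⁻¹, Set.ext fun y => ?_⟩
      have hrow : ∀ v, P.rep ⬝ᵥ v = ψ ⬝ᵥ app g.transpose v := fun v => by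
        rw [← hg]
        show (g.1 *ᵥ ψ) ⬝ᵥ v = ψ ⬝ᵥ (g.1ᵀ *ᵥ v)
        rw [dotProduct_mulVec, vecMul_transpose]
      constructor
      · rintro ⟨w, hw, rfl⟩
        show P.rep ⬝ᵥ _ = 0
        rw [hrow, app_inv', hψW w hw]
      · intro hy
        exact ⟨app g.transpose y, (hker _).2 (by rw [← hrow]; exact hy), app_inv _ _⟩
  -- complements of a fixed complement
  set π := W.projectionOnto U hU
  have hunip : ∀ f : W →ₗ[F] U, ∃ g : SpecialLinearGroup (Fin n) F,
      ∀ w : W, app g w = (w : Fin n → F) + f w := by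
    intro f
    let N : (Fin n → F) →ₗ[F] (Fin n → F) := U.subtype ∘ₗ f ∘ₗ π
    let bW := Module.finBasis F W
    have hdet : (LinearMap.toMatrix' (1 + N)).det = 1 := by
      have hA : LinearMap.toMatrix' N = LinearMap.toMatrix bW (Pi.basisFun F (Fin n)) (U.subtype ∘ₗ f) *
          LinearMap.toMatrix (Pi.basisFun F (Fin n)) bW π := by
        rw [← LinearMap.toMatrix_comp, ← LinearMap.toMatrix_eq_toMatrix']
        rfl
      have hB : LinearMap.toMatrix (Pi.basisFun F (Fin n)) bW π *
          LinearMap.toMatrix bW (Pi.basisFun F (Fin n)) (U.subtype ∘ₗ f) = 0 := by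
        rw [← LinearMap.toMatrix_comp, show π ∘ₗ U.subtype ∘ₗ f = 0 from LinearMap.ext fun w => by
          simp [π, Submodule.projectionOnto_apply_right], map_zero]
      rw [map_add, LinearMap.toMatrix'_one, hA, det_one_add_mul_comm, hB, add_zero, det_one]
    refine ⟨⟨_, hdet⟩, fun w => ?_⟩
    show LinearMap.toMatrix' (1 + N) *ᵥ _ = _
    rw [LinearMap.toMatrix'_mulVec]
    simp [N, π, Submodule.projectionOnto_apply_left]
  choose g hg using hunip
  refine le_trans ?_ (hbound (Set.range fun f => im (g f)) fun s ⟨f, hf⟩ => ⟨g f, hf⟩)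
  rw [Set.ncard_range_of_injective (fun f f' (e : im (g f) = im (g f')) => ?_),
    Module.natCard_eq_pow_finrank (K := F) (V := W →ₗ[F] U), Module.finrank_linearMap]
  · refine le_trans (card_points_le n) (le_trans (Nat.sub_le _ _) (Nat.pow_le_pow_right (by omega) ?_))
    have h3 : 2 ≤ Module.finrank F W := by omega
    have h4 : 2 ≤ Module.finrank F U := by omega
    calc n = Module.finrank F W + Module.finrank F U := hdim.symm
      _ ≤ _ := Nat.add_le_mul h3 h4
  · refine LinearMap.ext fun w => ?_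
    have hm : app (g f) w ∈ im (g f') := e ▸ ⟨w, w.2, rfl⟩
    obtain ⟨w', hw', he⟩ := hm
    rw [show w' = ((⟨w', hw'⟩ : W) : Fin n → F) from rfl, hg, hg] at he
    have h0 : ((⟨w', hw'⟩ : W) : Fin n → F) - w = f w - f' ⟨w', hw'⟩ := by linear_combination (norm := module) he
    have hz : ((⟨w', hw'⟩ : W) : Fin n → F) - w = 0 := by
      refine Submodule.disjoint_def.1 hU.disjoint _ (W.sub_mem hw' w.2) ?_
      rw [h0]
      exact U.sub_mem (f w).2 (f' _).2
    obtain rfl : (⟨w', hw'⟩ : W) = w := Subtype.ext (sub_eq_zero.1 hz)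
    rw [hz, eq_comm, sub_eq_zero] at h0
    exact Subtype.ext h0

end Points

/-! ### The action of a transvection group on the cosets -/

/-- The functionals killing `x`. -/
def ann (x : Fin n → F) : Submodule F (Fin n → F) where
  carrier := {φ | φ ⬝ᵥ x = 0}
  add_mem' {a b} ha hb := by show (a + b) ⬝ᵥ x = 0; rw [add_dotProduct, ha, hb, add_zero]
  zero_mem' := zero_dotProduct x
  smul_mem' c a ha := by show (c • a) ⬝ᵥ x = 0; rw [smul_dotProduct, ha, smul_zero]

/-- The transvection group with centre `x`, as a homomorphism. -/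
def Qhom (x : Fin n → F) : Multiplicative (ann x) →* SpecialLinearGroup (Fin n) F where
  toFun φ := tv x (Multiplicative.toAdd φ).1 (Multiplicative.toAdd φ).2
  map_one' := tv_zero x _
  map_mul' φ φ' := (tv_mul _ _).symm

theorem card_ann [Finite F] {x : Fin n → F} (hx : x ≠ 0) :
    Nat.card F * Nat.card (ann x) = Nat.card F ^ n := by
  obtain ⟨ψ, -, hψ⟩ := exists_sep ⊥ (u := x) (by rwa [Submodule.mem_bot])
  let e : (Fin n → F) ≃ F × ann x :=
    { toFun := fun φ => ⟨φ ⬝ᵥ x, φ - (φ ⬝ᵥ x) • ψ, by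
        show (φ - (φ ⬝ᵥ x) • ψ) ⬝ᵥ x = 0
        rw [sub_dotProduct, smul_dotProduct, hψ, smul_eq_mul, mul_one, sub_self]⟩
      invFun := fun c => c.2.1 + c.1 • ψ
      left_inv := fun φ => sub_add_cancel _ _
      right_inv := fun c => by
        have h : (c.2.1 + c.1 • ψ) ⬝ᵥ x = c.1 := by
          rw [add_dotProduct, smul_dotProduct, hψ, c.2.2, smul_eq_mul, mul_one, zero_add]
        exact Prod.ext h (Subtype.ext (by
          show c.2.1 + c.1 • ψ - ((c.2.1 + c.1 • ψ) ⬝ᵥ x) • ψ = _
          rw [h, add_sub_cancel_right])) }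
  rw [← Nat.card_prod, ← Nat.card_congr e, Nat.card_fun]
  simp

variable (H : Subgroup (SpecialLinearGroup (Fin n) F))

/-- No transvection group with fixed centre fixes a coset. -/
def NoFix : Prop :=
  ∀ (x : Fin n → F), x ≠ 0 → ∀ ω : SpecialLinearGroup (Fin n) F ⧸ H, ∃ (φ : Fin n → F) (h : φ ⬝ᵥ x = 0),
    tv x φ h • ω ≠ ω

theorem noFix_or_le [Finite F] (hn : 3 ≤ n) (hH : H ≠ ⊤) :
    NoFix H ∨ Nat.card (Projectivization F (Fin n → F)) ≤ H.index := by
  by_cases hnf : NoFix H
  · exact Or.inl hnf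
  refine Or.inr ?_
  simp only [NoFix, not_forall, not_exists, not_not] at hnf
  obtain ⟨x, hx, ω, hfix⟩ := hnf
  obtain ⟨g, rfl⟩ := QuotientGroup.mk_surjective ω
  let R : Submodule F (Fin n → F) :=
    { carrier := {y | ∀ (φ : Fin n → F) (h : φ ⬝ᵥ y = 0), tv y φ h ∈ H}
      zero_mem' := fun φ h => by
        rw [show tv 0 φ h = 1 from ext_app fun v => by rw [app_tv, smul_zero, add_zero, app_one]]
        exact H.one_mem
      smul_mem' := fun c y hy φ h => by
        have h' : (c • φ) ⬝ᵥ y = 0 := by rwa [smul_dotProduct, ← dotProduct_smul]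
        rw [show tv (c • y) φ h = tv y (c • φ) h' from ext_app fun v => by
          rw [app_tv, app_tv, smul_dotProduct, smul_eq_mul, smul_smul, mul_comm]]
        exact hy _ h'
      add_mem' := fun {y z} hy hz φ h => by
        by_cases hyz : z ∈ Submodule.span F {y}
        · obtain ⟨c, rfl⟩ := Submodule.mem_span_singleton.1 hyz
          have h' : ((1 + c) • φ) ⬝ᵥ y = 0 := by
            rw [smul_dotProduct, ← dotProduct_smul, add_smul, one_smul]; exact h
          rw [show tv (y + c • y) φ h = tv y ((1 + c) • φ) h' from ext_app fun v => by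
            rw [app_tv, app_tv, smul_dotProduct, smul_eq_mul]; module]
          exact hy _ h'
        · obtain ⟨ψ, hψ, hψz⟩ := exists_sep _ hyz
          have hψy : ψ ⬝ᵥ y = 0 := hψ y (Submodule.mem_span_singleton_self y)
          have hg : app (tv y ψ hψy) z = y + z := by rw [app_tv, hψz, one_smul, add_comm]
          have h' : (φ ᵥ* (tv y ψ hψy).1) ⬝ᵥ z = 0 := by
            rw [← dotProduct_mulVec]
            show φ ⬝ᵥ app (tv y ψ hψy) z = 0
            rw [hg]; exact h
          have hc : tv (y + z) φ h = tv y ψ hψy * tv z (φ ᵥ* (tv y ψ hψy).1) h' * (tv y ψ hψy)⁻¹ :=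
            ext_app fun v => by
              rw [app_mul, app_mul, app_tv, app_tv z, app_add, app_smul, app_inv', hg,
                ← dotProduct_mulVec]
              show _ = v + (φ ⬝ᵥ app (tv y ψ hψy) (app (tv y ψ hψy)⁻¹ v)) • (y + z)
              rw [app_inv']
          rw [hc]
          exact H.mul_mem (H.mul_mem (hy _ _) (hz _ _)) (H.inv_mem (hy _ _)) }
  have hxR : app g⁻¹ x ∈ R := by
    intro φ h
    have h' : (φ ᵥ* (g⁻¹).1) ⬝ᵥ x = 0 := by rw [← dotProduct_mulVec]; exact h
    have hc : g * tv (app g⁻¹ x) φ h * g⁻¹ = tv x (φ ᵥ* (g⁻¹).1) h' := by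
      rw [conj_tv]
      exact ext_app fun v => by rw [app_tv, app_tv, app_inv']
    have hf := hfix _ h'
    rw [← hc, MulAction.Quotient.smul_coe, QuotientGroup.eq, smul_eq_mul] at hf
    have := H.inv_mem hf
    simpa [mul_assoc] using this
  refine le_index_of_preserves hn H R (fun hb => app_ne_zero g⁻¹ hx ?_) (fun ht => hH ?_) ?_
  · rwa [hb, Submodule.mem_bot] at hxR
  · have : Nontrivial (Fin n) := Fin.nontrivial_iff_two_le.2 (by omega)
    refine eq_top_of_transvection_mem H fun i j hij c => ?_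
    have h : (c • (Pi.single j (1 : F))) ⬝ᵥ (Pi.single i 1 : Fin n → F) = 0 := by
      simp [smul_dotProduct, hij]
    have hm : (Pi.single i 1 : Fin n → F) ∈ R := ht ▸ Submodule.mem_top
    convert hm _ h
    refine SL_ext_smul fun v => funext fun k => ?_
    rw [transvection_smul_apply]
    show _ = app (tv _ _ h) v k
    rw [app_tv]
    simp [Pi.single_apply]
  · intro k hk y hy φ h
    have h' : (φ ᵥ* k.1) ⬝ᵥ y = 0 := by rw [← dotProduct_mulVec]; exact h
    have hc : tv (app k y) φ h = k * tv y (φ ᵥ* k.1) h' * k⁻¹ := by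
      refine ext_app fun v => ?_
      rw [app_mul, app_mul, app_tv, app_tv y, app_add, app_smul, app_inv', ← dotProduct_mulVec]
      show _ = v + (φ ⬝ᵥ app k (app k⁻¹ v)) • app k y
      rw [app_inv']
    rw [hc]
    exact H.mul_mem (H.mul_mem hk (hy _ _)) (H.inv_mem hk)

section Orbits

open scoped Classical

variable [Finite F]

/-- The orbits of one transvection group, when the index is small. -/
theorem orbit_dichotomy (hn : 3 ≤ n) (hnf : NoFix H)
    (hd : H.index < Nat.card (Projectivization F (Fin n → F))) {x : Fin n → F} (hx : x ≠ 0) :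
    (H.index = Nat.card F ^ (n - 1) ∧
      (∀ ω ω' : SpecialLinearGroup (Fin n) F ⧸ H, ∃ (φ : Fin n → F) (h : φ ⬝ᵥ x = 0), tv x φ h • ω = ω') ∧
      ∀ (ω : SpecialLinearGroup (Fin n) F ⧸ H) (φ : Fin n → F) (h : φ ⬝ᵥ x = 0), tv x φ h • ω = ω → φ = 0) ∨
    (H.index ≠ Nat.card F ^ (n - 1) ∧
      ∀ ω : SpecialLinearGroup (Fin n) F ⧸ H, ∃ v : Fin n → F, v ∉ Submodule.span F {x} ∧
        ∀ (φ : Fin n → F) (h : φ ⬝ᵥ x = 0), tv x φ h • ω = ω ↔ φ ⬝ᵥ v = 0) := by
  set q := Nat.card F with hq'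
  have hq : 1 < q := Finite.one_lt_card
  obtain ⟨p, hp⟩ := CharP.exists F
  cases nonempty_fintype F
  obtain ⟨e, hpp, -⟩ := FiniteField.card F p
  have := Fact.mk hpp
  let _ : Algebra (ZMod p) F := ZMod.algebra F p
  -- the trace pairing
  let tr := Algebra.trace (ZMod p) F
  let B : LinearMap.BilinForm (ZMod p) (Fin n → F) := LinearMap.mk₂ (ZMod p) (fun u v => tr (u ⬝ᵥ v))
    (fun u u' v => by rw [add_dotProduct, map_add])
    (fun c u v => by rw [smul_dotProduct, map_smul])
    (fun u v v' => by rw [dotProduct_add, map_add])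
    (fun c u v => by rw [dotProduct_smul, map_smul])
  have htr : ∀ a : F, (∀ c : F, tr (c * a) = 0) → a = 0 := fun a ha =>
    (traceForm_nondegenerate (ZMod p) F).1 a fun c => by
      rw [Algebra.traceForm_apply, mul_comm]; exact ha c
  have hBsymm : ∀ u v, B u v = B v u := fun u v => congrArg tr (dotProduct_comm u v)
  have hBrefl : B.IsRefl := fun u v h => by rw [hBsymm]; exact h
  have hBnd : B.Nondegenerate := by
    have h1 : ∀ u, (∀ v, B u v = 0) → u = 0 := fun u hu => funext fun i => htr _ fun c => by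
      have := hu (Pi.single i c)
      rwa [show B u (Pi.single i c) = tr (u ⬝ᵥ Pi.single i c) from rfl, dotProduct_single, mul_comm] at this
    exact ⟨h1, fun v hv => h1 v fun u => by rw [hBsymm]; exact hv u⟩
  -- stabilisers
  let Ω := SpecialLinearGroup (Fin n) F ⧸ H
  let _ : MulAction (Multiplicative (ann x)) Ω := MulAction.compHom Ω (Qhom x)
  have hsmul : ∀ (φ : ann x) (ω : Ω), Multiplicative.ofAdd φ • ω = tv x φ.1 φ.2 • ω := fun _ _ => rfl
  let S : Ω → Submodule (ZMod p) (Fin n → F) := fun ω =>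
    (AddSubgroup.toZModSubmodule p
      { carrier := {φ | ∃ h : φ ⬝ᵥ x = 0, tv x φ h • ω = ω}
        zero_mem' := ⟨zero_dotProduct x, by rw [tv_zero, one_smul]⟩
        add_mem' := fun {a b} ⟨ha, ha'⟩ ⟨hb, hb'⟩ =>
          ⟨by rw [add_dotProduct, ha, hb, add_zero], by rw [← tv_mul ha hb, mul_smul, hb', ha']⟩
        neg_mem' := fun {a} ⟨ha, ha'⟩ =>
          ⟨by rw [neg_dotProduct, ha, neg_zero], by rw [← tv_inv ha, inv_smul_eq_iff, ha']⟩ })
  have hS : ∀ ω φ, φ ∈ S ω ↔ ∃ h : φ ⬝ᵥ x = 0, tv x φ h • ω = ω := fun _ _ => Iff.rfl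
  have hSconst : ∀ (ω : Ω) (a : Multiplicative (ann x)), S (a • ω) = S ω := by
    intro ω a
    ext φ
    rw [hS, hS]
    refine exists_congr fun h => ?_
    show Qhom x (Multiplicative.ofAdd ⟨φ, h⟩) • Qhom x a • ω = Qhom x a • ω ↔ _
    rw [smul_smul, ← map_mul, mul_comm, map_mul, mul_smul, smul_left_cancel_iff]
    rfl
  let U : Ω → Submodule (ZMod p) (Fin n → F) := fun ω => B.orthogonal (S ω)
  have hU : ∀ ω v, v ∈ U ω ↔ ∀ (φ : Fin n → F) (h : φ ⬝ᵥ x = 0), tv x φ h • ω = ω → tr (φ ⬝ᵥ v) = 0 :=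
    fun ω v => ⟨fun hv φ h h' => hv φ ⟨h, h'⟩, fun hv φ ⟨h, h'⟩ => hv φ h h'⟩
  -- orbits
  let Orb := MulAction.orbitRel.Quotient (Multiplicative (ann x)) Ω
  have hUconst : ∀ ω ω' : Ω, (Quotient.mk'' ω : Orb) = Quotient.mk'' ω' → U ω = U ω' := by
    intro ω ω' h
    obtain ⟨a, rfl⟩ := Quotient.eq''.1 h
    exact congrArg B.orthogonal (hSconst ω' a)
  have hcardS : ∀ ω : Ω, Nat.card (MulAction.orbit (Multiplicative (ann x)) ω) * Nat.card (S ω) = Nat.card (ann x) := by
    intro ω
    rw [show Nat.card (S ω) = Nat.card (MulAction.stabilizer (Multiplicative (ann x)) ω) from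
      Nat.card_congr
        { toFun := fun φ => ⟨Multiplicative.ofAdd ⟨φ.1, φ.2.choose⟩, φ.2.choose_spec⟩
          invFun := fun a => ⟨(Multiplicative.toAdd a.1).1, (Multiplicative.toAdd a.1).2, a.2⟩
          left_inv := fun φ => rfl
          right_inv := fun a => rfl }, ← Nat.card_prod,
      Nat.card_congr (MulAction.orbitProdStabilizerEquivGroup (Multiplicative (ann x)) ω)]
    rfl
  have hcardU : ∀ ω : Ω, Nat.card (U ω) = q * Nat.card (MulAction.orbit (Multiplicative (ann x)) ω) := by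
    intro ω
    have h1 : Nat.card (S ω) * Nat.card (U ω) = q ^ n := by
      rw [Module.natCard_eq_pow_finrank (K := ZMod p) (V := S ω),
        Module.natCard_eq_pow_finrank (K := ZMod p) (V := U ω), ← pow_add,
        LinearMap.BilinForm.finrank_orthogonal hBnd, Nat.add_sub_cancel' (Submodule.finrank_le _),
        ← Module.natCard_eq_pow_finrank, Nat.card_fun]
      simp [q]
    have hpos : 0 < Nat.card (S ω) := Nat.card_pos
    refine Nat.eq_of_mul_eq_mul_left hpos ?_
    rw [h1, ← card_ann hx, ← hcardS ω]; ring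
  let UO : Orb → Submodule (ZMod p) (Fin n → F) := fun o => U o.out
  let ord : Orb → ℕ := fun o => Nat.card (MulAction.orbitRel.Quotient.orbit o)
  have hord : ∀ o : Orb, Nat.card (UO o) = q * ord o := fun o => by
    rw [hcardU, show ord o = Nat.card (MulAction.orbit (Multiplicative (ann x)) o.out) from
      congrArg (fun T : Set Ω => Nat.card T) (MulAction.orbitRel.Quotient.orbit_eq_orbit_out o Quotient.out_eq')]
  cases nonempty_fintype Orb
  have hdeg : H.index = ∑ o : Orb, ord o := by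
    rw [Subgroup.index, Nat.card_congr (MulAction.selfEquivSigmaOrbits' (Multiplicative (ann x)) Ω),
      Nat.card_sigma]
  have htwo : ∀ o : Orb, 2 ≤ ord o := by
    intro o
    obtain ⟨φ, h, hne⟩ := hnf x hx o.out
    rw [show ord o = Nat.card (MulAction.orbit (Multiplicative (ann x)) o.out) from
      congrArg (fun T : Set Ω => Nat.card T) (MulAction.orbitRel.Quotient.orbit_eq_orbit_out o Quotient.out_eq')]
    refine Finite.one_lt_card_iff_nontrivial.2 ⟨⟨o.out, MulAction.mem_orbit_self _⟩,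
      ⟨_, MulAction.mem_orbit o.out (Multiplicative.ofAdd ⟨φ, h⟩)⟩, fun h' => hne ?_⟩
    exact (congrArg Subtype.val h').symm
  -- invariance
  have hinv' : ∀ (g : SpecialLinearGroup (Fin n) F), app g x = x →
      ∃ f : Orb → Orb, Function.Injective f ∧ ∀ o v, v ∈ UO o → app g v ∈ UO (f o) := by
    intro g hg
    have hgQ : ∀ (φ : Fin n → F) (h : φ ⬝ᵥ x = 0) (ω : Ω),
        ∃ h' : (φ ᵥ* g.1) ⬝ᵥ x = 0, tv x φ h • g • ω = g • tv x (φ ᵥ* g.1) h' • ω := by
      intro φ h ω
      have h' : (φ ᵥ* g.1) ⬝ᵥ x = 0 := by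
        rw [← dotProduct_mulVec]; show φ ⬝ᵥ app g x = 0; rw [hg, h]
      refine ⟨h', ?_⟩
      rw [smul_smul, smul_smul]
      congr 1
      refine ext_app fun w => ?_
      rw [app_mul, app_mul, app_tv, app_tv, app_add, app_smul, hg, ← dotProduct_mulVec]
      rfl
    let f : Orb → Orb := fun o => Quotient.liftOn' o (fun ω => (Quotient.mk'' (g • ω) : Orb)) fun a b hab => by
      obtain ⟨s, rfl⟩ := hab
      refine Quotient.sound' ?_
      have h0 : ((Multiplicative.toAdd s).1 ᵥ* (g⁻¹).1) ⬝ᵥ x = 0 := by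
        rw [← dotProduct_mulVec]
        show (Multiplicative.toAdd s).1 ⬝ᵥ app g⁻¹ x = 0
        have h1 : app g⁻¹ x = x := by
          have h2 := app_inv g x
          rwa [hg] at h2
        rw [h1]
        exact (Multiplicative.toAdd s).2
      refine ⟨Multiplicative.ofAdd ⟨_, h0⟩, ?_⟩
      obtain ⟨h', e'⟩ := hgQ _ h0 b
      show tv x _ h0 • g • b = g • tv x (Multiplicative.toAdd s).1 (Multiplicative.toAdd s).2 • b
      rw [e']
      congr 2
      refine tv_congr _ _ ?_
      show (_ ᵥ* (g⁻¹).1) ᵥ* g.1 = _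
      rw [vecMul_vecMul, show (g⁻¹).1 * g.1 = 1 from congrArg Subtype.val (inv_mul_cancel g), vecMul_one]
    have hfinj : Function.Injective f := by
      intro o o'
      induction o using Quotient.inductionOn' with | h a =>
      induction o' using Quotient.inductionOn' with | h b =>
      intro hab
      obtain ⟨s, hs⟩ := Quotient.eq''.1 hab
      refine Quotient.sound' ?_
      obtain ⟨h', e'⟩ := hgQ _ (Multiplicative.toAdd s).2 b
      refine ⟨Multiplicative.ofAdd ⟨_, h'⟩, ?_⟩
      exact smul_left_cancel g (e'.symm.trans hs)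
    refine ⟨f, hfinj, fun o v ho => ?_⟩
    show app g v ∈ U (f o).out
    rw [hUconst (f o).out (g • o.out) ((Quotient.out_eq' (f o)).trans (by
      conv_lhs => rw [← Quotient.out_eq' o]
      rfl)), hU]
    intro φ h hfix
    obtain ⟨h', e'⟩ := hgQ φ h o.out
    rw [e', smul_left_cancel_iff] at hfix
    have := (hU _ v).1 ho _ h' hfix
    rwa [← dotProduct_mulVec] at this
  have hinv : ∀ (g : SpecialLinearGroup (Fin n) F), app g x = x → ∀ v,
      Nat.card {o : Orb // v ∈ UO o} ≤ Nat.card {o : Orb // app g v ∈ UO o} := by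
    intro g hg v
    obtain ⟨f, hfinj, hf⟩ := hinv' g hg
    exact Nat.card_le_card_of_injective (fun o => (⟨f o.1, hf o.1 v o.2⟩ : {o : Orb // app g v ∈ UO o}))
      fun o o' e => Subtype.ext (hfinj (congrArg Subtype.val e))
  have hconst : ∀ v v', v ∉ Submodule.span F {x} → v' ∉ Submodule.span F {x} →
      Nat.card {o : Orb // v ∈ UO o} = Nat.card {o : Orb // v' ∈ UO o} := by
    intro v v' hv hv'
    obtain ⟨g, hgx, hgv⟩ := exists_app_pair hn hv hv'
    obtain ⟨g', hgx', hgv'⟩ := exists_app_pair hn hv' hv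
    refine le_antisymm ?_ ?_
    · have := hinv g hgx v; rwa [hgv] at this
    · have := hinv g' hgx' v'; rwa [hgv'] at this
  have hline : ∀ ω v, v ∈ Submodule.span F {x} → v ∈ U ω := by
    intro ω v hv
    obtain ⟨c, rfl⟩ := Submodule.mem_span_singleton.1 hv
    exact (hU ω _).2 fun φ h _ => by rw [dotProduct_smul, h, smul_zero, map_zero]
  -- double counting
  obtain ⟨v₀, hv₀⟩ : ∃ v, v ∉ Submodule.span F {x} := by
    obtain ⟨v, hv, -⟩ := exists_notMem_union (span_pair_ne_top hn x x) (span_pair_ne_top hn x x)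
    exact ⟨v, fun h => hv (Submodule.span_mono (by simp) h)⟩
  set a := Nat.card {o : Orb // v₀ ∈ UO o} with ha'
  set X := Submodule.span F {x}
  have hX : Nat.card X = q := by
    rw [Module.natCard_eq_pow_finrank (K := F) (V := X), finrank_span_singleton hx, pow_one]
  have hrest : ∀ o : Orb, Nat.card {v : Fin n → F // v ∈ UO o ∧ v ∉ X} + q = q * ord o := by
    intro o
    have hUo : Nat.card (UO o) = Set.ncard ((UO o : Submodule (ZMod p) (Fin n → F)) : Set (Fin n → F)) :=
      Nat.card_coe_set_eq _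
    have hXn : Nat.card X = Set.ncard (X : Set (Fin n → F)) := Nat.card_coe_set_eq _
    rw [← hord o, ← hX, hUo, hXn,
      ← Set.ncard_sdiff_add_ncard_of_subset (fun v hv => hline o.out v hv : (X : Set (Fin n → F)) ⊆ UO o),
      ← Nat.card_coe_set_eq]
    congr 1
  have hcount : q * H.index = q * Fintype.card Orb + (q ^ n - q) * a := by
    have e1 : (∑ o : Orb, Nat.card {v : Fin n → F // v ∈ UO o ∧ v ∉ X}) =
        Nat.card {v : Fin n → F // v ∉ X} * a := by
      cases nonempty_fintype {v : Fin n → F // v ∉ X}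
      have : ∀ v : Fin n → F, Finite {o : Orb // v ∈ UO o} := fun _ => Subtype.finite
      have e2 : (Σ o : Orb, {v : Fin n → F // v ∈ UO o ∧ v ∉ X}) ≃
          Σ v : {v : Fin n → F // v ∉ X}, {o : Orb // v.1 ∈ UO o} :=
        { toFun := fun s => ⟨⟨s.2.1, s.2.2.2⟩, s.1, s.2.2.1⟩
          invFun := fun s => ⟨s.2.1, s.1.1, s.2.2, s.1.2⟩
          left_inv := fun _ => rfl
          right_inv := fun _ => rfl }
      rw [← Nat.card_sigma, Nat.card_congr e2, Nat.card_sigma,
        Finset.sum_congr rfl fun v _ => hconst v.1 v₀ v.2 hv₀, Finset.sum_const, Finset.card_univ,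
        smul_eq_mul, Nat.card_eq_fintype_card (α := {v : Fin n → F // v ∉ X})]
    have e3 : Nat.card {v : Fin n → F // v ∉ X} = q ^ n - q := by
      have hqn : q ^ n = Nat.card (Fin n → F) := by rw [Nat.card_fun]; simp [q]
      rw [hqn, ← hX]
      have h := Set.ncard_compl (X : Set (Fin n → F))
      rw [← Nat.card_coe_set_eq, ← Nat.card_coe_set_eq] at h
      exact h
    rw [hdeg, Finset.mul_sum, ← Finset.sum_congr rfl fun o _ => hrest o, Finset.sum_add_distrib, e1,
      Finset.sum_const, Finset.card_univ, smul_eq_mul, e3, mul_comm (Fintype.card Orb) q]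
    ring
  set N := Nat.card (Projectivization F (Fin n → F))
  set M := Nat.card (Projectivization F (Fin (n - 1) → F)) with hM
  have hN : N = q ^ (n - 1) + M := by
    obtain ⟨k, rfl⟩ : ∃ k, n = k + 1 := ⟨n - 1, by omega⟩
    exact card_points_succ k
  have hM' : (q - 1) * M = q ^ (n - 1) - 1 := sub_one_mul_card_points _
  have hcount' : H.index = Fintype.card Orb + (q ^ (n - 1) - 1) * a := by
    refine Nat.eq_of_mul_eq_mul_left (show 0 < q by omega) ?_
    have hqn : q ^ n = q * q ^ (n - 1) := by rw [← pow_succ', Nat.sub_add_cancel (by omega : 1 ≤ n)]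
    rw [hcount, hqn, Nat.mul_add, ← mul_assoc, Nat.mul_sub, mul_one]
  have hC : 1 ≤ Fintype.card Orb := Fintype.card_pos_iff.2 ⟨Quotient.mk'' ((1 : SpecialLinearGroup (Fin n) F) : Ω)⟩
  have hne : ∀ o : Orb, ∃ v, v ∈ UO o ∧ v ∉ X := by
    intro o
    by_contra hc
    push Not at hc
    have h1 : Nat.card {v : Fin n → F // v ∈ UO o ∧ v ∉ X} = 0 :=
      Nat.card_eq_zero.2 (Or.inl ⟨fun v => v.2.2 (hc v.1 v.2.1)⟩)
    have h2 := hrest o
    have h3 := Nat.mul_le_mul_left q (htwo o)
    omega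
  have ha1 : a = 1 := by
    obtain ⟨v, hv, hvX⟩ := hne (Quotient.mk'' ((1 : SpecialLinearGroup (Fin n) F) : Ω))
    have hpos : 0 < a := by
      rw [ha', hconst v₀ v hv₀ hvX]
      exact Nat.card_pos_iff.2 ⟨⟨⟨_, hv⟩⟩, inferInstance⟩
    by_contra hc
    have h2 : (q ^ (n - 1) - 1) * 2 ≤ (q ^ (n - 1) - 1) * a := Nat.mul_le_mul_left _ (by omega)
    have h3 : M ≤ q ^ (n - 1) - 1 := card_points_le (n - 1)
    omega
  have huniq : ∀ o o' : Orb, ∀ v, v ∉ X → v ∈ UO o → v ∈ UO o' → o = o' := by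
    intro o o' v hv ho ho'
    have h := (hconst v v₀ hv hv₀).trans ha1
    have hsub : Subsingleton {o : Orb // v ∈ UO o} := (Nat.card_eq_one_iff_unique.1 h).1
    exact congrArg Subtype.val (Subsingleton.elim (⟨o, ho⟩ : {o : Orb // v ∈ UO o}) ⟨o', ho'⟩)
  -- elements fixing `x` and a vector of an orbit space
  have hstab : ∀ (o : Orb) (v : Fin n → F) (g : SpecialLinearGroup (Fin n) F), app g x = x → v ∈ UO o →
      app g v = v → v ∉ X → ∀ w ∈ UO o, app g w ∈ UO o := by
    intro o v g hgx hv hgv hvX w hw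
    obtain ⟨f, -, hf⟩ := hinv' g hgx
    have hfo : f o = o := huniq _ _ v hvX (by
      have h := hf o v hv
      rwa [hgv] at h) hv
    have h := hf o w hw
    rwa [hfo] at h
  have hscale : ∀ (o : Orb) (v₁ v₂ : Fin n → F), v₁ ∈ UO o → v₁ ∉ X → v₂ ∈ UO o →
      v₂ ∉ Submodule.span F ({x, v₁} : Set (Fin n → F)) → ∀ c : F, c • v₁ ∈ UO o := by
    intro o v₁ v₂ h1 h1X h2 h2' c
    obtain ⟨ψ, hψ, hψ2⟩ := exists_sep _ h2'
    have hx' : ψ ⬝ᵥ x = 0 := hψ x (Submodule.subset_span (Set.mem_insert _ _))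
    have h1' : (c • ψ) ⬝ᵥ v₁ = 0 := by
      rw [smul_dotProduct, hψ v₁ (Submodule.subset_span (Set.mem_insert_of_mem _ rfl)), smul_zero]
    have h := hstab o v₁ (tv v₁ (c • ψ) h1') (by rw [app_tv, smul_dotProduct, hx', smul_zero, zero_smul, add_zero])
      h1 (by rw [app_tv, h1', zero_smul, add_zero]) h1X v₂ h2
    rw [app_tv, smul_dotProduct, hψ2, smul_eq_mul, mul_one] at h
    have := (UO o).sub_mem h h2
    rwa [add_sub_cancel_left] at this
  by_cases hbig : ∃ (o : Orb) (v₁ v₂ : Fin n → F), v₁ ∈ UO o ∧ v₁ ∉ X ∧ v₂ ∈ UO o ∧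
      v₂ ∉ Submodule.span F ({x, v₁} : Set (Fin n → F))
  · -- one regular orbit
    obtain ⟨o, v₁, v₂, h1, h1X, h2, h2'⟩ := hbig
    have h2X : v₂ ∉ X := fun h => h2' (Submodule.span_mono (by simp) h)
    have h1' : v₁ ∉ Submodule.span F ({x, v₂} : Set (Fin n → F)) := fun h => by
      obtain ⟨s, t, hst⟩ := Submodule.mem_span_pair.1 h
      by_cases ht : t = 0
      · exact h1X (Submodule.mem_span_singleton.2 ⟨s, by rw [← hst, ht, zero_smul, add_zero]⟩)
      · refine h2' (Submodule.mem_span_pair.2 ⟨-(t⁻¹ * s), t⁻¹, ?_⟩)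
        rw [← hst, smul_add, smul_smul, smul_smul, inv_mul_cancel₀ ht]
        module
    have htop : ∀ u, u ∈ UO o := by
      intro u
      by_cases hu : u ∈ Submodule.span F ({x, v₁, v₂} : Set (Fin n → F))
      · obtain ⟨a', z, hz, rfl⟩ := Submodule.mem_span_insert.1 hu
        obtain ⟨b', c', rfl⟩ := Submodule.mem_span_pair.1 hz
        exact (UO o).add_mem (hline o.out _ (Submodule.mem_span_singleton.2 ⟨a', rfl⟩))
          ((UO o).add_mem (hscale o v₁ v₂ h1 h1X h2 h2' b') (hscale o v₂ v₁ h2 h2X h1 h1' c'))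
      obtain ⟨ψ, hψ, hψ2⟩ := exists_sep (Submodule.span F ({x, v₁, u - v₂} : Set (Fin n → F))) (u := v₂) (by
        intro hmem
        obtain ⟨a', z, hz, hzv⟩ := Submodule.mem_span_insert.1 hmem
        obtain ⟨b', c', rfl⟩ := Submodule.mem_span_pair.1 hz
        by_cases hc : c' = 0
        · exact h2' (Submodule.mem_span_pair.2 ⟨a', b', by rw [hzv, hc, zero_smul, add_zero]⟩)
        · refine hu (Submodule.mem_span_insert.2 ⟨-(c'⁻¹ * a'), (-(c'⁻¹ * b')) • v₁ + (c'⁻¹ + 1) • v₂,
            Submodule.mem_span_pair.2 ⟨_, _, rfl⟩, ?_⟩)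
          have h' : u = c'⁻¹ • (c' • (u - v₂)) + v₂ := by
            rw [smul_smul, inv_mul_cancel₀ hc, one_smul, sub_add_cancel]
          have h'' : c' • (u - v₂) = v₂ - a' • x - b' • v₁ := by
            conv_rhs => rw [hzv]
            module
          rw [h'', ] at h'
          rw [h']
          module)
      have hd' : ψ ⬝ᵥ (u - v₂) = 0 := hψ _ (Submodule.subset_span (by simp))
      have h := hstab o v₁ (tv (u - v₂) ψ hd')
        (by rw [app_tv, hψ x (Submodule.subset_span (by simp)), zero_smul, add_zero]) h1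
        (by rw [app_tv, hψ v₁ (Submodule.subset_span (by simp)), zero_smul, add_zero]) h1X v₂ h2
      rwa [app_tv, hψ2, one_smul, add_sub_cancel] at h
    have hall : ∀ o' : Orb, o' = o := fun o' => by
      obtain ⟨v, hv, hvX⟩ := hne o'
      exact huniq _ _ v hvX hv (htop v)
    have hc1 : Fintype.card Orb = 1 := Fintype.card_eq_one_iff.2 ⟨o, hall⟩
    have hd' : H.index = q ^ (n - 1) := by
      rw [hcount', hc1, ha1, mul_one, Nat.add_sub_cancel' (Nat.one_le_pow _ _ (by omega))]
    refine Or.inl ⟨hd', fun ω ω' => ?_, fun ω φ h hfix => ?_⟩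
    · obtain ⟨s, hs⟩ := Quotient.eq''.1
        ((hall (Quotient.mk'' ω')).trans (hall (Quotient.mk'' ω)).symm)
      exact ⟨_, (Multiplicative.toAdd s).2, hs⟩
    · have hUtop : U ω = ⊤ := by
        rw [← hUconst (Quotient.mk'' ω : Orb).out ω (Quotient.out_eq' _)]
        exact Submodule.eq_top_iff'.2 fun u => (hall (Quotient.mk'' ω)).symm ▸ htop u
      have hbot : S ω = ⊥ := by
        rw [← LinearMap.BilinForm.orthogonal_orthogonal hBnd hBrefl (S ω)]
        show B.orthogonal (U ω) = ⊥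
        rw [hUtop, LinearMap.BilinForm.orthogonal_top_eq_bot hBnd]
      have hm : φ ∈ S ω := ⟨h, hfix⟩
      rw [hbot] at hm
      exact (Submodule.mem_bot _).1 hm
  · -- orbits of length `q`
    push Not at hbig
    choose vo hvo hvoX using hne
    have hsub : ∀ o : Orb, (UO o : Set (Fin n → F)) ⊆ Submodule.span F ({x, vo o} : Set (Fin n → F)) := by
      intro o w hw
      exact hbig o (vo o) w (hvo o) (hvoX o) hw
    have hspan : ∀ o : Orb,
        Set.ncard (Submodule.span F ({x, vo o} : Set (Fin n → F)) : Set (Fin n → F)) ≤ q ^ 2 := by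
      intro o
      rw [← Nat.card_coe_set_eq]
      refine le_trans (le_of_eq (Module.natCard_eq_pow_finrank (K := F))) (Nat.pow_le_pow_right (by omega) ?_)
      classical
      rw [show ({x, vo o} : Set (Fin n → F)) = (({x, vo o} : Finset (Fin n → F)) : Set (Fin n → F)) by simp]
      exact (finrank_span_finset_le_card _).trans ((Finset.card_insert_le _ _).trans (by rw [Finset.card_singleton]))
    have hle : ∀ o : Orb, ord o ≤ q := by
      intro o
      refine Nat.le_of_mul_le_mul_left ?_ (show 0 < q by omega)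
      rw [← hord o, ← sq]
      exact (Nat.card_coe_set_eq _).le.trans ((Set.ncard_le_ncard (hsub o)).trans (hspan o))
    have hsum : H.index ≤ q * Fintype.card Orb := by
      rw [hdeg, mul_comm]
      exact (Finset.sum_le_sum fun o _ => hle o).trans (by rw [Finset.sum_const, Finset.card_univ, smul_eq_mul])
    obtain ⟨r, hr⟩ : ∃ r, q = r + 1 := ⟨q - 1, by omega⟩
    have hqc : q * Fintype.card Orb = r * Fintype.card Orb + Fintype.card Orb := by rw [hr]; ring
    rw [show q - 1 = r by omega] at hM'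
    rw [ha1, mul_one] at hcount'
    have hcM : Fintype.card Orb = M := by
      have h1 : Fintype.card Orb ≤ M := by omega
      have h2 : r * M ≤ r * Fintype.card Orb := by omega
      exact le_antisymm h1 (Nat.le_of_mul_le_mul_left h2 (by omega))
    have heq : ∀ o : Orb, ord o = q := by
      have hs : ∑ o : Orb, ord o = ∑ _o : Orb, q := by
        rw [← hdeg, Finset.sum_const, Finset.card_univ, smul_eq_mul, mul_comm, hqc, hcM, hcount', hcM, hM']
        ring
      exact fun o => (Finset.sum_eq_sum_iff_of_le fun o _ => hle o).1 hs o (Finset.mem_univ o)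
    have hUeq : ∀ o : Orb, (UO o : Set (Fin n → F)) = Submodule.span F ({x, vo o} : Set (Fin n → F)) := by
      intro o
      refine Set.eq_of_subset_of_ncard_le (hsub o) ?_
      have h1 : Set.ncard (UO o : Set (Fin n → F)) = q * q := by
        rw [← Nat.card_coe_set_eq, ← heq o]; exact (hord o).trans (by rw [heq o])
      rw [h1, ← sq]
      exact hspan o
    refine Or.inr ⟨?_, fun ω => ?_⟩
    · rw [hcount', hcM]
      have hM2 : 2 ≤ M := by
        obtain ⟨k, hk⟩ : ∃ k, n - 1 = k + 1 := ⟨n - 2, by omega⟩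
        rw [hM, hk, card_points_succ]
        have : q ≤ Nat.card F ^ k := Nat.le_self_pow (by omega) q
        omega
      have : 1 ≤ q ^ (n - 1) := Nat.one_le_pow _ _ (by omega)
      omega
    set o : Orb := Quotient.mk'' ω
    refine ⟨vo o, hvoX o, fun φ h => ?_⟩
    have hUω : U ω = UO o := (hUconst o.out ω (Quotient.out_eq' _)).symm
    constructor
    · intro hfix
      refine htr _ fun c => ?_
      have hm : c • vo o ∈ U ω := by
        rw [hUω, ← SetLike.mem_coe, hUeq]
        exact Submodule.smul_mem _ c (Submodule.subset_span (by simp))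
      have := (hU ω _).1 hm φ h hfix
      rwa [dotProduct_smul, smul_eq_mul] at this
    · intro hv
      have hm : φ ∈ S ω := by
        rw [← LinearMap.BilinForm.orthogonal_orthogonal hBnd hBrefl (S ω)]
        intro u hu
        have hu' : u ∈ (UO o : Set (Fin n → F)) := by rw [SetLike.mem_coe, ← hUω]; exact hu
        rw [hUeq] at hu'
        obtain ⟨s, t, rfl⟩ := Submodule.mem_span_pair.1 hu'
        show tr ((s • x + t • vo o) ⬝ᵥ φ) = 0
        rw [dotProduct_comm, dotProduct_add, dotProduct_smul, dotProduct_smul, h, hv, smul_zero,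
          smul_zero, add_zero, map_zero]
      exact hm.2

end Orbits

/-! ### The two exceptional degrees -/

theorem smul_base_iff (g : SpecialLinearGroup (Fin n) F) :
    g • ((1 : SpecialLinearGroup (Fin n) F) : SpecialLinearGroup (Fin n) F ⧸ H) =
      ((1 : SpecialLinearGroup (Fin n) F) : SpecialLinearGroup (Fin n) F ⧸ H) ↔ g ∈ H := by
  rw [MulAction.Quotient.smul_coe, QuotientGroup.eq, smul_eq_mul, mul_one, mul_one, H.inv_mem_iff]

theorem le_of_ann {W W' : Submodule F (Fin n → F)}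
    (h : ∀ φ : Fin n → F, (∀ w ∈ W', φ ⬝ᵥ w = 0) → ∀ w ∈ W, φ ⬝ᵥ w = 0) : W ≤ W' := by
  intro w hw
  by_contra hw'
  obtain ⟨φ, hφ, hφw⟩ := exists_sep W' hw'
  exact zero_ne_one ((h φ hφ w hw).symm.trans hφw)

/-- A map from points to lines as in the second case is impossible. -/
theorem no_lines (hn : 3 ≤ n)
    (hL : ∀ y : Fin n → F, y ≠ 0 → ∃ v, v ∉ Submodule.span F {y} ∧
      ∀ (φ : Fin n → F) (h : φ ⬝ᵥ y = 0), tv y φ h ∈ H ↔ φ ⬝ᵥ v = 0) : False := by
  choose vy hvy hiff using hL
  let ℓ : ∀ y : Fin n → F, y ≠ 0 → Submodule F (Fin n → F) := fun y hy => Submodule.span F {y, vy y hy}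
  have hann : ∀ y hy (φ : Fin n → F),
      (∀ w ∈ ℓ y hy, φ ⬝ᵥ w = 0) ↔ ∃ h : φ ⬝ᵥ y = 0, tv y φ h ∈ H := by
    intro y hy φ
    constructor
    · intro h
      exact ⟨h y (Submodule.subset_span (by simp)),
        (hiff y hy φ _).2 (h _ (Submodule.subset_span (by simp)))⟩
    · rintro ⟨h, hm⟩ w hw
      obtain ⟨a, b, rfl⟩ := Submodule.mem_span_pair.1 hw
      rw [dotProduct_add, dotProduct_smul, dotProduct_smul, h, (hiff y hy φ h).1 hm, smul_zero,
        smul_zero, add_zero]
  have hmove : ∀ g ∈ H, ∀ y hy, ∀ w ∈ ℓ y hy, app g y = y → app g w ∈ ℓ y hy := by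
    intro g hg y hy w hw hgy
    by_contra hcon
    obtain ⟨φ, hφ, hφw⟩ := exists_sep _ hcon
    obtain ⟨h, hm⟩ := (hann y hy φ).1 hφ
    have h' : (φ ᵥ* g.1) ⬝ᵥ y = 0 := by
      rw [← dotProduct_mulVec]; show φ ⬝ᵥ app g y = 0; rw [hgy, h]
    have hc : g⁻¹ * tv y φ h * g = tv y (φ ᵥ* g.1) h' := by
      refine ext_app fun v => ?_
      have hgy' : app g⁻¹ y = y := by
        have := app_inv g y
        rwa [hgy] at this
      rw [app_mul, app_mul, app_tv, app_tv, app_add, app_smul, app_inv, hgy', ← dotProduct_mulVec]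
      rfl
    have hm' : tv y (φ ᵥ* g.1) h' ∈ H := hc ▸ H.mul_mem (H.mul_mem (H.inv_mem hg) hm) hg
    have h0 := (hann y hy _).2 ⟨h', hm'⟩ w hw
    rw [← dotProduct_mulVec] at h0
    exact zero_ne_one (h0.symm.trans hφw)
  have hspread : ∀ y hy z hz, z ∈ ℓ y hy → z ∉ Submodule.span F {y} → ℓ z hz = ℓ y hy := by
    intro y hy z hz hzy hzy'
    by_cases hy' : y ∈ ℓ z hz
    · have hzy'' : y ∉ Submodule.span F {z} := fun h => by
        obtain ⟨c, hc⟩ := Submodule.mem_span_singleton.1 h
        have hc0 : c ≠ 0 := fun h0 => hy (by rw [← hc, h0, zero_smul])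
        exact hzy' (Submodule.mem_span_singleton.2 ⟨c⁻¹, by rw [← hc, smul_smul, inv_mul_cancel₀ hc0, one_smul]⟩)
      -- both contain two independent vectors
      have e : ∀ (a b : Fin n → F) (ha : a ≠ 0), b ∈ ℓ a ha → b ∉ Submodule.span F {a} →
          Submodule.span F ({a, b} : Set (Fin n → F)) = ℓ a ha := by
        intro a b ha hb hb'
        refine le_antisymm (Submodule.span_le.2 (by
          intro w hw
          rcases hw with rfl | hw
          · exact Submodule.subset_span (by simp)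
          · rwa [Set.mem_singleton_iff.1 hw])) (Submodule.span_le.2 ?_)
        obtain ⟨s, t, hst⟩ := Submodule.mem_span_pair.1 hb
        have ht : t ≠ 0 := fun h0 => hb' (Submodule.mem_span_singleton.2 ⟨s, by rw [← hst, h0, zero_smul, add_zero]⟩)
        intro w hw
        rcases hw with rfl | hw
        · exact Submodule.subset_span (by simp)
        · rw [Set.mem_singleton_iff.1 hw]
          refine Submodule.mem_span_pair.2 ⟨-(t⁻¹ * s), t⁻¹, ?_⟩
          rw [← hst, smul_add, smul_smul, smul_smul, inv_mul_cancel₀ ht]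
          module
      rw [← e z y hz hy' hzy'', ← e y z hy hzy hzy', Set.pair_comm]
    · have hle : ℓ z hz ≤ ℓ y hy := le_of_ann fun φ hφ w hw => by
        obtain ⟨h, hm⟩ := (hann y hy φ).1 hφ
        have hfix : app (tv y φ h) z = z := by rw [app_tv, hφ z hzy, zero_smul, add_zero]
        by_contra hw0
        have h1 := hmove _ hm z hz w hw hfix
        rw [app_tv] at h1
        have h2 := (ℓ z hz).sub_mem h1 hw
        rw [add_sub_cancel_left] at h2
        exact hy' (by simpa [smul_smul, hw0] using (ℓ z hz).smul_mem (φ ⬝ᵥ w)⁻¹ h2)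
      have hlt : z ∈ ℓ z hz := Submodule.subset_span (by simp)
      refine le_antisymm hle ?_
      obtain ⟨a, b, hab⟩ := Submodule.mem_span_pair.1 (hle (Submodule.subset_span (by simp) : vy z hz ∈ ℓ z hz))
      obtain ⟨c, d, hcd⟩ := Submodule.mem_span_pair.1 hzy
      exfalso
      -- `y` is a combination of `z` and its partner
      have hdet : a * d - b * c ≠ 0 := fun h0 => by
        apply hvy z hz
        have hd : d ≠ 0 := fun h' => hzy' (Submodule.mem_span_singleton.2 ⟨c, by rw [← hcd, h', zero_smul, add_zero]⟩)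
        refine Submodule.mem_span_singleton.2 ⟨b / d, ?_⟩
        rw [← hab, ← hcd]
        have : a = b / d * c := by field_simp; linear_combination h0
        rw [this, smul_add, smul_smul, smul_smul, div_mul_cancel₀ b hd]
      refine hy' (Submodule.mem_span_pair.2 ⟨-b / (a * d - b * c), d / (a * d - b * c), ?_⟩)
      rw [← hab, ← hcd]
      match_scalars <;> field_simp <;> ring
  obtain ⟨x, hx⟩ : ∃ x : Fin n → F, x ≠ 0 :=
    ⟨Pi.single ⟨0, by omega⟩ 1, by simp⟩
  obtain ⟨y, hy⟩ : ∃ y, y ∉ ℓ x hx := by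
    obtain ⟨y, hy, -⟩ := exists_notMem_union (span_pair_ne_top hn x (vy x hx)) (span_pair_ne_top hn x (vy x hx))
    exact ⟨y, hy⟩
  obtain ⟨φ, hφ, hφy⟩ := exists_sep _ hy
  have hy0 : y ≠ 0 := fun h => hy (by rw [h]; exact Submodule.zero_mem _)
  obtain ⟨h, hm⟩ := (hann x hx φ).1 hφ
  set z := vy y hy0 - (φ ⬝ᵥ vy y hy0) • y
  have hzy : z ∉ Submodule.span F {y} := fun hz => hvy y hy0 (by
    have := Submodule.add_mem _ hz (Submodule.smul_mem _ (φ ⬝ᵥ vy y hy0) (Submodule.mem_span_singleton_self y))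
    rwa [sub_add_cancel] at this)
  have hz0 : z ≠ 0 := fun h0 => hzy (by rw [h0]; exact Submodule.zero_mem _)
  have hzm : z ∈ ℓ y hy0 :=
    Submodule.sub_mem _ (Submodule.subset_span (by simp))
      (Submodule.smul_mem _ _ (Submodule.subset_span (by simp)))
  have hfix : app (tv x φ h) z = z := by
    rw [app_tv, show φ ⬝ᵥ z = 0 by simp [z, dotProduct_sub, hφy], zero_smul, add_zero]
  have hym : y ∈ ℓ y hy0 := Submodule.subset_span (by simp)
  have h1 := hmove _ hm z hz0 y (by rw [hspread y hy0 z hz0 hzm hzy]; exact hym) hfix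
  rw [app_tv, hφy, one_smul, hspread y hy0 z hz0 hzm hzy] at h1
  have hxm : x ∈ ℓ y hy0 := by simpa using (ℓ y hy0).sub_mem h1 hym
  have hxy : x ∉ Submodule.span F {y} := fun hxy => by
    obtain ⟨c, rfl⟩ := Submodule.mem_span_singleton.1 hxy
    rw [dotProduct_smul, hφy, smul_eq_mul, mul_one] at h
    exact hx (by rw [h, zero_smul])
  exact hy (by rw [hspread y hy0 x hx hxm hxy]; exact hym)

/-- Regularity of all transvection groups is impossible. -/
theorem no_regular [Finite F] (hn : 3 ≤ n) (h42 : ¬ (n = 4 ∧ Nat.card F = 2))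
    (htrans : ∀ (x : Fin n → F), x ≠ 0 → ∀ ω ω' : SpecialLinearGroup (Fin n) F ⧸ H,
      ∃ (φ : Fin n → F) (h : φ ⬝ᵥ x = 0), tv x φ h • ω = ω')
    (hfree : ∀ (x : Fin n → F), x ≠ 0 → ∀ (φ : Fin n → F) (h : φ ⬝ᵥ x = 0), tv x φ h ∈ H → φ = 0) :
    False := by
  classical
  set i0 : Fin n := ⟨0, by omega⟩
  set i1 : Fin n := ⟨1, by omega⟩
  set i2 : Fin n := ⟨2, by omega⟩
  set E : Fin n → Fin n → F := fun i => Pi.single i 1
  set x := E i0
  have hE : ∀ i j, E i ⬝ᵥ E j = if i = j then 1 else 0 := fun i j => by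
    simp [E, dotProduct_single, Pi.single_apply, eq_comm]
  have hdot : ∀ (β : Fin n → F) k, β ⬝ᵥ E k = β k := fun β k => by simp [E, dotProduct_single]
  have hEv : ∀ k (v : Fin n → F), E k ⬝ᵥ v = v k := fun k v => by rw [dotProduct_comm, hdot]
  have hE0 : ∀ i, E i ≠ 0 := fun i => by simp [E]
  have hx : x ≠ 0 := hE0 i0
  have hEx : ∀ i, i ≠ i0 → E i ⬝ᵥ x = 0 := fun i hi => (hE i i0).trans (if_neg hi)
  have huniq : ∀ h ∈ H, ∀ h' ∈ H, ∀ a : F, a ≠ 0 → app h x = a • x → app h' x = a • x →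
      (∀ v, ∃ t : F, app h v = app h' v + t • x) → h = h' := by
    intro h hh h' hh' a ha hhx hh'x hd
    set k := h'⁻¹ * h
    have hix : app h'⁻¹ x = a⁻¹ • x := by
      have := app_inv h' x
      rw [hh'x, app_smul] at this
      conv_rhs => rw [← this, smul_smul, inv_mul_cancel₀ ha, one_smul]
    have hkd : ∀ v, ∃ t : F, app k v = v + t • x := fun v => by
      obtain ⟨t, ht⟩ := hd v
      exact ⟨t * a⁻¹, by rw [app_mul, ht, app_add, app_smul, app_inv, hix, smul_smul]⟩
    choose c hc using fun i => hkd (E i)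
    have hlin : ∀ v, app k v = v + (c ⬝ᵥ v) • x := by
      intro v
      have hv : v = ∑ i, v i • E i := pi_eq_sum_univ' v
      conv_lhs => rw [hv]
      rw [show app k (∑ i, v i • E i) = ∑ i, app k (v i • E i) from mulVec_sum _ _ _,
        Finset.sum_congr rfl fun i _ => (app_smul k (v i) (E i)).trans (by rw [hc i, smul_add, smul_smul]),
        Finset.sum_add_distrib, ← Finset.sum_smul, ← hv, dotProduct]
      congr 2
      exact Finset.sum_congr rfl fun i _ => mul_comm _ _
    have hcx : c ⬝ᵥ x = 0 := by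
      have h1 : app k x = x := by rw [app_mul, hhx, ← hh'x, app_inv]
      rw [hlin] at h1
      simpa [hx] using h1
    have hk : k = tv x c hcx := ext_app fun v => by rw [hlin, app_tv]
    have hc0 := hfree x hx c hcx (hk ▸ H.mul_mem (H.inv_mem hh') hh)
    have : k = 1 := by rw [hk, tv_congr hcx (zero_dotProduct x) hc0, tv_zero]
    exact (inv_mul_eq_one.1 this).symm
  have hlift : ∀ g : SpecialLinearGroup (Fin n) F, ∃ (φ : Fin n → F) (h : φ ⬝ᵥ x = 0), g * tv x φ h ∈ H := by
    intro g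
    obtain ⟨φ, h, he⟩ := htrans x hx ((1 : SpecialLinearGroup (Fin n) F) : SpecialLinearGroup (Fin n) F ⧸ H)
      ((g⁻¹ : SpecialLinearGroup (Fin n) F) : SpecialLinearGroup (Fin n) F ⧸ H)
    refine ⟨φ, h, (smul_base_iff H _).1 ?_⟩
    rw [mul_smul, he, MulAction.Quotient.smul_coe, smul_eq_mul, mul_inv_cancel]
  -- lifts of transvections fixing the base point
  have hliftT : ∀ c ψ : Fin n → F, ψ ⬝ᵥ c = 0 → ψ ⬝ᵥ x = 0 → ∃ h ∈ H, ∃ β : Fin n → F, β ⬝ᵥ x = 0 ∧
      ∀ v, app h v = v + (β ⬝ᵥ v) • x + (ψ ⬝ᵥ v) • c := by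
    intro c ψ hc hψx
    obtain ⟨β, hβ, hm⟩ := hlift (tv c ψ hc)
    refine ⟨_, hm, β, hβ, fun v => ?_⟩
    rw [app_mul, app_tv, app_tv, dotProduct_add, dotProduct_smul, hψx, smul_zero, add_zero]
  have hcomm : ∀ (c ψ c' ψ' : Fin n → F) h h' β β', h ∈ H → h' ∈ H → ψ ⬝ᵥ x = 0 → ψ' ⬝ᵥ x = 0 →
      β ⬝ᵥ x = 0 → β' ⬝ᵥ x = 0 → ψ ⬝ᵥ c' = 0 → ψ' ⬝ᵥ c = 0 →
      (∀ v, app h v = v + (β ⬝ᵥ v) • x + (ψ ⬝ᵥ v) • c) →
      (∀ v, app h' v = v + (β' ⬝ᵥ v) • x + (ψ' ⬝ᵥ v) • c') →
      ∀ v, (ψ' ⬝ᵥ v) * (β ⬝ᵥ c') = (ψ ⬝ᵥ v) * (β' ⬝ᵥ c) := by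
    intro c ψ c' ψ' h h' β β' hh hh' a1 a2 a3 a4 a5 a6 e e' v
    have key : ∀ v, app (h * h') v = app (h' * h) v + ((ψ' ⬝ᵥ v) * (β ⬝ᵥ c') - (ψ ⬝ᵥ v) * (β' ⬝ᵥ c)) • x := by
      intro v
      simp only [app_mul, e, e', dotProduct_add, dotProduct_smul, smul_eq_mul, a1, a2, a3, a4, a5, a6]
      module
    have hx1 : ∀ g g' : SpecialLinearGroup (Fin n) F, app g x = x → app g' x = x → app (g * g') x = (1 : F) • x :=
      fun g g' h1 h2 => by rw [app_mul, h2, h1, one_smul]
    have k1 : app h x = x := by rw [e, a3, a1, zero_smul, zero_smul, add_zero, add_zero]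
    have k2 : app h' x = x := by rw [e', a4, a2, zero_smul, zero_smul, add_zero, add_zero]
    have heq := huniq _ (H.mul_mem hh hh') _ (H.mul_mem hh' hh) 1 one_ne_zero (hx1 _ _ k1 k2)
      (hx1 _ _ k2 k1) fun v => ⟨_, key v⟩
    have h0 := key v
    rw [heq, left_eq_add, smul_eq_zero] at h0
    exact sub_eq_zero.1 (h0.resolve_right hx)
  have n01 : i1 ≠ i0 := by simp [i0, i1, Fin.ext_iff]
  have n02 : i2 ≠ i0 := by simp [i0, i2, Fin.ext_iff]
  have n12 : i2 ≠ i1 := by simp [i1, i2, Fin.ext_iff]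
  obtain ⟨h, hh, β, hβ, hha⟩ := hliftT (E i1) (E i2) (by rw [hE, if_neg n12]) (by rw [hE, if_neg n02])
  have hhx : app h x = x := by rw [hha, hβ, hE, if_neg n02, zero_smul, zero_smul, add_zero, add_zero]
  -- tori commuting with the transvection
  have htorus : ∀ d : Fin n → F, (∀ i, d i ≠ 0) → ∏ i, d i = 1 → d i1 = d i2 →
      ∀ k, k ≠ i2 → (d k - d i0) * β k = 0 := by
    intro d hd0 hd1 hd12 k hk
    let D : SpecialLinearGroup (Fin n) F := ⟨diagonal d, by rw [det_diagonal, hd1]⟩
    have hD : ∀ v j, app D v j = d j * v j := fun v j => mulVec_diagonal _ _ _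
    have hDE : ∀ j, app D (E j) = d j • E j := fun j => funext fun i => by
      rw [hD, Pi.smul_apply, smul_eq_mul]
      by_cases hij : i = j
      · subst hij; rfl
      · simp [E, hij]
    obtain ⟨δ, hδ, hm⟩ := hlift D
    set g := D * tv x δ hδ with hg
    have hgv : ∀ v, app g v = app D v + ((δ ⬝ᵥ v) * d i0) • x := fun v => by
      rw [hg, app_mul, app_tv, app_add, app_smul, hDE, smul_smul]
    have hgx : app g x = d i0 • x := by rw [hgv, hDE, hδ, zero_mul, zero_smul, add_zero]
    have key : ∀ v, app (h * g) v = app (g * h) v +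
        (β ⬝ᵥ app D v - d i0 * (β ⬝ᵥ v) - (E i2 ⬝ᵥ v) * (δ ⬝ᵥ E i1) * d i0) • x := by
      intro v
      have e2 : E i2 ⬝ᵥ app D v = d i2 * (E i2 ⬝ᵥ v) := by rw [hEv, hEv, hD]
      simp only [app_mul, hgv, hha, app_add, app_smul, dotProduct_add, dotProduct_smul, smul_eq_mul,
        hδ, hβ, hEx _ n02, show app D x = d i0 • x from hDE i0, hDE, e2, hd12]
      module
    have heq := huniq _ (H.mul_mem hh hm) _ (H.mul_mem hm hh) (d i0) (hd0 i0)
      (by rw [app_mul, hgx, app_smul, hhx]) (by rw [app_mul, hhx, hgx]) fun v => ⟨_, key v⟩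
    have h0 := key (E k)
    rw [heq, left_eq_add, smul_eq_zero] at h0
    have h1 := h0.resolve_right hx
    rw [hDE, dotProduct_smul, hdot, hE, if_neg hk.symm, smul_eq_mul] at h1
    linear_combination h1
  -- characteristic two
  have hβ1 : β i1 = 0 := by
    by_cases hn4 : 4 ≤ n
    · set l : Fin n := ⟨3, by omega⟩
      have l0 : l ≠ i0 := by simp [l, i0, Fin.ext_iff]
      have l1 : l ≠ i1 := by simp [l, i1, Fin.ext_iff]
      have l2 : l ≠ i2 := by simp [l, i2, Fin.ext_iff]
      obtain ⟨h', hh', β', hβ', hh'a⟩ := hliftT (E i1) (E l) (by rw [hE, if_neg l1]) (by rw [hE, if_neg l0])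
      have := hcomm _ _ _ _ _ _ _ _ hh hh' (by rw [hE, if_neg n02]) (by rw [hE, if_neg l0]) hβ hβ'
        (by rw [hE, if_neg n12]) (by rw [hE, if_neg l1]) hha hh'a (E l)
      rwa [hE, hE, if_pos rfl, if_neg l2.symm, one_mul, zero_mul, hdot] at this
    by_cases h2 : (2 : F) = 0
    · have key : ∀ v, app (h * h) v = app 1 v + ((E i2 ⬝ᵥ v) * (β ⬝ᵥ E i1)) • x := by
        intro v
        have h2x : ∀ w : Fin n → F, w + w = 0 := fun w => by
          rw [← two_smul F w, h2, zero_smul]
        simp only [app_mul, app_one, hha, dotProduct_add, dotProduct_smul, smul_eq_mul, hβ, hE, if_neg n12, hEx _ n02]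
        linear_combination (norm := module) h2x ((β ⬝ᵥ v) • x + (E i2 ⬝ᵥ v) • E i1)
      have heq := huniq _ (H.mul_mem hh hh) _ H.one_mem 1 one_ne_zero
        (by rw [app_mul, hhx, hhx, one_smul]) (by rw [app_one, one_smul]) fun v => ⟨_, key v⟩
      have h0 := key (E i2)
      rw [heq, left_eq_add, smul_eq_zero, hE, if_pos rfl, one_mul, hdot] at h0
      exact h0.resolve_right hx
    have hd := htorus (fun i => if i = i1 then -1 else if i = i2 then -1 else 1)
      (fun i => by split_ifs <;> simp) (by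
        rw [Finset.prod_eq_mul_of_mem i1 i2 (Finset.mem_univ _) (Finset.mem_univ _) n12.symm]
        · simp [n12]
        · intro c _ hc; simp [hc.1, hc.2]) (by simp [n12]) i1 n12.symm
    simp only [if_true, n01.symm, n02.symm, if_false] at hd
    rcases mul_eq_zero.1 hd with h3 | h3
    · exact absurd (by linear_combination -h3) h2
    · exact h3
  have hβk : ∀ k, k ≠ i2 → β k = 0 := by
    intro k hk
    by_cases k0 : k = i0
    · rw [k0, ← hdot β]; exact hβ
    by_cases k1 : k = i1
    · rw [k1]; exact hβ1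
    by_cases hn5 : 5 ≤ n
    · obtain ⟨l, -, hl⟩ := Finset.exists_mem_notMem_of_card_lt_card (s := ({i0, i1, i2, k} : Finset (Fin n)))
        (t := Finset.univ) (by
          rw [Finset.card_univ, Fintype.card_fin]
          exact lt_of_le_of_lt Finset.card_le_four (by omega))
      simp only [Finset.mem_insert, Finset.mem_singleton, not_or] at hl
      obtain ⟨l0, l1, l2, lk⟩ := hl
      obtain ⟨h', hh', β', hβ', hh'a⟩ := hliftT (E k) (E l) (by rw [hE, if_neg lk]) (by rw [hE, if_neg l0])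
      have := hcomm _ _ _ _ _ _ _ _ hh hh' (by rw [hE, if_neg n02]) (by rw [hE, if_neg l0]) hβ hβ'
        (by rw [hE, if_neg (Ne.symm hk)]) (by rw [hE, if_neg l1]) hha hh'a (E l)
      rwa [hE, hE, if_pos rfl, if_neg (Ne.symm l2), one_mul, zero_mul, hdot] at this
    -- four dimensions
    have hn4 : n = 4 := by
      have := k.2
      have h0 : (k : ℕ) ≠ 0 := fun e => k0 (Fin.ext e)
      have h1 : (k : ℕ) ≠ 1 := fun e => k1 (Fin.ext e)
      have h2 : (k : ℕ) ≠ 2 := fun e => hk (Fin.ext e)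
      omega
    by_cases h2 : (2 : F) = 0
    · obtain ⟨u, hu0, hu1⟩ : ∃ u : F, u ≠ 0 ∧ u ≠ 1 := by
        by_contra hc
        push Not at hc
        refine h42 ⟨hn4, le_antisymm ?_ Finite.one_lt_card⟩
        have hu : (Set.univ : Set F) ⊆ {0, 1} := fun u _ => by
          by_cases h0 : u = 0
          · exact Or.inl h0
          · exact Or.inr (hc u h0)
        have := Set.ncard_le_ncard hu
        rw [Set.ncard_univ] at this
        exact this.trans ((Set.ncard_insert_le _ _).trans (by rw [Set.ncard_singleton]))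
      have hd := htorus (fun i => if i = k then u else if i = i0 then u⁻¹ else 1)
        (fun i => by split_ifs <;> simp [hu0]) (by
          rw [Finset.prod_eq_mul_of_mem k i0 (Finset.mem_univ _) (Finset.mem_univ _) k0]
          · simp [Ne.symm k0, hu0]
          · intro c _ hc; simp [hc.1, hc.2]) (by simp [Ne.symm k1, Ne.symm hk, n01, n02]) k hk
      simp only [if_true, Ne.symm k0, if_false] at hd
      refine (mul_eq_zero.1 hd).resolve_left fun h3 => hu1 ?_
      have h4 : u * u = 1 := by field_simp at h3; linear_combination h3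
      have h5 : (u - 1) * (u - 1) = 0 := by linear_combination h4 + (1 - u) * h2
      exact sub_eq_zero.1 (mul_self_eq_zero.1 h5)
    -- odd characteristic
    obtain ⟨b, hb, γ, hγ, hba⟩ := hliftT (E k) (E i2) (by rw [hE, if_neg (Ne.symm hk)]) (by rw [hE, if_neg n02])
    obtain ⟨a, ha, α, hα, haa⟩ := hliftT (E i1) (E k) (by rw [hE, if_neg k1]) (by rw [hE, if_neg k0])
    have e1 : β k = γ i1 := by
      have := hcomm _ _ _ _ _ _ _ _ hh hb (by rw [hE, if_neg n02]) (by rw [hE, if_neg n02]) hβ hγ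
        (by rw [hE, if_neg (Ne.symm hk)]) (by rw [hE, if_neg n12]) hha hba (E i2)
      rwa [hE, if_pos rfl, one_mul, one_mul, hdot, hdot] at this
    have key : ∀ v, app (a * b) v = app (h * (b * a)) v + ((E i2 ⬝ᵥ v) * (α ⬝ᵥ E k) -
        (E k ⬝ᵥ v) * (γ ⬝ᵥ E i1) - (β ⬝ᵥ v) - (E k ⬝ᵥ v) * (β ⬝ᵥ E i1) - (E i2 ⬝ᵥ v) * (β ⬝ᵥ E k)) • x := by
      intro v
      simp only [app_mul, hha, haa, hba, dotProduct_add, dotProduct_smul, smul_eq_mul, hα, hβ, hγ, hE, hEx _ n02, hEx _ k0,
        if_neg n02, if_neg n12, if_neg k0, if_neg (Ne.symm hk), if_neg k1, if_pos]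
      module
    have hax : app a x = x := by rw [haa, hα, hE, if_neg k0, zero_smul, zero_smul, add_zero, add_zero]
    have hbx : app b x = x := by rw [hba, hγ, hE, if_neg n02, zero_smul, zero_smul, add_zero, add_zero]
    have heq := huniq _ (H.mul_mem ha hb) _ (H.mul_mem hh (H.mul_mem hb ha)) 1 one_ne_zero
      (by rw [app_mul, hbx, hax, one_smul]) (by rw [app_mul, app_mul, hax, hbx, hhx, one_smul]) fun v => ⟨_, key v⟩
    have h0 := key (E k)
    rw [heq, left_eq_add, smul_eq_zero] at h0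
    have h1 := h0.resolve_right hx
    rw [hE, hE, if_pos rfl, if_neg (Ne.symm hk)] at h1
    simp only [hdot, hβ1] at h1
    have h3 : (2 : F) * β k = 0 := by linear_combination -h1 + e1
    exact (mul_eq_zero.1 h3).resolve_left h2
  have hEc : E i2 ⬝ᵥ (E i1 + β i2 • x) = 0 := by
    rw [dotProduct_add, dotProduct_smul, hE, hE, if_neg n12, if_neg n02, smul_zero, add_zero]
  have hy : E i1 + β i2 • x ≠ 0 := fun h0 => by
    have := congrArg (fun w : Fin n → F => w i1) h0
    simp [x, E, n01] at this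
  refine hE0 i2 (hfree _ hy (E i2) hEc ?_)
  have hbeta : ∀ v, β ⬝ᵥ v = β i2 * v i2 := fun v =>
    Finset.sum_eq_single i2 (fun k _ hk => by rw [hβk k hk, zero_mul]) (by simp)
  rwa [show tv _ (E i2) hEc = h from ext_app fun v => by rw [app_tv, hha, hbeta, hEv]; module]

/-- The minimal index of a proper subgroup of `SL_n(q)`. -/
theorem card_points_le_index [Finite F] (hn : 3 ≤ n) (h42 : ¬ (n = 4 ∧ Nat.card F = 2)) (hH : H ≠ ⊤) :
    Nat.card (Projectivization F (Fin n → F)) ≤ H.index := by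
  rcases noFix_or_le H hn hH with hnf | h
  swap
  · exact h
  by_contra hd
  rw [not_le] at hd
  set o : SpecialLinearGroup (Fin n) F ⧸ H := ((1 : SpecialLinearGroup (Fin n) F) : SpecialLinearGroup (Fin n) F ⧸ H)
  by_cases hdeg : H.index = Nat.card F ^ (n - 1)
  · refine no_regular H hn h42 (fun x hx => ?_) fun x hx φ h hm => ?_
    · rcases orbit_dichotomy H hn hnf hd hx with h' | h'
      · exact h'.2.1
      · exact absurd hdeg h'.1
    · rcases orbit_dichotomy H hn hnf hd hx with h' | h'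
      · exact h'.2.2 o φ h ((smul_base_iff H _).2 hm)
      · exact absurd hdeg h'.1
  · refine no_lines H hn fun y hy => ?_
    rcases orbit_dichotomy H hn hnf hd hy with h' | h'
    · exact absurd h'.1 hdeg
    · obtain ⟨v, hv, hiff⟩ := h'.2 o
      exact ⟨v, hv, fun φ h => (smul_base_iff H _).symm.trans (hiff φ h)⟩

/-- The stabiliser of a point has index the number of points. -/
theorem exists_index_eq [Finite F] (hn : 3 ≤ n) :
    ∃ K : Subgroup (SpecialLinearGroup (Fin n) F),
      K.index = Nat.card (Projectivization F (Fin n → F)) ∧ Subgroup.center (SpecialLinearGroup (Fin n) F) ≤ K := by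
  have hne : Nonempty (Projectivization F (Fin n → F)) :=
    ⟨Projectivization.mk F (Pi.single ⟨0, by omega⟩ 1) (by simp)⟩
  obtain ⟨P⟩ := hne
  have hsm : ∀ (g : SpecialLinearGroup (Fin n) F) (v : Fin n → F), g • v = app g v := fun _ _ => rfl
  have hpre : MulAction.IsPretransitive (SpecialLinearGroup (Fin n) F) (Projectivization F (Fin n → F)) := by
    refine ⟨fun P Q => ?_⟩
    obtain ⟨g, hg⟩ := exists_app hn P.rep_nonzero Q.rep_nonzero
    refine ⟨g, ?_⟩
    conv_lhs => rw [← P.mk_rep]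
    conv_rhs => rw [← Q.mk_rep]
    rw [Projectivization.smul_mk, Projectivization.mk_eq_mk_iff']
    exact ⟨1, by rw [one_smul, hsm, hg]⟩
  refine ⟨MulAction.stabilizer _ P, MulAction.index_stabilizer_of_transitive _ _, fun z hz => ?_⟩
  obtain ⟨r, -, hr⟩ := Matrix.SpecialLinearGroup.mem_center_iff.1 hz
  rw [MulAction.mem_stabilizer_iff]
  conv_lhs => rw [← P.mk_rep]
  conv_rhs => rw [← P.mk_rep]
  rw [Projectivization.smul_mk, Projectivization.mk_eq_mk_iff']
  exact ⟨r, by rw [hsm, app, ← hr, scalar_apply, ← smul_one_eq_diagonal, smul_mulVec, one_mulVec]⟩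

end CfsgLib.Classical.MinIndex
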