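import Cfsg.Agent.Lib.Classical.HomologyRoot

set_option autoImplicit false
set_option linter.unusedSectionVars false

/-!
The monomial subgroup of `SL(ι, F)`, its transpose, and extraction of transvections from elements
fixing a coordinate line.
-/

namespace CfsgLib.Classical.MonMax

open Matrix CfsgLib.Classical.SLMon
open scoped MatrixGroups

variable {ι F : Type*} [Fintype ι] [DecidableEq ι] [Field F]

/-- Monomial pattern. -/
def Mon (A : Matrix ι ι F) : Prop := ∃ τ : Equiv.Perm ι, ∀ k l, A k l ≠ 0 → k = τ l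

theorem mon_pmat (τ : Equiv.Perm ι) (d : ι → F) : Mon (pmat τ d) := ⟨τ, fun k l h => by
  rw [pmat_apply] at h
  split_ifs at h with e
  · exact e
  · exact absurd rfl h⟩

theorem Mon.exists_pmat {g : SpecialLinearGroup ι F} (h : Mon g.1) :
    ∃ τ d, g.1 = pmat τ d ∧ ∀ l, d l ≠ 0 := by
  obtain ⟨τ, hτ⟩ := h
  have e : g.1 = pmat τ fun l => g.1 (τ l) l := by
    ext k l
    rw [pmat_apply]
    split_ifs with hk
    · rw [hk]
    · by_contra hne
      exact hk (hτ k l hne)
  refine ⟨τ, _, e, fun l hl => one_ne_zero (α := F) (g.2.symm.trans ?_)⟩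
  refine det_eq_zero_of_column_eq_zero l fun k => ?_
  rw [e, pmat_apply]
  split_ifs
  · exact hl
  · rfl

theorem Mon.mul {A B : Matrix ι ι F} (hA : Mon A) (hB : Mon B) : Mon (A * B) := by
  obtain ⟨σ, hσ⟩ := hA
  obtain ⟨τ, hτ⟩ := hB
  refine ⟨σ * τ, fun k l h => ?_⟩
  rw [Matrix.mul_apply] at h
  obtain ⟨c, -, hc⟩ := Finset.exists_ne_zero_of_sum_ne_zero h
  rw [hσ k c (left_ne_zero_of_mul hc), hτ c l (right_ne_zero_of_mul hc)]
  rfl

theorem Mon.transpose {A : Matrix ι ι F} (h : Mon A) : Mon Aᵀ := by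
  obtain ⟨τ, hτ⟩ := h
  exact ⟨τ.symm, fun k l hkl => by rw [hτ l k hkl, Equiv.symm_apply_apply]⟩

theorem Mon.inv {g : SpecialLinearGroup ι F} (h : Mon g.1) : Mon (g⁻¹).1 := by
  obtain ⟨τ, d, e, hd⟩ := h.exists_pmat
  have h1 : g.1 * pmat τ.symm (fun k => (d (τ.symm k))⁻¹) = 1 := by
    rw [e, pmat_mul, show τ * τ.symm = 1 from Equiv.ext fun x => τ.apply_symm_apply x]
    rw [show (fun l => d (τ.symm l) * (d (τ.symm l))⁻¹) = fun _ => (1 : F) from
      funext fun l => mul_inv_cancel₀ (hd _), pmat_one]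
  have h2 : (g⁻¹).1 * g.1 = 1 := congrArg Subtype.val (inv_mul_cancel g)
  rw [← mul_one (g⁻¹).1, ← h1, ← mul_assoc, h2, one_mul]
  exact mon_pmat _ _

/-- The monomial subgroup. -/
def mons : Subgroup (SpecialLinearGroup ι F) where
  carrier := {g | Mon g.1}
  one_mem' := ⟨1, fun k l h => by
    by_contra e
    exact h (Matrix.one_apply_ne e)⟩
  mul_mem' ha hb := Mon.mul ha hb
  inv_mem' h := Mon.inv h

theorem mem_mons {g : SpecialLinearGroup ι F} : g ∈ mons ↔ Mon g.1 := Iff.rfl

theorem mons_pmat {g : SpecialLinearGroup ι F} {τ : Equiv.Perm ι} {d : ι → F}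
    (h : g.1 = pmat τ d) : g ∈ mons := by rw [mem_mons, h]; exact mon_pmat _ _

/-- The diagonal element of `SL`. -/
def dia (d : ι → F) (h : ∏ i, d i = 1) : SpecialLinearGroup ι F :=
  ⟨diagonal d, by rw [det_diagonal, h]⟩

theorem dia_mem (d : ι → F) (h : ∏ i, d i = 1) : dia d h ∈ mons :=
  mons_pmat (τ := 1) (pmat_diag d).symm

theorem prod_two {i o : ι} (h : i ≠ o) (a b : F) :
    ∏ l, Function.update (Function.update (fun _ => (1 : F)) i a) o b l = b * a := by
  rw [Finset.prod_update_of_mem (Finset.mem_univ o)]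
  congr 1
  rw [Finset.prod_update_of_mem (by simp [h])]
  simp

/-- The transposed subgroup. -/
def trs (K : Subgroup (SpecialLinearGroup ι F)) : Subgroup (SpecialLinearGroup ι F) where
  carrier := {g | g.transpose ∈ K}
  one_mem' := by
    show SpecialLinearGroup.transpose 1 ∈ K
    rw [show SpecialLinearGroup.transpose (1 : SpecialLinearGroup ι F) = 1 from
      Subtype.ext transpose_one]
    exact K.one_mem
  mul_mem' {a b} ha hb := by
    show SpecialLinearGroup.transpose (a * b) ∈ K
    rw [show SpecialLinearGroup.transpose (a * b) = b.transpose * a.transpose from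
      Subtype.ext (transpose_mul a.1 b.1)]
    exact K.mul_mem hb ha
  inv_mem' {a} ha := by
    show SpecialLinearGroup.transpose a⁻¹ ∈ K
    rw [show SpecialLinearGroup.transpose a⁻¹ = (a.transpose)⁻¹ from
      eq_inv_of_mul_eq_one_left (Subtype.ext (by
        show (a⁻¹).1ᵀ * a.1ᵀ = 1
        rw [← transpose_mul, show a.1 * (a⁻¹).1 = 1 from
          congrArg Subtype.val (mul_inv_cancel a), transpose_one]))]
    exact K.inv_mem ha

variable {K : Subgroup (SpecialLinearGroup ι F)}

theorem mons_le_trs (hK : mons ≤ K) : mons ≤ trs K := fun _ h => hK (Mon.transpose h)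

theorem trs_eq_top (h : trs K = ⊤) : K = ⊤ := by
  rw [eq_top_iff]
  intro g _
  have : g.transpose ∈ trs K := h ▸ Subgroup.mem_top _
  have h2 : g.transpose.transpose ∈ K := this
  rwa [show g.transpose.transpose = g from Subtype.ext (transpose_transpose g.1)] at h2

theorem InT_neg {u φ : ι → F} (h : InT K u φ) : InT K u (-φ) := by
  obtain ⟨a, ha⟩ := h
  refine ⟨by rw [neg_dotProduct, a, neg_zero], ?_⟩
  convert K.inv_mem ha using 1
  exact Subtype.ext (inv_Tv a).symm

theorem InT_smul_left {u φ : ι → F} {c : F} (hc : c ≠ 0) (h : InT K (c • u) φ) :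
    InT K u (c • φ) := by
  obtain ⟨a, ha⟩ := h
  rw [dotProduct_smul, smul_eq_mul, mul_eq_zero] at a
  refine ⟨by rw [smul_dotProduct, a.resolve_left hc, smul_zero], ?_⟩
  convert ha using 1
  exact Subtype.ext (R_smul u φ c).symm

theorem InT_conj' {u φ u' ψ : ι → F} (h : InT K u φ) {s : SpecialLinearGroup ι F} (hs : s ∈ K)
    (hu : s.1 *ᵥ u = u') (hψ : ψ ᵥ* s.1 = φ) : InT K u' ψ := by
  have := h.conj hs
  rw [hu] at this
  convert this using 1
  rw [← hψ, vecMul_vecMul, show s.1 * (s⁻¹).1 = 1 from congrArg Subtype.val (mul_inv_cancel s),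
    vecMul_one]

/-- Separating the coordinates of an elation with axial centre. -/
theorem sep (hK : mons ≤ K) {j : ι} {ρ : ι → F} (h : InT K (Pi.single j 1) ρ) {d : ι → F}
    (hd : ∏ i, d i = 1) (hdj : d j = 1) :
    InT K (Pi.single j 1) (fun k => ρ k * ((d k)⁻¹ - 1)) := by
  have hne : ∀ k, d k ≠ 0 := fun k e => by
    rw [Finset.prod_eq_zero (Finset.mem_univ k) e] at hd
    exact zero_ne_one hd
  have h1 : InT K (Pi.single j 1) (fun k => ρ k * (d k)⁻¹) := by
    refine InT_conj' h (hK (dia_mem d hd)) ?_ ?_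
    · funext k
      show (diagonal d *ᵥ Pi.single j 1) k = _
      rw [mulVec_diagonal]
      rcases eq_or_ne k j with rfl | e
      · simp [hdj]
      · simp [e]
    · funext k
      show ((fun k => ρ k * (d k)⁻¹) ᵥ* diagonal d) k = _
      rw [vecMul_diagonal, mul_assoc, inv_mul_cancel₀ (hne k), mul_one]
  convert h1.add_right (InT_neg h) using 1
  funext k
  simp only [Pi.add_apply, Pi.neg_apply]
  ring

theorem exists_third (hι : 4 ≤ Fintype.card ι) (a b c : ι) : ∃ o, o ≠ a ∧ o ≠ b ∧ o ≠ c := by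
  obtain ⟨o, ho⟩ : ∃ o, o ∈ (((Finset.univ.erase a).erase b).erase c : Finset ι) := by
    refine Finset.card_pos.1 ?_
    have h1 := Finset.pred_card_le_card_erase (s := (Finset.univ.erase a).erase b) (a := c)
    have h2 := Finset.pred_card_le_card_erase (s := (Finset.univ.erase a : Finset ι)) (a := b)
    have h3 := Finset.pred_card_le_card_erase (s := (Finset.univ : Finset ι)) (a := a)
    rw [Finset.card_univ] at h3
    omega
  simp only [Finset.mem_erase, Finset.mem_univ, and_true] at ho
  exact ⟨o, ho.2.2, ho.2.1, ho.1⟩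

theorem top_of_root (hι : 4 ≤ Fintype.card ι) (hK : mons ≤ K) {i l : ι} (hil : i ≠ l) {c : F}
    (hc : c ≠ 0) (h : InT K (Pi.single i 1) (c • Pi.single l 1)) : K = ⊤ := by
  have : Nontrivial ι := ⟨i, l, hil⟩
  refine eq_top_of_transvection_mem K fun a b hab c' => InT.smul_root ?_ hab
  -- move to `(a, b)`
  obtain ⟨τ, hτi, hτl⟩ : ∃ τ : Equiv.Perm ι, τ i = a ∧ τ l = b := by
    refine ⟨(Equiv.swap i a).trans (Equiv.swap (Equiv.swap i a l) b), ?_, by simp⟩
    have h1 : Equiv.swap i a l ≠ a := fun e => hil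
      ((Equiv.swap i a).injective ((Equiv.swap_apply_left i a).trans e.symm))
    simp [Equiv.swap_apply_of_ne_of_ne h1.symm hab]
  obtain ⟨s, d, hs, -, hd⟩ := exists_pmat_SL (F := F) τ i
  have h1 : InT K (d i • Pi.single a 1) (((d l)⁻¹ * c) • Pi.single b 1) := by
    refine InT_conj' h (hK (mons_pmat hs)) ?_ ?_
    · rw [hs, pmat_mulVec]
      funext k
      rcases eq_or_ne k a with rfl | e
      · simp [← hτi]
      · have e' : τ.symm k ≠ i := fun f => e (by rw [← hτi, ← f, Equiv.apply_symm_apply])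
        simp [e, e']
    · rw [hs, vecMul_pmat]
      funext k
      rcases eq_or_ne k l with rfl | e
      · simp [hτl]; field_simp [hd k]
      · have e' : τ k ≠ b := fun f => e (τ.injective (f.trans hτl.symm))
        simp [e, e']
  have h2 := InT_smul_left (hd i) h1
  rw [smul_smul] at h2
  set c₁ := d i * ((d l)⁻¹ * c)
  have hc₁ : c₁ ≠ 0 := mul_ne_zero (hd i) (mul_ne_zero (inv_ne_zero (hd l)) hc)
  rcases eq_or_ne c' 0 with rfl | hc'
  · refine ⟨by simp, ?_⟩
    convert K.one_mem using 1
    exact Subtype.ext (by simp [Tv, R_zero_right])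
  obtain ⟨o, hoa, hob, -⟩ := exists_third hι a b a
  let D := Function.update (Function.update (fun _ => (1 : F)) a (c' / c₁)) o (c₁ / c')
  have hD : ∏ k, D k = 1 := by rw [prod_two hoa.symm]; field_simp
  have h3 : InT K ((c' / c₁) • Pi.single a 1) (c₁ • Pi.single b 1) := by
    refine InT_conj' h2 (hK (dia_mem D hD)) ?_ ?_
    · funext k
      show (diagonal D *ᵥ _) k = _
      rw [mulVec_diagonal]
      rcases eq_or_ne k a with rfl | e
      · simp [D, hoa.symm]
      · simp [e]
    · funext k
      show (_ ᵥ* diagonal D) k = _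
      rw [vecMul_diagonal]
      rcases eq_or_ne k b with rfl | e
      · simp [D, hab.symm, hob.symm]
      · simp [e]
  have h4 := InT_smul_left (div_ne_zero hc' hc₁) h3
  rwa [smul_smul, div_mul_cancel₀ _ hc₁] at h4

variable (hq : ∃ a : F, a ≠ 0 ∧ a ≠ 1) (hι : 5 ≤ Fintype.card ι)
include hq hι

theorem top_of_elation (hK : mons ≤ K) {j : ι} {ρ : ι → F} (hρ : ρ ≠ 0)
    (h : InT K (Pi.single j 1) ρ) : K = ⊤ := by
  obtain ⟨a, ha0, ha1⟩ := hq
  have ha : a⁻¹ - 1 ≠ 0 := sub_ne_zero.2 fun e => ha1 (inv_eq_one.1 e)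
  obtain ⟨l, hl⟩ := Function.ne_iff.1 hρ
  have hl0 : ρ l ≠ 0 := hl
  have hlj : l ≠ j := by
    rintro rfl
    obtain ⟨h0, -⟩ := h
    simp at h0
    exact hl0 h0
  obtain ⟨o, hoj, hol, -⟩ := exists_third (by omega) j l j
  let d := Function.update (Function.update (fun _ => (1 : F)) l a) o a⁻¹
  have h1 := sep hK h (d := d) (by rw [prod_two hol.symm, inv_mul_cancel₀ ha0])
    (by simp [d, hoj.symm, hlj.symm])
  by_cases hro : ρ o = 0
  · refine top_of_root (by omega) hK hlj.symm (mul_ne_zero hl0 ha) ?_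
    convert h1 using 1
    funext k
    rcases eq_or_ne k l with rfl | e
    · simp [d, hol.symm]
    · rcases eq_or_ne k o with rfl | e'
      · simp [e, hro]
      · simp [d, e, e']
  · obtain ⟨o', ho'j, ho'l, ho'o⟩ := exists_third (by omega) j l o
    let d' := Function.update (Function.update (fun _ => (1 : F)) o a) o' a⁻¹
    have h2 := sep hK h1 (d := d') (by rw [prod_two ho'o.symm, inv_mul_cancel₀ ha0])
      (by simp [d', hoj.symm, ho'j.symm])
    refine top_of_root (by omega) hK hoj.symm
      (mul_ne_zero (mul_ne_zero hro (sub_ne_zero.2 (fun e => ha1 (by simpa using e) : (a⁻¹)⁻¹ ≠ 1))) ha) ?_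
    convert h2 using 1
    funext k
    rcases eq_or_ne k o with rfl | e
    · simp [d, d', ho'o.symm]
    · rcases eq_or_ne k o' with rfl | e'
      · simp [e, d, ho'l]
      · simp [d', e, e']

omit hq hι in
/-- The block of `x` away from `j`. -/
def levi (j : ι) (x : Matrix ι ι F) : Matrix ι ι F :=
  fun k l => if k = j then (if l = j then 1 else 0) else if l = j then 0 else x k l

omit hq hι in
/-- `x` fixes the line of `e_j`. -/
def Fixes (j : ι) (x : Matrix ι ι F) : Prop := ∀ k, k ≠ j → x k j = 0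

omit hq hι in
theorem Fixes.mul {j : ι} {x y : Matrix ι ι F} (hx : Fixes j x) (hy : Fixes j y) :
    Fixes j (x * y) := by
  intro k hk
  rw [Matrix.mul_apply]
  refine Finset.sum_eq_zero fun c _ => ?_
  rcases eq_or_ne c j with rfl | e
  · rw [hx k hk, zero_mul]
  · rw [hy c e, mul_zero]

omit hq hι in
theorem levi_mul {j : ι} {x y : Matrix ι ι F} (hx : Fixes j x) :
    levi j (x * y) = levi j x * levi j y := by
  ext k l
  rw [Matrix.mul_apply]
  rcases eq_or_ne k j with rfl | hk
  · rw [Finset.sum_eq_single k] <;> simp +contextual [levi]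
  rcases eq_or_ne l j with rfl | hl
  · simp only [levi, hk, if_false, if_true]
    refine (Finset.sum_eq_zero fun c _ => ?_).symm
    by_cases e : c = l <;> simp [e]
  · simp only [levi, hk, hl, if_false, Matrix.mul_apply]
    refine Finset.sum_congr rfl fun c _ => ?_
    rcases eq_or_ne c j with rfl | e
    · simp [hx k hk]
    · simp [e]

omit hq hι in
theorem levi_one (j : ι) : levi j (1 : Matrix ι ι F) = 1 := by
  ext k l
  simp only [levi, Matrix.one_apply]
  split_ifs <;> simp_all

omit hq hι in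
theorem eq_levi_mul {j : ι} {x : Matrix ι ι F} (hx : Fixes j x) :
    x = levi j x * R (Pi.single j 1) (fun l => x j l - (Pi.single j (1 : F) : ι → F) l) := by
  have e : levi j x *ᵥ Pi.single j 1 = Pi.single j 1 := by
    funext k
    rcases eq_or_ne k j with rfl | e <;> simp [mulVec_single_one, levi, *]
  rw [R, mul_add, mul_one, Matrix.mul_vecMulVec, e]
  ext k l
  rcases eq_or_ne k j with rfl | hk
  · rcases eq_or_ne l k with rfl | hl <;> simp [levi, vecMulVec_apply, *]
  · rcases eq_or_ne l j with rfl | hl <;> simp [levi, vecMulVec_apply, hx k hk, *]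

omit hq hι in
theorem Fixes.inv {j : ι} {g : SpecialLinearGroup ι F} (hx : Fixes j g.1) :
    Fixes j (g⁻¹).1 := by
  intro k hk
  have h1 : (g⁻¹).1 * g.1 = 1 := congrArg Subtype.val (inv_mul_cancel g)
  have hjj : ∀ a, ((g⁻¹).1 * g.1) a j = (g⁻¹).1 a j * g.1 j j := fun a => by
    rw [Matrix.mul_apply, Finset.sum_eq_single j]
    · intro b _ hb; rw [hx b hb, mul_zero]
    · simp
  have h2 := hjj k
  rw [h1, Matrix.one_apply_ne hk] at h2
  have h3 := hjj j
  rw [h1, Matrix.one_apply_eq] at h3
  exact (mul_eq_zero.1 h2.symm).resolve_right (right_ne_zero_of_mul_eq_one h3.symm)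

/-- A non-monomial element fixing a coordinate line gives everything. -/
theorem top_of_fix [Fintype F] [DecidableEq F] (h5 : 5 ≤ Fintype.card F) (hK : mons ≤ K) {j : ι}
    {x : SpecialLinearGroup ι F} (hx : x ∈ K) (hfix : Fixes j x.1) (hmon : ¬ Mon x.1) : K = ⊤ := by
  obtain ⟨a, ha0, ha1⟩ := hq
  set r : ι → F := fun l => x.1 j l - (Pi.single j (1 : F) : ι → F) l with hr
  have hdec : x.1 = levi j x.1 * R (Pi.single j 1) r := eq_levi_mul hfix
  have hrj : r j = x.1 j j - 1 := by simp [r]
  have hdet : (levi j x.1).det * x.1 j j = 1 := by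
    have := congrArg Matrix.det hdec
    rw [x.2, det_mul, det_R, dotProduct_single, mul_one, hrj, add_sub_cancel] at this
    exact this.symm
  have hxjj : x.1 j j ≠ 0 := right_ne_zero_of_mul_eq_one hdet
  by_cases hL : Mon (levi j x.1)
  · -- `x` is monomial times an elation
    obtain ⟨τ, hτ⟩ := hL
    set lam := x.1 j j
    let y0 := levi j x.1 * R ((lam - 1) • Pi.single j 1) (Pi.single j 1)
    have hy0 : y0.det = 1 := by
      simp only [y0]
      rw [det_mul, det_R, dotProduct_smul, single_dotProduct, Pi.single_eq_same, one_mul,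
        smul_eq_mul, mul_one, add_sub_cancel, hdet]
    have hymon : Mon y0 := by
      refine Mon.mul ⟨τ, hτ⟩ ⟨1, fun k l h => ?_⟩
      by_contra e
      have e : k ≠ l := e
      simp only [R, Matrix.add_apply, Matrix.one_apply_ne e, vecMulVec_apply, zero_add] at h
      rcases eq_or_ne k j with rfl | e'
      · simp [e.symm] at h
      · simp [e'] at h
    let y : SpecialLinearGroup ι F := ⟨y0, hy0⟩
    set r' : ι → F := lam⁻¹ • (r - (lam - 1) • Pi.single j 1)
    have hr'j : r' j = 0 := by simp [r', hrj]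
    have hperp : r' ⬝ᵥ Pi.single j 1 = 0 := by simp [hr'j]
    have hxy : x = y * Tv (Pi.single j 1) r' hperp := by
      refine Subtype.ext (hdec.trans ?_)
      show _ = (levi j x.1 * R ((lam - 1) • Pi.single j 1) (Pi.single j 1)) * R (Pi.single j 1) r'
      rw [mul_assoc, R_smul, SLMon.R_mul]
      congr 1
      rw [R]
      ext k l
      simp [vecMulVec_apply, r', smul_dotProduct]
      field_simp
      ring
    have hT : InT K (Pi.single j 1) r' := by
      refine ⟨hperp, ?_⟩
      have : Tv (Pi.single j 1) r' hperp = y⁻¹ * x := by rw [hxy, inv_mul_cancel_left]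
      rw [this]
      exact K.mul_mem (K.inv_mem (hK hymon)) hx
    refine top_of_elation ⟨a, ha0, ha1⟩ hι hK (fun e => hmon ?_) hT
    rw [hxy]
    show Mon (y0 * R (Pi.single j 1) r')
    rw [e, R_zero_right, mul_one]
    exact hymon
  -- the image of the stabiliser
  let L : Set (Matrix ι ι F) := {B | ∃ z : SpecialLinearGroup ι F, z ∈ K ∧ Fixes j z.1 ∧ levi j z.1 = B}
  have hbig : HomRoot.Big j L := by
    refine ⟨?_, fun k hk => ⟨by simp, by simp [hk.symm], by simp [hk.symm], fun b hb => ?_⟩,
      fun k l hk hl => ?_⟩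
    · rintro _ ⟨z, hz, fz, rfl⟩ _ ⟨z', hz', fz', rfl⟩
      exact ⟨z * z', K.mul_mem hz hz', fz.mul fz', levi_mul fz⟩
    · let D := Function.update (Function.update (fun _ => (1 : F)) k b) j b⁻¹
      have hD : ∏ m, D m = 1 := by rw [prod_two hk, inv_mul_cancel₀ hb]
      refine ⟨dia D hD, hK (dia_mem D hD), fun m hm => diagonal_apply_ne D hm, ?_⟩
      ext p q
      simp only [levi, dia, R, Matrix.add_apply, vecMulVec_apply, Pi.smul_apply, smul_eq_mul]
      rcases eq_or_ne p q with rfl | hpq
      · rcases eq_or_ne p j with rfl | hpj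
        · simp [hk.symm]
        · rcases eq_or_ne p k with rfl | hpk
          · simp [D, hpj]
          · simp [D, hpj, hpk]
      · rw [diagonal_apply_ne _ hpq, Matrix.one_apply_ne hpq]
        rcases eq_or_ne p k with rfl | hpk
        · rcases eq_or_ne q j with rfl | hqj <;> simp [hk, hpq.symm, *]
        · rcases eq_or_ne p j with rfl | hpj
          · simp [hpk, hpq.symm]
          · simp [hpk, hpj]
    · obtain ⟨s, d, hs, hd, -⟩ := exists_pmat_SL (F := F) (Equiv.swap k l) j
      have hj : Equiv.swap k l j = j := Equiv.swap_apply_of_ne_of_ne hk.symm hl.symm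
      refine ⟨s, hK (mons_pmat hs), fun m hm => by rw [hs, pmat_apply, hj, if_neg hm], ?_⟩
      ext p q
      rw [hs]
      rcases eq_or_ne q j with rfl | hq'
      · simp only [levi, pmat_apply, hj, if_true]
      · simp only [levi, pmat_apply, hq', if_false, hd q hq']
        by_cases hp : p = j
        · subst hp
          have hne : p ≠ Equiv.swap k l q := fun e => hq'
            ((Equiv.swap k l).injective (e.symm.trans hj.symm))
          simp [hne]
        · simp [hp]
  have hB' : levi j (x⁻¹).1 * levi j x.1 = 1 := by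
    rw [← levi_mul hfix.inv, show (x⁻¹).1 * x.1 = 1 from
      congrArg Subtype.val (inv_mul_cancel x), levi_one]
  have hB : levi j x.1 * levi j (x⁻¹).1 = 1 := by
    rw [← levi_mul hfix, show x.1 * (x⁻¹).1 = 1 from
      congrArg Subtype.val (mul_inv_cancel x), levi_one]
  set B := levi j x.1
  set B' := levi j (x⁻¹).1
  -- a column with two entries
  obtain ⟨k, p, q, hpq, hp, hq'⟩ : ∃ k p q, p ≠ q ∧ B p k ≠ 0 ∧ B q k ≠ 0 := by
    by_contra hn
    push Not at hn
    have hne : ∀ k, ∃ p, B p k ≠ 0 := by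
      intro k
      by_contra h
      push Not at h
      have := det_eq_zero_of_column_eq_zero k h
      rw [this, zero_mul] at hdet
      exact zero_ne_one hdet
    choose f hf using hne
    have hinj : Function.Injective f := by
      intro k k' e
      by_contra hkk
      have hs : ∀ b c, (B' * B) b c = B' b (f c) * B (f c) c := fun b c => by
        rw [Matrix.mul_apply, Finset.sum_eq_single (f c)]
        · intro d _ hd
          rw [show B d c = 0 by by_contra h; exact hd (by_contra fun hne => h (hn c (f c) d (Ne.symm hne) (hf c))), mul_zero]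
        · simp
      have h1 := hs k' k
      have h2 := hs k' k'
      rw [hB', Matrix.one_apply_ne (Ne.symm hkk), e] at h1
      rw [hB', Matrix.one_apply_eq] at h2
      rw [eq_comm, mul_eq_zero] at h1
      rcases h1 with h1 | h1
      · rw [h1, zero_mul] at h2
        exact one_ne_zero h2
      · exact hf k (e ▸ h1)
    refine hL ⟨Equiv.ofBijective f (Finite.injective_iff_bijective.1 hinj), fun p k h => ?_⟩
    by_contra e
    exact h (hn k (f k) p (Ne.symm e) (hf k))
  have hkj : k ≠ j := by
    rintro rfl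
    have hz : ∀ m, m ≠ k → B m k = 0 := fun m hm => by simp [B, levi, hm]
    rcases eq_or_ne p k with rfl | e
    · exact hq' (hz q hpq.symm)
    · exact hp (hz p e)
  have hhom : HomRoot.Hom j L (B *ᵥ Pi.single k 1) (Pi.single k 1 ᵥ* B') := by
    refine ⟨?_, ?_, ?_, fun b hb => ?_⟩
    · rw [dotProduct_mulVec, vecMul_vecMul, hB', vecMul_one, single_dotProduct, one_mul,
        Pi.single_eq_same]
    · simp [B, levi, hkj]
    · simp [B', levi, hkj, single_vecMul]
    · have hm := hbig.mul _ (hbig.mul _ ⟨x, hx, hfix, rfl⟩ _ ((hbig.dg k hkj).2.2.2 b hb)) _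
        ⟨x⁻¹, K.inv_mem hx, hfix.inv, rfl⟩
      rw [conj_R hB, mulVec_smul] at hm
      exact hm
  obtain ⟨i, l, hil, hij, hlj, c, hc, z, hz, fz, hzl⟩ :=
    HomRoot.root_of_hom ⟨a, ha0, ha1⟩ h5 (by omega) hbig _ _ _ le_rfl hhom p q hpq
      (by simpa [mulVec_single_one] using hp) (by simpa [mulVec_single_one] using hq')
  -- lift the root element
  set ρ : ι → F := fun m => z.1 j m - (Pi.single j (1 : F) : ι → F) m with hρ
  have hdz : z.1 = R (Pi.single i 1) (c • Pi.single l 1) * R (Pi.single j 1) ρ := by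
    rw [← hzl]; exact eq_levi_mul fz
  have hρj : ρ j = 0 := by
    have := congrArg Matrix.det hdz
    rw [z.2, det_mul, det_R, det_R] at this
    simp [hil] at this
    exact this
  have hperp : ρ ⬝ᵥ Pi.single j 1 = 0 := by simp [hρj]
  have lift : ∀ d : ι → F, ∏ m, d m = 1 → d j = 1 → d i = d l →
      InT K (Pi.single j 1) (fun m => ρ m * ((d m)⁻¹ - 1)) := by
    intro d hd hdj hdil
    have hne : ∀ m, d m ≠ 0 := fun m e => by
      rw [Finset.prod_eq_zero (Finset.mem_univ m) e] at hd
      exact zero_ne_one hd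
    set s := dia d hd
    set ρ' : ι → F := fun m => ρ m * (d m)⁻¹
    have hp' : ρ' ⬝ᵥ Pi.single j 1 = 0 := by simp [ρ', hρj]
    have e0 : c • (Pi.single l 1 : ι → F) ⬝ᵥ Pi.single i 1 = 0 := by simp [hil]
    have ez : z = Tv (Pi.single i 1) (c • Pi.single l 1) (by simp [hil]) *
        Tv (Pi.single j 1) ρ hperp := Subtype.ext hdz
    have hs : ∀ (u φ ψ : ι → F) (h1 : φ ⬝ᵥ u = 0) (h2 : ψ ⬝ᵥ u = 0) (u2 : ι → F),
        diagonal d *ᵥ u = u2 → ψ ᵥ* diagonal d = φ → u2 = u →
        s * Tv u φ h1 = Tv u ψ h2 * s := by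
      intro u φ ψ h1 h2 u2 hu hψ hu2
      subst hu2
      refine Subtype.ext ?_
      show diagonal d * R u2 φ = R u2 ψ * diagonal d
      simp only [R, mul_add, add_mul, mul_one, one_mul, Matrix.mul_vecMulVec,
        Matrix.vecMulVec_mul, hu, hψ]
    have c2 : s * Tv (Pi.single j 1) ρ hperp = Tv (Pi.single j 1) ρ' hp' * s := by
      refine hs _ _ _ _ _ _ rfl ?_ ?_
      · funext m
        rw [vecMul_diagonal]
        simp [ρ', mul_assoc, inv_mul_cancel₀ (hne m)]
      · funext m
        rw [mulVec_diagonal]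
        rcases eq_or_ne m j with rfl | e <;> simp [*]
    have c1 : s * Tv (Pi.single i 1) (c • Pi.single l 1) (by simp [hil]) =
        Tv (Pi.single i 1) (c • Pi.single l 1) (by simp [hil]) * s := by
      refine Subtype.ext ?_
      show diagonal d * R (Pi.single i 1) _ = R (Pi.single i 1) _ * diagonal d
      simp only [R, mul_add, add_mul, mul_one, one_mul, Matrix.mul_vecMulVec,
        Matrix.vecMulVec_mul]
      congr 1
      ext m m'
      simp only [vecMulVec_apply, mulVec_diagonal, vecMul_diagonal, Pi.smul_apply, smul_eq_mul]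
      rcases eq_or_ne m i with rfl | e
      · rcases eq_or_ne m' l with rfl | e'
        · simp [hdil]; ring
        · simp [e']
      · simp [e]
    have key : z⁻¹ * (s * z * s⁻¹) = (Tv (Pi.single j 1) ρ hperp)⁻¹ * Tv (Pi.single j 1) ρ' hp' := by
      rw [ez, ← mul_assoc s, c1, mul_assoc (Tv (Pi.single i 1) _ _) s, c2]
      group
    have hm : (Tv (Pi.single j 1) ρ hperp)⁻¹ * Tv (Pi.single j 1) ρ' hp' ∈ K :=
      key ▸ K.mul_mem (K.inv_mem hz) (K.mul_mem (K.mul_mem (hK (dia_mem d hd)) hz)
        (K.inv_mem (hK (dia_mem d hd))))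
    refine ⟨by simp [hρj], ?_⟩
    convert hm using 1
    refine Subtype.ext ?_
    show R _ _ = ((Tv (Pi.single j 1) ρ hperp)⁻¹).1 * R _ _
    rw [inv_Tv, R_mul_same_left _ _ _ (by simp [hρj])]
    congr 1
    funext m
    simp [ρ']; ring
  have ha : a⁻¹ - 1 ≠ 0 := sub_ne_zero.2 fun e => ha1 (inv_eq_one.1 e)
  by_cases ho : ∃ o, o ≠ i ∧ o ≠ l ∧ ρ o ≠ 0
  · obtain ⟨o, hoi, hol, hro⟩ := ho
    have hoj : o ≠ j := fun e => hro (e ▸ hρj)
    obtain ⟨o', ho'⟩ : ∃ o', o' ∈ ((((Finset.univ.erase i).erase l).erase j).erase o : Finset ι) := by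
      refine Finset.card_pos.1 ?_
      have h1 := Finset.pred_card_le_card_erase (s := ((Finset.univ.erase i).erase l).erase j) (a := o)
      have h2 := Finset.pred_card_le_card_erase (s := (Finset.univ.erase i).erase l) (a := j)
      have h3 := Finset.pred_card_le_card_erase (s := (Finset.univ.erase i : Finset ι)) (a := l)
      have h4 := Finset.pred_card_le_card_erase (s := (Finset.univ : Finset ι)) (a := i)
      rw [Finset.card_univ] at h4
      omega
    simp only [Finset.mem_erase, Finset.mem_univ, and_true] at ho'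
    obtain ⟨ho'o, ho'j, ho'l, ho'i⟩ := ho'
    let d := Function.update (Function.update (fun _ => (1 : F)) o a) o' a⁻¹
    refine top_of_elation ⟨a, ha0, ha1⟩ hι hK (fun e => ?_) (lift d
      (by rw [prod_two ho'o.symm, inv_mul_cancel₀ ha0]) (by simp [d, hoj.symm, ho'j.symm])
      (by simp [d, hoi.symm, hol.symm, ho'i.symm, ho'l.symm]))
    have := congrFun e o
    simp [d, ho'o.symm] at this
    rcases this with h | h
    · exact hro h
    · exact ha h
  push Not at ho
  by_cases hρ0 : ρ = 0
  · refine top_of_root (by omega) hK hil hc ⟨by simp [hil], ?_⟩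
    convert hz using 1
    refine Subtype.ext (Eq.symm (hdz.trans ?_))
    rw [hρ0, R_zero_right, mul_one]
    rfl
  obtain ⟨o', ho'i, ho'l, ho'j⟩ := exists_third (by omega) i l j
  let d := Function.update (Function.update (Function.update (fun _ => (1 : F)) i a) l a) o' (a * a)⁻¹
  have hd : ∏ m, d m = 1 := by
    rw [Finset.prod_update_of_mem (Finset.mem_univ o')]
    rw [Finset.prod_update_of_mem (by simp [ho'l.symm])]
    rw [Finset.prod_update_of_mem (by simp [ho'i.symm, hil])]
    simp
    field_simp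
  refine top_of_elation ⟨a, ha0, ha1⟩ hι hK (fun e => hρ0 (funext fun m => ?_)) (lift d hd
    (by simp [d, hij.symm, hlj.symm, ho'j.symm]) (by simp [d, hil, ho'i.symm, ho'l.symm]))
  by_cases hm : m = i ∨ m = l
  · have := congrFun e m
    have hdm : d m = a := by rcases hm with rfl | rfl <;> simp [d, hil, ho'i.symm, ho'l.symm]
    simp only [hdm, Pi.zero_apply, mul_eq_zero] at this
    exact this.resolve_right ha
  · simp only [not_or] at hm
    exact ho m hm.1 hm.2

end CfsgLib.Classical.MonMax
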