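import Cfsg.Agent.Lib.Classical.Forms

set_option autoImplicit false

/-!
Two nondegenerate quadratic forms of the same odd dimension (odd characteristic, finite field) are similar.
-/

namespace CfsgLib.Classical.OddSimilar

open Matrix QuadraticMap

variable {F : Type*} [Field F] {n : ℕ}

theorem isSquare_of_similar (hn : Odd n) (B : LinearMap.BilinForm F (Fin n → F)) (hB : B.Nondegenerate)
    (g : (Fin n → F) →ₗ[F] (Fin n → F)) {c : F} (hc : c ≠ 0)
    (h : ∀ u v, B (g u) (g v) = c * B u v) : IsSquare c := by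
  let b := Pi.basisFun F (Fin n)
  have e : B.compl₁₂ g g = c • B := LinearMap.ext₂ fun u v => by simpa using h u v
  have e2 := congrArg (LinearMap.toMatrix₂ b b) e
  rw [LinearMap.toMatrix₂_compl₁₂ b b b b, map_smul] at e2
  have e3 := congrArg Matrix.det e2
  simp only [Matrix.det_mul, Matrix.det_transpose, Matrix.det_smul, Fintype.card_fin] at e3
  have hd : (LinearMap.toMatrix₂ b b B).det ≠ 0 := LinearMap.separatingLeft_iff_det_ne_zero b |>.1 hB.1
  obtain ⟨k, rfl⟩ := hn
  refine ⟨(LinearMap.toMatrix b b g).det / c ^ k, ?_⟩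
  field_simp
  refine mul_right_cancel₀ hd ?_
  linear_combination -e3

theorem exists_similar [Finite F] (h2 : (2 : F) ≠ 0) (hn : Odd n)
    (Q₁ Q₂ : QuadraticForm F (Fin n → F)) (h₁ : (polarBilin Q₁).Nondegenerate)
    (h₂ : (polarBilin Q₂).Nondegenerate) :
    ∃ (g : (Fin n → F) ≃ₗ[F] (Fin n → F)) (c : F), c ≠ 0 ∧ ∀ v, Q₂ (g v) = c * Q₁ v := by
  have : Fintype F := Fintype.ofFinite F
  obtain ⟨α, hα⟩ := FiniteField.exists_nonsquare (F := F) (fun h => by
    have := ringChar.Nat.cast_ringChar (R := F)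
    rw [h] at this
    exact h2 (by exact_mod_cast this))
  have hα0 : α ≠ 0 := fun h => hα (h ▸ IsSquare.zero)
  obtain ⟨m, rfl⟩ : ∃ m, n = m + 1 := ⟨n - 1, by have := hn.pos; omega⟩
  let B₁ : LinearMap.BilinForm F (Fin (m + 1) → F) := polarBilin Q₁
  let B₂ : LinearMap.BilinForm F (Fin (m + 1) → F) := polarBilin Q₂
  have hd : Module.finrank F (Fin (m + 1) → F) = m + 1 := Module.finrank_fin_fun F
  obtain ⟨b₁, o₁, u₁, l₁⟩ := CfsgLib.Forms.exists_orthogonal_basis_one h2 α hα m B₁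
    (fun x y => polar_comm Q₁ x y) h₁.1 hd
  obtain ⟨b₂, o₂, u₂, l₂⟩ := CfsgLib.Forms.exists_orthogonal_basis_one h2 α hα m B₂
    (fun x y => polar_comm Q₂ x y) h₂.1 hd
  obtain ⟨b₃, o₃, u₃, l₃⟩ := CfsgLib.Forms.exists_orthogonal_basis_one h2 α hα m (α • B₁)
    (fun x y => by simp [B₁, polar_comm Q₁ x y]) (fun v hv => h₁.1 v fun w => by
      simpa [B₁, hα0] using hv w) hd
  have key : ∀ (B C : LinearMap.BilinForm F (Fin (m + 1) → F))
      (b c : Module.Basis (Fin (m + 1)) F (Fin (m + 1) → F)),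
      (∀ i j, i ≠ j → B (b i) (b j) = 0) → (∀ i, i ≠ Fin.last m → B (b i) (b i) = 1) →
      (∀ i j, i ≠ j → C (c i) (c j) = 0) → (∀ i, i ≠ Fin.last m → C (c i) (c i) = 1) →
      B (b (Fin.last m)) (b (Fin.last m)) = C (c (Fin.last m)) (c (Fin.last m)) →
      ∀ u v, C ((b.equiv c (Equiv.refl _)) u) ((b.equiv c (Equiv.refl _)) v) = B u v := by
    intro B C b c ob ub oc uc hl u v
    have he : C.compl₁₂ (b.equiv c (Equiv.refl _)).toLinearMap (b.equiv c (Equiv.refl _)).toLinearMap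
        = B := by
      refine LinearMap.ext_basis b b fun i j => ?_
      simp only [LinearMap.compl₁₂_apply, LinearEquiv.coe_coe, Module.Basis.equiv_apply,
        Equiv.refl_apply]
      rcases eq_or_ne i j with rfl | hij
      · rcases eq_or_ne i (Fin.last m) with rfl | hi
        · exact hl.symm
        · rw [ub i hi, uc i hi]
      · rw [ob i j hij, oc i j hij]
    exact LinearMap.congr_fun₂ he u v
  have fin : ∀ (c : F), c ≠ 0 → (b : Module.Basis (Fin (m + 1)) F (Fin (m + 1) → F)) →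
      (∀ u v, B₂ ((b.equiv b₂ (Equiv.refl _)) u) ((b.equiv b₂ (Equiv.refl _)) v) = c * B₁ u v) →
      ∃ (g : (Fin (m + 1) → F) ≃ₗ[F] (Fin (m + 1) → F)) (c : F), c ≠ 0 ∧ ∀ v, Q₂ (g v) = c * Q₁ v := by
    intro c hc b h
    refine ⟨b.equiv b₂ (Equiv.refl _), c, hc, fun v => mul_left_cancel₀ h2 ?_⟩
    have := h v v
    simp only [B₁, B₂, QuadraticMap.polarBilin_apply_apply, QuadraticMap.polar_self,
      nsmul_eq_mul, Nat.cast_ofNat] at this
    linear_combination this
  have h13 : B₁ (b₁ (Fin.last m)) (b₁ (Fin.last m)) ≠ (α • B₁) (b₃ (Fin.last m)) (b₃ (Fin.last m)) := by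
    intro h
    have hs := key B₁ (α • B₁) b₁ b₃ o₁ u₁ o₃ u₃ h
    refine hα ?_
    have := isSquare_of_similar hn B₁ h₁ (b₁.equiv b₃ (Equiv.refl _)).toLinearMap (inv_ne_zero hα0)
      (fun u v => by
        have h' := hs u v
        simp only [LinearMap.smul_apply, smul_eq_mul] at h'
        rw [← h']
        simp [← mul_assoc, hα0])
    simpa using this.inv
  by_cases h12 : B₁ (b₁ (Fin.last m)) (b₁ (Fin.last m)) = B₂ (b₂ (Fin.last m)) (b₂ (Fin.last m))
  · exact fin 1 one_ne_zero b₁ fun u v => by rw [key B₁ B₂ b₁ b₂ o₁ u₁ o₂ u₂ h12, one_mul]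
  · refine fin α hα0 b₃ fun u v => ?_
    rw [key (α • B₁) B₂ b₃ b₂ o₃ u₃ o₂ u₂ ?_]
    · simp
    rcases l₁ with a | a <;> rcases l₂ with b | b <;> rcases l₃ with c | c <;>
      first
        | exact c.trans b.symm
        | exact absurd (a.trans b.symm) h12
        | exact absurd (a.trans c.symm) h13

end CfsgLib.Classical.OddSimilar
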