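import Cfsg.Agent.Lib.Classical.OmegaPlus

set_option autoImplicit false

/-!
Consequences: involutions negating hyperbolic pairs, transitivity statements.
-/

namespace CfsgLib.Orth

open Matrix CfsgLib.Classical.WittBasis

variable {F : Type*} [Field F] [Fintype F] {ι : Type} [Fintype ι] [DecidableEq ι]
variable {Q : QuadraticForm F (ι → F)}

local notation "B" => QuadraticMap.polar (DFunLike.coe Q)

theorem two_ne_zero_of_odd {q : ℕ} (hF : Fintype.card F = q) (hq : Odd q) : (2 : F) ≠ 0 := by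
  refine Ring.two_ne_zero fun e => ?_
  have := FiniteField.even_card_of_char_two e
  rw [Nat.odd_iff] at hq
  omega

theorem isSquare_neg_one_pow {q : ℕ} (hF : Fintype.card F = q) (hq : Odd q) (i : ℕ) :
    IsSquare ((-1 : F) ^ i) ↔ q ^ i % 4 = 1 := by
  rw [Nat.pow_mod]
  rw [Nat.odd_iff] at hq
  have h4 : q % 4 = 1 ∨ q % 4 = 3 := by omega
  rcases Nat.even_or_odd i with ⟨j, rfl⟩ | ⟨j, rfl⟩
  · rw [← two_mul, pow_mul, pow_mul, neg_one_sq, one_pow]
    refine iff_of_true IsSquare.one ?_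
    rcases h4 with h | h <;> rw [h] <;> norm_num [Nat.pow_mod]
  · rw [pow_succ, pow_succ, pow_mul, pow_mul, neg_one_sq, one_pow, one_mul,
      FiniteField.isSquare_neg_one_iff, hF]
    rcases h4 with h | h <;> rw [h] <;> norm_num [Nat.mul_mod, Nat.pow_mod]

/-- The diagonal involution negating the first `i` pairs of the basis. -/
theorem neg_pairs_iff (hB : Nondeg Q) {q : ℕ} (hF : Fintype.card F = q) (hq : Odd q) {r : ℕ}
    (a c : Fin r → ι) (h : IsHyp Q (fun j => (Pi.single (a j) 1 : ι → F)) (fun j => Pi.single (c j) 1))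
    (i : ℕ) (hi : 1 ≤ i) (hir : i ≤ r) (d : ι → F)
    (hd1 : ∀ j : Fin r, d (a j) = (if j.val < i then -1 else 1) ∧ d (c j) = (if j.val < i then -1 else 1))
    (hd2 : ∀ k, (∀ j, k ≠ a j ∧ k ≠ c j) → d k = 1 ∧
      ∀ j, B (Pi.single (a j) 1) (Pi.single k 1) = 0 ∧ B (Pi.single (c j) 1) (Pi.single k 1) = 0) :
    (∃ g : Grp Q, g ∈ Cfsg.Omega F ⇑Q ∧ ((g : GL ι F) : Matrix ι ι F) = diagonal d) ↔ q ^ i % 4 = 1 := by
  have h2 := two_ne_zero_of_odd hF hq
  have hcard : Nat.card F ≠ 2 := by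
    rw [Nat.card_eq_fintype_card, hF]
    rw [Nat.odd_iff] at hq
    omega
  have hn : 2 ≤ Module.finrank F (ι → F) := by
    rw [Module.finrank_fintype_fun_eq_card]
    let j : Fin r := ⟨0, by omega⟩
    exact Fintype.one_lt_card_iff.2 ⟨a j, c j, fun e => by
      have h1 := h.ef j j
      have h2 := h.ff j j
      rw [e, h2, if_pos rfl] at h1
      exact zero_ne_one h1⟩
  let s : Fin r → F := fun j => if j.val < i then -1 else 1
  have hs : ∀ j, s j ≠ 0 := fun j => by simp only [s]; split_ifs <;> simp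
  have hinv : ∀ j, (s j)⁻¹ = s j := fun j => by simp only [s]; split_ifs <;> simp [inv_neg_one]
  obtain ⟨g, g1, g2, g3, g4, g5⟩ := exists_scale hB hn h s hs
  have hg : ((g : GL ι F) : Matrix ι ι F) = diagonal d := by
    refine Matrix.ext_of_mulVec_single fun k => ?_
    show ap g (Pi.single k 1) = _
    rw [show diagonal d *ᵥ Pi.single k 1 = d k • (Pi.single k 1 : ι → F) by
      funext l; rcases eq_or_ne l k with rfl | hl <;> simp [mulVec_diagonal, *]]
    by_cases hk : ∀ j, k ≠ a j ∧ k ≠ c j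
    · obtain ⟨hdk, hperp⟩ := hd2 k hk
      rw [hdk, one_smul, g3 _ (fun j => (hperp j).1) fun j => (hperp j).2]
    · push Not at hk
      obtain ⟨j, hj⟩ := hk
      by_cases hja : k = a j
      · rw [hja, (hd1 j).1, g1]
      · rw [hj hja, (hd1 j).2, g2, hinv]
  have hprod : ∏ j, s j = (-1 : F) ^ i := by
    simp only [s]
    rw [Finset.prod_ite, Finset.prod_const_one, mul_one, Finset.prod_const]
    congr 1
    rw [← Fintype.card_subtype]
    exact (Fintype.card_congr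
      { toFun := fun x => (⟨x.1.val, x.2⟩ : Fin i)
        invFun := fun x => ⟨⟨x.val, by omega⟩, x.2⟩
        left_inv := fun x => rfl
        right_inv := fun x => rfl }).trans (Fintype.card_fin i)
  rw [← isSquare_neg_one_pow hF hq, ← hprod, ← sqc_eq_one, ← g5 h2]
  constructor
  · rintro ⟨k, hk, hkd⟩
    have : k = g := Subtype.ext (Units.ext (hkd.trans hg.symm))
    subst this
    exact ((mem_omega_iff hB hn (fun _ => hcard) k).1 hk).2 h2
  · exact fun hsp => ⟨g, (mem_omega_iff hB hn (fun _ => hcard) g).2 ⟨g4, fun _ => hsp⟩, hg⟩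

/-- A nondegenerate form of dimension at least two represents everything. -/
theorem exists_value {U : Submodule F (ι → F)}
    (hU : ∀ x ∈ U, (∀ y ∈ U, B x y = 0) → x = 0) (h2 : (2 : F) ≠ 0) (hd : 2 ≤ Module.finrank F U) (t : F) :
    ∃ v ∈ U, Q v = t := by
  obtain ⟨a, ha, hqa⟩ : ∃ a ∈ U, Q a ≠ 0 := by
    by_contra hc
    push Not at hc
    obtain ⟨x, hx, hx0⟩ := U.exists_mem_ne_zero_of_ne_bot (fun e => by rw [e, finrank_bot] at hd; omega)
    refine hx0 (hU x hx fun y hy => ?_)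
    have := hc _ (U.add_mem hx hy)
    rw [q_add, hc x hx, hc y hy, zero_add, zero_add] at this
    exact this
  obtain ⟨c, hc, hc0⟩ : ∃ c ∈ U ⊓ LinearMap.ker (QuadraticMap.polarBilin Q a), c ≠ 0 := by
    refine Submodule.exists_mem_ne_zero_of_ne_bot fun hb => ?_
    have h1 := LinearMap.finrank_range_add_finrank_ker ((QuadraticMap.polarBilin Q a).comp U.subtype)
    have h3 := Submodule.finrank_le (LinearMap.range ((QuadraticMap.polarBilin Q a).comp U.subtype))
    rw [Module.finrank_self] at h3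
    rw [LinearMap.ker_comp, ← Submodule.finrank_map_subtype_eq, Submodule.map_comap_subtype,
      hb, finrank_bot] at h1
    omega
  have hac : B a c = 0 := hc.2
  by_cases hqc : Q c = 0
  · -- hyperbolic pair inside `U`
    obtain ⟨z, hz, hcz⟩ : ∃ z ∈ U, B c z ≠ 0 := by
      by_contra hh
      push Not at hh
      exact hc0 (hU c hc.1 hh)
    refine ⟨z + ((t - Q z) / B c z) • c, U.add_mem hz (U.smul_mem _ hc.1), ?_⟩
    rw [q_add, q_smul, hqc, b_smul_right, b_comm z c, div_mul_cancel₀ _ hcz]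
    ring
  obtain ⟨x, y, hxy⟩ := FiniteField.exists_root_sum_quadratic
    (f := Polynomial.C (Q a) * Polynomial.X ^ 2 + Polynomial.C (-t))
    (g := Polynomial.C (Q c) * Polynomial.X ^ 2)
    (by compute_degree!) (by compute_degree!)
    (by
      have := FiniteField.odd_card_of_char_ne_two (F := F) (fun e => h2 (by
        have := CharP.cast_eq_zero F (ringChar F)
        rwa [e, Nat.cast_ofNat] at this))
      omega)
  simp only [Polynomial.eval_add, Polynomial.eval_mul, Polynomial.eval_C, Polynomial.eval_pow,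
    Polynomial.eval_X] at hxy
  refine ⟨x • a + y • c, U.add_mem (U.smul_mem _ ha) (U.smul_mem _ hc.1), ?_⟩
  rw [q_add, q_smul, q_smul, b_smul_left, b_smul_right, hac]
  linear_combination hxy

/-- A move may be corrected by any element of the stabiliser, class by class. -/
theorem exists_omega_of_stab (hB : Nondeg Q) (hn : 2 ≤ Module.finrank F (ι → F))
    (hex : Module.finrank F (ι → F) = 4 → Nat.card F ≠ 2) {U W : Submodule F (ι → F)}
    (g : Grp Q) (hg : U.map (Matrix.mulVecLin ((g : GL ι F) : Matrix ι ι F)) = W)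
    (hstab : ∀ δ σ : ℤˣ, ∃ s : Grp Q, W.map (Matrix.mulVecLin ((s : GL ι F) : Matrix ι ι F)) = W ∧
      dickson hB s = δ ∧ ((2 : F) ≠ 0 → spinor Q 1 s = σ)) :
    ∃ h : Grp Q, h ∈ Cfsg.Omega F ⇑Q ∧ U.map (Matrix.mulVecLin ((h : GL ι F) : Matrix ι ι F)) = W := by
  obtain ⟨s, s1, s2, s3⟩ := hstab (dickson hB g) (spinor Q 1 g)
  refine ⟨s * g, (mem_omega_iff hB hn hex _).2 ⟨?_, fun h2 => ?_⟩, by rw [map_mul_eq, hg, s1]⟩
  · rw [map_mul, s2, Int.units_mul_self]
  · rw [map_mul, s3 h2, Int.units_mul_self]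

theorem refl_stab {v : ι → F} {r : Grp Q} (hr : IsRefl v r) {W : Submodule F (ι → F)}
    (h : v ∈ W ∨ ∀ w ∈ W, B v w = 0) :
    W.map (Matrix.mulVecLin ((r : GL ι F) : Matrix ι ι F)) = W := by
  have hmem : ∀ w ∈ W, ap r w ∈ W := fun w hw => by
    rw [hr.2]
    rcases h with h | h
    · exact sub_mem hw (W.smul_mem _ h)
    · rw [h w hw, mul_zero, zero_smul, sub_zero]; exact hw
  refine le_antisymm ?_ fun w hw => ⟨ap r w, hmem w hw, ?_⟩
  · rintro _ ⟨w, hw, rfl⟩
    exact hmem w hw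
  · show ap r (ap r w) = w
    rw [← ap_mul, refl_mul_self hr, ap_one]

/-- The stabiliser of a nondegenerate subspace meets every class. -/
theorem nondeg_stab_classes (hB : Nondeg Q) (hn : 3 ≤ Module.finrank F (ι → F))
    {W : Submodule F (ι → F)} (hW : W ⊓ orth Q W = ⊥) (δ σ : ℤˣ) :
    ∃ s : Grp Q, W.map (Matrix.mulVecLin ((s : GL ι F) : Matrix ι ι F)) = W ∧
      dickson hB s = δ ∧ ((2 : F) ≠ 0 → spinor Q 1 s = σ) := by
  have hsum := finrank_orth hB W
  obtain ⟨X, hX, hXd, hXs⟩ : ∃ X : Submodule F (ι → F), (∀ x ∈ X, (∀ y ∈ X, B x y = 0) → x = 0) ∧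
      2 ≤ Module.finrank F X ∧ ∀ v ∈ X, v ∈ W ∨ ∀ w ∈ W, B v w = 0 := by
    by_cases hd : 2 ≤ Module.finrank F W
    · refine ⟨W, fun x hx h => (Submodule.mem_bot F).1 (hW ▸ ⟨hx, mem_orth.2 fun w hw => ?_⟩), hd,
        fun v hv => Or.inl hv⟩
      rw [b_comm]; exact h w hw
    · refine ⟨orth Q W, fun x hx h => ?_, by omega, fun v hv => Or.inr fun w hw => ?_⟩
      · refine (Submodule.mem_bot F).1 (hW ▸ ⟨?_, hx⟩)
        show x ∈ W
        rw [← orth_orth hB W, mem_orth]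
        intro y hy; rw [b_comm]; exact h y hy
      · rw [b_comm]; exact mem_orth.1 hv w hw
  obtain ⟨v₀, hv₀, hq₀⟩ : ∃ v ∈ X, Q v ≠ 0 := by
    by_contra hc
    push Not at hc
    obtain ⟨x, hx, hx0⟩ := X.exists_mem_ne_zero_of_ne_bot (fun e => by rw [e, finrank_bot] at hXd; omega)
    refine hx0 (hX x hx fun y hy => ?_)
    have := hc _ (X.add_mem hx hy)
    rw [q_add, hc x hx, hc y hy, zero_add, zero_add] at this
    exact this
  obtain ⟨r₀, hr₀⟩ := exists_refl hB hq₀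
  have hr₀s := refl_stab hr₀ (hXs v₀ hv₀)
  -- a rotation of the required spinor sign
  obtain ⟨t, ht, htd, hts⟩ : ∃ t : Grp Q, W.map (Matrix.mulVecLin ((t : GL ι F) : Matrix ι ι F)) = W ∧
      dickson hB t = 1 ∧ ((2 : F) ≠ 0 → spinor Q 1 t = (if δ = 1 then σ else spinor Q 1 r₀ * σ)) := by
    by_cases h2 : (2 : F) = 0
    · exact ⟨1, map_one_eq W, map_one _, fun h => absurd h2 h⟩
    obtain ⟨τ, hτ⟩ : ∃ τ : ℤˣ, τ = if δ = 1 then σ else spinor Q 1 r₀ * σ := ⟨_, rfl⟩
    rw [← hτ]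
    rcases Int.units_eq_one_or τ with e | e
    · exact ⟨1, map_one_eq W, map_one _, fun _ => by rw [map_one, e]⟩
    obtain ⟨α, hα⟩ := FiniteField.exists_nonsquare (F := F) (fun e' => h2 (by
      have := CharP.cast_eq_zero F (ringChar F)
      rwa [e', Nat.cast_ofNat] at this))
    obtain ⟨v₁, hv₁, hq₁⟩ := exists_value hX h2 hXd (α * Q v₀)
    have hα0 : α ≠ 0 := fun e => hα (e ▸ IsSquare.zero)
    obtain ⟨r₁, hr₁⟩ := exists_refl hB (v := v₁) (by rw [hq₁]; exact mul_ne_zero hα0 hq₀)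
    obtain ⟨hc1, hc2⟩ := class_pair hB (by omega) hr₁ hr₀
    refine ⟨r₁ * r₀, by rw [map_mul_eq, hr₀s, refl_stab hr₁ (hXs v₁ hv₁)], hc1, fun _ => ?_⟩
    rw [hc2 h2, hq₁, e, mul_assoc, sqc_mul hα0 (mul_ne_zero hq₀ hq₀), sqc_eq_one.2 ⟨Q v₀, rfl⟩, mul_one]
    exact (Int.units_eq_one_or _).resolve_left (fun h => hα (sqc_eq_one.1 h))
  by_cases hδ : δ = 1
  · exact ⟨t, ht, by rw [htd, hδ], fun h2 => by rw [hts h2, if_pos hδ]⟩
  · refine ⟨r₀ * t, by rw [map_mul_eq, ht, hr₀s], ?_, fun h2 => ?_⟩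
    · rw [map_mul, htd, dickson_refl hB hr₀, mul_one]
      exact ((Int.units_eq_one_or δ).resolve_left hδ).symm
    · rw [map_mul, hts h2, if_neg hδ, ← mul_assoc, Int.units_mul_self, one_mul]

/-- The stabiliser of a small totally singular subspace meets every class. -/
theorem singular_stab_classes (hB : Nondeg Q) {W : Submodule F (ι → F)}
    (hWs : ∀ w ∈ W, Q w = 0) (hW : 2 * Module.finrank F W < Module.finrank F (ι → F))
    (hW0 : W ≠ ⊥) (δ σ : ℤˣ) :
    ∃ s : Grp Q, W.map (Matrix.mulVecLin ((s : GL ι F) : Matrix ι ι F)) = W ∧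
      dickson hB s = δ ∧ ((2 : F) ≠ 0 → spinor Q 1 s = σ) := by
  have hn : 2 ≤ Module.finrank F (ι → F) := by
    have : Module.finrank F W ≠ 0 := fun e => hW0 (Submodule.finrank_eq_zero.1 e)
    omega
  obtain ⟨v₀, hv₀, hq₀⟩ : ∃ v ∈ orth Q W, Q v ≠ 0 := by
    by_contra hc
    push Not at hc
    have h1 := two_mul_finrank_le hB (le_orth_of_singular hc)
    have h2 := finrank_orth hB W
    omega
  obtain ⟨r₀, hr₀⟩ := exists_refl hB hq₀
  have hr₀s := refl_stab hr₀ (W := W) (Or.inr fun w hw => by rw [b_comm]; exact mem_orth.1 hv₀ w hw)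
  obtain ⟨u, hu, hu0⟩ := W.exists_mem_ne_zero_of_ne_bot hW0
  obtain ⟨W', hW'⟩ := Submodule.exists_isCompl (F ∙ u)
  -- a partner orthogonal to the rest of `W`
  obtain ⟨z, hqz, huz, hWz⟩ : ∃ z, Q z = 0 ∧ B u z = 1 ∧ ∀ w ∈ W ⊓ W', B w z = 0 := by
    obtain ⟨y, hy, hyu⟩ : ∃ y ∈ orth Q (W ⊓ W'), B u y ≠ 0 := by
      by_contra hc
      push Not at hc
      have h1 : u ∈ orth Q (orth Q (W ⊓ W')) := mem_orth.2 fun y hy => by rw [b_comm]; exact hc y hy
      rw [orth_orth hB] at h1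
      exact hu0 ((Submodule.mem_bot F).1
        (hW'.inf_eq_bot ▸ ⟨Submodule.mem_span_singleton_self u, h1.2⟩))
    obtain ⟨z', hz', hzW⟩ : ∃ z', B u z' = 1 ∧ ∀ w ∈ W ⊓ W', B w z' = 0 := by
      refine ⟨(B u y)⁻¹ • y, ?_, fun w hw => ?_⟩
      · rw [b_smul_right, inv_mul_cancel₀ hyu]
      · rw [b_smul_right, mem_orth.1 hy w hw, mul_zero]
    refine ⟨z' - Q z' • u, ?_, ?_, fun w hw => ?_⟩
    · rw [q_sub, q_smul, hWs u hu, b_smul_right, b_comm z' u, hz']; ring
    · rw [b_sub_right, b_smul_right, b_self_zero (hWs u hu), hz']; ring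
    · have h1 : B w u = 0 := mem_orth.1 (le_orth_of_singular hWs hu) w hw.1
      rw [b_sub_right, b_smul_right, hzW w hw, h1]; ring
  have hscale : ∀ c : F, c ≠ 0 → ∃ s : Grp Q, W.map (Matrix.mulVecLin ((s : GL ι F) : Matrix ι ι F)) = W ∧
      dickson hB s = 1 ∧ ((2 : F) ≠ 0 → spinor Q 1 s = sqc c) := by
    intro c hc
    obtain ⟨g, g1, -, g3, g4, g5⟩ := exists_scale_one hB hn (hWs u hu) hqz huz hc
    refine ⟨g, Submodule.eq_of_le_of_finrank_le ?_ (by rw [finrank_map_iso]), g4, g5⟩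
    rintro _ ⟨w, hw, rfl⟩
    show ap g w ∈ W
    obtain ⟨a, ha, b, hb, rfl⟩ := Submodule.mem_sup.1
      (hW'.sup_eq_top ▸ Submodule.mem_top : w ∈ (F ∙ u) ⊔ W')
    obtain ⟨t, rfl⟩ := Submodule.mem_span_singleton.1 ha
    have hbW : b ∈ W := (Submodule.add_mem_iff_right W (W.smul_mem t hu)).1 hw
    rw [ap_add, ap_smul, g1, g3 b (mem_orth.1 (le_orth_of_singular hWs hbW) u hu)
      (by rw [b_comm]; exact hWz b ⟨hbW, hb⟩)]
    exact W.add_mem (W.smul_mem _ (W.smul_mem _ hu)) hbW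
  obtain ⟨t, ht, htd, hts⟩ : ∃ t : Grp Q, W.map (Matrix.mulVecLin ((t : GL ι F) : Matrix ι ι F)) = W ∧
      dickson hB t = 1 ∧ ((2 : F) ≠ 0 → spinor Q 1 t = (if δ = 1 then σ else spinor Q 1 r₀ * σ)) := by
    by_cases h2 : (2 : F) = 0
    · exact ⟨1, map_one_eq W, map_one _, fun h => absurd h2 h⟩
    obtain ⟨τ, hτ⟩ : ∃ τ : ℤˣ, τ = if δ = 1 then σ else spinor Q 1 r₀ * σ := ⟨_, rfl⟩
    rw [← hτ]
    rcases Int.units_eq_one_or τ with e | e
    · exact ⟨1, map_one_eq W, map_one _, fun _ => by rw [map_one, e]⟩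
    obtain ⟨α, hα⟩ := FiniteField.exists_nonsquare (F := F) (fun e' => h2 (by
      have := CharP.cast_eq_zero F (ringChar F)
      rwa [e', Nat.cast_ofNat] at this))
    obtain ⟨s, s1, s2, s3⟩ := hscale α (fun e => hα (e ▸ IsSquare.zero))
    exact ⟨s, s1, s2, fun _ => by
      rw [s3 h2, e]; exact (Int.units_eq_one_or _).resolve_left fun h => hα (sqc_eq_one.1 h)⟩
  by_cases hδ : δ = 1
  · exact ⟨t, ht, by rw [htd, hδ], fun h2 => by rw [hts h2, if_pos hδ]⟩
  · refine ⟨r₀ * t, by rw [map_mul_eq, ht, hr₀s], ?_, fun h2 => ?_⟩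
    · rw [map_mul, htd, dickson_refl hB hr₀, mul_one]
      exact ((Int.units_eq_one_or δ).resolve_left hδ).symm
    · rw [map_mul, hts h2, if_neg hδ, ← mul_assoc, Int.units_mul_self, one_mul]

namespace Plus

variable {m : ℕ} {Q : QuadraticForm F (Fin m ⊕ Fin m → F)}

local notation "B" => QuadraticMap.polar (DFunLike.coe Q)

/-- The product of the pairwise swaps. -/
theorem exists_swap (hB : Nondeg Q) (hQ : ⇑Q = Cfsg.quadFormPlus m F) (hm : 1 ≤ m) :
    ∃ J : Grp Q, (∀ v i, ap J v (Sum.inl i) = v (Sum.inr i) ∧ ap J v (Sum.inr i) = v (Sum.inl i)) ∧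
      dickson hB J = (-1) ^ m ∧ ((2 : F) ≠ 0 → Even m → spinor Q 1 J = 1) := by
  classical
  have hn : 2 ≤ Module.finrank F (Fin m ⊕ Fin m → F) := by simp; omega
  have hyp := isHyp_std hQ
  let v : Fin m → Fin m ⊕ Fin m → F := fun j => Pi.single (.inl j) 1 - Pi.single (.inr j) 1
  have hqv : ∀ j, Q (v j) = -1 := fun j => by
    rw [q_sub, hyp.qe, hyp.qf, hyp.ef, if_pos rfl]; ring
  have hr : ∀ j, ∃ r : Grp Q, IsRefl (v j) r := fun j =>
    exists_refl hB (by rw [hqv]; exact neg_ne_zero.2 one_ne_zero)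
  choose r hr using hr
  suffices H : ∀ S : Finset (Fin m), ∃ J : Grp Q,
      (∀ x i, ap J x (Sum.inl i) = (if i ∈ S then x (Sum.inr i) else x (Sum.inl i)) ∧
        ap J x (Sum.inr i) = (if i ∈ S then x (Sum.inl i) else x (Sum.inr i))) ∧
      dickson hB J = (-1) ^ S.card ∧ ((2 : F) ≠ 0 → Even S.card → spinor Q 1 J = 1) ∧
      ∃ ε : ℤˣ, (2 : F) ≠ 0 → spinor Q 1 J = ε ^ S.card ∧ ∀ j, spinor Q 1 (r j) = ε by
    obtain ⟨J, h1, h2, h3, -⟩ := H Finset.univ
    rw [Finset.card_univ, Fintype.card_fin] at h2 h3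
    exact ⟨J, fun x i => by simpa using h1 x i, h2, h3⟩
  intro S
  obtain ⟨ε, hε⟩ : ∃ ε : ℤˣ, (2 : F) ≠ 0 → ∀ j, spinor Q 1 (r j) = ε := by
    by_cases h2 : (2 : F) = 0
    · exact ⟨1, fun h => absurd h2 h⟩
    obtain ⟨ε, hε⟩ := exists_eps hB h2 hn
    exact ⟨ε * sqc (-1 : F), fun _ j => by rw [hε _ _ (hr j), hqv]⟩
  have hap : ∀ j x i, ap (r j) x (Sum.inl i) = (if i = j then x (Sum.inr i) else x (Sum.inl i)) ∧
      ap (r j) x (Sum.inr i) = (if i = j then x (Sum.inl i) else x (Sum.inr i)) := by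
    intro j x i
    have hb : B (v j) x = x (Sum.inr j) - x (Sum.inl j) := by
      rw [hQ, polar_plus]
      simp [v, Pi.single_apply, Finset.sum_add_distrib]
      ring
    rw [(hr j).2, hqv, hb, inv_neg_one]
    rcases eq_or_ne i j with rfl | hij
    · simp [v]
    · simp [v, hij]
  induction S using Finset.induction_on with
  | empty =>
    exact ⟨1, fun x i => by simp, by simp, fun _ _ => map_one _, ε, fun h => ⟨by simp, hε h⟩⟩
  | insert j T hj ih =>
    obtain ⟨J, h1, h2, -, ε', h4⟩ := ih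
    refine ⟨r j * J, fun x i => ?_, by rw [map_mul, h2, dickson_refl hB (hr j), Finset.card_insert_of_notMem hj, pow_succ'], ?_, ε', ?_⟩
    · rw [ap_mul]
      rcases eq_or_ne i j with rfl | hij
      · simp [(hap i (ap J x) i).1, (hap i (ap J x) i).2, (h1 x i).1, (h1 x i).2, hj]
      · simp [(hap j (ap J x) i).1, (hap j (ap J x) i).2, (h1 x i).1, (h1 x i).2, hij]
    · intro h hev
      rw [map_mul, (h4 h).1, (h4 h).2 j, ← pow_succ', ← Finset.card_insert_of_notMem hj]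
      obtain ⟨k, hk⟩ := hev
      rw [hk, ← two_mul, pow_mul, sq, Int.units_mul_self, one_pow]
    · intro h
      exact ⟨by rw [map_mul, (h4 h).1, (h4 h).2 j, ← pow_succ', Finset.card_insert_of_notMem hj], (h4 h).2⟩

/-- `Ω` is transitive on each class of maximal singular subspaces. -/
theorem omega_transitive (hB : Nondeg Q) (hQ : ⇑Q = Cfsg.quadFormPlus m F) (hm : 1 ≤ m)
    (hex : Module.finrank F (Fin m ⊕ Fin m → F) = 4 → Nat.card F ≠ 2)
    (U W : Submodule F (Fin m ⊕ Fin m → F)) (hU : Module.finrank F U = m) (hW : Module.finrank F W = m)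
    (hU0 : ∀ u ∈ U, Q u = 0) (hW0 : ∀ w ∈ W, Q w = 0) (he : Even (m - Module.finrank F ↥(U ⊓ W))) :
    ∃ g : Grp Q, g ∈ Cfsg.Omega F ⇑Q ∧
      U.map (Matrix.mulVecLin ((g : GL (Fin m ⊕ Fin m) F) : Matrix (Fin m ⊕ Fin m) (Fin m ⊕ Fin m) F)) = W := by
  classical
  have hn : 2 ≤ Module.finrank F (Fin m ⊕ Fin m → F) := by simp; omega
  have move : ∀ X : Submodule F (Fin m ⊕ Fin m → F), Module.finrank F X = m → (∀ x ∈ X, Q x = 0) →
      ∃ a : Grp Q, (U0 F m).map (Matrix.mulVecLin ((a : GL (Fin m ⊕ Fin m) F) :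
        Matrix (Fin m ⊕ Fin m) (Fin m ⊕ Fin m) F)) = X := fun X hX hX0 =>
    exists_move_sub hB _ X (LinearEquiv.ofFinrankEq _ _ (finrank_U0.trans hX.symm))
      fun u => by rw [hX0 _ (SetLike.coe_mem _), U0_singular hQ _ u.2]
  obtain ⟨a, ha⟩ := move U hU hU0
  obtain ⟨b, hb⟩ := move W hW hW0
  -- parity
  have hpar : dickson hB a = dickson hB b := by
    have h := dickson_eq hB hQ hm (a⁻¹ * b)
    rw [map_mul_eq, hb] at h
    have key := Submodule.map_inf (Matrix.mulVecLin (((a⁻¹ : Grp Q) : GL (Fin m ⊕ Fin m) F) :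
      Matrix (Fin m ⊕ Fin m) (Fin m ⊕ Fin m) F)) (fun _ _ e => ap_inj a⁻¹ e) (p := U) (q := W)
    rw [map_inv_eq ha] at key
    rw [← key, finrank_map_iso, he.neg_one_pow, map_mul,
      map_inv, Int.units_inv_eq_self] at h
    rw [← mul_one (dickson hB a), ← h, ← mul_assoc, Int.units_mul_self, one_mul]
  obtain ⟨lev, hlev⟩ := exists_lev hQ
  have hfix : ∀ A, (U0 F m).map (Matrix.mulVecLin ((lev A : GL (Fin m ⊕ Fin m) F) :
      Matrix (Fin m ⊕ Fin m) (Fin m ⊕ Fin m) F)) = U0 F m := fun A => by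
    refine Submodule.eq_of_le_of_finrank_le ?_ (by rw [finrank_map_iso])
    rintro _ ⟨v, hv, rfl⟩
    replace hv := (mem_U0 v).1 hv
    rw [mem_U0]
    intro i
    rw [Matrix.mulVecLin_apply, hlev, levMat_mulVec, Sum.elim_inr,
      show v ∘ Sum.inr = 0 from funext hv, Matrix.mulVec_zero]
    rfl
  obtain ⟨A, hA⟩ : ∃ A : GL (Fin m) F, (2 : F) ≠ 0 → spinor Q 1 (lev A) = spinor Q 1 a * spinor Q 1 b := by
    rcases Int.units_eq_one_or (spinor Q 1 a * spinor Q 1 b) with e | e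
    · exact ⟨1, fun _ => by rw [e, map_one, map_one]⟩
    · by_cases h2 : (2 : F) = 0
      · exact ⟨1, fun h => absurd h2 h⟩
      obtain ⟨α, hα⟩ := FiniteField.exists_nonsquare (F := F) (fun e' => h2 (by
        have := CharP.cast_eq_zero F (ringChar F)
        rwa [e', Nat.cast_ofNat] at this))
      let i0 : Fin m := ⟨0, by omega⟩
      have hdet : (Matrix.diagonal (Function.update (1 : Fin m → F) i0 α)).det = α := by
        simp [Matrix.det_diagonal, Finset.prod_update_of_mem (Finset.mem_univ i0)]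
      refine ⟨GeneralLinearGroup.mkOfDetNeZero (Matrix.diagonal (Function.update (1 : Fin m → F) i0 α))
        (by rw [hdet]; exact fun e' => hα (e' ▸ IsSquare.zero)), fun h => ?_⟩
      rw [(lev_class hB hQ hm lev hlev _).2 h, e]
      show sqc (Matrix.diagonal (Function.update (1 : Fin m → F) i0 α)).det = -1
      rw [hdet]
      exact (Int.units_eq_one_or _).resolve_left fun h' => hα (sqc_eq_one.1 h')
  refine ⟨b * lev A * a⁻¹, (mem_omega_iff hB hn hex _).2 ⟨?_, fun h2 => ?_⟩, ?_⟩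
  · rw [map_mul, map_mul, map_inv, (lev_class hB hQ hm lev hlev A).1, hpar, mul_one, mul_inv_cancel]
  · rw [map_mul, map_mul, map_inv, hA h2, Int.units_inv_eq_self]
    rcases Int.units_eq_one_or (spinor Q 1 a) with x | x <;>
      rcases Int.units_eq_one_or (spinor Q 1 b) with y | y <;> simp [x, y]
  · rw [map_mul_eq, map_inv_eq ha, map_mul_eq, hfix, hb]

end Plus

end CfsgLib.Orth
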