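import Cfsg.Agent.Lib.Classical.OrthSpinor
import Cfsg.Prelude.Def_ClassicalGeometry

set_option autoImplicit false

/-!
The special isometry group has exactly one subgroup of index two.
-/

namespace CfsgLib.Orth

open Matrix

variable {F : Type*} [Field F] {ι : Type} [Fintype ι] [DecidableEq ι]
variable {Q : QuadraticForm F (ι → F)}

local notation "B" => QuadraticMap.polar (DFunLike.coe Q)

/-- The determinant on the isometry group. -/
noncomputable def detHom (Q : QuadraticForm F (ι → F)) : Grp Q →* Fˣ :=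
  Matrix.GeneralLinearGroup.det.comp (Cfsg.isometryGroup F ⇑Q).subtype

theorem detHom_refl {v : ι → F} {g : Grp Q} (h : IsRefl v g) : detHom Q g = -1 := by
  refine Units.ext ?_
  show ((g : GL ι F) : Matrix ι ι F).det = -1
  have e : ((g : GL ι F) : Matrix ι ι F) = 1 + Matrix.replicateCol Unit (-(Q v)⁻¹ • v) *
      Matrix.replicateRow Unit (fun j => B v (Pi.single j 1)) := by
    ext i j
    have := congrFun (h.2 (Pi.single j 1)) i
    simp [ap, Matrix.mulVec_single, Pi.single_apply] at this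
    simp [this, Matrix.mul_apply, Matrix.one_apply]
    ring
  rw [e, Matrix.det_one_add_replicateCol_mul_replicateRow]
  have hs : (fun j => B v (Pi.single j 1)) ⬝ᵥ v = B v v := by
    have hl : ∀ x, (fun j => B v (Pi.single j 1)) ⬝ᵥ x = QuadraticMap.polarBilin Q v x := by
      intro x
      conv_rhs => rw [pi_eq_sum_univ' x]
      rw [map_sum]
      simp [dotProduct, map_smul, mul_comm]
    exact hl v
  rw [dotProduct_smul, hs, b_self, smul_eq_mul]
  have := h.1
  field_simp
  ring

theorem mem_special_iff_odd [Finite F] (hB : Nondeg Q) (h2 : (2 : F) ≠ 0)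
    (hex : Module.finrank F (ι → F) = 4 → Nat.card F ≠ 2) (g : Grp Q) :
    g ∈ Cfsg.specialIsometryGroup F ⇑Q ↔ dickson hB g = 1 := by
  have hne : (-1 : Fˣ) ≠ 1 := fun e => h2 (by
    have := congrArg Units.val e
    simp at this
    linear_combination -this)
  let f : ℤˣ →* Fˣ := Units.map (Int.castRingHom F).toMonoidHom
  have key : detHom Q = f.comp (dickson hB) := by
    refine MonoidHom.eq_of_eqOn_dense (refl_eq_top hB hex) fun r hr => ?_
    obtain ⟨v, hv⟩ := hr
    rw [MonoidHom.comp_apply, detHom_refl hv, dickson_refl hB hv]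
    exact Units.ext (by simp [f])
  show detHom Q g = 1 ↔ _
  rw [key, MonoidHom.comp_apply]
  rcases Int.units_eq_one_or (dickson hB g) with h | h
  · simp [h]
  · rw [h]
    refine iff_of_false (fun e => hne ?_) (by decide)
    exact Eq.trans (Units.ext (by simp [f]) : (-1 : Fˣ) = f (-1)) e

theorem special_eq_top [Finite F] (hB : Nondeg Q) (h2 : (2 : F) = 0)
    (hex : Module.finrank F (ι → F) = 4 → Nat.card F ≠ 2) :
    Cfsg.specialIsometryGroup F ⇑Q = ⊤ := by
  refine top_le_iff.1 ((refl_eq_top hB hex).ge.trans ((Subgroup.closure_le _).2 ?_))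
  rintro r ⟨v, hv⟩
  show detHom Q r = 1
  rw [detHom_refl hv]
  exact Units.ext (by simp; linear_combination -h2)

theorem omega_le_special : Cfsg.Omega F ⇑Q ≤ Cfsg.specialIsometryGroup F ⇑Q :=
  Abelianization.commutator_subset_ker (detHom Q)

theorem refl_mul_mem_special {v w : ι → F} {r s : Grp Q} (hr : IsRefl v r) (hs : IsRefl w s) :
    r * s ∈ Cfsg.specialIsometryGroup F ⇑Q := by
  show detHom Q (r * s) = 1
  rw [map_mul, detHom_refl hr, detHom_refl hs, neg_mul_neg, one_mul]

/-- Every subgroup of index two of the special group contains `Ω`. -/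
theorem omega_le_of_index_two [Finite F] (hB : Nondeg Q)
    (hex : Module.finrank F (ι → F) = 4 → Nat.card F ≠ 2)
    (H : Subgroup (Cfsg.specialIsometryGroup F ⇑Q)) (hH : H.index = 2) :
    (Cfsg.Omega F ⇑Q).subgroupOf (Cfsg.specialIsometryGroup F ⇑Q) ≤ H := by
  let S : Subgroup (Grp Q) := Cfsg.specialIsometryGroup F ⇑Q
  have hSn : S.Normal := MonoidHom.normal_ker (detHom Q)
  let P : Subgroup (Grp Q) := Subgroup.closure {x | ∃ g ∈ S, x = g * g}
  have hPn : P.Normal := by
    refine ⟨fun x hx c => ?_⟩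
    induction hx using Subgroup.closure_induction with
    | mem x hx =>
      obtain ⟨g, hg, rfl⟩ := hx
      exact Subgroup.subset_closure ⟨c * g * c⁻¹, hSn.conj_mem g hg c, by group⟩
    | one => simp
    | mul a b _ _ ha hb =>
      rw [show c * (a * b) * c⁻¹ = c * a * c⁻¹ * (c * b * c⁻¹) by group]
      exact P.mul_mem ha hb
    | inv a _ ha =>
      rw [show c * a⁻¹ * c⁻¹ = (c * a * c⁻¹)⁻¹ by group]
      exact P.inv_mem ha
  have hcomm : Cfsg.Omega F ⇑Q ≤ P := by
    have hgen : ∀ {r s : Grp Q}, r ∈ {g | ∃ v : ι → F, IsRefl v g} → s ∈ {g | ∃ v : ι → F, IsRefl v g} →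
        Commute (r : Grp Q ⧸ P) (s : Grp Q ⧸ P) := by
      rintro r s ⟨v, hr⟩ ⟨w, hs⟩
      rw [commute_iff_eq, ← QuotientGroup.mk_mul, ← QuotientGroup.mk_mul, QuotientGroup.eq,
        _root_.mul_inv_rev, refl_inv hr, refl_inv hs]
      exact Subgroup.subset_closure ⟨s * r, refl_mul_mem_special hs hr, rfl⟩
    have hall : ∀ a b : Grp Q, Commute (a : Grp Q ⧸ P) (b : Grp Q ⧸ P) := by
      have hle : (⊤ : Subgroup (Grp Q)) ≤ (Subgroup.centralizer
          ((QuotientGroup.mk' P) '' {g | ∃ v : ι → F, IsRefl v g})).comap (QuotientGroup.mk' P) := by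
        refine (refl_eq_top hB hex).ge.trans ((Subgroup.closure_le _).2 fun r hr => ?_)
        rintro _ ⟨s, hs, rfl⟩
        exact (hgen hs hr).eq
      intro a b
      have hle2 : (⊤ : Subgroup (Grp Q)) ≤
          (Subgroup.centralizer {((a : Grp Q ⧸ P))}).comap (QuotientGroup.mk' P) := by
        refine (refl_eq_top hB hex).ge.trans ((Subgroup.closure_le _).2 fun r hr => ?_)
        rintro _ rfl
        exact (hle (Subgroup.mem_top a) _ ⟨r, hr, rfl⟩).symm
      exact hle2 (Subgroup.mem_top b) _ rfl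
    show commutator (Grp Q) ≤ P
    rw [_root_.commutator_def, Subgroup.commutator_le]
    intro a _ b _
    rw [← QuotientGroup.eq_one_iff, ← QuotientGroup.mk'_apply, map_commutatorElement,
      commutatorElement_eq_one_iff_commute]
    exact hall a b
  intro x hx
  have hPH : P ≤ H.map S.subtype := by
    refine (Subgroup.closure_le _).2 ?_
    rintro _ ⟨g, hg, rfl⟩
    exact ⟨⟨g, hg⟩ * ⟨g, hg⟩, Subgroup.mul_self_mem_of_index_two hH (⟨g, hg⟩ : S), rfl⟩
  obtain ⟨y, hy, hyx⟩ := hPH (hcomm hx)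
  have e : y = x := S.subtype_injective hyx
  rw [← e]
  exact hy

theorem index_omega_special [Finite F] (hB : Nondeg Q) (hn : 2 ≤ Module.finrank F (ι → F))
    (hex : Module.finrank F (ι → F) = 4 → Nat.card F ≠ 2) :
    ((Cfsg.Omega F ⇑Q).subgroupOf (Cfsg.specialIsometryGroup F ⇑Q)).index = 2 := by
  set S : Subgroup (Grp Q) := Cfsg.specialIsometryGroup F ⇑Q
  by_cases h2 : (2 : F) = 0
  · have hS : S = ⊤ := special_eq_top hB h2 hex
    obtain ⟨v, hv⟩ := exists_aniso hB (by omega)
    obtain ⟨r, hr⟩ := exists_refl hB hv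
    rw [Subgroup.index_eq_two_iff]
    refine ⟨⟨r, hS ▸ Subgroup.mem_top r⟩, fun b => ?_⟩
    simp only [Subgroup.mem_subgroupOf, Subgroup.coe_mul,
      omega_eq_ker_dickson hB h2 (by omega) hex, MonoidHom.mem_ker, map_mul, dickson_refl hB hr]
    rcases Int.units_eq_one_or (dickson hB b) with h | h <;> simp [h, xor_def]
  · obtain ⟨hΩ, hsurj, -⟩ := omega_eq_ker_psi hB h2 hn (a := 1) one_ne_zero
    obtain ⟨r, hr⟩ : ((1 : ℤˣ), (-1 : ℤˣ)) ∈ (psi hB (1 : F)).range := hsurj ▸ Subgroup.mem_top _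
    have hr1 : dickson hB r = 1 := congrArg Prod.fst hr
    have hr2 : spinor Q (1 : F) r = -1 := congrArg Prod.snd hr
    rw [Subgroup.index_eq_two_iff]
    refine ⟨⟨r, (mem_special_iff_odd hB h2 hex r).2 hr1⟩, fun b => ?_⟩
    have hb := (mem_special_iff_odd hB h2 hex b).1 b.2
    simp only [Subgroup.mem_subgroupOf, Subgroup.coe_mul, hΩ, MonoidHom.mem_ker, psi,
      MonoidHom.prod_apply, map_mul, Prod.ext_iff, Prod.fst_one, Prod.snd_one, Prod.fst_mul,
      Prod.snd_mul, hr1, hr2, hb]
    rcases Int.units_eq_one_or (spinor Q (1 : F) b) with h | h <;> simp [h, xor_def]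

theorem exists_unique_index_two [Finite F] (hB : Nondeg Q) (hn : 2 ≤ Module.finrank F (ι → F))
    (hex : Module.finrank F (ι → F) = 4 → Nat.card F ≠ 2) :
    ∃! H : Subgroup (Cfsg.specialIsometryGroup F ⇑Q), H.index = 2 := by
  refine ⟨_, index_omega_special hB hn hex, fun H hH => ?_⟩
  have hle := omega_le_of_index_two hB hex H hH
  refine (eq_of_le_of_not_lt hle fun hlt => ?_).symm
  have := Subgroup.index_strictAnti hlt
  rw [index_omega_special hB hn hex, hH] at this
  omega

end CfsgLib.Orth
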