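import Cfsg.Agent.Lib.Classical.OrthBasic

set_option autoImplicit false

/-!
Witt bases of nondegenerate quadratic spaces over finite fields (any characteristic).
-/

namespace CfsgLib.Classical.WittBasis

open Module QuadraticMap

variable {F V : Type*} [Field F] [AddCommGroup V] [Module F V] [FiniteDimensional F V]
variable (Q : QuadraticForm F V)

local notation "B" => QuadraticMap.polar (DFunLike.coe Q)

/-- A family of mutually orthogonal hyperbolic pairs. -/
structure IsHyp {r : ℕ} (e f : Fin r → V) : Prop where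
  qe : ∀ i, Q (e i) = 0
  qf : ∀ i, Q (f i) = 0
  ef : ∀ i j, B (e i) (f j) = if i = j then 1 else 0
  ee : ∀ i j, B (e i) (e j) = 0
  ff : ∀ i j, B (f i) (f j) = 0

/-- The vectors orthogonal to all the pairs. -/
def perp {r : ℕ} (e f : Fin r → V) : Submodule F V :=
  (⨅ i, LinearMap.ker (polarBilin Q (e i))) ⊓ ⨅ i, LinearMap.ker (polarBilin Q (f i))

omit [FiniteDimensional F V] in
theorem mem_perp {r : ℕ} (e f : Fin r → V) (x : V) :
    x ∈ perp Q e f ↔ (∀ i, B (e i) x = 0) ∧ ∀ i, B (f i) x = 0 := by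
  simp [perp]

theorem finrank_perp {r : ℕ} (e f : Fin r → V) : finrank F V ≤ finrank F (perp Q e f) + 2 * r := by
  let T : V →ₗ[F] (Fin r ⊕ Fin r → F) :=
    LinearMap.pi (Sum.elim (fun i => polarBilin Q (e i)) fun i => polarBilin Q (f i))
  have hT : LinearMap.ker T = perp Q e f := by
    ext x
    simp [T, mem_perp, LinearMap.mem_ker, funext_iff]
  have h := LinearMap.finrank_range_add_finrank_ker T
  have h2 := Submodule.finrank_le (LinearMap.range T)
  rw [finrank_fintype_fun_eq_card, Fintype.card_sum, Fintype.card_fin] at h2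
  rw [hT] at h
  omega

omit [FiniteDimensional F V] in
/-- A nonzero vector of the complement has a partner there. -/
theorem exists_partner {r : ℕ} {e f : Fin r → V} (h : IsHyp Q e f) (hQ : (polarBilin Q).Nondegenerate)
    {u : V} (hu : u ∈ perp Q e f) (hu0 : u ≠ 0) : ∃ z ∈ perp Q e f, B u z = 1 := by
  obtain ⟨z, hz⟩ : ∃ z, B u z ≠ 0 := by
    by_contra hc
    push Not at hc
    exact hu0 (hQ.1 u fun y => hc y)
  obtain ⟨hue, huf⟩ := (mem_perp Q e f u).1 hu
  refine ⟨(B u z)⁻¹ • (z - ∑ i, B (f i) z • e i - ∑ i, B (e i) z • f i), ?_, ?_⟩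
  · refine (perp Q e f).smul_mem _ ((mem_perp Q e f _).2 ⟨fun j => ?_, fun j => ?_⟩)
    · rw [← polarBilin_apply_apply, map_sub, map_sub, map_sum, map_sum]
      simp [h.ee, h.ef]
    · rw [← polarBilin_apply_apply, map_sub, map_sub, map_sum, map_sum]
      simp [h.ff, polar_comm (⇑Q) (f j) (e _), h.ef]
  · rw [polar_smul_right, ← polarBilin_apply_apply Q u (z - _ - _), map_sub, map_sub, map_sum, map_sum]
    simp [polar_comm (⇑Q) u (e _), hue, polar_comm (⇑Q) u (f _), huf, hz]

omit [FiniteDimensional F V] in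
/-- A singular vector of the complement gives one more pair. -/
theorem extend {r : ℕ} {e f : Fin r → V} (h : IsHyp Q e f) (hQ : (polarBilin Q).Nondegenerate)
    {u : V} (hu : u ∈ perp Q e f) (hu0 : u ≠ 0) (hqu : Q u = 0) :
    ∃ e' f' : Fin (r + 1) → V, IsHyp Q e' f' := by
  obtain ⟨z, hz, huz⟩ := exists_partner Q h hQ hu hu0
  let w := z - Q z • u
  have hw : w ∈ perp Q e f := sub_mem hz ((perp Q e f).smul_mem _ hu)
  have huu : B u u = 0 := by rw [polar_self, hqu]; simp
  have huw : B u w = 1 := by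
    show B u (z - Q z • u) = 1
    rw [polar_sub_right, polar_smul_right, huu, huz, smul_zero, sub_zero]
  have hqw : Q w = 0 := by
    show Q (z - Q z • u) = 0
    rw [sub_eq_add_neg, ← neg_smul, QuadraticMap.map_add (⇑Q), QuadraticMap.map_smul, hqu,
      polar_smul_right, polar_comm _ z u, huz]
    simp
  obtain ⟨hue, huf⟩ := (mem_perp Q e f u).1 hu
  obtain ⟨hwe, hwf⟩ := (mem_perp Q e f w).1 hw
  refine ⟨Fin.cons u e, Fin.cons w f, ⟨?_, ?_, ?_, ?_, ?_⟩⟩
  · exact fun i => by rcases Fin.eq_zero_or_eq_succ i with rfl | ⟨i, rfl⟩ <;> simp [hqu, h.qe]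
  · exact fun i => by rcases Fin.eq_zero_or_eq_succ i with rfl | ⟨i, rfl⟩ <;> simp [hqw, h.qf]
  · intro i j
    rcases Fin.eq_zero_or_eq_succ i with rfl | ⟨i, rfl⟩ <;>
      rcases Fin.eq_zero_or_eq_succ j with rfl | ⟨j, rfl⟩ <;>
      simp [huw, polar_comm (⇑Q) u (f _), huf, hwe, h.ef, (Fin.succ_ne_zero _).symm]
  · intro i j
    rcases Fin.eq_zero_or_eq_succ i with rfl | ⟨i, rfl⟩ <;>
      rcases Fin.eq_zero_or_eq_succ j with rfl | ⟨j, rfl⟩ <;>
      simp [huu, polar_comm (⇑Q) u (e _), hue, h.ee, hqu]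
  · intro i j
    rcases Fin.eq_zero_or_eq_succ i with rfl | ⟨i, rfl⟩ <;>
      rcases Fin.eq_zero_or_eq_succ j with rfl | ⟨j, rfl⟩ <;>
      simp [hqw, polar_comm (⇑Q) w (f _), hwf, h.ff]

/-- Subspaces of dimension at least three contain singular vectors. -/
theorem exists_singular [Finite F] {U : Submodule F V} (hU : 3 ≤ finrank F U) :
    ∃ v ∈ U, v ≠ 0 ∧ Q v = 0 := by
  let g := (finBasis F V).equivFun
  obtain ⟨v, hv, hv0, hqv⟩ := CfsgLib.Orth.exists_singular
    (Q := Q.comp g.symm.toLinearMap) (U := U.map g.toLinearMap)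
    (by rw [LinearEquiv.finrank_map_eq g U]; exact hU)
  obtain ⟨x, hx, rfl⟩ := hv
  refine ⟨x, hx, fun e => hv0 (by rw [e, map_zero]), ?_⟩
  simpa using hqv

/-- Hyperbolic families exist up to codimension one. -/
theorem exists_hyp [Finite F] (hQ : (polarBilin Q).Nondegenerate) :
    ∀ r : ℕ, 2 * r + 1 ≤ finrank F V → ∃ e f : Fin r → V, IsHyp Q e f := by
  intro r
  induction r with
  | zero => exact fun _ => ⟨0, 0, ⟨fun i => i.elim0, fun i => i.elim0, fun i => i.elim0,
      fun i => i.elim0, fun i => i.elim0⟩⟩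
  | succ r ih =>
    intro hr
    obtain ⟨e, f, h⟩ := ih (by omega)
    obtain ⟨u, hu, hu0, hqu⟩ := exists_singular Q (U := perp Q e f) (by
      have := finrank_perp Q e f; omega)
    exact extend Q h hQ hu hu0 hqu

omit [FiniteDimensional F V] in
/-- A family in the complement stays independent next to the pairs. -/
theorem indep {r : ℕ} {e f : Fin r → V} (h : IsHyp Q e f) {κ : Type*} [Fintype κ] {g : κ → V}
    (hg : ∀ k, g k ∈ perp Q e f) (hi : LinearIndependent F g) :
    LinearIndependent F (Sum.elim (Sum.elim e f) g) := by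
  rw [Fintype.linearIndependent_iff] at hi ⊢
  intro c hc
  simp only [Fintype.sum_sum_type, Sum.elim_inl, Sum.elim_inr] at hc
  have h1 : ∀ j, c (.inl (.inr j)) = 0 := fun j => by
    have := congrArg (polarBilin Q (e j)) hc
    rw [map_add, map_add, map_sum, map_sum, map_sum, map_zero] at this
    simpa [map_sum, h.ee, h.ef, ((mem_perp Q e f _).1 (hg _)).1] using this
  have h2 : ∀ j, c (.inl (.inl j)) = 0 := fun j => by
    have := congrArg (polarBilin Q (f j)) hc
    rw [map_add, map_add, map_sum, map_sum, map_sum, map_zero] at this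
    simpa [map_sum, h.ff, polar_comm (⇑Q) (f j) (e _), h.ef, ((mem_perp Q e f _).1 (hg _)).2] using this
  simp only [h1, h2, zero_smul, Finset.sum_const_zero, zero_add] at hc
  rintro ((j | j) | k)
  · exact h2 j
  · exact h1 j
  · exact hi _ hc k

/-- Odd dimension. -/
theorem odd_basis [Finite F] (hQ : (polarBilin Q).Nondegenerate) {m : ℕ}
    (hV : finrank F V = 2 * m + 1) :
    ∃ (e f : Fin m → V) (a : V), IsHyp Q e f ∧ a ∈ perp Q e f ∧ Q a ≠ 0 ∧
      ∃ b : Basis ((Fin m ⊕ Fin m) ⊕ Unit) F V, ⇑b = Sum.elim (Sum.elim e f) (fun _ => a) := by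
  obtain ⟨e, f, h⟩ := exists_hyp Q hQ m (by omega)
  obtain ⟨a, ha, ha0⟩ : ∃ a ∈ perp Q e f, a ≠ 0 := (perp Q e f).exists_mem_ne_zero_of_ne_bot
    fun hb => by have := finrank_perp Q e f; rw [hb, finrank_bot] at this; omega
  have hi := indep Q h (g := fun _ : Unit => a) (fun _ => ha) (LinearIndependent.of_subsingleton () ha0)
  have hc : Fintype.card ((Fin m ⊕ Fin m) ⊕ Unit) = finrank F V := by
    simp [hV, two_mul]
  refine ⟨e, f, a, h, ha, fun hqa => ha0 ?_, basisOfLinearIndependentOfCardEqFinrank hi hc,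
    coe_basisOfLinearIndependentOfCardEqFinrank _ _⟩
  obtain ⟨hae, haf⟩ := (mem_perp Q e f a).1 ha
  have hz : polarBilin Q a = 0 := by
    refine (basisOfLinearIndependentOfCardEqFinrank hi hc).ext fun i => ?_
    rw [coe_basisOfLinearIndependentOfCardEqFinrank]
    rcases i with (i | i) | i <;>
      simp [polar_comm (⇑Q) a (e _), hae, polar_comm (⇑Q) a (f _), haf, hqa]
  exact hQ.1 a fun y => by rw [hz]; rfl

/-- Even dimension: hyperbolic or with an anisotropic plane. -/
theorem even_basis [Finite F] (hQ : (polarBilin Q).Nondegenerate) {k : ℕ}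
    (hV : finrank F V = 2 * (k + 1)) :
    (∃ e f : Fin (k + 1) → V, IsHyp Q e f ∧
      ∃ b : Basis (Fin (k + 1) ⊕ Fin (k + 1)) F V, ⇑b = Sum.elim e f) ∨
    ∃ (e f : Fin k → V) (a c : V), IsHyp Q e f ∧ a ∈ perp Q e f ∧ c ∈ perp Q e f ∧
      Q a = 1 ∧ B a c = 1 ∧ (∀ t : F, t ^ 2 + t + Q c ≠ 0) ∧
      ∃ b : Basis ((Fin k ⊕ Fin k) ⊕ Fin 2) F V, ⇑b = Sum.elim (Sum.elim e f) ![a, c] := by
  classical
  obtain ⟨e, f, h⟩ := exists_hyp Q hQ k (by omega)
  have hU : 2 ≤ finrank F (perp Q e f) := by have := finrank_perp Q e f; omega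
  by_cases hs : ∃ u ∈ perp Q e f, u ≠ 0 ∧ Q u = 0
  · obtain ⟨u, hu, hu0, hqu⟩ := hs
    obtain ⟨e', f', h'⟩ := extend Q h hQ hu hu0 hqu
    have hi := (indep Q h' (g := (Empty.elim : Empty → V)) (fun k => k.elim)
      linearIndependent_empty_type).comp Sum.inl Sum.inl_injective
    simp only [Sum.elim_comp_inl] at hi
    have hc : Fintype.card (Fin (k + 1) ⊕ Fin (k + 1)) = finrank F V := by
      simp [hV, two_mul]
    exact Or.inl ⟨e', f', h', basisOfLinearIndependentOfCardEqFinrank hi hc,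
      coe_basisOfLinearIndependentOfCardEqFinrank _ _⟩
  push Not at hs
  refine Or.inr ?_
  cases nonempty_fintype F
  obtain ⟨a, ha, hqa⟩ : ∃ a ∈ perp Q e f, Q a = 1 := by
    obtain ⟨x, hx, hx0⟩ : ∃ x ∈ perp Q e f, x ≠ 0 := (perp Q e f).exists_mem_ne_zero_of_ne_bot
      fun hb => by rw [hb, finrank_bot] at hU; omega
    have hqx := hs x hx hx0
    by_cases h2 : ringChar F = 2
    · obtain ⟨y, hy⟩ := FiniteField.isSquare_of_char_two h2 (Q x)⁻¹
      refine ⟨y • x, (perp Q e f).smul_mem _ hx, ?_⟩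
      rw [QuadraticMap.map_smul, ← hy, smul_eq_mul, inv_mul_cancel₀ hqx]
    · have h2' : (2 : F) ≠ 0 := Ring.two_ne_zero h2
      obtain ⟨y, hy, hy0⟩ : ∃ y ∈ perp Q e f ⊓ LinearMap.ker (polarBilin Q x), y ≠ 0 := by
        refine Submodule.exists_mem_ne_zero_of_ne_bot fun hb => ?_
        have h1 := LinearMap.finrank_range_add_finrank_ker ((polarBilin Q x).comp (perp Q e f).subtype)
        have h3 := Submodule.finrank_le (LinearMap.range ((polarBilin Q x).comp (perp Q e f).subtype))
        rw [finrank_self] at h3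
        rw [LinearMap.ker_comp, ← Submodule.finrank_map_subtype_eq, Submodule.map_comap_subtype,
          hb, finrank_bot] at h1
        omega
      have hqy := hs y hy.1 hy0
      have hxy : B x y = 0 := hy.2
      obtain ⟨s, t, hst⟩ := FiniteField.exists_root_sum_quadratic
        (f := Polynomial.C (Q x) * Polynomial.X ^ 2 + Polynomial.C (-1))
        (g := Polynomial.C (Q y) * Polynomial.X ^ 2)
        (by compute_degree!) (by compute_degree!)
        (by have := FiniteField.odd_card_of_char_ne_two h2; omega)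
      simp only [Polynomial.eval_add, Polynomial.eval_mul, Polynomial.eval_C, Polynomial.eval_pow,
        Polynomial.eval_X] at hst
      refine ⟨s • x + t • y, add_mem (Submodule.smul_mem _ _ hx) (Submodule.smul_mem _ _ hy.1), ?_⟩
      rw [QuadraticMap.map_add (⇑Q), QuadraticMap.map_smul, QuadraticMap.map_smul, polar_smul_left,
        polar_smul_right, hxy]
      simp only [smul_eq_mul, mul_zero, add_zero]
      linear_combination hst
  have ha0 : a ≠ 0 := fun h0 => by rw [h0, QuadraticMap.map_zero] at hqa; exact zero_ne_one hqa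
  obtain ⟨z, hz, haz⟩ := exists_partner Q h hQ ha ha0
  obtain ⟨y, hy, hya⟩ : ∃ y ∈ perp Q e f, y ∉ F ∙ a := SetLike.not_le_iff_exists.1 fun hle => by
    have := Submodule.finrank_mono hle
    rw [finrank_span_singleton ha0] at this
    omega
  obtain ⟨c, hc, hca, hac⟩ : ∃ c ∈ perp Q e f, c ∉ F ∙ a ∧ B a c = 1 := by
    by_cases hza : z ∈ F ∙ a
    · by_cases hay : B a y = 0
      · exact ⟨z + y, add_mem hz hy, fun hm => hya ((Submodule.add_mem_iff_right _ hza).1 hm),
          by rw [polar_add_right, haz, hay, add_zero]⟩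
      · refine ⟨(B a y)⁻¹ • y, Submodule.smul_mem _ _ hy, fun hm => hya ?_,
          by rw [polar_smul_right, smul_eq_mul, inv_mul_cancel₀ hay]⟩
        exact (Submodule.smul_mem_iff _ (inv_ne_zero hay)).1 hm
    · exact ⟨z, hz, hza, haz⟩
  have hi2 : LinearIndependent F ![a, c] := by
    rw [LinearIndependent.pair_iff]
    intro s t hst
    have ht : t = 0 := by
      by_contra ht
      refine hca ((Submodule.smul_mem_iff _ ht).1 ?_)
      rw [eq_neg_of_add_eq_zero_right hst]
      exact neg_mem (Submodule.smul_mem _ _ (Submodule.mem_span_singleton_self a))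
    subst ht
    simp only [zero_smul, add_zero, smul_eq_zero] at hst
    exact ⟨hst.resolve_right ha0, rfl⟩
  have hi := indep Q h (g := ![a, c]) (fun i => by fin_cases i <;> assumption) hi2
  have hcd : Fintype.card ((Fin k ⊕ Fin k) ⊕ Fin 2) = finrank F V := by
    simp [hV]; omega
  refine ⟨e, f, a, c, h, ha, hc, hqa, hac, fun t ht => ?_,
    basisOfLinearIndependentOfCardEqFinrank hi hcd, coe_basisOfLinearIndependentOfCardEqFinrank _ _⟩
  refine hs (t • a + c) (add_mem (Submodule.smul_mem _ _ ha) hc) (fun h0 => hca ?_) ?_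
  · rw [eq_neg_of_add_eq_zero_right h0]
    exact neg_mem (Submodule.smul_mem _ _ (Submodule.mem_span_singleton_self a))
  · rw [QuadraticMap.map_add (⇑Q), QuadraticMap.map_smul, polar_smul_left, hac, hqa]
    simp only [smul_eq_mul]
    linear_combination ht

omit [FiniteDimensional F V] in
theorem q_sum {κ : Type*} (s : Finset κ) (g : κ → V) (c : κ → F) (h0 : ∀ i, Q (g i) = 0)
    (h1 : ∀ i j, B (g i) (g j) = 0) : Q (∑ i ∈ s, c i • g i) = 0 := by
  classical
  induction s using Finset.induction with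
  | empty => simp
  | insert j t hj ih =>
    rw [Finset.sum_insert hj, QuadraticMap.map_add (⇑Q), QuadraticMap.map_smul, h0, ih,
      polar_smul_left, ← polarBilin_apply_apply Q, map_sum]
    simp [h1]

omit [FiniteDimensional F V] in
/-- The value of `Q` on a combination of pairs plus a vector of the complement. -/
theorem q_hyp {r : ℕ} {e f : Fin r → V} (h : IsHyp Q e f) (x y : Fin r → F) {z : V}
    (hz : z ∈ perp Q e f) : Q (∑ i, x i • e i + ∑ i, y i • f i + z) = ∑ i, x i * y i + Q z := by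
  obtain ⟨hze, hzf⟩ := (mem_perp Q e f z).1 hz
  rw [QuadraticMap.map_add (⇑Q), QuadraticMap.map_add (⇑Q), q_sum Q _ e x h.qe h.ee,
    q_sum Q _ f y h.qf h.ff, ← polarBilin_apply_apply Q (∑ i, x i • e i + ∑ i, y i • f i) z,
    ← polarBilin_apply_apply Q (∑ i, x i • e i) (∑ i, y i • f i)]
  simp [map_sum, LinearMap.sum_apply, hze, hzf, h.ef, mul_comm]

end CfsgLib.Classical.WittBasis
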