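import Cfsg.Agent.Lib.Classical.OrthDisc
import Cfsg.Agent.Lib.Classical.OrthIndexTwo
import Cfsg.Agent.Lib.Classical.WittBasis
import Cfsg.Agent.Lib.Classical.WittExtension

set_option autoImplicit false

/-!
Membership tests for `Ω`: the Dickson invariant and the spinor norm of some standard isometries.
-/

namespace CfsgLib.Orth

open Matrix CfsgLib.Classical.WittBasis

variable {F : Type*} [Field F] [Finite F] {ι : Type} [Fintype ι] [DecidableEq ι]
variable {Q : QuadraticForm F (ι → F)}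

local notation "B" => QuadraticMap.polar (DFunLike.coe Q)

theorem mem_omega_iff (hB : Nondeg Q) (hn : 2 ≤ Module.finrank F (ι → F))
    (hex : Module.finrank F (ι → F) = 4 → Nat.card F ≠ 2) (g : Grp Q) :
    g ∈ Cfsg.Omega F ⇑Q ↔ dickson hB g = 1 ∧ ((2 : F) ≠ 0 → spinor Q 1 g = 1) := by
  by_cases h2 : (2 : F) = 0
  · rw [omega_eq_ker_dickson hB h2 (by omega) hex, MonoidHom.mem_ker]
    exact ⟨fun h => ⟨h, fun h' => absurd h2 h'⟩, fun h => h.1⟩
  · rw [(omega_eq_ker_psi hB h2 hn (one_ne_zero (α := F))).1, MonoidHom.mem_ker, psi,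
      MonoidHom.prod_apply, Prod.ext_iff]
    exact ⟨fun h => ⟨h.1, fun _ => h.2⟩, fun h => ⟨h.1, h.2 h2⟩⟩

/-- The spinor sign of a reflection is its square class, up to a global sign. -/
theorem exists_eps (hB : Nondeg Q) (h2 : (2 : F) ≠ 0) (hn : 2 ≤ Module.finrank F (ι → F)) :
    ∃ ε : ℤˣ, ∀ (v : ι → F) (r : Grp Q), IsRefl v r → spinor Q 1 r = ε * sqc (Q v) := by
  obtain ⟨-, -, h3⟩ := omega_eq_ker_psi hB h2 hn (one_ne_zero (α := F))
  obtain ⟨v₀, hv₀⟩ := exists_aniso hB (by omega)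
  obtain ⟨r₀, hr₀⟩ := exists_refl hB hv₀
  refine ⟨spinor Q 1 r₀ * sqc (Q v₀), fun v r hr => ?_⟩
  have h := h3 v v₀ r r₀ hr hr₀
  rw [← sqc_eq_one, sqc_mul hr.1 hv₀] at h
  rcases Int.units_eq_one_or (spinor Q 1 r) with a | a <;>
    rcases Int.units_eq_one_or (spinor Q 1 r₀) with b | b <;>
    rcases Int.units_eq_one_or (sqc (Q v)) with c | c <;>
    rcases Int.units_eq_one_or (sqc (Q v₀)) with d | d <;> simp [a, b, c, d] at h ⊢

omit [Finite F] in
theorem sqc_one : sqc (1 : F) = 1 := sqc_eq_one.2 IsSquare.one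

/-- The class of a product of two reflections. -/
theorem class_pair (hB : Nondeg Q) (hn : 2 ≤ Module.finrank F (ι → F)) {v w : ι → F} {r s : Grp Q}
    (hr : IsRefl v r) (hs : IsRefl w s) :
    dickson hB (r * s) = 1 ∧ ((2 : F) ≠ 0 → spinor Q 1 (r * s) = sqc (Q v * Q w)) := by
  refine ⟨by rw [map_mul, dickson_refl hB hr, dickson_refl hB hs]; rfl, fun h2 => ?_⟩
  obtain ⟨ε, hε⟩ := exists_eps hB h2 hn
  rw [map_mul, hε v r hr, hε w s hs, sqc_mul hr.1 hs.1, mul_mul_mul_comm, Int.units_mul_self, one_mul]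

/-- An isometry scaling one hyperbolic pair. -/
theorem exists_scale_one (hB : Nondeg Q) (hn : 2 ≤ Module.finrank F (ι → F)) {e f : ι → F}
    (he : Q e = 0) (hf : Q f = 0) (hef : B e f = 1) {c : F} (hc : c ≠ 0) :
    ∃ g : Grp Q, ap g e = c • e ∧ ap g f = c⁻¹ • f ∧
      (∀ x, B e x = 0 → B f x = 0 → ap g x = x) ∧
      dickson hB g = 1 ∧ ((2 : F) ≠ 0 → spinor Q 1 g = sqc c) := by
  have hv : ∀ t : F, Q (e - t • f) = -t := fun t => by
    rw [q_sub, q_smul, he, hf, b_smul_right, hef]; ring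
  obtain ⟨r, hr⟩ := exists_refl hB (v := e - c⁻¹ • f) (by rw [hv]; exact neg_ne_zero.2 (inv_ne_zero hc))
  obtain ⟨s, hs⟩ := exists_refl hB (v := e - (1 : F) • f) (by rw [hv]; exact neg_ne_zero.2 one_ne_zero)
  have hfe : B f e = 1 := by rw [b_comm]; exact hef
  have hBe : ∀ t : F, B (e - t • f) e = -t := fun t => by
    rw [b_sub_left, b_smul_left, b_self_zero he, hfe]; ring
  have hBf : ∀ t : F, B (e - t • f) f = 1 := fun t => by
    rw [b_sub_left, b_smul_left, hef, b_self_zero hf]; ring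
  have hse : ap s e = f := by
    rw [hs.2, hv, hBe, inv_neg_one]; module
  have hsf : ap s f = e := by
    rw [hs.2, hv, hBf, inv_neg_one]; module
  have hre : ap r e = c⁻¹ • f := by
    rw [hr.2, hv, hBe, inv_mul_cancel₀ (neg_ne_zero.2 (inv_ne_zero hc))]; module
  have hrf : ap r f = c • e := by
    rw [hr.2, hv, hBf, inv_neg, inv_inv, smul_sub, smul_smul]
    match_scalars <;> field_simp <;> ring
  refine ⟨r * s, by rw [ap_mul, hse, hrf], by rw [ap_mul, hsf, hre], fun x h1 h2 => ?_,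
    (class_pair hB hn hr hs).1, fun h2 => ?_⟩
  · have : ∀ t : F, B (e - t • f) x = 0 := fun t => by rw [b_sub_left, b_smul_left, h1, h2]; ring
    rw [ap_mul, hs.2, this, mul_zero, zero_smul, sub_zero, hr.2, this, mul_zero, zero_smul, sub_zero]
  · rw [(class_pair hB hn hr hs).2 h2, hv, hv]
    have : (-c⁻¹) * (-(1 : F)) = c * (c⁻¹ * c⁻¹) := by field_simp
    rw [this, sqc_mul hc (mul_ne_zero (inv_ne_zero hc) (inv_ne_zero hc)),
      sqc_eq_one.2 ⟨c⁻¹, rfl⟩, mul_one]

/-- An isometry scaling several hyperbolic pairs. -/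
theorem exists_scale (hB : Nondeg Q) (hn : 2 ≤ Module.finrank F (ι → F)) {r : ℕ} {e f : Fin r → ι → F}
    (h : IsHyp Q e f) (c : Fin r → F) (hc : ∀ j, c j ≠ 0) :
    ∃ g : Grp Q, (∀ j, ap g (e j) = c j • e j) ∧ (∀ j, ap g (f j) = (c j)⁻¹ • f j) ∧
      (∀ x, (∀ j, B (e j) x = 0) → (∀ j, B (f j) x = 0) → ap g x = x) ∧
      dickson hB g = 1 ∧ ((2 : F) ≠ 0 → spinor Q 1 g = sqc (∏ j, c j)) := by
  classical
  suffices H : ∀ S : Finset (Fin r), ∃ g : Grp Q,
      (∀ j, ap g (e j) = if j ∈ S then c j • e j else e j) ∧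
      (∀ j, ap g (f j) = if j ∈ S then (c j)⁻¹ • f j else f j) ∧
      (∀ x, (∀ j, B (e j) x = 0) → (∀ j, B (f j) x = 0) → ap g x = x) ∧
      dickson hB g = 1 ∧ ((2 : F) ≠ 0 → spinor Q 1 g = sqc (∏ j ∈ S, c j)) by
    obtain ⟨g, h1, h2, h3, h4, h5⟩ := H Finset.univ
    exact ⟨g, fun j => by simpa using h1 j, fun j => by simpa using h2 j, h3, h4, h5⟩
  intro S
  induction S using Finset.induction_on with
  | empty =>
    exact ⟨1, fun j => by simp, fun j => by simp, fun x _ _ => ap_one x, map_one _,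
      fun _ => by rw [Finset.prod_empty, map_one, sqc_one]⟩
  | insert i T hi ih =>
    obtain ⟨g, g1, g2, g3, g4, g5⟩ := ih
    obtain ⟨k, k1, k2, k3, k4, k5⟩ := exists_scale_one hB hn (h.qe i) (h.qf i)
      (by rw [h.ef, if_pos rfl]) (hc i)
    have ke : ∀ j, j ≠ i → ap k (e j) = e j := fun j hj => k3 _ (h.ee i j)
      (by rw [b_comm, h.ef, if_neg hj])
    have kf : ∀ j, j ≠ i → ap k (f j) = f j := fun j hj => k3 _
      (by rw [h.ef, if_neg hj.symm]) (h.ff i j)
    refine ⟨k * g, fun j => ?_, fun j => ?_, fun x h1 h2 => ?_, by rw [map_mul, k4, g4, one_mul],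
      fun h2 => ?_⟩
    · rw [ap_mul, g1]
      rcases eq_or_ne j i with rfl | hj
      · rw [if_neg hi, if_pos (Finset.mem_insert_self j T), k1]
      · simp only [Finset.mem_insert, hj, false_or]
        split_ifs
        · rw [ap_smul, ke j hj]
        · exact ke j hj
    · rw [ap_mul, g2]
      rcases eq_or_ne j i with rfl | hj
      · rw [if_neg hi, if_pos (Finset.mem_insert_self j T), k2]
      · simp only [Finset.mem_insert, hj, false_or]
        split_ifs
        · rw [ap_smul, kf j hj]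
        · exact kf j hj
    · rw [ap_mul, g3 x h1 h2, k3 x (h1 i) (h2 i)]
    · rw [map_mul, k5 h2, g5 h2, Finset.prod_insert hi,
        sqc_mul (hc i) (Finset.prod_ne_zero_iff.2 fun j _ => hc j)]

omit [Finite F] in
/-- Isometric subspaces are moved by isometries. -/
theorem exists_move_sub [Finite ι] (hB : Nondeg Q) (U W : Submodule F (ι → F)) (e : U ≃ₗ[F] W)
    (he : ∀ u : U, Q (e u : ι → F) = Q (u : ι → F)) :
    ∃ g : Grp Q, U.map (Matrix.mulVecLin ((g : GL ι F) : Matrix ι ι F)) = W := by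
  obtain ⟨T, hT, hTU⟩ := CfsgLib.Classical.Witt.witt_quadratic Q (bilin_nondeg hB) U W e he
  obtain ⟨g, hg⟩ := exists_iso hB T.toLinearMap hT
  refine ⟨g, le_antisymm ?_ fun w hw => ?_⟩
  · rintro _ ⟨u, hu, rfl⟩
    show ap g u ∈ W
    rw [hg]
    have := hTU ⟨u, hu⟩
    simp only [LinearEquiv.coe_coe]
    rw [this]
    exact (e ⟨u, hu⟩).2
  · refine ⟨(e.symm ⟨w, hw⟩ : ι → F), (e.symm ⟨w, hw⟩).2, ?_⟩
    show ap g _ = w
    rw [hg]
    simp only [LinearEquiv.coe_coe, hTU, LinearEquiv.apply_symm_apply]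

omit [Finite F] in
theorem map_mul_eq (g h : Grp Q) (U : Submodule F (ι → F)) :
    U.map (Matrix.mulVecLin (((g * h : Grp Q) : GL ι F) : Matrix ι ι F)) =
      (U.map (Matrix.mulVecLin ((h : GL ι F) : Matrix ι ι F))).map
        (Matrix.mulVecLin ((g : GL ι F) : Matrix ι ι F)) := by
  rw [← Submodule.map_comp, ← Matrix.mulVecLin_mul]
  rfl

omit [Finite F] in
theorem map_one_eq (U : Submodule F (ι → F)) :
    U.map (Matrix.mulVecLin (((1 : Grp Q) : GL ι F) : Matrix ι ι F)) = U := by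
  simp

omit [Finite F] in
theorem map_inv_eq {g : Grp Q} {U W : Submodule F (ι → F)}
    (h : U.map (Matrix.mulVecLin ((g : GL ι F) : Matrix ι ι F)) = W) :
    W.map (Matrix.mulVecLin (((g⁻¹ : Grp Q) : GL ι F) : Matrix ι ι F)) = U := by
  rw [← h, ← map_mul_eq, inv_mul_cancel, map_one_eq]

omit [Finite F] in
theorem finrank_map_iso (g : Grp Q) (U : Submodule F (ι → F)) :
    Module.finrank F (U.map (Matrix.mulVecLin ((g : GL ι F) : Matrix ι ι F))) = Module.finrank F U :=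
  (Submodule.equivMapOfInjective _ (fun _ _ h => ap_inj g h) U).finrank_eq.symm

end CfsgLib.Orth
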