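import Cfsg.Agent.Lib.Classical.SympCompanion

/-!
Semisimple classes of the symplectic groups correspond to palindromic polynomials.
-/

set_option autoImplicit false
set_option linter.style.haveILetI false
set_option maxHeartbeats 800000

namespace CfsgLib.Classical.SympClassCount

open Matrix Polynomial

variable {F : Type*} [Field F] [Fintype F] {p : ℕ} [hp : Fact p.Prime] [CharP F p] {n : ℕ}

local notation "G" => Matrix.symplecticGroup (Fin n) F

/-- The palindromic polynomials of degree `2n`. -/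
def IsPal (n : ℕ) (f : F[X]) : Prop :=
  f.Monic ∧ f.natDegree = 2 * n ∧ f.coeff 0 = 1 ∧ f.reverse = f

theorem card_classes (P : G → Prop) (Q : F[X] → Prop)
    (hPQ : ∀ g : G, P g ↔ (orderOf g).Coprime p ∧ Q (g : Matrix (Fin n ⊕ Fin n) (Fin n ⊕ Fin n) F).charpoly) :
    Nat.card {C : ConjClasses G // ∃ g : G, ConjClasses.mk g = C ∧ P g} =
      Nat.card {f : F[X] // IsPal n f ∧ Q f} := by
  classical
  have hinv : ∀ g h : G, IsConj g h →
      (g : Matrix (Fin n ⊕ Fin n) (Fin n ⊕ Fin n) F).charpoly =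
        (h : Matrix (Fin n ⊕ Fin n) (Fin n ⊕ Fin n) F).charpoly := fun g h hgh => by
    obtain ⟨c, hc⟩ := isConj_iff.mp hgh
    rw [← hc]
    show _ = ((c : Matrix (Fin n ⊕ Fin n) (Fin n ⊕ Fin n) F) * g * (c⁻¹ : G)).charpoly
    rw [Matrix.charpoly_mul_comm, ← mul_assoc, ← Submonoid.coe_mul, inv_mul_cancel, Submonoid.coe_one, one_mul]
  refine Nat.card_eq_of_bijective (fun C => ⟨(C.2.choose : Matrix (Fin n ⊕ Fin n) (Fin n ⊕ Fin n) F).charpoly,
    ⟨Matrix.charpoly_monic _, by rw [Matrix.charpoly_natDegree_eq_dim]; simp; omega,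
      SympCompanion.charpoly_palindromic _⟩, ((hPQ _).mp C.2.choose_spec.2).2⟩) ⟨fun C D h => ?_, ?_⟩
  · apply Subtype.ext
    rw [← C.2.choose_spec.1, ← D.2.choose_spec.1]
    exact ConjClasses.mk_eq_mk_iff_isConj.mpr (SympClasses.isConj_of_charpoly_eq (p := p) _ _
      ((hPQ _).mp C.2.choose_spec.2).1 ((hPQ _).mp D.2.choose_spec.2).1 (congrArg Subtype.val h))
  · rintro ⟨f, ⟨hm, hd, h0, hrev⟩, hQ⟩
    obtain ⟨g, hg, hgc⟩ := SympCompanion.exists_semisimple (p := p) f hm hd h0 hrev
    have hP : P g := (hPQ g).mpr ⟨hg, hgc.symm ▸ hQ⟩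
    refine ⟨⟨ConjClasses.mk g, g, rfl, hP⟩, Subtype.ext ?_⟩
    set cc : {C : ConjClasses G // ∃ g : G, ConjClasses.mk g = C ∧ P g} := ⟨ConjClasses.mk g, g, rfl, hP⟩
    show (cc.2.choose : Matrix (Fin n ⊕ Fin n) (Fin n ⊕ Fin n) F).charpoly = f
    rw [hinv _ g (ConjClasses.mk_eq_mk_iff_isConj.mp cc.2.choose_spec.1), hgc]

omit [Fintype F] in
theorem IsPal.coeff_sym {f : F[X]} (hf : IsPal n f) {i : ℕ} (hi : i ≤ 2 * n) :
    f.coeff (2 * n - i) = f.coeff i := by
  conv_rhs => rw [← hf.2.2.2]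
  rw [coeff_reverse, hf.2.1, revAt_le hi]

theorem card_pal {q : ℕ} (hq : Fintype.card F = q) : Nat.card {f : F[X] // IsPal n f} = q ^ n := by
  classical
  let c : (Fin n → F) → ℕ → F := fun v i =>
    if i = 0 ∨ i = 2 * n then 1 else if h : i ≤ n ∧ 0 < i then v ⟨i - 1, by omega⟩
    else if h' : n < i ∧ i < 2 * n then v ⟨2 * n - i - 1, by omega⟩ else 0
  obtain ⟨mk, hco⟩ : ∃ mk : (Fin n → F) → F[X], ∀ v i, (mk v).coeff i = c v i := by
    refine ⟨fun v => ∑ i ∈ Finset.range (2 * n + 1), C (c v i) * X ^ i, fun v i => ?_⟩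
    simp only [finsetSum_coeff, coeff_C_mul_X_pow, Finset.sum_ite_eq, Finset.mem_range]
    split_ifs with h
    · rfl
    · simp only [c]
      rw [if_neg (by omega), dif_neg (by omega), dif_neg (by omega)]
  have hdeg : ∀ v, (mk v).natDegree = 2 * n := fun v => by
    refine le_antisymm (natDegree_le_iff_coeff_eq_zero.mpr fun i hi => ?_) (le_natDegree_of_ne_zero ?_)
    · rw [hco]; simp only [c]
      rw [if_neg (by omega), dif_neg (by omega), dif_neg (by omega)]
    · rw [hco]; simp [c]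
  have hpal : ∀ v, IsPal n (mk v) := fun v => by
    refine ⟨?_, hdeg v, by rw [hco]; simp [c], ?_⟩
    · rw [Monic, leadingCoeff, hdeg, hco]; simp [c]
    · ext i
      rw [coeff_reverse, hdeg]
      rcases Nat.lt_or_ge (2 * n) i with h | h
      · rw [revAt_eq_self_of_lt h]
      · rw [revAt_le h, hco, hco]
        simp only [c]
        rcases eq_or_ne i 0 with rfl | h0
        · simp
        rcases eq_or_ne i (2 * n) with rfl | h2
        · simp
        rw [if_neg (by omega), if_neg (by omega)]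
        rcases lt_trichotomy i n with hl | rfl | hg
        · rw [dif_neg (by omega), dif_pos ⟨by omega, by omega⟩, dif_pos ⟨by omega, by omega⟩]
          congr 1; apply Fin.ext; simp only; omega
        · have e : 2 * i - i = i := by omega
          simp only [e]
        · rw [dif_pos ⟨by omega, by omega⟩, dif_neg (show ¬(i ≤ n ∧ 0 < i) by omega), dif_pos ⟨hg, by omega⟩]
  rw [show q ^ n = Nat.card (Fin n → F) by
    rw [Nat.card_fun, Nat.card_fin, Nat.card_eq_fintype_card, hq]]
  refine (Nat.card_eq_of_bijective (fun v => (⟨mk v, hpal v⟩ : {f : F[X] // IsPal n f})) ⟨fun v w h => ?_, ?_⟩).symm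
  · funext i
    have h1 := congrArg (fun f : {f : F[X] // IsPal n f} => f.1.coeff (i.val + 1)) h
    simp only [hco, c] at h1
    rw [if_neg (by omega), if_neg (by omega), dif_pos ⟨by omega, by omega⟩, dif_pos ⟨by omega, by omega⟩] at h1
    simpa using h1
  · rintro ⟨f, hf⟩
    refine ⟨fun i => f.coeff (i.val + 1), Subtype.ext ?_⟩
    refine Polynomial.ext fun i => ?_
    refine (hco _ i).trans ?_
    simp only [c]
    split_ifs with h1 h2 h3
    · rcases h1 with rfl | rfl
      · exact hf.2.2.1.symm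
      · rw [← hf.2.1]; exact hf.1.coeff_natDegree.symm
    · rw [show i - 1 + 1 = i by omega]
    · rw [show 2 * n - i - 1 + 1 = 2 * n - i by omega, hf.coeff_sym (by omega)]
    · exact (coeff_eq_zero_of_natDegree_lt (by rw [hf.2.1]; omega)).symm

end CfsgLib.Classical.SympClassCount
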