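/-
Simplicity of the projective commutator subgroup of a finite orthogonal group in dimension at least
five.
-/
import Cfsg.Agent.Lib.Classical.OrthStab

set_option autoImplicit false

namespace CfsgLib.Orth

open Matrix
open scoped Pointwise commutatorElement

variable {F : Type*} [Field F] {ι : Type} [Fintype ι] [DecidableEq ι]
variable {Q : QuadraticForm F (ι → F)}

local notation "B" => QuadraticMap.polar (DFunLike.coe Q)

/-- An isometry fixing all singular points is a scalar. -/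
theorem exists_scalar_of_fixes [Finite F] (hB : Nondeg Q) (hn : 5 ≤ Module.finrank F (ι → F))
    {g : Grp Q} (h : ∀ v, Q v = 0 → ∃ a : F, ap g v = a • v) :
    ∃ a : F, ∀ x, ap g x = a • x := by
  have key : ∀ u w : ι → F, u ≠ 0 → w ≠ 0 → Q u = 0 → Q w = 0 → B u w = 0 →
      w ∉ Submodule.span F {u} → ∀ a b : F, ap g u = a • u → ap g w = b • w → a = b := by
    intro u w hu0 hw0 hu hw huw hi a b ha hb
    obtain ⟨c, hc⟩ := h (u + w) (by rw [q_add, hu, hw, huw, add_zero, add_zero])
    rw [ap_add, ha, hb, smul_add] at hc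
    by_cases hbc : b - c = 0
    · have h1 : (a - c) • u = 0 := by
        rw [sub_eq_zero.1 hbc] at hc
        linear_combination (norm := module) hc
      rw [(smul_eq_zero.1 h1).resolve_right hu0 |> sub_eq_zero.1, ← sub_eq_zero.1 hbc]
    · refine absurd ((Submodule.smul_mem_iff _ hbc).1 ?_) hi
      rw [show (b - c) • w = (c - a) • u by linear_combination (norm := module) hc]
      exact Submodule.smul_mem _ _ (Submodule.mem_span_singleton_self u)
  obtain ⟨s, hs, hs0⟩ := exists_nonzero_singular (Q := Q) hn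
  obtain ⟨a, ha⟩ := h s hs
  have hall : ∀ w, Q w = 0 → ap g w = a • w := by
    intro w hw
    by_cases hw0 : w = 0
    · rw [hw0, ap_zero, smul_zero]
    obtain ⟨b, hb⟩ := h w hw
    suffices hab : a = b by rw [hb, hab]
    by_cases hi : w ∈ Submodule.span F {s}
    · obtain ⟨c, rfl⟩ := Submodule.mem_span_singleton.1 hi
      rw [ap_smul, ha, smul_smul, smul_smul, mul_comm c a] at hb
      have hc0 : c ≠ 0 := fun e => hw0 (by rw [e, zero_smul])
      refine mul_right_cancel₀ hc0 (sub_eq_zero.1 ?_)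
      refine (smul_eq_zero.1 (?_ : (a * c - b * c) • s = 0)).resolve_right hs0
      rw [sub_smul, hb, sub_self]
    by_cases hsw : B s w = 0
    · exact key s w hs0 hw0 hs hw hsw hi a b ha hb
    obtain ⟨y, hy, hy0, hsy, hwy⟩ := exists_singular_perp hB hn s w
    obtain ⟨d, hd⟩ := h y hy
    have h1 : y ∉ Submodule.span F {s} := fun hh => by
      obtain ⟨c, rfl⟩ := Submodule.mem_span_singleton.1 hh
      rw [b_smul_right, b_comm w s] at hwy
      exact hy0 (by rw [(mul_eq_zero.1 hwy).resolve_right hsw, zero_smul])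
    have h2 : y ∉ Submodule.span F {w} := fun hh => by
      obtain ⟨c, rfl⟩ := Submodule.mem_span_singleton.1 hh
      rw [b_smul_right] at hsy
      exact hy0 (by rw [(mul_eq_zero.1 hsy).resolve_right hsw, zero_smul])
    rw [key s y hs0 hy0 hs hy hsy h1 a d ha hd, key w y hw0 hy0 hw hy hwy h2 b d hb hd]
  refine ⟨a, fun x => ?_⟩
  induction mem_span_singular hB hs hs0 x using Submodule.span_induction with
  | mem y hy => exact hall y hy
  | zero => rw [ap_zero, smul_zero]
  | add p q _ _ hp hq => rw [ap_add, hp, hq, smul_add]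
  | smul c p _ hp => rw [ap_smul, hp, smul_comm]

/-- A criterion for simplicity of a subgroup modulo its centre. -/
theorem isSimple_mod_center {G : Type*} [Group G] {O E : Subgroup G} (hO : O = E)
    (hnormal : ∀ N : Subgroup G, N ≤ E → (∀ a ∈ E, ∀ x ∈ N, a * x * a⁻¹ ∈ N) →
      (¬ ∀ x ∈ N, ∀ a ∈ E, a * x = x * a) → N = E)
    (hcenter : ¬ ∀ x ∈ E, ∀ a ∈ E, a * x = x * a) :
    IsSimpleGroup (O ⧸ Subgroup.center O) := by
  subst hO
  have : Nontrivial (O ⧸ Subgroup.center O) := by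
    refine QuotientGroup.nontrivial_iff.2 fun e => hcenter fun x hx a ha => ?_
    have : (⟨x, hx⟩ : O) ∈ Subgroup.center O := by rw [e]; trivial
    exact congrArg Subtype.val (Subgroup.mem_center_iff.1 this ⟨a, ha⟩)
  refine ⟨fun K hK => ?_⟩
  have hKH : K = (K.comap (QuotientGroup.mk' _)).map (QuotientGroup.mk' (Subgroup.center O)) :=
    (Subgroup.map_comap_eq_self_of_surjective (QuotientGroup.mk'_surjective _) K).symm
  have hcle : Subgroup.center O ≤ K.comap (QuotientGroup.mk' _) := fun z hz => by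
    show QuotientGroup.mk' _ z ∈ K
    rw [QuotientGroup.mk'_apply, (QuotientGroup.eq_one_iff z).2 hz]; exact one_mem K
  have hHn : (K.comap (QuotientGroup.mk' (Subgroup.center O))).Normal := hK.comap _
  by_cases hc : ∀ x ∈ (K.comap (QuotientGroup.mk' _)).map O.subtype, ∀ a ∈ O, a * x = x * a
  · left
    have : K.comap (QuotientGroup.mk' _) = Subgroup.center O := le_antisymm (fun x hx => by
      rw [Subgroup.mem_center_iff]
      exact fun a => Subtype.ext (hc x ⟨x, hx, rfl⟩ a a.2)) hcle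
    rw [hKH, this, QuotientGroup.map_mk'_self]
  · right
    have h1 := hnormal _ (Subgroup.map_subtype_le _) (fun a ha x hx => by
      obtain ⟨y, hy, rfl⟩ := hx
      exact ⟨⟨a, ha⟩ * y * ⟨a, ha⟩⁻¹, hHn.conj_mem y hy _, rfl⟩) hc
    have h2 : K.comap (QuotientGroup.mk' (Subgroup.center O)) = ⊤ := eq_top_iff.2 fun x _ => by
      obtain ⟨y, hy, hyx⟩ := h1.ge x.2
      rwa [← O.subtype_injective hyx]
    rw [hKH, h2]
    exact Subgroup.map_top_of_surjective _ (QuotientGroup.mk'_surjective _)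

set_option maxHeartbeats 1000000 in
/-- `PΩ` is simple in dimension at least five. -/
theorem pOmega_simple [Finite F] (hB : Nondeg Q) (hn : 5 ≤ Module.finrank F (ι → F)) :
    IsSimpleGroup (Cfsg.POmega F ⇑Q) := by
  have hΩ : Cfsg.Omega F ⇑Q = El Q := omega_eq_El hB hn
  obtain ⟨u, hu, hu0⟩ := exists_nonzero_singular (Q := Q) hn
  set S := Submodule.span F ({u} : Set (ι → F)) with hSdef
  have hS0 : S ≠ ⊥ := fun e => hu0 ((Submodule.eq_bot_iff _).1 e u
    (Submodule.mem_span_singleton_self u))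
  have hSq : ∀ w ∈ S, Q w = 0 := fun w hw => by
    obtain ⟨c, rfl⟩ := Submodule.mem_span_singleton.1 hw
    rw [q_smul, hu, mul_zero]
  have hmax := stab_singular_maximal hB hn hS0 hSq fun U _ hU => by
    rw [hU, hSdef, finrank_span_singleton hu0]; omega
  have hperfect := omega_perfect hB hn
  rw [hΩ] at hperfect
  -- normal subgroups of `El`
  have hnormal : ∀ N : Subgroup (Grp Q), N ≤ El Q → (∀ a ∈ El Q, ∀ x ∈ N, a * x * a⁻¹ ∈ N) →
      (¬ ∀ x ∈ N, ∀ a ∈ El Q, a * x = x * a) → N = El Q := by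
    intro N hN hNn hNc
    let P := stab Q S ⊓ El Q
    have hNP : N ⊔ P = El Q := by
      rcases hmax.2 (N ⊔ P) le_sup_right (sup_le hN inf_le_right) with h | h
      · exfalso
        refine hNc fun x hx a ha => ?_
        obtain ⟨c, hc⟩ := exists_scalar_of_fixes hB hn (g := x) fun v hv => by
          by_cases hv0 : v = 0
          · exact ⟨1, by rw [hv0, ap_zero, smul_zero]⟩
          obtain ⟨e, he, hev⟩ := exists_move_singular hB hn hu hv hu0 hv0
          have hm : e⁻¹ * x * e⁻¹⁻¹ ∈ N := hNn e⁻¹ (inv_mem he) x hx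
          have hP : e⁻¹ * x * e⁻¹⁻¹ ∈ P := h.le (Subgroup.mem_sup_left hm)
          have hin := (mem_stab.1 hP.1 u).1 (Submodule.mem_span_singleton_self u)
          obtain ⟨c, hc⟩ := Submodule.mem_span_singleton.1 hin
          refine ⟨c, ?_⟩
          have h2 := congrArg (ap e) hc
          rw [ap_smul, ap_mul, ap_mul, inv_inv, hev, ap_ap_inv] at h2
          exact h2.symm
        exact ext_ap fun y => by rw [ap_mul, ap_mul, hc, hc, ap_smul]
      · exact h
    -- the root group at `u`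
    let T : Subgroup (Grp Q) :=
      { carrier := {g | ∃ v, IsSiegel u v g}
        mul_mem' := fun {a b} ⟨v, hv⟩ ⟨w, hw⟩ => ⟨v + w, siegel_mul hv hw⟩
        one_mem' := ⟨0, siegel_one hu⟩
        inv_mem' := fun {a} ⟨v, hv⟩ => by
          obtain ⟨d, hd⟩ := exists_siegel hB hu (v := -v) (by
            rw [← neg_one_smul F v, b_smul_right, hv.2.1, mul_zero])
          have h := siegel_mul hv hd
          rw [add_neg_cancel] at h
          exact ⟨-v, (inv_eq_of_mul_eq_one_right (siegel_unique h (siegel_one hu))).symm ▸ hd⟩ }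
    have hNnorm : El Q ≤ Subgroup.normalizer (N : Set (Grp Q)) := fun a ha x => by
      refine ⟨fun hx => hNn a ha x hx, fun hx => ?_⟩
      have := hNn a⁻¹ (inv_mem ha) _ hx
      rwa [inv_inv, mul_assoc a x a⁻¹, ← mul_assoc a⁻¹, inv_mul_cancel, one_mul, mul_assoc,
        inv_mul_cancel, mul_one] at this
    have hT : T ≤ El Q := fun g ⟨v, hv⟩ => siegel_mem_El hv
    have hgen : El Q ≤ N ⊔ T := by
      refine (Subgroup.closure_le _).2 ?_
      rintro g ⟨a, v, hg⟩
      by_cases ha0 : a = 0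
      · subst ha0
        rw [SetLike.mem_coe, siegel_zero_eq_one hg]; exact one_mem _
      obtain ⟨e, he, hea⟩ := exists_move_singular hB hn hu hg.1 hu0 ha0
      rw [← hNP] at he
      have he' : e ∈ ((N : Set (Grp Q)) * (P : Set (Grp Q))) := by
        rw [← Subgroup.coe_mul_of_right_le_normalizer_left N P (inf_le_right.trans hNnorm)]
        exact he
      obtain ⟨m, hm, p, hp, rfl⟩ := he'
      have hp' := (mem_stab.1 hp.1 u).1 (Submodule.mem_span_singleton_self u)
      obtain ⟨c, hc⟩ := Submodule.mem_span_singleton.1 hp'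
      rw [ap_mul, ← hc, ap_smul] at hea
      have h1 := siegel_conj hg m⁻¹
      rw [← hea, ap_smul, ap_inv_ap, inv_inv] at h1
      have hc0 : c ≠ 0 := fun e => ha0 (by rw [← hea, e, zero_smul])
      obtain ⟨g', hg'⟩ := exists_siegel hB hu (v := ap m⁻¹ v) (by
        have := h1.2.1
        rw [b_smul_left] at this
        exact (mul_eq_zero.1 this).resolve_left hc0)
      have h2 : m⁻¹ * g * m ∈ N ⊔ T := Subgroup.mem_sup_right ⟨_, siegel_smul hg' c h1⟩
      have h3 := mul_mem (mul_mem (Subgroup.mem_sup_left hm : m ∈ N ⊔ T) h2)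
        (inv_mem (Subgroup.mem_sup_left hm : m ∈ N ⊔ T))
      simpa only [SetLike.mem_coe, mul_assoc, mul_inv_cancel, mul_one, mul_inv_cancel_left] using h3
    refine le_antisymm hN (le_trans hperfect.ge ?_)
    refine Subgroup.commutator_le.2 fun a ha b hb => ?_
    have hTn : T ≤ Subgroup.normalizer (N : Set (Grp Q)) := hT.trans hNnorm
    have hmem : ∀ x, x ∈ El Q → x ∈ ((N : Set (Grp Q)) * (T : Set (Grp Q))) := fun x hx => by
      rw [← Subgroup.coe_mul_of_right_le_normalizer_left N T hTn]; exact hgen hx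
    obtain ⟨n₁, hn₁, t₁, ht₁, rfl⟩ := hmem a ha
    obtain ⟨n₂, hn₂, t₂, ht₂, rfl⟩ := hmem b hb
    obtain ⟨v₁, hv₁⟩ := ht₁
    obtain ⟨v₂, hv₂⟩ := ht₂
    have hcomm : t₁ * t₂ = t₂ * t₁ :=
      siegel_unique (siegel_mul hv₁ hv₂) (add_comm v₂ v₁ ▸ siegel_mul hv₂ hv₁)
    have e : ⁅n₁ * t₁, n₂ * t₂⁆ =
        n₁ * (t₁ * n₂ * t₁⁻¹) * (t₂ * n₁⁻¹ * t₂⁻¹) * n₂⁻¹ := by
      rw [commutatorElement_def]
      have h1 : t₁ * t₂ * t₁⁻¹ = t₂ := by rw [hcomm, mul_inv_cancel_right]
      calc n₁ * t₁ * (n₂ * t₂) * (n₁ * t₁)⁻¹ * (n₂ * t₂)⁻¹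
          = n₁ * (t₁ * n₂ * t₁⁻¹) * (t₁ * t₂ * t₁⁻¹) * n₁⁻¹ * t₂⁻¹ * n₂⁻¹ := by group
        _ = n₁ * (t₁ * n₂ * t₁⁻¹) * t₂ * n₁⁻¹ * t₂⁻¹ * n₂⁻¹ := by rw [h1]
        _ = _ := by group
    rw [e]
    exact mul_mem (mul_mem (mul_mem hn₁ (hNn t₁ (hT ⟨v₁, hv₁⟩) _ hn₂))
      (hNn t₂ (hT ⟨v₂, hv₂⟩) _ (inv_mem hn₁))) (inv_mem hn₂)
  -- the quotient
  have hcenter : ¬ ∀ x ∈ El Q, ∀ a ∈ El Q, a * x = x * a := by
    intro h
    obtain ⟨f, hf, huf⟩ := exists_partner hB hu hu0
    obtain ⟨e, he, hef⟩ := exists_move_singular hB hn hu hf hu0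
      (ne_zero_of_b (y := u) (by rw [b_comm, huf]; exact one_ne_zero))
    have hbot : El Q = ⊥ := by
      refine le_bot_iff.1 (hperfect.ge.trans (Subgroup.commutator_le.2 fun a ha b hb => ?_))
      rw [Subgroup.mem_bot, commutatorElement_eq_one_iff_mul_comm]
      exact h b hb a ha
    rw [hbot, Subgroup.mem_bot] at he
    rw [he, ap_one] at hef
    rw [← hef, b_self_zero hu] at huf
    exact zero_ne_one huf
  exact isSimple_mod_center hΩ hnormal hcenter

end CfsgLib.Orth
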