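/-
The centre of `Ω` and the order of `PΩ`.
-/
import Cfsg.Agent.Lib.Classical.OrthSimple
import Cfsg.Agent.Lib.Classical.OrthSpinor

set_option autoImplicit false

namespace CfsgLib.Orth

open Matrix

variable {F : Type*} [Field F] {ι : Type} [Fintype ι] [DecidableEq ι]
variable {Q : QuadraticForm F (ι → F)}

local notation "B" => QuadraticMap.polar (DFunLike.coe Q)

/-- Elements commuting with `El` are the scalars `±1`. -/
theorem commute_El_scalar [Finite F] (hB : Nondeg Q) (hn : 5 ≤ Module.finrank F (ι → F))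
    {x : Grp Q} (hx : ∀ a ∈ El Q, a * x = x * a) :
    x = 1 ∨ ((x : GL ι F) : Matrix ι ι F) = -1 := by
  have hfix : ∀ u, Q u = 0 → ∃ c : F, ap x u = c • u := by
    intro u hu
    by_cases hu0 : u = 0
    · exact ⟨1, by rw [hu0, ap_zero, smul_zero]⟩
    have key : ∀ v, B u v = 0 → B (ap x u) u • v - B (ap x u) v • u
        - (Q v * B (ap x u) u) • u = 0 := by
      intro v hv
      obtain ⟨g, hg⟩ := exists_siegel hB hu hv
      have h := congrArg (fun y => ap y u) (hx g (siegel_mem_El hg))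
      simp only [ap_mul] at h
      rw [siegel_fix hg (b_self_zero hu) hv, hg.2.2] at h
      linear_combination (norm := module) h
    have hu' : B (ap x u) u = 0 := by
      obtain ⟨f, hf, huf⟩ := exists_partner hB hu hu0
      obtain ⟨y, hy, hy0, huy, hfy⟩ := exists_singular_perp hB hn u f
      have h := congrArg (B f) (key y huy)
      obtain ⟨z, hz⟩ : ∃ z, B y z ≠ 0 := by
        by_contra hc
        push Not at hc
        exact hy0 (hB y hc)
      by_contra hne
      have h1 := key y huy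
      rw [hy, zero_mul, zero_smul, sub_zero, sub_eq_zero] at h1
      have h2 := congrArg (B f) h1
      rw [b_smul_right, b_smul_right, hfy, b_comm f u, huf, mul_zero, mul_one] at h2
      rw [← h2, zero_smul, smul_eq_zero] at h1
      exact hy0 (h1.resolve_left hne)
    have hmem : ap x u ∈ orth Q (orth Q (Submodule.span F {u})) := by
      intro v hv
      have hv' : B u v = 0 := mem_orth_span.2 (mem_orth_span.1 hv) u
        (Submodule.mem_span_singleton_self u)
      have h1 := key v hv'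
      rw [hu', zero_smul, mul_zero, zero_smul, zero_sub, sub_zero, neg_eq_zero, smul_eq_zero] at h1
      show B v (ap x u) = 0
      rw [b_comm]
      exact h1.resolve_right hu0
    rw [orth_orth hB] at hmem
    obtain ⟨c, hc⟩ := Submodule.mem_span_singleton.1 hmem
    exact ⟨c, hc.symm⟩
  obtain ⟨a, ha⟩ := exists_scalar_of_fixes hB hn hfix
  obtain ⟨v, hv⟩ := exists_aniso hB (by omega)
  have h := ap_q x v
  rw [ha, q_smul] at h
  rcases mul_self_eq_one_iff.1 (mul_right_cancel₀ hv (h.trans (one_mul _).symm)) with rfl | rfl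
  · exact Or.inl (ext_ap fun y => by rw [ha, ap_one, one_smul])
  · exact Or.inr (Matrix.ext_iff_mulVec.mpr fun y => by
      rw [Matrix.neg_mulVec, Matrix.one_mulVec]
      exact (ha y).trans (neg_one_smul F y))

/-- The centre of `Ω` has order two or one according as `-1` is a non-trivial element of `Ω`. -/
theorem card_center_omega [Finite F] (hB : Nondeg Q) (hn : 5 ≤ Module.finrank F (ι → F)) :
    ((∀ g ∈ Cfsg.Omega F ⇑Q, ((g : GL ι F) : Matrix ι ι F) = -1 → g = 1) →
      Nat.card (Subgroup.center (Cfsg.Omega F ⇑Q)) = 1) ∧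
    ((∃ g : Grp Q, g ∈ Cfsg.Omega F ⇑Q ∧ g ≠ 1 ∧ ((g : GL ι F) : Matrix ι ι F) = -1) →
      Nat.card (Subgroup.center (Cfsg.Omega F ⇑Q)) = 2) := by
  have hΩ := omega_eq_El hB hn
  have hc : ∀ z : Subgroup.center (Cfsg.Omega F ⇑Q),
      ((z : Cfsg.Omega F ⇑Q) : Grp Q) = 1 ∨
        ((((z : Cfsg.Omega F ⇑Q) : Grp Q) : GL ι F) : Matrix ι ι F) = -1 := fun z =>
    commute_El_scalar hB hn fun a ha =>
      congrArg Subtype.val (Subgroup.mem_center_iff.1 z.2 ⟨a, hΩ ▸ ha⟩)
  constructor
  · intro h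
    exact Nat.card_eq_one_iff_unique.2 ⟨⟨fun z w => Subtype.ext (Subtype.ext (by
      have e : ∀ z : Subgroup.center (Cfsg.Omega F ⇑Q), ((z : Cfsg.Omega F ⇑Q) : Grp Q) = 1 :=
        fun z => (hc z).elim id (h _ z.1.2)
      rw [e z, e w]))⟩, ⟨1⟩⟩
  · rintro ⟨g, hg, hg1, hgm⟩
    have hgc : (⟨g, hg⟩ : Cfsg.Omega F ⇑Q) ∈ Subgroup.center (Cfsg.Omega F ⇑Q) := by
      rw [Subgroup.mem_center_iff]
      intro a
      refine Subtype.ext (Subtype.ext (Units.ext ?_))
      show ((((a : Grp Q)) : GL ι F) : Matrix ι ι F) * ((g : GL ι F) : Matrix ι ι F) =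
        ((g : GL ι F) : Matrix ι ι F) * ((((a : Grp Q)) : GL ι F) : Matrix ι ι F)
      rw [hgm, mul_neg, mul_one, neg_mul, one_mul]
    rw [Nat.card_eq_two_iff]
    refine ⟨1, ⟨⟨g, hg⟩, hgc⟩, fun e => hg1 ?_, Set.eq_univ_of_forall fun z => ?_⟩
    · exact (congrArg (fun z : Subgroup.center (Cfsg.Omega F ⇑Q) =>
        ((z : Cfsg.Omega F ⇑Q) : Grp Q)) e).symm
    · rcases hc z with h | h
      · exact Or.inl (Subtype.ext (Subtype.ext h))
      · exact Or.inr (Set.mem_singleton_iff.2 (Subtype.ext (Subtype.ext (Subtype.ext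
          (Units.ext (h.trans hgm.symm))))))

theorem card_grp_eq_index_mul (Q : QuadraticForm F (ι → F)) :
    Nat.card (Grp Q) = (Cfsg.Omega F ⇑Q).index * (Nat.card (Cfsg.POmega F ⇑Q) *
      Nat.card (Subgroup.center (Cfsg.Omega F ⇑Q))) := by
  rw [← Subgroup.index_mul_card (Cfsg.Omega F ⇑Q),
    Subgroup.card_eq_card_quotient_mul_card_subgroup (Subgroup.center (Cfsg.Omega F ⇑Q))]

end CfsgLib.Orth
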