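/-
The subgroup generated by the reflections of one square class.
-/
import Cfsg.Agent.Lib.Classical.OrthSpinor

set_option autoImplicit false

namespace CfsgLib.Orth

open Matrix

variable {F : Type*} [Field F] {ι : Type} [Fintype ι] [DecidableEq ι]
variable {Q : QuadraticForm F (ι → F)}

local notation "B" => QuadraticMap.polar (DFunLike.coe Q)

/-- The subgroup generated by the reflections in vectors whose norm lies in the class of `c`. -/
def ClassRefl (Q : QuadraticForm F (ι → F)) (c : F) : Subgroup (Grp Q) :=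
  Subgroup.closure {g | ∃ v, IsRefl v g ∧ IsSquare (Q v * c)}

instance classRefl_normal (c : F) : (ClassRefl Q c).Normal := by
  refine ⟨fun n hn s => ?_⟩
  induction hn using Subgroup.closure_induction with
  | mem g hg =>
      obtain ⟨v, h, hsq⟩ := hg
      exact Subgroup.subset_closure ⟨ap s v, refl_conj h s, by rwa [ap_q]⟩
  | one => rw [mul_one, mul_inv_cancel]; exact one_mem _
  | mul a b _ _ ha hb =>
      have e : s * (a * b) * s⁻¹ = s * a * s⁻¹ * (s * b * s⁻¹) := by group
      rw [e]; exact mul_mem ha hb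
  | inv a _ ha =>
      have e : s * a⁻¹ * s⁻¹ = (s * a * s⁻¹)⁻¹ := by group
      rw [e]; exact inv_mem ha

/-- Two reflections swapped by a class reflection agree modulo `ClassRefl`. -/
theorem mul_mem_classRefl_of_move (hB : Nondeg Q) {c : F} {u x x' : ι → F} {a b : Grp Q}
    (ha : IsRefl x a) (hb : IsRefl x' b) (hu : Q u ≠ 0) (hc : IsSquare (Q u * c))
    (he : x - ((Q u)⁻¹ * B u x) • u = x' ∨ x - ((Q u)⁻¹ * B u x) • u = -x') :
    a * b ∈ ClassRefl Q c := by
  obtain ⟨g, hg⟩ := exists_refl hB hu
  have hgX : g ∈ ClassRefl Q c := Subgroup.subset_closure ⟨u, hg, hc⟩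
  have h1 := refl_conj ha g
  rw [hg.2 x] at h1
  have e : g * a * g⁻¹ = b := by
    rcases he with he | he <;> rw [he] at h1
    · exact refl_unique h1 hb
    · have h2 := refl_smul h1 (c := -1) (neg_ne_zero.2 one_ne_zero)
      rw [neg_one_smul, neg_neg] at h2
      exact refl_unique h2 hb
  rw [← e, show a * (g * a * g⁻¹) = a * g * a * g⁻¹ by group]
  refine mul_mem ?_ (inv_mem hgX)
  have := (classRefl_normal c).conj_mem g hgX a
  rwa [refl_inv ha] at this

variable [Finite F]

/-- Two reflections of equal norm spanning a non-degenerate plane agree modulo `ClassRefl`. -/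
theorem mul_mem_classRefl_plane (hB : Nondeg Q) (h2 : (2 : F) ≠ 0) {c d : F} (hc : c ≠ 0)
    (hcd : ¬ IsSquare (d * c)) {y y' : ι → F} {r r' : Grp Q} (hr : IsRefl y r)
    (hr' : IsRefl y' r') (hy : Q y = d) (hy' : Q y' = d) (hp : B y y' * B y y' ≠ 4 * d * d) :
    r * r' ∈ ClassRefl Q c := by
  have hd : d ≠ 0 := hy ▸ hr.1
  have hswap : ∀ a b : ι → F, Q a = Q b → Q (a - b) ≠ 0 →
      a - ((Q (a - b))⁻¹ * B (a - b) a) • (a - b) = b := fun a b hab hne => by
    rw [show B (a - b) a = Q (a - b) by
      rw [b_sub_left, b_self, q_sub, b_comm b a]; linear_combination hab,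
      inv_mul_cancel₀ hne, one_smul, sub_sub_cancel]
  obtain ⟨β, hβ⟩ : ∃ β, β = B y y' := ⟨_, rfl⟩
  rw [← hβ] at hp
  have hm : Q (y - y') = 2 * d - β := by rw [q_sub, hy, hy', hβ]; ring
  have hpl : Q (y + y') = 2 * d + β := by rw [q_add, hy, hy', hβ]; ring
  have hm0 : Q (y - y') ≠ 0 := by
    rw [hm]; intro e; exact hp (by linear_combination (-(2 * d) - β) * e)
  have hpl0 : Q (y + y') ≠ 0 := by
    rw [hpl]; intro e; exact hp (by linear_combination (β - 2 * d) * e)
  by_cases hm1 : IsSquare (Q (y - y') * c)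
  · exact mul_mem_classRefl_of_move hB hr hr' hm0 hm1
      (Or.inl (hswap y y' (hy.trans hy'.symm) hm0))
  by_cases hpl1 : IsSquare (Q (y + y') * c)
  · refine mul_mem_classRefl_of_move hB hr hr' hpl0 hpl1 (Or.inr ?_)
    have h := hswap y (-y') (by rw [QuadraticMap.map_neg, hy, hy']) (by rwa [sub_neg_eq_add])
    rwa [sub_neg_eq_add] at h
  -- a vector of norm `c` in the plane
  have hch : ringChar F ≠ 2 := fun e => h2 (by
    have := CharP.cast_eq_zero F (ringChar F)
    rwa [e, Nat.cast_ofNat] at this)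
  obtain ⟨w, hw⟩ : ∃ w, 2 * d * w = β :=
    ⟨β / (2 * d), mul_div_cancel₀ β (mul_ne_zero h2 hd)⟩
  obtain ⟨D, hDe⟩ : ∃ D, D = d - d * w * w := ⟨_, rfl⟩
  have hD : D ≠ 0 := fun e => hp (by
    linear_combination 4 * d * hDe - 4 * d * e - (β + 2 * d * w) * hw)
  cases nonempty_fintype F
  obtain ⟨a, γ, hab⟩ := FiniteField.exists_root_sum_quadratic
    (f := Polynomial.C d * Polynomial.X ^ 2 + Polynomial.C (-c))
    (g := Polynomial.C D * Polynomial.X ^ 2)
    (by compute_degree!) (by compute_degree!)
    (FiniteField.odd_card_of_char_ne_two hch)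
  simp only [Polynomial.eval_add, Polynomial.eval_mul, Polynomial.eval_C, Polynomial.eval_pow,
    Polynomial.eval_X] at hab
  obtain ⟨α, hα⟩ : ∃ α, α = a - w * γ := ⟨_, rfl⟩
  obtain ⟨v, hv⟩ : ∃ v, v = α • y + γ • y' := ⟨_, rfl⟩
  have hQv : Q v = c := by
    rw [hv, q_add, q_smul, q_smul, b_smul_left, b_smul_right, hy, hy', ← hβ, hα]
    linear_combination hab - γ ^ 2 * hDe - (a * γ - w * γ * γ) * hw
  have hv0 : Q v ≠ 0 := by rw [hQv]; exact hc
  obtain ⟨g, hg⟩ := exists_refl hB hv0
  obtain ⟨y₁, hy₁⟩ : ∃ y₁, y₁ = y - ((Q v)⁻¹ * B v y) • v := ⟨_, rfl⟩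
  have hap : ap g y = y₁ := by rw [hg.2, hy₁]
  have hr1 := refl_conj hr g
  rw [hap] at hr1
  have hQy₁ : Q y₁ = d := by rw [← hap, ap_q, hy]
  have hsq : IsSquare (Q v * c) := ⟨c, by rw [hQv]⟩
  have h1 : r * (g * r * g⁻¹) ∈ ClassRefl Q c :=
    mul_mem_classRefl_of_move hB hr hr1 hv0 hsq (Or.inl hy₁.symm)
  have key : Q v * Q (y₁ - y') = d * Q (y + y') * ((α + γ) * (α + γ)) := by
    have hvy : B v y = 2 * d * α + β * γ := by
      rw [hv, b_add_left, b_smul_left, b_smul_left, b_self, b_comm y' y, hy, ← hβ]; ring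
    have hvy' : B v y' = β * α + 2 * d * γ := by
      rw [hv, b_add_left, b_smul_left, b_smul_left, b_self, hy', ← hβ]; ring
    have hQv' : Q v = α * α * d + γ * γ * d + α * γ * β := by
      rw [hv, q_add, q_smul, q_smul, b_smul_left, b_smul_right, hy, hy', ← hβ]; ring
    have hbb : B y₁ y' = β - (Q v)⁻¹ * B v y * B v y' := by
      rw [hy₁, b_sub_left, b_smul_left, ← hβ]
    rw [q_sub, hQy₁, hy', hbb, hpl, hvy, hvy']
    have h0 : Q v * (Q v)⁻¹ = 1 := mul_inv_cancel₀ hv0
    linear_combination (2 * d * α + β * γ) * (β * α + 2 * d * γ) * h0 + (2 * d - β) * hQv'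
  by_cases hag : α + γ = 0
  · exfalso
    refine hm1 ?_
    have : v = α • (y - y') := by
      rw [hv, show γ = -α by linear_combination hag, neg_smul, smul_sub, sub_eq_add_neg]
    rw [this, q_smul] at hsq
    obtain ⟨k, hk⟩ := hsq
    refine ⟨k / α, ?_⟩
    have hα0 : α ≠ 0 := fun e => hv0 (by rw [this, e, zero_smul, QuadraticMap.map_zero])
    field_simp
    linear_combination hk
  have hne1 : Q (y₁ - y') ≠ 0 := fun e => by
    rw [e, mul_zero] at key
    exact mul_ne_zero (mul_ne_zero hd hpl0) (mul_ne_zero hag hag) key.symm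
  have hcls : IsSquare (Q (y₁ - y') * c) := by
    have h4 : IsSquare (d * Q (y + y')) := by
      rw [isSquare_mul_iff hd]
      right
      rw [isSquare_mul_iff hd] at hcd
      rw [isSquare_mul_iff hpl0] at hpl1
      simp only [hc, false_or] at hcd hpl1
      tauto
    obtain ⟨k, hk⟩ := h4
    exact ⟨k * (α + γ), by rw [← hQv, mul_comm, key, hk]; ring⟩
  have h3 : (g * r * g⁻¹) * r' ∈ ClassRefl Q c :=
    mul_mem_classRefl_of_move hB hr1 hr' hne1 hcls
      (Or.inl (hswap y₁ y' (hQy₁.trans hy'.symm) hne1))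
  have := mul_mem h1 h3
  rwa [mul_assoc, ← mul_assoc (g * r * g⁻¹) (g * r * g⁻¹), refl_mul_self hr1, one_mul] at this

/-- The reflections of the other class agree modulo `ClassRefl`. -/
theorem mul_mem_classRefl (hB : Nondeg Q) (h2 : (2 : F) ≠ 0)
    (hn : Module.finrank F (ι → F) = 2 ∨ (4 ≤ Module.finrank F (ι → F) ∧ 5 ≤ Nat.card F) ∨
      5 ≤ Module.finrank F (ι → F))
    {c d : F} (hc : c ≠ 0) (hcd : ¬ IsSquare (d * c)) {y y' : ι → F} {r r' : Grp Q}
    (hr : IsRefl y r) (hr' : IsRefl y' r') (hy : Q y = d) (hy' : Q y' = d) :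
    r * r' ∈ ClassRefl Q c := by
  have hd : d ≠ 0 := hy ▸ hr.1
  by_cases hp : B y y' * B y y' = 4 * d * d
  swap
  · exact mul_mem_classRefl_plane hB h2 hc hcd hr hr' hy hy' hp
  -- normalise the sign
  obtain ⟨x, hx, hxy, hxr⟩ : ∃ x, Q x = d ∧ B y x = 2 * d ∧ IsRefl x r' := by
    rcases mul_eq_zero.1 (show (B y y' - 2 * d) * (B y y' + 2 * d) = 0 by
      linear_combination hp) with h | h
    · exact ⟨y', hy', sub_eq_zero.1 h, hr'⟩
    · refine ⟨-y', by rw [QuadraticMap.map_neg, hy'], ?_, ?_⟩
      · rw [← neg_one_smul F y', b_smul_right]; linear_combination -h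
      · rw [← neg_one_smul F y']; exact refl_smul hr' (neg_ne_zero.2 one_ne_zero)
  obtain ⟨z, hz⟩ : ∃ z, z = x - y := ⟨_, rfl⟩
  have hzq : Q z = 0 := by rw [hz, q_sub, hx, hy, b_comm x y, hxy]; ring
  have hzy : B y z = 0 := by rw [hz, b_sub_right, hxy, b_self, hy, sub_self]
  have hxe : x = y + z := by rw [hz]; abel
  by_cases hz0 : z = 0
  · rw [hxe, hz0, add_zero] at hxr
    rw [refl_unique hr hxr, refl_mul_self hxr]; exact one_mem _
  have hy0 : y ≠ 0 := fun e => hr.1 (by rw [e, QuadraticMap.map_zero])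
  have hzy' : z ∉ Submodule.span F {y} := fun h => by
    obtain ⟨t, ht⟩ := Submodule.mem_span_singleton.1 h
    rw [← ht, q_smul, hy] at hzq
    rcases mul_eq_zero.1 hzq with h' | h'
    · exact hz0 (by rw [← ht, mul_self_eq_zero.1 h', zero_smul])
    · exact hd h'
  obtain ⟨f₀, hf₀, hzf₀⟩ := exists_orth_one hB hzy'
  have hyf₀ : B y f₀ = 0 := mem_orth_span.1 hf₀ y rfl
  obtain ⟨f, hf⟩ : ∃ f, f = f₀ - Q f₀ • z := ⟨_, rfl⟩
  have hfq : Q f = 0 := by
    rw [hf, q_sub, q_smul, hzq, b_smul_right, b_comm f₀ z, hzf₀]; ring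
  have hzf : B z f = 1 := by rw [hf, b_sub_right, b_smul_right, hzf₀, b_self_zero hzq]; ring
  have hyf : B y f = 0 := by rw [hf, b_sub_right, b_smul_right, hyf₀, hzy]; ring
  -- an intermediate vector
  suffices h : ∃ w, Q w = d ∧ B y w = 0 ∧ B z w * B z w ≠ 4 * d * d by
    obtain ⟨w, hw, hyw, hzw⟩ := h
    obtain ⟨s, hs⟩ := exists_refl hB (v := w) (by rw [hw]; exact hd)
    have h4d : (4 : F) * d * d ≠ 0 := mul_ne_zero (mul_ne_zero (by
      rw [show (4 : F) = 2 * 2 by norm_num]; exact mul_ne_zero h2 h2) hd) hd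
    have h1 := mul_mem_classRefl_plane hB h2 hc hcd hr hs hy hw (by
      rw [hyw, mul_zero]; exact h4d.symm)
    have h3 := mul_mem_classRefl_plane hB h2 hc hcd hs hxr hw hx (by
      rw [b_comm w x, hxe, b_add_left, hyw, zero_add]; exact hzw)
    have := mul_mem h1 h3
    rwa [mul_assoc, ← mul_assoc s, refl_mul_self hs, one_mul] at this
  rcases hn with hn | ⟨-, hq⟩ | hn
  · exfalso
    classical
    have hli : LinearIndependent F ![y, z, f] := by
      rw [Fintype.linearIndependent_iff]
      intro g hg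
      rw [Fin.sum_univ_three] at hg
      change g 0 • y + g 1 • z + g 2 • f = 0 at hg
      have e1 := congrArg (B y) hg
      have e2 := congrArg (B z) hg
      have e3 := congrArg (B f) hg
      rw [b_add_right, b_add_right, b_smul_right, b_smul_right, b_smul_right, b_zero_right] at e1 e2 e3
      rw [b_self, hy, hzy, hyf] at e1
      rw [b_comm z y, hzy, b_self_zero hzq, hzf] at e2
      rw [b_comm f y, hyf, b_comm f z, hzf, b_self_zero hfq] at e3
      intro i
      fin_cases i
      · exact (mul_eq_zero.1 (show g 0 * (2 * d) = 0 by linear_combination e1)).resolve_right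
          (mul_ne_zero h2 hd)
      · show g 1 = 0; linear_combination e3
      · show g 2 = 0; linear_combination e2
    have := hli.fintype_card_le_finrank
    rw [Fintype.card_fin, hn] at this
    omega
  · cases nonempty_fintype F
    classical
    obtain ⟨s, -, hs⟩ := Finset.exists_mem_notMem_of_card_lt_card
      (s := ({0, 2 * d, -(2 * d)} : Finset F)) (t := Finset.univ) (by
        rw [Finset.card_univ, ← Nat.card_eq_fintype_card]
        exact (Finset.card_le_three).trans_lt (by omega))
    simp only [Finset.mem_insert, Finset.mem_singleton, not_or] at hs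
    refine ⟨s • f + (d / s) • z, ?_, ?_, ?_⟩
    · rw [q_add, q_smul, q_smul, hfq, hzq, b_smul_left, b_smul_right, b_comm f z, hzf]
      have := hs.1
      field_simp
      ring
    · rw [b_add_right, b_smul_right, b_smul_right, hyf, hzy]; ring
    · rw [b_add_right, b_smul_right, b_smul_right, hzf, b_self_zero hzq, mul_one, mul_zero,
        add_zero]
      intro e
      rcases mul_eq_zero.1 (show (s - 2 * d) * (s + 2 * d) = 0 by linear_combination e) with h | h
      · exact hs.2.1 (sub_eq_zero.1 h)
      · exact hs.2.2 (by linear_combination h)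
  · classical
    obtain ⟨S, hS⟩ : ∃ S, S = Submodule.span F ({y, z, f} : Set (ι → F)) := ⟨_, rfl⟩
    have h3 : Module.finrank F S ≤ 3 := by
      have h := finrank_span_finset_le_card (R := F) ({y, z, f} : Finset (ι → F))
      rw [Set.finrank] at h
      rw [Finset.coe_insert, Finset.coe_insert, Finset.coe_singleton] at h
      rw [← hS] at h
      exact h.trans Finset.card_le_three
    have h4 := finrank_orth hB S
    have hmem : ∀ x, x ∈ orth Q S ↔ B y x = 0 ∧ B z x = 0 ∧ B f x = 0 := fun x => by
      rw [hS, mem_orth_span]; simp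
    by_cases hsing : ∃ w ∈ orth Q S, w ≠ 0 ∧ Q w = 0
    swap
    · -- an anisotropic plane represents every value
      push Not at hsing
      obtain ⟨r, hr, hr0⟩ := (Submodule.ne_bot_iff (orth Q S)).1 (fun e => by
        rw [e, finrank_bot] at h4; omega)
      have h5 := finrank_orth hB (S ⊔ Submodule.span F {r})
      have h6 : Module.finrank F (S ⊔ Submodule.span F {r} : Submodule F (ι → F)) ≤ 4 := by
        refine (Submodule.finrank_add_le_finrank_add_finrank S (Submodule.span F {r})).trans ?_
        rw [finrank_span_singleton hr0]; omega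
      obtain ⟨t, ht, ht0⟩ := (Submodule.ne_bot_iff (orth Q (S ⊔ Submodule.span F {r}))).1 (fun e => by
        rw [e, finrank_bot] at h5; omega)
      have htS : t ∈ orth Q S := fun x hx => ht x (Submodule.mem_sup_left hx)
      have hrt : B r t = 0 := ht r (Submodule.mem_sup_right (Submodule.mem_span_singleton_self r))
      have hch : ringChar F ≠ 2 := fun e => h2 (by
        have := CharP.cast_eq_zero F (ringChar F)
        rwa [e, Nat.cast_ofNat] at this)
      cases nonempty_fintype F
      obtain ⟨a, b, hab⟩ := FiniteField.exists_root_sum_quadratic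
        (f := Polynomial.C (Q r) * Polynomial.X ^ 2 + Polynomial.C (-d))
        (g := Polynomial.C (Q t) * Polynomial.X ^ 2)
        (by have := hsing r hr hr0; compute_degree!) (by have := hsing t htS ht0; compute_degree!)
        (FiniteField.odd_card_of_char_ne_two hch)
      simp only [Polynomial.eval_add, Polynomial.eval_mul, Polynomial.eval_C, Polynomial.eval_pow,
        Polynomial.eval_X] at hab
      obtain ⟨r1, r2, -⟩ := (hmem r).1 hr
      obtain ⟨t1, t2, -⟩ := (hmem t).1 htS
      refine ⟨a • r + b • t, ?_, ?_, ?_⟩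
      · rw [q_add, q_smul, q_smul, b_smul_left, b_smul_right, hrt]
        linear_combination hab
      · rw [b_add_right, b_smul_right, b_smul_right, r1, t1, mul_zero, mul_zero, add_zero]
      · rw [b_add_right, b_smul_right, b_smul_right, r2, t2, mul_zero, mul_zero, add_zero, mul_zero]
        exact (mul_ne_zero (mul_ne_zero (show (4 : F) ≠ 0 by
          rw [show (4 : F) = 2 * 2 by norm_num]; exact mul_ne_zero h2 h2) hd) hd).symm
    obtain ⟨w, hw, hw0, hwq⟩ := hsing
    have hwS : w ∉ S := fun h => by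
      rw [hS, Submodule.mem_span_insert] at h
      obtain ⟨a, u, hu, rfl⟩ := h
      rw [Submodule.mem_span_pair] at hu
      obtain ⟨b, e, rfl⟩ := hu
      obtain ⟨e1, e2, e3⟩ := (hmem _).1 hw
      rw [b_add_right, b_add_right, b_smul_right, b_smul_right, b_smul_right] at e1 e2 e3
      rw [b_self, hy, hzy, hyf] at e1
      rw [b_comm z y, hzy, b_self_zero hzq, hzf] at e2
      rw [b_comm f y, hyf, b_comm f z, hzf, b_self_zero hfq] at e3
      have ha : a = 0 :=
        (mul_eq_zero.1 (show a * (2 * d) = 0 by linear_combination e1)).resolve_right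
          (mul_ne_zero h2 hd)
      have hb : b = 0 := by linear_combination e3
      have he : e = 0 := by linear_combination e2
      exact hw0 (by rw [ha, hb, he, zero_smul, zero_smul, zero_smul, add_zero, add_zero])
    obtain ⟨g, hg, hwg⟩ := exists_orth_one hB hwS
    obtain ⟨g1, g2, -⟩ := (hmem g).1 hg
    obtain ⟨w1, w2, -⟩ := (hmem w).1 hw
    refine ⟨g + (d - Q g) • w, ?_, ?_, ?_⟩
    · rw [q_add, q_smul, hwq, b_smul_right, b_comm g w, hwg]; ring
    · rw [b_add_right, b_smul_right, g1, w1]; ring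
    · rw [b_add_right, b_smul_right, g2, w2, mul_zero, add_zero, mul_zero]
      exact (mul_ne_zero (mul_ne_zero (show (4 : F) ≠ 0 by
        rw [show (4 : F) = 2 * 2 by norm_num]; exact mul_ne_zero h2 h2) hd) hd).symm

/-- The class reflections generate a subgroup of index two. -/
theorem index_classRefl (hB : Nondeg Q) (h2 : (2 : F) ≠ 0)
    (hn : Module.finrank F (ι → F) = 2 ∨ (4 ≤ Module.finrank F (ι → F) ∧ 5 ≤ Nat.card F) ∨
      5 ≤ Module.finrank F (ι → F))
    {c : F} (hc : c ≠ 0) : (ClassRefl Q c).index = 2 := by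
  have hn2 : 2 ≤ Module.finrank F (ι → F) := by omega
  obtain ⟨-, -, hsp⟩ := omega_eq_ker_psi hB h2 hn2 (one_ne_zero (α := F))
  obtain ⟨v, w, -, -, hv, hw, -, -, -, -, hns, -, -⟩ := exists_pair hB h2 hn2
  obtain ⟨e, y, he, hy, hec, hyc⟩ :
      ∃ e y : ι → F, Q e ≠ 0 ∧ Q y ≠ 0 ∧ IsSquare (Q e * c) ∧ ¬ IsSquare (Q y * c) := by
    have hw' : IsSquare (Q v * c) ↔ ¬ IsSquare (Q w * c) := by
      rw [isSquare_mul_iff hv] at hns
      rw [isSquare_mul_iff hv, isSquare_mul_iff hw]
      simp only [hc, hw, false_or] at hns ⊢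
      tauto
    by_cases h : IsSquare (Q v * c)
    · exact ⟨v, w, hv, hw, h, hw'.1 h⟩
    · exact ⟨w, v, hw, hv, not_not.1 fun h' => h (hw'.2 h'), h⟩
  obtain ⟨re, hre⟩ := exists_refl hB he
  obtain ⟨ry, hry⟩ := exists_refl hB hy
  -- a character separating the classes
  let χ : Grp Q →* ℤˣ :=
    if spinor Q 1 re = 1 then spinor Q 1 else spinor Q 1 * dickson hB
  have hne : spinor Q 1 ry ≠ spinor Q 1 re := fun h => hyc (by
    obtain ⟨k, hk⟩ := (hsp _ _ _ _ hry hre).1 h
    obtain ⟨l, hl⟩ := hec
    exact ⟨k * l / Q e, by field_simp; linear_combination Q e * c * hk + k * k * hl⟩)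
  have hχ : ∀ (u : ι → F) (s : Grp Q), IsRefl u s →
      χ s = spinor Q 1 s * spinor Q 1 re := by
    intro u s hs
    by_cases h : spinor Q 1 re = 1
    · simp only [χ, if_pos h]; rw [h, mul_one]
    · simp only [χ, if_neg h, MonoidHom.mul_apply, dickson_refl hB hs]
      rw [(Int.units_eq_one_or _).resolve_left h]
  have hχy : χ ry = -1 := by
    rw [hχ y ry hry]
    rcases Int.units_eq_one_or (spinor Q 1 re) with h | h <;>
      rcases Int.units_eq_one_or (spinor Q 1 ry) with h' | h' <;> simp [h, h'] at hne ⊢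
  have hXle : ClassRefl Q c ≤ χ.ker := (Subgroup.closure_le _).2 fun s ⟨u, hs, hu⟩ => by
    have h : spinor Q 1 s = spinor Q 1 re := (hsp _ _ _ _ hs hre).2 (by
      obtain ⟨k, hk⟩ := hu
      obtain ⟨l, hl⟩ := hec
      exact ⟨k * l / c, by field_simp; linear_combination Q e * c * hk + k * k * hl⟩)
    rw [SetLike.mem_coe, MonoidHom.mem_ker, hχ u s hs, h, Int.units_mul_self]
  have hall : ∀ g : Grp Q, g ∈ ClassRefl Q c ∨ g * ry ∈ ClassRefl Q c := by
    have hq : Module.finrank F (ι → F) = 4 → Nat.card F ≠ 2 := fun _ e' => h2 (by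
      cases nonempty_fintype F
      rw [Nat.card_eq_fintype_card] at e'
      have := FiniteField.cast_card_eq_zero F
      rwa [e', Nat.cast_ofNat] at this)
    intro g
    have hg : g ∈ Refl Q := by rw [refl_eq_top hB hq]; trivial
    have hyy : ry * ry = 1 := refl_mul_self hry
    induction hg using Subgroup.closure_induction with
    | mem s hs =>
        obtain ⟨u, hs⟩ := hs
        by_cases h : IsSquare (Q u * c)
        · exact Or.inl (Subgroup.subset_closure ⟨u, hs, h⟩)
        right
        have huy : IsSquare (Q y * Q u) := by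
          rw [isSquare_mul_iff hy]
          right
          rw [isSquare_mul_iff hs.1] at h
          rw [isSquare_mul_iff hy] at hyc
          simp only [hc, false_or] at h hyc
          tauto
        obtain ⟨k, hk⟩ := huy
        have hk0 : k / Q u ≠ 0 :=
          div_ne_zero (fun e' => mul_ne_zero hy hs.1 (by rw [hk, e', mul_zero])) hs.1
        have hq2 : Q ((k / Q u) • u) = Q y := by
          have := hs.1
          rw [q_smul]; field_simp; linear_combination -hk
        exact mul_mem_classRefl hB h2 hn hc hyc (refl_smul hs hk0) hry hq2 rfl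
    | one => exact Or.inl (one_mem _)
    | mul a b _ _ ha hb =>
        rcases ha with ha | ha <;> rcases hb with hb | hb
        · exact Or.inl (mul_mem ha hb)
        · exact Or.inr (by rw [mul_assoc]; exact mul_mem ha hb)
        · refine Or.inr ?_
          have := mul_mem ha ((classRefl_normal c).conj_mem b hb ry)
          rw [refl_inv hry] at this
          rwa [show a * ry * (ry * b * ry) = a * b * ry by
            simp [mul_assoc, ← mul_assoc ry ry, hyy]] at this
        · refine Or.inl ?_
          have := mul_mem ha ((classRefl_normal c).conj_mem (b * ry) hb ry)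
          rw [refl_inv hry] at this
          rwa [show a * ry * (ry * (b * ry) * ry) = a * b by
            simp [mul_assoc, ← mul_assoc ry ry, hyy]] at this
    | inv a _ ha =>
        rcases ha with ha | ha
        · exact Or.inl (inv_mem ha)
        · refine Or.inr ?_
          have := (classRefl_normal c).conj_mem _ (inv_mem ha) ry
          rw [refl_inv hry, _root_.mul_inv_rev, refl_inv hry, ← mul_assoc ry ry, hyy, one_mul] at this
          exact this
  have heq : ClassRefl Q c = χ.ker := le_antisymm hXle fun g hg => by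
    rcases hall g with h | h
    · exact h
    · have := MonoidHom.mem_ker.1 (hXle h)
      rw [map_mul, MonoidHom.mem_ker.1 hg, one_mul, hχy] at this
      exact absurd this (by decide)
  have htop : χ.range = ⊤ := eq_top_iff.2 fun z _ => by
    rcases Int.units_eq_one_or z with rfl | rfl
    · exact one_mem _
    · exact ⟨ry, hχy⟩
  rw [heq, Subgroup.index_ker, htop, Subgroup.card_top, Nat.card_eq_fintype_card]
  rfl

end CfsgLib.Orth
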