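import Cfsg.Agent.Lib.Classical.OrthDecompNotMax
import Cfsg.Agent.Lib.Classical.OrthFix

set_option autoImplicit false
set_option linter.unusedSectionVars false

/-!
Over very small fields, stabilisers of decompositions into orthogonal planes or hyperbolic four-spaces
are not maximal: they stabilise a set of vectors whose stabiliser is bigger.
-/

namespace CfsgLib.Orth.DecompNotMax

open Matrix

variable {F : Type*} [Field F] [Finite F] {ι : Type} [Fintype ι] [DecidableEq ι]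
variable {Q : QuadraticForm F (ι → F)} {t k : ℕ} {D : Fin t → Submodule F (ι → F)}

set_option quotPrecheck false in
local notation "B" => QuadraticMap.polar (DFunLike.coe Q)

/-- A set of vectors invariant under the stabiliser, a further element of `Ω` preserving it, and two
vectors of equal norm inside and outside. -/
theorem between_of_set (hB : Nondeg Q) (hn : 5 ≤ Module.finrank F (ι → F)) (T : Set (ι → F))
    (hT : ∀ g : Grp Q, (g : GL ι F) ∈ Cfsg.Geo.decompositionStabilizer D → ∀ v ∈ T, ap g v ∈ T)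
    {k : Grp Q} (hk : k ∈ Cfsg.Omega F ⇑Q) (hkT : ∀ v ∈ T, ap k v ∈ T)
    (hkD : (k : GL ι F) ∉ Cfsg.Geo.decompositionStabilizer D)
    {v w : ι → F} (hv : v ∈ T) (hv0 : v ≠ 0) (hw : w ∉ T) (hw0 : w ≠ 0) (hvw : Q v = Q w) :
    ∃ K : Subgroup (GL ι F), Cfsg.Geo.decompositionStabilizer D ⊓ Cfsg.Geo.omegaGL ⇑Q < K ∧
      K < Cfsg.Geo.omegaGL ⇑Q := by
  have hiff : ∀ g : Grp Q, (∀ v ∈ T, ap g v ∈ T) → ∀ v, v ∈ T ↔ ap g v ∈ T := by
    intro g hg v
    refine ⟨hg v, fun h => ?_⟩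
    haveI := Fintype.ofFinite (ι → F)
    obtain ⟨⟨y, hy⟩, e⟩ := (Finite.injective_iff_surjective.1
      (fun a b e => Subtype.ext (ap_inj g (congrArg Subtype.val e)) :
        Function.Injective fun x : T => (⟨ap g x, hg x x.2⟩ : T))) ⟨_, h⟩
    exact ap_inj g (congrArg Subtype.val e) ▸ hy
  let S : Subgroup (Grp Q) :=
    { carrier := {g | ∀ v, v ∈ T ↔ ap g v ∈ T}
      one_mem' := fun v => by rw [ap_one]
      mul_mem' := fun {a b} ha hb v => by rw [ap_mul, ← ha, ← hb]
      inv_mem' := fun {a} ha v => by rw [ha (ap a⁻¹ v), ap_ap_inv] }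
  have hinj := (Cfsg.isometryGroup F ⇑Q).subtype_injective
  refine ⟨(S ⊓ Cfsg.Omega F ⇑Q).map (Cfsg.isometryGroup F ⇑Q).subtype,
    lt_of_le_not_ge ?_ fun hge => hkD (hge ⟨k, ⟨hiff k hkT, hk⟩, rfl⟩).1, ?_⟩
  · rintro g ⟨hg1, s, hs, rfl⟩
    exact ⟨s, ⟨hiff s (hT s hg1), hs⟩, rfl⟩
  · refine (Subgroup.map_lt_map_iff_of_injective hinj).2 (lt_of_le_not_ge inf_le_right fun hge => hw ?_)
    obtain ⟨e, he, hev⟩ := exists_move_vec hB hn hv0 hw0 hvw
    rw [← omega_eq_El hB hn] at he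
    exact hev ▸ ((hge he).1 v).1 hv

section Members

variable (hD : Cfsg.Geo.IsOrthogonalMDecomposition ⇑Q k D)

include hD

theorem horth {i j : Fin t} (hij : i ≠ j) {x y : ι → F} (hx : x ∈ D i) (hy : y ∈ D j) : B x y = 0 :=
  hD.decomp.orthogonal i j hij x hx y hy

theorem member_nondeg (i : Fin t) : NondegOn Q (D i) := nondegOn_of (hD.decomp.nondegenerate i)

/-- Data of one member transported to all. -/
theorem exists_transport (i₀ : Fin t) : ∃ φ : Fin t → (ι → F) → (ι → F), ∀ i, ∀ x ∈ D i₀,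
    φ i x ∈ D i ∧ Q (φ i x) = Q x ∧ ∀ y ∈ D i₀, B (φ i x) (φ i y) = B x y := by
  classical
  choose e he using fun i => hD.isometric i₀ i
  refine ⟨fun i x => if h : x ∈ D i₀ then (e i ⟨x, h⟩ : ι → F) else 0, fun i x hx => ?_⟩
  have hq : ∀ z (hz : z ∈ D i₀), Q (e i ⟨z, hz⟩ : ι → F) = Q z := fun z hz => he i ⟨z, hz⟩
  simp only [dif_pos hx]
  refine ⟨(e i _).2, hq x hx, fun y hy => ?_⟩
  simp only [dif_pos hy]
  unfold QuadraticMap.polar
  rw [← Submodule.coe_add, ← map_add, hq x hx, hq y hy]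
  exact congrArg (· - Q x - Q y) (hq (x + y) _)

theorem mem_of_map {g : Grp Q} (hg : (g : GL ι F) ∈ Cfsg.Geo.decompositionStabilizer D) (i : Fin t) :
    ∃ j, ∀ x ∈ D i, ap g x ∈ D j := by
  obtain ⟨σ, hσ⟩ := hg
  exact ⟨σ i, fun x hx => hσ i ▸ ⟨x, hx, rfl⟩⟩

/-- Members meet only in zero. -/
theorem eq_of_mem {i j : Fin t} {x : ι → F} (hx : x ∈ D i) (hx' : x ∈ D j) (hx0 : x ≠ 0) : i = j := by
  by_contra hij
  exact hx0 (member_nondeg hD i x hx fun y hy => horth hD (Ne.symm hij) hx' hy)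

theorem finrank_eq_mul : Module.finrank F (ι → F) ≤ t * k := by
  have h1 := hD.decomp.decomp.iSup_eq_top
  have h3 : Module.finrank F ↥(iSup D) ≤ ∑ i, Module.finrank F (D i) := by
    rw [show iSup D = Finset.univ.sup D from (Finset.sup_univ_eq_iSup D).symm]
    clear h1
    induction (Finset.univ : Finset (Fin t)) using Finset.induction_on with
    | empty => simp
    | @insert a s ha ih =>
      rw [Finset.sup_insert, Finset.sum_insert ha]
      exact (Submodule.finrank_add_le_finrank_add_finrank _ _).trans (Nat.add_le_add_left ih _)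
  rw [h1, finrank_top, Finset.sum_congr rfl fun i _ => hD.decomp.decomp.finrank_eq i,
    Finset.sum_const, Finset.card_univ, Fintype.card_fin, smul_eq_mul] at h3
  exact h3

/-- A vector of given norm outside all members. -/
theorem exists_outside (hk : 2 ≤ k) {a b c : Fin t} (hab : a ≠ b) (hac : a ≠ c) (hbc : b ≠ c)
    {x : ι → F} (hx : x ∈ D a) (hx0 : x ≠ 0) : ∃ w, w ≠ 0 ∧ Q w = Q x ∧ ∀ i, w ∉ D i := by
  have h3 : 3 ≤ Module.finrank F ↥(D b ⊔ D c) := by
    have h := Submodule.finrank_sup_add_finrank_inf_eq (D b) (D c)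
    have h0 : D b ⊓ D c = ⊥ := (Submodule.eq_bot_iff _).2 fun z hz => by
      by_contra hz0
      exact hbc (eq_of_mem hD hz.1 hz.2 hz0)
    rw [h0, finrank_bot, hD.decomp.decomp.finrank_eq, hD.decomp.decomp.finrank_eq] at h
    omega
  obtain ⟨s, hs, hs0, hsq⟩ := exists_singular (Q := Q) h3
  obtain ⟨p, hp, r, hr, rfl⟩ := Submodule.mem_sup.1 hs
  have hperp : ∀ y ∈ D a, B y (p + r) = 0 := fun y hy => by
    rw [b_add_right, horth hD hab hy hp, horth hD hac hy hr, add_zero]
  obtain ⟨y, hy, hxy⟩ : ∃ y ∈ D a, B x y ≠ 0 := by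
    by_contra hcon
    push Not at hcon
    exact hx0 (member_nondeg hD a x hx hcon)
  refine ⟨x + (p + r), fun e => ?_, by rw [q_add, hsq, hperp x hx, add_zero, add_zero], fun i hi => ?_⟩
  · have := congrArg (fun z => B y z) e
    simp only [b_add_right, horth hD hab hy hp, horth hD hac hy hr, b_zero_right, add_zero] at this
    exact hxy (by rw [b_comm]; exact this)
  · rcases eq_or_ne i a with rfl | hia
    · refine hs0 (member_nondeg hD i (p + r) ((add_sub_cancel_left x (p + r)) ▸ sub_mem hi hx) fun z hz => ?_)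
      rw [b_comm, hperp z hz]
    · have h := horth hD hia hi hy
      rw [b_comm, b_add_right, hperp y hy, add_zero, b_comm] at h
      exact hxy h

end Members

/-- Odd fields: exchanging vectors of two members by a reflection. -/
theorem between_odd (hB : Nondeg Q) (hn : 5 ≤ Module.finrank F (ι → F)) (h2 : (2 : F) ≠ 0) (hk : 2 ≤ k)
    (hD : Cfsg.Geo.IsOrthogonalMDecomposition ⇑Q k D) (ht : 5 ≤ t) {δ ε ζ : F} (hδ : δ ≠ 0)
    (hε : ε ≠ 0) (hζ : ζ ≠ 0) (a u z : Fin t → ι → F)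
    (ha : ∀ i, a i ∈ D i ∧ Q (a i) = δ) (hu : ∀ i, u i ∈ D i ∧ Q (u i) = ε)
    (hz : ∀ i, z i ∈ D i ∧ Q (z i) = ζ ∧ B (u i) (z i) = 0)
    (hcases : ∀ i, ∀ v ∈ D i, Q v = δ → B v (u i) = 0 ∨ v = u i ∨ v = -(u i)) :
    ∃ K : Subgroup (GL ι F), Cfsg.Geo.decompositionStabilizer D ⊓ Cfsg.Geo.omegaGL ⇑Q < K ∧
      K < Cfsg.Geo.omegaGL ⇑Q := by
  classical
  let c : Fin 5 → Fin t := fun i => ⟨i, by omega⟩
  have hc : Function.Injective c := fun i j h => Fin.ext (congrArg Fin.val h : _)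
  have h2ε : 2 * ε ≠ 0 := mul_ne_zero h2 hε
  have hd : ∀ i j, i ≠ j → Q (u i - u j) = 2 * ε := fun i j hij => by
    rw [q_sub, (hu i).2, (hu j).2, horth hD hij (hu i).1 (hu j).1]
    ring
  have hne : ∀ {x : ι → F} {e : F}, Q x = e → e ≠ 0 → x ≠ 0 := fun h h0 e => h0 (by rw [← h, e, QuadraticMap.map_zero])
  let T : Set (ι → F) := {v | ∃ i, v ∈ D i ∧ Q v = δ}
  have hTg : ∀ g : Grp Q, (g : GL ι F) ∈ Cfsg.Geo.decompositionStabilizer D → ∀ v ∈ T, ap g v ∈ T := by
    rintro g hg v ⟨i, hi, hv⟩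
    obtain ⟨j, hj⟩ := mem_of_map hD hg i
    exact ⟨j, hj v hi, by rw [ap_q, hv]⟩
  have hr : ∀ i j, i ≠ j → ∀ r : Grp Q, IsRefl (u i - u j) r → ∀ v ∈ T, ap r v ∈ T := by
    rintro i j hij r hr v ⟨l, hl, hv⟩
    rw [hr.2, hd i j hij, b_sub_left]
    rcases eq_or_ne l i with rfl | hli
    · rw [horth hD hij.symm (hu j).1 hl, sub_zero]
      rcases hcases l v hl hv with h | rfl | rfl
      · rw [b_comm, h, mul_zero, zero_smul, sub_zero]; exact ⟨l, hl, hv⟩
      · rw [b_self, (hu l).2, inv_mul_cancel₀ h2ε, one_smul, sub_sub_cancel]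
        exact ⟨j, (hu j).1, by rw [(hu j).2, ← hv, (hu l).2]⟩
      · rw [← neg_one_smul F (u l), b_smul_right, b_self, (hu l).2, mul_left_comm,
          inv_mul_cancel₀ h2ε, mul_one, neg_one_smul, neg_one_smul,
          show -u l - -(u l - u j) = -u j by abel]
        rw [QuadraticMap.map_neg, (hu l).2] at hv
        exact ⟨j, (D j).neg_mem (hu j).1, by rw [QuadraticMap.map_neg, (hu j).2, hv]⟩
    rcases eq_or_ne l j with rfl | hlj
    · rw [horth hD hij (hu i).1 hl, zero_sub]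
      rcases hcases l v hl hv with h | rfl | rfl
      · rw [b_comm, h, neg_zero, mul_zero, zero_smul, sub_zero]; exact ⟨l, hl, hv⟩
      · rw [b_self, (hu l).2, mul_neg, inv_mul_cancel₀ h2ε, neg_one_smul, sub_neg_eq_add, add_sub_cancel]
        exact ⟨i, (hu i).1, by rw [(hu i).2, ← hv, (hu l).2]⟩
      · rw [← neg_one_smul F (u l), b_smul_right, b_self, (hu l).2, neg_one_mul, neg_neg,
          inv_mul_cancel₀ h2ε, one_smul, neg_one_smul, show -u l - (u i - u l) = -u i by abel]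
        rw [QuadraticMap.map_neg, (hu l).2] at hv
        exact ⟨i, (D i).neg_mem (hu i).1, by rw [QuadraticMap.map_neg, (hu i).2, hv]⟩
    rw [horth hD hli.symm (hu i).1 hl, horth hD hlj.symm (hu j).1 hl, sub_zero, mul_zero, zero_smul,
      sub_zero]
    exact ⟨l, hl, hv⟩
  have h01 : c 0 ≠ c 1 := by simp [hc.eq_iff]
  have h23 : c 2 ≠ c 3 := by simp [hc.eq_iff]
  have h02 : c 0 ≠ c 2 := by simp [hc.eq_iff]
  have h03 : c 0 ≠ c 3 := by simp [hc.eq_iff]
  obtain ⟨r, hr'⟩ := exists_refl hB (v := u (c 0) - u (c 1)) (by rw [hd _ _ h01]; exact h2ε)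
  obtain ⟨s, hs⟩ := exists_refl hB (v := u (c 2) - u (c 3)) (by rw [hd _ _ h23]; exact h2ε)
  have hinv : ∀ x, ap r⁻¹ x = ap r x := fun x => by
    apply ap_inj r
    rw [ap_ap_inv, hr'.2, hr'.2 x, b_sub_right, b_smul_right, b_self, hd _ _ h01]
    match_scalars <;> field_simp <;> ring
  have hk' : r⁻¹ * s ∈ Cfsg.Omega F ⇑Q :=
    QuotientGroup.eq.1 (mk_refl_of_square hB h2 hr' hs ⟨2 * ε, by rw [hd _ _ h01, hd _ _ h23]⟩)
  have hs0 : ∀ x ∈ D (c 0), ap s x = x := fun x hx => by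
    rw [hs.2, b_sub_left, horth hD h02.symm (hu _).1 hx, horth hD h03.symm (hu _).1 hx, sub_zero,
      mul_zero, zero_smul, sub_zero]
  obtain ⟨w, hw0, hwq, hw⟩ := exists_outside hD hk h01 h02 (show c 1 ≠ c 2 by simp [hc.eq_iff])
    (ha (c 0)).1 (hne (ha (c 0)).2 hδ)
  refine between_of_set hB hn T hTg hk' (fun v hv => ?_) (fun hmem => ?_) (v := a (c 0)) (w := w)
    ⟨c 0, (ha _).1, (ha _).2⟩ (hne (ha (c 0)).2 hδ) (fun ⟨i, hi, _⟩ => hw i hi) hw0 hwq.symm
  · rw [ap_mul, hinv]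
    exact hr _ _ h01 r hr' _ (hr _ _ h23 s hs v hv)
  · obtain ⟨l, hl⟩ := mem_of_map hD hmem (c 0)
    have e0 := hl _ (hu (c 0)).1
    have e1 := hl _ (hz (c 0)).1
    rw [ap_mul, hs0 _ (hu (c 0)).1, hinv, hr'.2, b_sub_left, b_self, (hu (c 0)).2,
      horth hD h01.symm (hu _).1 (hu (c 0)).1, sub_zero, hd _ _ h01, inv_mul_cancel₀ h2ε, one_smul,
      sub_sub_cancel] at e0
    rw [ap_mul, hs0 _ (hz (c 0)).1, hinv, hr'.2, b_sub_left, (hz (c 0)).2.2,
      horth hD h01.symm (hu _).1 (hz (c 0)).1, sub_zero, mul_zero, zero_smul, sub_zero] at e1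
    exact h01 ((eq_of_mem hD (hz _).1 e1 (hne (hz _).2.1 hζ)).trans
      (eq_of_mem hD (hu _).1 e0 (hne (hu _).2 hε)).symm)

/-- A plane either contains a singular vector or, over three elements, an orthogonal pair of equal norm. -/
theorem plane_cases (hq : Nat.card F = 3) {W : Submodule F (ι → F)} (hW : NondegOn Q W)
    (h2W : Module.finrank F W = 2) :
    (∃ e ∈ W, e ≠ 0 ∧ Q e = 0) ∨ ∃ a ∈ W, ∃ b ∈ W, Q a ≠ 0 ∧ Q b = Q a ∧ B a b = 0 := by
  by_cases hs : ∃ e ∈ W, e ≠ 0 ∧ Q e = 0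
  · exact Or.inl hs
  push Not at hs
  right
  have three := three_zero hq
  obtain ⟨a, ha, ha0⟩ : ∃ a ∈ W, a ≠ 0 := W.exists_mem_ne_zero_of_ne_bot fun e => by
    rw [e, finrank_bot] at h2W; omega
  obtain ⟨b, hb, hb0⟩ : ∃ b ∈ W ⊓ LinearMap.ker (QuadraticMap.polarBilin Q a), b ≠ 0 :=
    Submodule.exists_mem_ne_zero_of_ne_bot fun e => by
      have h1 := LinearMap.finrank_range_add_finrank_ker ((QuadraticMap.polarBilin Q a).comp W.subtype)
      have h2 := Submodule.finrank_le (LinearMap.range ((QuadraticMap.polarBilin Q a).comp W.subtype))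
      rw [Module.finrank_self] at h2
      rw [LinearMap.ker_comp, ← Submodule.finrank_map_subtype_eq, Submodule.map_comap_subtype, e,
        finrank_bot] at h1
      omega
  have hab : B a b = 0 := hb.2
  refine ⟨a, ha, b, hb.1, hs a ha ha0, ?_, hab⟩
  by_contra hne
  have hA := sq_eq_one hq (hs a ha ha0)
  have hC := sq_eq_one hq (hs b hb.1 hb0)
  have hsum : Q a + Q b = 0 := by
    have h : (Q b - Q a) * (Q b + Q a) = 0 := by linear_combination hC - hA
    linear_combination (mul_eq_zero.1 h).resolve_left (sub_ne_zero.2 hne)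
  have hab0 : a + b ≠ 0 := fun e => hs a ha ha0 (by
    have h1 : b = -a := eq_neg_of_add_eq_zero_right e
    rw [h1, ← neg_one_smul F a, b_smul_right, b_self] at hab
    have h2 : (2 : F) ≠ 0 := fun e => one_ne_zero (α := F) (by linear_combination three - e)
    simpa [h2] using hab)
  exact hs (a + b) (W.add_mem ha hb.1) hab0 (by rw [q_add, hab, add_zero, hsum])

/-- A hyperbolic basis of a plane. -/
theorem exists_hyp {W : Submodule F (ι → F)} (hW : NondegOn Q W) {e : ι → F} (he : e ∈ W) (he0 : e ≠ 0)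
    (heq : Q e = 0) : ∃ f ∈ W, Q f = 0 ∧ B e f = 1 := by
  obtain ⟨y, hy, hey⟩ : ∃ y ∈ W, B e y ≠ 0 := by
    by_contra hc
    push Not at hc
    exact he0 (hW e he hc)
  obtain ⟨z, hz⟩ : ∃ z, z = (B e y)⁻¹ • y := ⟨_, rfl⟩
  have hez : B e z = 1 := by rw [hz, b_smul_right, inv_mul_cancel₀ hey]
  refine ⟨z - Q z • e, W.sub_mem (hz ▸ W.smul_mem _ hy) (W.smul_mem _ he), ?_, ?_⟩
  · rw [q_sub, q_smul, heq, mul_zero, add_zero, b_smul_right, b_comm z e, hez, mul_one, sub_self]
  · rw [b_sub_right, b_smul_right, hez, b_self_zero heq, mul_zero, sub_zero]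

/-- Two independent vectors span a plane. -/
theorem exists_coords {W : Submodule F (ι → F)} (h2W : Module.finrank F W = 2) {a b : ι → F}
    (ha : a ∈ W) (hb : b ∈ W) (hli : LinearIndependent F ![a, b]) {v : ι → F} (hv : v ∈ W) :
    ∃ x y : F, v = x • a + y • b := by
  have hle : Submodule.span F {a, b} ≤ W := Submodule.span_le.2 (by
    rintro z (rfl | rfl)
    · exact ha
    · exact hb)
  have heq : Submodule.span F {a, b} = W := Submodule.eq_of_le_of_finrank_le hle (by
    rw [h2W, ← Matrix.range_cons_cons_empty, finrank_span_eq_card hli, Fintype.card_fin])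
  rw [← heq] at hv
  obtain ⟨x, y, h⟩ := Submodule.mem_span_pair.1 hv
  exact ⟨x, y, h.symm⟩

theorem li_hyp {e f : ι → F} (he : Q e = 0) (hf : Q f = 0) (hef : B e f = 1) :
    LinearIndependent F ![e, f] := by
  refine LinearIndependent.pair_iff.2 fun x y h => ?_
  have h1 := congrArg (fun z => B e z) h
  have h2 := congrArg (fun z => B f z) h
  simp only [b_add_right, b_smul_right, b_zero_right, b_self_zero he, b_self_zero hf, hef,
    b_comm f e] at h1 h2
  exact ⟨by linear_combination h2, by linear_combination h1⟩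

theorem li_orth (h2 : (2 : F) ≠ 0) {a b : ι → F} (ha : Q a ≠ 0) (hb : Q b ≠ 0) (hab : B a b = 0) :
    LinearIndependent F ![a, b] := by
  refine LinearIndependent.pair_iff.2 fun x y h => ?_
  have h1 := congrArg (fun z => B a z) h
  have h2' := congrArg (fun z => B b z) h
  simp only [b_add_right, b_smul_right, b_zero_right, b_self, hab, b_comm b a] at h1 h2'
  refine ⟨?_, ?_⟩
  · exact (mul_eq_zero.1 (show x * (2 * Q a) = 0 by linear_combination h1)).resolve_right (mul_ne_zero h2 ha)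
  · exact (mul_eq_zero.1 (show y * (2 * Q b) = 0 by linear_combination h2')).resolve_right (mul_ne_zero h2 hb)

/-- Members with an orthogonal pair of equal norm over three or five elements. -/
theorem between_pair (hB : Nondeg Q) (hn : 5 ≤ Module.finrank F (ι → F)) (hq : Nat.card F = 3 ∨ Nat.card F = 5)
    (hD : Cfsg.Geo.IsOrthogonalMDecomposition ⇑Q 2 D) (ht : 5 ≤ t) {i₀ : Fin t} {a b : ι → F}
    (ha : a ∈ D i₀) (hb : b ∈ D i₀) (ha0 : Q a ≠ 0) (hab : Q b = Q a) (horth' : B a b = 0) :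
    ∃ K : Subgroup (GL ι F), Cfsg.Geo.decompositionStabilizer D ⊓ Cfsg.Geo.omegaGL ⇑Q < K ∧
      K < Cfsg.Geo.omegaGL ⇑Q := by
  classical
  haveI : Fintype F := Fintype.ofFinite F
  have hodd : Fintype.card F % 2 = 1 := by rw [← Nat.card_eq_fintype_card]; omega
  have h2 : (2 : F) ≠ 0 := Ring.two_ne_zero fun e => by
    have := FiniteField.even_card_of_char_two e
    omega
  have hsum : ∀ x y : F, x * x + y * y = 1 → (x = 0 ∧ (y = 1 ∨ y = -1)) ∨ y = 0 := by
    intro x y h
    by_cases hy : y = 0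
    · exact Or.inr hy
    by_cases hx : x = 0
    · subst hx
      exact Or.inl ⟨rfl, mul_self_eq_one_iff.1 (by linear_combination h)⟩
    exfalso
    rcases hq with hq | hq
    · exact one_ne_zero (α := F) (by linear_combination h - sq_eq_one hq hx - sq_eq_one hq hy)
    · have h4 : ∀ z : F, z ≠ 0 → z * z = 1 ∨ z * z = -1 := fun z hz => by
        have h := FiniteField.pow_card_sub_one_eq_one z hz
        rw [← Nat.card_eq_fintype_card, hq] at h
        exact mul_self_eq_one_iff.1 (by rw [← h]; ring)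
      have h5 : (5 : F) = 0 := by
        have h := Nat.cast_card_eq_zero F
        rw [← Nat.card_eq_fintype_card, hq] at h
        exact_mod_cast h
      rcases h4 x hx with ex | ex <;> rcases h4 y hy with ey | ey
      · exact one_ne_zero (α := F) (by linear_combination h - ex - ey)
      · exact one_ne_zero (α := F) (by linear_combination ex + ey - h)
      · exact one_ne_zero (α := F) (by linear_combination ex + ey - h)
      · have h3 : (3 : F) = 0 := by linear_combination ex + ey - h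
        exact h2 (by linear_combination h5 - h3)
  obtain ⟨φ, hφ⟩ := exists_transport hD i₀
  refine between_odd hB hn h2 le_rfl hD ht ha0 ha0 ha0 (fun i => φ i a) (fun i => φ i a) (fun i => φ i b)
    (fun i => ⟨(hφ i a ha).1, (hφ i a ha).2.1⟩) (fun i => ⟨(hφ i a ha).1, (hφ i a ha).2.1⟩)
    (fun i => ⟨(hφ i b hb).1, (hφ i b hb).2.1.trans hab, by rw [(hφ i a ha).2.2 b hb, horth']⟩)
    fun i v hv hQv => ?_
  obtain ⟨hA, hQA, hBA⟩ := hφ i a ha
  obtain ⟨hC, hQC, -⟩ := hφ i b hb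
  have hAC : B (φ i a) (φ i b) = 0 := by rw [hBA b hb, horth']
  obtain ⟨x, y, rfl⟩ := exists_coords (hD.decomp.decomp.finrank_eq i) hA hC
    (li_orth h2 (by rw [hQA]; exact ha0) (by rw [hQC, hab]; exact ha0) hAC) hv
  rw [q_add, q_smul, q_smul, b_smul_left, b_smul_right, hAC, hQA, hQC, hab] at hQv
  rcases hsum y x (mul_right_cancel₀ ha0 (by linear_combination hQv)) with ⟨rfl, rfl | rfl⟩ | rfl
  · right; left; rw [one_smul, zero_smul, add_zero]
  · right; right; rw [neg_one_smul, zero_smul, add_zero]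
  · left; rw [zero_smul, zero_add, b_smul_left, b_comm, hAC, mul_zero]

/-- Planes over three elements. -/
theorem between_plane_three (hB : Nondeg Q) (hn : 5 ≤ Module.finrank F (ι → F)) (hq : Nat.card F = 3)
    (hD : Cfsg.Geo.IsOrthogonalMDecomposition ⇑Q 2 D) (ht : 5 ≤ t) :
    ∃ K : Subgroup (GL ι F), Cfsg.Geo.decompositionStabilizer D ⊓ Cfsg.Geo.omegaGL ⇑Q < K ∧
      K < Cfsg.Geo.omegaGL ⇑Q := by
  classical
  have three := three_zero hq
  have h2 : (2 : F) ≠ 0 := fun e => one_ne_zero (α := F) (by linear_combination three - e)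
  let i₀ : Fin t := ⟨0, by omega⟩
  rcases plane_cases hq (member_nondeg hD i₀) (hD.decomp.decomp.finrank_eq i₀) with
    ⟨e, he, he0, heq⟩ | ⟨a, ha, b, hb, ha0, hab, horth'⟩
  · obtain ⟨f, hf, hfq, hef⟩ := exists_hyp (member_nondeg hD i₀) he he0 heq
    obtain ⟨φ, hφ⟩ := exists_transport hD i₀
    have hd : ∀ i, Q (φ i e) = 0 ∧ Q (φ i f) = 0 ∧ B (φ i e) (φ i f) = 1 := fun i =>
      ⟨(hφ i e he).2.1.trans heq, (hφ i f hf).2.1.trans hfq, by rw [(hφ i e he).2.2 f hf, hef]⟩
    refine between_odd hB hn h2 le_rfl hD ht (δ := 1) (ε := -1) (ζ := 1) one_ne_zero (neg_ne_zero.2 one_ne_zero)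
      one_ne_zero (fun i => φ i e + φ i f) (fun i => φ i e - φ i f) (fun i => φ i e + φ i f)
      (fun i => ⟨(D i).add_mem (hφ i e he).1 (hφ i f hf).1, by
        rw [q_add, (hd i).1, (hd i).2.1, (hd i).2.2]; ring⟩)
      (fun i => ⟨(D i).sub_mem (hφ i e he).1 (hφ i f hf).1, by
        rw [q_sub, (hd i).1, (hd i).2.1, (hd i).2.2]; ring⟩)
      (fun i => ⟨(D i).add_mem (hφ i e he).1 (hφ i f hf).1, by
        rw [q_add, (hd i).1, (hd i).2.1, (hd i).2.2]; ring, by
        rw [b_sub_left, b_add_right, b_add_right, b_self_zero (hd i).1, b_self_zero (hd i).2.1,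
          b_comm (φ i f) (φ i e), (hd i).2.2]; ring⟩)
      fun i v hv hQv => Or.inl ?_
    obtain ⟨x, y, rfl⟩ := exists_coords (hD.decomp.decomp.finrank_eq i) (hφ i e he).1 (hφ i f hf).1
      (li_hyp (hd i).1 (hd i).2.1 (hd i).2.2) hv
    rw [q_add, q_smul, q_smul, b_smul_left, b_smul_right, (hd i).1, (hd i).2.1, (hd i).2.2] at hQv
    have hxy : x * y = 1 := by linear_combination hQv
    have hx := sq_eq_one hq (left_ne_zero_of_mul_eq_one hxy)
    have hyx : y = x := by linear_combination x * hxy - y * hx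
    simp only [b_sub_right, b_add_left, b_smul_left, b_self_zero (hd i).1, b_self_zero (hd i).2.1,
      b_comm (φ i f) (φ i e), (hd i).2.2, hyx]
    ring
  · exact between_pair hB hn (Or.inl hq) hD ht ha hb ha0 hab horth'

/-- Hyperbolic planes over five elements. -/
theorem between_plane_five (hB : Nondeg Q) (hn : 5 ≤ Module.finrank F (ι → F)) (hq : Nat.card F = 5)
    (hD : Cfsg.Geo.IsOrthogonalMDecomposition ⇑Q 2 D) (ht : 5 ≤ t)
    (hplus : ∀ i, Cfsg.Geo.IsPlusTypeOn ⇑Q (D i)) :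
    ∃ K : Subgroup (GL ι F), Cfsg.Geo.decompositionStabilizer D ⊓ Cfsg.Geo.omegaGL ⇑Q < K ∧
      K < Cfsg.Geo.omegaGL ⇑Q := by
  have h5 : (5 : F) = 0 := by
    haveI : Fintype F := Fintype.ofFinite F
    have h := Nat.cast_card_eq_zero F
    rw [← Nat.card_eq_fintype_card, hq] at h
    exact_mod_cast h
  let i₀ : Fin t := ⟨0, by omega⟩
  obtain ⟨U, hU, hUq, hUd⟩ := hplus i₀
  rw [hD.decomp.decomp.finrank_eq] at hUd
  obtain ⟨e, he, he0⟩ : ∃ e ∈ U, e ≠ 0 := U.exists_mem_ne_zero_of_ne_bot fun h => by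
    rw [h, finrank_bot] at hUd; omega
  obtain ⟨f, hf, hfq, hef⟩ := exists_hyp (member_nondeg hD i₀) (hU he) he0 (hUq e he)
  refine between_pair hB hn (Or.inr hq) hD ht (a := e + f) (b := (2 : F) • e + (3 : F) • f)
    ((D i₀).add_mem (hU he) hf) ((D i₀).add_mem ((D i₀).smul_mem _ (hU he)) ((D i₀).smul_mem _ hf)) ?_ ?_ ?_
  · rw [q_add, hUq e he, hfq, hef]; norm_num
  · rw [q_add, q_add, q_smul, q_smul, b_smul_left, b_smul_right, hUq e he, hfq, hef]
    linear_combination h5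
  · simp only [b_add_left, b_add_right, b_smul_right, b_self_zero (hUq e he), b_self_zero hfq,
      b_comm f e, hef]
    linear_combination h5

/-- Hyperbolic planes over two or four elements. -/
theorem between_plane_even (hB : Nondeg Q) (hn : 5 ≤ Module.finrank F (ι → F))
    (hq : Nat.card F = 2 ∨ Nat.card F = 4)
    (hD : Cfsg.Geo.IsOrthogonalMDecomposition ⇑Q 2 D) (ht : 7 ≤ t)
    (hplus : ∀ i, Cfsg.Geo.IsPlusTypeOn ⇑Q (D i)) :
    ∃ K : Subgroup (GL ι F), Cfsg.Geo.decompositionStabilizer D ⊓ Cfsg.Geo.omegaGL ⇑Q < K ∧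
      K < Cfsg.Geo.omegaGL ⇑Q := by
  classical
  haveI : Fintype F := Fintype.ofFinite F
  have h2 : (2 : F) = 0 := by
    have h := Nat.cast_card_eq_zero F
    rw [← Nat.card_eq_fintype_card] at h
    rcases hq with hq | hq <;> rw [hq] at h
    · exact_mod_cast h
    · exact mul_self_eq_zero.1 (by rw [show (2 : F) * 2 = ((4 : ℕ) : F) by norm_num]; exact h)
  have hcube : ∀ x : F, x ≠ 0 → x ^ 3 = 1 := fun x hx => by
    have h := FiniteField.pow_card_sub_one_eq_one x hx
    rw [← Nat.card_eq_fintype_card] at h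
    rcases hq with hq | hq <;> rw [hq] at h
    · rw [show x = 1 by simpa using h, one_pow]
    · exact h
  let i₀ : Fin t := ⟨0, by omega⟩
  obtain ⟨U, hU, hUq, hUd⟩ := hplus i₀
  rw [hD.decomp.decomp.finrank_eq] at hUd
  obtain ⟨e₀, he₀, he0⟩ : ∃ e ∈ U, e ≠ 0 := U.exists_mem_ne_zero_of_ne_bot fun h => by
    rw [h, finrank_bot] at hUd; omega
  obtain ⟨f₀, hf₀, hfq, hef⟩ := exists_hyp (member_nondeg hD i₀) (hU he₀) he0 (hUq e₀ he₀)
  obtain ⟨φ, hφ⟩ := exists_transport hD i₀
  have hd : ∀ i, Q (φ i e₀) = 0 ∧ Q (φ i f₀) = 0 ∧ B (φ i e₀) (φ i f₀) = 1 := fun i =>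
    ⟨(hφ i e₀ (hU he₀)).2.1.trans (hUq e₀ he₀), (hφ i f₀ hf₀).2.1.trans hfq,
      by rw [(hφ i e₀ (hU he₀)).2.2 f₀ hf₀, hef]⟩
  let S : Set (ι → F) := {v | ∃ i, v ∈ D i ∧ Q v = 1}
  -- the values of the polar form between unit vectors
  obtain ⟨Φ, hΦ, c, hc, hS⟩ : ∃ Φ : AddSubgroup F, (∀ x ∈ Φ, x = 0 ∨ x = 1) ∧ ∃ c, c ∉ Φ ∧
      ∀ v ∈ S, ∀ w ∈ S, B v w ∈ Φ := by
    have hval : ∀ v ∈ S, ∀ w ∈ S, B v w = 0 ∨ (Nat.card F = 4 ∧ B v w = 1) := by
      rintro v ⟨i, hi, hv⟩ w ⟨j, hj, hw⟩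
      rcases eq_or_ne i j with rfl | hij
      swap
      · exact Or.inl (horth hD hij hi hj)
      have hli := li_hyp (hd i).1 (hd i).2.1 (hd i).2.2
      obtain ⟨x, y, rfl⟩ := exists_coords (hD.decomp.decomp.finrank_eq i) (hφ i e₀ (hU he₀)).1
        (hφ i f₀ hf₀).1 hli hi
      obtain ⟨x', y', rfl⟩ := exists_coords (hD.decomp.decomp.finrank_eq i) (hφ i e₀ (hU he₀)).1
        (hφ i f₀ hf₀).1 hli hj
      rw [q_add, q_smul, q_smul, b_smul_left, b_smul_right, (hd i).1, (hd i).2.1, (hd i).2.2] at hv hw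
      have hxy : x * y = 1 := by linear_combination hv
      have hxy' : x' * y' = 1 := by linear_combination hw
      simp only [b_add_left, b_add_right, b_smul_left, b_smul_right, b_self_zero (hd i).1,
        b_self_zero (hd i).2.1, b_comm (φ i f₀) (φ i e₀), (hd i).2.2, mul_zero, zero_add, add_zero, mul_one]
      set u := x * y'
      have hu : u ≠ 0 := mul_ne_zero (left_ne_zero_of_mul_eq_one hxy) (right_ne_zero_of_mul_eq_one hxy')
      have hinv : u * (y * x') = 1 := by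
        show x * y' * (y * x') = 1
        linear_combination x' * y' * hxy + hxy'
      have h3 := hcube u hu
      have hyx : y * x' = u ^ 2 := mul_left_cancel₀ hu (by rw [hinv, ← h3]; ring)
      rw [show x' * y + y' * x = u + u ^ 2 by rw [← hyx]; ring]
      by_cases hu1 : u = 1
      · exact Or.inl (by rw [hu1]; linear_combination h2)
      · have hu2 : u ^ 2 + u + 1 = 0 := (mul_eq_zero.1
          (show (u - 1) * (u ^ 2 + u + 1) = 0 by linear_combination h3)).resolve_left (sub_ne_zero.2 hu1)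
        refine Or.inr ⟨hq.resolve_left fun hq => hu1 ?_, by linear_combination hu2 - h2⟩
        have h := FiniteField.pow_card_sub_one_eq_one u hu
        rw [← Nat.card_eq_fintype_card, hq] at h
        simpa using h
    rcases hq with hq | hq
    · refine ⟨⊥, fun x hx => Or.inl hx, 1, fun h => one_ne_zero (AddSubgroup.mem_bot.1 h), fun v hv w hw => ?_⟩
      rcases hval v hv w hw with h | ⟨h, -⟩
      · exact h
      · omega
    · refine ⟨AddSubgroup.zmultiples (1 : F), ?_, ?_⟩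
      · rintro x ⟨n, rfl⟩
        obtain ⟨m, rfl | rfl⟩ := Int.even_or_odd' n
        · left; simp [h2]
        · right; simp [h2]
      · obtain ⟨c, hc⟩ : ∃ c : F, c ≠ 0 ∧ c ≠ 1 := by
          by_contra hcon
          push Not at hcon
          have h : (Finset.univ : Finset F) ⊆ {0, 1} := fun x _ => by
            by_cases hx : x = 0
            · simp [hx]
            · simp [hcon x hx]
          have := (Finset.card_le_card h).trans Finset.card_le_two
          rw [Finset.card_univ, ← Nat.card_eq_fintype_card] at this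
          omega
        refine ⟨c, ?_, fun v hv w hw => ?_⟩
        · rintro ⟨n, rfl⟩
          obtain ⟨m, rfl | rfl⟩ := Int.even_or_odd' n
          · exact hc.1 (by simp [h2])
          · exact hc.2 (by simp [h2])
        · rcases hval v hv w hw with h | ⟨-, h⟩ <;> rw [h]
          · exact zero_mem _
          · exact AddSubgroup.mem_zmultiples _
  set T : AddSubgroup (ι → F) := AddSubgroup.closure S
  have hΦT : ∀ x ∈ T, ∀ w ∈ T, B x w ∈ Φ := by
    intro x hx w hw
    induction hx, hw using AddSubgroup.closure_induction₂ with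
    | mem a b ha hb => exact hS a ha b hb
    | zero_left a _ => rw [b_zero_left]; exact zero_mem _
    | zero_right a _ => rw [b_zero_right]; exact zero_mem _
    | add_left a b d _ _ _ h h' => rw [b_add_left]; exact add_mem h h'
    | add_right a b d _ _ _ h h' => rw [b_add_right]; exact add_mem h h'
    | neg_left a b _ _ h => rw [← neg_one_smul F a, b_smul_left, neg_one_mul]; exact neg_mem h
    | neg_right a b _ _ h => rw [← neg_one_smul F b, b_smul_right, neg_one_mul]; exact neg_mem h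
  let v : Fin t → ι → F := fun i => φ i e₀ + φ i f₀
  have hv : ∀ i, v i ∈ D i ∧ Q (v i) = 1 := fun i =>
    ⟨(D i).add_mem (hφ i e₀ (hU he₀)).1 (hφ i f₀ hf₀).1, by
      rw [q_add, (hd i).1, (hd i).2.1, (hd i).2.2]; ring⟩
  let c' : Fin 7 → Fin t := fun i => ⟨i, by omega⟩
  have hc' : Function.Injective c' := fun i j h => Fin.ext (congrArg Fin.val h : _)
  have hbv : ∀ i j : Fin 7, i ≠ j → B (v (c' i)) (v (c' j)) = 0 := fun i j h =>
    horth hD (hc'.ne h) (hv _).1 (hv _).1
  have hQsum : ∀ i j l : Fin 7, i ≠ j → i ≠ l → j ≠ l → Q (v (c' i) + v (c' j) + v (c' l)) = 1 := by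
    intro i j l hij hil hjl
    simp only [q_add, b_add_left, (hv _).2, hbv _ _ hij, hbv _ _ hil, hbv _ _ hjl]
    linear_combination h2
  have hmemT : ∀ i, v i ∈ T := fun i => AddSubgroup.subset_closure ⟨i, hv i⟩
  have hrefl : ∀ (u : ι → F), u ∈ T → Q u = 1 → ∀ r : Grp Q, IsRefl u r → ∀ x ∈ T, ap r x ∈ T := by
    intro u hu hQu r hr x hx
    rw [hr.2, hQu, inv_one, one_mul]
    rcases hΦ _ (hΦT u hu x hx) with h | h <;> rw [h]
    · rw [zero_smul, sub_zero]; exact hx
    · rw [one_smul]; exact sub_mem hx hu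
  have hu := hQsum 0 1 2 (by decide) (by decide) (by decide)
  have hw := hQsum 3 4 5 (by decide) (by decide) (by decide)
  have huT : v (c' 0) + v (c' 1) + v (c' 2) ∈ T := add_mem (add_mem (hmemT _) (hmemT _)) (hmemT _)
  have hwT : v (c' 3) + v (c' 4) + v (c' 5) ∈ T := add_mem (add_mem (hmemT _) (hmemT _)) (hmemT _)
  obtain ⟨r, hr⟩ := exists_refl hB (v := v (c' 0) + v (c' 1) + v (c' 2)) (by rw [hu]; exact one_ne_zero)
  obtain ⟨s, hs⟩ := exists_refl hB (v := v (c' 3) + v (c' 4) + v (c' 5)) (by rw [hw]; exact one_ne_zero)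
  have hinv : ∀ x, ap r⁻¹ x = ap r x := fun x => by
    apply ap_inj r
    rw [ap_ap_inv, hr.2, hr.2 x, b_sub_right, b_smul_right, b_self, hu, inv_one, h2]
    match_scalars
    all_goals
      ring_nf
      try simp [h2]
  have hk : r⁻¹ * s ∈ Cfsg.Omega F ⇑Q :=
    QuotientGroup.eq.1 (refl_coset hB hn hr hs (by rw [hu, hw]; exact ⟨1, rfl⟩))
  have hbe : ∀ j : Fin 7, B (v (c' j)) (φ (c' 0) e₀) = if j = 0 then 1 else 0 := by
    intro j
    split_ifs with h
    · subst h
      simp only [v, b_add_left, b_self_zero (hd _).1, b_comm (φ _ f₀) (φ _ e₀), (hd _).2.2, zero_add]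
    · exact horth hD (hc'.ne h) (hv _).1 (hφ _ e₀ (hU he₀)).1
  have hTg : ∀ g : Grp Q, (g : GL ι F) ∈ Cfsg.Geo.decompositionStabilizer D → ∀ x ∈ (T : Set (ι → F)), ap g x ∈ (T : Set (ι → F)) := by
    intro g hg x hx
    induction hx using AddSubgroup.closure_induction with
    | mem a ha =>
      obtain ⟨i, hi, ha⟩ := ha
      obtain ⟨j, hj⟩ := mem_of_map hD hg i
      exact AddSubgroup.subset_closure ⟨j, hj a hi, by rw [ap_q, ha]⟩
    | zero => rw [← zero_smul F x, ap_smul, zero_smul]; exact zero_mem T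
    | add a b _ _ ha hb => rw [ap_add]; exact add_mem ha hb
    | neg a _ ha => rw [← neg_one_smul F a, ap_smul, neg_one_smul]; exact neg_mem ha
  refine between_of_set hB hn (T : Set (ι → F)) hTg hk (fun x hx => ?_) (fun hmem => ?_)
    (v := v (c' 0)) (w := c • φ (c' 0) e₀ + v (c' 1)) (hmemT _) (fun e => ?_) (fun hT => hc ?_) (fun e => ?_) ?_
  · rw [ap_mul, hinv]
    exact hrefl _ huT hu r hr _ (hrefl _ hwT hw s hs x hx)
  · obtain ⟨l, hl⟩ := mem_of_map hD hmem (c' 0)
    have h := hl _ (hφ _ e₀ (hU he₀)).1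
    rw [ap_mul, hs.2, hw, b_add_left, b_add_left, hbe, hbe, hbe, if_neg (by decide), if_neg (by decide),
      if_neg (by decide), hinv, add_zero, add_zero, mul_zero, zero_smul, sub_zero, hr.2, hu, b_add_left,
      b_add_left, hbe, hbe, hbe, if_pos rfl, if_neg (by decide), if_neg (by decide)] at h
    simp only [inv_one, add_zero, one_mul, one_smul] at h
    have hl1 : ∀ j : Fin 7, (j = 1 ∨ j = 2) → l = c' j := by
      intro j hj
      by_contra hne
      have hp : B (φ (c' j) e₀) (φ (c' 0) e₀ - (v (c' 0) + v (c' 1) + v (c' 2))) = 0 := by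
        rw [b_comm]; exact horth hD hne h (hφ _ e₀ (hU he₀)).1
      rcases hj with rfl | rfl <;>
        simp only [v, b_sub_right, b_add_right, b_self_zero (hd _).1, (hd _).2.2,
          horth hD (hc'.ne (show (1 : Fin 7) ≠ 0 by decide)) (hφ _ e₀ (hU he₀)).1 (hφ _ e₀ (hU he₀)).1,
          horth hD (hc'.ne (show (1 : Fin 7) ≠ 0 by decide)) (hφ _ e₀ (hU he₀)).1 (hφ _ f₀ hf₀).1,
          horth hD (hc'.ne (show (2 : Fin 7) ≠ 0 by decide)) (hφ _ e₀ (hU he₀)).1 (hφ _ e₀ (hU he₀)).1,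
          horth hD (hc'.ne (show (2 : Fin 7) ≠ 0 by decide)) (hφ _ e₀ (hU he₀)).1 (hφ _ f₀ hf₀).1,
          horth hD (hc'.ne (show (1 : Fin 7) ≠ 2 by decide)) (hφ _ e₀ (hU he₀)).1 (hφ _ e₀ (hU he₀)).1,
          horth hD (hc'.ne (show (1 : Fin 7) ≠ 2 by decide)) (hφ _ e₀ (hU he₀)).1 (hφ _ f₀ hf₀).1,
          horth hD (hc'.ne (show (2 : Fin 7) ≠ 1 by decide)) (hφ _ e₀ (hU he₀)).1 (hφ _ e₀ (hU he₀)).1,
          horth hD (hc'.ne (show (2 : Fin 7) ≠ 1 by decide)) (hφ _ e₀ (hU he₀)).1 (hφ _ f₀ hf₀).1,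
          zero_add, add_zero, sub_zero] at hp <;>
        simp at hp
    exact absurd (hc' ((hl1 1 (Or.inl rfl)).symm.trans (hl1 2 (Or.inr rfl)))) (by decide)
  · have := (hv (c' 0)).2; rw [e, QuadraticMap.map_zero] at this; exact one_ne_zero this.symm
  · have h := hΦT _ (hmemT (c' 0)) _ hT
    rwa [b_add_right, b_smul_right, hbe, if_pos rfl, hbv _ _ (by decide), mul_one, add_zero] at h
  · have h := congrArg (fun x => B (v (c' 0)) x) e
    simp only [b_add_right, b_smul_right, hbe, hbv 0 1 (by decide), b_zero_right] at h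
    simp only [↓reduceIte, mul_one, add_zero] at h
    exact hc (h ▸ zero_mem _)
  · rw [(hv _).2, q_add, q_smul, (hd _).1, (hv _).2, b_smul_left, b_comm, hbe, if_neg (by decide)]
    ring

/-- Hyperbolic four-spaces over two elements. -/
theorem between_four_two (hB : Nondeg Q) (hn : 5 ≤ Module.finrank F (ι → F)) (hq : Nat.card F = 2)
    (hD : Cfsg.Geo.IsOrthogonalMDecomposition ⇑Q 4 D) (ht : 3 ≤ t)
    (hplus : ∀ i, Cfsg.Geo.IsPlusTypeOn ⇑Q (D i)) :
    ∃ K : Subgroup (GL ι F), Cfsg.Geo.decompositionStabilizer D ⊓ Cfsg.Geo.omegaGL ⇑Q < K ∧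
      K < Cfsg.Geo.omegaGL ⇑Q := by
  classical
  haveI : Fintype F := Fintype.ofFinite F
  have h2 : (2 : F) = 0 := by
    have h := Nat.cast_card_eq_zero F
    rw [← Nat.card_eq_fintype_card, hq] at h
    exact_mod_cast h
  have hbool : ∀ x : F, x = 0 ∨ x = 1 := fun x => by
    by_cases hx : x = 0
    · exact Or.inl hx
    · have h := FiniteField.pow_card_sub_one_eq_one x hx
      rw [← Nat.card_eq_fintype_card, hq] at h
      exact Or.inr (by simpa using h)
  let i₀ : Fin t := ⟨0, by omega⟩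
  set W := D i₀
  have hW := member_nondeg hD i₀
  obtain ⟨U, hU, hUq, hUd⟩ := hplus i₀
  rw [hD.decomp.decomp.finrank_eq] at hUd
  -- a hyperbolic basis
  obtain ⟨e₁, he₁, he₁0⟩ : ∃ e ∈ U, e ≠ 0 := U.exists_mem_ne_zero_of_ne_bot fun h => by
    rw [h, finrank_bot] at hUd; omega
  obtain ⟨f₁, hf₁, hf₁q, hef₁⟩ := exists_hyp hW (hU he₁) he₁0 (hUq e₁ he₁)
  obtain ⟨y, hy, hy'⟩ : ∃ y ∈ U, y ∉ Submodule.span F {e₁} := SetLike.not_le_iff_exists.1 fun hle => by
    have := Submodule.finrank_mono hle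
    rw [finrank_span_singleton he₁0] at this
    omega
  set e₂ := y - B f₁ y • e₁
  have he₂ : e₂ ∈ U := U.sub_mem hy (U.smul_mem _ he₁)
  have he₂0 : e₂ ≠ 0 := fun h => hy' (by
    rw [sub_eq_zero.1 h]; exact Submodule.smul_mem _ _ (Submodule.mem_span_singleton_self _))
  have hUU : ∀ a ∈ U, ∀ b ∈ U, B a b = 0 := fun a ha b hb => le_orth_of_singular hUq hb a ha
  have h21 : B e₂ f₁ = 0 := by
    rw [b_comm, b_sub_right, b_smul_right, b_comm f₁ e₁, hef₁, mul_one, sub_self]
  obtain ⟨g₂, hg₂, hg₂q, heg₂⟩ := exists_hyp hW (hU he₂) he₂0 (hUq e₂ he₂)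
  set f₂ := g₂ - B f₁ g₂ • e₁ - B e₁ g₂ • f₁ + (B f₁ g₂ * B e₁ g₂) • e₂
  have hf₂ : f₂ ∈ W := W.add_mem (W.sub_mem (W.sub_mem hg₂ (W.smul_mem _ (hU he₁))) (W.smul_mem _ hf₁))
    (W.smul_mem _ (hU he₂))
  have he11 : B e₁ e₁ = 0 := b_self_zero (hUq _ he₁)
  have hf11 : B f₁ f₁ = 0 := b_self_zero hf₁q
  have he22 : B e₂ e₂ = 0 := b_self_zero (hUq _ he₂)
  have he12 : B e₁ e₂ = 0 := hUU _ he₁ _ he₂
  have he21 : B e₂ e₁ = 0 := hUU _ he₂ _ he₁
  have hfe₁ : B f₁ e₁ = 1 := by rw [b_comm, hef₁]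
  have hfe₂ : B f₁ e₂ = 0 := by rw [b_comm, h21]
  have h1f2 : B e₁ f₂ = 0 := by
    simp only [f₂, b_add_right, b_sub_right, b_smul_right, he11, hef₁, he12]; ring
  have hf1f2 : B f₁ f₂ = 0 := by
    simp only [f₂, b_add_right, b_sub_right, b_smul_right, hfe₁, hf11, hfe₂]; ring
  have h2f2 : B e₂ f₂ = 1 := by
    simp only [f₂, b_add_right, b_sub_right, b_smul_right, he21, h21, he22, heg₂]; ring
  have hf₂q : Q f₂ = 0 := by
    simp only [f₂, q_add, q_sub, q_smul, b_sub_left, b_smul_left, b_smul_right, b_sub_right,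
      hUq _ he₁, hf₁q, hg₂q, hUq _ he₂, he11, hef₁, he12, hfe₂, b_comm g₂ e₁, b_comm g₂ f₁, b_comm g₂ e₂, heg₂]
    ring
  set a := e₁ + f₁
  set b := e₁ + e₂ + f₂
  set c := e₂ + f₂
  set d := e₂ + e₁ + f₁
  have ha : a ∈ W ∧ Q a = 1 := ⟨W.add_mem (hU he₁) hf₁, by rw [q_add, hUq _ he₁, hf₁q, hef₁]; ring⟩
  have hb : b ∈ W ∧ Q b = 1 := ⟨W.add_mem (W.add_mem (hU he₁) (hU he₂)) hf₂, by
    simp only [b, q_add, b_add_left, hUq _ he₁, hUq _ he₂, hf₂q, he12, h1f2, h2f2]; ring⟩
  have hc : c ∈ W ∧ Q c = 1 := ⟨W.add_mem (hU he₂) hf₂, by rw [q_add, hUq _ he₂, hf₂q, h2f2]; ring⟩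
  have hd : d ∈ W ∧ Q d = 1 := ⟨W.add_mem (W.add_mem (hU he₂) (hU he₁)) hf₁, by
    simp only [d, q_add, b_add_left, hUq _ he₁, hUq _ he₂, hf₁q, he21, h21, hef₁]; ring⟩
  have hab : B a b = 1 := by
    simp only [a, b, b_add_left, b_add_right, he11, he12, h1f2, hfe₁, hfe₂, hf1f2]; ring
  have hac : B a c = 0 := by
    simp only [a, c, b_add_left, b_add_right, he12, h1f2, hfe₂, hf1f2]; ring
  have had : B a d = 0 := by
    simp only [a, d, b_add_left, b_add_right, he11, he12, hef₁, hfe₁, hfe₂, hf11]; linear_combination h2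
  have hbc : B b c = 0 := by
    simp only [b, c, b_add_left, b_add_right, he12, h1f2, he22, h2f2, b_comm f₂ e₂, b_self_zero hf₂q]
    linear_combination h2
  have hbd : B b d = 0 := by
    simp only [b, d, b_add_left, b_add_right, he12, he11, hef₁, he22, he21, h21, b_comm f₂ e₂, h2f2,
      b_comm f₂ e₁, h1f2, b_comm f₂ f₁, hf1f2]
    linear_combination h2
  have hcd : B c d = 1 := by
    simp only [c, d, b_add_left, b_add_right, he22, he21, h21, b_comm f₂ e₂, h2f2, b_comm f₂ e₁, h1f2,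
      b_comm f₂ f₁, hf1f2]
    ring
  obtain ⟨φ, hφ⟩ := exists_transport hD i₀
  -- the four vectors span each member
  have hcases : ∀ i, ∀ x ∈ D i, Q x = 1 →
      x = φ i a ∨ x = φ i b ∨ x = φ i a + φ i b ∨ (B x (φ i a) = 0 ∧ B x (φ i b) = 0) := by
    intro i x hx hxq
    obtain ⟨mA, qA, bA⟩ := hφ i a ha.1
    obtain ⟨mb, qb, bb⟩ := hφ i b hb.1
    obtain ⟨mc, qc, bc⟩ := hφ i c hc.1
    obtain ⟨md, qd, bd⟩ := hφ i d hd.1
    set A := φ i a
    set B' := φ i b
    set C := φ i c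
    set E := φ i d
    have eAA : B A A = 0 := by rw [b_self, h2, zero_mul]
    have eBB : B B' B' = 0 := by rw [b_self, h2, zero_mul]
    have eCC : B C C = 0 := by rw [b_self, h2, zero_mul]
    have eEE : B E E = 0 := by rw [b_self, h2, zero_mul]
    have eAB : B A B' = 1 := by rw [bA b hb.1, hab]
    have eAC : B A C = 0 := by rw [bA c hc.1, hac]
    have eAE : B A E = 0 := by rw [bA d hd.1, had]
    have eBC : B B' C = 0 := by rw [bb c hc.1, hbc]
    have eBE : B B' E = 0 := by rw [bb d hd.1, hbd]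
    have eCE : B C E = 1 := by rw [bc d hd.1, hcd]
    have hli : LinearIndependent F ![A, B', C, E] := by
      rw [Fintype.linearIndependent_iff]
      intro g hg l
      simp only [Fin.sum_univ_four, Matrix.cons_val_zero, Matrix.cons_val_one, Matrix.cons_val] at hg
      have k1 := congrArg (fun z => B A z) hg
      have k2 := congrArg (fun z => B B' z) hg
      have k3 := congrArg (fun z => B C z) hg
      have k4 := congrArg (fun z => B E z) hg
      simp only [b_add_right, b_smul_right, b_zero_right, eAA, eBB, eCC, eEE, eAB, eAC, eAE, eBC, eBE, eCE,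
        b_comm B' A, b_comm C A, b_comm E A, b_comm C B', b_comm E B', b_comm E C] at k1 k2 k3 k4
      fin_cases l
      · show g 0 = 0; linear_combination k2
      · show g 1 = 0; linear_combination k1
      · show g 2 = 0; linear_combination k4
      · show g 3 = 0; linear_combination k3
    have hspan : Submodule.span F (Set.range ![A, B', C, E]) = D i :=
      Submodule.eq_of_le_of_finrank_le (Submodule.span_le.2 (by
        rintro z ⟨l, rfl⟩
        fin_cases l <;> simp [mA, mb, mc, md]))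
        (by rw [finrank_span_eq_card hli, Fintype.card_fin, hD.decomp.decomp.finrank_eq])
    rw [← hspan, Submodule.mem_span_range_iff_exists_fun] at hx
    obtain ⟨g, rfl⟩ := hx
    simp only [Fin.sum_univ_four, Matrix.cons_val_zero, Matrix.cons_val_one, Matrix.cons_val] at hxq ⊢
    rcases hbool (g 0) with e0 | e0 <;> rcases hbool (g 1) with e1 | e1 <;> rw [e0, e1] at hxq ⊢
    · right; right; right
      simp only [b_add_left, b_smul_left, eAA, eAB, b_comm C A, eAC, b_comm E A, eAE, b_comm B' A, eBB,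
        b_comm C B', eBC, b_comm E B', eBE]
      constructor <;> ring
    all_goals
      rcases hbool (g 2) with e2 | e2 <;> rcases hbool (g 3) with e3 | e3 <;> rw [e2, e3] at hxq ⊢
      all_goals
        simp only [zero_smul, one_smul, zero_add, add_zero, q_add, b_add_left, qA, qb, qc, qd, ha.2, hb.2,
          hc.2, hd.2, eAB, eAC, eAE, eBC, eBE, eCE] at hxq ⊢
        first
          | exact Or.inl rfl
          | exact Or.inr (Or.inl rfl)
          | exact Or.inr (Or.inr (Or.inl rfl))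
          | exact Or.inl trivial
          | exact Or.inr (Or.inl trivial)
          | exact Or.inr (Or.inr (Or.inl trivial))
          | exact absurd (show (1 : F) = 0 by linear_combination (exp := 1) (-1 : F) * hxq + h2) one_ne_zero
          | exact absurd (show (1 : F) = 0 by linear_combination (exp := 1) (-1 : F) * hxq + 2 * h2) one_ne_zero
          | exact absurd (show (1 : F) = 0 by linear_combination (exp := 1) (-1 : F) * hxq + 3 * h2) one_ne_zero
  let i₁ : Fin t := ⟨1, by omega⟩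
  have h01 : i₀ ≠ i₁ := by simp [i₀, i₁]
  set A := φ i₀ a
  set B₀ := φ i₀ b
  set A' := φ i₁ a
  set B₁ := φ i₁ b
  obtain ⟨mA, qA, bA⟩ := hφ i₀ a ha.1
  obtain ⟨mB, qB, -⟩ := hφ i₀ b hb.1
  obtain ⟨mA', qA', bA'⟩ := hφ i₁ a ha.1
  obtain ⟨mB', qB', -⟩ := hφ i₁ b hb.1
  have eAA : B A A = 0 := by rw [b_self, h2, zero_mul]
  have eBB : B B₀ B₀ = 0 := by rw [b_self, h2, zero_mul]
  have eAA' : B A' A' = 0 := by rw [b_self, h2, zero_mul]
  have eBB' : B B₁ B₁ = 0 := by rw [b_self, h2, zero_mul]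
  have eAB : B A B₀ = 1 := by rw [bA b hb.1, hab]
  have eAB' : B A' B₁ = 1 := by rw [bA' b hb.1, hab]
  have o1 : B A A' = 0 := horth hD h01 mA mA'
  have o2 : B A B₁ = 0 := horth hD h01 mA mB'
  have o3 : B B₀ A' = 0 := horth hD h01 mB mA'
  have o4 : B B₀ B₁ = 0 := horth hD h01 mB mB'
  set p := A + A'
  set s := B₀ + B₁
  have hp : Q p = 0 := by rw [q_add, qA, qA', ha.2, o1]; linear_combination h2
  have hs : Q s = 0 := by rw [q_add, qB, qB', hb.2, o4]; linear_combination h2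
  have hps : B p s = 0 := by
    simp only [p, s, b_add_left, b_add_right, eAB, eAB', o2, b_comm A' B₀, o3]; linear_combination h2
  obtain ⟨g, hg⟩ := exists_siegel hB hp hps
  have happ : ∀ x, ap g x = x + B x p • s + B x s • p := fun x => by
    rw [hg.2.2, hs, zero_mul, zero_smul, sub_zero, sub_eq_add_neg, ← neg_smul,
      show -(B x s) = B x s by linear_combination (-(B x s)) * h2]
  have hgA : ap g A = A' := by
    rw [happ]
    simp only [p, s, b_add_right, eAA, o1, eAB, o2, add_zero, zero_smul, one_smul]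
    rw [← add_assoc, ← two_smul F A, h2, zero_smul, zero_add]
  have hgB : ap g B₀ = B₁ := by
    rw [happ]
    simp only [p, s, b_add_right, b_comm B₀ A, eAB, o3, eBB, o4, add_zero, zero_smul, one_smul]
    rw [← add_assoc, ← two_smul F B₀, h2, zero_smul, zero_add]
  have hgA' : ap g A' = A := by
    rw [happ]
    simp only [p, s, b_add_right, b_comm A' A, o1, eAA', b_comm A' B₀, o3, eAB', add_zero, zero_add, zero_smul,
      one_smul]
    rw [add_comm A A', ← add_assoc, ← two_smul F A', h2, zero_smul, zero_add]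
  have hgB' : ap g B₁ = B₀ := by
    rw [happ]
    simp only [p, s, b_add_right, b_comm B₁ A, o2, b_comm B₁ A', eAB', b_comm B₁ B₀, o4, eBB', add_zero,
      zero_add, zero_smul, one_smul]
    rw [add_comm B₀ B₁, ← add_assoc, ← two_smul F B₁, h2, zero_smul, zero_add]
  let T : Set (ι → F) := {x | ∃ i, x ∈ D i ∧ Q x = 1}
  obtain ⟨w, hw0, hwq, hw⟩ := exists_outside hD (by norm_num) (a := i₀) (b := i₁) (c := ⟨2, by omega⟩)
    h01 (by simp [i₀]) (by simp [i₁]) mA (fun e => by
      have := qA.trans ha.2; rw [show φ i₀ a = 0 from e, QuadraticMap.map_zero] at this; exact one_ne_zero this.symm)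
  refine between_of_set hB hn T ?_ ((omega_eq_El hB hn).symm ▸ siegel_mem_El hg) ?_ (fun hmem => ?_)
    (v := A) (w := w) ⟨i₀, mA, qA.trans ha.2⟩ (fun e => by
      have := qA.trans ha.2; rw [show φ i₀ a = 0 from e, QuadraticMap.map_zero] at this; exact one_ne_zero this.symm)
    (fun ⟨i, hi, _⟩ => hw i hi) hw0 hwq.symm
  · rintro g' hg' x ⟨i, hi, hx⟩
    obtain ⟨j, hj⟩ := mem_of_map hD hg' i
    exact ⟨j, hj x hi, by rw [ap_q, hx]⟩
  · rintro x ⟨i, hi, hx⟩
    refine ⟨if i = i₀ ∧ ¬ (B x A = 0 ∧ B x B₀ = 0) then i₁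
      else if i = i₁ ∧ ¬ (B x A' = 0 ∧ B x B₁ = 0) then i₀ else i, ?_, by rw [ap_q, hx]⟩
    by_cases hi0 : i = i₀
    · subst hi0
      have hf : B x A' = 0 ∧ B x B₁ = 0 := ⟨horth hD h01 hi mA', horth hD h01 hi mB'⟩
      by_cases hfix : B x A = 0 ∧ B x B₀ = 0
      · rw [if_neg (fun h => h.2 hfix), if_neg (fun h => h01 h.1), happ]
        simp only [p, s, b_add_right, hfix.1, hfix.2, hf.1, hf.2, add_zero, zero_smul]
        exact hi
      · rw [if_pos ⟨rfl, hfix⟩]
        rcases hcases i₀ x hi hx with rfl | rfl | rfl | h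
        · exact hgA ▸ mA'
        · exact hgB ▸ mB'
        · rw [ap_add]; exact (D i₁).add_mem (hgA ▸ mA') (hgB ▸ mB')
        · exact absurd h hfix
    rw [if_neg (fun h => hi0 h.1)]
    have hf : B x A = 0 ∧ B x B₀ = 0 := ⟨horth hD hi0 hi mA, horth hD hi0 hi mB⟩
    by_cases hi1 : i = i₁
    · subst hi1
      by_cases hfix : B x A' = 0 ∧ B x B₁ = 0
      · rw [if_neg (fun h => h.2 hfix), happ]
        simp only [p, s, b_add_right, hfix.1, hfix.2, hf.1, hf.2, add_zero, zero_smul]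
        exact hi
      · rw [if_pos ⟨rfl, hfix⟩]
        rcases hcases i₁ x hi hx with rfl | rfl | rfl | h
        · exact hgA' ▸ mA
        · exact hgB' ▸ mB
        · rw [ap_add]; exact (D i₀).add_mem (hgA' ▸ mA) (hgB' ▸ mB)
        · exact absurd h hfix
    rw [if_neg (fun h => hi1 h.1), happ]
    have g1 : B x A' = 0 := horth hD hi1 hi mA'
    have g2 : B x B₁ = 0 := horth hD hi1 hi mB'
    simp only [p, s, b_add_right, hf.1, hf.2, g1, g2, add_zero, zero_smul]
    exact hi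
  · obtain ⟨l, hl⟩ := mem_of_map hD hmem i₀
    obtain ⟨mC, qC, bC⟩ := hφ i₀ c hc.1
    have hC : ap g (φ i₀ c) = φ i₀ c := by
      have g1 : B (φ i₀ c) A' = 0 := horth hD h01 mC mA'
      have g2 : B (φ i₀ c) B₁ = 0 := horth hD h01 mC mB'
      have g3 : B (φ i₀ c) A = 0 := by rw [show A = φ i₀ a from rfl, bC a ha.1, b_comm, hac]
      have g4 : B (φ i₀ c) B₀ = 0 := by rw [show B₀ = φ i₀ b from rfl, bC b hb.1, b_comm, hbc]
      rw [happ]
      simp only [p, s, b_add_right, g1, g2, g3, g4, add_zero, zero_smul]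
    have hne : ∀ {x : ι → F}, Q x = 1 → x ≠ 0 := fun h e => by
      rw [e, QuadraticMap.map_zero] at h; exact one_ne_zero h.symm
    exact h01 ((eq_of_mem hD mC (hC ▸ hl _ mC) (hne (qC.trans hc.2))).trans
      (eq_of_mem hD mA' (show A' ∈ D l by rw [← hgA]; exact hl _ mA) (hne (qA'.trans ha.2))).symm)

end CfsgLib.Orth.DecompNotMax
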