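import Cfsg.Agent.Lib.Classical.OrthFix
import Cfsg.Agent.Lib.Classical.OrthStab

set_option autoImplicit false
set_option linter.unusedSectionVars false

/-!
Overgroups in an orthogonal group of the unitary group over a quadratic extension: root groups of
singular planes spread from the lines over the extension to all singular planes.
-/

namespace CfsgLib.Orth.Overfield

open Matrix

variable {F : Type*} [Field F] [Finite F] {ι : Type} [Fintype ι] [DecidableEq ι]

/-- A quadratic extension acting by similitudes, through one generator. -/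
structure Setup (Q : QuadraticForm F (ι → F)) (J : (ι → F) →ₗ[F] ι → F) (τ ν : F) : Prop where
  nd : Nondeg Q
  dim : 10 ≤ Module.finrank F (ι → F)
  nu_ne : ν ≠ 0
  sq : ∀ x, J (J x) = τ • J x - ν • x
  adj : ∀ x y, QuadraticMap.polar ⇑Q (J x) y = QuadraticMap.polar ⇑Q x (τ • y - J y)
  norm : ∀ x, Q (J x) = ν * Q x
  line : ∀ x, Q x = 0 → QuadraticMap.polar ⇑Q x (J x) = 0
  noroot : ∀ c : F, c * c - τ * c + ν ≠ 0

variable {Q : QuadraticForm F (ι → F)}

local notation "B" => QuadraticMap.polar (DFunLike.coe Q)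

variable {J : (ι → F) →ₗ[F] ι → F} {τ ν : F}

/-- The line of a vector over the extension. -/
def Kl (J : (ι → F) →ₗ[F] ι → F) (x : ι → F) : Submodule F (ι → F) :=
  Submodule.span F {x, J x}

theorem self_mem_kl (x : ι → F) : x ∈ Kl J x := Submodule.subset_span (Set.mem_insert _ _)

theorem j_mem_kl (x : ι → F) : J x ∈ Kl J x := Submodule.subset_span (Set.mem_insert_of_mem _ rfl)

theorem finrank_kl (x : ι → F) : Module.finrank F (Kl J x) ≤ 2 := by
  classical
  have h := finrank_span_finset_le_card (R := F) ({x, J x} : Finset (ι → F))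
  rw [Set.finrank, Finset.coe_pair] at h
  exact h.trans Finset.card_le_two

/-- A vector good for the point `u`: the root elements of the plane of both lie in `M`. -/
def GoodAt (Q : QuadraticForm F (ι → F)) (M : Subgroup (Grp Q)) (u : ι → F) (x : ι → F) : Prop :=
  QuadraticMap.polar ⇑Q u x = 0 ∧ ∀ (c : F) g, IsSiegel u (c • x) g → g ∈ M

variable {M : Subgroup (Grp Q)}

/-- The good vectors for a singular point form a subspace. -/
theorem goodAt_add (hB : Nondeg Q) {u x y : ι → F} (hu : Q u = 0) (hx : GoodAt Q M u x)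
    (hy : GoodAt Q M u y) : GoodAt Q M u (x + y) := by
  refine ⟨by rw [b_add_right, hx.1, hy.1, add_zero], fun c g hg => ?_⟩
  obtain ⟨g1, h1⟩ := exists_siegel hB hu (v := c • x) (by rw [b_smul_right, hx.1, mul_zero])
  obtain ⟨g2, h2⟩ := exists_siegel hB hu (v := c • y) (by rw [b_smul_right, hy.1, mul_zero])
  have h3 := siegel_mul h1 h2
  rw [← smul_add] at h3
  rw [siegel_unique hg h3]
  exact M.mul_mem (hx.2 c g1 h1) (hy.2 c g2 h2)

theorem goodAt_smul {u x : ι → F} (hx : GoodAt Q M u x) (a : F) : GoodAt Q M u (a • x) :=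
  ⟨by rw [b_smul_right, hx.1, mul_zero], fun c g hg => hx.2 (c * a) g (by rwa [← smul_smul])⟩

theorem goodAt_zero {u : ι → F} (hu : Q u = 0) : GoodAt Q M u 0 :=
  ⟨b_zero_right u, fun c g hg => by
    rw [smul_zero] at hg
    rw [siegel_unique hg (siegel_one hu)]
    exact one_mem M⟩

theorem goodAt_sub (hB : Nondeg Q) {u x y : ι → F} (hu : Q u = 0) (hx : GoodAt Q M u x)
    (hy : GoodAt Q M u y) : GoodAt Q M u (x - y) := by
  rw [sub_eq_add_neg, ← neg_one_smul F y]
  exact goodAt_add hB hu hx (goodAt_smul hy _)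

theorem goodAt_self {u : ι → F} (hu : Q u = 0) : GoodAt Q M u u :=
  ⟨b_self_zero hu, fun c g hg => by
    have h := siegel_add_self (siegel_one hu) c
    rw [zero_add] at h
    rw [siegel_unique hg h]
    exact one_mem M⟩

theorem goodAt_span (hB : Nondeg Q) {u : ι → F} (hu : Q u = 0) {S : Set (ι → F)}
    (hS : ∀ x ∈ S, GoodAt Q M u x) {x : ι → F} (hx : x ∈ Submodule.span F S) :
    GoodAt Q M u x := by
  induction hx using Submodule.span_induction with
  | mem x hx => exact hS x hx
  | zero => exact goodAt_zero hu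
  | add p q _ _ hp hq => exact goodAt_add hB hu hp hq
  | smul c p _ hp => exact goodAt_smul hp c

theorem goodAt_conj {g : Grp Q} (hg : g ∈ M) {u x : ι → F} (h : GoodAt Q M u x) :
    GoodAt Q M (ap g u) (ap g x) := by
  refine ⟨by rw [ap_b]; exact h.1, fun c s hs => ?_⟩
  have h1 := siegel_conj hs g⁻¹
  rw [ap_inv_ap, ap_smul, ap_inv_ap] at h1
  have h2 := M.mul_mem (M.mul_mem hg (h.2 c _ h1)) (M.inv_mem hg)
  rwa [show g * (g⁻¹ * s * g⁻¹⁻¹) * g⁻¹ = s by group] at h2

/-- Reversing the plane. -/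
theorem goodAt_symm {u v : ι → F} (hu : Q u = 0) (hv : Q v = 0) (h : GoodAt Q M u v) :
    GoodAt Q M v u := by
  refine ⟨by rw [b_comm]; exact h.1, fun c g hg => h.2 (-c) g ⟨hu, ?_, fun x => ?_⟩⟩
  · rw [b_smul_right, h.1, mul_zero]
  · rw [hg.2.2, q_smul, q_smul, hu, hv, b_smul_right, b_smul_right]
    module

/-! ### Singular vectors in orthogonals -/

theorem exists_singular_avoid (hB : Nondeg Q) (A T : Submodule F (ι → F))
    (h : Module.finrank F A + Module.finrank F T + 3 ≤ Module.finrank F (ι → F)) :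
    ∃ z ∈ orth Q A, Q z = 0 ∧ z ∉ T := by
  obtain ⟨S, hS⟩ := Submodule.exists_isCompl (orth Q T)
  have hdim : Module.finrank F S = Module.finrank F T := by
    have h1 := Submodule.finrank_add_eq_of_isCompl hS
    have h2 := finrank_orth hB T
    omega
  have h3 := Submodule.finrank_add_le_finrank_add_finrank A S
  have h4 := finrank_orth hB (A ⊔ S)
  obtain ⟨z, hz, hz0, hQz⟩ := exists_singular (Q := Q) (U := orth Q (A ⊔ S)) (by omega)
  refine ⟨z, fun w hw => hz w (Submodule.mem_sup_left hw), hQz, fun hzT => hz0 ?_⟩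
  refine hB z fun y => ?_
  have hy : y ∈ orth Q T ⊔ S := by rw [hS.sup_eq_top]; trivial
  obtain ⟨a, ha, b, hb, rfl⟩ := Submodule.mem_sup.1 hy
  rw [b_add_right, show B z a = 0 from ha z hzT, b_comm z b, show B b z = 0 from hz b (Submodule.mem_sup_right hb),
    add_zero]

theorem span_singular_orth (hB : Nondeg Q) (A : Submodule F (ι → F))
    (h : 2 * Module.finrank F A + 3 ≤ Module.finrank F (ι → F)) {x : ι → F} (hx : x ∈ orth Q A) :
    x ∈ Submodule.span F {y | Q y = 0 ∧ y ∈ orth Q A} := by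
  obtain ⟨s, hs, hQs, hsA⟩ := exists_singular_avoid hB A A (by omega)
  obtain ⟨x0, hx0, hsx0⟩ := exists_orth_one hB hsA
  have key : ∀ x ∈ orth Q A, B s x ≠ 0 → x ∈ Submodule.span F {y | Q y = 0 ∧ y ∈ orth Q A} := by
    intro x hx hne
    rw [show x = (x + (-(Q x) / B s x) • s) + (Q x / B s x) • s by
      rw [neg_div, neg_smul]; abel]
    refine add_mem (Submodule.subset_span ⟨?_, add_mem hx (Submodule.smul_mem _ _ hs)⟩)
      (Submodule.smul_mem _ _ (Submodule.subset_span ⟨hQs, hs⟩))
    rw [q_add, q_smul, hQs, b_smul_right, b_comm x s, div_mul_cancel₀ _ hne]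
    ring
  by_cases hne : B s x = 0
  · have h1 : B s (x + x0) = 1 := by rw [b_add_right, hne, hsx0, zero_add]
    have h2 := key (x + x0) (add_mem hx hx0) (by rw [h1]; exact one_ne_zero)
    have h3 := key x0 hx0 (by rw [hsx0]; exact one_ne_zero)
    simpa using sub_mem h2 h3
  · exact key x hx hne

theorem exists_singular_pair (hB : Nondeg Q) (A : Submodule F (ι → F)) {p : ι → F} (hp : p ∉ A)
    (h : 2 * Module.finrank F A + 3 ≤ Module.finrank F (ι → F)) :
    ∃ y ∈ orth Q A, Q y = 0 ∧ B p y ≠ 0 := by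
  by_contra hc
  push Not at hc
  refine hp ?_
  rw [← orth_orth hB A]
  intro x hx
  show B x p = 0
  rw [b_comm]
  have hle : Submodule.span F {y | Q y = 0 ∧ y ∈ orth Q A} ≤ LinearMap.ker (QuadraticMap.polarBilin Q p) :=
    Submodule.span_le.2 fun y hy => hc y hy.2 hy.1
  exact hle (span_singular_orth hB A h hx)

omit [DecidableEq ι] [Fintype ι] [Finite F] in
theorem exists_singular_pair_perp [Finite ι] (hB : Nondeg Q) (A : Submodule F (ι → F)) {p : ι → F}
    (hp : p ∉ A) (hQp : Q p = 0) (hpA : p ∈ orth Q A) :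
    ∃ y ∈ orth Q A, Q y = 0 ∧ B p y ≠ 0 := by
  obtain ⟨w, hw, hpw⟩ := exists_orth_one hB hp
  refine ⟨w - Q w • p, sub_mem hw (Submodule.smul_mem _ _ hpA), ?_, ?_⟩
  · rw [q_sub, q_smul, hQp, b_smul_right, b_comm w p, hpw]; ring
  · rw [b_sub_right, b_smul_right, b_self_zero hQp, hpw, mul_zero, sub_zero]; exact one_ne_zero

theorem finrank_span_list (l : List (ι → F)) :
    Module.finrank F (Submodule.span F {x | x ∈ l}) ≤ l.length := by
  classical
  have h := finrank_span_finset_le_card (R := F) l.toFinset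
  rw [Set.finrank, List.coe_toFinset] at h
  exact h.trans (List.toFinset_card_le l)

theorem mem_orth_list {l : List (ι → F)} {z : ι → F}
    (h : z ∈ orth Q (Submodule.span F {x | x ∈ l})) {x : ι → F} (hx : x ∈ l) : B x z = 0 :=
  h x (Submodule.subset_span hx)

namespace Setup

variable (hS : Setup Q J τ ν)
include hS

theorem j_sub_inv (δ : F) (x : ι → F) :
    J (J x - δ • x) - (τ - δ) • (J x - δ • x) = -(δ * δ - τ * δ + ν) • x := by
  rw [map_sub, map_smul, hS.sq]
  module

theorem kl_stable {x y : ι → F} (h : y ∈ Kl J x) : J y ∈ Kl J x := by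
  obtain ⟨a, b, rfl⟩ := Submodule.mem_span_pair.1 h
  rw [map_add, map_smul, map_smul, hS.sq]
  exact add_mem (Submodule.smul_mem _ _ (j_mem_kl x))
    (Submodule.smul_mem _ _ (sub_mem (Submodule.smul_mem _ _ (j_mem_kl x))
      (Submodule.smul_mem _ _ (self_mem_kl x))))

theorem sup_stable {S T : Submodule F (ι → F)} (h1 : ∀ x ∈ S, J x ∈ S) (h2 : ∀ x ∈ T, J x ∈ T) :
    ∀ x ∈ S ⊔ T, J x ∈ S ⊔ T := by
  intro x hx
  obtain ⟨a, ha, b, hb, rfl⟩ := Submodule.mem_sup.1 hx
  rw [map_add]
  exact add_mem (Submodule.mem_sup_left (h1 a ha)) (Submodule.mem_sup_right (h2 b hb))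

/-- In a stable subspace: if `Jx` is congruent to a multiple of `x`, then `x` lies inside. -/
theorem mem_of_j {T : Submodule F (ι → F)} (hT : ∀ x ∈ T, J x ∈ T) {x : ι → F} (δ : F)
    (h : J x - δ • x ∈ T) : x ∈ T := by
  have h1 := sub_mem (hT _ h) (T.smul_mem (τ - δ) h)
  rw [hS.j_sub_inv δ x] at h1
  exact (T.smul_mem_iff (neg_ne_zero.2 (hS.noroot δ))).1 h1

theorem kl_swap {x y : ι → F} (hx : x ≠ 0) (h : x ∈ Kl J y) : y ∈ Kl J x := by
  obtain ⟨a, b, hab⟩ := Submodule.mem_span_pair.1 h
  by_cases hb : b = 0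
  · rw [hb, zero_smul, add_zero] at hab
    have ha : a ≠ 0 := fun e => hx (by rw [← hab, e, zero_smul])
    rw [show y = a⁻¹ • x by rw [← hab, smul_smul, inv_mul_cancel₀ ha, one_smul]]
    exact Submodule.smul_mem _ _ (self_mem_kl x)
  · refine hS.mem_of_j (fun z hz => hS.kl_stable hz) (-(a / b)) ?_
    have e : J y - -(a / b) • y = b⁻¹ • x := by
      rw [← hab, smul_add, smul_smul, smul_smul, inv_mul_cancel₀ hb, one_smul,
        div_eq_inv_mul, neg_smul, sub_neg_eq_add, add_comm]
    rw [e]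
    exact Submodule.smul_mem _ _ (self_mem_kl x)

theorem b_jj (x y : ι → F) : B (J x) (J y) = ν * B x y := by
  rw [hS.adj, hS.sq, sub_sub_cancel, b_smul_right]

theorem singular_j {x : ι → F} (hx : Q x = 0) : Q (J x) = 0 := by rw [hS.norm, hx, mul_zero]

/-- The root elements over the extension commute with it. -/
theorem root_comm {y : ι → F} (hy : Q y = 0) {c : F} {g : Grp Q} (hg : IsSiegel y (c • J y) g)
    (x : ι → F) : ap g (J x) = J (ap g x) := by
  rw [hg.2.2, hg.2.2, q_smul, hS.singular_j hy, hS.adj x y, hS.adj x (c • J y)]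
  simp only [b_sub_right, b_smul_right, map_sub, map_add, map_smul, hS.sq]
  module

/-- An overgroup of the centraliser of `J` in `Ω` contains the root elements over the extension. -/
theorem root_mem_of_cent (hC : ∀ g, g ∈ Cfsg.Omega F ⇑Q → (∀ x, ap g (J x) = J (ap g x)) → g ∈ M)
    (y : ι → F) (hy : Q y = 0) (c : F) (g : Grp Q) (hg : IsSiegel y (c • J y) g) : g ∈ M :=
  hC g (by rw [omega_eq_El hS.nd (by have := hS.dim; omega)]; exact siegel_mem_El hg)
    (hS.root_comm hy hg)

variable (hM : ∀ y, Q y = 0 → ∀ (c : F) (g : Grp Q), IsSiegel y (c • J y) g → g ∈ M)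
include hM

theorem root_mem {y : ι → F} (hy : Q y = 0) {c : F} {g : Grp Q} (hg : IsSiegel y (c • J y) g) :
    g ∈ M :=
  hM y hy c g hg

theorem goodAt_j {u : ι → F} (hu : Q u = 0) : GoodAt Q M u (J u) :=
  ⟨hS.line u hu, fun _ _ hg => hS.root_mem hM hu hg⟩

theorem goodAt_kl {u : ι → F} (hu : Q u = 0) {x : ι → F} (hx : x ∈ Kl J u) : GoodAt Q M u x := by
  refine goodAt_span hS.nd hu (fun y hy => ?_) hx
  rcases Set.mem_insert_iff.1 hy with rfl | hy
  · exact goodAt_self hu
  · rw [Set.mem_singleton_iff.1 hy]; exact hS.goodAt_j hM hu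

/-- The displacement by a root element over the extension. -/
theorem goodAt_shift {u v y : ι → F} (hu : Q u = 0) (hv : GoodAt Q M u v) (hy : Q y = 0)
    (h1 : B u y = 0) (h2 : B u (J y) = 0) :
    GoodAt Q M u (B v y • J y - B v (J y) • y) := by
  obtain ⟨g, hg⟩ := exists_siegel hS.nd hy (v := (1 : F) • J y)
    (by rw [b_smul_right, hS.line y hy, mul_zero])
  have hgM := hS.root_mem hM hy hg
  have hgu : ap g u = u := siegel_fix hg h1 (by rw [b_smul_right, h2, mul_zero])
  have h3 := goodAt_conj hgM hv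
  rw [hgu] at h3
  have h4 := goodAt_sub hS.nd hu h3 hv
  have e : ap g v - v = B v y • J y - B v (J y) • y := by
    rw [hg.2.2, one_smul, hS.singular_j hy]
    module
  rwa [e] at h4

omit hM in
theorem kl_ne_line {u v z : ι → F} (hv : B v z = 0 → B v (J z) ≠ 0) (hzu : z ∉ Kl J u) :
    B v z • J z - B v (J z) • z ∉ Kl J u := by
  intro h
  have hne : B v z • J z - B v (J z) • z ≠ 0 := by
    intro e
    by_cases h0 : B v z = 0
    · rw [h0, zero_smul, zero_sub, neg_eq_zero, smul_eq_zero] at e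
      exact hzu (by rw [e.resolve_left (hv h0)]; exact zero_mem _)
    · refine hzu ?_
      have hm : J z - (B v (J z) / B v z) • z ∈ (⊥ : Submodule F (ι → F)) := by
        have e2 : J z - (B v (J z) / B v z) • z =
            (B v z)⁻¹ • (B v z • J z - B v (J z) • z) := by
          rw [smul_sub, smul_smul, smul_smul, inv_mul_cancel₀ h0, one_smul, div_eq_inv_mul]
        rw [e2, e, smul_zero]; exact zero_mem _
      rw [(Submodule.mem_bot F).1 (hS.mem_of_j (fun x hx => by
        rw [(Submodule.mem_bot F).1 hx, map_zero]; exact zero_mem _) _ hm)]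
      exact zero_mem _
  have hgz : B v z • J z - B v (J z) • z ∈ Kl J z :=
    sub_mem (Submodule.smul_mem _ _ (j_mem_kl z)) (Submodule.smul_mem _ _ (self_mem_kl z))
  have h3 := hS.kl_swap hne hgz
  exact hzu ((Submodule.span_le.2 (Set.insert_subset h (Set.singleton_subset_iff.2 (hS.kl_stable h))) :
    Kl J _ ≤ Kl J u) h3)

omit hM in
theorem orth_kl {u z : ι → F} (h : z ∈ orth Q (Kl J u)) :
    B u z = 0 ∧ B (J u) z = 0 ∧ B u (J z) = 0 :=
  ⟨h u (self_mem_kl u), h _ (j_mem_kl u), by
    rw [b_comm, hS.adj, b_sub_right, b_smul_right, b_comm z u,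
      show B u z = 0 from h u (self_mem_kl u), b_comm z,
      show B (J u) z = 0 from h _ (j_mem_kl u), mul_zero, sub_zero]⟩

/-- A good point off the line makes a partner of it good. -/
theorem partner {u y f : ι → F} (hu : Q u = 0) (hy : GoodAt Q M u y) (hQy : Q y = 0)
    (hyo : y ∈ orth Q (Kl J u)) (hQf : Q f = 0) (hfo : f ∈ orth Q (Kl J u))
    (hyf : B y f = 1) (hyjf : B y (J f) = 0) :
    GoodAt Q M u f ∧ GoodAt Q M u (J f) := by
  classical
  have hn := hS.dim
  obtain ⟨huy, hjuy, hujy⟩ := hS.orth_kl hyo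
  obtain ⟨huf, hjuf, hujf⟩ := hS.orth_kl hfo
  have hjf : GoodAt Q M u (J f) := by
    have h := hS.goodAt_shift hM hu hy hQf huf hujf
    rwa [hyf, hyjf, one_smul, zero_smul, sub_zero] at h
  refine ⟨?_, hjf⟩
  have hjyf : B (J y) f = τ := by
    rw [hS.adj, b_sub_right, b_smul_right, hyf, hyjf, mul_one, sub_zero]
  set E := Submodule.span F {x | x ∈ [u, J u, y, J y, f, J f]} with hE
  have hEd : Module.finrank F E ≤ 6 := finrank_span_list _
  obtain ⟨x, hx, hQx⟩ : ∃ x ∈ orth Q E, Q x ≠ 0 := by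
    by_contra hc
    push Not at hc
    have hU : orth Q E ≤ E := by
      intro a ha
      rw [← orth_orth hS.nd E]
      intro b hb
      show B b a = 0
      have h := hc _ (add_mem hb ha)
      rwa [q_add, hc b hb, hc a ha, zero_add, zero_add] at h
    have hjuf' : B (J u) (J f) = 0 := by rw [hS.b_jj, huf, mul_zero]
    have hjuy' : B (J u) (J y) = 0 := by rw [hS.b_jj, huy, mul_zero]
    have hle : orth Q E ≤ Kl J u := by
      intro a ha
      have haE := hU ha
      rw [hE, show {x | x ∈ [u, J u, y, J y, f, J f]} = ({u, J u, y, J y, f, J f} : Set (ι → F)) by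
        ext; simp, Submodule.mem_span_insert] at haE
      obtain ⟨a1, p1, hp1, rfl⟩ := haE
      obtain ⟨a2, p2, hp2, rfl⟩ := Submodule.mem_span_insert.1 hp1
      obtain ⟨a3, p3, hp3, rfl⟩ := Submodule.mem_span_insert.1 hp2
      obtain ⟨a4, p4, hp4, rfl⟩ := Submodule.mem_span_insert.1 hp3
      obtain ⟨a5, a6, rfl⟩ := Submodule.mem_span_pair.1 hp4
      have e1 := mem_orth_list ha (x := y) (by simp)
      have e2 := mem_orth_list ha (x := J y) (by simp)
      have e3 := mem_orth_list ha (x := f) (by simp)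
      have e4 := mem_orth_list ha (x := J f) (by simp)
      have hjyjy : B (J y) (J y) = 0 := b_self_zero (hS.singular_j hQy)
      have hjfjf : B (J f) (J f) = 0 := b_self_zero (hS.singular_j hQf)
      have c1 : B y u = 0 := by rw [b_comm]; exact huy
      have c2 : B y (J u) = 0 := by rw [b_comm]; exact hjuy
      have c3 : B (J y) u = 0 := by rw [b_comm]; exact hujy
      have c4 : B (J y) (J u) = 0 := by rw [b_comm]; exact hjuy'
      have c5 : B (J y) y = 0 := by rw [b_comm]; exact hS.line y hQy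
      have c6 : B (J y) (J f) = ν := by rw [hS.b_jj, hyf, mul_one]
      have c7 : B f u = 0 := by rw [b_comm]; exact huf
      have c8 : B f (J u) = 0 := by rw [b_comm]; exact hjuf
      have c9 : B f y = 1 := by rw [b_comm]; exact hyf
      have c10 : B f (J y) = τ := by rw [b_comm]; exact hjyf
      have c11 : B (J f) u = 0 := by rw [b_comm]; exact hujf
      have c12 : B (J f) (J u) = 0 := by rw [b_comm]; exact hjuf'
      have c13 : B (J f) y = 0 := by rw [b_comm]; exact hyjf
      have c14 : B (J f) (J y) = ν := by rw [b_comm]; exact c6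
      have c15 : B (J f) f = 0 := by rw [b_comm]; exact hS.line f hQf
      simp only [b_add_right, b_smul_right, c1, c2, c3, c4, c5, c6, c7, c8, c9, c10, c11, c12, c13,
        c14, c15, hjyf, hyf, hyjf, b_self_zero hQy, b_self_zero hQf, hS.line y hQy, hS.line f hQf,
        hjyjy, hjfjf, mul_zero, zero_add, add_zero, mul_one] at e1 e2 e3 e4
      have h6 : a6 = 0 := by
        rw [e1, zero_mul, zero_add] at e2
        exact (mul_eq_zero.1 e2).resolve_right hS.nu_ne
      have h4 : a4 = 0 := (mul_eq_zero.1 e4).resolve_right hS.nu_ne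
      rw [h4, zero_mul, add_zero] at e3
      rw [e1, h6, h4, e3]
      simp only [zero_smul, add_zero]
      exact add_mem (Submodule.smul_mem _ _ (self_mem_kl u)) (Submodule.smul_mem _ _ (j_mem_kl u))
    have h1 := Submodule.finrank_mono hle
    have h2 := finrank_orth hS.nd E
    have h3 := finrank_kl (J := J) u
    omega
  have hxl : ∀ a, a ∈ [u, J u, y, J y, f, J f] → B a x = 0 := fun a ha => mem_orth_list hx ha
  have hxj : ∀ a, B a x = 0 → B (J a) x = 0 → B a (J x) = 0 := fun a h1 h2 => by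
    rw [b_comm, hS.adj, b_sub_right, b_smul_right, b_comm x a, h1, b_comm x, h2, mul_zero, sub_zero]
  obtain ⟨w, hw⟩ : ∃ w, w = f + -(Q x) • y + x := ⟨_, rfl⟩
  have hQw : Q w = 0 := by
    rw [hw, q_add, q_add, q_smul, hQf, hQy, b_smul_right, b_comm f y, hyf, b_add_left, b_smul_left,
      hxl f (by simp), hxl y (by simp)]
    ring
  have huw : B u w = 0 := by
    rw [hw, b_add_right, b_add_right, b_smul_right, huf, huy, hxl u (by simp)]; ring
  have hujw : B u (J w) = 0 := by
    rw [hw, map_add, map_add, map_smul, b_add_right, b_add_right, b_smul_right, hujf, hujy,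
      hxj u (hxl u (by simp)) (hxl _ (by simp))]
    ring
  have hyw : B y w = 1 := by
    rw [hw, b_add_right, b_add_right, b_smul_right, hyf, b_self_zero hQy, hxl y (by simp)]; ring
  have hyjw : B y (J w) = 0 := by
    rw [hw, map_add, map_add, map_smul, b_add_right, b_add_right, b_smul_right, hyjf,
      hS.line y hQy, hxj y (hxl y (by simp)) (hxl _ (by simp))]
    ring
  have hgw : GoodAt Q M u (J w) := by
    have h := hS.goodAt_shift hM hu hy hQw huw hujw
    rwa [hyw, hyjw, one_smul, zero_smul, sub_zero] at h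
  have hwf : B w f = -Q x := by
    rw [hw, b_add_left, b_add_left, b_smul_left, b_self_zero hQf, hyf, b_comm x, hxl f (by simp)]; ring
  have hwjf : B w (J f) = 0 := by
    rw [hw, b_add_left, b_add_left, b_smul_left, hS.line f hQf, hyjf, b_comm x, hxl _ (by simp)]; ring
  have hg := goodAt_add hS.nd hu hgw (goodAt_smul hy (τ * Q x))
  have e1 : B (J w + (τ * Q x) • y) f = 0 := by
    rw [b_add_left, b_smul_left, hS.adj, b_sub_right, b_smul_right, hwf, hwjf, hyf]; ring
  have e2 : B (J w + (τ * Q x) • y) (J f) = -(ν * Q x) := by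
    rw [b_add_left, b_smul_left, hS.b_jj, hwf, hyjf]; ring
  have h := hS.goodAt_shift hM hu hg hQf huf hujf
  rw [e1, e2, zero_smul, zero_sub, neg_smul, neg_neg] at h
  have h' := goodAt_smul h (ν * Q x)⁻¹
  rwa [smul_smul, inv_mul_cancel₀ (mul_ne_zero hS.nu_ne hQx), one_smul] at h'

/-- A singular good point off the line makes every singular point not orthogonal to it good. -/
theorem good_of_pair {u y z : ι → F} (hu : Q u = 0) (hy : GoodAt Q M u y) (hQy : Q y = 0)
    (hyo : y ∈ orth Q (Kl J u)) (hQz : Q z = 0) (hzo : z ∈ orth Q (Kl J u))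
    (hne : B y z = 0 → B y (J z) ≠ 0) : GoodAt Q M u z := by
  obtain ⟨b, hb⟩ : ∃ b, b = B y z := ⟨_, rfl⟩
  obtain ⟨c, hc⟩ : ∃ c, c = B y (J z) := ⟨_, rfl⟩
  obtain ⟨N, hN⟩ : ∃ N, N = c * c - τ * b * c + ν * b * b := ⟨_, rfl⟩
  have hN0 : N ≠ 0 := fun e => by
    by_cases hb0 : b = 0
    · rw [hN, hb0] at e
      exact hne (hb ▸ hb0) (hc ▸ mul_self_eq_zero.1 (by linear_combination e))
    · refine hS.noroot (c / b) ?_
      rw [hN] at e
      field_simp
      linear_combination e
  obtain ⟨f, hf⟩ : ∃ f, f = N⁻¹ • (c • J z + (ν * b - τ * c) • z) := ⟨_, rfl⟩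
  have hzjo : J z ∈ orth Q (Kl J u) := mem_orth_span.2 fun s hs => by
    obtain ⟨h1, -, h3⟩ := hS.orth_kl hzo
    rcases Set.mem_insert_iff.1 hs with rfl | hs
    · exact h3
    · rw [Set.mem_singleton_iff.1 hs, hS.b_jj, h1, mul_zero]
  have hjjz : J (J z) = τ • J z - ν • z := hS.sq z
  have hQf : Q f = 0 := by
    rw [hf, q_smul, q_add, q_smul, q_smul, hS.singular_j hQz, hQz, b_smul_left, b_smul_right,
      b_comm (J z) z, hS.line z hQz]
    ring
  have hfo : f ∈ orth Q (Kl J u) :=
    hf ▸ Submodule.smul_mem _ _ (add_mem (Submodule.smul_mem _ _ hzjo) (Submodule.smul_mem _ _ hzo))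
  have hyf : B y f = 1 := by
    rw [hf, b_smul_right, b_add_right, b_smul_right, b_smul_right, ← hb, ← hc]
    field_simp
    rw [hN]; ring
  have hjf : J f = N⁻¹ • ((ν * b) • J z - (ν * c) • z) := by
    rw [hf, map_smul, map_add, map_smul, map_smul, hjjz]
    module
  have hyjf : B y (J f) = 0 := by
    rw [hjf, b_smul_right, b_sub_right, b_smul_right, b_smul_right, ← hb, ← hc]; ring
  obtain ⟨g1, g2⟩ := hS.partner hM hu hy hQy hyo hQf hfo hyf hyjf
  have e : z = b • f + (-c / ν) • J f := by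
    rw [hjf, hf]
    match_scalars
    · have := hS.nu_ne
      field_simp
      rw [hN]; ring
    · have := hS.nu_ne
      field_simp
      ring
  rw [e]
  exact goodAt_add hS.nd hu (goodAt_smul g1 _) (goodAt_smul g2 _)

/-- A point with one good vector outside its line has all of the orthogonal of its line good. -/
theorem wide {u v : ι → F} (hu : Q u = 0) (hv : GoodAt Q M u v) (hvu : v ∉ Kl J u) {x : ι → F}
    (h1 : B u x = 0) (h2 : B (J u) x = 0) : GoodAt Q M u x := by
  classical
  have hn := hS.dim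
  have hfu := finrank_kl (J := J) u
  have hspan : ∀ a ∈ orth Q (Kl J u), a ∈ Submodule.span F {y | Q y = 0 ∧ y ∈ orth Q (Kl J u)} :=
    fun a ha => span_singular_orth hS.nd _ (by omega) ha
  -- a good singular point off the line
  obtain ⟨y, hgy, hQy, hyo, hyu⟩ : ∃ y, GoodAt Q M u y ∧ Q y = 0 ∧ y ∈ orth Q (Kl J u) ∧
      y ∉ Kl J u := by
    obtain ⟨z, hzo, hQz, hzu, hne⟩ : ∃ z ∈ orth Q (Kl J u), Q z = 0 ∧ z ∉ Kl J u ∧
        (B v z = 0 → B v (J z) ≠ 0) := by
      by_contra hc
      push Not at hc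
      obtain ⟨z0, hz0, hQz0, hz0u⟩ := exists_singular_avoid hS.nd (Kl J u) (Kl J u) (by omega)
      have hall : ∀ z, Q z = 0 → z ∈ orth Q (Kl J u) → B v z = 0 := by
        intro z hQz hz
        by_cases hzu : z ∈ Kl J u
        · have hzz : B z z0 = 0 := hz0 z hzu
          have h := (hc (z + z0) (add_mem hz hz0) (by rw [q_add, hQz, hQz0, hzz, add_zero, add_zero])
            fun e => hz0u (by simpa using sub_mem e hzu)).1
          rwa [b_add_right, (hc z0 hz0 hQz0 hz0u).1, add_zero] at h
        · exact (hc z hz hQz hzu).1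
      refine hvu ?_
      rw [← orth_orth hS.nd (Kl J u)]
      intro a ha
      show B a v = 0
      rw [b_comm]
      have hle : Submodule.span F {y | Q y = 0 ∧ y ∈ orth Q (Kl J u)} ≤
          LinearMap.ker (QuadraticMap.polarBilin Q v) := Submodule.span_le.2 fun b hb => hall b hb.1 hb.2
      exact hle (hspan a ha)
    obtain ⟨huz, hjuz, hujz⟩ := hS.orth_kl hzo
    refine ⟨_, hS.goodAt_shift hM hu hv hQz huz hujz, ?_, mem_orth_span.2 fun s hs => ?_,
      hS.kl_ne_line hne hzu⟩
    · rw [q_sub, q_smul, q_smul, hS.singular_j hQz, hQz, b_smul_left, b_smul_right, b_comm (J z) z,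
        hS.line z hQz]
      ring
    · rcases Set.mem_insert_iff.1 hs with rfl | hs
      · rw [b_sub_right, b_smul_right, b_smul_right, huz, hujz]; ring
      · rw [Set.mem_singleton_iff.1 hs, b_sub_right, b_smul_right, b_smul_right, hjuz, hS.b_jj, huz]
        ring
  -- a partner of it
  obtain ⟨f, hfo, hQf, hyf⟩ := exists_singular_pair hS.nd (Kl J u) hyu (by omega)
  have hgf := hS.good_of_pair hM hu hgy hQy hyo hQf hfo fun h => absurd h hyf
  have sing : ∀ z, Q z = 0 → z ∈ orth Q (Kl J u) → GoodAt Q M u z := by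
    intro z hz hzo
    by_cases hyz : B y z = 0 ∧ B y (J z) = 0
    swap
    · exact hS.good_of_pair hM hu hgy hQy hyo hz hzo fun h h' => hyz ⟨h, h'⟩
    by_cases hfz : B f z = 0
    swap
    · exact hS.good_of_pair hM hu hgf hQf hfo hz hzo fun h => absurd h hfz
    have h := hS.good_of_pair hM hu hgy hQy hyo (z := z + f)
      (by rw [q_add, hz, hQf, b_comm, hfz, add_zero, add_zero]) (add_mem hzo hfo)
      (fun h => absurd (by rwa [b_add_right, hyz.1, zero_add] at h) hyf)
    simpa using goodAt_sub hS.nd hu h hgf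
  refine goodAt_span hS.nd hu (fun y hy => sing y hy.1 hy.2) (hspan x ?_)
  exact mem_orth_span.2 fun s hs => by
    rcases Set.mem_insert_iff.1 hs with rfl | hs
    · exact h1
    · rw [Set.mem_singleton_iff.1 hs]; exact h2

/-- An element moving a line over the extension off such lines gives everything. -/
theorem el_le_of_moved {g0 : Grp Q} (hg0 : g0 ∈ M) {a : ι → F} (ha : Q a = 0)
    (hmove : ap g0 (J a) ∉ Kl J (ap g0 a)) : El Q ≤ M := by
  classical
  have hn := hS.dim
  have hQga : Q (ap g0 a) = 0 := by rw [ap_q]; exact ha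
  have hwide0 : ∀ {x : ι → F}, B (ap g0 a) x = 0 → B (J (ap g0 a)) x = 0 →
      GoodAt Q M (ap g0 a) x := fun h1 h2 =>
    hS.wide hM hQga (goodAt_conj hg0 (hS.goodAt_j hM ha)) hmove h1 h2
  -- every point is wide
  have hwide : ∀ w, Q w = 0 → w ≠ 0 → ∀ x, B w x = 0 → B (J w) x = 0 → GoodAt Q M w x := by
    intro w hw hw0 x hx1 hx2
    have hga0 : ap g0 a ≠ 0 := fun e => hmove (by
      rw [ap_inj g0 (e.trans (ap_zero g0).symm), map_zero, ap_zero]; exact zero_mem _)
    set T := Kl J (ap g0 a) ⊔ Kl J w with hT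
    have hTd : Module.finrank F T ≤ 4 := (Submodule.finrank_add_le_finrank_add_finrank _ _).trans
      (by have := finrank_kl (J := J) (ap g0 a); have := finrank_kl (J := J) w; omega)
    by_cases hdir : B (ap g0 a) w = 0 ∧ B (J (ap g0 a)) w = 0
    · by_cases hwg : w ∈ Kl J (ap g0 a)
      · have hle : Kl J (ap g0 a) ≤ Kl J w := by
          have hgw0 : ap g0 a ∈ Kl J w := hS.kl_swap hw0 hwg
          exact Submodule.span_le.2
            (Set.insert_subset hgw0 (Set.singleton_subset_iff.2 (hS.kl_stable hgw0)))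
        obtain ⟨z, hz, hQz, hzT⟩ := exists_singular_avoid hS.nd (Kl J w) (Kl J w) (by
          have := finrank_kl (J := J) w; omega)
        obtain ⟨hwz, hjwz, hwjz⟩ := hS.orth_kl hz
        have hgz : GoodAt Q M (ap g0 a) z := hwide0 (hz _ (hle (self_mem_kl _)))
          (hz _ (hle (j_mem_kl _)))
        have hnot : ap g0 a ∉ Kl J z := fun h => hzT (hle (hS.kl_swap hga0 h))
        have hgw : GoodAt Q M z w := hS.wide hM hQz (goodAt_symm hQga hQz hgz) hnot
          (by rw [b_comm]; exact hwz) (by rw [b_comm]; exact hwjz)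
        exact hS.wide hM hw (goodAt_symm hQz hw hgw) hzT hx1 hx2
      · exact hS.wide hM hw (goodAt_symm hQga hw (hwide0 hdir.1 hdir.2))
          (fun h => hwg (hS.kl_swap hga0 h)) hx1 hx2
    obtain ⟨z, hz, hQz, hzT⟩ := exists_singular_avoid hS.nd T (Kl J (ap g0 a)) (by
      have := finrank_kl (J := J) (ap g0 a); omega)
    have hgz : GoodAt Q M (ap g0 a) z := hwide0 (hz _ (Submodule.mem_sup_left (self_mem_kl _)))
      (hz _ (Submodule.mem_sup_left (j_mem_kl _)))
    have hnot : ap g0 a ∉ Kl J z := fun h => hzT (hS.kl_swap hga0 h)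
    have hwz : B w z = 0 := hz w (Submodule.mem_sup_right (self_mem_kl w))
    have hgw : GoodAt Q M z w := hS.wide hM hQz (goodAt_symm hQga hQz hgz) hnot
      (by rw [b_comm]; exact hwz)
      (by rw [hS.adj, b_sub_right, b_smul_right, b_comm z w, hwz, b_comm z,
        show B (J w) z = 0 from hz _ (Submodule.mem_sup_right (j_mem_kl w)), mul_zero, sub_zero])
    refine hS.wide hM hw (goodAt_symm hQz hw hgw) (fun h => hdir ?_) hx1 hx2
    have hz0 : z ≠ 0 := fun e => hzT (by rw [e]; exact zero_mem _)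
    have hwz' := hS.kl_swap hz0 h
    have hgzo : ap g0 a ∈ orth Q (Kl J z) := mem_orth_span.2 fun s hs => by
      rcases Set.mem_insert_iff.1 hs with rfl | hs
      · rw [b_comm]; exact hz _ (Submodule.mem_sup_left (self_mem_kl _))
      · rw [Set.mem_singleton_iff.1 hs, hS.adj, b_sub_right, b_smul_right, b_comm z (ap g0 a),
          show B (ap g0 a) z = 0 from hz _ (Submodule.mem_sup_left (self_mem_kl _)), b_comm z,
          show B (J (ap g0 a)) z = 0 from hz _ (Submodule.mem_sup_left (j_mem_kl _)), mul_zero,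
          sub_zero]
    refine ⟨by rw [b_comm]; exact hgzo w hwz', ?_⟩
    rw [hS.adj, b_sub_right, b_smul_right, b_comm _ w,
      show B w (ap g0 a) = 0 from hgzo w hwz', b_comm _ (J w),
      show B (J w) (ap g0 a) = 0 from hgzo _ (hS.kl_stable hwz'), mul_zero, sub_zero]
  -- a good pair not orthogonal over the extension
  obtain ⟨w0, v0, hw0, hv0, hgood, hskew⟩ : ∃ w0 v0, Q w0 = 0 ∧ Q v0 = 0 ∧ GoodAt Q M w0 v0 ∧
      B (J w0) v0 ≠ 0 := by
    by_contra hc
    push Not at hc
    refine hmove ?_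
    have hga0 : a ≠ 0 := fun e => hmove (by rw [e, map_zero, ap_zero]; exact zero_mem _)
    have hperp : ap g0⁻¹ (J (ap g0 a)) ∈ orth Q (orth Q (Kl J a)) := by
      intro x hx
      show B x _ = 0
      have hle : Submodule.span F {y | Q y = 0 ∧ y ∈ orth Q (Kl J a)} ≤
          LinearMap.ker (QuadraticMap.polarBilin Q (ap g0⁻¹ (J (ap g0 a)))) := by
        refine Submodule.span_le.2 fun y hy => ?_
        show B (ap g0⁻¹ (J (ap g0 a))) y = 0
        rw [ap_b_left, inv_inv]
        exact hc (ap g0 a) (ap g0 y) hQga (by rw [ap_q]; exact hy.1)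
          (goodAt_conj hg0 (hwide a ha hga0 y (hy.2 _ (self_mem_kl a)) (hy.2 _ (j_mem_kl a))))
      rw [b_comm]
      exact hle (span_singular_orth hS.nd (Kl J a) (by have := finrank_kl (J := J) a; omega) hx)
    rw [orth_orth hS.nd] at hperp
    obtain ⟨α, β, hαβ⟩ := Submodule.mem_span_pair.1 hperp
    have e := congrArg (ap g0) hαβ
    rw [ap_ap_inv, ap_add, ap_smul, ap_smul] at e
    have hβ : β ≠ 0 := by
      intro hβ
      rw [hβ, zero_smul, add_zero] at e
      refine hga0 (ap_inj g0 ?_)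
      rw [ap_zero]
      have h : J (ap g0 a) - α • ap g0 a ∈ (⊥ : Submodule F (ι → F)) := by
        rw [← e, sub_self]; exact zero_mem _
      exact (Submodule.mem_bot F).1 (hS.mem_of_j (fun x hx => by
        rw [(Submodule.mem_bot F).1 hx, map_zero]; exact zero_mem _) α h)
    rw [show ap g0 (J a) = β⁻¹ • (J (ap g0 a) - α • ap g0 a) by
      rw [← e, add_sub_cancel_left, smul_smul, inv_mul_cancel₀ hβ, one_smul]]
    exact Submodule.smul_mem _ _ (sub_mem (j_mem_kl _) (Submodule.smul_mem _ _ (self_mem_kl _)))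
  -- full points
  have hfull : ∀ w v, Q w = 0 → GoodAt Q M w v → B (J w) v ≠ 0 → ∀ x, B w x = 0 →
      GoodAt Q M w x := by
    intro w v hw hgv hne x hx
    have hw' : w ≠ 0 := fun e => hne (by rw [e, map_zero, b_zero_left])
    have h1 : GoodAt Q M w (x - (B (J w) x / B (J w) v) • v) := hwide w hw hw' _
      (by rw [b_sub_right, hx, b_smul_right, hgv.1, mul_zero, sub_zero])
      (by rw [b_sub_right, b_smul_right, div_mul_cancel₀ _ hne, sub_self])
    have h2 := goodAt_add hS.nd hw h1 (goodAt_smul hgv (B (J w) x / B (J w) v))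
    rwa [sub_add_cancel] at h2
  have hw00 : w0 ≠ 0 := fun e => hskew (by rw [e, map_zero, b_zero_left])
  have hF0 := hfull w0 v0 hw0 hgood hskew
  have hlinej : ∀ w, Q w = 0 → w ∉ Submodule.span F ({J w} : Set (ι → F)) ∨ w = 0 := by
    intro w _
    by_cases hw' : w = 0
    · exact Or.inr hw'
    refine Or.inl fun h => hw' ?_
    obtain ⟨c, hc⟩ := Submodule.mem_span_singleton.1 h
    have hc0 : c ≠ 0 := fun e => hw' (by rw [← hc, e, zero_smul])
    have hm : J w - c⁻¹ • w ∈ (⊥ : Submodule F (ι → F)) := by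
      have e : c⁻¹ • w = J w := by
        conv_lhs => rw [← hc]
        rw [smul_smul, inv_mul_cancel₀ hc0, one_smul]
      rw [e, sub_self]; exact zero_mem _
    exact (Submodule.mem_bot F).1 (hS.mem_of_j (fun x hx => by
      rw [(Submodule.mem_bot F).1 hx, map_zero]; exact zero_mem _) c⁻¹ hm)
  obtain ⟨f', hf', hQf', hwf'⟩ := exists_singular_pair hS.nd (Submodule.span F {J w0})
    ((hlinej w0 hw0).resolve_right hw00) (by
      have h : Module.finrank F (Submodule.span F ({J w0} : Set (ι → F))) ≤ 1 :=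
        (finrank_span_le_card _).trans (by simp)
      omega)
  obtain ⟨f, hfdef⟩ : ∃ f, f = (B w0 f')⁻¹ • f' := ⟨_, rfl⟩
  have hQf : Q f = 0 := by rw [hfdef, q_smul, hQf', mul_zero]
  have hwf : B w0 f = 1 := by rw [hfdef, b_smul_right, inv_mul_cancel₀ hwf']
  have hjwf : B (J w0) f = 0 := by
    rw [hfdef, b_smul_right, show B (J w0) f' = 0 from hf' _ (Submodule.mem_span_singleton_self _),
      mul_zero]
  obtain ⟨f2, hf2⟩ : ∃ f2, f2 = J f - τ • f := ⟨_, rfl⟩
  have hwjf : B w0 (J f) = τ := by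
    rw [b_comm, hS.adj, b_sub_right, b_smul_right, b_comm f w0, hwf, b_comm f, hjwf, mul_one,
      sub_zero]
  set A := Submodule.span F {x | x ∈ [w0, J w0, f, J f]} with hA
  have hAd : Module.finrank F A ≤ 4 := finrank_span_list _
  obtain ⟨s, hs, hQs, hsW⟩ := exists_singular_avoid hS.nd A (Kl J w0) (by
    have := finrank_kl (J := J) w0; omega)
  have hsA : s ∉ A := fun h => by
    have hwjf' : B (J w0) (J f) = ν := by rw [hS.b_jj, hwf, mul_one]
    have hjw0 : B (J w0) w0 = 0 := by rw [b_comm]; exact hS.line w0 hw0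
    rw [hA, show {x | x ∈ [w0, J w0, f, J f]} = ({w0, J w0, f, J f} : Set (ι → F)) by ext; simp,
      Submodule.mem_span_insert] at h
    obtain ⟨a1, s1, hs1, rfl⟩ := h
    obtain ⟨a2, s2, hs2, rfl⟩ := Submodule.mem_span_insert.1 hs1
    obtain ⟨a3, a4, rfl⟩ := Submodule.mem_span_pair.1 hs2
    have e1 := mem_orth_list hs (x := w0) (by simp)
    have e2 := mem_orth_list hs (x := J w0) (by simp)
    simp only [b_add_right, b_smul_right, b_self_zero hw0, hS.line w0 hw0, hwf, hwjf, hjw0,
      b_self_zero (hS.singular_j hw0), hjwf, hwjf', mul_zero, zero_add, mul_one] at e1 e2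
    have h4 : a4 = 0 := (mul_eq_zero.1 e2).resolve_right hS.nu_ne
    rw [h4, zero_mul, add_zero] at e1
    refine hsW ?_
    rw [h4, e1, zero_smul, zero_smul, add_zero, add_zero]
    exact add_mem (Submodule.smul_mem _ _ (self_mem_kl w0)) (Submodule.smul_mem _ _ (j_mem_kl w0))
  obtain ⟨s', hs', hQs', hss'⟩ := exists_singular_pair_perp hS.nd A hsA hQs hs
  obtain ⟨w1, hw1⟩ : ∃ w1, w1 = J w0 + f2 + (s - (ν / B s s') • s') := ⟨_, rfl⟩
  have hperpA : ∀ x ∈ [w0, J w0, f, J f], B x (s - (ν / B s s') • s') = 0 := fun x hx => by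
    rw [b_sub_right, b_smul_right, mem_orth_list hs hx, mem_orth_list hs' hx, mul_zero, sub_zero]
  have hb1 : B w0 f2 = 0 := by rw [hf2, b_sub_right, b_smul_right, hwjf, hwf, mul_one, sub_self]
  have hb2 : B f f2 = 0 := by
    rw [hf2, b_sub_right, b_smul_right, hS.line f hQf, b_self_zero hQf, mul_zero, sub_zero]
  have hb3 : B (J w0) f2 = ν := by
    rw [hf2, b_sub_right, b_smul_right, hS.b_jj, hwf, hjwf, mul_one, mul_zero, sub_zero]
  have hb4 : B (J f) f2 = 0 := by
    rw [hf2, b_sub_right, b_smul_right, b_self_zero (hS.singular_j hQf), b_comm (J f) f,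
      hS.line f hQf, mul_zero, sub_zero]
  have hQ1 : Q w1 = 0 := by
    rw [hw1, q_add, q_add, hS.singular_j hw0, hb3, hf2, q_sub, q_smul, hS.singular_j hQf, hQf,
      b_smul_right, b_comm (J f) f, hS.line f hQf, q_sub, q_smul, hQs, hQs', b_smul_right,
      div_mul_cancel₀ _ hss', b_add_left, hperpA (J w0) (by simp), b_sub_left, b_smul_left,
      hperpA f (by simp), hperpA (J f) (by simp)]
    ring
  have hw0w1 : B w0 w1 = 0 := by
    rw [hw1, b_add_right, b_add_right, hS.line w0 hw0, hb1, hperpA w0 (by simp)]; ring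
  have hfw1 : B f w1 = 0 := by
    rw [hw1, b_add_right, b_add_right, b_comm f (J w0), hjwf, hb2, hperpA f (by simp)]; ring
  have hjw0 : B (J w0) w1 = ν := by
    rw [hw1, b_add_right, b_add_right, b_self_zero (hS.singular_j hw0), hb3,
      hperpA (J w0) (by simp)]
    ring
  have hjfw1 : B (J f) w1 = ν := by
    rw [hw1, b_add_right, b_add_right, hS.b_jj, b_comm f w0, hwf, hb4, hperpA (J f) (by simp)]
    ring
  have hneg : ∀ x y, B x y = 0 → B (J x) y = -B (J y) x := fun x y h => by
    rw [hS.adj, b_sub_right, b_smul_right, h, mul_zero, zero_sub, b_comm x]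
  have hF1 := hfull w1 w0 hQ1 (goodAt_symm hw0 hQ1 (hF0 w1 hw0w1)) (by
    rw [hneg w1 w0 (by rw [b_comm]; exact hw0w1), hjw0]; exact neg_ne_zero.2 hS.nu_ne)
  have hFf := hfull f w1 hQf (goodAt_symm hQ1 hQf (hF1 f (by rw [b_comm]; exact hfw1)))
    (by rw [hjfw1]; exact hS.nu_ne)
  refine El_le_of_two hS.nd hw0 hQf (by rw [hwf]; exact one_ne_zero)
    (fun v g hg => (hF0 v hg.2.1).2 1 g (by rwa [one_smul]))
    (fun v g hg => (hFf v hg.2.1).2 1 g (by rwa [one_smul]))

/-- An element not commuting with the extension but fixing nothing of it. -/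
theorem exists_moving : ∃ g : Grp Q, g ∈ El Q ∧ ∃ a, Q a = 0 ∧ ap g (J a) ∉ Kl J (ap g a) := by
  classical
  have hn := hS.dim
  obtain ⟨a, -, hQa, ha0⟩ := exists_singular_avoid hS.nd ⊥ ⊥ (by rw [finrank_bot]; omega)
  have ha : a ≠ 0 := fun e => ha0 (by rw [e]; exact zero_mem _)
  obtain ⟨f, hf, hQf, haf⟩ := exists_singular_pair hS.nd (Submodule.span F {a}) (p := J a)
    (fun h => ha (by
      obtain ⟨c, hc⟩ := Submodule.mem_span_singleton.1 h
      have hm : J a - c • a ∈ (⊥ : Submodule F (ι → F)) := by rw [hc, sub_self]; exact zero_mem _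
      exact (Submodule.mem_bot F).1 (hS.mem_of_j (fun x hx => by
        rw [(Submodule.mem_bot F).1 hx, map_zero]; exact zero_mem _) c hm))) (by
      have h : Module.finrank F (Submodule.span F ({a} : Set (ι → F))) ≤ 1 :=
        (finrank_span_le_card _).trans (by simp)
      omega)
  set A := Submodule.span F {x | x ∈ [a, J a, f]} with hA
  have hAd : Module.finrank F A ≤ 3 := finrank_span_list _
  obtain ⟨v, hv, -, hvT⟩ := exists_singular_avoid hS.nd A (A ⊔ Kl J a) (by
    have hle : A ⊔ Kl J a ≤ A := sup_le le_rfl (Submodule.span_le.2 (Set.insert_subset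
      (Submodule.subset_span (by simp)) (Set.singleton_subset_iff.2 (Submodule.subset_span (by simp)))))
    have := Submodule.finrank_mono hle
    omega)
  obtain ⟨g, hg⟩ := exists_siegel hS.nd hQf (v := v) (mem_orth_list hv (by simp))
  refine ⟨g, siegel_mem_El hg, a, hQa, fun h => ?_⟩
  have haf' : B a f = 0 := hf a (Submodule.mem_span_singleton_self a)
  have hga : ap g a = a := siegel_fix hg haf' (mem_orth_list hv (by simp))
  have hgj : ap g (J a) = J a + B (J a) f • v - (Q v * B (J a) f) • f := by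
    rw [hg.2.2, mem_orth_list hv (x := J a) (by simp), zero_smul, sub_zero]
  rw [hga, hgj] at h
  refine hvT ?_
  have h' : B (J a) f • v ∈ A ⊔ Kl J a := by
    have e : B (J a) f • v = (J a + B (J a) f • v - (Q v * B (J a) f) • f) - J a +
        (Q v * B (J a) f) • f := by abel
    rw [e]
    exact add_mem (sub_mem (Submodule.mem_sup_right h) (Submodule.mem_sup_right (j_mem_kl a)))
      (Submodule.smul_mem _ _ (Submodule.mem_sup_left (Submodule.subset_span (by simp))))
  exact (Submodule.smul_mem_iff _ haf).1 h'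

omit hM in
/-- Preserving the lines over the extension at singular vectors: normalising the extension. -/
theorem conj_mem_span {g : Grp Q} (hg : ∀ a, Q a = 0 → ap g (J a) ∈ Kl J (ap g a)) :
    ∃ α β : F, ∀ x, ap g (J x) = α • ap g x + β • J (ap g x) := by
  classical
  have hn := hS.dim
  have hc : ∀ y, Q y = 0 → ∃ α β : F, ap g (J y) = α • ap g y + β • J (ap g y) := fun y hy => by
    obtain ⟨α, β, e⟩ := Submodule.mem_span_pair.1 (hg y hy)
    exact ⟨α, β, e.symm⟩
  choose! α β hαβ using hc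
  have huniq : ∀ p q : F, ∀ w : ι → F, w ≠ 0 → p • w + q • J w = 0 → p = 0 ∧ q = 0 := by
    intro p q w hw h
    by_cases hq : q = 0
    · rw [hq, zero_smul, add_zero] at h
      exact ⟨(smul_eq_zero.1 h).resolve_right hw, hq⟩
    · exfalso
      have hm : J w - (-(p / q)) • w ∈ (⊥ : Submodule F (ι → F)) := by
        have e : J w - (-(p / q)) • w = q⁻¹ • (p • w + q • J w) := by
          rw [smul_add, smul_smul, smul_smul, inv_mul_cancel₀ hq, one_smul, div_eq_inv_mul, neg_smul,
            sub_neg_eq_add, add_comm]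
        rw [e, h, smul_zero]; exact zero_mem _
      exact hw ((Submodule.mem_bot F).1 (hS.mem_of_j (fun x hx => by
        rw [(Submodule.mem_bot F).1 hx, map_zero]; exact zero_mem _) _ hm))
  have heq : ∀ y z, Q y = 0 → Q z = 0 → y ≠ 0 → z ≠ 0 → B y z = 0 →
      ap g z ∉ Kl J (ap g y) → α y = α z ∧ β y = β z := by
    intro y z hy hz hy0 hz0 hyz hzy
    have hsum : Q (y + z) = 0 := by rw [q_add, hy, hz, hyz, add_zero, add_zero]
    have e := hαβ (y + z) hsum
    rw [map_add, ap_add, ap_add, map_add, hαβ y hy, hαβ z hz] at e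
    have hzy' : (α y - α (y + z)) • ap g y + (β y - β (y + z)) • J (ap g y) =
        -((α z - α (y + z)) • ap g z + (β z - β (y + z)) • J (ap g z)) := by
      linear_combination (norm := module) e
    have hmem : (α z - α (y + z)) • ap g z + (β z - β (y + z)) • J (ap g z) ∈ Kl J (ap g y) := by
      rw [← neg_neg ((α z - α (y + z)) • ap g z + _), ← hzy']
      exact neg_mem (add_mem (Submodule.smul_mem _ _ (self_mem_kl _))
        (Submodule.smul_mem _ _ (j_mem_kl _)))
    have hz' : (α z - α (y + z)) • ap g z + (β z - β (y + z)) • J (ap g z) = 0 := by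
      by_contra h0
      have hin : (α z - α (y + z)) • ap g z + (β z - β (y + z)) • J (ap g z) ∈ Kl J (ap g z) :=
        add_mem (Submodule.smul_mem _ _ (self_mem_kl _)) (Submodule.smul_mem _ _ (j_mem_kl _))
      have h1 := hS.kl_swap h0 hin
      have hle : Kl J ((α z - α (y + z)) • ap g z + (β z - β (y + z)) • J (ap g z)) ≤
          Kl J (ap g y) :=
        Submodule.span_le.2 (Set.insert_subset hmem (Set.singleton_subset_iff.2 (hS.kl_stable hmem)))
      exact hzy (hle h1)
    obtain ⟨hA1, hB1⟩ := huniq _ _ _ (fun e => hz0 (ap_inj g (e.trans (ap_zero g).symm))) hz'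
    rw [hz', neg_zero] at hzy'
    obtain ⟨hA2, hB2⟩ := huniq _ _ _ (fun e => hy0 (ap_inj g (e.trans (ap_zero g).symm))) hzy'
    exact ⟨(sub_eq_zero.1 hA2).trans (sub_eq_zero.1 hA1).symm,
      (sub_eq_zero.1 hB2).trans (sub_eq_zero.1 hB1).symm⟩
  obtain ⟨y0, -, hQy0, hy00⟩ := exists_singular_avoid hS.nd ⊥ ⊥ (by rw [finrank_bot]; omega)
  have hy0 : y0 ≠ 0 := fun e => hy00 (by rw [e]; exact zero_mem _)
  refine ⟨α y0, β y0, fun x => ?_⟩
  have hall : ∀ y, Q y = 0 → ap g (J y) = α y0 • ap g y + β y0 • J (ap g y) := by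
    intro y hy
    by_cases hy' : y = 0
    · rw [hy', map_zero, ap_zero, map_zero, smul_zero, smul_zero, add_zero]
    -- a common neighbour
    set A := Submodule.span F {x | x ∈ [y, y0]} with hA
    have hAd : Module.finrank F A ≤ 2 := finrank_span_list _
    set T := (Kl J (ap g y) ⊔ Kl J (ap g y0)).comap
      (Matrix.toLin' ((g : GL ι F) : Matrix ι ι F)) with hT
    have hTd : Module.finrank F T ≤ 4 := by
      have hinj : Function.Injective (Matrix.toLin' ((g : GL ι F) : Matrix ι ι F)) :=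
        fun p q e => ap_inj g e
      have h1 : Module.finrank F T =
          Module.finrank F (T.map (Matrix.toLin' ((g : GL ι F) : Matrix ι ι F))) :=
        (Submodule.equivMapOfInjective _ hinj T).finrank_eq
      rw [h1]
      refine (Submodule.finrank_mono (Submodule.map_comap_le _ _)).trans ?_
      refine (Submodule.finrank_add_le_finrank_add_finrank _ _).trans ?_
      have := finrank_kl (J := J) (ap g y); have := finrank_kl (J := J) (ap g y0); omega
    obtain ⟨z, hz, hQz, hzT⟩ := exists_singular_avoid hS.nd A T (by omega)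
    have hz0 : z ≠ 0 := fun e => hzT (by rw [e]; exact zero_mem _)
    obtain ⟨h1, h2⟩ := heq y z hy hQz hy' hz0 (mem_orth_list hz (by simp))
      fun h => hzT (Submodule.mem_comap.2 (Submodule.mem_sup_left h))
    obtain ⟨h3, h4⟩ := heq y0 z hQy0 hQz hy0 hz0 (mem_orth_list hz (by simp))
      fun h => hzT (Submodule.mem_comap.2 (Submodule.mem_sup_right h))
    rw [hαβ y hy, h1, h2, ← h3, ← h4]
  induction mem_span_singular hS.nd hQy0 hy0 x using Submodule.span_induction with
  | mem y hy => exact hall y hy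
  | zero => rw [map_zero, ap_zero, map_zero, smul_zero, smul_zero, add_zero]
  | add p q _ _ hp hq => rw [map_add, ap_add, ap_add, map_add, hp, hq]; module
  | smul c p _ hp => rw [map_smul, ap_smul, ap_smul, map_smul, hp]; module

end Setup

end CfsgLib.Orth.Overfield
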