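import Cfsg.Agent.Lib.Classical.OrthDisc
import Cfsg.Agent.Lib.Classical.OrthStab
import Cfsg.Agent.Lib.Classical.Forms
import Cfsg.Prelude.Def_EvenType
import Cfsg.Prelude.Def_CaseTheorems

set_option autoImplicit false
set_option linter.unusedSectionVars false

/-!
The 2-rank of `Ω` in odd characteristic.
-/

namespace CfsgLib.Orth.TwoRank

open Matrix

universe u v

/-- Commuting involutory maps of a space of dimension `d` form a group of order at most `2 ^ d`,
and at most `2 ^ (d - 1)` when all determinants are one. -/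
theorem card_le_end {F : Type u} [Field F] [Finite F] (h2 : (2 : F) ≠ 0) :
    ∀ (d : ℕ) (V : Type v) [AddCommGroup V] [Module F V] [Module.Finite F V],
      Module.finrank F V = d → ∀ A : Subgroup (Module.End F V)ˣ,
      (∀ a ∈ A, ∀ b ∈ A, a * b = b * a) → (∀ a ∈ A, a * a = 1) →
      Nat.card A ≤ 2 ^ d ∧
        (1 ≤ d → (∀ a ∈ A, LinearMap.det (a : Module.End F V) = 1) → Nat.card A ≤ 2 ^ (d - 1)) := by
  intro d
  induction d using Nat.strong_induction_on with
  | _ d ih =>
    intro V _ _ _ hd A hcomm hsq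
    classical
    have : Finite V := Module.finite_of_finite F
    have hN : (-1 : F) ≠ 1 := fun e => h2 (by linear_combination -e)
    have hneg : (-1 : (Module.End F V)ˣ).1 = -1 := rfl
    by_cases hs : ∀ a ∈ A, a = 1 ∨ a = -1
    · have hle : Nat.card A ≤ 2 :=
        calc Nat.card A = (A : Set (Module.End F V)ˣ).ncard := Nat.card_coe_set_eq _
          _ ≤ ({1, -1} : Set (Module.End F V)ˣ).ncard :=
              Set.ncard_le_ncard (fun a ha => by simpa using hs a ha) (Set.toFinite _)
          _ ≤ 2 := (Set.ncard_insert_le _ _).trans (by rw [Set.ncard_singleton])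
      rcases Nat.eq_zero_or_pos d with rfl | hd0
      · have : Subsingleton V := Module.finrank_zero_iff.1 hd
        have : Subsingleton A := ⟨fun a b =>
          Subtype.ext (Units.ext (LinearMap.ext fun x => Subsingleton.elim _ _))⟩
        have : Nat.card A ≤ 1 := Finite.card_le_one_iff_subsingleton.2 this
        exact ⟨by omega, by omega⟩
      refine ⟨hle.trans (Nat.le_self_pow (by omega) 2), fun _ hdet => ?_⟩
      by_cases hd1 : d = 1
      · subst hd1
        have hA : ∀ a ∈ A, a = 1 := by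
          intro a ha
          refine (hs a ha).resolve_right fun e => hN ?_
          have h := hdet a ha
          rw [e, hneg, ← neg_one_smul F (1 : Module.End F V), LinearMap.det_smul, hd, pow_one,
            map_one, mul_one] at h
          exact h
        have : Subsingleton A := ⟨fun a b => Subtype.ext ((hA a a.2).trans (hA b b.2).symm)⟩
        simpa using Finite.card_le_one_iff_subsingleton.2 this
      · exact hle.trans (Nat.le_self_pow (by omega) 2)
    push Not at hs
    obtain ⟨t, ht, ht1, ht2⟩ := hs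
    let P : Submodule F V := LinearMap.ker ((t : Module.End F V) - 1)
    let M : Submodule F V := LinearMap.ker ((t : Module.End F V) + 1)
    have htt : ∀ x, (t : Module.End F V) ((t : Module.End F V) x) = x := fun x =>
      LinearMap.congr_fun (congrArg Units.val (hsq t ht)) x
    have hP : ∀ x, x ∈ P ↔ (t : Module.End F V) x = x := fun x => by
      simp [P, LinearMap.mem_ker, sub_eq_zero]
    have hM : ∀ x, x ∈ M ↔ (t : Module.End F V) x = -x := fun x => by
      simp [M, LinearMap.mem_ker, add_eq_zero_iff_eq_neg]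
    have hc : IsCompl P M := by
      constructor
      · rw [Submodule.disjoint_def]
        intro x hx hx'
        have h : (2 : F) • x = 0 := by
          rw [two_smul]
          nth_rewrite 1 [← (hP x).1 hx]
          rw [(hM x).1 hx', neg_add_cancel]
        exact (smul_eq_zero.1 h).resolve_left h2
      · rw [codisjoint_iff, eq_top_iff]
        intro x _
        refine Submodule.mem_sup.2 ⟨(2 : F)⁻¹ • (x + (t : Module.End F V) x), ?_,
          (2 : F)⁻¹ • (x - (t : Module.End F V) x), ?_, ?_⟩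
        · rw [hP, map_smul, map_add, htt, add_comm]
        · rw [hM, map_smul, map_sub, htt, ← smul_neg, neg_sub]
        · rw [← smul_add, add_add_sub_cancel, ← two_smul F x, inv_smul_smul₀ h2]
    have hct : ∀ a : A, ∀ x, (t : Module.End F V) ((a : (Module.End F V)ˣ).1 x) =
        (a : (Module.End F V)ˣ).1 ((t : Module.End F V) x) := fun a x =>
      LinearMap.congr_fun (congrArg Units.val (hcomm t ht a a.2)) x
    have hPi : ∀ a : A, ∀ x ∈ P, (a : (Module.End F V)ˣ).1 x ∈ P := fun a x hx => by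
      rw [hP, hct, (hP x).1 hx]
    have hMi : ∀ a : A, ∀ x ∈ M, (a : (Module.End F V)ˣ).1 x ∈ M := fun a x hx => by
      rw [hM, hct, (hM x).1 hx, map_neg]
    let rP : A →* (Module.End F P)ˣ := MonoidHom.toHomUnits
      { toFun := fun a => LinearMap.restrict _ (hPi a)
        map_one' := LinearMap.ext fun x => Subtype.ext rfl
        map_mul' := fun a b => LinearMap.ext fun x => Subtype.ext rfl }
    let rM : A →* (Module.End F M)ˣ := MonoidHom.toHomUnits
      { toFun := fun a => LinearMap.restrict _ (hMi a)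
        map_one' := LinearMap.ext fun x => Subtype.ext rfl
        map_mul' := fun a b => LinearMap.ext fun x => Subtype.ext rfl }
    have hdim : Module.finrank F P + Module.finrank F M = d := by
      rw [Submodule.finrank_add_eq_of_isCompl hc, hd]
    have hP1 : 1 ≤ Module.finrank F P := by
      by_contra h
      have hb : P = ⊥ := Submodule.finrank_eq_zero.1 (by omega)
      have hMt : M = ⊤ := by simpa [hb] using hc.sup_eq_top
      exact ht2 (Units.ext (LinearMap.ext fun x => (hM x).1 (hMt ▸ Submodule.mem_top)))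
    have hM1 : 1 ≤ Module.finrank F M := by
      by_contra h
      have hb : M = ⊥ := Submodule.finrank_eq_zero.1 (by omega)
      have hPt : P = ⊤ := by simpa [hb] using hc.sup_eq_top
      exact ht1 (Units.ext (LinearMap.ext fun x => (hP x).1 (hPt ▸ Submodule.mem_top)))
    have hker : Function.Injective (fun a : rP.ker => rM a) := by
      intro a b e
      refine Subtype.ext (Subtype.ext (Units.ext (LinearMap.ext fun x => ?_)))
      obtain ⟨y, hy, z, hz, rfl⟩ := Submodule.mem_sup.1
        (hc.sup_eq_top.symm ▸ Submodule.mem_top : x ∈ P ⊔ M)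
      rw [map_add, map_add]
      congr 1
      · have ha := congrArg (fun u : (Module.End F P)ˣ => ((u.1 ⟨y, hy⟩ : P) : V))
          (MonoidHom.mem_ker.1 a.2)
        have hb := congrArg (fun u : (Module.End F P)ˣ => ((u.1 ⟨y, hy⟩ : P) : V))
          (MonoidHom.mem_ker.1 b.2)
        exact ha.trans hb.symm
      · exact congrArg (fun u : (Module.End F M)ˣ => ((u.1 ⟨z, hz⟩ : M) : V)) e
    have hcard : Nat.card A = Nat.card rP.ker * Nat.card rP.range := by
      rw [← Subgroup.index_ker, Subgroup.card_mul_index]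
    have hK : Nat.card rP.ker = Nat.card (rP.ker.map rM) :=
      Nat.card_congr (Equiv.ofBijective (fun a => ⟨rM a, Subgroup.mem_map_of_mem rM a.2⟩)
        ⟨fun a b e => hker (congrArg Subtype.val e), fun ⟨_, a, ha, e⟩ => ⟨⟨a, ha⟩, Subtype.ext e⟩⟩)
    obtain ⟨hR, -⟩ := ih _ (by omega) P rfl rP.range
      (by rintro _ ⟨a, rfl⟩ _ ⟨b, rfl⟩
          rw [← map_mul, ← map_mul, Subtype.ext (hcomm a a.2 b b.2 : _) (a1 := a * b) (a2 := b * a)])
      (by rintro _ ⟨a, rfl⟩
          rw [← map_mul, Subtype.ext (hsq a a.2) (a1 := a * a) (a2 := 1), map_one])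
    obtain ⟨hK1, hK2⟩ := ih _ (by omega) M rfl (rP.ker.map rM)
      (by rintro _ ⟨a, -, rfl⟩ _ ⟨b, -, rfl⟩
          rw [← map_mul, ← map_mul, Subtype.ext (hcomm a a.2 b b.2 : _) (a1 := a * b) (a2 := b * a)])
      (by rintro _ ⟨a, -, rfl⟩
          rw [← map_mul, Subtype.ext (hsq a a.2) (a1 := a * a) (a2 := 1), map_one])
    refine ⟨?_, fun _ hdet => ?_⟩
    · rw [hcard, hK, ← hdim, add_comm, pow_add]
      exact Nat.mul_le_mul hK1 hR
    · rw [hcard, hK, show d - 1 = (Module.finrank F M - 1) + Module.finrank F P by omega, pow_add]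
      refine Nat.mul_le_mul (hK2 hM1 ?_) hR
      rintro _ ⟨a, ha, rfl⟩
      let e := Submodule.prodEquivOfIsCompl P M hc
      have hconj : (a : (Module.End F V)ˣ).1 =
          (e : (P × M) →ₗ[F] V) ∘ₗ LinearMap.prodMap (LinearMap.id : P →ₗ[F] P) ((rM a).1) ∘ₗ
            (e.symm : V →ₗ[F] (P × M)) := by
        refine LinearMap.ext fun x => ?_
        obtain ⟨⟨y, z⟩, rfl⟩ := e.surjective x
        show _ = e (LinearMap.prodMap (LinearMap.id : P →ₗ[F] P) ((rM a).1) (e.symm (e (y, z))))
        rw [LinearEquiv.symm_apply_apply, LinearMap.prodMap_apply, LinearMap.id_apply]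
        simp only [e, Submodule.coe_prodEquivOfIsCompl', map_add]
        congr 1
        exact congrArg (fun u : (Module.End F P)ˣ => ((u.1 y : P) : V)) (MonoidHom.mem_ker.1 ha)
      have h := hdet a a.2
      rw [hconj, LinearMap.det_conj, LinearMap.det_prodMap, LinearMap.det_id, one_mul] at h
      exact h

variable {F : Type u} [Field F] [Finite F] {ι : Type} [Fintype ι] [DecidableEq ι]

/-- The same for matrix groups. -/
theorem card_le_gl (h2 : (2 : F) ≠ 0) (A : Subgroup (GL ι F))
    (hcomm : ∀ a ∈ A, ∀ b ∈ A, a * b = b * a) (hsq : ∀ a ∈ A, a * a = 1)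
    (hdet : ∀ a ∈ A, (a : Matrix ι ι F).det = 1) (hn : 1 ≤ Fintype.card ι) :
    Nat.card A ≤ 2 ^ (Fintype.card ι - 1) := by
  let e : GL ι F ≃* (Module.End F (ι → F))ˣ := Units.mapEquiv (Matrix.toLinAlgEquiv' (R := F) (n := ι)).toMulEquiv
  have h := (card_le_end h2 _ (ι → F) rfl (A.map e.toMonoidHom)
    (by rintro _ ⟨a, ha, rfl⟩ _ ⟨b, hb, rfl⟩; rw [← map_mul, ← map_mul, hcomm a ha b hb])
    (by rintro _ ⟨a, ha, rfl⟩; rw [← map_mul, hsq a ha, map_one])).2
    (by rw [Module.finrank_fintype_fun_eq_card]; exact hn)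
    (by rintro _ ⟨a, ha, rfl⟩
        show LinearMap.det (Matrix.toLin' (a : Matrix ι ι F)) = 1
        rw [LinearMap.det_toLin', hdet a ha])
  rw [Module.finrank_fintype_fun_eq_card] at h
  rwa [Nat.card_congr (A.equivMapOfInjective e.toMonoidHom e.injective).toEquiv]

variable {Q : QuadraticForm F (ι → F)}

theorem det_omega {g : Grp Q} (hg : g ∈ Cfsg.Omega F ⇑Q) :
    (((g : GL ι F)) : Matrix ι ι F).det = 1 := by
  have : (Matrix.GeneralLinearGroup.det.comp (Cfsg.isometryGroup F ⇑Q).subtype) g = 1 :=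
    Abelianization.commutator_subset_ker _ hg
  exact congrArg Units.val this

theorem rank_le (h2 : (2 : F) ≠ 0) (hn : 1 ≤ Fintype.card ι) :
    Cfsg.PRankLE 2 (Fintype.card ι - 1) (Cfsg.Omega F ⇑Q) := by
  intro A hA hsq
  let f : Cfsg.Omega F ⇑Q →* GL ι F :=
    (Cfsg.isometryGroup F ⇑Q).subtype.comp (Cfsg.Omega F ⇑Q).subtype
  have hinj : Function.Injective f :=
    (Cfsg.isometryGroup F ⇑Q).subtype_injective.comp (Cfsg.Omega F ⇑Q).subtype_injective
  rw [Nat.card_congr (A.equivMapOfInjective f hinj).toEquiv]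
  refine card_le_gl h2 _ ?_ ?_ ?_ hn
  · rintro _ ⟨a, ha, rfl⟩ _ ⟨b, hb, rfl⟩
    rw [← map_mul, ← map_mul]
    exact congrArg f (congrArg Subtype.val (hA.is_comm.comm ⟨a, ha⟩ ⟨b, hb⟩))
  · rintro _ ⟨a, ha, rfl⟩
    rw [← map_mul, ← pow_two, hsq a ha, map_one]
  · rintro _ ⟨a, -, rfl⟩
    exact det_omega a.2

theorem rank_le_two (h2 : (2 : F) ≠ 0) (hev : Even (Fintype.card ι)) (hn : 2 ≤ Fintype.card ι)
    (hneg : ¬ ∃ g : Grp Q, g ∈ Cfsg.Omega F ⇑Q ∧ ((g : GL ι F) : Matrix ι ι F) = -1) :
    Cfsg.PRankLE 2 (Fintype.card ι - 2) (Cfsg.Omega F ⇑Q) := by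
  intro A hA hsq
  let f : Cfsg.Omega F ⇑Q →* GL ι F :=
    (Cfsg.isometryGroup F ⇑Q).subtype.comp (Cfsg.Omega F ⇑Q).subtype
  have hinj : Function.Injective f :=
    (Cfsg.isometryGroup F ⇑Q).subtype_injective.comp (Cfsg.Omega F ⇑Q).subtype_injective
  have hm1 : (-1 : GL ι F) ∉ A.map f := by
    rintro ⟨a, -, e⟩
    exact hneg ⟨a, a.2, congrArg Units.val e⟩
  let Z : Subgroup (GL ι F) := Subgroup.zpowers (-1)
  have hZ : ∀ z ∈ Z, z = 1 ∨ z = -1 := by
    rintro _ ⟨k, rfl⟩
    rcases Int.even_or_odd k with hk | hk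
    · exact Or.inl hk.neg_one_zpow
    · exact Or.inr hk.neg_one_zpow
  let φ : A × Multiplicative (ZMod 2) → GL ι F := fun p =>
    if p.2 = 1 then f p.1 else -f p.1
  have hne : ∀ a b : A, f a ≠ -f b := by
    intro a b e
    apply hm1
    exact ⟨((a * b⁻¹ : A) : Cfsg.Omega F ⇑Q), (a * b⁻¹).2, by
      rw [Subgroup.coe_mul, Subgroup.coe_inv, map_mul, map_inv, e, neg_mul, mul_inv_cancel]⟩
  let A' : Subgroup (GL ι F) := A.map f ⊔ Z
  have hmem : ∀ p, φ p ∈ A' := by
    rintro ⟨a, u⟩
    have h1 : f a ∈ A' := Subgroup.mem_sup_left ⟨a, a.2, rfl⟩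
    by_cases hu : u = 1
    · simpa [φ, hu] using h1
    · simp only [φ, hu, if_false]
      rw [← neg_one_mul]
      exact Subgroup.mul_mem _ (Subgroup.mem_sup_right (Subgroup.mem_zpowers _)) h1
  have hφ : Function.Injective φ := by
    rintro ⟨a, u⟩ ⟨b, w⟩ e
    have hu2 : ∀ z : Multiplicative (ZMod 2), z ≠ 1 → z = Multiplicative.ofAdd 1 := by decide
    by_cases hu : u = 1 <;> by_cases hw : w = 1 <;> simp only [φ, hu, hw, if_true, if_false] at e
    · exact Prod.ext (Subtype.ext (hinj e)) (hu.trans hw.symm)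
    · exact absurd e (hne a b)
    · exact absurd e.symm (hne b a)
    · exact Prod.ext (Subtype.ext (hinj (neg_injective e))) ((hu2 u hu).trans (hu2 w hw).symm)
  have key : Nat.card A' ≤ 2 ^ (Fintype.card ι - 1) := by
    have hgen : ∀ x ∈ A', ∃ a ∈ A, ∃ z ∈ Z, x = f a * z := by
      intro x hx
      haveI : Z.Normal := ⟨fun z hz g => by rcases hZ z hz with rfl | rfl <;> simp [Z]⟩
      rw [Subgroup.mem_sup_of_normal_right] at hx
      obtain ⟨_, ⟨a, ha, rfl⟩, z, hz, rfl⟩ := hx
      exact ⟨a, ha, z, hz, rfl⟩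
    have hzc : ∀ z ∈ Z, ∀ x : GL ι F, z * x = x * z := fun z hz x => by
      rcases hZ z hz with rfl | rfl <;> simp
    refine card_le_gl h2 A' ?_ ?_ ?_ (by omega)
    · intro x hx y hy
      obtain ⟨a, ha, z, hz, rfl⟩ := hgen x hx
      obtain ⟨b, hb, w, hw, rfl⟩ := hgen y hy
      have hab : f a * f b = f b * f a := by
        rw [← map_mul, ← map_mul]
        exact congrArg f (congrArg Subtype.val (hA.is_comm.comm ⟨a, ha⟩ ⟨b, hb⟩))
      calc f a * z * (f b * w) = f a * (z * f b) * w := by simp [mul_assoc]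
        _ = f a * f b * (z * w) := by rw [hzc z hz]; simp [mul_assoc]
        _ = f b * f a * (w * z) := by rw [hab, hzc z hz w]
        _ = f b * (f a * w) * z := by simp [mul_assoc]
        _ = f b * (w * f a) * z := by rw [hzc w hw]
        _ = f b * w * (f a * z) := by simp [mul_assoc]
    · intro x hx
      obtain ⟨a, ha, z, hz, rfl⟩ := hgen x hx
      rw [mul_assoc, ← mul_assoc z, hzc z hz, mul_assoc, ← mul_assoc, ← map_mul, ← pow_two a,
        hsq a ha, map_one, one_mul]
      rcases hZ z hz with rfl | rfl <;> simp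
    · intro x hx
      obtain ⟨a, ha, z, hz, rfl⟩ := hgen x hx
      rw [Units.val_mul, Matrix.det_mul]
      show _ * _ = (1 : F)
      rw [show ((f a : GL ι F) : Matrix ι ι F).det = 1 from det_omega a.2, one_mul]
      rcases hZ z hz with rfl | rfl
      · simp
      · rw [Units.val_neg, Units.val_one, Matrix.det_neg, Matrix.det_one, mul_one, hev.neg_one_pow]
  have h := Nat.card_le_card_of_injective (fun p => (⟨φ p, hmem p⟩ : A'))
    (fun p p' e => hφ (congrArg Subtype.val e))
  rw [Nat.card_prod, show Nat.card (Multiplicative (ZMod 2)) = 2 from Nat.card_zmod 2] at h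
  have h' := h.trans key
  rw [show Fintype.card ι - 1 = (Fintype.card ι - 2) + 1 by omega, pow_succ] at h'
  exact Nat.le_of_mul_le_mul_right h' two_pos

/-- Even sign changes along an orthogonal frame with equal norms. -/
theorem rank_ge (hB : Nondeg Q) (h2 : (2 : F) ≠ 0) {κ : Type*} [Fintype κ]
    (b : Module.Basis κ F (ι → F)) (horth : ∀ i j, i ≠ j → QuadraticMap.polar ⇑Q (b i) (b j) = 0)
    (hne : ∀ i, Q (b i) ≠ 0) {k : ℕ} (c : Fin (k + 1) → κ) (hc : Function.Injective c)
    (hsame : ∀ i, IsSquare (Q (b (c 0)) * Q (b (c i)))) :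
    Cfsg.PRankAtLeast 2 k (Cfsg.Omega F ⇑Q) := by
  classical
  have hpi : ∀ f : κ → ℤˣ, ∃ g : Grp Q, ∀ i, ap g (b i) = ((f i : ℤ) : F) • b i := by
    intro f
    obtain ⟨g, hg⟩ := exists_iso hB (b.constr F fun i => ((f i : ℤ) : F) • b i) (fun x => by
      conv_rhs => rw [← b.sum_repr x]
      rw [Module.Basis.constr_apply_fintype]
      simp only [Module.Basis.equivFun_apply]
      have key : ∀ (s : Finset κ) (w : κ → F), Q (∑ i ∈ s, w i • b i) = ∑ i ∈ s, w i * w i * Q (b i) := by
        intro s w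
        induction s using Finset.induction_on with
        | empty => simp
        | @insert i s hi ih =>
          rw [Finset.sum_insert hi, q_add, ih, q_smul, Finset.sum_insert hi,
            show QuadraticMap.polar ⇑Q (w i • b i) (∑ j ∈ s, w j • b j) = 0 from ?_, add_zero]
          rw [← QuadraticMap.polarBilin_apply_apply, map_sum]
          refine Finset.sum_eq_zero fun j hj => ?_
          rw [QuadraticMap.polarBilin_apply_apply, b_smul_left, b_smul_right,
            horth i j (fun e => hi (e ▸ hj)), mul_zero, mul_zero]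
      simp only [smul_smul]
      rw [key, key]
      refine Finset.sum_congr rfl fun i _ => ?_
      rcases Int.units_eq_one_or (f i) with e | e <;> simp [e])
    exact ⟨g, fun i => by rw [hg, Module.Basis.constr_basis]⟩
  choose g hg using hpi
  have hext : ∀ x y : Grp Q, (∀ i, ap x (b i) = ap y (b i)) → x = y := fun x y h =>
    Subtype.ext (Units.ext (Matrix.toLin'.injective (b.ext fun i => by
      rw [Matrix.toLin'_apply, Matrix.toLin'_apply]; exact h i)))
  let Φ : (κ → ℤˣ) →* Grp Q :=
    { toFun := g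
      map_one' := hext _ _ fun i => by simp [hg]
      map_mul' := fun u w => hext _ _ fun i => by
        rw [ap_mul, hg, hg, ap_smul, hg, smul_smul, Pi.mul_apply, Units.val_mul, Int.cast_mul,
          mul_comm] }
  let ψ : (Fin k → ℤˣ) →* (κ → ℤˣ) :=
    { toFun := fun u i => ∏ j, if i = c 0 ∨ i = c j.succ then u j else 1
      map_one' := by funext i; simp
      map_mul' := fun u w => by
        funext i
        rw [Pi.mul_apply, ← Finset.prod_mul_distrib]
        exact Finset.prod_congr rfl fun j _ => by split_ifs <;> simp }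
  have hψ : ∀ u j, ψ u (c (Fin.succ j)) = u j := by
    intro u j
    show ∏ l : Fin k, _ = _
    rw [Finset.prod_eq_single j (fun l _ hl => ?_) (by simp), if_pos (Or.inr rfl)]
    rw [if_neg]
    rintro (e | e)
    · exact absurd (hc e) (Fin.succ_ne_zero _)
    · exact hl (Fin.succ_injective _ (hc e)).symm
  have hinj : Function.Injective (Φ.comp ψ) := by
    intro u w e
    funext j
    have h := congrArg (fun x : Grp Q => ap x (b (c j.succ))) e
    simp only [MonoidHom.comp_apply, Φ, MonoidHom.coe_mk, OneHom.coe_mk, hg, hψ] at h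
    have h' := smul_left_injective F (b.ne_zero _) h
    rcases Int.units_eq_one_or (u j) with a | a <;> rcases Int.units_eq_one_or (w j) with a' | a' <;>
      simp [a, a'] at h' ⊢
    · exact h2 (by linear_combination h')
    · exact h2 (by linear_combination -h')
  have hone : ∀ i, ∀ r : Grp Q, IsRefl (b i) r → r = Φ (Pi.mulSingle i (-1)) := by
    intro i r hr
    refine hext _ _ fun l => ?_
    simp only [Φ, MonoidHom.coe_mk, OneHom.coe_mk, hg]
    by_cases hl : l = i
    · subst hl; rw [refl_self hr]; simp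
    · rw [refl_fix hr (horth i l (Ne.symm hl))]; simp [hl]
  have homega : ∀ u, Φ (ψ u) ∈ Cfsg.Omega F ⇑Q := by
    intro u
    show u ∈ (Cfsg.Omega F ⇑Q).comap (Φ.comp ψ)
    rw [← Finset.univ_prod_mulSingle u]
    refine Subgroup.prod_mem _ fun j _ => ?_
    show Φ (ψ _) ∈ Cfsg.Omega F ⇑Q
    rcases Int.units_eq_one_or (u j) with e | e <;> rw [e]
    · rw [Pi.mulSingle_one, map_one, map_one]; exact Subgroup.one_mem _
    obtain ⟨r, hr⟩ := exists_refl hB (hne (c 0))
    obtain ⟨s, hs⟩ := exists_refl hB (hne (c j.succ))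
    have e1 : ψ (Pi.mulSingle j (-1)) = Pi.mulSingle (c 0) (-1) * Pi.mulSingle (c j.succ) (-1) := by
      funext i
      show ∏ l : Fin k, _ = _
      rw [Finset.prod_eq_single j (fun l _ hl => by simp [hl]) (by simp), Pi.mulSingle_eq_same]
      have hne' : c 0 ≠ c j.succ := fun e => Fin.succ_ne_zero j (hc e).symm
      by_cases h0 : i = c 0
      · subst h0; simp [hne']
      by_cases hj : i = c j.succ
      · subst hj; simp [hne'.symm]
      simp [h0, hj]
    rw [e1, map_mul, ← hone _ r hr, ← hone _ s hs]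
    have := QuotientGroup.eq.1 (mk_refl_of_square hB h2 hr hs (hsame _))
    rwa [refl_inv hr] at this
  let Θ : (Fin k → ℤˣ) →* Cfsg.Omega F ⇑Q := (Φ.comp ψ).codRestrict _ homega
  refine ⟨Θ.range, ⟨⟨?_⟩⟩, ?_, ?_⟩
  · rintro ⟨_, u, rfl⟩ ⟨_, w, rfl⟩
    exact Subtype.ext (by rw [Subgroup.coe_mul, Subgroup.coe_mul, ← map_mul, mul_comm, map_mul])
  · rintro _ ⟨u, rfl⟩
    rw [← map_pow, show u ^ 2 = 1 from funext fun j => Int.units_sq (u j), map_one]
  · rw [Nat.card_congr (MonoidHom.ofInjective (f := Θ)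
      (fun u w e => hinj (congrArg Subtype.val e))).symm.toEquiv, Nat.card_fun, Nat.card_fin]
    simp [Nat.card_eq_fintype_card]

/-- A frame of norms one except possibly the last. -/
theorem exists_frame (hB : Nondeg Q) (h2 : (2 : F) ≠ 0) {n : ℕ}
    (hn : Fintype.card ι = n + 1) :
    ∃ (α : F) (b : Module.Basis (Fin (n + 1)) F (ι → F)), ¬ IsSquare α ∧
      (∀ i j, i ≠ j → QuadraticMap.polar ⇑Q (b i) (b j) = 0) ∧
      (∀ i, i ≠ Fin.last n → QuadraticMap.polar ⇑Q (b i) (b i) = 1) ∧
      (QuadraticMap.polar ⇑Q (b (Fin.last n)) (b (Fin.last n)) = 1 ∨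
        QuadraticMap.polar ⇑Q (b (Fin.last n)) (b (Fin.last n)) = α) := by
  obtain ⟨α, hα⟩ := FiniteField.exists_nonsquare (F := F) fun e => h2 (by
    have := CharP.cast_eq_zero F (ringChar F)
    rw [e] at this
    exact_mod_cast this)
  obtain ⟨b, hb⟩ := CfsgLib.Forms.exists_orthogonal_basis_one h2 α hα n
    (QuadraticMap.polarBilin Q) (fun x y => b_comm x y) (fun x h => hB x h)
    (by rw [Module.finrank_fintype_fun_eq_card, hn])
  exact ⟨α, b, hα, hb⟩

theorem q_of_b (h2 : (2 : F) ≠ 0) {v : ι → F} {x : F} (h : QuadraticMap.polar ⇑Q v v = x) :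
    Q v = x / 2 := by
  rw [eq_div_iff h2, ← h, b_self, mul_comm]

theorem rank_odd (hB : Nondeg Q) (h2 : (2 : F) ≠ 0) {n : ℕ} (hn : Fintype.card ι = 2 * n + 1) :
    Cfsg.PRankAtLeast 2 (2 * n) (Cfsg.Omega F ⇑Q) ∧ Cfsg.PRankLE 2 (2 * n) (Cfsg.Omega F ⇑Q) := by
  refine ⟨?_, ?_⟩
  swap
  · have := rank_le (Q := Q) h2 (by omega)
    rwa [hn, Nat.add_sub_cancel] at this
  obtain ⟨α, b, hα, horth, hone, hlast⟩ := exists_frame hB h2 (n := 2 * n) hn
  have hhalf : IsSquare ((1 : F) / 2 * (1 / 2)) := ⟨_, rfl⟩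
  rcases hlast with hl | hl
  · have hall : ∀ i, Q (b i) = 1 / 2 := fun i => q_of_b h2 (by
      rcases eq_or_ne i (Fin.last _) with rfl | h
      · exact hl
      · exact hone i h)
    exact rank_ge hB h2 b horth (fun i => by rw [hall]; exact div_ne_zero one_ne_zero h2) id
      Function.injective_id fun i => by rw [hall, hall]; exact hhalf
  have hα0 : α ≠ 0 := fun e => hα (e ▸ IsSquare.zero)
  obtain ⟨x, y, hxy⟩ : ∃ x y : F, x * x + y * y = α := by
    cases nonempty_fintype F
    obtain ⟨x, y, h⟩ := FiniteField.exists_root_sum_quadratic (R := F)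
      (f := Polynomial.X ^ 2) (g := Polynomial.X ^ 2 + Polynomial.C (-α))
      (Polynomial.degree_X_pow 2) (Polynomial.degree_X_pow_add_C two_pos _)
      (FiniteField.odd_card_of_char_ne_two fun e => h2 (by
        have := CharP.cast_eq_zero F (ringChar F)
        rw [e] at this
        exact_mod_cast this))
    simp at h
    exact ⟨x, y, by linear_combination h⟩
  -- turn pairs of norms one into pairs of norms α
  let p : Fin (2 * n + 1) → Fin (2 * n + 1) := fun i =>
    if h : i.val = 2 * n then i else if h' : i.val % 2 = 0 then ⟨i.val + 1, by omega⟩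
    else ⟨i.val - 1, by omega⟩
  let v : Fin (2 * n + 1) → ι → F := fun i =>
    if i.val = 2 * n then b i else if i.val % 2 = 0 then x • b i + y • b (p i)
    else -y • b (p i) + x • b i
  have hbb : ∀ i, i.val ≠ 2 * n → QuadraticMap.polar ⇑Q (b i) (b i) = 1 := fun i hi =>
    hone i fun e => hi (by rw [e]; rfl)
  have hp : ∀ i : Fin (2 * n + 1), i.val ≠ 2 * n →
      (p i).val ≠ 2 * n ∧ p i ≠ i ∧ p (p i) = i := by
    intro i hi
    have := i.2
    by_cases h' : i.val % 2 = 0
    · have e : p i = ⟨i.val + 1, by omega⟩ := by simp [p, hi, h']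
      rw [e]
      refine ⟨by simp only; omega, fun e => by simp [Fin.ext_iff] at e, ?_⟩
      simp only [p]
      rw [dif_neg (by omega), dif_neg (by omega)]
      exact Fin.ext (by simp)
    · have e : p i = ⟨i.val - 1, by omega⟩ := by simp [p, hi, h']
      rw [e]
      refine ⟨by simp only; omega, fun e => by simp [Fin.ext_iff] at e; omega, ?_⟩
      simp only [p]
      rw [dif_neg (by omega), dif_pos (by omega)]
      exact Fin.ext (by simp only; omega)
  have hv : ∀ i j, i ≠ j → QuadraticMap.polar ⇑Q (v i) (v j) = 0 := by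
    intro i j hij
    by_cases hi : i.val = 2 * n
    · have hj : j.val ≠ 2 * n := fun e => hij (Fin.ext (hi.trans e.symm))
      obtain ⟨h1, -, -⟩ := hp j hj
      have o1 := horth i j hij
      have o2 := horth i (p j) fun e => h1 (e ▸ hi)
      by_cases h' : j.val % 2 = 0 <;>
        simp [v, hi, hj, h', b_add_right, b_smul_right, o1, o2]
    by_cases hj : j.val = 2 * n
    · obtain ⟨h1, -, -⟩ := hp i hi
      have o1 := horth i j hij
      have o2 := horth (p i) j fun e => h1 (e.symm ▸ hj)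
      by_cases h' : i.val % 2 = 0 <;>
        simp [v, hi, hj, h', b_add_left, b_smul_left, o1, o2]
    obtain ⟨-, -, hi2⟩ := hp i hi
    obtain ⟨-, -, hj2⟩ := hp j hj
    have o1 := horth i j hij
    by_cases hpij : p i = j
    · have o4 : p j = i := by rw [← hpij, hi2]
      have hpar : (i.val % 2 = 0) = ¬ (j.val % 2 = 0) := by
        rw [← hpij]
        simp only [p, hi, dif_neg, not_false_eq_true]
        split_ifs with h' <;> simp [h'] <;> omega
      have ho := horth j i hij.symm
      by_cases h' : i.val % 2 = 0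
      · have hj' : ¬ (j.val % 2 = 0) := by rw [← hpar]; exact h'
        simp [v, hi, hj, h', hj', hpij, o4, b_add_left, b_add_right, b_smul_left, b_smul_right,
          o1, ho, hbb i hi, hbb j hj]
        ring
      · have hj' : j.val % 2 = 0 := by
          by_contra h''
          exact h' (hpar ▸ h'')
        simp [v, hi, hj, h', hj', hpij, o4, b_add_left, b_add_right, b_smul_left, b_smul_right,
          o1, ho, hbb i hi, hbb j hj]
        ring
    · have o2 : QuadraticMap.polar ⇑Q (b (p i)) (b j) = 0 := horth _ _ hpij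
      have o3 : QuadraticMap.polar ⇑Q (b i) (b (p j)) = 0 :=
        horth _ _ fun e => hpij (by rw [e, hj2])
      have o5 : QuadraticMap.polar ⇑Q (b (p i)) (b (p j)) = 0 :=
        horth _ _ fun e => hij (by rw [← hi2, e, hj2])
      by_cases h' : i.val % 2 = 0 <;> by_cases h'' : j.val % 2 = 0 <;>
        simp [v, hi, hj, h', h'', b_add_left, b_add_right, b_smul_left, b_smul_right, o1, o2, o3, o5]
  have hvα : ∀ i, QuadraticMap.polar ⇑Q (v i) (v i) = α := by
    intro i
    by_cases hi : i.val = 2 * n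
    · simp only [v, hi, if_true]
      rw [show i = Fin.last (2 * n) from Fin.ext hi]; exact hl
    obtain ⟨h1, h2', -⟩ := hp i hi
    have o := horth i (p i) (Ne.symm h2')
    have o' := horth (p i) i h2'
    by_cases h' : i.val % 2 = 0 <;>
      simp only [v, hi, h', if_true, if_false, b_add_left, b_add_right, b_smul_left, b_smul_right, o, o',
        hbb i hi, hbb _ h1] <;>
      linear_combination hxy
  have hQv : ∀ i, Q (v i) = α / 2 := fun i => q_of_b h2 (hvα i)
  have hQ0 : ∀ i, Q (v i) ≠ 0 := fun i => by rw [hQv]; exact div_ne_zero hα0 h2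
  have hli := linearIndependent_frame h2 v hQ0 hv
  let b' := basisOfLinearIndependentOfCardEqFinrank hli
    (by rw [Fintype.card_fin, Module.finrank_fintype_fun_eq_card, hn])
  have hb' : ∀ i, b' i = v i := fun i => by simp [b']
  exact rank_ge hB h2 b' (fun i j h => by rw [hb', hb']; exact hv i j h)
    (fun i => by rw [hb']; exact hQ0 i) id Function.injective_id
    fun i => ⟨α / 2, by simp [hb', hQv]⟩

theorem rank_even (hB : Nondeg Q) (h2 : (2 : F) ≠ 0) {n : ℕ} (hn : Fintype.card ι = 2 * (n + 1))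
    {κ : Type*} [Fintype κ] (hcard : Fintype.card κ = 2 * (n + 1)) (e : κ → ι → F)
    (he : ∀ i, Q (e i) ≠ 0) (hp : ∀ i j, i ≠ j → QuadraticMap.polar ⇑Q (e i) (e j) = 0) :
    (IsSquare (∏ i, Q (e i)) →
      Cfsg.PRankAtLeast 2 (2 * (n + 1) - 1) (Cfsg.Omega F ⇑Q) ∧
        Cfsg.PRankLE 2 (2 * (n + 1) - 1) (Cfsg.Omega F ⇑Q)) ∧
    (¬ IsSquare (∏ i, Q (e i)) →
      Cfsg.PRankAtLeast 2 (2 * (n + 1) - 2) (Cfsg.Omega F ⇑Q) ∧
        Cfsg.PRankLE 2 (2 * (n + 1) - 2) (Cfsg.Omega F ⇑Q)) := by
  obtain ⟨α, b, hα, horth, hone, hlast⟩ := exists_frame hB h2 (n := 2 * n + 1) hn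
  have hfr : Module.finrank F (ι → F) = 2 * (n + 1) := by
    rw [Module.finrank_fintype_fun_eq_card, hn]
  have hiff := neg_one_mem_omega_iff hB h2 (κ := κ) (by rw [hcard, hfr]) (by rw [hcard]; exact even_two_mul _)
    (by omega) e he hp
  have hne : ∀ i, Q (b i) ≠ 0 := fun i h => by
    have hz : QuadraticMap.polar ⇑Q (b i) (b i) = 0 := b_self_zero h
    rcases eq_or_ne i (Fin.last _) with rfl | hi
    · rcases hlast with hl | hl <;> rw [hl] at hz
      · exact one_ne_zero hz
      · exact hα (hz ▸ IsSquare.zero)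
    · exact one_ne_zero ((hone i hi).symm.trans hz)
  have hiff' := neg_one_mem_omega_iff hB h2 (κ := Fin (2 * n + 1 + 1))
    (by rw [Fintype.card_fin, hfr]; ring) (by rw [Fintype.card_fin]; exact ⟨n + 1, by ring⟩)
    (by omega) b hne horth
  have hprod : ∏ i, Q (b i) = (∏ i : Fin (2 * n + 1), (1 : F) / 2) * Q (b (Fin.last (2 * n + 1))) := by
    rw [Fin.prod_univ_castSucc]
    congr 1
    exact Finset.prod_congr rfl fun i _ => q_of_b h2 (hone _ (Fin.castSucc_lt_last i).ne)
  rw [Finset.prod_const, Finset.card_univ, Fintype.card_fin] at hprod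
  have hhalf : ((1 : F) / 2) ^ (2 * n + 2) ≠ 0 := pow_ne_zero _ (div_ne_zero one_ne_zero h2)
  have hkey : IsSquare (∏ i, Q (e i)) ↔ QuadraticMap.polar ⇑Q (b (Fin.last _)) (b (Fin.last _)) = 1 := by
    rw [← hiff, hiff', hprod]
    constructor
    · intro hs
      refine hlast.resolve_right fun hl => hα ?_
      rw [q_of_b h2 hl] at hs
      have e : ((1 : F) / 2) ^ (2 * n + 1) * (α / 2) = ((1 / 2) ^ (n + 1)) ^ 2 * α := by
        rw [← pow_mul, show (n + 1) * 2 = 2 * n + 1 + 1 by ring, pow_succ]; ring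
      rw [e] at hs
      obtain ⟨r, hr⟩ := hs
      have h0 : ((1 : F) / 2) ^ (n + 1) ≠ 0 := pow_ne_zero _ (div_ne_zero one_ne_zero h2)
      exact ⟨r / (1 / 2) ^ (n + 1), by rw [div_mul_div_comm, ← hr]; field_simp⟩
    · intro hl
      rw [q_of_b h2 hl, ← pow_succ]
      exact ⟨(1 / 2) ^ (n + 1), by rw [← pow_add]; ring_nf⟩
  refine ⟨fun hs => ?_, fun hs => ?_⟩
  · have hall : ∀ i, Q (b i) = 1 / 2 := fun i => q_of_b h2 (by
      rcases eq_or_ne i (Fin.last _) with rfl | h
      · exact hkey.1 hs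
      · exact hone i h)
    refine ⟨?_, by simpa [hn] using rank_le (Q := Q) h2 (by omega)⟩
    rw [show 2 * (n + 1) - 1 = 2 * n + 1 by omega]
    exact rank_ge hB h2 b horth hne id Function.injective_id fun i => ⟨1 / 2, by rw [hall, hall]⟩
  · refine ⟨?_, ?_⟩
    · rw [show 2 * (n + 1) - 2 = 2 * n by omega]
      exact rank_ge hB h2 b horth hne Fin.castSucc (Fin.castSucc_injective _) fun i => ⟨1 / 2, by
        rw [q_of_b h2 (hone _ (Fin.castSucc_lt_last 0).ne), q_of_b h2 (hone _ (Fin.castSucc_lt_last i).ne)]⟩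
    · have h := rank_le_two (Q := Q) h2 (by rw [hn]; exact even_two_mul _) (by omega)
        fun h => hs (hiff.1 h)
      rwa [hn] at h

theorem isSquare_neg_one_pow {F : Type*} [Field F] [Fintype F] {q : ℕ} (hF : Fintype.card F = q)
    (hodd : Odd q) (n : ℕ) :
    (q ^ n % 4 = 1 → IsSquare ((-1 : F) ^ n)) ∧ (q ^ n % 4 = 3 → ¬ IsSquare ((-1 : F) ^ n)) := by
  have h2 : q % 2 = 1 := Nat.odd_iff.1 hodd
  rcases Nat.even_or_odd n with ⟨k, rfl⟩ | ⟨k, rfl⟩
  · have hsq : IsSquare ((-1 : F) ^ (k + k)) := ⟨(-1) ^ k, by rw [pow_add]⟩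
    refine ⟨fun _ => hsq, fun h => ?_⟩
    have e : q ^ (k + k) % 4 = 1 := by
      rw [← two_mul, pow_mul, Nat.pow_mod]
      have : q ^ 2 % 4 = 1 := by
        rcases (show q % 4 = 1 ∨ q % 4 = 3 by omega) with e | e <;> rw [Nat.pow_mod, e]
      simp [this]
    omega
  · have e : q ^ (2 * k + 1) % 4 = q % 4 := by
      rw [pow_succ, Nat.mul_mod, pow_mul, Nat.pow_mod (q ^ 2)]
      have : q ^ 2 % 4 = 1 := by
        rcases (show q % 4 = 1 ∨ q % 4 = 3 by omega) with e | e <;> rw [Nat.pow_mod, e]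
      rw [this, one_pow]
      simp
    rw [Odd.neg_one_pow ⟨k, rfl⟩, FiniteField.isSquare_neg_one_iff, hF, e]
    exact ⟨fun h => by omega, fun h => by omega⟩

end CfsgLib.Orth.TwoRank
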