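import Cfsg.Agent.Lib.Classical.OrthModels
import Cfsg.Agent.Lib.Classical.OrthDecompMax.Setup
import Cfsg.Prelude.Def_GeometricClasses

set_option autoImplicit false
set_option linter.style.haveILetI false

/-!
In a space of minus type no isometry maps a nondegenerate half-dimensional subspace of even dimension onto its
orthogonal: two isometric halves make the type plus.
-/

namespace CfsgLib.Orth

open CfsgLib.Classical.OrthModels

variable {F : Type*} [Field F] [Fintype F] {ι : Type} [Fintype ι] [DecidableEq ι] {Q : QuadraticForm F (ι → F)}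

theorem img_ne_orth_of_minus (hB : Nondeg Q) (hminus : ¬ Cfsg.Geo.IsPlusTypeOn ⇑Q ⊤) {W : Submodule F (ι → F)}
    (hW : NondegOn Q W) {k : ℕ} (hk : Module.finrank F W = 2 * k)
    (hn : Module.finrank F (ι → F) = 4 * k) (g : Grp Q) : img g W ≠ orth Q W := by
  intro hg
  have hcompl := DecompMax.isCompl_orth hB hW
  let QW : QuadraticForm F W := Q.comp W.subtype
  let eG : W ≃ₗ[F] orth Q W := (Submodule.equivMapOfInjective _
    (fun x y e => ap_inj g ((Matrix.toLin'_apply _ x).symm.trans (e.trans (Matrix.toLin'_apply _ y)))) W).trans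
    (LinearEquiv.ofEq _ _ hg)
  have hG : ∀ w : W, Q ((eG w : orth Q W) : ι → F) = Q (w : ι → F) := fun w => by
    show Q (Matrix.toLin' ((g : GL ι F) : Matrix ι ι F) (w : ι → F)) = _
    rw [Matrix.toLin'_apply]
    exact ap_q g _
  have hQ : Iso (⇑Q) (add (⇑QW) ⇑QW) := by
    refine Iso.symm ⟨((LinearEquiv.refl F W).prodCongr eG).trans (Submodule.prodEquivOfIsCompl _ _ hcompl),
      fun x => ?_⟩
    have hp : QuadraticMap.polar ⇑Q (x.1 : ι → F) ((eG x.2 : orth Q W) : ι → F) = 0 := (eG x.2).2 _ x.1.2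
    rw [LinearEquiv.trans_apply, Submodule.coe_prodEquivOfIsCompl']
    simp only [LinearEquiv.prodCongr_apply, LinearEquiv.refl_apply]
    rw [q_add, hG, hp, add_zero]
    rfl
  have hnd : (QuadraticMap.polarBilin QW).Nondegenerate := by
    have hl : ∀ x : W, (∀ y : W, QuadraticMap.polarBilin QW x y = 0) → x = 0 := fun x hx =>
      Subtype.ext (hW x.1 x.2 fun y hy => by
        have := hx ⟨y, hy⟩
        simpa [QW, QuadraticMap.polar, QuadraticMap.comp_apply] using this)
    exact ⟨hl, fun x hx => hl x fun y => by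
      have := hx y
      rwa [QuadraticMap.polarBilin_apply_apply, QuadraticMap.polar_comm, ← QuadraticMap.polarBilin_apply_apply] at this⟩
  obtain ⟨a, b, hab⟩ := CfsgLib.Classical.RestrictScalars.exists_ab (F := F)
  have hplus : Iso (⇑Q) (Cfsg.quadFormPlus (2 * k) F) := by
    rcases classify_even QW hnd hk a b hab with h | ⟨j, rfl, h⟩
    · rw [two_mul]
      exact hQ.trans ((h.sum h).trans (plus_plus k k))
    · rw [show 2 * (j + 1) = j + j + 2 by ring]
      exact hQ.trans ((h.sum h).trans (minus_minus j j a b hab))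
  obtain ⟨e, he⟩ := hplus.symm
  let f : (Fin (2 * k) → F) →ₗ[F] (Fin (2 * k) ⊕ Fin (2 * k) → F) :=
    (LinearEquiv.sumArrowLequivProdArrow _ _ F F).symm.toLinearMap ∘ₗ LinearMap.inl F _ _
  have hf : Function.Injective (e.toLinearMap ∘ₗ f) := fun x y hxy => funext fun j => by
    have := congrFun (e.injective hxy) (Sum.inl j)
    simpa [f, arrow_symm] using this
  refine hminus ⟨LinearMap.range (e.toLinearMap ∘ₗ f), le_top, ?_, ?_⟩
  · rintro _ ⟨x, rfl⟩
    show Q (e (f x)) = 0
    rw [he]
    simp [f, Cfsg.quadFormPlus, arrow_symm]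
  · rw [LinearMap.finrank_range_of_inj hf, finrank_top, hn, Module.finrank_fin_fun]
    ring

end CfsgLib.Orth
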