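import Cfsg.Agent.Lib.Classical.OrthTypes

set_option autoImplicit false
set_option linter.unusedSectionVars false

/-!
Stabilisers of non-degenerate four-spaces in orthogonal spaces of dimension eight of minus type.
-/

namespace CfsgLib.Orth.Four

open Matrix
open Cfsg.Geo (IsPlusTypeOn)
open CfsgLib.Asch.OrthTypes (plus_sup_iff plus_top_iff finrank_sup)

variable {F : Type*} [Field F] [Fintype F] {n : ℕ}
variable {Q : QuadraticForm F (Fin n → F)}

local notation "B" => QuadraticMap.polar (DFunLike.coe Q)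
local notation "V" => Fin n → F

/-- A singular vector gives a plane its plus type, and conversely. -/
theorem plus_plane_iff {P : Submodule F V} (h2 : Module.finrank F P = 2) :
    IsPlusTypeOn ⇑Q P ↔ ∃ x ∈ P, x ≠ 0 ∧ Q x = 0 := by
  constructor
  · rintro ⟨H, hHP, hH, hd⟩
    obtain ⟨x, hx, hx0⟩ := Submodule.exists_mem_ne_zero_of_ne_bot
      (Submodule.one_le_finrank_iff.1 (by omega : 1 ≤ Module.finrank F H))
    exact ⟨x, hHP hx, hx0, hH x hx⟩
  · rintro ⟨x, hx, hx0, hq⟩
    exact isPlusTypeOn_of_singular h2 hx hx0 hq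

/-- A plane without singular vectors is non-degenerate. -/
theorem nondeg_of_aniso {P : Submodule F V} (h2 : Module.finrank F P = 2)
    (ha : ∀ x ∈ P, Q x = 0 → x = 0) : NondegOn Q P := by
  intro r hr hperp
  by_contra hr0
  have hq : Q r ≠ 0 := fun e => hr0 (ha r hr e)
  have h20 : (2 : F) = 0 := by
    have h := hperp r hr
    rw [b_self] at h
    exact (mul_eq_zero.1 h).resolve_right hq
  haveI : CharP F 2 := CharTwo.of_one_ne_zero_of_two_eq_zero one_ne_zero h20
  obtain ⟨s, hs, hsr⟩ : ∃ s ∈ P, s ∉ Submodule.span F {r} := by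
    by_contra hc
    push Not at hc
    have := Submodule.finrank_mono (show P ≤ Submodule.span F {r} from hc)
    rw [finrank_span_singleton hr0] at this
    omega
  obtain ⟨k, hk⟩ := (Finite.injective_iff_surjective.1 (frobenius_inj F 2)) (Q s / Q r)
  rw [frobenius_def, pow_two, eq_div_iff hq] at hk
  refine hsr (Submodule.mem_span_singleton.2 ⟨-k, ?_⟩)
  have h0 := ha (k • r + s) (P.add_mem (P.smul_mem _ hr) hs) (by
    rw [q_add, q_smul, hk, b_smul_left, hperp s hs, mul_zero, add_zero, ← two_mul, h20, zero_mul])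
  linear_combination (norm := module) -h0

/-- Four-spaces of plus type are rich. -/
theorem rich_of_plus {U : Submodule F V} (h4 : Module.finrank F U = 4) (hp : IsPlusTypeOn ⇑Q U) :
    Rich Q U := by
  refine ⟨h4.ge, fun a ha b hb hqa hqb hab => ?_⟩
  obtain ⟨H, hHU, hH, hd⟩ := hp
  have hbH : ∀ x ∈ H, ∀ y ∈ H, B x y = 0 := fun x hx y hy => by
    have := hH (x + y) (H.add_mem hx hy)
    rw [q_add, hH x hx, hH y hy, zero_add, zero_add] at this
    exact this
  obtain ⟨h, hh, hah, hha⟩ : ∃ h ∈ H, B a h = 0 ∧ h ∉ Submodule.span F {a} := by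
    by_cases haH : a ∈ H
    · by_contra hc
      push Not at hc
      have := Submodule.finrank_mono
        (show H ≤ Submodule.span F {a} from fun x hx => hc x hx (hbH a haH x hx))
      have ha0 : a ≠ 0 := fun e => by rw [e, b_zero_left] at hab; exact zero_ne_one hab
      rw [finrank_span_singleton ha0] at this
      omega
    · obtain ⟨h₁, hh₁, h₁0⟩ := Submodule.exists_mem_ne_zero_of_ne_bot
        (Submodule.one_le_finrank_iff.1 (by omega : 1 ≤ Module.finrank F H))
      obtain ⟨h₂, hh₂, h₂n⟩ : ∃ x ∈ H, x ∉ Submodule.span F {h₁} := by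
        by_contra hc
        push Not at hc
        have := Submodule.finrank_mono (show H ≤ Submodule.span F {h₁} from hc)
        rw [finrank_span_singleton h₁0] at this
        omega
      have out : ∀ x ∈ H, x ≠ 0 → x ∉ Submodule.span F {a} := fun x hx hx0 e => by
        obtain ⟨c, rfl⟩ := Submodule.mem_span_singleton.1 e
        exact haH ((Submodule.smul_mem_iff _ (fun hc => hx0 (by rw [hc, zero_smul]))).1 hx)
      by_cases h1 : B a h₁ = 0
      · exact ⟨h₁, hh₁, h1, out h₁ hh₁ h₁0⟩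
      refine ⟨h₂ - (B a h₂ / B a h₁) • h₁, H.sub_mem hh₂ (H.smul_mem _ hh₁),
        by rw [b_sub_right, b_smul_right, div_mul_cancel₀ _ h1, sub_self], out _
          (H.sub_mem hh₂ (H.smul_mem _ hh₁)) fun e => h₂n (Submodule.mem_span_singleton.2
            ⟨B a h₂ / B a h₁, (sub_eq_zero.1 e).symm⟩)⟩
  refine ⟨h - B b h • a, U.sub_mem (hHU hh) (U.smul_mem _ ha), fun e => hha
    (Submodule.mem_span_singleton.2 ⟨B b h, (sub_eq_zero.1 e).symm⟩), ?_, ?_, ?_⟩
  · rw [q_sub, q_smul, hH h hh, hqa, b_smul_right, b_comm h a, hah]; ring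
  · rw [b_sub_right, b_smul_right, hah, b_self_zero hqa]; ring
  · rw [b_sub_right, b_smul_right, b_comm b a, hab]; ring

/-- A minus plane inside `U` leaves a plane of the type fixed by `U`. -/
theorem relOrth_plane (hB : Nondeg Q) {U P : Submodule F V} (h4 : Module.finrank F U = 4)
    (hU : NondegOn Q U) (hPU : P ≤ U) (h2 : Module.finrank F P = 2) (hP : NondegOn Q P)
    (hm : ¬ IsPlusTypeOn ⇑Q P) :
    IsPlusTypeOn ⇑Q U ↔ ¬ ∃ x ∈ relOrth Q U P, x ≠ 0 ∧ Q x = 0 := by
  have hperp : ∀ u ∈ P, ∀ w ∈ relOrth Q U P, B u w = 0 := fun u hu w hw => mem_orth.1 hw.2 u hu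
  have hsum := finrank_sup hP hperp
  have hle : P ⊔ relOrth Q U P ≤ U := sup_le hPU inf_le_left
  have hmono := Submodule.finrank_mono hle
  have hrel := finrank_relOrth hB U P
  have hR2 : Module.finrank F (relOrth Q U P) = 2 := by omega
  have heq : P ⊔ relOrth Q U P = U := Submodule.eq_of_le_of_finrank_le hle (by omega)
  have hR : NondegOn Q (relOrth Q U P) := fun x hx h => hU x hx.1 fun y hy => by
    rw [← heq] at hy
    obtain ⟨u, hu, w, hw, rfl⟩ := Submodule.mem_sup.1 hy
    rw [b_add_right, h w hw, b_comm x u, hperp u hu x hx, add_zero]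
  have h := plus_sup_iff hP hR hperp (by rw [h2]; exact even_two) (by rw [hR2]; exact even_two)
  rw [heq] at h
  rw [h, ← plus_plane_iff hR2]
  tauto

theorem finrank_pair {p q : V} (hp0 : p ≠ 0) (hind : q ∉ Submodule.span F {p}) :
    Module.finrank F (Submodule.span F ({p, q} : Set V)) = 2 := by
  classical
  have h := finrank_span_finset_le_card (R := F) ({p, q} : Finset V)
  rw [Set.finrank, Finset.coe_pair] at h
  have h3 : ({p, q} : Finset V).card ≤ 2 := Finset.card_le_two
  have hlt : Submodule.span F {p} < Submodule.span F ({p, q} : Set V) := by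
    refine lt_of_le_of_ne (Submodule.span_mono (by simp)) fun e => hind ?_
    rw [e]
    exact Submodule.subset_span (Set.mem_insert_of_mem _ rfl)
  have h4 := Submodule.finrank_lt_finrank_of_lt hlt
  rw [finrank_span_singleton hp0] at h4
  omega

/-- A plus four-space facing a minus one crosses. -/
theorem cross_of_types (hB : Nondeg Q) {U : Submodule F V} (hU : NondegOn Q U)
    (h4 : Module.finrank F U = 4) (hp : IsPlusTypeOn ⇑Q U)
    (h4' : Module.finrank F (orth Q U) = 4) (hm : ¬ IsPlusTypeOn ⇑Q (orth Q U)) : Cross Q U := by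
  classical
  intro p hp' q hq hind z hz w hw hqp hqq hbpq
  have hR := rich_of_plus h4 hp
  have hq0 : q ≠ 0 := fun e => hind (e ▸ Submodule.zero_mem _)
  by_cases hp0 : p = 0
  · left
    by_cases hQq : Q q = 0
    · obtain ⟨s, f, hs, -, hsq, hsQ, -, -⟩ := hR.pair hB hU hq hq0 hQq
      exact ⟨s, hs.1, fun e => hsq (e ▸ Submodule.zero_mem _), hsQ, by rw [hp0, b_zero_left],
        mem_orth.1 hs.2 q (Submodule.mem_span_singleton_self q), fun _ => hsq⟩
    · obtain ⟨c, hc, hc0, hcq⟩ := exists_singular (Q := Q)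
        (U := relOrth Q U (Submodule.span F {q})) (by
          have h1 := finrank_relOrth hB U (Submodule.span F {q})
          rw [finrank_span_singleton hq0] at h1
          omega)
      refine ⟨c, hc.1, hc0, hcq, by rw [hp0, b_zero_left],
        mem_orth.1 hc.2 q (Submodule.mem_span_singleton_self q), fun _ e => ?_⟩
      obtain ⟨k, rfl⟩ := Submodule.mem_span_singleton.1 e
      rw [q_smul] at hcq
      rcases mul_eq_zero.1 hcq with hk | hk
      · exact hc0 (by rw [mul_self_eq_zero.1 hk, zero_smul])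
      · exact hQq hk
  obtain ⟨P, hP⟩ : ∃ P, P = Submodule.span F ({p, q} : Set V) := ⟨_, rfl⟩
  have hpP : p ∈ P := hP ▸ Submodule.subset_span (Set.mem_insert _ _)
  have hqP : q ∈ P := hP ▸ Submodule.subset_span (Set.mem_insert_of_mem _ rfl)
  have hP2 : Module.finrank F P = 2 := hP ▸ finrank_pair hp0 hind
  have hPU : P ≤ U := by
    rw [hP, Submodule.span_le]
    exact Set.insert_subset hp' (Set.singleton_subset_iff.2 hq)
  by_cases hiso : ∃ x ∈ P, x ≠ 0 ∧ Q x = 0
  · left
    obtain ⟨x, hx, hx0, hxq⟩ := hiso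
    by_cases hrad : ∀ y ∈ P, B y x = 0
    · exact ⟨x, hPU hx, hx0, hxq, hrad p hpP, hrad q hqP, fun h => absurd h hp0⟩
    push Not at hrad
    obtain ⟨y, hy, hyx⟩ := hrad
    obtain ⟨y', hy'⟩ : ∃ y', y' = (B y x)⁻¹ • y := ⟨_, rfl⟩
    have hy'x : B y' x = 1 := by rw [hy', b_smul_left, inv_mul_cancel₀ hyx]
    have hy'P : y' ∈ P := hy' ▸ P.smul_mem _ hy
    obtain ⟨b, hb⟩ : ∃ b, b = y' - Q y' • x := ⟨_, rfl⟩
    have hbP : b ∈ P := hb ▸ P.sub_mem hy'P (P.smul_mem _ hx)
    have hxb : B x b = 1 := by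
      rw [hb, b_sub_right, b_smul_right, b_comm x y', hy'x, b_self_zero hxq]; ring
    have hbq : Q b = 0 := by
      rw [hb, q_sub, q_smul, hxq, b_smul_right, hy'x]; ring
    obtain ⟨c, hc, hc0, hcq, hxc, hbc⟩ := hR.perp x (hPU hx) b (hPU hbP) hxq hbq hxb
    have hspan : P ≤ Submodule.span F ({x, b} : Set V) := by
      refine (Submodule.eq_of_le_of_finrank_le ?_ ?_).ge
      · rw [Submodule.span_le]
        exact Set.insert_subset hx (Set.singleton_subset_iff.2 hbP)
      · rw [hP2, finrank_pair hx0 fun e => ?_]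
        obtain ⟨k, rfl⟩ := Submodule.mem_span_singleton.1 e
        rw [b_smul_right, b_self_zero hxq, mul_zero] at hxb
        exact zero_ne_one hxb
    have hperp : ∀ v ∈ P, B v c = 0 := fun v hv => by
      obtain ⟨α, β, rfl⟩ := Submodule.mem_span_pair.1 (hspan hv)
      rw [b_add_left, b_smul_left, b_smul_left, hxc, hbc]; ring
    exact ⟨c, hc, hc0, hcq, hperp p hpP, hperp q hqP, fun h => absurd h hp0⟩
  push Not at hiso
  have hani : ∀ x ∈ P, Q x = 0 → x = 0 := fun x hx h => by_contra fun h0 => hiso x hx h0 h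
  right
  -- the other side
  have hQsum : ∀ α β : F, Q (α • p + β • q) + Q (α • z + β • w) = 0 := fun α β => by
    simp only [q_add, q_smul, b_smul_left, b_smul_right]
    linear_combination α * α * hqp + β * β * hqq + α * β * hbpq
  have hindP : ∀ α β : F, α • p + β • q = 0 → β = 0 := fun α β e => by
    by_contra hβ
    refine hind (Submodule.mem_span_singleton.2 ⟨-(α / β), ?_⟩)
    have e' : β • q = -(α • p) := eq_neg_of_add_eq_zero_right e
    apply smul_right_injective V hβ
    simp only [e', smul_smul]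
    rw [mul_neg, mul_div_cancel₀ _ hβ, neg_smul]
  have hz0 : z ≠ 0 := fun e => by
    rw [e, QuadraticMap.map_zero, add_zero] at hqp
    exact hp0 (hani p hpP hqp)
  have hwz : w ∉ Submodule.span F {z} := fun e => by
    obtain ⟨k, hk⟩ := Submodule.mem_span_singleton.1 e
    have h := hQsum (-k) 1
    rw [one_smul, one_smul, ← hk, ← add_smul, neg_add_cancel, zero_smul, QuadraticMap.map_zero,
      add_zero] at h
    have h0 := hani _ (P.add_mem (P.smul_mem _ hpP) hqP) h
    exact one_ne_zero (hindP (-k) 1 (by rwa [one_smul]))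
  obtain ⟨W', hW'⟩ : ∃ W', W' = Submodule.span F ({z, w} : Set V) := ⟨_, rfl⟩
  have hW'2 : Module.finrank F W' = 2 := hW' ▸ finrank_pair hz0 hwz
  have hW'U : W' ≤ orth Q U := by
    rw [hW', Submodule.span_le]
    exact Set.insert_subset hz (Set.singleton_subset_iff.2 hw)
  have haniW : ∀ x ∈ W', Q x = 0 → x = 0 := fun x hx h => by
    rw [hW'] at hx
    obtain ⟨α, β, rfl⟩ := Submodule.mem_span_pair.1 hx
    have h' := hQsum α β
    rw [h, add_zero] at h'
    have h0 := hani _ (P.add_mem (P.smul_mem _ hpP) (P.smul_mem _ hqP)) h'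
    have hb := hindP α β h0
    rw [hb, zero_smul, add_zero] at h0
    rw [hb, (smul_eq_zero.1 h0).resolve_right hp0, zero_smul, zero_smul, add_zero]
  have hmW : ¬ IsPlusTypeOn ⇑Q W' := fun h => by
    obtain ⟨x, hx, hx0, hxq⟩ := (plus_plane_iff hW'2).1 h
    exact hx0 (haniW x hx hxq)
  have := (relOrth_plane hB h4' (nondegOn_orth hB hU) hW'U hW'2
    (nondeg_of_aniso hW'2 haniW) hmW).not.1 hm
  push Not at this
  obtain ⟨c, hc, hc0, hcq⟩ := this
  exact ⟨hp0, hwz, c, hc.1, hc0, hcq,
    mem_orth.1 hc.2 z (hW' ▸ Submodule.subset_span (Set.mem_insert _ _)),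
    mem_orth.1 hc.2 w (hW' ▸ Submodule.subset_span (Set.mem_insert_of_mem _ rfl)),
    fun h => absurd h hz0⟩

/-- Four-spaces in dimension eight of minus type have maximal stabilisers. -/
theorem isMaximalIn_stab_four {Q : QuadraticForm F (Fin 8 → F)} (hB : Nondeg Q)
    (hminus : ¬ IsPlusTypeOn ⇑Q ⊤) {W : Submodule F (Fin 8 → F)} (hW : NondegOn Q W)
    (h4 : Module.finrank F W = 4) :
    Cfsg.Geo.IsMaximalIn (Cfsg.Geo.omegaGL ⇑Q)
      (Cfsg.Geo.subspaceStabilizer W ⊓ Cfsg.Geo.omegaGL ⇑Q) := by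
  have hsum := finrank_orth hB W
  have hn : Module.finrank F (Fin 8 → F) = 8 := Module.finrank_fin_fun F
  have h4' : Module.finrank F (orth Q W) = 4 := by omega
  have htop := plus_top_iff hB hW (by decide) (by rw [h4]; decide)
  have key : ∀ U : Submodule F (Fin 8 → F), NondegOn Q U → Module.finrank F U = 4 →
      Module.finrank F (orth Q U) = 4 → IsPlusTypeOn ⇑Q U → ¬ IsPlusTypeOn ⇑Q (orth Q U) →
      stab Q U ⊓ El Q < El Q ∧
        ∀ M, stab Q U ⊓ El Q ≤ M → M ≤ El Q → M = stab Q U ⊓ El Q ∨ M = El Q := by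
    intro U hU hd hd' hp hm
    refine stab_nondeg_maximal' hB hU (rich_of_plus hd hp) (cross_of_types hB hU hd hp hd' hm)
      (by omega) (by omega) (fun e => ?_) (fun ⟨_, h2, _⟩ => by omega) fun g hg => hm ?_
    · rw [e, finrank_bot] at hd'; omega
    · obtain ⟨H, hHU, hH, hHd⟩ := hp
      refine ⟨img g H, fun x hx => hg ▸ mem_img.2 (hHU (mem_img.1 hx)), fun x hx => ?_, ?_⟩
      · rw [← ap_ap_inv g x, ap_q]; exact hH _ (mem_img.1 hx)
      · rw [finrank_img, hHd, ← hg, finrank_img]
  refine isMaximalIn_omegaGL (H := stab Q W) (fun _ => Iff.rfl) ?_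
  rw [omega_eq_El hB (by omega)]
  by_cases hp : IsPlusTypeOn ⇑Q W
  · exact key W hW h4 h4' hp fun hm => hminus (htop.2 (iff_of_true hp hm))
  · rw [← stab_orth_eq hB W]
    refine key _ (nondegOn_orth hB hW) h4' (by rw [orth_orth hB]; exact h4) ?_ (by rwa [orth_orth hB])
    by_contra hm
    exact hminus (htop.2 (iff_of_false hp hm))

end CfsgLib.Orth.Four
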