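import Cfsg.Agent.Lib.Classical.OrthNondeg

set_option autoImplicit false
set_option linter.unusedSectionVars false

/-!
Stabilisers of non-degenerate subspaces in odd characteristic, both sides of dimension at least
three and one of at least four.
-/

namespace CfsgLib.Orth.OddSub

open Matrix

variable {F : Type*} [Field F] [Finite F] {ι : Type} [Fintype ι] [DecidableEq ι]
variable {Q : QuadraticForm F (ι → F)}

local notation "B" => QuadraticMap.polar (DFunLike.coe Q)

/-- The vectors `v` whose root elements at `a` all lie in `M`. -/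
def good (hB : Nondeg Q) (M : Subgroup (Grp Q)) {a : ι → F} (ha : Q a = 0) :
    Submodule F (ι → F) where
  carrier := {v | QuadraticMap.polar ⇑Q a v = 0 ∧ ∀ (c : F) k, IsSiegel a (c • v) k → k ∈ M}
  add_mem' := fun {v w} ⟨hv, hv'⟩ ⟨hw, hw'⟩ =>
    ⟨by rw [b_add_right, hv, hw, add_zero], fun c k hk => by
      obtain ⟨g, hg⟩ := exists_siegel hB ha (v := c • v) (by rw [b_smul_right, hv, mul_zero])
      obtain ⟨h, hh⟩ := exists_siegel hB ha (v := c • w) (by rw [b_smul_right, hw, mul_zero])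
      rw [smul_add] at hk
      rw [siegel_unique hk (siegel_mul hg hh)]
      exact mul_mem (hv' c g hg) (hw' c h hh)⟩
  zero_mem' := ⟨b_zero_right a, fun c k hk => by
    rw [smul_zero] at hk
    rw [siegel_unique hk (siegel_one ha)]
    exact one_mem M⟩
  smul_mem' := fun d v ⟨hv, hv'⟩ => ⟨by rw [b_smul_right, hv, mul_zero], fun c k hk =>
    hv' (c * d) k (by rwa [smul_smul] at hk)⟩

variable {hB : Nondeg Q} {M : Subgroup (Grp Q)} {a : ι → F} {ha : Q a = 0}

theorem good_self : a ∈ good hB M ha := ⟨b_self_zero ha, fun c k hk => by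
  have h := siegel_add_self (siegel_one ha : IsSiegel a 0 (1 : Grp Q)) c
  rw [zero_add] at h
  rw [siegel_unique hk h]
  exact one_mem M⟩

theorem good_swap {v : ι → F} (h : v ∈ good hB M ha) (hv : Q v = 0) :
    a ∈ good hB M hv := by
  refine ⟨by rw [b_comm]; exact h.1, fun c k hk => h.2 (-c) k ⟨ha,
    by rw [b_smul_right, h.1, mul_zero], fun x => ?_⟩⟩
  rw [hk.2.2]
  simp only [q_smul, ha, hv, b_smul_right, mul_zero, zero_mul, zero_smul, sub_zero]
  module

/-- Elements of `M` fixing `a` preserve its good vectors. -/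
theorem good_stable {e : Grp Q} (he : e ∈ M) (hea : ap e a = a) {v : ι → F}
    (hv : v ∈ good hB M ha) : ap e v ∈ good hB M ha := by
  have h0 : B a (ap e v) = 0 := by
    have h := ap_b e a v
    rw [hea] at h
    rw [h]; exact hv.1
  refine ⟨h0, fun c k hk => siegel_conj_mem hk he fun k' hk' => ?_⟩
  have h1 : ap e⁻¹ a = a := by conv_lhs => rw [← hea, ap_inv_ap]
  rw [h1, ap_smul, ap_inv_ap] at hk'
  exact hv.2 c k' hk'

/-- The displacement of a good vector by an element of `M` fixing `a`. -/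
theorem good_diff {s n : ι → F} {e : Grp Q} (hk : IsSiegel s n e) (he : e ∈ M)
    (has : B a s = 0) (han : B a n = 0) {v : ι → F} (hv : v ∈ good hB M ha) :
    B v s • n - B v n • s - (Q n * B v s) • s ∈ good hB M ha := by
  have h := Submodule.sub_mem _ (good_stable he (siegel_fix hk has han) hv) hv
  rw [hk.2.2] at h
  rwa [show B v s • n - B v n • s - (Q n * B v s) • s =
    v + B v s • n - B v n • s - (Q n * B v s) • s - v by abel]

variable (hB)
include hB

/-- An anisotropic vector orthogonal to a hyperbolic pair. -/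
theorem exists_aniso_perp (h2 : (2 : F) ≠ 0) {T : Submodule F (ι → F)} (hT : NondegOn Q T)
    (hd : 3 ≤ Module.finrank F T) {s f : ι → F} (hs : s ∈ T) (hf : f ∈ T) (hsq : Q s = 0)
    (hfq : Q f = 0) (hsf : B s f = 1) : ∃ n ∈ T, B s n = 0 ∧ B f n = 0 ∧ Q n ≠ 0 := by
  classical
  obtain ⟨R, hR⟩ : ∃ R, R = relOrth Q T (Submodule.span F ({s, f} : Set (ι → F))) := ⟨_, rfl⟩
  have hR0 : R ≠ ⊥ := fun e => by
    have h1 := finrank_relOrth hB T (Submodule.span F ({s, f} : Set (ι → F)))
    have h := finrank_span_finset_le_card (R := F) ({s, f} : Finset (ι → F))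
    rw [Set.finrank, Finset.coe_pair] at h
    have h3 : ({s, f} : Finset (ι → F)).card ≤ 2 := Finset.card_le_two
    rw [← hR, e, finrank_bot] at h1
    omega
  have mem : ∀ y, y ∈ R ↔ y ∈ T ∧ B s y = 0 ∧ B f y = 0 := fun y => by
    rw [hR]
    refine ⟨fun h => ⟨h.1, mem_orth.1 h.2 s (Submodule.subset_span (Set.mem_insert _ _)),
      mem_orth.1 h.2 f (Submodule.subset_span (Set.mem_insert_of_mem _ rfl))⟩,
      fun ⟨h1, h2, h3⟩ => ⟨h1, mem_orth_span.2 fun x hx => ?_⟩⟩
    rcases hx with rfl | rfl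
    · exact h2
    · exact h3
  by_contra hc
  push Not at hc
  obtain ⟨x, hx, hx0⟩ := R.exists_mem_ne_zero_of_ne_bot hR0
  have hq : ∀ y ∈ R, Q y = 0 := fun y hy =>
    hc y ((mem y).1 hy).1 ((mem y).1 hy).2.1 ((mem y).1 hy).2.2
  refine hx0 (hT x ((mem x).1 hx).1 fun y hy => ?_)
  have hy' : y - B f y • s - B s y • f ∈ R := (mem _).2
    ⟨T.sub_mem (T.sub_mem hy (T.smul_mem _ hs)) (T.smul_mem _ hf),
      by rw [b_sub_right, b_sub_right, b_smul_right, b_smul_right, b_self_zero hsq, hsf]; ring,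
      by rw [b_sub_right, b_sub_right, b_smul_right, b_smul_right, b_self_zero hfq, b_comm f s,
        hsf]; ring⟩
  have h0 : B x (y - B f y • s - B s y • f) = 0 := le_orth_of_singular hq hy' x hx
  rw [b_sub_right, b_sub_right, b_smul_right, b_smul_right, b_comm x s, b_comm x f,
    ((mem x).1 hx).2.1, ((mem x).1 hx).2.2, mul_zero, mul_zero, sub_zero, sub_zero] at h0
  exact h0

/-- A subspace closed under the displacements of the root elements of `T` contains `T`. -/
theorem spans (h2 : (2 : F) ≠ 0) {T : Submodule F (ι → F)} (hT : NondegOn Q T)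
    (hd : 3 ≤ Module.finrank F T) {X : Submodule F (ι → F)}
    (hX : ∀ x ∈ X, ∀ s ∈ T, ∀ n ∈ T, Q s = 0 → B s n = 0 →
      B x s • n - B x n • s - (Q n * B x s) • s ∈ X)
    {x : ι → F} (hx : x ∈ X) {t : ι → F} (ht : t ∈ T) (hxt : B x t ≠ 0) : T ≤ X := by
  obtain ⟨s₀, f₀, hs₀, hf₀, -, hs₀q, hf₀q, hs₀f⟩ := exists_pair_in hB hT (P := ⊥) bot_le
    (by rw [finrank_bot]; omega)
  obtain ⟨s, hs, hsq, hxs⟩ : ∃ s ∈ T, Q s = 0 ∧ B x s ≠ 0 := by
    by_contra hc
    push Not at hc
    exact hxt ((Submodule.span_le (p := LinearMap.ker (QuadraticMap.polarBilin Q x))).2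
      (fun z hz => hc z hz.1 hz.2) (le_span_singular_in hs₀.1 hf₀.1 hs₀q hf₀q hs₀f ht))
  have hs0 : s ≠ 0 := fun e => hxs (by rw [e, b_zero_right])
  obtain ⟨f, hf, hfq, hsf⟩ := exists_partner_in hB hT (P := ⊥) bot_le (s := s)
    ⟨hs, fun p hp => by rw [(Submodule.mem_bot F).1 hp]; exact b_zero_left s⟩
    (fun h => hs0 ((Submodule.mem_bot F).1 h)) hsq
  obtain ⟨n₀, hn₀, hsn₀, hfn₀, hn₀q⟩ := exists_aniso_perp hB h2 hT hd hs hf.1 hsq hfq hsf
  have hsX : s ∈ X := by
    have h := X.add_mem (hX x hx s hs n₀ hn₀ hsq hsn₀)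
      (hX x hx s hs (-n₀) (T.neg_mem hn₀) hsq (by rw [← neg_one_smul F, b_smul_right, hsn₀, mul_zero]))
    rw [← neg_one_smul F n₀, b_smul_right, q_smul] at h
    refine (Submodule.smul_mem_iff X
      (show -(2 * Q n₀ * B x s) ≠ 0 from neg_ne_zero.2 (mul_ne_zero (mul_ne_zero h2 hn₀q) hxs))).1 ?_
    convert h using 1
    module
  have hperp : ∀ n ∈ T, B s n = 0 → n ∈ X := fun n hn hsn => by
    have h := X.add_mem (hX x hx s hs n hn hsq hsn) (X.smul_mem (B x n + Q n * B x s) hsX)
    refine (Submodule.smul_mem_iff X hxs).1 ?_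
    convert h using 1
    module
  have hfX : f ∈ X := by
    have h := hX n₀ (hperp n₀ hn₀ hsn₀) f hf.1 n₀ hn₀ hfq hfn₀
    rw [b_comm n₀ f, hfn₀, b_self] at h
    refine (Submodule.smul_mem_iff X
      (show -(2 * Q n₀) ≠ 0 from neg_ne_zero.2 (mul_ne_zero h2 hn₀q))).1 ?_
    convert h using 1
    module
  intro y hy
  have h := X.add_mem (hperp (y - B s y • f) (T.sub_mem hy (T.smul_mem _ hf.1))
    (by rw [b_sub_right, b_smul_right, hsf, mul_one, sub_self])) (X.smul_mem (B s y) hfX)
  rwa [sub_add_cancel] at h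

/-- A root element joining a subspace to its orthogonal generates everything. -/
theorem El_le_of_mixed (h2 : (2 : F) ≠ 0) {A : Submodule F (ι → F)} (hA : NondegOn Q A)
    (hdA : 3 ≤ Module.finrank F A) (hdB : 3 ≤ Module.finrank F (orth Q A))
    (inA : ∀ x ∈ A, ∀ y ∈ A, ∀ k, IsSiegel x y k → k ∈ M)
    (inB : ∀ x ∈ orth Q A, ∀ y ∈ orth Q A, ∀ k, IsSiegel x y k → k ∈ M)
    {u w : ι → F} (hu : u ∈ A) (hu0 : u ≠ 0) (huq : Q u = 0) (hw : w ∈ orth Q A) (hw0 : w ≠ 0)
    (hM : w ∈ good hB M huq) : El Q ≤ M := by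
  have hW := nondegOn_orth hB hA
  obtain ⟨t, ht, hwt⟩ : ∃ t ∈ orth Q A, B w t ≠ 0 := by
    by_contra hc
    push Not at hc
    exact hw0 (hW w hw hc)
  have hall : orth Q A ≤ good hB M huq :=
    spans hB h2 hW hdB (fun x hx s hs n hn hsq hsn => by
      obtain ⟨e, he⟩ := exists_siegel hB hsq hsn
      exact good_diff he (inB s hs n hn e he) (hs u hu) (hn u hu) hx) hM ht hwt
  have hroot : ∀ v k, IsSiegel u v k → k ∈ M := by
    intro v k hk
    obtain ⟨p, hp, z, hz, rfl⟩ := exists_decomp hB hA v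
    have hup : B u p = 0 := by
      have h := hk.2.1
      rwa [b_add_right, show B u z = 0 from hz u hu, add_zero] at h
    have hp' : p ∈ good hB M huq := ⟨hup, fun c k' hk' => inA u hu _ (A.smul_mem c hp) k' hk'⟩
    exact (Submodule.add_mem _ hp' (hall hz)).2 1 k (by rwa [one_smul])
  obtain ⟨f, hf, hfq, huf⟩ := exists_partner_in hB hA (P := ⊥) bot_le (s := u)
    ⟨hu, fun p hp => by rw [(Submodule.mem_bot F).1 hp]; exact b_zero_left u⟩
    (fun h => hu0 ((Submodule.mem_bot F).1 h)) huq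
  obtain ⟨n, hn, hun, hfn, hnq⟩ := exists_aniso_perp hB h2 hA hdA hu hf.1 huq hfq huf
  obtain ⟨e, he⟩ := exists_siegel hB hfq hfn
  refine El_le_of_two hB huq (show Q (ap e u) = 0 by rw [ap_q, huq]) ?_ hroot fun v k hk => ?_
  · rw [he.2.2, huf, hun, b_sub_right, b_sub_right, b_add_right, b_smul_right, b_smul_right,
      b_smul_right, b_self_zero huq, hun, huf]
    simpa using hnq
  · refine siegel_conj_mem hk (inA f hf.1 n hn e he) fun k' hk' => ?_
    rw [ap_inv_ap] at hk'
    exact hroot _ k' hk'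

/-- A line through a point with two singular components gives a mixed root element. -/
theorem mixed_of_singular (h2 : (2 : F) ≠ 0) {A : Submodule F (ι → F)} (hA : NondegOn Q A)
    (hdA : 3 ≤ Module.finrank F A) (inA : ∀ x ∈ A, ∀ y ∈ A, ∀ k, IsSiegel x y k → k ∈ M)
    {p z : ι → F} (hp : p ∈ A) (hp0 : p ≠ 0) (hpq : Q p = 0) (hz : z ∈ orth Q A)
    (haq : Q (p + z) = 0) {v vp vz : ι → F} (hv : v ∈ good hB M haq) (hvp : vp ∈ A)
    (hvz : vz ∈ orth Q A) (hev : v = vp + vz) (hind : vp ∉ Submodule.span F {p}) :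
    z ∈ good hB M hpq := by
  obtain ⟨f, hf, hfq, hpf⟩ := exists_partner_in hB hA (P := ⊥) bot_le (s := p)
    ⟨hp, fun x hx => by rw [(Submodule.mem_bot F).1 hx]; exact b_zero_left p⟩
    (fun h => hp0 ((Submodule.mem_bot F).1 h)) hpq
  have hzA : ∀ x ∈ A, B z x = 0 := fun x hx => by rw [b_comm]; exact hz x hx
  have hd : ∀ n ∈ A, B p n = 0 →
      B v p • n - B v n • p - (Q n * B v p) • p ∈ good hB M haq := fun n hn hpn => by
    obtain ⟨e, he⟩ := exists_siegel hB hpq hpn
    exact good_diff he (inA p hp n hn e he) (by rw [b_add_left, b_self_zero hpq, hzA p hp, add_zero])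
      (by rw [b_add_left, hpn, hzA n hn, add_zero]) hv
  have hpG : p ∈ good hB M haq := by
    by_cases hvb : B v p = 0
    · have hvpp : B vp p = 0 := by
        rwa [hev, b_add_left, b_comm vz p, show B p vz = 0 from hvz p hp, add_zero] at hvb
      obtain ⟨y, hy⟩ : ∃ y, y = vp - B vp f • p := ⟨_, rfl⟩
      obtain ⟨t, ht, hyt⟩ : ∃ t ∈ A, B y t ≠ 0 := by
        by_contra hc
        push Not at hc
        have h0 := hA y (hy ▸ A.sub_mem hvp (A.smul_mem _ hp)) hc
        rw [hy, sub_eq_zero] at h0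
        exact hind (Submodule.mem_span_singleton.2 ⟨_, h0.symm⟩)
      obtain ⟨n, hn⟩ : ∃ n, n = t - B p t • f := ⟨_, rfl⟩
      have hnA : n ∈ A := hn ▸ A.sub_mem ht (A.smul_mem _ hf.1)
      have hpn : B p n = 0 := by rw [hn, b_sub_right, b_smul_right, hpf, mul_one, sub_self]
      have hvn : B v n ≠ 0 := by
        rw [hev, b_add_left, b_comm vz n, show B n vz = 0 from hvz n hnA, add_zero, hn, b_sub_right,
          b_smul_right]
        rwa [hy, b_sub_left, b_smul_left, mul_comm] at hyt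
      have h := hd n hnA hpn
      rw [hvb, zero_smul, mul_zero, zero_smul, sub_zero, zero_sub] at h
      exact (Submodule.smul_mem_iff _ hvn).1 (neg_mem_iff.1 h)
    · obtain ⟨n, hn, hpn, -, hnq⟩ := exists_aniso_perp hB h2 hA hdA hp hf.1 hpq hfq hpf
      have hpn' : B p (-n) = 0 := by rw [← neg_one_smul F, b_smul_right, hpn, mul_zero]
      have h := Submodule.add_mem _ (hd n hn hpn) (hd (-n) (A.neg_mem hn) hpn')
      rw [← neg_one_smul F n, b_smul_right, q_smul] at h
      refine (Submodule.smul_mem_iff _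
        (show -(2 * Q n * B v p) ≠ 0 from neg_ne_zero.2 (mul_ne_zero (mul_ne_zero h2 hnq) hvb))).1 ?_
      convert h using 1
      module
  have h := Submodule.sub_mem _ (good_swap hpG hpq) (good_self (hB := hB) (M := M) (ha := hpq))
  rwa [add_sub_cancel_left] at h

/-- An element moving `U` elsewhere than onto its orthogonal generates `Ω` with the stabiliser. -/
theorem El_le_of_moved (h2 : (2 : F) ≠ 0) {U : Submodule F (ι → F)} (hU : NondegOn Q U)
    (hdU : 4 ≤ Module.finrank F U) (hdW : 3 ≤ Module.finrank F (orth Q U))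
    (hbig : Module.finrank F (orth Q U) ≤ Module.finrank F U)
    (hle : stab Q U ⊓ El Q ≤ M) {g : Grp Q} (hg : g ∈ M) (hgs : g ∉ stab Q U)
    (hswap : img g U ≠ orth Q U) : El Q ≤ M := by
  classical
  have hW := nondegOn_orth hB hU
  have inU : ∀ x ∈ U, ∀ y ∈ U, ∀ k, IsSiegel x y k → k ∈ M := fun a ha b hb k hk =>
    hle (siegel_mem_stab_sub hk ha hb)
  have inW : ∀ x ∈ orth Q U, ∀ y ∈ orth Q U, ∀ k, IsSiegel x y k → k ∈ M := fun a ha b hb k hk =>
    hle ⟨by rw [← stab_orth_eq hB U]; exact (siegel_mem_stab_sub hk ha hb).1, siegel_mem_El hk⟩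
  obtain ⟨U', hU'⟩ : ∃ U', U' = img g U := ⟨_, rfl⟩
  have hU'n : NondegOn Q U' := hU' ▸ nondegOn_img hU g
  have hd' : Module.finrank F U' = Module.finrank F U := by rw [hU', finrank_img]
  have hlines : ∀ a ∈ U', ∀ b ∈ U', ∀ k, IsSiegel a b k → k ∈ M := fun a ha b hb k hk =>
    siegel_conj_mem hk hg fun k' hk' =>
      inU _ (mem_img.1 (hU' ▸ ha)) _ (mem_img.1 (hU' ▸ hb)) k' hk'
  obtain ⟨s₀, f₀, hs₀, hf₀, -, hs₀q, hf₀q, hs₀f⟩ := exists_pair_in hB hU'n (P := ⊥) bot_le
    (by rw [finrank_bot]; omega)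
  have hspan := le_span_singular_in hs₀.1 hf₀.1 hs₀q hf₀q hs₀f
  -- a singular vector with two non-zero components
  obtain ⟨a, haU', haq, p, hp, z, hz, hea, hp0, hz0⟩ : ∃ a ∈ U', Q a = 0 ∧
      ∃ p ∈ U, ∃ z ∈ orth Q U, a = p + z ∧ p ≠ 0 ∧ z ≠ 0 := by
    by_contra hc
    push Not at hc
    have side : ∀ y ∈ U', Q y = 0 → y ∈ U ∨ y ∈ orth Q U := fun y hy hyq => by
      obtain ⟨p, hp, z, hz, e⟩ := exists_decomp hB hU y
      by_cases hp0 : p = 0
      · exact Or.inr (by rw [e, hp0, zero_add]; exact hz)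
      · exact Or.inl (by rw [e, hc y hy hyq p hp z hz e hp0, add_zero]; exact hp)
    obtain ⟨a₂, ha₂, ha₂q, ha₂U⟩ := exists_singular_not_mem hspan fun h =>
      hgs (mem_img_of_stab (hU' ▸ h))
    have ha₂W := (side a₂ ha₂ ha₂q).resolve_left ha₂U
    have hall : U' ≤ orth Q U := by
      refine hspan.trans (Submodule.span_le.2 ?_)
      rintro y ⟨hy, hyq⟩
      rcases side y hy hyq with hyU | hyW
      · have hb : B y a₂ = 0 := ha₂W y hyU
        have hs := side (y + a₂) (U'.add_mem hy ha₂) (by rw [q_add, hyq, ha₂q, hb, add_zero, add_zero])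
        rcases hs with h | h
        · exact absurd (by simpa using U.sub_mem h hyU) ha₂U
        · simpa using Submodule.sub_mem _ h ha₂W
      · exact hyW
    exact hswap (hU' ▸ Submodule.eq_of_le_of_finrank_le hall (by omega))
  subst hea
  have hzU : ∀ x ∈ U, B z x = 0 := fun x hx => by rw [b_comm]; exact hz x hx
  have ha0 : p + z ≠ 0 := fun e => hp0 (nondeg_inf hU hp (by
    rw [eq_neg_of_add_eq_zero_left e]; exact neg_mem hz))
  obtain ⟨S, hS⟩ : ∃ S, S = relOrth Q U' (Submodule.span F {p + z}) := ⟨_, rfl⟩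
  have hSG : ∀ v ∈ S, v ∈ good hB M haq := fun v hv => by
    rw [hS] at hv
    exact ⟨mem_orth.1 hv.2 _ (Submodule.mem_span_singleton_self _),
      fun c k hk => hlines _ haU' _ (U'.smul_mem c hv.1) k hk⟩
  have hSd : 3 ≤ Module.finrank F S := by
    have h := finrank_relOrth hB U' (Submodule.span F {p + z})
    rw [finrank_span_singleton ha0, ← hS] at h
    omega
  by_cases hpq : Q p = 0
  · have hzq : Q z = 0 := by rwa [q_add, hpq, show B p z = 0 from hz p hp, zero_add, add_zero] at haq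
    obtain ⟨v, hv, hvn⟩ : ∃ v ∈ S, v ∉ Submodule.span F ({p, z} : Set (ι → F)) := by
      refine SetLike.not_le_iff_exists.1 fun h => ?_
      have h1 := Submodule.finrank_mono h
      have h3 := finrank_span_finset_le_card (R := F) ({p, z} : Finset (ι → F))
      rw [Set.finrank, Finset.coe_pair] at h3
      have h4 : ({p, z} : Finset (ι → F)).card ≤ 2 := Finset.card_le_two
      omega
    obtain ⟨vp, hvp, vz, hvz, hev⟩ := exists_decomp hB hU v
    by_cases hind : vp ∈ Submodule.span F {p}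
    · have hindz : vz ∉ Submodule.span F {z} := fun h => hvn (by
        rw [hev]
        exact add_mem (Submodule.span_mono (by simp) hind) (Submodule.span_mono (by simp) h))
      have haq' : Q (z + p) = 0 := by rwa [add_comm]
      have hv' : v ∈ good hB M haq' := by
        have h := hSG v hv
        simp only [add_comm p z] at h
        exact h
      have hm := mixed_of_singular hB h2 hW hdW inW hz hz0 hzq
        (by rw [orth_orth hB]; exact hp) haq' hv' hvz (by rw [orth_orth hB]; exact hvp)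
        (hev.trans (add_comm _ _)) hindz
      exact El_le_of_mixed hB h2 hW hdW (by rw [orth_orth hB]; omega) inW
        (by rw [orth_orth hB]; exact inU) hz hz0 hzq (by rw [orth_orth hB]; exact hp) hp0 hm
    · exact El_le_of_mixed hB h2 hU (by omega) hdW inU inW hp hp0 hpq hz hz0
        (mixed_of_singular hB h2 hU (by omega) inU hp hp0 hpq hz haq (hSG v hv) hvp hvz hev hind)
  -- an anisotropic component
  have hpp : B p p ≠ 0 := by rw [b_self]; exact mul_ne_zero h2 hpq
  obtain ⟨P, hP⟩ : ∃ P, P = relOrth Q U (Submodule.span F {p}) := ⟨_, rfl⟩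
  have memP : ∀ x, x ∈ P ↔ x ∈ U ∧ B p x = 0 := fun x => by
    rw [hP]
    exact ⟨fun h => ⟨h.1, mem_orth.1 h.2 p (Submodule.mem_span_singleton_self p)⟩,
      fun ⟨h1, h2⟩ => ⟨h1, mem_orth_span.2 fun y hy => by rw [Set.mem_singleton_iff.1 hy]; exact h2⟩⟩
  have hproj : ∀ x ∈ U, x - (B p x / B p p) • p ∈ P := fun x hx => (memP _).2
    ⟨U.sub_mem hx (U.smul_mem _ hp),
      by rw [b_sub_right, b_smul_right, div_mul_cancel₀ _ hpp, sub_self]⟩
  have hPn : NondegOn Q P := fun x hx h => hU x ((memP x).1 hx).1 fun y hy => by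
    have := h _ (hproj y hy)
    rwa [b_sub_right, b_smul_right, b_comm x p, ((memP x).1 hx).2, mul_zero, sub_zero] at this
  have hPd : 3 ≤ Module.finrank F P := by
    have h := finrank_relOrth hB U (Submodule.span F {p})
    rw [finrank_span_singleton hp0, ← hP] at h
    omega
  have hza : ∀ x ∈ P, B (p + z) x = 0 := fun x hx => by
    rw [b_add_left, ((memP x).1 hx).2, hzU x ((memP x).1 hx).1, add_zero]
  -- a singular vector of `U` with the same property
  have fin : ∀ s ∈ P, s ≠ 0 → ∀ hsq : Q s = 0, s ∈ good hB M haq → El Q ≤ M := by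
    intro s hs hs0 hsq hsG
    have hsU := ((memP s).1 hs).1
    have hpG : p ∈ good hB M hsq := ⟨by rw [b_comm]; exact ((memP s).1 hs).2,
      fun c k hk => inU s hsU _ (U.smul_mem c hp) k hk⟩
    have hm := Submodule.sub_mem _ (good_swap hsG hsq) hpG
    rw [add_sub_cancel_left] at hm
    exact El_le_of_mixed hB h2 hU (by omega) hdW inU inW hsU hs0 hsq hz hz0 hm
  obtain ⟨s, hs, hs0, hsq⟩ := exists_singular (Q := Q) (U := P) hPd
  obtain ⟨v, hv, hva⟩ : ∃ v ∈ S, v ∉ Submodule.span F {p + z} := by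
    refine SetLike.not_le_iff_exists.1 fun h => ?_
    have h1 := Submodule.finrank_mono h
    rw [finrank_span_singleton ha0] at h1
    omega
  obtain ⟨vp, hvp, vz, hvz, hev⟩ := exists_decomp hB hU v
  by_cases hind : vp ∈ Submodule.span F {p}
  · obtain ⟨k, hk⟩ := Submodule.mem_span_singleton.1 hind
    obtain ⟨w, hw⟩ : ∃ w, w = v - k • (p + z) := ⟨_, rfl⟩
    have hwW : w ∈ orth Q U := by
      rw [hw, hev, ← hk, show k • p + vz - k • (p + z) = vz - k • z by module]
      exact Submodule.sub_mem _ hvz (Submodule.smul_mem _ _ hz)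
    have hw0 : w ≠ 0 := fun e => hva (Submodule.mem_span_singleton.2
      ⟨k, (sub_eq_zero.1 (hw ▸ e)).symm⟩)
    have hwG : w ∈ good hB M haq :=
      hw ▸ Submodule.sub_mem _ (hSG v hv) (Submodule.smul_mem _ _ good_self)
    have hpw : B p w = 0 := hwW p hp
    by_cases hwq : Q w = 0
    · have hzG : z ∈ good hB M hwq := ⟨by
          have h := hwG.1
          rw [b_add_left, hpw, zero_add, b_comm] at h
          exact h, fun c j hj => inW w hwW _ (Submodule.smul_mem _ c hz) j hj⟩
      have hm := Submodule.sub_mem _ (good_swap hwG hwq) hzG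
      rw [add_sub_cancel_right] at hm
      exact El_le_of_mixed hB h2 hW hdW (by rw [orth_orth hB]; omega) inW
        (by rw [orth_orth hB]; exact inU) hwW hw0 hwq (by rw [orth_orth hB]; exact hp) hp0 hm
    -- move `p + z` along `U`
    have hsp : B s p = 0 := by rw [b_comm]; exact ((memP s).1 hs).2
    obtain ⟨e, he⟩ := exists_siegel hB hsq hsp
    have heM := inU s ((memP s).1 hs).1 p hp e he
    obtain ⟨b, hb⟩ : ∃ b, b = ap e (p + z) := ⟨_, rfl⟩
    have hbq : Q b = 0 := by rw [hb, ap_q, haq]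
    have hbe : b = p + z - (2 * Q p) • s := by
      rw [hb, he.2.2, hza s hs, b_add_left, b_self, hzU p hp, add_zero, zero_smul, mul_zero,
        zero_smul, add_zero, sub_zero]
    have hew : ap e w = w := siegel_fix he (by rw [b_comm]; exact hwW s ((memP s).1 hs).1)
      (by rw [b_comm]; exact hpw)
    have hwb : w ∈ good hB M hbq := by
      refine ⟨?_, fun c j hj => siegel_conj_mem hj heM fun j' hj' => ?_⟩
      · rw [← hew, hb, ap_b]; exact hwG.1
      · have h1 : ap e⁻¹ b = p + z := by rw [hb, ap_inv_ap]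
        have h3 : ap e⁻¹ w = w := by conv_lhs => rw [← hew, ap_inv_ap]
        rw [h1, ap_smul, h3] at hj'
        exact hwG.2 c j' hj'
    have haw : B (p + z) w = 0 := hwG.1
    obtain ⟨j, hj⟩ := exists_siegel hB haq haw
    have hjM : j ∈ M := hwG.2 1 j (by rwa [one_smul])
    have hab : B b (p + z) = 0 := by
      rw [hbe, b_sub_left, b_self_zero haq, b_smul_left, b_comm s (p + z), hza s hs]; ring
    have hd := good_diff hj hjM hab hwb.1 hwb
    rw [b_comm w (p + z), haw, zero_smul, mul_zero, zero_smul, sub_zero, zero_sub, b_self] at hd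
    have haG : p + z ∈ good hB M hbq :=
      (Submodule.smul_mem_iff _ (mul_ne_zero h2 hwq)).1 (neg_mem_iff.1 hd)
    have hsG := Submodule.sub_mem _ (good_self (hB := hB) (M := M) (ha := haq))
      (good_swap haG haq)
    rw [show p + z - b = (2 * Q p) • s by rw [hbe]; abel] at hsG
    exact fin s hs hs0 hsq ((Submodule.smul_mem_iff _ (mul_ne_zero h2 hpq)).1 hsG)
  · obtain ⟨y, hy⟩ : ∃ y, y = vp - (B p vp / B p p) • p := ⟨_, rfl⟩
    have hyP : y ∈ P := hy ▸ hproj vp hvp
    obtain ⟨t, ht, hyt⟩ : ∃ t ∈ P, B y t ≠ 0 := by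
      by_contra hc
      push Not at hc
      have h0 := hPn y hyP hc
      rw [hy, sub_eq_zero] at h0
      exact hind (Submodule.mem_span_singleton.2 ⟨_, h0.symm⟩)
    have hvt : B v t ≠ 0 := by
      rw [hev, b_add_left, b_comm vz t, show B t vz = 0 from hvz t ((memP t).1 ht).1, add_zero]
      rwa [hy, b_sub_left, b_smul_left, ((memP t).1 ht).2, mul_zero, sub_zero] at hyt
    have hall : P ≤ good hB M haq := spans hB h2 hPn hPd (fun x hx s' hs' n hn hs'q hs'n => by
      obtain ⟨e, he⟩ := exists_siegel hB hs'q hs'n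
      exact good_diff he (inU s' ((memP s').1 hs').1 n ((memP n).1 hn).1 e he)
        (hza s' hs') (hza n hn) hx) (hSG v hv) ht hvt
    exact fin s hs hs0 hsq (hall hs)

/-- The stabiliser of a non-degenerate subspace of dimension at least four facing one of at least
three is maximal in `Ω`. -/
theorem isMaximalIn_stab (h2 : (2 : F) ≠ 0) {U : Submodule F (ι → F)} (hU : NondegOn Q U)
    (hdU : 4 ≤ Module.finrank F U) (hdW : 3 ≤ Module.finrank F (orth Q U))
    (hbig : Module.finrank F (orth Q U) ≤ Module.finrank F U)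
    (hswap : ∀ g : Grp Q, img g U ≠ orth Q U) :
    Cfsg.Geo.IsMaximalIn (Cfsg.Geo.omegaGL ⇑Q)
      (Cfsg.Geo.subspaceStabilizer U ⊓ Cfsg.Geo.omegaGL ⇑Q) := by
  have hsum := finrank_orth hB U
  refine isMaximalIn_omegaGL (H := stab Q U) (fun _ => Iff.rfl) ?_
  rw [omega_eq_El hB (by omega)]
  constructor
  · refine lt_of_le_of_ne inf_le_right fun h => ?_
    obtain ⟨w, hw, hw0⟩ := (orth Q U).exists_mem_ne_zero_of_ne_bot fun e => by
      rw [e, finrank_bot] at hdW; omega
    obtain ⟨s, f, hs, hf, hsP, hsq, hfq, hsf⟩ := exists_pair_in hB hU (P := ⊥) bot_le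
      (by rw [finrank_bot]; omega)
    obtain ⟨e, he⟩ := exists_siegel hB hsq (v := w) (hw s hs.1)
    have h1 := (mem_stab.1 (h.symm ▸ siegel_mem_El he : e ∈ stab Q U ⊓ El Q).1 f).1 hf.1
    rw [he.2.2, b_comm f s, hsf, show B f w = 0 from hw f hf.1, one_smul, zero_smul,
      sub_zero, mul_one] at h1
    have h2 : w ∈ U := by
      have := U.sub_mem (U.add_mem h1 (U.smul_mem (Q w) hs.1)) hf.1
      rwa [sub_add_cancel, add_sub_cancel_left] at this
    exact hw0 (nondeg_inf hU h2 hw)
  intro M hle hM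
  by_cases hMs : M ≤ stab Q U
  · exact Or.inl (le_antisymm (le_inf hMs hM) hle)
  obtain ⟨g, hg, hgs⟩ := SetLike.not_le_iff_exists.1 hMs
  exact Or.inr (le_antisymm hM (El_le_of_moved hB h2 hU hdU hdW hbig hle hg hgs (hswap g)))

/-- The stabiliser of a four-space in an odd-characteristic space of dimension seven is maximal. -/
theorem isMaximalIn_stab_four (h2 : (2 : F) ≠ 0) (hn : Module.finrank F (ι → F) = 7)
    {U : Submodule F (ι → F)} (hU : NondegOn Q U) (hd : Module.finrank F U = 4) :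
    Cfsg.Geo.IsMaximalIn (Cfsg.Geo.omegaGL ⇑Q)
      (Cfsg.Geo.subspaceStabilizer U ⊓ Cfsg.Geo.omegaGL ⇑Q) := by
  have hsum := finrank_orth hB U
  refine isMaximalIn_stab hB h2 hU hd.ge (by omega) (by omega) fun g hg => ?_
  have he := finrank_img g U
  rw [hg] at he
  omega

end CfsgLib.Orth.OddSub
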