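import Cfsg.Agent.Lib.Classical.OrthOverfieldU
import Cfsg.Agent.Lib.Derange.QuadField

set_option autoImplicit false
set_option linter.unusedSectionVars false

/-!
The normaliser of a quadratic extension acting by similitudes is maximal in `Ω`.
-/

namespace CfsgLib.Orth.Overfield

open Matrix

variable {F : Type*} [Field F] [Finite F] {n : ℕ}
variable {Q : QuadraticForm F (Fin n → F)} {K : Subalgebra F (Matrix (Fin n) (Fin n) F)}

local notation "B" => QuadraticMap.polar (DFunLike.coe Q)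

theorem exists_setup (hB : Nondeg Q) (hn : 10 ≤ n) (hK : Cfsg.Geo.IsFieldSubalgebra 2 K)
    (hac : Cfsg.Geo.IsAdjointClosedFor (QuadraticMap.polar ⇑Q) K)
    (hnsa : ¬ Cfsg.Geo.IsSelfAdjointFor (QuadraticMap.polar ⇑Q) K)
    (hsc : ∀ k ∈ K, ∃ c : F, ∀ v : Fin n → F, Q (Matrix.mulVec k v) = c * Q v) :
    ∃ (j : Matrix (Fin n) (Fin n) F) (τ ν : F), j ∈ K ∧ (∀ c : F, j ≠ c • 1) ∧
      Setup Q (Matrix.toLin' j) τ ν := by
  classical
  haveI : Nonempty (Fin n) := ⟨⟨0, by omega⟩⟩
  obtain ⟨j, hj, hjs⟩ : ∃ j ∈ K, ∀ c : F, j ≠ c • 1 := by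
    by_contra hc
    push Not at hc
    have hle : Subalgebra.toSubmodule K ≤ Submodule.span F {(1 : Matrix (Fin n) (Fin n) F)} := by
      intro x hx
      obtain ⟨c, rfl⟩ := hc x hx
      exact Submodule.smul_mem _ _ (Submodule.mem_span_singleton_self _)
    have h1 := Submodule.finrank_mono hle
    rw [finrank_span_singleton one_ne_zero] at h1
    have h2 : Module.finrank F (Subalgebra.toSubmodule K) = 2 := hK.finrank_eq
    omega
  obtain ⟨j', hj', hadj⟩ := hac j hj
  obtain ⟨ν, hν⟩ := hsc j hj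
  obtain ⟨a, b, hab⟩ := Derange.exists_span (by omega) hK hj hjs hj'
  have hBjj : ∀ x y, B (j *ᵥ x) (j *ᵥ y) = ν * B x y := fun x y => by
    unfold QuadraticMap.polar
    rw [← Matrix.mulVec_add, hν, hν, hν]; ring
  have hprod : j' * j = ν • (1 : Matrix (Fin n) (Fin n) F) := by
    refine Matrix.ext_iff_mulVec.2 fun y => ?_
    refine (sub_eq_zero.1 (hB _ fun x => ?_))
    rw [b_sub_left, ← Matrix.mulVec_mulVec, b_comm, ← hadj, hBjj, Matrix.smul_mulVec,
      Matrix.one_mulVec, b_smul_left, b_comm y x, sub_self]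
  have hmulzero : ∀ x y : Matrix (Fin n) (Fin n) F, x ∈ K → x * y = 0 → x = 0 ∨ y = 0 := by
    intro x y hx h
    by_cases hx0 : x = 0
    · exact Or.inl hx0
    obtain ⟨z, hz, hxz⟩ := hK.inv x hx hx0
    refine Or.inr ?_
    rw [← one_mul y, ← hxz, hK.comm x hx z hz, mul_assoc, h, mul_zero]
  have hj0 : j ≠ 0 := fun e => hjs 0 (by rw [e, zero_smul])
  have hνne : ν ≠ 0 := by
    intro e
    rw [e, zero_smul] at hprod
    rcases hmulzero j' j hj' hprod with h | h
    · refine hj0 (Matrix.ext_iff_mulVec.2 fun x => ?_)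
      rw [Matrix.zero_mulVec]
      exact hB _ fun y => by rw [hadj, h, Matrix.zero_mulVec, b_zero_right]
    · exact hj0 h
  -- applying the adjoint twice
  have htwice : a • (1 : Matrix (Fin n) (Fin n) F) + b • j' = j := by
    refine Matrix.ext_iff_mulVec.2 fun x => ?_
    refine sub_eq_zero.1 (hB _ fun y => ?_)
    have e : ∀ x y, B (j' *ᵥ x) y = B x (j *ᵥ y) := fun x y => by rw [b_comm, ← hadj, b_comm]
    rw [b_sub_left, Matrix.add_mulVec, Matrix.smul_mulVec, Matrix.smul_mulVec, Matrix.one_mulVec,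
      b_add_left, b_smul_left, b_smul_left, e, hadj x y]
    conv_lhs => arg 2; rw [hab, Matrix.add_mulVec, Matrix.smul_mulVec, Matrix.smul_mulVec,
      Matrix.one_mulVec, b_add_right, b_smul_right, b_smul_right]
    ring
  have hcoef : ∀ p q : F, p • (1 : Matrix (Fin n) (Fin n) F) + q • j = 0 → p = 0 ∧ q = 0 := by
    intro p q h
    by_cases hq : q = 0
    · rw [hq, zero_smul, add_zero] at h
      exact ⟨(smul_eq_zero.1 h).resolve_right one_ne_zero, hq⟩
    · exfalso
      refine hjs (-(p / q)) ?_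
      rw [div_eq_inv_mul, neg_smul, ← smul_smul, eq_neg_iff_add_eq_zero, ← smul_right_inj hq,
        smul_add, smul_smul, mul_inv_cancel₀ hq, one_smul, smul_zero, add_comm]
      exact h
  have hb : b = -1 := by
    rw [hab] at htwice
    obtain ⟨h1, h2⟩ := hcoef (a + b * a) (b * b - 1) (by linear_combination (norm := module) htwice)
    rcases mul_self_eq_one_iff.1 (sub_eq_zero.1 h2) with hb | hb
    · by_cases h : a = 0
      · exfalso
        refine hnsa fun k hk u v => ?_
        have hsa : j' = j := by rw [hab, h, hb, zero_smul, zero_add, one_smul]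
        obtain ⟨p, q, rfl⟩ := Derange.exists_span (by omega) hK hj hjs hk
        simp only [Matrix.add_mulVec, Matrix.smul_mulVec, Matrix.one_mulVec, b_add_left,
          b_add_right, b_smul_left, b_smul_right]
        rw [hadj, hsa]
      · rw [hb]
        have h2' : (2 : F) = 0 := (mul_eq_zero.1 (show (2 : F) * a = 0 by
          rw [hb] at h1; linear_combination h1)).resolve_right h
        linear_combination h2'
    · exact hb
  rw [hb] at hab
  refine ⟨j, a, ν, hj, hjs, ?_⟩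
  have hsq : j * j = a • j - ν • (1 : Matrix (Fin n) (Fin n) F) := by
    rw [← hprod, hab]
    simp only [add_mul, smul_mul_assoc, one_mul, neg_smul, one_smul, neg_mul]
    abel
  refine ⟨hB, by rw [Module.finrank_fin_fun]; exact hn, hνne, fun x => ?_, fun x y => ?_, ?_, ?_,
    fun c hc => ?_⟩
  · simp only [Matrix.toLin'_apply]
    rw [Matrix.mulVec_mulVec, hsq, Matrix.sub_mulVec, Matrix.smul_mulVec, Matrix.smul_mulVec,
      Matrix.one_mulVec]
  · simp only [Matrix.toLin'_apply]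
    rw [hadj, hab, Matrix.add_mulVec, Matrix.smul_mulVec, Matrix.smul_mulVec, Matrix.one_mulVec,
      neg_one_smul, ← sub_eq_add_neg]
  · intro x
    simp only [Matrix.toLin'_apply]
    exact hν x
  · intro x hx
    simp only [Matrix.toLin'_apply]
    obtain ⟨c, hc⟩ := hsc (1 + j) (K.add_mem K.one_mem hj)
    have h := hc x
    rw [Matrix.add_mulVec, Matrix.one_mulVec, q_add, hν, hx] at h
    linear_combination h
  · have hzero : (j - c • 1) * (j - (a - c) • 1) = 0 := by
      simp only [sub_mul, mul_sub, smul_mul_assoc, mul_smul_comm, one_mul, mul_one, hsq, smul_smul,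
        smul_sub]
      linear_combination (norm := module) -hc • (1 : Matrix (Fin n) (Fin n) F)
    rcases hmulzero _ _ (K.sub_mem hj (K.smul_mem K.one_mem c)) hzero with h | h
    · exact hjs c (sub_eq_zero.1 h)
    · exact hjs _ (sub_eq_zero.1 h)

theorem isMaximalIn (hB : Nondeg Q) (hn : 10 ≤ n) (hK : Cfsg.Geo.IsFieldSubalgebra 2 K)
    (hac : Cfsg.Geo.IsAdjointClosedFor (QuadraticMap.polar ⇑Q) K)
    (hnsa : ¬ Cfsg.Geo.IsSelfAdjointFor (QuadraticMap.polar ⇑Q) K)
    (hsc : ∀ k ∈ K, ∃ c : F, ∀ v : Fin n → F, Q (Matrix.mulVec k v) = c * Q v) :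
    Cfsg.Geo.IsMaximalIn (Cfsg.Geo.omegaGL ⇑Q)
      (Cfsg.Geo.subalgebraNormalizer K ⊓ Cfsg.Geo.omegaGL ⇑Q) := by
  classical
  obtain ⟨j, τ, ν, hj, hjs, hS⟩ := exists_setup hB hn hK hac hnsa hsc
  have hn5 : 5 ≤ Module.finrank F (Fin n → F) := by rw [Module.finrank_fin_fun]; omega
  have hΩ := omega_eq_El hB hn5
  refine isMaximalIn_omegaGL
    (H := (Cfsg.Geo.subalgebraNormalizer K).comap (Cfsg.isometryGroup F ⇑Q).subtype)
    (fun _ => Iff.rfl) ⟨lt_of_le_not_ge inf_le_right fun hge => ?_, fun M h1 h2 => ?_⟩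
  · obtain ⟨g, hg, a, hQa, hmove⟩ := hS.exists_moving (M := ⊤) (fun _ _ _ _ _ => Subgroup.mem_top _)
    have hN := (hge (by rw [hΩ]; exact hg)).1
    have hmem := (hN j).1 hj
    obtain ⟨p, q, hpq⟩ := Derange.exists_span (by omega) hK hj hjs hmem
    refine hmove ?_
    have e : ap g (j *ᵥ a) = p • ap g a + q • (j *ᵥ ap g a) := by
      have h := congrArg (fun m => m *ᵥ ap g a) hpq
      simp only [Matrix.add_mulVec, Matrix.smul_mulVec, Matrix.one_mulVec, ← Matrix.mulVec_mulVec]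
        at h
      rw [← h]
      show _ = ap g (j *ᵥ ap g⁻¹ (ap g a))
      rw [ap_inv_ap]
    rw [Matrix.toLin'_apply, e]
    exact add_mem (Submodule.smul_mem _ _ (self_mem_kl _))
      (Submodule.smul_mem _ _ (by rw [← Matrix.toLin'_apply]; exact j_mem_kl _))
  have hM : ∀ g, g ∈ Cfsg.Omega F ⇑Q →
      (∀ x, ap g (Matrix.toLin' j x) = Matrix.toLin' j (ap g x)) → g ∈ M := by
    intro g hg hc
    refine h1 ⟨Derange.mem_normalizer_of_commute (by omega) hK hj hjs _ ?_, hg⟩
    refine Matrix.ext_iff_mulVec.2 fun x => ?_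
    simpa [ap, Matrix.mulVec_mulVec] using hc x
  by_cases hbad : ∃ g0 ∈ M, ∃ a, Q a = 0 ∧
      ap g0 (Matrix.toLin' j a) ∉ Kl (Matrix.toLin' j) (ap g0 a)
  · obtain ⟨g0, hg0, a, ha, hmove⟩ := hbad
    exact Or.inr (le_antisymm h2 (by rw [hΩ]; exact hS.el_le_of_moved (hS.root_mem_of_cent hM) hg0 ha hmove))
  push Not at hbad
  refine Or.inl (le_antisymm (fun g hg => ⟨fun k => ?_, h2 hg⟩) h1)
  have key : ∀ g ∈ M, ∀ k ∈ K, ((g : Grp Q) : GL (Fin n) F).1 * k *
      (((g : Grp Q) : GL (Fin n) F)⁻¹ : GL (Fin n) F).1 ∈ K := by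
    intro g hg k hk
    obtain ⟨α, β, hαβ⟩ := hS.conj_mem_span (g := g) fun a ha => hbad g hg a ha
    obtain ⟨p, q, rfl⟩ := Derange.exists_span (by omega) hK hj hjs hk
    have e : ((g : Grp Q) : GL (Fin n) F).1 * j = (α • 1 + β • j) * ((g : Grp Q) : GL (Fin n) F).1 := by
      refine Matrix.ext_iff_mulVec.2 fun x => ?_
      rw [← Matrix.mulVec_mulVec, ← Matrix.mulVec_mulVec, Matrix.add_mulVec, Matrix.smul_mulVec,
        Matrix.smul_mulVec, Matrix.one_mulVec]
      exact hαβ x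
    simp only [mul_add, add_mul, mul_smul_comm, smul_mul_assoc, mul_one, Units.mul_inv]
    rw [e, mul_assoc, Units.mul_inv, mul_one]
    exact K.add_mem (K.smul_mem K.one_mem p)
      (K.smul_mem (K.add_mem (K.smul_mem K.one_mem α) (K.smul_mem hj β)) q)
  refine ⟨key g hg k, fun h => ?_⟩
  have h3 := key g⁻¹ (M.inv_mem hg) _ h
  simp only [Subgroup.coe_inv, inv_inv] at h3
  simpa [mul_assoc, ← mul_assoc (((g : Grp Q) : GL (Fin n) F)⁻¹ : GL (Fin n) F).1] using h3

end CfsgLib.Orth.Overfield
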