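/-
The order of `PΩ` in terms of the order of the isometry group.
-/
import Cfsg.Agent.Lib.Classical.OrthCenter
import Cfsg.Agent.Lib.Classical.OrthOrderStd

set_option autoImplicit false

namespace CfsgLib.Orth

open Matrix

variable {F : Type*} [Field F] [Finite F] {ι : Type} [Fintype ι] [DecidableEq ι]
variable {Q : QuadraticForm F (ι → F)}

theorem two_eq_zero_of_even {q : ℕ} (hq : Nat.card F = q) (h : ¬ Odd q) : (2 : F) = 0 := by
  cases nonempty_fintype F
  by_contra h2
  refine h (hq ▸ Nat.odd_iff.2 ?_)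
  rw [Nat.card_eq_fintype_card]
  refine FiniteField.odd_card_of_char_ne_two fun e => h2 ?_
  have := CharP.cast_eq_zero F (ringChar F)
  rwa [e, Nat.cast_ofNat] at this

theorem grp_char_two (hB : Nondeg Q) (hn : 5 ≤ Module.finrank F (ι → F)) (h2 : (2 : F) = 0) :
    Nat.card (Grp Q) = 2 * Nat.card (Cfsg.POmega F ⇑Q) := by
  have hex : Module.finrank F (ι → F) = 4 → Nat.card F ≠ 2 := fun h => by omega
  have hidx : (Cfsg.Omega F ⇑Q).index = 2 := by
    obtain ⟨v, hv⟩ := exists_aniso hB (by omega)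
    obtain ⟨r, hr⟩ := exists_refl hB hv
    have htop : (dickson hB).range = ⊤ := eq_top_iff.2 fun z _ => by
      rcases Int.units_eq_one_or z with rfl | rfl
      · exact one_mem _
      · exact ⟨r, dickson_refl hB hr⟩
    rw [omega_eq_ker_dickson hB h2 (by omega) hex, Subgroup.index_ker, htop, Subgroup.card_top,
      Nat.card_eq_fintype_card]
    rfl
  have hc := (card_center_omega hB hn).1 fun g _ hg => Subtype.ext (Units.ext (by
    rw [hg]
    have : CharP F 2 := CharTwo.of_one_ne_zero_of_two_eq_zero one_ne_zero h2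
    ext i j
    rw [Matrix.neg_apply, CharTwo.neg_eq]
    rfl))
  rw [card_grp_eq_index_mul, hidx, hc, mul_one]

theorem index_odd (hB : Nondeg Q) (hn : 5 ≤ Module.finrank F (ι → F)) (h2 : (2 : F) ≠ 0) :
    (Cfsg.Omega F ⇑Q).index = 4 := by
  obtain ⟨h1, h3, -⟩ := omega_eq_ker_psi hB h2 (by omega) (one_ne_zero (α := F))
  rw [h1, Subgroup.index_ker, h3, Subgroup.card_top, Nat.card_eq_fintype_card]
  rfl

theorem grp_no_neg (hB : Nondeg Q) (hn : 5 ≤ Module.finrank F (ι → F)) (h2 : (2 : F) ≠ 0)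
    (h : ¬ ∃ g : Grp Q, g ∈ Cfsg.Omega F ⇑Q ∧ ((g : GL ι F) : Matrix ι ι F) = -1) :
    Nat.card (Grp Q) = 4 * Nat.card (Cfsg.POmega F ⇑Q) := by
  have hc := (card_center_omega hB hn).1 fun g hg hm => absurd ⟨g, hg, hm⟩ h
  rw [card_grp_eq_index_mul, index_odd hB hn h2, hc, mul_one]

theorem grp_neg (hB : Nondeg Q) (hn : 5 ≤ Module.finrank F (ι → F)) (h2 : (2 : F) ≠ 0)
    (h : ∃ g : Grp Q, g ∈ Cfsg.Omega F ⇑Q ∧ ((g : GL ι F) : Matrix ι ι F) = -1) :
    Nat.card (Grp Q) = 8 * Nat.card (Cfsg.POmega F ⇑Q) := by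
  obtain ⟨g, hg, hm⟩ := h
  have : Nonempty ι := by
    by_contra hne
    rw [not_nonempty_iff] at hne
    rw [Module.finrank_pi, Fintype.card_eq_zero] at hn
    omega
  have hg1 : g ≠ 1 := fun e => by
    rw [e] at hm
    obtain ⟨i⟩ := ‹Nonempty ι›
    have := congrFun (congrFun hm i) i
    simp at this
    exact h2 (by linear_combination this)
  have hc := (card_center_omega hB hn).2 ⟨g, hg, hg1, hm⟩
  rw [card_grp_eq_index_mul, index_odd hB hn h2, hc]
  ring

/-- `-1` is outside `Ω` in odd dimension. -/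
theorem no_neg_of_odd (hB : Nondeg Q) (h2 : (2 : F) ≠ 0)
    (hodd : Odd (Module.finrank F (ι → F))) :
    ¬ ∃ g : Grp Q, g ∈ Cfsg.Omega F ⇑Q ∧ ((g : GL ι F) : Matrix ι ι F) = -1 := by
  rintro ⟨g, hg, hm⟩
  have hfix : fixSpace g = ⊥ := (Submodule.eq_bot_iff _).2 fun x hx => by
    have h : ap g x = x := mem_fixSpace.1 hx
    unfold ap at h
    rw [hm, Matrix.neg_mulVec, Matrix.one_mulVec] at h
    funext i
    have h' := congrFun h i
    rw [Pi.neg_apply] at h'
    exact (mul_eq_zero.1 (show (2 : F) * x i = 0 by linear_combination -h')).resolve_left h2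
  have h : dickson hB g = 1 := MonoidHom.mem_ker.1 (Abelianization.commutator_subset_ker _ hg)
  change (-1 : ℤˣ) ^ (Module.finrank F (ι → F) + Module.finrank F (fixSpace g)) = 1 at h
  rw [hfix, finrank_bot, add_zero, hodd.neg_one_pow] at h
  exact absurd h (by decide)

end CfsgLib.Orth
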