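/-
Stabilisers of a pair of complementary totally singular half subspaces.
-/
import Cfsg.Agent.Lib.Classical.OrthNondeg

set_option autoImplicit false

namespace CfsgLib.Orth

open Matrix

variable {F : Type*} [Field F] [Finite F] {ι : Type} [Fintype ι] [DecidableEq ι]
variable {Q : QuadraticForm F (ι → F)}

local notation "B" => QuadraticMap.polar (DFunLike.coe Q)

/-- A pair of complementary half subspaces. -/
structure Split (Q : QuadraticForm F (ι → F)) (U W : Submodule F (ι → F)) : Prop where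
  compl : IsCompl U W
  hU : IsHalf Q U
  hW : IsHalf Q W

namespace Split

variable {U W : Submodule F (ι → F)}

omit [Finite F] [Fintype ι] [DecidableEq ι]

theorem symm (S : Split Q U W) : Split Q W U := ⟨S.compl.symm, S.hW, S.hU⟩

theorem perp (S : Split Q U W) {x y : ι → F} (hx : x ∈ U) (hy : y ∈ U) : B x y = 0 :=
  mem_orth.1 (le_orth_of_singular S.hU.1 hy) x hx

theorem parts (S : Split Q U W) (x : ι → F) : ∃ x1 ∈ U, ∃ x2 ∈ W, x = x1 + x2 := by
  obtain ⟨a, ha, b, hb, h⟩ := Submodule.mem_sup.1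
    (show x ∈ U ⊔ W by rw [S.compl.sup_eq_top]; exact Submodule.mem_top)
  exact ⟨a, ha, b, hb, h.symm⟩

theorem sep [Finite ι] (hB : Nondeg Q) (S : Split Q U W) {P : Submodule F (ι → F)} (hP : P ≤ U)
    {a : ι → F} (ha : a ∈ U) (haP : a ∉ P) :
    ∃ w ∈ W, (∀ p ∈ P, B p w = 0) ∧ B a w = 1 := by
  obtain ⟨z, hz, haz⟩ := exists_orth_one hB haP
  obtain ⟨z1, hz1, z2, hz2, rfl⟩ := S.parts z
  have e : ∀ p ∈ U, B p (z1 + z2) = B p z2 := fun p hp => by
    rw [b_add_right, S.perp hp hz1, zero_add]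
  exact ⟨z2, hz2, fun p hp => (e p (hP hp)).symm.trans (mem_orth.1 hz p hp), (e a ha).symm.trans haz⟩

end Split

/-- All root elements `T(x, c • y)` lie in `M`. -/
def Root (M : Subgroup (Grp Q)) (x y : ι → F) : Prop :=
  ∀ (c : F) k, IsSiegel x (c • y) k → k ∈ M

variable {M : Subgroup (Grp Q)}

omit [Finite F] in
theorem root_ap {x y : ι → F} {k : Grp Q} (h : IsSiegel x y k) (hy : Q y = 0) (z : ι → F) :
    ap k z = z + B z x • y - B z y • x := by
  rw [h.2.2, hy, zero_mul, zero_smul, sub_zero]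

omit [Finite F] in
theorem Root.swap {x y : ι → F} (hx : Q x = 0) (hy : Q y = 0) (h : Root M x y) : Root M y x := by
  intro c k hk
  refine h (-c) k ⟨hx, ?_, fun z => ?_⟩
  · have := hk.2.1
    rw [b_smul_right, b_comm y x] at this
    rw [b_smul_right, neg_mul, this, neg_zero]
  · rw [hk.2.2, b_smul_right, b_smul_right, q_smul, q_smul, hx, hy]
    module

omit [Finite F] in
theorem Root.smul {x y : ι → F} (h : Root M x y) (t : F) : Root M x (t • y) := fun c k hk =>
  h (c * t) k (by rwa [← smul_smul])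

omit [Finite F] in
theorem Root.add (hB : Nondeg Q) {x y z : ι → F} (hz : B x z = 0) (h : Root M x y)
    (h' : Root M x z) : Root M x (y + z) := fun c k hk =>
  siegel_add_mem hB (by rwa [smul_add] at hk) (by rw [b_smul_right, hz, mul_zero]) (h c) (h' c)

omit [Finite F] in
theorem Root.sub (hB : Nondeg Q) {x y z : ι → F} (hz : B x z = 0) (h : Root M x y)
    (h' : Root M x z) : Root M x (y - z) := by
  have := h.add hB (z := (-1 : F) • z) (by rw [b_smul_right, hz, mul_zero]) (h'.smul _)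
  rwa [neg_one_smul, ← sub_eq_add_neg] at this

omit [Finite F] in
theorem Root.conj {x y : ι → F} {s : Grp Q} (hs : s ∈ M) (h : Root M x y) :
    Root M (ap s x) (ap s y) := fun c k hk =>
  siegel_conj_mem hk hs fun k' hk' => h c k' (by rwa [ap_inv_ap, ← ap_smul, ap_inv_ap] at hk')

variable {U W : Submodule F (ι → F)}

/-- The roots inside the stabiliser. -/
theorem root_of_split (S : Split Q U W)
    (hfix : ∀ k ∈ El Q, (∀ x ∈ U, ap k x ∈ U) → (∀ x ∈ W, ap k x ∈ W) → k ∈ M)
    {u w : ι → F} (hu : u ∈ U) (hw : w ∈ W) : Root M u w := by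
  intro c k hk
  have hcw : c • w ∈ W := W.smul_mem c hw
  refine hfix k (siegel_mem_El hk) (fun x hx => ?_) fun x hx => ?_ <;>
    rw [root_ap hk (S.hW.1 _ hcw)]
  · rw [S.perp hx hu, zero_smul, add_zero]
    exact U.sub_mem hx (U.smul_mem _ hu)
  · rw [S.symm.perp hx hcw, zero_smul, sub_zero]
    exact W.add_mem hx (W.smul_mem _ hcw)

omit [Finite F] in
theorem exists_in_W (S : Split Q U W) (hk : 5 ≤ Module.finrank F W) (x y : ι → F)
    {T : Submodule F (ι → F)} (hT : Module.finrank F T ≤ 2) :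
    ∃ w ∈ W, B x w = 0 ∧ B y w = 0 ∧ w ∉ T := by
  let L : W →ₗ[F] (Fin 2 → F) :=
    { toFun := fun w => ![B x (w : ι → F), B y (w : ι → F)]
      map_add' := fun a b => by ext i; fin_cases i <;> simp [b_add_right]
      map_smul' := fun c a => by ext i; fin_cases i <;> simp [b_smul_right] }
  by_contra hc
  push Not at hc
  have hle : (LinearMap.ker L).map W.subtype ≤ T := by
    rintro _ ⟨w, hw, rfl⟩
    have h0 := LinearMap.mem_ker.1 hw
    exact hc w w.2 (congrFun h0 0) (congrFun h0 1)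
  have h1 := L.finrank_range_add_finrank_ker
  have h2 := Submodule.finrank_le (LinearMap.range L)
  rw [Module.finrank_fin_fun] at h2
  have h3 := Submodule.finrank_mono hle
  rw [Submodule.finrank_map_subtype_eq] at h3
  omega

omit [Finite F] in
theorem finrank_pair_le (x y : ι → F) :
    Module.finrank F (Submodule.span F ({x, y} : Set (ι → F))) ≤ 2 := by
  classical
  have h2 := finrank_span_finset_le_card (R := F) ({x, y} : Finset (ι → F))
  rw [Set.finrank, Finset.coe_pair] at h2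
  exact h2.trans Finset.card_le_two

/-- From a root element whose components in `W` are independent, one inside `W`. -/
theorem exists_root_inside (hB : Nondeg Q) (S : Split Q U W) (hk : 5 ≤ Module.finrank F W)
    (hfix : ∀ u ∈ U, ∀ w ∈ W, Root M u w)
    {x1 x2 y1 y2 : ι → F} (hx1 : x1 ∈ U) (hx2 : x2 ∈ W) (hy1 : y1 ∈ U) (hy2 : y2 ∈ W)
    (hqx : Q (x1 + x2) = 0) (hqy : Q (y1 + y2) = 0) (hxy : B (x1 + x2) (y1 + y2) = 0)
    (h : Root M (x1 + x2) (y1 + y2)) (hy20 : y2 ≠ 0) (hind : x2 ∉ Submodule.span F {y2}) :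
    ∃ a ∈ W, ∃ b ∈ W, b ≠ 0 ∧ a ∉ Submodule.span F {b} ∧ Root M a b := by
  obtain ⟨w, hw, hwx, hwy, hwS⟩ := exists_in_W S hk x1 y1 (finrank_pair_le x2 y2)
  have hxS : x2 ∉ Submodule.span F ({w, y2} : Set (ι → F)) := by
    intro e
    obtain ⟨α, β, e⟩ := Submodule.mem_span_pair.1 e
    by_cases hα : α = 0
    · exact hind (Submodule.mem_span_singleton.2 ⟨β, by rw [← e, hα, zero_smul, zero_add]⟩)
    · refine hwS ((Submodule.smul_mem_iff _ hα).1 ?_)
      rw [show α • w = x2 - β • y2 by rw [← e]; abel]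
      exact Submodule.sub_mem _ (Submodule.subset_span (Set.mem_insert _ _))
        (Submodule.smul_mem _ _ (Submodule.subset_span (Set.mem_insert_of_mem _ rfl)))
  obtain ⟨u, hu, hu0, hux⟩ := S.symm.sep hB (P := Submodule.span F ({w, y2} : Set (ι → F)))
    (Submodule.span_le.2 fun z hz => by rcases hz with rfl | rfl <;> assumption) hx2 hxS
  have hwu : B w u = 0 := hu0 w (Submodule.subset_span (Set.mem_insert _ _))
  have hyu : B (y1 + y2) u = 0 := by
    rw [b_add_left, S.perp hy1 hu, hu0 y2 (Submodule.subset_span (Set.mem_insert_of_mem _ rfl)),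
      zero_add]
  have hxu : B (x1 + x2) u = 1 := by rw [b_add_left, S.perp hx1 hu, hux, zero_add]
  have hxw : B (x1 + x2) w = 0 := by rw [b_add_left, hwx, S.symm.perp hx2 hw, zero_add]
  have hyw : B (y1 + y2) w = 0 := by rw [b_add_left, hwy, S.symm.perp hy2 hw, zero_add]
  obtain ⟨s, hs⟩ := exists_siegel hB hqx hxy
  have hsM : s ∈ M := h 1 s (by rwa [one_smul])
  have hsu : ap s u = u + (y1 + y2) := by
    rw [root_ap hs hqy, b_comm u, hxu, b_comm u, hyu, one_smul, zero_smul, sub_zero]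
  have hsw : ap s w = w := by
    rw [root_ap hs hqy, b_comm w, hxw, b_comm w, hyw, zero_smul, zero_smul, add_zero, sub_zero]
  have r1 := (hfix _ hu _ hw).conj hsM
  rw [hsu, hsw] at r1
  have r2 : Root M w (y1 + y2) := by
    have r := (r1.swap (by rw [← hsu, ap_q]; exact S.hU.1 u hu) (S.hW.1 w hw)).sub hB (z := u) hwu
      ((hfix _ hu _ hw).swap (S.hU.1 u hu) (S.hW.1 w hw))
    rwa [add_sub_cancel_left] at r
  have r3 : Root M w y2 := by
    have r := r2.sub hB (z := y1) (by rw [b_comm]; exact hwy)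
      ((hfix _ hy1 _ hw).swap (S.hU.1 y1 hy1) (S.hW.1 w hw))
    rwa [add_sub_cancel_left] at r
  exact ⟨w, hw, y2, hy2, hy20, fun e => hwS (Submodule.span_mono (by simp) e), r3⟩

/-- One root element inside `U` gives those of its second entry. -/
theorem root_spread (hB : Nondeg Q) (S : Split Q U W) (hk : 5 ≤ Module.finrank F U)
    (hfix : ∀ u ∈ U, ∀ w ∈ W, Root M u w)
    {a b : ι → F} (ha : a ∈ U) (hb : b ∈ U) (hb0 : b ≠ 0) (hab : a ∉ Submodule.span F {b})
    (h : Root M a b) {x : ι → F} (hx : x ∈ U) : Root M b x := by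
  have key : ∀ x ∈ U, x ∉ Submodule.span F ({a, b} : Set (ι → F)) → Root M b x := by
    intro x hx hxS
    have haS : a ∉ Submodule.span F ({x, b} : Set (ι → F)) := by
      intro e
      obtain ⟨α, β, e⟩ := Submodule.mem_span_pair.1 e
      by_cases hα : α = 0
      · exact hab (Submodule.mem_span_singleton.2 ⟨β, by rw [← e, hα, zero_smul, zero_add]⟩)
      · refine hxS ((Submodule.smul_mem_iff _ hα).1 ?_)
        rw [show α • x = a - β • b by rw [← e]; abel]
        exact Submodule.sub_mem _ (Submodule.subset_span (Set.mem_insert _ _))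
          (Submodule.smul_mem _ _ (Submodule.subset_span (Set.mem_insert_of_mem _ rfl)))
    obtain ⟨w, hw, hw0, haw⟩ := S.sep hB (P := Submodule.span F ({x, b} : Set (ι → F)))
      (Submodule.span_le.2 fun z hz => by rcases hz with rfl | rfl <;> assumption) ha haS
    have hxw : B x w = 0 := hw0 x (Submodule.subset_span (Set.mem_insert _ _))
    have hbw : B b w = 0 := hw0 b (Submodule.subset_span (Set.mem_insert_of_mem _ rfl))
    obtain ⟨s, hs⟩ := exists_siegel hB (S.hU.1 x hx) (v := (-1 : F) • w)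
      (by rw [b_smul_right, hxw, mul_zero])
    have hsM : s ∈ M := hfix _ hx _ hw (-1) s hs
    have hqw : Q ((-1 : F) • w) = 0 := S.hW.1 _ (W.smul_mem _ hw)
    have hsa : ap s a = a + x := by
      rw [root_ap hs hqw, S.perp ha hx, b_smul_right, haw]; module
    have hsb : ap s b = b := by
      rw [root_ap hs hqw, S.perp hb hx, b_smul_right, hbw]; module
    have r1 := h.conj hsM
    rw [hsa, hsb] at r1
    have r2 := (r1.swap (S.hU.1 _ (U.add_mem ha hx)) (S.hU.1 b hb)).sub hB (S.perp hb ha)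
      (h.swap (S.hU.1 a ha) (S.hU.1 b hb))
    rwa [add_sub_cancel_left] at r2
  by_cases hxS : x ∈ Submodule.span F ({a, b} : Set (ι → F))
  · obtain ⟨z, hz, hzS⟩ : ∃ z ∈ U, z ∉ Submodule.span F ({a, b} : Set (ι → F)) := by
      by_contra hc
      push Not at hc
      have := Submodule.finrank_mono (show U ≤ Submodule.span F ({a, b} : Set (ι → F)) from hc)
      have := finrank_pair_le (F := F) a b
      omega
    have r := (key (x - z) (U.sub_mem hx hz) fun e => hzS (by
      have := Submodule.sub_mem _ hxS e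
      rwa [sub_sub_cancel] at this)).add hB (S.perp hb hz) (key z hz hzS)
    rwa [sub_add_cancel] at r
  · exact key x hx hxS

/-- One root element inside `U` gives all of them. -/
theorem root_all (hB : Nondeg Q) (S : Split Q U W) (hk : 5 ≤ Module.finrank F U)
    (hfix : ∀ u ∈ U, ∀ w ∈ W, Root M u w)
    {a b : ι → F} (ha : a ∈ U) (hb : b ∈ U) (hb0 : b ≠ 0) (hab : a ∉ Submodule.span F {b})
    (h : Root M a b) {x y : ι → F} (hx : x ∈ U) (hy : y ∈ U) : Root M x y := by
  have hb' := fun z (hz : z ∈ U) => root_spread hB S hk hfix ha hb hb0 hab h (x := z) hz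
  by_cases hxb : x ∈ Submodule.span F {b}
  · obtain ⟨β, rfl⟩ := Submodule.mem_span_singleton.1 hxb
    intro c k hk'
    have := siegel_smul (exists_siegel hB (S.hU.1 b hb) (v := c • y)
      (by rw [b_smul_right, S.perp hb hy, mul_zero])).choose_spec β hk'
    rw [smul_smul] at this
    exact hb' y hy _ k this
  · refine root_spread hB S hk hfix hb hx (fun e => hxb (by rw [e]; exact Submodule.zero_mem _))
      (fun e => ?_) (hb' x hx) hy
    obtain ⟨c, hc⟩ := Submodule.mem_span_singleton.1 e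
    by_cases hc0 : c = 0
    · exact hb0 (by rw [← hc, hc0, zero_smul])
    · exact hxb (Submodule.mem_span_singleton.2 ⟨c⁻¹, by
        rw [← hc, smul_smul, inv_mul_cancel₀ hc0, one_smul]⟩)

omit [Finite F] in
/-- A map with dependent images on orthogonal vectors kills one member. -/
theorem eq_zero_of_dep (hB : Nondeg Q) (S : Split Q U W) (f : (ι → F) →ₗ[F] (ι → F))
    (hdep : ∀ u ∈ U, ∀ w ∈ W, B u w = 0 → f w = 0 ∨ f u ∈ Submodule.span F {f w})
    (h3 : 3 ≤ Module.finrank F (U.map f)) : ∀ w ∈ W, f w = 0 := by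
  obtain ⟨v, hv⟩ := exists_linearIndependent_of_le_finrank h3
  choose u hu hfu using fun i => (v i).2
  have hv' : LinearIndependent F fun i => f (u i) := by
    have := hv.map' _ (U.map f).ker_subtype
    simpa only [Function.comp_def, Submodule.subtype_apply, ← hfu] using this
  have hu' : LinearIndependent F u := LinearIndependent.of_comp f hv'
  have hpair : ∀ i j, i ≠ j → ∀ z ∈ W, B (u i) z = 0 → B (u j) z = 0 → f z = 0 := by
    intro i j hij z hz hi hj
    rcases hdep (u i) (hu i) z hz hi with e | e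
    · exact e
    rcases hdep (u j) (hu j) z hz hj with e' | e'
    · exact e'
    obtain ⟨α, hα⟩ := Submodule.mem_span_singleton.1 e
    obtain ⟨β, hβ⟩ := Submodule.mem_span_singleton.1 e'
    by_contra hz0
    have hα0 : α ≠ 0 := fun e => hv'.ne_zero i (show f (u i) = 0 by rw [← hα, e, zero_smul])
    exact hv'.notMem_span_image (s := {j}) (by simpa using hij) (by
      rw [Set.image_singleton, Submodule.mem_span_singleton]
      by_cases hβ0 : β = 0
      · exact absurd (show f (u j) = 0 by rw [← hβ, hβ0, zero_smul]) (hv'.ne_zero j)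
      · exact ⟨α * β⁻¹, by rw [← hβ, smul_smul, mul_assoc, inv_mul_cancel₀ hβ0, mul_one, hα]⟩)
  have hdual : ∀ i, ∃ w ∈ W, B (u i) w = 1 ∧ ∀ j, j ≠ i → B (u j) w = 0 := by
    intro i
    obtain ⟨w, hw, hw0, hw1⟩ := S.sep hB (P := Submodule.span F (u '' {j | j ≠ i}))
      (Submodule.span_le.2 fun z ⟨j, _, e⟩ => e ▸ hu j) (hu i)
      (hu'.notMem_span_image (by simp))
    exact ⟨w, hw, hw1, fun j hj => hw0 _ (Submodule.subset_span ⟨j, hj, rfl⟩)⟩
  choose d hd hd1 hd0 using hdual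
  intro w hw
  obtain ⟨z, hz⟩ : ∃ z, z = w - B (u 0) w • d 0 - B (u 1) w • d 1 - B (u 2) w • d 2 := ⟨_, rfl⟩
  have hzW : z ∈ W := hz ▸ W.sub_mem (W.sub_mem (W.sub_mem hw (W.smul_mem _ (hd 0)))
    (W.smul_mem _ (hd 1))) (W.smul_mem _ (hd 2))
  have e0 : f z = 0 := by
    refine hpair 0 1 (by decide) z hzW ?_ ?_
    · rw [hz, b_sub_right, b_sub_right, b_sub_right, b_smul_right, b_smul_right, b_smul_right, hd1,
        hd0 1 0 (by decide), hd0 2 0 (by decide)]
      ring
    · rw [hz, b_sub_right, b_sub_right, b_sub_right, b_smul_right, b_smul_right, b_smul_right, hd1,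
        hd0 0 1 (by decide), hd0 2 1 (by decide)]
      ring
  have ew : w = z + B (u 0) w • d 0 + B (u 1) w • d 1 + B (u 2) w • d 2 := by rw [hz]; abel
  rw [ew, map_add, map_add, map_add, map_smul, map_smul, map_smul, e0,
    hpair 1 2 (by decide) _ (hd 0) (hd0 0 1 (by decide)) (hd0 0 2 (by decide)),
    hpair 0 2 (by decide) _ (hd 1) (hd0 1 0 (by decide)) (hd0 1 2 (by decide)),
    hpair 0 1 (by decide) _ (hd 2) (hd0 2 0 (by decide)) (hd0 2 1 (by decide))]
  simp

omit [Finite F] in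
theorem dep_symm {x y : ι → F} (h : y = 0 ∨ x ∈ Submodule.span F {y}) :
    x = 0 ∨ y ∈ Submodule.span F {x} := by
  rcases h with rfl | h
  · exact Or.inr (Submodule.zero_mem _)
  obtain ⟨c, rfl⟩ := Submodule.mem_span_singleton.1 h
  by_cases hc : c = 0
  · exact Or.inl (by rw [hc, zero_smul])
  · exact Or.inr (Submodule.mem_span_singleton.2 ⟨c⁻¹, by
      rw [smul_smul, inv_mul_cancel₀ hc, one_smul]⟩)

omit [Finite F] in
/-- If the projection to `U` after `g` has dependent images, it kills `U` or `W`. -/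
theorem side_of_dep (hB : Nondeg Q) (S : Split Q U W) (hk : 5 ≤ Module.finrank F U) (g : Grp Q)
    (hdep : ∀ u ∈ U, ∀ w ∈ W, B u w = 0 → ∀ x1 ∈ U, ∀ x2 ∈ W, ∀ y1 ∈ U, ∀ y2 ∈ W,
      ap g u = x1 + x2 → ap g w = y1 + y2 → y1 = 0 ∨ x1 ∈ Submodule.span F {y1}) :
    (∀ u ∈ U, ap g u ∈ W) ∨ ∀ w ∈ W, ap g w ∈ W := by
  obtain ⟨f, hf⟩ : ∃ f : (ι → F) →ₗ[F] (ι → F), f = (U.projection W S.compl).comp
      (Matrix.toLin' ((g : GL ι F) : Matrix ι ι F)) := ⟨_, rfl⟩
  have hfa : ∀ x, f x = U.projection W S.compl (ap g x) := fun x => by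
    rw [hf, LinearMap.comp_apply, Matrix.toLin'_apply]; rfl
  have hd : ∀ u ∈ U, ∀ w ∈ W, B u w = 0 → f w = 0 ∨ f u ∈ Submodule.span F {f w} := by
    intro u hu w hw huw
    obtain ⟨x1, hx1, x2, hx2, hx⟩ := S.parts (ap g u)
    obtain ⟨y1, hy1, y2, hy2, hy⟩ := S.parts (ap g w)
    have := hdep u hu w hw huw x1 hx1 x2 hx2 y1 hy1 y2 hy2 hx hy
    rwa [hfa, hfa, hx, hy, map_add, map_add, Submodule.projection_apply_of_mem_left _ hx1,
      Submodule.projection_apply_of_mem_left _ hy1, Submodule.projection_apply_of_mem_right _ hx2,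
      Submodule.projection_apply_of_mem_right _ hy2, add_zero, add_zero]
  have hsum : Module.finrank F U ≤ Module.finrank F (U.map f) + Module.finrank F (W.map f) := by
    refine (Submodule.finrank_mono fun x hx => ?_).trans (Submodule.finrank_add_le_finrank_add_finrank _ _)
    obtain ⟨z1, hz1, z2, hz2, hz⟩ := S.parts (ap g⁻¹ x)
    refine Submodule.mem_sup.2 ⟨f z1, ⟨z1, hz1, rfl⟩, f z2, ⟨z2, hz2, rfl⟩, ?_⟩
    rw [← map_add, ← hz, hfa, ap_ap_inv, Submodule.projection_apply_of_mem_left _ hx]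
  by_cases h3 : 3 ≤ Module.finrank F (U.map f)
  · exact Or.inr fun w hw => (Submodule.projection_apply_eq_zero_iff _).1
      ((hfa w).symm.trans (eq_zero_of_dep hB S f hd h3 w hw))
  · refine Or.inl fun u hu => (Submodule.projection_apply_eq_zero_iff _).1
      ((hfa u).symm.trans (eq_zero_of_dep hB S.symm f (fun w hw u hu h => dep_symm
        (hd u hu w hw (by rw [b_comm]; exact h))) (by omega) u hu))

/-- The stabiliser of a pair of halves together with any outside element generates everything. -/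
theorem El_le_of_pair (hB : Nondeg Q) (S : Split Q U W) (hk : 5 ≤ Module.finrank F U)
    (hfix : ∀ u ∈ U, ∀ w ∈ W, Root M u w)
    {σ : Grp Q} (hσ : σ ∈ M) (hσU : ∀ x ∈ U, ap σ x ∈ W) (hσW : ∀ x ∈ W, ap σ x ∈ U)
    {g : Grp Q} (hg : g ∈ M) (hgf : ¬ ((∀ x ∈ U, ap g x ∈ U) ∧ ∀ x ∈ W, ap g x ∈ W))
    (hgs : ¬ ((∀ x ∈ U, ap g x ∈ W) ∧ ∀ x ∈ W, ap g x ∈ U)) : El Q ≤ M := by
  have hkW : 5 ≤ Module.finrank F W := by
    have := S.hU.2
    have := S.hW.2
    omega
  have hfix' : ∀ w ∈ W, ∀ u ∈ U, Root M w u :=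
    fun w hw u hu => (hfix u hu w hw).swap (S.hU.1 u hu) (S.hW.1 w hw)
  have himgW : ∀ x ∈ W, ap σ⁻¹ x ∈ U := by
    have e : img σ U = W := Submodule.eq_of_le_of_finrank_eq
      (fun x hx => by obtain ⟨y, hy, rfl⟩ := hx; rw [Matrix.toLin'_apply]; exact hσU y hy)
      (by rw [finrank_img]; have := S.hU.2; have := S.hW.2; omega)
    exact fun x hx => mem_img.1 (e.symm ▸ hx)
  obtain ⟨a, ha, b, hb, hb0, hab, hr⟩ :
      ∃ a ∈ U, ∃ b ∈ U, b ≠ 0 ∧ a ∉ Submodule.span F {b} ∧ Root M a b := by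
    by_contra hc
    push Not at hc
    have hcW : ∀ a ∈ W, ∀ b ∈ W, b ≠ 0 → a ∉ Submodule.span F {b} → ¬ Root M a b := by
      intro a ha b hb hb0 hab hr
      refine hc (ap σ a) (hσW a ha) (ap σ b) (hσW b hb)
        (fun e => hb0 (ap_inj σ (by rw [e, ap_zero]))) (fun e => hab ?_) (hr.conj hσ)
      obtain ⟨c, hc⟩ := Submodule.mem_span_singleton.1 e
      rw [← ap_smul] at hc
      exact Submodule.mem_span_singleton.2 ⟨c, ap_inj σ hc⟩
    have hroot : ∀ u ∈ U, ∀ w ∈ W, Root M (ap g u) (ap g w) := fun u hu w hw =>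
      (hfix _ hu _ hw).conj hg
    have hW' := side_of_dep hB S hk g fun u hu w hw huw x1 hx1 x2 hx2 y1 hy1 y2 hy2 hx hy => by
      by_contra hor
      push Not at hor
      have e1 : Q (x2 + x1) = 0 := by rw [add_comm, ← hx, ap_q]; exact S.hU.1 u hu
      have e2 : Q (y2 + y1) = 0 := by rw [add_comm, ← hy, ap_q]; exact S.hW.1 w hw
      have e3 : B (x2 + x1) (y2 + y1) = 0 := by
        rw [add_comm x2, add_comm y2, ← hx, ← hy, ap_b, huw]
      have e4 : Root M (x2 + x1) (y2 + y1) := by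
        rw [add_comm x2, add_comm y2, ← hx, ← hy]; exact hroot u hu w hw
      obtain ⟨a, ha, b, hb, hb0, hab, hr⟩ :=
        exists_root_inside hB S.symm hk hfix' hx2 hx1 hy2 hy1 e1 e2 e3 e4 hor.1 hor.2
      exact hc a ha b hb hb0 hab hr
    have hU' := side_of_dep hB S.symm hkW g fun w hw u hu huw y2 hy2 y1 hy1 x2 hx2 x1 hx1 hy hx => by
      rw [b_comm] at huw
      refine dep_symm ?_
      by_contra hor
      push Not at hor
      have e1 : Q (x1 + x2) = 0 := by rw [add_comm, ← hx, ap_q]; exact S.hU.1 u hu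
      have e2 : Q (y1 + y2) = 0 := by rw [add_comm, ← hy, ap_q]; exact S.hW.1 w hw
      have e3 : B (x1 + x2) (y1 + y2) = 0 := by
        rw [add_comm x1, add_comm y1, ← hx, ← hy, ap_b, huw]
      have e4 : Root M (x1 + x2) (y1 + y2) := by
        rw [add_comm x1, add_comm y1, ← hx, ← hy]; exact hroot u hu w hw
      obtain ⟨a, ha, b, hb, hb0, hab, hr⟩ :=
        exists_root_inside hB S hkW hfix hx1 hx2 hy1 hy2 e1 e2 e3 e4 hor.1 hor.2
      exact hcW a ha b hb hb0 hab hr
    have both : ∀ X : Submodule F (ι → F), IsHalf Q X → (∀ x ∈ U, ap g x ∈ X) →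
        ¬ ∀ x ∈ W, ap g x ∈ X := fun X hX h1 h2 => by
      have hall : (⊤ : Submodule F (ι → F)) ≤ X := fun x _ => by
        obtain ⟨z1, hz1, z2, hz2, hz⟩ := S.parts (ap g⁻¹ x)
        rw [← ap_ap_inv g x, hz, ap_add]
        exact X.add_mem (h1 z1 hz1) (h2 z2 hz2)
      have := Submodule.finrank_mono hall
      rw [finrank_top] at this
      have := hX.2
      have := S.hU.2
      omega
    rcases hW' with h1 | h1 <;> rcases hU' with h2 | h2
    · exact hgs ⟨h1, h2⟩
    · exact absurd h1 fun h1 => by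
        obtain ⟨u, hu, hu0⟩ := Submodule.exists_mem_ne_zero_of_ne_bot (p := U) fun e => by
          rw [e, finrank_bot] at hk; omega
        exact hu0 (ap_inj g (by
          rw [ap_zero]; exact (Submodule.disjoint_def.1 S.compl.disjoint) _ (h2 u hu) (h1 u hu)))
    · exact absurd h1 fun h1 => by
        obtain ⟨w, hw, hw0⟩ := Submodule.exists_mem_ne_zero_of_ne_bot (p := W) fun e => by
          rw [e, finrank_bot] at hkW; omega
        exact hw0 (ap_inj g (by
          rw [ap_zero]; exact (Submodule.disjoint_def.1 S.compl.disjoint) _ (h2 w hw) (h1 w hw)))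
    · exact hgf ⟨h2, h1⟩
  have hfull : ∀ s ∈ U, ∀ v k, IsSiegel s v k → k ∈ M := by
    intro s hs v k hk'
    obtain ⟨v1, hv1, v2, hv2, rfl⟩ := S.parts v
    refine siegel_add_mem hB hk' ?_ (fun k' h => root_all hB S hk hfix ha hb hb0 hab hr hs hv1 1 k'
      (by rwa [one_smul])) fun k' h => hfix _ hs _ hv2 1 k' (by rwa [one_smul])
    have := hk'.2.1
    rwa [b_add_right, S.perp hs hv1, zero_add] at this
  obtain ⟨s, hs, hs0⟩ := Submodule.exists_mem_ne_zero_of_ne_bot (p := U) fun e => by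
    rw [e, finrank_bot] at hk; omega
  obtain ⟨f, hf, -, hsf⟩ := S.sep hB (P := ⊥) bot_le hs (fun e => hs0 ((Submodule.mem_bot F).1 e))
  exact El_le_of_two hB (S.hU.1 s hs) (S.hW.1 f hf) (by rw [hsf]; exact one_ne_zero)
    (hfull s hs) fun v k hk' => siegel_conj_mem hk' hσ fun k' h =>
      hfull _ (himgW f hf) _ k' h

/-- The element interchanging two hyperbolic pairs. -/
theorem exists_pair_swap (hB : Nondeg Q) {e₁ e₂ f₁ f₂ : ι → F} (he₁ : Q e₁ = 0) (he₂ : Q e₂ = 0)
    (hf₁ : Q f₁ = 0) (hf₂ : Q f₂ = 0) (he : B e₁ e₂ = 0) (hf : B f₁ f₂ = 0) (h11 : B e₁ f₁ = 1)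
    (h22 : B e₂ f₂ = 1) (h12 : B e₁ f₂ = 0) (h21 : B e₂ f₁ = 0) :
    ∃ s ∈ El Q, ap s e₁ = f₂ ∧ ap s e₂ = -f₁ ∧ ap s f₁ = e₂ ∧ ap s f₂ = -e₁ ∧
      ∀ x, B x e₁ = 0 → B x e₂ = 0 → B x f₁ = 0 → B x f₂ = 0 → ap s x = x := by
  obtain ⟨a, ha⟩ := exists_siegel hB he₁ he
  obtain ⟨c, hc⟩ := exists_siegel hB hf₁ hf
  have A := root_ap ha he₂
  have C := root_ap hc hf₂
  have he' : B e₂ e₁ = 0 := by rw [b_comm]; exact he
  have hf' : B f₂ f₁ = 0 := by rw [b_comm]; exact hf
  have h11' : B f₁ e₁ = 1 := by rw [b_comm]; exact h11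
  have h22' : B f₂ e₂ = 1 := by rw [b_comm]; exact h22
  have h12' : B f₂ e₁ = 0 := by rw [b_comm]; exact h12
  have h21' : B f₁ e₂ = 0 := by rw [b_comm]; exact h21
  have a1 : ap a e₁ = e₁ := by rw [A, b_self_zero he₁, he]; module
  have a2 : ap a e₂ = e₂ := by rw [A, he', b_self_zero he₂]; module
  have a3 : ap a f₁ = f₁ + e₂ := by rw [A, h11', h21']; module
  have a4 : ap a f₂ = f₂ - e₁ := by rw [A, h12', h22']; module
  have c1 : ap c e₁ = e₁ + f₂ := by rw [C, h11, h12]; module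
  have c2 : ap c e₂ = e₂ - f₁ := by rw [C, h21, h22]; module
  have c3 : ap c f₁ = f₁ := by rw [C, b_self_zero hf₁, hf]; module
  have c4 : ap c f₂ = f₂ := by rw [C, hf', b_self_zero hf₂]; module
  refine ⟨a * c * a, mul_mem (mul_mem (siegel_mem_El ha) (siegel_mem_El hc)) (siegel_mem_El ha),
    ?_, ?_, ?_, ?_, fun x x1 x2 x3 x4 => ?_⟩
  · rw [ap_mul, ap_mul, a1, c1, ap_add, a1, a4]; abel
  · rw [ap_mul, ap_mul, a2, c2, ap_sub, a2, a3]; abel
  · rw [ap_mul, ap_mul, a3, ap_add, c3, c2, ap_add, ap_sub, a3, a2]; abel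
  · rw [ap_mul, ap_mul, a4, ap_sub, c4, c1, ap_sub, ap_add, a4, a1]; abel
  · rw [ap_mul, ap_mul, siegel_fix ha x1 x2, siegel_fix hc x3 x4, siegel_fix ha x1 x2]

/-- An element of `Ω` interchanging the two halves. -/
theorem exists_interchange (hB : Nondeg Q) (S : Split Q U W) (hev : Even (Module.finrank F U)) :
    ∃ σ ∈ El Q, (∀ x ∈ U, ap σ x ∈ W) ∧ ∀ x ∈ W, ap σ x ∈ U := by
  classical
  have hdd : Module.finrank F W = Module.finrank F U := by
    have := S.hU.2
    have := S.hW.2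
    omega
  obtain ⟨e, -⟩ : ∃ e : Module.Basis (Fin (Module.finrank F U)) F U, True :=
    ⟨Module.finBasis F U, trivial⟩
  let u : Fin (Module.finrank F U) → ι → F := fun i => (e i : ι → F)
  have hu : LinearIndependent F u := e.linearIndependent.map' U.subtype U.ker_subtype
  have hdual : ∀ i, ∃ w ∈ W, B (u i) w = 1 ∧ ∀ j, j ≠ i → B (u j) w = 0 := by
    intro i
    obtain ⟨w, hw, hw0, hw1⟩ := S.sep hB (P := Submodule.span F (u '' {j | j ≠ i}))
      (Submodule.span_le.2 fun z ⟨j, _, h⟩ => h ▸ (e j).2) (e i).2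
      (hu.notMem_span_image (by simp))
    exact ⟨w, hw, hw1, fun j hj => hw0 _ (Submodule.subset_span ⟨j, hj, rfl⟩)⟩
  choose d hd hd1 hd0 using hdual
  have huU : ∀ i, u i ∈ U := fun i => (e i).2
  have step : ∀ j, 2 * j ≤ Module.finrank F U → ∃ σ ∈ El Q,
      ∀ i : Fin (Module.finrank F U), (i.1 < 2 * j → ap σ (u i) ∈ W ∧ ap σ (d i) ∈ U) ∧
        (2 * j ≤ i.1 → ap σ (u i) = u i ∧ ap σ (d i) = d i) := by
    intro j
    induction j with
    | zero => exact fun _ => ⟨1, one_mem _, fun i => ⟨fun h => by omega, fun _ =>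
        ⟨ap_one _, ap_one _⟩⟩⟩
    | succ j ih =>
      intro hj
      obtain ⟨σ, hσ, hσi⟩ := ih (by omega)
      obtain ⟨p, hp⟩ : ∃ p : Fin (Module.finrank F U), p.1 = 2 * j := ⟨⟨2 * j, by omega⟩, rfl⟩
      obtain ⟨r, hr⟩ : ∃ r : Fin (Module.finrank F U), r.1 = 2 * j + 1 :=
        ⟨⟨2 * j + 1, by omega⟩, rfl⟩
      have hpr : p ≠ r := fun e => by rw [e, hr] at hp; omega
      obtain ⟨s, hs, s1, s2, s3, s4, s5⟩ := exists_pair_swap hB (S.hU.1 _ (huU p))
        (S.hU.1 _ (huU r)) (S.hW.1 _ (hd p)) (S.hW.1 _ (hd r)) (S.perp (huU p) (huU r))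
        (S.symm.perp (hd p) (hd r)) (hd1 p) (hd1 r) (hd0 r p hpr) (hd0 p r hpr.symm)
      refine ⟨σ * s, mul_mem hσ hs, fun i => ?_⟩
      have hfixes : i ≠ p → i ≠ r → ap s (u i) = u i ∧ ap s (d i) = d i := fun h1 h2 =>
        ⟨s5 _ (S.perp (huU i) (huU p)) (S.perp (huU i) (huU r)) (hd0 p i h1) (hd0 r i h2),
          s5 _ (by rw [b_comm]; exact hd0 i p h1.symm) (by rw [b_comm]; exact hd0 i r h2.symm)
            (S.symm.perp (hd i) (hd p)) (S.symm.perp (hd i) (hd r))⟩
      obtain ⟨-, hfp⟩ := hσi p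
      obtain ⟨-, hfr⟩ := hσi r
      obtain ⟨fp, fp'⟩ := hfp (by omega)
      obtain ⟨fr, fr'⟩ := hfr (by omega)
      have hneg : ∀ x, ap σ (-x) = -ap σ x := fun x => by
        rw [← neg_one_smul F x, ap_smul, neg_one_smul]
      refine ⟨fun hi => ?_, fun hi => ?_⟩
      · rw [ap_mul, ap_mul]
        by_cases h1 : i = p
        · subst h1
          rw [s1, s3, fr', fr]
          exact ⟨hd r, huU r⟩
        by_cases h2 : i = r
        · subst h2
          rw [s2, s4, hneg, hneg, fp', fp]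
          exact ⟨W.neg_mem (hd p), U.neg_mem (huU p)⟩
        · rw [(hfixes h1 h2).1, (hfixes h1 h2).2]
          refine (hσi i).1 ?_
          have : i.1 ≠ p.1 := fun h => h1 (Fin.ext h)
          have : i.1 ≠ r.1 := fun h => h2 (Fin.ext h)
          omega
      · rw [ap_mul, ap_mul, (hfixes (fun h => by rw [h, hp] at hi; omega)
          (fun h => by rw [h, hr] at hi; omega)).1,
          (hfixes (fun h => by rw [h, hp] at hi; omega) (fun h => by rw [h, hr] at hi; omega)).2]
        exact (hσi i).2 (by omega)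
  obtain ⟨j, hj⟩ := hev
  obtain ⟨σ, hσ, hσi⟩ := step j (by omega)
  have hall := fun i : Fin (Module.finrank F U) => (hσi i).1 (by have := i.2; omega)
  refine ⟨σ, hσ, fun x hx => ?_, fun x hx => ?_⟩
  · have hle : U ≤ W.comap (Matrix.toLin' ((σ : GL ι F) : Matrix ι ι F)) := by
      intro x hx
      have : (⟨x, hx⟩ : U) ∈ (W.comap (Matrix.toLin' ((σ : GL ι F) : Matrix ι ι F))).comap U.subtype :=
        (show (⊤ : Submodule F U) ≤ _ by
          rw [← e.span_eq]
          exact Submodule.span_le.2 fun z ⟨i, hz⟩ => hz ▸ by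
            simp only [SetLike.mem_coe, Submodule.mem_comap, Matrix.toLin'_apply]
            exact (hall i).1) Submodule.mem_top
      exact this
    have := hle hx
    rw [Submodule.mem_comap, Matrix.toLin'_apply] at this
    exact this
  · have hx' : x = ∑ i, B (u i) x • d i := by
      obtain ⟨z, hz⟩ : ∃ z, z = x - ∑ i, B (u i) x • d i := ⟨_, rfl⟩
      refine sub_eq_zero.1 (hz ▸ hB z fun y => ?_)
      have hzW : z ∈ W := hz ▸ W.sub_mem hx (W.sum_mem fun i _ => W.smul_mem _ (hd i))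
      obtain ⟨y1, hy1, y2, hy2, rfl⟩ := S.parts y
      rw [b_add_right, S.symm.perp hzW hy2, add_zero]
      have : (⟨y1, hy1⟩ : U) ∈ LinearMap.ker ((QuadraticMap.polarBilin Q z).comp U.subtype) :=
        (show (⊤ : Submodule F U) ≤ _ by
          rw [← e.span_eq]
          refine Submodule.span_le.2 fun w ⟨i, hw⟩ => hw ▸ ?_
          simp only [SetLike.mem_coe, LinearMap.mem_ker, LinearMap.comp_apply,
            Submodule.subtype_apply, QuadraticMap.polarBilin_apply_apply]
          rw [b_comm]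
          show B (u i) z = 0
          rw [hz, b_sub_right, ← QuadraticMap.polarBilin_apply_apply,
            ← QuadraticMap.polarBilin_apply_apply, map_sum, Finset.sum_eq_single i]
          · rw [map_smul, QuadraticMap.polarBilin_apply_apply, QuadraticMap.polarBilin_apply_apply,
              hd1, smul_eq_mul, mul_one, sub_self]
          · intro k _ hk
            rw [map_smul, QuadraticMap.polarBilin_apply_apply, hd0 k i hk.symm, smul_zero]
          · exact fun h => absurd (Finset.mem_univ i) h) Submodule.mem_top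
      exact this
    rw [hx', show ap σ (∑ i, B (u i) x • d i) = ∑ i, B (u i) x • ap σ (d i) by
      simp only [ap, Matrix.mulVec_sum, Matrix.mulVec_smul]]
    exact U.sum_mem fun i _ => U.smul_mem _ (hall i).2

/-- The stabiliser of the pair is maximal. -/
theorem stab_pair_maximal (hB : Nondeg Q) (S : Split Q U W) (hk : 5 ≤ Module.finrank F U)
    (hev : Even (Module.finrank F U)) {H : Subgroup (Grp Q)}
    (hH : ∀ g : Grp Q, g ∈ H ↔ ((∀ x ∈ U, ap g x ∈ U) ∧ ∀ x ∈ W, ap g x ∈ W) ∨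
      ((∀ x ∈ U, ap g x ∈ W) ∧ ∀ x ∈ W, ap g x ∈ U)) :
    H ⊓ El Q < El Q ∧ ∀ M, H ⊓ El Q ≤ M → M ≤ El Q → M = H ⊓ El Q ∨ M = El Q := by
  constructor
  · refine lt_of_le_of_ne inf_le_right fun h => ?_
    obtain ⟨a, ha, ha0⟩ := Submodule.exists_mem_ne_zero_of_ne_bot (p := U) fun e => by
      rw [e, finrank_bot] at hk; omega
    obtain ⟨b, hb, hab⟩ : ∃ b ∈ U, b ∉ Submodule.span F {a} := by
      by_contra hc
      push Not at hc
      have := Submodule.finrank_mono (show U ≤ Submodule.span F {a} from hc)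
      rw [finrank_span_singleton ha0] at this
      omega
    obtain ⟨f, hf, hf0, hfb⟩ := S.sep hB ((Submodule.span_singleton_le_iff_mem _ _).2 ha) hb hab
    obtain ⟨k, hk'⟩ := exists_siegel hB (S.hU.1 a ha) (S.perp ha hb)
    have hkf : ap k f = f - a := by
      rw [root_ap hk' (S.hU.1 b hb), b_comm f a, hf0 a (Submodule.mem_span_singleton_self a),
        b_comm f b, hfb, zero_smul, one_smul, add_zero]
    have hdis := Submodule.disjoint_def.1 S.compl.disjoint
    have hkH : k ∈ H ⊓ El Q := h.symm ▸ siegel_mem_El hk'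
    rcases (hH k).1 hkH.1 with ⟨-, h2⟩ | ⟨-, h2⟩
    · have := h2 f hf
      rw [hkf, Submodule.sub_mem_iff_right _ hf] at this
      exact ha0 (hdis a ha this)
    · have := h2 f hf
      rw [hkf, Submodule.sub_mem_iff_left _ ha] at this
      rw [hdis f this hf, b_zero_right] at hfb
      exact zero_ne_one hfb
  intro M hle hM
  by_cases hMH : M ≤ H
  · exact Or.inl (le_antisymm (le_inf hMH hM) hle)
  refine Or.inr (le_antisymm hM ?_)
  obtain ⟨g, hg, hgH⟩ := SetLike.not_le_iff_exists.1 hMH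
  obtain ⟨σ, hσ, hσU, hσW⟩ := exists_interchange hB S hev
  exact El_le_of_pair hB S hk (fun u hu w hw => root_of_split S
    (fun k hk h1 h2 => hle ⟨(hH k).2 (Or.inl ⟨h1, h2⟩), hk⟩) hu hw)
    (hle ⟨(hH σ).2 (Or.inr ⟨hσU, hσW⟩), hσ⟩) hσU hσW hg
    (fun h => hgH ((hH g).2 (Or.inl h))) fun h => hgH ((hH g).2 (Or.inr h))

end CfsgLib.Orth
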