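/-
Stabilisers of anisotropic lines and hyperbolic planes.
-/
import Cfsg.Agent.Lib.Classical.OrthNondegMax

set_option autoImplicit false

namespace CfsgLib.Orth

open Matrix

variable {F : Type*} [Field F] [Finite F] {ι : Type} [Fintype ι] [DecidableEq ι]
variable {Q : QuadraticForm F (ι → F)}

local notation "B" => QuadraticMap.polar (DFunLike.coe Q)

omit [Finite F] [Fintype ι] [DecidableEq ι] in
theorem nondegOn_top (hB : Nondeg Q) : NondegOn Q ⊤ :=
  fun x _ h => hB x fun y => h y Submodule.mem_top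

omit [Finite F] in
theorem siegel_mem_stab_line {x a b : ι → F} {g : Grp Q} (hg : IsSiegel a b g)
    (ha : B x a = 0) (hb : B x b = 0) : g ∈ stab Q (Submodule.span F {x}) :=
  mem_stab_of_le fun z hz => by
    obtain ⟨c, rfl⟩ := Submodule.mem_span_singleton.1 hz
    rw [ap_smul, siegel_fix hg ha hb]
    exact Submodule.smul_mem _ _ (Submodule.mem_span_singleton_self x)

omit [Finite F] [Fintype ι] [DecidableEq ι] in
theorem exists_pair_perp [Finite F] [Finite ι] (hB : Nondeg Q) (hn : 7 ≤ Module.finrank F (ι → F))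
    (v v' : ι → F) : ∃ s f, Q s = 0 ∧ Q f = 0 ∧ B s f = 1 ∧ B v s = 0 ∧ B v' s = 0 ∧ B v f = 0 ∧
      B v' f = 0 ∧ s ∉ Submodule.span F ({v, v'} : Set (ι → F)) := by
  classical
  have h2 := finrank_span_finset_le_card (R := F) ({v, v'} : Finset (ι → F))
  rw [Set.finrank, Finset.coe_pair] at h2
  have h3 : ({v, v'} : Finset (ι → F)).card ≤ 2 := Finset.card_le_two
  obtain ⟨s, f, hs, hf, hsP, hsq, hfq, hsf⟩ := exists_pair_in hB (nondegOn_top hB)
    (P := Submodule.span F ({v, v'} : Set (ι → F))) le_top (by rw [finrank_top]; omega)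
  exact ⟨s, f, hsq, hfq, hsf, mem_orth.1 hs.2 v (Submodule.subset_span (Set.mem_insert _ _)),
    mem_orth.1 hs.2 v' (Submodule.subset_span (Set.mem_insert_of_mem _ rfl)),
    mem_orth.1 hf.2 v (Submodule.subset_span (Set.mem_insert _ _)),
    mem_orth.1 hf.2 v' (Submodule.subset_span (Set.mem_insert_of_mem _ rfl)), hsP⟩

theorem exists_move_off_line (hB : Nondeg Q) (hn : 7 ≤ Module.finrank F (ι → F)) {v : ι → F}
    (hv : Q v ≠ 0) : ∃ e ∈ El Q, e ∉ stab Q (Submodule.span F {v}) := by
  obtain ⟨s, f, hs, -, hsf, hvs, -, -, -, -⟩ := exists_pair_perp hB hn v v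
  have hq : Q (v + s) = Q v := by rw [q_add, hs, hvs]; ring
  obtain ⟨e, he, hev⟩ := exists_move_vec hB (by omega) (v := v) (w := v + s)
    (fun h => hv (by rw [h, QuadraticMap.map_zero]))
    (fun h => hv (by rw [← hq, h, QuadraticMap.map_zero])) hq.symm
  refine ⟨e, he, fun h => ?_⟩
  have h1 := (mem_stab.1 h v).1 (Submodule.mem_span_singleton_self v)
  rw [hev, Submodule.add_mem_iff_right _ (Submodule.mem_span_singleton_self v)] at h1
  obtain ⟨c, rfl⟩ := Submodule.mem_span_singleton.1 h1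
  rw [q_smul] at hs
  rcases mul_eq_zero.1 hs with h2 | h2
  · rw [mul_self_eq_zero.1 h2, zero_smul, b_zero_left] at hsf
    exact zero_ne_one hsf
  · exact hv h2

/-- The stabiliser of an anisotropic line is maximal in `Ω` in characteristic two. -/
theorem stab_aniso_line_maximal (hB : Nondeg Q) (hn : 7 ≤ Module.finrank F (ι → F)) {v : ι → F}
    (hv : Q v ≠ 0) :
    stab Q (Submodule.span F {v}) ⊓ El Q < El Q ∧
      ∀ M, stab Q (Submodule.span F {v}) ⊓ El Q ≤ M → M ≤ El Q →
        M = stab Q (Submodule.span F {v}) ⊓ El Q ∨ M = El Q := by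
  constructor
  · refine lt_of_le_of_ne inf_le_right fun h => ?_
    obtain ⟨e, he, hne⟩ := exists_move_off_line hB hn hv
    exact hne (h.symm ▸ he : e ∈ stab Q (Submodule.span F {v}) ⊓ El Q).1
  intro M hle hM
  by_cases hMs : M ≤ stab Q (Submodule.span F {v})
  · exact Or.inl (le_antisymm (le_inf hMs hM) hle)
  refine Or.inr (le_antisymm hM ?_)
  obtain ⟨g, hg, hgs⟩ := SetLike.not_le_iff_exists.1 hMs
  obtain ⟨v', hv'⟩ : ∃ v', v' = ap g v := ⟨_, rfl⟩
  have hv'n : v' ∉ Submodule.span F {v} := fun h => hgs (mem_stab_of_le fun z hz => by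
    obtain ⟨c, rfl⟩ := Submodule.mem_span_singleton.1 hz
    rw [ap_smul, ← hv']
    exact Submodule.smul_mem _ _ h)
  obtain ⟨s, f, hs, hf, hsf, hvs, hv's, hvf, hv'f, hsP⟩ := exists_pair_perp hB hn v v'
  have hfP : f ∉ Submodule.span F ({v, v'} : Set (ι → F)) := fun h => by
    obtain ⟨α, β, rfl⟩ := Submodule.mem_span_pair.1 h
    rw [b_add_right, b_smul_right, b_smul_right, b_comm s v, hvs, b_comm s v', hv's] at hsf
    simp at hsf
  have hin : ∀ a b k, B v a = 0 → B v b = 0 → IsSiegel a b k → k ∈ M := fun a b k ha hb hk =>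
    hle ⟨siegel_mem_stab_line hk ha hb, siegel_mem_El hk⟩
  have hin' : ∀ a b k, B v' a = 0 → B v' b = 0 → IsSiegel a b k → k ∈ M := fun a b k ha hb hk =>
    siegel_conj_mem hk hg fun k' hk' => hin _ _ k'
      (by rw [← ap_b g, ap_ap_inv, ← hv']; exact ha) (by rw [← ap_b g, ap_ap_inv, ← hv']; exact hb) hk'
  have hroot : ∀ a, Q a = 0 → B v a = 0 → B v' a = 0 →
      a ∉ Submodule.span F ({v, v'} : Set (ι → F)) → ∀ y k, IsSiegel a y k → k ∈ M := by
    intro a ha hva hv'a haP y k hk
    have hvT : v ∉ Submodule.span F ({v', a} : Set (ι → F)) := fun h => by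
      obtain ⟨α, β, e⟩ := Submodule.mem_span_pair.1 h
      by_cases hβ : β = 0
      · rw [hβ, zero_smul, add_zero] at e
        by_cases hα : α = 0
        · rw [hα, zero_smul] at e; exact hv (by rw [← e, QuadraticMap.map_zero])
        · exact hv'n (Submodule.mem_span_singleton.2 ⟨α⁻¹, by
            rw [← e, smul_smul, inv_mul_cancel₀ hα, one_smul]⟩)
      · refine haP ((Submodule.smul_mem_iff _ hβ).1 ?_)
        rw [show β • a = v - α • v' by rw [← e]; abel]
        exact Submodule.sub_mem _ (Submodule.subset_span (Set.mem_insert _ _))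
          (Submodule.smul_mem _ _ (Submodule.subset_span (Set.mem_insert_of_mem _ rfl)))
    obtain ⟨w, hw, hvw⟩ := exists_orth_one hB hvT
    have haw : B a w = 0 := mem_orth.1 hw a (Submodule.subset_span (Set.mem_insert_of_mem _ rfl))
    have hv'w : B v' w = 0 := mem_orth.1 hw v' (Submodule.subset_span (Set.mem_insert _ _))
    obtain ⟨c, hc⟩ : ∃ c, c = B v y := ⟨_, rfl⟩
    have e : y = (y - c • w) + c • w := (sub_add_cancel _ _).symm
    rw [e] at hk
    exact siegel_add_mem hB hk (by rw [b_smul_right, haw, mul_zero])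
      (fun k' hk' => hin a _ k' hva (by rw [b_sub_right, b_smul_right, hvw, hc, mul_one, sub_self]) hk')
      (fun k' hk' => hin' a _ k' hv'a (by rw [b_smul_right, hv'w, mul_zero]) hk')
  exact El_le_of_two hB hs hf (by rw [hsf]; exact one_ne_zero) (hroot s hs hvs hv's hsP)
    (hroot f hf hvf hv'f hfP)

/-- For at most three field elements a hyperbolic plane stabiliser is not maximal. -/
theorem exists_above_plane (hB : Nondeg Q) (hn : 7 ≤ Module.finrank F (ι → F))
    (hq : Nat.card F ≤ 3) {W : Submodule F (ι → F)} (hW : NondegOn Q W)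
    (h2 : Module.finrank F W = 2) {s₀ : ι → F} (hs₀ : s₀ ∈ W) (hs₀0 : s₀ ≠ 0) (hs₀q : Q s₀ = 0) :
    ∃ a, stab Q W ⊓ El Q < stab Q (Submodule.span F {a}) ⊓ El Q ∧
      stab Q (Submodule.span F {a}) ⊓ El Q < El Q := by
  classical
  cases nonempty_fintype F
  obtain ⟨f, hf, hfq, hsf⟩ := exists_partner_in hB hW (P := ⊥) bot_le
    ⟨hs₀, fun p hp => by rw [(Submodule.mem_bot F).1 hp]; exact b_zero_left s₀⟩
    (fun h => hs₀0 ((Submodule.mem_bot F).1 h)) hs₀q
  obtain ⟨a, ha⟩ : ∃ a, a = s₀ + f := ⟨_, rfl⟩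
  have haW : a ∈ W := ha ▸ W.add_mem hs₀ hf.1
  have hqa : Q a = 1 := by rw [ha, q_add, hs₀q, hfq, hsf]; ring
  have hcoord : ∀ x ∈ W, x = B x f • s₀ + B x s₀ • f := by
    intro x hx
    obtain ⟨d, hd⟩ : ∃ d, d = x - B x f • s₀ - B x s₀ • f := ⟨_, rfl⟩
    have e1 : B d s₀ = 0 := by
      rw [hd, b_sub_left, b_sub_left, b_smul_left, b_smul_left, b_self_zero hs₀q, b_comm f s₀, hsf]
      ring
    have e2 : B d f = 0 := by
      rw [hd, b_sub_left, b_sub_left, b_smul_left, b_smul_left, b_self_zero hfq, hsf]; ring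
    have hdW : d ∈ W := hd ▸ W.sub_mem (W.sub_mem hx (W.smul_mem _ hs₀)) (W.smul_mem _ hf.1)
    by_contra hne
    have hd0 : d ≠ 0 := fun e => hne (by rw [hd, sub_sub, sub_eq_zero] at e; exact e)
    have hli : LinearIndependent F ![(⟨s₀, hs₀⟩ : W), ⟨f, hf.1⟩, ⟨d, hdW⟩] := by
      rw [Fintype.linearIndependent_iff]
      intro g hg
      rw [Fin.sum_univ_three] at hg
      have hg' : g 0 • s₀ + g 1 • f + g 2 • d = 0 := congrArg Subtype.val hg
      have k1 := congrArg (B s₀) hg'
      have k2 := congrArg (B f) hg'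
      rw [b_add_right, b_add_right, b_smul_right, b_smul_right, b_smul_right, b_zero_right] at k1 k2
      rw [b_self_zero hs₀q, hsf, b_comm s₀ d, e1] at k1
      rw [b_self_zero hfq, b_comm f s₀, hsf, b_comm f d, e2] at k2
      have g1 : g 1 = 0 := by linear_combination k1
      have g0 : g 0 = 0 := by linear_combination k2
      rw [g0, g1, zero_smul, zero_smul, zero_add, zero_add] at hg'
      have g2 : g 2 = 0 := (smul_eq_zero.1 hg').resolve_right hd0
      intro i
      fin_cases i
      · exact g0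
      · exact g1
      · exact g2
    have := hli.fintype_card_le_finrank
    rw [Fintype.card_fin, h2] at this
    omega
  refine ⟨a, lt_of_le_of_ne (fun g hg => ⟨mem_stab_of_le fun z hz => ?_, hg.2⟩) fun h => ?_, ?_⟩
  · obtain ⟨c, rfl⟩ := Submodule.mem_span_singleton.1 hz
    rw [ap_smul]
    refine Submodule.smul_mem _ _ ?_
    have hmem := (mem_stab.1 hg.1 a).1 haW
    have he := hcoord _ hmem
    have hq1 := ap_q g a
    rw [hqa, he, q_add, q_smul, q_smul, hs₀q, hfq, b_smul_left, b_smul_right, hsf] at hq1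
    have hα : B (ap g a) f ≠ 0 := fun e => by rw [e] at hq1; simp at hq1
    have hβ : B (ap g a) s₀ = B (ap g a) f := by
      have hsq : B (ap g a) f * B (ap g a) f = 1 := by
        have hsmall : ∀ c : F, c ≠ 0 → c * c = 1 := fun c hc => by
          have h1 := FiniteField.pow_card_sub_one_eq_one c hc
          rw [Nat.card_eq_fintype_card] at hq
          have := Fintype.one_lt_card (α := F)
          obtain e | e : Fintype.card F = 2 ∨ Fintype.card F = 3 := by omega
          · rw [e, pow_one] at h1; rw [h1, one_mul]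
          · rw [e, sq] at h1; exact h1
        exact hsmall _ hα
      exact mul_left_cancel₀ hα (by rw [hsq]; linear_combination hq1)
    rw [he, hβ, ← smul_add, ← ha]
    exact Submodule.smul_mem _ _ (Submodule.mem_span_singleton_self a)
  · obtain ⟨u, f', huq, -, huf', hsu, hfu, -, -, huP⟩ := exists_pair_perp hB hn s₀ f
    have hau : B a u = 0 := by rw [ha, b_add_left, hsu, hfu, add_zero]
    have hav : B a (s₀ - f) = 0 := by
      rw [ha, b_add_left, b_sub_right, b_sub_right, b_self_zero hs₀q, b_self_zero hfq, hsf,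
        b_comm f s₀, hsf]
      ring
    obtain ⟨e, he⟩ := exists_siegel hB huq (v := s₀ - f) (by
      rw [b_sub_right, b_comm u s₀, hsu, b_comm u f, hfu, sub_zero])
    have hmem : e ∈ stab Q W ⊓ El Q := h ▸ ⟨siegel_mem_stab_line he hau hav, siegel_mem_El he⟩
    have h1 := (mem_stab.1 hmem.1 s₀).1 hs₀
    rw [he.2.2, hsu, b_sub_right, b_self_zero hs₀q, hsf, mul_zero, zero_smul, zero_smul, zero_sub,
      add_zero, sub_zero, neg_one_smul, sub_neg_eq_add, Submodule.add_mem_iff_right _ hs₀] at h1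
    have hu0 : u ≠ 0 := fun e => huP (by rw [e]; exact Submodule.zero_mem _)
    exact hu0 (hW u h1 fun y hy => by
      rw [hcoord y hy, b_add_right, b_smul_right, b_smul_right, b_comm u s₀, hsu, b_comm u f, hfu]
      ring)
  · refine lt_of_le_of_ne inf_le_right fun h => ?_
    obtain ⟨e, he, hne⟩ := exists_move_off_line hB hn (v := a) (by rw [hqa]; exact one_ne_zero)
    exact hne (h.symm ▸ he : e ∈ stab Q (Submodule.span F {a}) ⊓ El Q).1

end CfsgLib.Orth
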