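import Mathlib
import Cfsg.Agent.Lib.Classical.SemisimpleCount

/-!
Classes of elements of prime order `r`, different from the characteristic, in the general linear group.
-/

set_option autoImplicit false
set_option linter.style.haveILetI false

namespace CfsgLib.Classical.PrimeOrderCount

open Polynomial UniqueFactorizationMonoid CfsgLib.Classical.SemisimpleClasses
  CfsgLib.Classical.SemisimpleCount
open scoped MatrixGroups

variable {F : Type*} [Field F] [Fintype F] {p : ℕ} [hp : Fact p.Prime] [CharP F p]

theorem normalizedFactor_monic [DecidableEq F] {f P : F[X]} (hf : f ≠ 0) (hP : P ∈ normalizedFactors f) :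
    P.Monic :=
  ((mem_normalizedFactors_iff' hf).mp hP).2.1 ▸ monic_normalize (irreducible_of_normalized_factor P hP).ne_zero

/-- Polynomials of degree `n` made of `X - 1` and factors from `D` of degree `i`, as multisets. -/
theorem card_products [DecidableEq F] (D : Finset F[X]) (i n : ℕ) (hi : 0 < i)
    (hD : ∀ P ∈ D, P.Monic ∧ Irreducible P ∧ P.natDegree = i) (h1 : X - 1 ∉ D) :
    Nat.card {f : F[X] // f.Monic ∧ f.natDegree = n ∧ ∀ P ∈ normalizedFactors f, P = X - 1 ∨ P ∈ D} =
      (n / i + D.card).choose D.card := by
  classical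
  set N := n / i
  have hX1 : (X - 1 : F[X]).Monic := by simpa using monic_X_sub_C (1 : F)
  have hX1i : Irreducible (X - 1 : F[X]) := by simpa using irreducible_X_sub_C (1 : F)
  let ms : Multiset (Option D) → Multiset F[X] := fun s =>
    (s.filterMap id).map (fun P : D => P.1) + Multiset.replicate (n - i * Multiset.card (s.filterMap id)) (X - 1)
  have hmsfac : ∀ s : Multiset (Option D), ∀ P ∈ ms s, P.Monic ∧ Irreducible P ∧ (P = X - 1 ∨ P ∈ D) := by
    intro s P hP
    rcases Multiset.mem_add.mp hP with h | h
    · obtain ⟨Q, -, rfl⟩ := Multiset.mem_map.mp h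
      exact ⟨(hD _ Q.2).1, (hD _ Q.2).2.1, Or.inr Q.2⟩
    · rw [Multiset.eq_of_mem_replicate h]
      exact ⟨hX1, hX1i, Or.inl rfl⟩
  have hnorm : ∀ s, normalizedFactors (ms s).prod = ms s := by
    intro s
    rw [normalizedFactors_prod_eq _ fun P hP => (hmsfac s P hP).2.1]
    exact (Multiset.map_congr rfl fun P hP => Monic.normalize_eq_self (hmsfac s P hP).1).trans
      (Multiset.map_id' _)
  have hcardle : ∀ s : Sym (Option D) N, i * Multiset.card ((s : Multiset (Option D)).filterMap id) ≤ n := by
    intro s
    have h : Multiset.card ((s : Multiset (Option D)).filterMap id) ≤ N := by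
      have key : ∀ m : Multiset (Option D), Multiset.card (m.filterMap id) ≤ Multiset.card m := by
        intro m
        induction m using Multiset.induction with
        | empty => simp
        | cons a m ih =>
          cases a <;> simp <;> omega
      exact (key _).trans (le_of_eq s.2)
    exact (Nat.mul_le_mul_left i h).trans (Nat.mul_div_le n i)
  have hdeg : ∀ s : Sym (Option D) N, (ms s).prod.natDegree = n := by
    intro s
    rw [natDegree_multiset_prod_of_monic _ fun P hP => (hmsfac _ P hP).1]
    simp only [ms, Multiset.map_add, Multiset.sum_add, Multiset.map_map, Multiset.map_replicate,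
      Multiset.sum_replicate]
    rw [Multiset.map_congr rfl (fun (Q : D) _ => show (natDegree ∘ fun P : D => P.1) Q = i from (hD _ Q.2).2.2)]
    simp only [Multiset.map_const', Multiset.sum_replicate, smul_eq_mul]
    rw [show (X - 1 : F[X]).natDegree = 1 by simpa using natDegree_X_sub_C (1 : F), mul_one, mul_comm]
    have := hcardle s
    omega
  let Ψ : Sym (Option D) N → {f : F[X] // f.Monic ∧ f.natDegree = n ∧
      ∀ P ∈ normalizedFactors f, P = X - 1 ∨ P ∈ D} := fun s =>
    ⟨(ms s).prod, monic_multiset_prod_of_monic _ id (fun P hP => (hmsfac _ P hP).1) |> fun h => by simpa using h,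
      hdeg s, fun P hP => (hmsfac _ P (hnorm s ▸ hP)).2.2⟩
  have hΨ : Function.Bijective Ψ := by
    constructor
    · intro s s' e
      have e1 : ms s = ms s' := by rw [← hnorm s, ← hnorm s']; exact congrArg (fun f => normalizedFactors f.1) e
      have hcount : ∀ (s : Multiset (Option D)) (Q : D), (ms s).count Q.1 = s.count (some Q) := by
        intro s Q
        simp only [ms, Multiset.count_add, Multiset.count_replicate]
        rw [if_neg (fun h : (X - 1 : F[X]) = Q.1 => h1 (h.symm ▸ Q.2)), add_zero,
          Multiset.count_map_eq_count' _ _ Subtype.coe_injective]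
        induction s using Multiset.induction with
        | empty => simp
        | cons a s ih =>
          cases a with
          | none => simp [ih]
          | some b => simp [Multiset.count_cons, ih]
      apply Subtype.ext
      refine Multiset.ext.mpr fun a => ?_
      have hsome : ∀ Q, (s : Multiset (Option D)).count (some Q) = (s' : Multiset (Option D)).count (some Q) := by
        intro Q; rw [← hcount, ← hcount, e1]
      cases a with
      | some Q => exact hsome Q
      | none =>
        have hsum : ∀ s : Sym (Option D) N, (s : Multiset (Option D)).count none +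
            ∑ Q : D, (s : Multiset (Option D)).count (some Q) = N := by
          intro s
          rw [← Fintype.sum_option (f := fun a => (s : Multiset (Option D)).count a),
            Multiset.sum_count_eq_card (fun a _ => Finset.mem_univ a)]
          exact s.2
        have ha := hsum s
        have hb := hsum s'
        rw [Finset.sum_congr rfl fun Q _ => hsome Q] at ha
        show (s : Multiset (Option D)).count none = (s' : Multiset (Option D)).count none
        omega
    · rintro ⟨f, hm, hd, hf⟩
      set L := normalizedFactors f with hL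
      let A : Multiset D := (L.filter (· ∈ D)).pmap (fun P h => ⟨P, h⟩) fun P hP => (Multiset.mem_filter.mp hP).2
      have hA : A.map (fun P : D => P.1) = L.filter (· ∈ D) := by
        simp [A, Multiset.map_pmap, Multiset.pmap_eq_map]
      have hLm : L.prod = f := by
        have h := prod_normalizedFactors_eq (a := f) hm.ne_zero
        rwa [hm.normalize_eq_self, ← hL] at h
      have hLD : L.filter (fun P => ¬ P ∈ D) = Multiset.replicate
          (Multiset.card (L.filter (fun P => ¬ P ∈ D))) (X - 1) := by
        refine Multiset.eq_replicate_card.mpr fun P hP => ?_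
        obtain ⟨hPL, hPD⟩ := Multiset.mem_filter.mp hP
        exact (hf P hPL).resolve_right hPD
      set c := Multiset.card (L.filter (fun P => ¬ P ∈ D))
      have hsplit : L = A.map (fun P : D => P.1) + Multiset.replicate c (X - 1) := by
        rw [hA, ← hLD, Multiset.filter_add_not]
      have hn' : i * Multiset.card A + c = n := by
        have hL' := natDegree_multiset_prod_of_monic L fun P hP => normalizedFactor_monic hm.ne_zero hP
        rw [hLm, hd] at hL'
        rw [hL', hsplit]
        simp only [Multiset.map_add, Multiset.sum_add, Multiset.map_map, Multiset.map_replicate,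
          Multiset.sum_replicate]
        rw [Multiset.map_congr rfl (fun (Q : D) _ => show (natDegree ∘ fun P : D => P.1) Q = i from (hD _ Q.2).2.2)]
        simp only [Multiset.map_const', Multiset.sum_replicate, smul_eq_mul]
        rw [show (X - 1 : F[X]).natDegree = 1 by simpa using natDegree_X_sub_C (1 : F), mul_one, mul_comm]
      have hAN : Multiset.card A ≤ N := (Nat.le_div_iff_mul_le hi).mpr (by rw [mul_comm]; omega)
      let s : Sym (Option D) N := ⟨A.map some + Multiset.replicate (N - Multiset.card A) none, by
        simp; omega⟩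
      refine ⟨s, Subtype.ext ?_⟩
      have hfm : (s : Multiset (Option D)).filterMap id = A := by
        show (A.map some + Multiset.replicate (N - Multiset.card A) none).filterMap id = A
        rw [Multiset.filterMap_add, Multiset.filterMap_map]
        have : (Multiset.replicate (N - Multiset.card A) (none : Option D)).filterMap id = 0 := by
          induction (N - Multiset.card A) with
          | zero => simp
          | succ k ih => simp [Multiset.replicate_succ, ih]
        rw [this, add_zero]
        exact Multiset.filterMap_some A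
      show (ms s).prod = f
      simp only [ms, hfm]
      rw [show n - i * Multiset.card A = c by omega, ← hsplit, hLm]
  rw [← Nat.card_congr (Equiv.ofBijective Ψ hΨ), Nat.card_eq_fintype_card, Sym.card_sym_eq_choose,
    Fintype.card_option, Fintype.card_coe, show D.card + 1 + N - 1 = N + D.card from by rw [Nat.add_right_comm, Nat.add_sub_cancel, Nat.add_comm],
    Nat.choose_symm_add]

theorem card_classes {q : ℕ} (hF : Fintype.card F = q) (n r i t : ℕ) (hr : r.Prime) (hrp : r ≠ p)
    (hi : i = orderOf (q : ZMod r)) (ht : t * i = r - 1) :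
    Nat.card {C : ConjClasses (GL (Fin n) F) // ∃ g : GL (Fin n) F, ConjClasses.mk g = C ∧ orderOf g = r} =
      Nat.choose (n / i + t) t - 1 := by
  classical
  haveI := Fact.mk hr
  have hnr : p.Coprime r := (Nat.coprime_primes hp.out hr).mpr (Ne.symm hrp)
  obtain ⟨k, hk⟩ := FiniteField.card F p
  have hK : Fintype.card F = p ^ (k : ℕ) := hk.2
  have hiu : i = orderOf (ZMod.unitOfCoprime _ (hnr.pow_left (k : ℕ))) := by
    rw [hi, ← orderOf_units, ZMod.coe_unitOfCoprime, ← hF, hK]
  have hi0 : 0 < i := hiu ▸ orderOf_pos _
  have hsep : (X ^ r - C (1 : F)).Separable :=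
    separable_X_pow_sub_C 1 (fun h => by
      rw [CharP.cast_eq_zero_iff F p] at h
      exact hrp ((Nat.prime_dvd_prime_iff_eq hp.out hr).mp h).symm) one_ne_zero
  rw [map_one] at hsep
  have hfac := cyclotomic_prime_mul_X_sub_one F r
  have hR0 : (X ^ r - 1 : F[X]) ≠ 0 := hsep.ne_zero
  set D := (normalizedFactors (cyclotomic r F)).toFinset with hDdef
  have hD : ∀ P ∈ D, P.Monic ∧ Irreducible P ∧ P.natDegree = i := by
    intro P hP
    rw [hDdef, Multiset.mem_toFinset] at hP
    exact ⟨normalizedFactor_monic (cyclotomic_ne_zero r F) hP, irreducible_of_normalized_factor P hP,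
      hiu ▸ natDegree_of_mem_normalizedFactors_cyclotomic hK hnr hP⟩
  have hX1i : Irreducible (X - 1 : F[X]) := by simpa using irreducible_X_sub_C (1 : F)
  have h1 : X - 1 ∉ D := by
    intro h
    rw [hDdef, Multiset.mem_toFinset] at h
    have h2 : (X - 1) * (X - 1) ∣ (X ^ r - 1 : F[X]) :=
      hfac ▸ mul_dvd_mul_right (dvd_of_mem_normalizedFactors h) _
    exact hX1i.not_isUnit (hsep.squarefree _ h2)
  have hcard : D.card = t := by
    have hsq : Squarefree (cyclotomic r F) := hsep.squarefree.squarefree_of_dvd (Dvd.intro _ hfac)
    rw [hDdef, Multiset.toFinset_card_of_nodup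
      ((squarefree_iff_nodup_normalizedFactors (cyclotomic_ne_zero r F)).mp hsq)]
    have hdeg : (cyclotomic r F).natDegree = r - 1 := by rw [natDegree_cyclotomic, Nat.totient_prime hr]
    have hprod := prod_normalizedFactors_eq (a := cyclotomic r F) (cyclotomic_ne_zero r F)
    rw [(cyclotomic.monic r F).normalize_eq_self] at hprod
    have h2 := congrArg natDegree hprod
    rw [natDegree_multiset_prod_of_monic _ (fun P hP => normalizedFactor_monic (cyclotomic_ne_zero r F) hP),
      Multiset.map_congr rfl (fun P hP => (hD P (by rw [hDdef, Multiset.mem_toFinset]; exact hP)).2.2),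
      Multiset.map_const', Multiset.sum_replicate, smul_eq_mul, hdeg, ← ht] at h2
    exact Nat.eq_of_mul_eq_mul_right hi0 h2
  have hdiv : ∀ P : F[X], Irreducible P → P.Monic → (P ∣ X ^ r - 1 ↔ P = X - 1 ∨ P ∈ D) := by
    intro P hP hPm
    constructor
    · intro h
      rw [← hfac] at h
      rcases hP.prime.dvd_or_dvd h with h' | h'
      · right
        rw [hDdef, Multiset.mem_toFinset, mem_normalizedFactors_iff' (cyclotomic_ne_zero r F)]
        exact ⟨hP, hPm.normalize_eq_self, h'⟩
      · exact Or.inl (eq_of_monic_of_associated hPm (by simpa using monic_X_sub_C (1 : F))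
          (hP.associated_of_dvd hX1i h'))
    · rintro (rfl | h)
      · exact hfac ▸ dvd_mul_left _ _
      · rw [hDdef, Multiset.mem_toFinset] at h
        exact hfac ▸ (dvd_of_mem_normalizedFactors h).mul_right _
  have hpow : ∀ g : GL (Fin n) F, g ^ r = 1 → (orderOf g).Coprime p := fun g hg =>
    Nat.Coprime.coprime_dvd_left (orderOf_dvd_of_pow_eq_one hg) hnr.symm
  let φ : {C : ConjClasses (GL (Fin n) F) // ∃ g : GL (Fin n) F, ConjClasses.mk g = C ∧ g ^ r = 1} →
      {f : F[X] // f.Monic ∧ f.natDegree = n ∧ ∀ P ∈ normalizedFactors f, P = X - 1 ∨ P ∈ D} := fun c =>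
    ⟨classCharpoly c.1, by
      obtain ⟨g, hg, hgr⟩ := c.2
      rw [← hg, show classCharpoly (ConjClasses.mk g) = (g : Matrix (Fin n) (Fin n) F).charpoly from rfl]
      refine ⟨Matrix.charpoly_monic _, by rw [Matrix.charpoly_natDegree_eq_dim, Fintype.card_fin],
        fun P hP => ?_⟩
      have hne := (Matrix.charpoly_monic (g : Matrix (Fin n) (Fin n) F)).ne_zero
      have hirr := irreducible_of_normalized_factor P hP
      haveI := Fact.mk hirr
      refine (hdiv P hirr (normalizedFactor_monic hne hP)).mp
        (dvd_of_dvd_charpoly _ (dvd_of_mem_normalizedFactors hP) ?_)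
      rw [map_sub, map_pow, aeval_X, map_one, ← Units.val_pow_eq_pow_val, hgr, Units.val_one, sub_self]⟩
  have hφ : Function.Bijective φ := by
    constructor
    · rintro ⟨c, g, rfl, hg⟩ ⟨d, h, rfl, hh⟩ e
      exact Subtype.ext (ConjClasses.mk_eq_mk_iff_isConj.mpr
        (isConj_of_charpoly_eq g h (hpow g hg) (hpow h hh) (congrArg Subtype.val e)))
    · rintro ⟨f, hm, hd, hf⟩
      have hf0 : f.coeff 0 ≠ 0 := by
        intro h
        obtain ⟨P, hP, hXP⟩ := exists_mem_normalizedFactors_of_dvd hm.ne_zero irreducible_X (X_dvd_iff.mpr h)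
        have hX : X ∣ (X ^ r - 1 : F[X]) := hXP.dvd.trans ((hdiv P (irreducible_of_normalized_factor P hP)
          (normalizedFactor_monic hm.ne_zero hP)).mpr (hf P hP))
        rw [X_dvd_iff] at hX
        simp [coeff_X_pow, hr.ne_zero.symm] at hX
      obtain ⟨g, hg, hgc⟩ := exists_semisimple (p := p) f hm hd hf0
      set A := (g : Matrix (Fin n) (Fin n) F)
      have hmin : minpoly F A ∣ X ^ r - 1 := by
        have hne : minpoly F A ≠ 0 := minpoly.ne_zero (IsIntegral.of_finite F A)
        have hsq : Squarefree (minpoly F A) := by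
          have := (isSemisimple_toLin' g hg).minpoly_squarefree
          rwa [Matrix.minpoly_toLin'] at this
        rw [dvd_iff_normalizedFactors_le_normalizedFactors hne hR0,
          Multiset.le_iff_subset ((squarefree_iff_nodup_normalizedFactors hne).mp hsq)]
        intro P hP
        have hPi := irreducible_of_normalized_factor P hP
        have hPf : P ∣ f := hgc ▸ (dvd_of_mem_normalizedFactors hP).trans (Matrix.minpoly_dvd_charpoly A)
        have hPm := normalizedFactor_monic hne hP
        refine (mem_normalizedFactors_iff' hR0).mpr ⟨hPi, hPm.normalize_eq_self, (hdiv P hPi hPm).mpr (hf P ?_)⟩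
        exact (mem_normalizedFactors_iff' hm.ne_zero).mpr ⟨hPi, hPm.normalize_eq_self, hPf⟩
      have hgr : g ^ r = 1 := by
        obtain ⟨c, hc⟩ := hmin
        have h0 : aeval A (X ^ r - 1 : F[X]) = 0 := by rw [hc, map_mul, minpoly.aeval, zero_mul]
        rw [map_sub, map_pow, aeval_X, map_one, sub_eq_zero] at h0
        exact Units.ext (by rw [Units.val_pow_eq_pow_val]; exact h0)
      exact ⟨⟨ConjClasses.mk g, g, rfl, hgr⟩, Subtype.ext hgc⟩
  have hS := Nat.card_congr (Equiv.ofBijective φ hφ)
  rw [card_products D i n hi0 hD h1, hcard] at hS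
  rw [← hS]
  set S := {C : ConjClasses (GL (Fin n) F) | ∃ g : GL (Fin n) F, ConjClasses.mk g = C ∧ g ^ r = 1}
  have h1S : ConjClasses.mk 1 ∈ S := ⟨1, rfl, one_pow r⟩
  have e : {C : ConjClasses (GL (Fin n) F) | ∃ g : GL (Fin n) F, ConjClasses.mk g = C ∧ orderOf g = r} =
      S \ {ConjClasses.mk 1} := by
    ext C
    constructor
    · rintro ⟨g, rfl, hg⟩
      refine ⟨⟨g, rfl, hg ▸ pow_orderOf_eq_one g⟩, fun h => ?_⟩
      have h' := ConjClasses.mk_eq_mk_iff_isConj.mp (Set.mem_singleton_iff.mp h)
      rw [isConj_one_right.mp h'.symm, orderOf_one] at hg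
      exact hr.ne_one hg.symm
    · rintro ⟨⟨g, rfl, hg⟩, hne⟩
      exact ⟨g, rfl, orderOf_eq_prime hg fun h => hne (by rw [h]; rfl)⟩
  have h := congrArg Set.ncard e
  rw [Set.ncard_sdiff_singleton_of_mem h1S, ← Nat.card_coe_set_eq, ← Nat.card_coe_set_eq] at h
  exact h

end CfsgLib.Classical.PrimeOrderCount
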