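import Cfsg.Agent.Lib.Classical.SympClassCount
import Cfsg.Agent.Lib.Classical.PrimeOrderCount
import Cfsg.Agent.Lib.Classical.UnitaryTwistPoly
import Cfsg.Agent.Lib.FormRep.Roots

/-!
Classes of elements of odd prime order, different from the characteristic, in the symplectic groups.
-/

set_option autoImplicit false
set_option linter.style.haveILetI false
set_option maxHeartbeats 800000

namespace CfsgLib.Classical.SympPrimeOrder

open Polynomial UniqueFactorizationMonoid CfsgLib.Classical.UnitaryTwistPoly
  CfsgLib.Classical.PrimeOrderCount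

variable {F : Type*} [Field F]

local notation "τ" => tw (RingHom.id F)

theorem tw_one : τ (1 : F[X]) = 1 := by
  rw [tw, Polynomial.map_one, coeff_one_zero, map_one, inv_one, C_1, one_mul, ← C_1, reverse_C]

theorem tw_eq_reverse {f : F[X]} (h0 : f.coeff 0 = 1) : τ f = f.reverse := by
  simp [tw, h0]

theorem tw_X_sub_one : τ (X - 1 : F[X]) = X - 1 := by
  have hd : (X - 1 : F[X]).natDegree = 1 := by simpa using natDegree_X_sub_C (1 : F)
  ext i
  rw [coeff_tw, hd]
  rcases i with _ | _ | i
  · rw [revAt_le (Nat.zero_le _)]; simp [coeff_one]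
  · rw [revAt_le le_rfl]; simp [coeff_one]
  · rw [revAt_eq_self_of_lt (by omega)]; simp [coeff_one, coeff_X]

theorem tw_prod (L : Multiset F[X]) : τ L.prod = (L.map τ).prod := by
  induction L using Multiset.induction with
  | empty => simp [tw_one]
  | cons a L ih => rw [Multiset.prod_cons, tw_mul, ih, Multiset.map_cons, Multiset.prod_cons]

theorem nf_prod [DecidableEq F] (L : Multiset F[X]) (h : ∀ P ∈ L, P.Monic ∧ Irreducible P) :
    normalizedFactors L.prod = L := by
  rw [normalizedFactors_prod_eq _ fun P hP => (h P hP).2]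
  exact (Multiset.map_congr rfl fun P hP => Monic.normalize_eq_self (h P hP).1).trans (Multiset.map_id' _)

theorem prod_nf [DecidableEq F] {f : F[X]} (hm : f.Monic) : (normalizedFactors f).prod = f := by
  have h := prod_normalizedFactors_eq (a := f) hm.ne_zero
  rwa [hm.normalize_eq_self] at h

/-- A monic self-reciprocal polynomial without the root `1` has constant term `1`. -/
theorem coeff_zero_eq_one {P : F[X]} (hm : P.Monic) (h0 : P.coeff 0 ≠ 0) (ht : τ P = P)
    (h1 : P.eval 1 ≠ 0) : P.coeff 0 = 1 := by
  have h := congrArg (eval 1) ht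
  have hr : P.reverse.eval 1 = P.eval 1 := by
    have := FormRep.Adj.aeval_reflect_aux (S := (1 : F)) (Si := 1) (one_mul 1) P.natDegree P le_rfl
    simpa [Polynomial.reverse] using this
  rw [tw, Polynomial.map_id, RingHom.id_apply, eval_mul, eval_C, hr] at h
  exact inv_eq_one.mp (mul_right_cancel₀ h1 (h.trans (one_mul _).symm))

variable [Fintype F] {p : ℕ} [hp : Fact p.Prime] [CharP F p]

theorem card_classes {q : ℕ} (hF : Fintype.card F = q) (m r i t : ℕ) (hr : r.Prime) (hr2 : r ≠ 2) (hrp : r ≠ p)
    (hi : i = orderOf (q : ZMod r)) (ht : t * i = r - 1) :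
    Nat.card {C : ConjClasses ↥(Matrix.symplecticGroup (Fin m) F) //
      ∃ g : Matrix.symplecticGroup (Fin m) F, ConjClasses.mk g = C ∧ orderOf g = r} =
      if Odd i then Nat.choose (m / i + t / 2) (t / 2) - 1 else Nat.choose (2 * m / i + t) t - 1 := by
  classical
  haveI := Fact.mk hr
  have hnr : p.Coprime r := (Nat.coprime_primes hp.out hr).mpr (Ne.symm hrp)
  obtain ⟨k, hk⟩ := FiniteField.card F p
  have hK : Fintype.card F = p ^ (k : ℕ) := hk.2
  have hiu : i = orderOf (ZMod.unitOfCoprime _ (hnr.pow_left (k : ℕ))) := by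
    rw [hi, ← orderOf_units, ZMod.coe_unitOfCoprime, ← hF, hK]
  have hi0 : 0 < i := hiu ▸ orderOf_pos _
  have hsep : (X ^ r - C (1 : F)).Separable :=
    separable_X_pow_sub_C 1 (fun h => by
      rw [CharP.cast_eq_zero_iff F p] at h
      exact hrp ((Nat.prime_dvd_prime_iff_eq hp.out hr).mp h).symm) one_ne_zero
  rw [map_one] at hsep
  have hfac := cyclotomic_prime_mul_X_sub_one F r
  have hR0 : (X ^ r - 1 : F[X]) ≠ 0 := hsep.ne_zero
  set D := (normalizedFactors (cyclotomic r F)).toFinset with hDdef
  have hD : ∀ P ∈ D, P.Monic ∧ Irreducible P ∧ P.natDegree = i := by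
    intro P hP
    rw [hDdef, Multiset.mem_toFinset] at hP
    exact ⟨normalizedFactor_monic (cyclotomic_ne_zero r F) hP, irreducible_of_normalized_factor P hP,
      hiu ▸ natDegree_of_mem_normalizedFactors_cyclotomic hK hnr hP⟩
  have hX1m : (X - 1 : F[X]).Monic := by simpa using monic_X_sub_C (1 : F)
  have hX1i : Irreducible (X - 1 : F[X]) := by simpa using irreducible_X_sub_C (1 : F)
  have hX1d : (X - 1 : F[X]).natDegree = 1 := by simpa using natDegree_X_sub_C (1 : F)
  have h1 : X - 1 ∉ D := by
    intro h
    rw [hDdef, Multiset.mem_toFinset] at h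
    have h2 : (X - 1) * (X - 1) ∣ (X ^ r - 1 : F[X]) :=
      hfac ▸ mul_dvd_mul_right (dvd_of_mem_normalizedFactors h) _
    exact hX1i.not_isUnit (hsep.squarefree _ h2)
  have hcyc0 : (cyclotomic r F).natDegree = r - 1 := by rw [natDegree_cyclotomic, Nat.totient_prime hr]
  have hcard : D.card = t := by
    have hsq : Squarefree (cyclotomic r F) := hsep.squarefree.squarefree_of_dvd (Dvd.intro _ hfac)
    rw [hDdef, Multiset.toFinset_card_of_nodup
      ((squarefree_iff_nodup_normalizedFactors (cyclotomic_ne_zero r F)).mp hsq)]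
    have hprod := prod_nf (cyclotomic.monic r F)
    have h2 := congrArg natDegree hprod
    rw [natDegree_multiset_prod_of_monic _ (fun P hP => normalizedFactor_monic (cyclotomic_ne_zero r F) hP),
      Multiset.map_congr rfl (fun P hP => (hD P (by rw [hDdef, Multiset.mem_toFinset]; exact hP)).2.2),
      Multiset.map_const', Multiset.sum_replicate, smul_eq_mul, hcyc0, ← ht] at h2
    exact Nat.eq_of_mul_eq_mul_right hi0 h2
  have hmemD : ∀ P : F[X], P.Monic → Irreducible P → (P ∈ D ↔ P ∣ cyclotomic r F) := fun P hPm hP => by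
    rw [hDdef, Multiset.mem_toFinset, mem_normalizedFactors_iff' (cyclotomic_ne_zero r F)]
    exact ⟨fun h => h.2.2, fun h => ⟨hP, hPm.normalize_eq_self, h⟩⟩
  have hdiv : ∀ P : F[X], Irreducible P → P.Monic → (P ∣ X ^ r - 1 ↔ P = X - 1 ∨ P ∈ D) := by
    intro P hP hPm
    rw [hmemD P hPm hP]
    constructor
    · intro h
      rw [← hfac] at h
      rcases hP.prime.dvd_or_dvd h with h' | h'
      · exact Or.inr h'
      · exact Or.inl (eq_of_monic_of_associated hPm hX1m (hP.associated_of_dvd hX1i h'))
    · rintro (rfl | h)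
      · exact hfac ▸ dvd_mul_left _ _
      · exact hfac ▸ h.mul_right _
  have hD0 : ∀ P ∈ D, P.coeff 0 ≠ 0 := fun P hP h => by
    have hX : X ∣ (X ^ r - 1 : F[X]) := (X_dvd_iff.mpr h).trans
      ((hdiv P (hD P hP).2.1 (hD P hP).1).mpr (Or.inr hP))
    rw [X_dvd_iff] at hX
    simp [coeff_X_pow, hr.ne_zero.symm] at hX
  have hcycτ : τ (cyclotomic r F) = cyclotomic r F := by
    have hco : ∀ j, (cyclotomic r F).coeff j = if j < r then 1 else 0 := fun j => by
      rw [cyclotomic_prime, finsetSum_coeff]
      simp [coeff_X_pow, Finset.sum_ite_eq, Finset.mem_range]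
    ext j
    rw [coeff_tw, hcyc0, RingHom.id_apply, RingHom.id_apply, hco, hco, hco, if_pos hr.pos, inv_one, one_mul]
    rcases Nat.lt_or_ge (r - 1) j with h | h
    · rw [revAt_eq_self_of_lt h]
    · rw [revAt_le h, if_pos (show r - 1 - j < r by have := hr.pos; omega), if_pos (show j < r by have := hr.pos; omega)]
  have hτD : ∀ P ∈ D, τ P ∈ D := by
    intro P hP
    obtain ⟨hPm, hPi, hPd⟩ := hD P hP
    have hm' := monic_tw (RingHom.id F) (hD0 P hP)
    have hdvd : τ P ∣ cyclotomic r F := hcycτ ▸ tw_dvd _ ((hmemD P hPm hPi).mp hP)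
    have hdeg : (τ P).natDegree = i := (natDegree_tw _ (hD0 P hP)).trans hPd
    obtain ⟨R, hR, hRd⟩ := exists_irreducible_of_natDegree_pos (f := τ P) (hdeg ▸ hi0)
    have hR0' : R ≠ 0 := hR.ne_zero
    have hRm := monic_normalize hR0'
    have hRi := (normalize_associated R).symm.irreducible hR
    have hRmem : normalize R ∈ D := (hmemD _ hRm hRi).mpr ((normalize_dvd_iff.mpr hRd).trans hdvd)
    have : τ P = normalize R := (eq_of_monic_of_dvd_of_natDegree_le hRm hm' (normalize_dvd_iff.mpr hRd)
      (by rw [(hD _ hRmem).2.2, hdeg]))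
    exact this ▸ hRmem
  have hττ : ∀ P ∈ D, τ (τ P) = P := fun P hP => tw_tw _ (fun _ => rfl) (hD P hP).1 (hD0 P hP)
  have hroot : ∀ P ∈ D, ∀ (L : Type _) [Field L] [Algebra F L] (x : L), aeval x P = 0 →
      orderOf x = r ∧ (τ P = P ↔ aeval x⁻¹ P = 0) := by
    intro P hP L _ _ x hx
    obtain ⟨hPm, hPi, hPd⟩ := hD P hP
    have hxr : x ^ r = 1 := by
      obtain ⟨c, hc⟩ := (hdiv P hPi hPm).mpr (Or.inr hP)
      have := congrArg (aeval x) hc
      rw [map_sub, map_pow, aeval_X, map_one, map_mul, hx, zero_mul, sub_eq_zero] at this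
      exact this
    have hx1 : x ≠ 1 := by
      rintro rfl
      have e : aeval (1 : L) P = algebraMap F L (P.eval 1) := by
        rw [← map_one (algebraMap F L), aeval_algebraMap_apply_eq_algebraMap_eval]
      rw [e, _root_.map_eq_zero] at hx
      have hd := dvd_iff_isRoot.mpr (show P.IsRoot 1 from hx)
      rw [map_one] at hd
      exact h1 (eq_of_monic_of_associated hPm hX1m (hPi.associated_of_dvd hX1i
        ((hX1i.associated_of_dvd hPi hd).symm.dvd)) ▸ hP)
    refine ⟨orderOf_eq_prime hxr hx1, ?_⟩
    have hx0 : x ≠ 0 := by rintro rfl; simp [hr.ne_zero] at hxr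
    have key : aeval x⁻¹ P = 0 ↔ aeval x (τ P) = 0 := by
      rw [tw, Polynomial.map_id, map_mul, aeval_C, mul_eq_zero, or_iff_right (by simp [hD0 P hP]),
        Polynomial.reverse, FormRep.Adj.aeval_reflect_aux (mul_inv_cancel₀ hx0) _ _ le_rfl, mul_eq_zero,
        or_iff_right (pow_ne_zero _ hx0)]
    rw [key]
    refine ⟨fun h => h.symm ▸ hx, fun h => ?_⟩
    have e1 := minpoly.eq_of_irreducible_of_monic hPi hx hPm
    have e2 := minpoly.eq_of_irreducible_of_monic (hD _ (hτD P hP)).2.1 h (hD _ (hτD P hP)).1
    exact e2.trans e1.symm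
  have hinvk : ∀ {L : Type _} [Field L] (x : L), orderOf x = r → ∀ j, (x⁻¹ = x ^ (q ^ j) ↔ (q : ZMod r) ^ j = -1) := by
    intro L _ x hx j
    have hx0 : x ≠ 0 := by
      rintro rfl
      rw [orderOf_eq_iff hr.pos] at hx
      exact zero_ne_one ((zero_pow hr.ne_zero).symm.trans hx.1)
    have hinv : ∀ y : L, x⁻¹ = y ↔ x * y = 1 := fun y =>
      ⟨fun h => h ▸ mul_inv_cancel₀ hx0, fun h => inv_eq_of_mul_eq_one_right h⟩
    rw [hinv, ← pow_succ', ← orderOf_dvd_iff_pow_eq_one, hx, ← ZMod.natCast_eq_zero_iff]
    push_cast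
    exact eq_neg_iff_add_eq_zero.symm
  have hself : ∀ P ∈ D, (τ P = P ↔ ¬ Odd i) := by
    intro P hP
    obtain ⟨hPm, hPi, hPd⟩ := hD P hP
    haveI := Fact.mk hPi
    haveI : Module.Finite F (AdjoinRoot P) := (AdjoinRoot.powerBasis hPi.ne_zero).finite
    haveI : Finite (AdjoinRoot P) := Module.finite_of_finite F
    have hx : aeval (AdjoinRoot.root P) P = 0 := by rw [AdjoinRoot.aeval_eq, AdjoinRoot.mk_self]
    obtain ⟨hord, hiff⟩ := hroot P hP _ _ hx
    rw [hiff]
    constructor
    · intro h hodd
      obtain ⟨j, hj⟩ := FormRep.exists_conj_pow hPi hPm hx h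
      rw [hF, hinvk _ hord] at hj
      have h2 : (q : ZMod r) ^ (j * 2) = 1 := by rw [pow_mul, hj, neg_one_sq]
      have h3 : i ∣ j * 2 := hi ▸ orderOf_dvd_of_pow_eq_one h2
      have h4 : i ∣ j := (Nat.Coprime.dvd_mul_right (Nat.coprime_two_right.mpr hodd)).mp h3
      rw [orderOf_dvd_iff_pow_eq_one.mp (hi ▸ h4)] at hj
      exact hr2 (by
        have h5 : ((2 : ℕ) : ZMod r) = 0 := by push_cast; linear_combination hj
        exact (Nat.prime_dvd_prime_iff_eq hr Nat.prime_two).mp ((ZMod.natCast_eq_zero_iff _ _).mp h5))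
    · intro he
      rw [Nat.not_odd_iff_even] at he
      obtain ⟨j, hj⟩ := he
      have hq : (q : ZMod r) ^ j = -1 := by
        have h2 : ((q : ZMod r) ^ j) * ((q : ZMod r) ^ j) = 1 := by
          rw [← pow_add, ← hj, hi, pow_orderOf_eq_one]
        refine (mul_self_eq_one_iff.mp h2).resolve_left fun h => ?_
        have := Nat.le_of_dvd (by omega) (orderOf_dvd_of_pow_eq_one h)
        rw [← hi] at this
        omega
      have e := congrFun (FiniteField.coe_frobeniusAlgEquivOfAlgebraic_iterate F (AdjoinRoot P) j) (AdjoinRoot.root P)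
      rw [← AlgEquiv.coe_pow] at e
      rw [(hinvk _ hord j).mpr hq, ← hF, ← e, aeval_algHom_apply, hx, map_zero]
  set G := Matrix.symplecticGroup (Fin m) F
  let Q : F[X] → Prop := fun f => ∀ P ∈ normalizedFactors f, P = X - 1 ∨ P ∈ D
  have hPQ : ∀ g : G, g ^ r = 1 ↔ (orderOf g).Coprime p ∧
      Q (g : Matrix (Fin m ⊕ Fin m) (Fin m ⊕ Fin m) F).charpoly := by
    intro g
    set A := (g : Matrix (Fin m ⊕ Fin m) (Fin m ⊕ Fin m) F) with hA
    have hne := (Matrix.charpoly_monic A).ne_zero
    constructor
    · intro hg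
      refine ⟨Nat.Coprime.coprime_dvd_left (orderOf_dvd_of_pow_eq_one hg) hnr.symm, fun P hP => ?_⟩
      have hirr := irreducible_of_normalized_factor P hP
      haveI := Fact.mk hirr
      refine (hdiv P hirr (normalizedFactor_monic hne hP)).mp
        (SemisimpleClasses.dvd_of_dvd_charpoly A (dvd_of_mem_normalizedFactors hP) ?_)
      rw [map_sub, map_pow, aeval_X, map_one, hA, ← SubmonoidClass.coe_pow, hg, Submonoid.coe_one, sub_self]
    · rintro ⟨hg, hQ⟩
      have hne' : minpoly F A ≠ 0 := minpoly.ne_zero (IsIntegral.of_finite F A)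
      have hsq : Squarefree (minpoly F A) := by
        have := (SemisimpleDet.isSemisimple_of_pow p (Matrix.toLin' A) (k := orderOf g)
          (hp.out.coprime_iff_not_dvd.mp hg.symm) (SympClasses.toLin'_pow_orderOf g)).minpoly_squarefree
        rwa [Matrix.minpoly_toLin'] at this
      have hmin : minpoly F A ∣ X ^ r - 1 := by
        rw [dvd_iff_normalizedFactors_le_normalizedFactors hne' hR0,
          Multiset.le_iff_subset ((squarefree_iff_nodup_normalizedFactors hne').mp hsq)]
        intro P hP
        have hPi := irreducible_of_normalized_factor P hP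
        have hPm := normalizedFactor_monic hne' hP
        refine (mem_normalizedFactors_iff' hR0).mpr ⟨hPi, hPm.normalize_eq_self, (hdiv P hPi hPm).mpr (hQ P ?_)⟩
        exact (mem_normalizedFactors_iff' hne).mpr ⟨hPi, hPm.normalize_eq_self,
          (dvd_of_mem_normalizedFactors hP).trans (Matrix.minpoly_dvd_charpoly A)⟩
      obtain ⟨c, hc⟩ := hmin
      have h0 : aeval A (X ^ r - 1 : F[X]) = 0 := by rw [hc, map_mul, minpoly.aeval, zero_mul]
      rw [map_sub, map_pow, aeval_X, map_one, sub_eq_zero] at h0
      exact Subtype.ext (by rw [SubmonoidClass.coe_pow]; exact h0)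
  have hpolys : Nat.card {f : F[X] // SympClassCount.IsPal m f ∧ Q f} =
      if Odd i then Nat.choose (m / i + t / 2) (t / 2) else Nat.choose (2 * m / i + t) t := by
    have hL : ∀ f : F[X], f.Monic → Q f → ∀ P ∈ normalizedFactors f,
        (P.Monic ∧ Irreducible P) ∧ P.coeff 0 ≠ 0 := by
      intro f hm hQ P hP
      refine ⟨⟨normalizedFactor_monic hm.ne_zero hP, irreducible_of_normalized_factor P hP⟩, ?_⟩
      rcases hQ P hP with rfl | h
      · simp
      · exact hD0 P h
    by_cases hodd : Odd i
    · rw [if_pos hodd]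
      let e := D.equivFin
      let lt : F[X] → F[X] → Prop := fun P P' => ∃ (h : P ∈ D) (h' : P' ∈ D), e ⟨P, h⟩ < e ⟨P', h'⟩
      set D₁ := D.filter fun P => lt P (τ P)
      have hD₁ : ∀ P ∈ D, (P ∈ D₁ ↔ τ P ∉ D₁) := by
        intro P hP
        simp only [D₁, Finset.mem_filter, hP, hτD P hP, true_and, hττ P hP, lt, exists_true_left]
        have hne : e ⟨P, hP⟩ ≠ e ⟨τ P, hτD P hP⟩ := fun h =>
          ((hself P hP).mp (congrArg Subtype.val (e.injective h)).symm) hodd
        constructor
        · intro h; exact not_lt.mpr h.le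
        · intro h; exact lt_of_le_of_ne (not_lt.mp h) hne
      have hD₁c : D₁.card = t / 2 := by
        have hcompl : D₁.image τ = D \ D₁ := by
          ext P
          simp only [Finset.mem_image, Finset.mem_sdiff]
          constructor
          · rintro ⟨P', hP', rfl⟩
            have hP'D := (Finset.mem_filter.mp hP').1
            exact ⟨hτD _ hP'D, (hD₁ P' hP'D).mp hP'⟩
          · rintro ⟨hP, hn⟩
            exact ⟨τ P, by_contra fun h => hn ((hD₁ P hP).mpr h), hττ P hP⟩
        have hc := congrArg Finset.card hcompl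
        rw [Finset.card_image_of_injOn (fun a ha b hb hab => by
          rw [← hττ a (Finset.mem_filter.mp ha).1, hab, hττ b (Finset.mem_filter.mp hb).1]),
          Finset.card_sdiff_of_subset (Finset.filter_subset _ _)] at hc
        have := Finset.card_le_card (Finset.filter_subset (fun P => lt P (τ P)) D)
        change D₁.card = D.card - D₁.card at hc
        change D₁.card ≤ D.card at this
        omega
      rw [← hD₁c, ← card_products D₁ i m hi0 (fun P hP => hD P (Finset.mem_filter.mp hP).1)
        (fun h => h1 (Finset.mem_filter.mp h).1)]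
      let Y := {f : F[X] // f.Monic ∧ f.natDegree = m ∧ ∀ P ∈ normalizedFactors f, P = X - 1 ∨ P ∈ D₁}
      have hY : ∀ g : Y, Q g.1 := fun g P hP => (g.2.2.2 P hP).imp id fun h => (Finset.mem_filter.mp h).1
      have hYc : ∀ g : Y, g.1.coeff 0 ≠ 0 := fun g => by
        rw [← prod_nf g.2.1, coeff_zero_multiset_prod]
        exact Multiset.prod_ne_zero fun h => by
          obtain ⟨P, hP, hP0⟩ := Multiset.mem_map.mp h
          exact (hL _ g.2.1 (hY g) P hP).2 hP0
      have hτQ : ∀ P, (P = X - 1 ∨ P ∈ D) → (τ P = X - 1 ∨ τ P ∈ D) := fun P h => by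
        rcases h with rfl | h
        · exact Or.inl tw_X_sub_one
        · exact Or.inr (hτD P h)
      have hmon : ∀ P, (P = X - 1 ∨ P ∈ D) → P.Monic ∧ Irreducible P := fun P h => by
        rcases h with rfl | h
        · exact ⟨hX1m, hX1i⟩
        · exact ⟨(hD P h).1, (hD P h).2.1⟩
      have hnf : ∀ g : Y, normalizedFactors (g.1 * τ g.1) = normalizedFactors g.1 + (normalizedFactors g.1).map τ := by
        intro g
        have hg := prod_nf g.2.1
        conv_lhs => rw [← hg]
        rw [tw_prod, ← Multiset.prod_add]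
        refine nf_prod _ fun P hP => hmon P ?_
        rcases Multiset.mem_add.mp hP with h | h
        · exact hY g P h
        · obtain ⟨P', hP', rfl⟩ := Multiset.mem_map.mp h
          exact hτQ P' (hY g P' hP')
      refine (Nat.card_eq_of_bijective (fun g : Y => (⟨g.1 * τ g.1, ⟨g.2.1.mul (monic_tw _ (hYc g)),
        by rw [g.2.1.natDegree_mul (monic_tw _ (hYc g)), natDegree_tw _ (hYc g), g.2.2.1]; ring,
        by rw [mul_coeff_zero, coeff_zero_tw _ g.2.1 (hYc g), RingHom.id_apply, mul_inv_cancel₀ (hYc g)],
        by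
          rw [← tw_eq_reverse (by rw [mul_coeff_zero, coeff_zero_tw _ g.2.1 (hYc g), RingHom.id_apply,
            mul_inv_cancel₀ (hYc g)]), tw_mul, tw_tw _ (fun _ => rfl) g.2.1 (hYc g), mul_comm]⟩,
        fun P hP => by
          rw [hnf] at hP
          rcases Multiset.mem_add.mp hP with h | h
          · exact hY g P h
          · obtain ⟨P', hP', rfl⟩ := Multiset.mem_map.mp h
            exact hτQ P' (hY g P' hP')⟩ : {f : F[X] // SympClassCount.IsPal m f ∧ Q f})) ⟨?_, ?_⟩).symm
      · intro g g' hgg
        have h := congrArg (fun f => normalizedFactors f.1) hgg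
        simp only [hnf] at h
        apply Subtype.ext
        rw [← prod_nf g.2.1, ← prod_nf g'.2.1]
        congr 1
        refine Multiset.ext.mpr fun P => ?_
        have hc : ∀ (g : Y) (P : F[X]), P ∈ D₁ → ((normalizedFactors g.1).map τ).count P = 0 := by
          intro g P hP
          rw [Multiset.count_eq_zero, Multiset.mem_map]
          rintro ⟨P', hP', rfl⟩
          rcases g.2.2.2 P' hP' with rfl | hP'
          · rw [tw_X_sub_one] at hP
            exact h1 (Finset.mem_filter.mp hP).1
          · exact (hD₁ P' (Finset.mem_filter.mp hP').1).mp hP' hP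
        have hcX : ∀ (g : Y), ((normalizedFactors g.1).map τ).count (X - 1) =
            (normalizedFactors g.1).count (X - 1) := by
          intro g
          rw [Multiset.count_map, Multiset.count_eq_card_filter_eq]
          refine congrArg Multiset.card (Multiset.filter_congr fun a ha => ?_)
          have h2 := tw_tw (RingHom.id F) (fun _ => rfl) (hL _ g.2.1 (hY g) a ha).1.1 (hL _ g.2.1 (hY g) a ha).2
          constructor
          · intro h; rw [← h2, ← h, tw_X_sub_one]
          · intro h; rw [← h, tw_X_sub_one]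
        by_cases hP : P = X - 1 ∨ P ∈ D₁
        · have hh := congrArg (Multiset.count P) h
          simp only [Multiset.count_add] at hh
          rcases hP with rfl | hP
          · rw [hcX, hcX] at hh; omega
          · rw [hc g P hP, hc g' P hP] at hh; omega
        · rw [Multiset.count_eq_zero.mpr fun h' => hP (g.2.2.2 P h'),
            Multiset.count_eq_zero.mpr fun h' => hP (g'.2.2.2 P h')]
      · rintro ⟨f, ⟨hm, hd, h0, hrev⟩, hQ⟩
        set L := normalizedFactors f
        have hτL : L.map τ = L := by
          have h2 : τ f = f := (tw_eq_reverse h0).trans hrev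
          rw [← prod_nf hm, tw_prod] at h2
          conv_rhs => rw [← nf_prod L fun P hP => (hL f hm hQ P hP).1]
          rw [← h2]
          refine (nf_prod _ fun P hP => ?_).symm
          obtain ⟨P', hP', rfl⟩ := Multiset.mem_map.mp hP
          exact hmon _ (hτQ P' (hQ P' hP'))
        set L₁ := L.filter (· ∈ D₁)
        set c := L.count (X - 1)
        have hsplit : L = Multiset.replicate c (X - 1) + (L₁ + L₁.map τ) := by
          refine Multiset.ext.mpr fun P => ?_
          simp only [Multiset.count_add, Multiset.count_replicate]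
          by_cases hP1 : X - 1 = P
          · subst hP1
            have z1 : L₁.count (X - 1) = 0 := Multiset.count_eq_zero.mpr fun h =>
              h1 (Finset.mem_filter.mp (Multiset.mem_filter.mp h).2).1
            have z2 : (L₁.map τ).count (X - 1) = 0 := Multiset.count_eq_zero.mpr fun h => by
              obtain ⟨P', hP', e'⟩ := Multiset.mem_map.mp h
              exact h1 (e' ▸ hτD P' (Finset.mem_filter.mp (Multiset.mem_filter.mp hP').2).1)
            rw [if_pos rfl, z1, z2, add_zero, add_zero]
          rw [if_neg hP1, zero_add]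
          by_cases hPD : P ∈ D
          · have hmap : L₁.map τ = (L.map τ).filter (fun P => τ P ∈ D₁ ∧ P ∈ D) := by
              rw [Multiset.filter_map]
              refine congrArg (Multiset.map τ) (Multiset.filter_congr fun a ha => ?_)
              rcases hQ a ha with rfl | haD
              · simp only [Function.comp, tw_X_sub_one, h1, and_false, iff_false]
                exact fun h => h1 (Finset.mem_filter.mp h).1
              · simp only [Function.comp, hττ a haD, hτD a haD, and_true]
            rw [hmap, hτL]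
            by_cases hP2 : P ∈ D₁
            · rw [Multiset.count_filter_of_pos hP2, Multiset.count_filter_of_neg (fun h => (hD₁ P hPD).mp hP2 h.1),
                add_zero]
            · rw [Multiset.count_filter_of_neg hP2, Multiset.count_filter_of_pos
                ⟨by_contra fun h => hP2 ((hD₁ P hPD).mpr h), hPD⟩, zero_add]
          · have z0 : L.count P = 0 := Multiset.count_eq_zero.mpr fun h => hPD ((hQ P h).resolve_left (Ne.symm hP1))
            have z1 : L₁.count P = 0 := Multiset.count_eq_zero.mpr fun h =>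
              hPD (Finset.mem_filter.mp (Multiset.mem_filter.mp h).2).1
            have z2 : (L₁.map τ).count P = 0 := Multiset.count_eq_zero.mpr fun h => by
              obtain ⟨P', hP', e'⟩ := Multiset.mem_map.mp h
              exact hPD (e' ▸ hτD P' (Finset.mem_filter.mp (Multiset.mem_filter.mp hP').2).1)
            rw [z0, z1, z2]
        have hdeg : 2 * m = c + (i * Multiset.card L₁ + i * Multiset.card L₁) := by
          have h2 := natDegree_multiset_prod_of_monic L fun P hP => (hL f hm hQ P hP).1.1
          rw [prod_nf hm, hd, hsplit] at h2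
          have e2 : ∀ S : Multiset F[X], (∀ P ∈ S, P ∈ D) → (S.map natDegree).sum = i * Multiset.card S := fun S hS => by
            rw [Multiset.map_congr rfl fun P hP => (hD P (hS P hP)).2.2, Multiset.map_const', Multiset.sum_replicate,
              smul_eq_mul, mul_comm]
          rw [Multiset.map_add, Multiset.map_add, Multiset.sum_add, Multiset.sum_add, Multiset.map_replicate,
            Multiset.sum_replicate, hX1d, smul_eq_mul, mul_one,
            e2 L₁ fun P hP => (Finset.mem_filter.mp (Multiset.mem_filter.mp hP).2).1,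
            e2 (L₁.map τ) (fun P hP => by
              obtain ⟨P', hP', rfl⟩ := Multiset.mem_map.mp hP
              exact hτD P' (Finset.mem_filter.mp (Multiset.mem_filter.mp hP').2).1), Multiset.card_map] at h2
          exact h2
        set A := Multiset.replicate (c / 2) (X - 1 : F[X]) + L₁
        have hA : ∀ P ∈ A, P = X - 1 ∨ P ∈ D₁ := fun P hP => by
          rcases Multiset.mem_add.mp hP with h | h
          · exact Or.inl (Multiset.eq_of_mem_replicate h)
          · exact Or.inr (Multiset.mem_filter.mp h).2
        have hAm : ∀ P ∈ A, P.Monic ∧ Irreducible P := fun P hP =>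
          hmon P ((hA P hP).imp id fun h => (Finset.mem_filter.mp h).1)
        refine ⟨⟨A.prod, monic_multiset_prod_of_monic _ id (fun P hP => (hAm P hP).1) |> fun h => by simpa using h,
          ?_, fun P hP => hA P (nf_prod A hAm ▸ hP)⟩, Subtype.ext ?_⟩
        · rw [natDegree_multiset_prod_of_monic _ fun P hP => (hAm P hP).1, Multiset.map_add, Multiset.sum_add,
            Multiset.map_replicate, Multiset.sum_replicate, hX1d, smul_eq_mul, mul_one,
            Multiset.map_congr rfl fun P hP => (hD P (Finset.mem_filter.mp (Multiset.mem_filter.mp hP).2).1).2.2,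
            Multiset.map_const', Multiset.sum_replicate, smul_eq_mul, Nat.mul_comm (Multiset.card L₁) i]
          omega
        · show A.prod * τ A.prod = f
          rw [tw_prod, Multiset.map_add, Multiset.map_replicate, tw_X_sub_one, ← Multiset.prod_add]
          conv_rhs => rw [← prod_nf hm]
          congr 1
          show _ = L
          rw [hsplit, add_add_add_comm, ← Multiset.replicate_add, show c / 2 + c / 2 = c by omega]
    · rw [if_neg hodd, ← hcard, ← card_products D i (2 * m) hi0 hD h1]
      refine Nat.card_congr (Equiv.subtypeEquivRight fun f => ?_)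
      refine ⟨fun h => ⟨h.1.1, h.1.2.1, h.2⟩, fun ⟨hm, hd, hQ⟩ => ?_⟩
      have hev : Even i := Nat.not_odd_iff_even.mp hodd
      set L := normalizedFactors f
      have hfix : ∀ P ∈ L, τ P = P := fun P hP => by
        rcases hQ P hP with rfl | h
        · exact tw_X_sub_one
        · exact (hself P h).mpr hodd
      have hτf : τ f = f := by
        have e := tw_prod L
        rw [Multiset.map_congr rfl hfix, Multiset.map_id', prod_nf hm] at e
        exact e
      have hP0 : ∀ P ∈ L, P ≠ X - 1 → P.coeff 0 = 1 := fun P hP hne => by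
        have hPD := (hQ P hP).resolve_left hne
        refine coeff_zero_eq_one (hD P hPD).1 (hD0 P hPD) (hfix P hP) fun h => hne ?_
        have hd' : X - C 1 ∣ P := dvd_iff_isRoot.mpr h
        rw [map_one] at hd'
        exact eq_of_monic_of_associated (hD P hPD).1 hX1m (hX1i.associated_of_dvd (hD P hPD).2.1 hd').symm
      have hc0 : f.coeff 0 = 1 := by
        have hs := Multiset.filter_add_not (fun P => P = X - 1) L
        have hc : Even (L.count (X - 1)) := by
          have h2 := natDegree_multiset_prod_of_monic L fun P hP => (hL f hm hQ P hP).1.1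
          rw [prod_nf hm, hd, ← hs, Multiset.map_add, Multiset.sum_add, Multiset.filter_eq', Multiset.map_replicate,
            Multiset.sum_replicate, hX1d, smul_eq_mul, mul_one, Multiset.map_congr rfl (fun P hP =>
              (hD P ((hQ P (Multiset.mem_filter.mp hP).1).resolve_left (Multiset.mem_filter.mp hP).2)).2.2),
            Multiset.map_const', Multiset.sum_replicate, smul_eq_mul] at h2
          have h3 : Even (Multiset.card (L.filter fun P => ¬P = X - 1) * i) := hev.mul_left _
          have h4 : Even (2 * m) := even_two_mul m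
          rw [h2, Nat.even_add] at h4
          exact h4.mpr h3
        rw [← prod_nf hm]
        show L.prod.coeff 0 = 1
        rw [coeff_zero_multiset_prod, ← hs, Multiset.map_add, Multiset.prod_add, Multiset.filter_eq',
          Multiset.map_replicate, Multiset.prod_replicate,
          Multiset.map_congr rfl (fun P hP => hP0 P (Multiset.mem_filter.mp hP).1 (Multiset.mem_filter.mp hP).2),
          Multiset.map_const', Multiset.prod_replicate, one_pow, mul_one]
        simp [hc.neg_one_pow]
      exact ⟨⟨hm, hd, hc0, (tw_eq_reverse hc0).symm.trans hτf⟩, hQ⟩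
  have hcount := SympClassCount.card_classes (p := p) (n := m) (fun g => g ^ r = 1) Q hPQ
  rw [hpolys] at hcount
  set S := {C : ConjClasses G | ∃ g : G, ConjClasses.mk g = C ∧ g ^ r = 1}
  have h1S : ConjClasses.mk 1 ∈ S := ⟨1, rfl, one_pow r⟩
  have e : {C : ConjClasses G | ∃ g : G, ConjClasses.mk g = C ∧ orderOf g = r} = S \ {ConjClasses.mk 1} := by
    ext C
    constructor
    · rintro ⟨g, rfl, hg⟩
      refine ⟨⟨g, rfl, hg ▸ pow_orderOf_eq_one g⟩, fun h => ?_⟩
      have h' := ConjClasses.mk_eq_mk_iff_isConj.mp (Set.mem_singleton_iff.mp h)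
      rw [isConj_one_right.mp h'.symm, orderOf_one] at hg
      exact hr.ne_one hg.symm
    · rintro ⟨⟨g, rfl, hg⟩, hne⟩
      exact ⟨g, rfl, orderOf_eq_prime hg fun h => hne (by rw [h]; rfl)⟩
  have h := congrArg Set.ncard e
  rw [Set.ncard_sdiff_singleton_of_mem h1S, ← Nat.card_coe_set_eq, ← Nat.card_coe_set_eq] at h
  refine h.trans ?_
  show Nat.card {C : ConjClasses G // ∃ g : G, ConjClasses.mk g = C ∧ g ^ r = 1} - 1 = _
  rw [hcount]
  split_ifs <;> rfl

end CfsgLib.Classical.SympPrimeOrder
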