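import Cfsg.Agent.Lib.Classical.TwistPairCount
import Cfsg.Agent.Lib.Classical.SympPrimeOrder
import Cfsg.Agent.Lib.FormRep.Roots

/-!
The irreducible factors of `X ^ r - 1` and the self-reciprocal products of them.
-/

set_option autoImplicit false
set_option linter.style.haveILetI false
set_option maxHeartbeats 800000

namespace CfsgLib.Classical.OrthPrimeFactors

open Polynomial UniqueFactorizationMonoid CfsgLib.Classical.UnitaryTwistPoly
  CfsgLib.Classical.PrimeOrderCount

universe u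

variable {F : Type u} [Field F]

local notation "τ" => tw (RingHom.id F)

/-- What is used of the factors other than `X - 1`. -/
structure Facts (r i t : ℕ) (D : Finset F[X]) : Prop where
  pos : 0 < i
  mem : ∀ P ∈ D, P.Monic ∧ Irreducible P ∧ P.natDegree = i
  one : X - 1 ∉ D
  card : D.card = t
  dvd : ∀ P : F[X], Irreducible P → P.Monic → (P ∣ X ^ r - 1 ↔ P = X - 1 ∨ P ∈ D)
  c0 : ∀ P ∈ D, P.coeff 0 ≠ 0
  tmem : ∀ P ∈ D, τ P ∈ D ∧ τ (τ P) = P
  self : ∀ P ∈ D, (τ P = P ↔ ¬ Odd i)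

variable [Fintype F] {p : ℕ} [hp : Fact p.Prime] [CharP F p]

include hp in
theorem exists_facts {q : ℕ} (hF : Fintype.card F = q) (r i t : ℕ) (hr : r.Prime) (hr2 : r ≠ 2) (hrp : r ≠ p)
    (hi : i = orderOf (q : ZMod r)) (ht : t * i = r - 1) : ∃ D : Finset F[X], Facts r i t D := by
  classical
  haveI := Fact.mk hr
  have hnr : p.Coprime r := (Nat.coprime_primes hp.out hr).mpr (Ne.symm hrp)
  obtain ⟨k, hk⟩ := FiniteField.card F p
  have hK : Fintype.card F = p ^ (k : ℕ) := hk.2
  have hiu : i = orderOf (ZMod.unitOfCoprime _ (hnr.pow_left (k : ℕ))) := by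
    rw [hi, ← orderOf_units, ZMod.coe_unitOfCoprime, ← hF, hK]
  have hi0 : 0 < i := hiu ▸ orderOf_pos _
  have hsep : (X ^ r - C (1 : F)).Separable :=
    separable_X_pow_sub_C 1 (fun h => by
      rw [CharP.cast_eq_zero_iff F p] at h
      exact hrp ((Nat.prime_dvd_prime_iff_eq hp.out hr).mp h).symm) one_ne_zero
  rw [map_one] at hsep
  have hfac := cyclotomic_prime_mul_X_sub_one F r
  set D := (normalizedFactors (cyclotomic r F)).toFinset with hDdef
  have hD : ∀ P ∈ D, P.Monic ∧ Irreducible P ∧ P.natDegree = i := by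
    intro P hP
    rw [hDdef, Multiset.mem_toFinset] at hP
    exact ⟨normalizedFactor_monic (cyclotomic_ne_zero r F) hP, irreducible_of_normalized_factor P hP,
      hiu ▸ natDegree_of_mem_normalizedFactors_cyclotomic hK hnr hP⟩
  have hX1m : (X - 1 : F[X]).Monic := by simpa using monic_X_sub_C (1 : F)
  have hX1i : Irreducible (X - 1 : F[X]) := by simpa using irreducible_X_sub_C (1 : F)
  have h1 : X - 1 ∉ D := by
    intro h
    rw [hDdef, Multiset.mem_toFinset] at h
    have h2 : (X - 1) * (X - 1) ∣ (X ^ r - 1 : F[X]) :=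
      hfac ▸ mul_dvd_mul_right (dvd_of_mem_normalizedFactors h) _
    exact hX1i.not_isUnit (hsep.squarefree _ h2)
  have hcyc0 : (cyclotomic r F).natDegree = r - 1 := by rw [natDegree_cyclotomic, Nat.totient_prime hr]
  have hcard : D.card = t := by
    have hsq : Squarefree (cyclotomic r F) := hsep.squarefree.squarefree_of_dvd (Dvd.intro _ hfac)
    rw [hDdef, Multiset.toFinset_card_of_nodup
      ((squarefree_iff_nodup_normalizedFactors (cyclotomic_ne_zero r F)).mp hsq)]
    have hprod := TwistPairCount.prod_nf (cyclotomic.monic r F)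
    have h2 := congrArg natDegree hprod
    rw [natDegree_multiset_prod_of_monic _ (fun P hP => normalizedFactor_monic (cyclotomic_ne_zero r F) hP),
      Multiset.map_congr rfl (fun P hP => (hD P (by rw [hDdef, Multiset.mem_toFinset]; exact hP)).2.2),
      Multiset.map_const', Multiset.sum_replicate, smul_eq_mul, hcyc0, ← ht] at h2
    exact Nat.eq_of_mul_eq_mul_right hi0 h2
  have hmemD : ∀ P : F[X], P.Monic → Irreducible P → (P ∈ D ↔ P ∣ cyclotomic r F) := fun P hPm hP => by
    rw [hDdef, Multiset.mem_toFinset, mem_normalizedFactors_iff' (cyclotomic_ne_zero r F)]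
    exact ⟨fun h => h.2.2, fun h => ⟨hP, hPm.normalize_eq_self, h⟩⟩
  have hdiv : ∀ P : F[X], Irreducible P → P.Monic → (P ∣ X ^ r - 1 ↔ P = X - 1 ∨ P ∈ D) := by
    intro P hP hPm
    rw [hmemD P hPm hP]
    constructor
    · intro h
      rw [← hfac] at h
      rcases hP.prime.dvd_or_dvd h with h' | h'
      · exact Or.inr h'
      · exact Or.inl (eq_of_monic_of_associated hPm hX1m (hP.associated_of_dvd hX1i h'))
    · rintro (rfl | h)
      · exact hfac ▸ dvd_mul_left _ _
      · exact hfac ▸ h.mul_right _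
  have hD0 : ∀ P ∈ D, P.coeff 0 ≠ 0 := fun P hP h => by
    have hX : X ∣ (X ^ r - 1 : F[X]) := (X_dvd_iff.mpr h).trans
      ((hdiv P (hD P hP).2.1 (hD P hP).1).mpr (Or.inr hP))
    rw [X_dvd_iff] at hX
    simp [coeff_X_pow, hr.ne_zero.symm] at hX
  have hcycτ : τ (cyclotomic r F) = cyclotomic r F := by
    have hco : ∀ j, (cyclotomic r F).coeff j = if j < r then 1 else 0 := fun j => by
      rw [cyclotomic_prime, finsetSum_coeff]
      simp [coeff_X_pow, Finset.sum_ite_eq, Finset.mem_range]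
    ext j
    rw [coeff_tw, hcyc0, RingHom.id_apply, RingHom.id_apply, hco, hco, hco, if_pos hr.pos, inv_one, one_mul]
    rcases Nat.lt_or_ge (r - 1) j with h | h
    · rw [revAt_eq_self_of_lt h]
    · rw [revAt_le h, if_pos (show r - 1 - j < r by have := hr.pos; omega),
        if_pos (show j < r by have := hr.pos; omega)]
  have hτD : ∀ P ∈ D, τ P ∈ D := by
    intro P hP
    obtain ⟨hPm, hPi, hPd⟩ := hD P hP
    have hm' := monic_tw (RingHom.id F) (hD0 P hP)
    have hdvd : τ P ∣ cyclotomic r F := hcycτ ▸ tw_dvd _ ((hmemD P hPm hPi).mp hP)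
    have hdeg : (τ P).natDegree = i := (natDegree_tw _ (hD0 P hP)).trans hPd
    obtain ⟨R, hR, hRd⟩ := exists_irreducible_of_natDegree_pos (f := τ P) (hdeg ▸ hi0)
    have hRm := monic_normalize hR.ne_zero
    have hRi := (normalize_associated R).symm.irreducible hR
    have hRmem : normalize R ∈ D := (hmemD _ hRm hRi).mpr ((normalize_dvd_iff.mpr hRd).trans hdvd)
    have : τ P = normalize R := (eq_of_monic_of_dvd_of_natDegree_le hRm hm' (normalize_dvd_iff.mpr hRd)
      (by rw [(hD _ hRmem).2.2, hdeg]))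
    exact this ▸ hRmem
  have hroot : ∀ P ∈ D, ∀ (L : Type _) [Field L] [Algebra F L] (x : L), aeval x P = 0 →
      orderOf x = r ∧ (τ P = P ↔ aeval x⁻¹ P = 0) := by
    intro P hP L _ _ x hx
    obtain ⟨hPm, hPi, hPd⟩ := hD P hP
    have hxr : x ^ r = 1 := by
      obtain ⟨c, hc⟩ := (hdiv P hPi hPm).mpr (Or.inr hP)
      have := congrArg (aeval x) hc
      rw [map_sub, map_pow, aeval_X, map_one, map_mul, hx, zero_mul, sub_eq_zero] at this
      exact this
    have hx1 : x ≠ 1 := by
      rintro rfl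
      have e : aeval (1 : L) P = algebraMap F L (P.eval 1) := by
        rw [← map_one (algebraMap F L), aeval_algebraMap_apply_eq_algebraMap_eval]
      rw [e, _root_.map_eq_zero] at hx
      have hd := dvd_iff_isRoot.mpr (show P.IsRoot 1 from hx)
      rw [map_one] at hd
      exact h1 (eq_of_monic_of_associated hPm hX1m (hPi.associated_of_dvd hX1i
        ((hX1i.associated_of_dvd hPi hd).symm.dvd)) ▸ hP)
    refine ⟨orderOf_eq_prime hxr hx1, ?_⟩
    have hx0 : x ≠ 0 := by rintro rfl; simp [hr.ne_zero] at hxr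
    have key : aeval x⁻¹ P = 0 ↔ aeval x (τ P) = 0 := by
      rw [tw, Polynomial.map_id, map_mul, aeval_C, mul_eq_zero, or_iff_right (by simp [hD0 P hP]),
        Polynomial.reverse, FormRep.Adj.aeval_reflect_aux (mul_inv_cancel₀ hx0) _ _ le_rfl, mul_eq_zero,
        or_iff_right (pow_ne_zero _ hx0)]
    rw [key]
    refine ⟨fun h => h.symm ▸ hx, fun h => ?_⟩
    have e1 := minpoly.eq_of_irreducible_of_monic hPi hx hPm
    have e2 := minpoly.eq_of_irreducible_of_monic (hD _ (hτD P hP)).2.1 h (hD _ (hτD P hP)).1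
    exact e2.trans e1.symm
  have hinvk : ∀ {L : Type _} [Field L] (x : L), orderOf x = r → ∀ j,
      (x⁻¹ = x ^ (q ^ j) ↔ (q : ZMod r) ^ j = -1) := by
    intro L _ x hx j
    have hx0 : x ≠ 0 := by
      rintro rfl
      rw [orderOf_eq_iff hr.pos] at hx
      exact zero_ne_one ((zero_pow hr.ne_zero).symm.trans hx.1)
    have hinv : ∀ y : L, x⁻¹ = y ↔ x * y = 1 := fun y =>
      ⟨fun h => h ▸ mul_inv_cancel₀ hx0, fun h => inv_eq_of_mul_eq_one_right h⟩
    rw [hinv, ← pow_succ', ← orderOf_dvd_iff_pow_eq_one, hx, ← ZMod.natCast_eq_zero_iff]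
    push_cast
    exact eq_neg_iff_add_eq_zero.symm
  refine ⟨D, hi0, hD, h1, hcard, hdiv, hD0,
    fun P hP => ⟨hτD P hP, tw_tw _ (fun _ => rfl) (hD P hP).1 (hD0 P hP)⟩, ?_⟩
  intro P hP
  obtain ⟨hPm, hPi, hPd⟩ := hD P hP
  haveI := Fact.mk hPi
  haveI : Module.Finite F (AdjoinRoot P) := (AdjoinRoot.powerBasis hPi.ne_zero).finite
  haveI : Finite (AdjoinRoot P) := Module.finite_of_finite F
  have hx : aeval (AdjoinRoot.root P) P = 0 := by rw [AdjoinRoot.aeval_eq, AdjoinRoot.mk_self]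
  obtain ⟨hord, hiff⟩ := hroot P hP _ _ hx
  rw [hiff]
  constructor
  · intro h hodd
    obtain ⟨j, hj⟩ := FormRep.exists_conj_pow hPi hPm hx h
    rw [hF, hinvk _ hord] at hj
    have h2 : (q : ZMod r) ^ (j * 2) = 1 := by rw [pow_mul, hj, neg_one_sq]
    have h3 : i ∣ j * 2 := hi ▸ orderOf_dvd_of_pow_eq_one h2
    have h4 : i ∣ j := (Nat.Coprime.dvd_mul_right (Nat.coprime_two_right.mpr hodd)).mp h3
    rw [orderOf_dvd_iff_pow_eq_one.mp (hi ▸ h4)] at hj
    exact hr2 (by
      have h5 : ((2 : ℕ) : ZMod r) = 0 := by push_cast; linear_combination hj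
      exact (Nat.prime_dvd_prime_iff_eq hr Nat.prime_two).mp ((ZMod.natCast_eq_zero_iff _ _).mp h5))
  · intro he
    rw [Nat.not_odd_iff_even] at he
    obtain ⟨j, hj⟩ := he
    have hq : (q : ZMod r) ^ j = -1 := by
      have h2 : ((q : ZMod r) ^ j) * ((q : ZMod r) ^ j) = 1 := by
        rw [← pow_add, ← hj, hi, pow_orderOf_eq_one]
      refine (mul_self_eq_one_iff.mp h2).resolve_left fun h => ?_
      have := Nat.le_of_dvd (by omega) (orderOf_dvd_of_pow_eq_one h)
      rw [← hi] at this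
      omega
    have e := congrFun (FiniteField.coe_frobeniusAlgEquivOfAlgebraic_iterate F (AdjoinRoot P) j)
      (AdjoinRoot.root P)
    rw [← AlgEquiv.coe_pow] at e
    rw [(hinvk _ hord j).mpr hq, ← hF, ← e, aeval_algHom_apply, hx, map_zero]

/-- The self-reciprocal products of the allowed factors of degree `d`. -/
def IsT (D : Finset F[X]) (d : ℕ) (f : F[X]) : Prop :=
  f.Monic ∧ f.natDegree = d ∧ τ f = f ∧ ∀ P : F[X], Irreducible P → P.Monic → P ∣ f → P = X - 1 ∨ P ∈ D

theorem isT_iff [DecidableEq F] {D : Finset F[X]} {d : ℕ} {f : F[X]} :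
    IsT D d f ↔ f.Monic ∧ f.natDegree = d ∧ τ f = f ∧ ∀ P ∈ normalizedFactors f, P = X - 1 ∨ P ∈ D := by
  refine and_congr_right fun hm => and_congr_right fun _ => and_congr_right fun _ => ⟨fun h P hP => ?_, fun h P hi hm' hd => ?_⟩
  · exact h P (irreducible_of_normalized_factor P hP) (normalizedFactor_monic hm.ne_zero hP)
      (dvd_of_mem_normalizedFactors hP)
  · exact h P ((mem_normalizedFactors_iff' hm.ne_zero).mpr ⟨hi, hm'.normalize_eq_self, hd⟩)

variable {r i t : ℕ} {D : Finset F[X]}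

theorem Facts.t_pos (h : Facts r i t D) (hr : r.Prime) (hr2 : r ≠ 2) (ht : t * i = r - 1) :
    1 ≤ t ∧ (Odd i → Even t ∧ 2 ≤ t) := by
  have := hr.two_le
  have hodd : Odd r := hr.odd_of_ne_two hr2
  have h1 : 1 ≤ t := Nat.pos_of_ne_zero (by rintro rfl; omega)
  refine ⟨h1, fun hi => ?_⟩
  have he : Even (t * i) := by rw [ht]; exact hodd.tsub_odd odd_one
  have hte : Even t := (Nat.even_mul.mp he).resolve_right (Nat.not_even_iff_odd.mpr hi)
  obtain ⟨c, hc⟩ := hte
  exact ⟨⟨c, hc⟩, by omega⟩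

theorem card_isT (h : Facts r i t D) (d : ℕ) :
    Nat.card {f : F[X] // IsT D d f} =
      if Odd i then Nat.choose (d / (2 * i) + t / 2) (t / 2) else Nat.choose (d / i + t) t := by
  classical
  rw [Nat.card_congr (Equiv.subtypeEquivRight fun f => isT_iff)]
  by_cases hodd : Odd i
  · rw [if_pos hodd, ← h.card]
    exact TwistPairCount.card_fixed (RingHom.id F) D i d h.pos h.mem h.one
      fun P hP => ⟨(h.tmem P hP).1, (h.tmem P hP).2, fun e => (h.self P hP).mp e hodd⟩
  · rw [if_neg hodd, ← h.card, ← card_products D i d h.pos h.mem h.one]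
    refine Nat.card_congr (Equiv.subtypeEquivRight fun f => ⟨fun hf => ⟨hf.1, hf.2.1, hf.2.2.2⟩,
      fun hf => ⟨hf.1, hf.2.1, ?_, hf.2.2⟩⟩)
    have e := TwistPairCount.tw_prod (RingHom.id F) (normalizedFactors f)
    have hfix : ∀ P ∈ normalizedFactors f, τ P = P := fun P hP => by
      rcases hf.2.2 P hP with rfl | hPD
      · exact TwistPairCount.tw_X_sub_one _
      · exact (h.self P hPD).mpr hodd
    rw [Multiset.map_congr rfl hfix, Multiset.map_id', TwistPairCount.prod_nf hf.1] at e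
    exact e

/-- Those without the root `1`, counted. -/
theorem card_isT_free (h : Facts r i t D) {m : ℕ} (hm : 1 ≤ m) (hr : r.Prime) (hr2 : r ≠ 2) (ht : t * i = r - 1) :
    Nat.card {f : F[X] // IsT D (2 * m) f ∧ f.eval 1 ≠ 0} =
      if Odd i then (if i ∣ m then Nat.choose (m / i + t / 2 - 1) (t / 2 - 1) else 0)
      else (if i ∣ 2 * m then Nat.choose (2 * m / i + t - 1) (t - 1) else 0) := by
  classical
  obtain ⟨ht1, ht2⟩ := h.t_pos hr hr2 ht
  have hpi := h.pos
  have hfin : ∀ d, Finite {f : F[X] // IsT D d f} := fun d => Nat.finite_of_card_ne_zero (by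
    rw [card_isT h d]; split_ifs <;> exact (Nat.choose_pos (Nat.le_add_left _ _)).ne')
  have hX1m : (X - 1 : F[X]).Monic := by simpa using monic_X_sub_C (1 : F)
  have hX1i : Irreducible (X - 1 : F[X]) := by simpa using irreducible_X_sub_C (1 : F)
  have hX1d : (X - 1 : F[X]).natDegree = 1 := by simpa using natDegree_X_sub_C (1 : F)
  have hroot : ∀ f : F[X], f.eval 1 = 0 ↔ X - 1 ∣ f := fun f => by
    rw [← map_one C, dvd_iff_isRoot]; rfl
  have hsplit : Nat.card {f : F[X] // IsT D (2 * m) f ∧ f.eval 1 = 0} = Nat.card {f : F[X] // IsT D (2 * m - 1) f} := by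
    refine (Nat.card_eq_of_bijective (fun g : {f : F[X] // IsT D (2 * m - 1) f} =>
      (⟨(X - 1) * g.1, ⟨hX1m.mul g.2.1, by rw [hX1m.natDegree_mul g.2.1, hX1d, g.2.2.1]; omega,
        by rw [tw_mul, TwistPairCount.tw_X_sub_one, g.2.2.2.1], fun P hi hm' hd => ?_⟩,
        by simp⟩ : {f : F[X] // IsT D (2 * m) f ∧ f.eval 1 = 0})) ⟨fun a b hab => ?_, ?_⟩).symm
    · rcases hi.prime.dvd_or_dvd hd with hd | hd
      · exact Or.inl (eq_of_monic_of_associated hm' hX1m (hi.associated_of_dvd hX1i hd))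
      · exact g.2.2.2.2 P hi hm' hd
    · exact Subtype.ext (mul_left_cancel₀ hX1m.ne_zero (congrArg Subtype.val hab))
    · rintro ⟨f, ⟨hfm, hfd, hft, hfP⟩, hf1⟩
      obtain ⟨g, rfl⟩ := (hroot f).mp hf1
      have hgm : g.Monic := hX1m.of_mul_monic_left hfm
      refine ⟨⟨g, hgm, by rw [hX1m.natDegree_mul hgm, hX1d] at hfd; omega, ?_,
        fun P hi hm' hd => hfP P hi hm' (dvd_mul_of_dvd_right hd _)⟩, rfl⟩
      rw [tw_mul, TwistPairCount.tw_X_sub_one] at hft
      exact mul_left_cancel₀ hX1m.ne_zero hft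
  haveI := hfin (2 * m)
  let e : {f : {f : F[X] // IsT D (2 * m) f} // f.1.eval 1 = 0} ⊕ {f : {f : F[X] // IsT D (2 * m) f} // ¬ f.1.eval 1 = 0} ≃
      {f : F[X] // IsT D (2 * m) f} := Equiv.sumCompl _
  have hsum := Nat.card_congr e
  rw [Nat.card_sum, Nat.card_congr (Equiv.subtypeSubtypeEquivSubtypeInter _ (fun f : F[X] => f.eval 1 = 0)),
    Nat.card_congr (Equiv.subtypeSubtypeEquivSubtypeInter _ (fun f : F[X] => ¬ f.eval 1 = 0)), hsplit,
    card_isT h, card_isT h] at hsum
  show Nat.card {f : F[X] // IsT D (2 * m) f ∧ ¬ f.eval 1 = 0} = _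
  by_cases hodd : Odd i
  · rw [if_pos hodd, if_pos hodd] at hsum
    rw [if_pos hodd]
    obtain ⟨-, ht2⟩ := ht2 hodd
    have e1 : 2 * m / (2 * i) = m / i := Nat.mul_div_mul_left m i (by omega)
    obtain ⟨s, hs⟩ : ∃ s, t / 2 = s + 1 := ⟨t / 2 - 1, by omega⟩
    rw [e1, hs] at hsum
    rw [hs, Nat.add_sub_cancel]
    split_ifs with hd
    · obtain ⟨n, rfl⟩ := hd
      obtain ⟨n, rfl⟩ : ∃ j, n = j + 1 := ⟨n - 1, by rcases n with _ | n <;> omega⟩
      rw [Nat.mul_div_cancel_left _ hpi] at hsum ⊢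
      have e2 : (2 * (i * (n + 1)) - 1) / (2 * i) = n := by
        refine Nat.div_eq_of_lt_le ?_ ?_
        · rw [mul_add, mul_one, mul_add, mul_comm n, mul_assoc]; omega
        · rw [mul_comm (n + 1), mul_assoc]; omega
      rw [e2, show n + 1 + (s + 1) = (n + s + 1) + 1 by omega, Nat.choose_succ_succ] at hsum
      rw [show n + 1 + (s + 1) - 1 = n + s + 1 by omega]
      rw [show n + (s + 1) = n + s + 1 by omega] at hsum
      simp only [Nat.succ_eq_add_one] at hsum
      omega
    · have e2 : (2 * m - 1) / (2 * i) = m / i := by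
        have h1 := Nat.div_add_mod m i
        have h2 := Nat.mod_lt m hpi
        have h3 : m % i ≠ 0 := fun e => hd (Nat.dvd_of_mod_eq_zero e)
        refine Nat.div_eq_of_lt_le ?_ ?_
        · rw [mul_comm (m / i), mul_assoc]; omega
        · rw [mul_comm (m / i + 1), mul_assoc, mul_add, mul_one]; omega
      rw [e2] at hsum
      omega
  · rw [if_neg hodd, if_neg hodd] at hsum
    rw [if_neg hodd]
    obtain ⟨s, hs⟩ : ∃ s, t = s + 1 := ⟨t - 1, by omega⟩
    subst hs
    rw [Nat.add_sub_cancel]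
    split_ifs with hd
    · obtain ⟨n, hn⟩ := hd
      obtain ⟨n, rfl⟩ : ∃ j, n = j + 1 := ⟨n - 1, by rcases n with _ | n <;> omega⟩
      rw [hn, Nat.mul_div_cancel_left _ hpi] at hsum ⊢
      have e2 : (i * (n + 1) - 1) / i = n := by
        refine Nat.div_eq_of_lt_le ?_ ?_
        · rw [mul_add, mul_one, mul_comm n]; omega
        · rw [mul_comm (n + 1)]; omega
      rw [e2, show n + 1 + (s + 1) = (n + s + 1) + 1 by omega, Nat.choose_succ_succ,
        show n + (s + 1) = n + s + 1 by omega] at hsum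
      rw [show n + 1 + (s + 1) - 1 = n + s + 1 by omega]
      simp only [Nat.succ_eq_add_one] at hsum
      omega
    · have e2 : (2 * m - 1) / i = 2 * m / i := by
        have h1 := Nat.div_add_mod (2 * m) i
        have h2 := Nat.mod_lt (2 * m) hpi
        have h3 : 2 * m % i ≠ 0 := fun e => hd (Nat.dvd_of_mod_eq_zero e)
        refine Nat.div_eq_of_lt_le ?_ ?_
        · rw [mul_comm (2 * m / i)]; omega
        · rw [mul_comm (2 * m / i + 1), mul_add, mul_one]; omega
      rw [e2] at hsum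
      omega

/-- Splitting off the root `1`. -/
theorem exists_split_one (h : Facts r i t D) {d : ℕ} {f : F[X]} (hf : IsT D d f) :
    ∃ c, ∃ g : F[X], f = (X - 1) ^ c * g ∧ g.Monic ∧ c + g.natDegree = d ∧ τ g = g ∧ g.eval 1 ≠ 0 ∧
      ∀ P : F[X], Irreducible P → P.Monic → P ∣ g → P ∈ D := by
  classical
  induction d generalizing f with
  | zero => 
    have := eq_one_of_monic_natDegree_zero hf.1 hf.2.1
    subst this
    exact ⟨0, 1, by simp, monic_one, by simp, TwistPairCount.tw_one _, by simp,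
      fun P hi _ hd => absurd (isUnit_of_dvd_one hd) hi.not_isUnit⟩
  | succ d ih =>
    obtain ⟨hfm, hfd, hft, hfP⟩ := hf
    have hX1m : (X - 1 : F[X]).Monic := by simpa using monic_X_sub_C (1 : F)
    have hX1d : (X - 1 : F[X]).natDegree = 1 := by simpa using natDegree_X_sub_C (1 : F)
    by_cases h1 : f.eval 1 = 0
    · obtain ⟨g, rfl⟩ : X - 1 ∣ f := by rw [← map_one C, dvd_iff_isRoot]; exact h1
      have hgm : g.Monic := hX1m.of_mul_monic_left hfm
      rw [tw_mul, TwistPairCount.tw_X_sub_one] at hft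
      obtain ⟨c, g', rfl, h2⟩ := ih (f := g) ⟨hgm, by rw [hX1m.natDegree_mul hgm, hX1d] at hfd; omega,
        mul_left_cancel₀ hX1m.ne_zero hft, fun P hi hm' hd => hfP P hi hm' (dvd_mul_of_dvd_right hd _)⟩
      obtain ⟨a1, a2, a3⟩ := h2
      exact ⟨c + 1, g', by ring, a1, by omega, a3⟩
    · refine ⟨0, f, by simp, hfm, by omega, hft, h1, fun P hi hm' hd => (hfP P hi hm' hd).resolve_left ?_⟩
      rintro rfl
      rw [← map_one C, dvd_iff_isRoot] at hd
      exact h1 hd

/-- Pairing off, `i` odd. -/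
theorem exists_half (h : Facts r i t D) (hodd : Odd i) {g : F[X]} (hm : g.Monic) (ht : τ g = g)
    (hP : ∀ P : F[X], Irreducible P → P.Monic → P ∣ g → P ∈ D) :
    ∃ g₁ : F[X], g₁.Monic ∧ g₁.coeff 0 ≠ 0 ∧ g = g₁ * τ g₁ ∧ g.natDegree = 2 * g₁.natDegree ∧
      ∀ P : F[X], Irreducible P → P ∣ g₁ → P ∣ X ^ r - 1 := by
  classical
  obtain ⟨n, hn⟩ : ∃ n, g.natDegree = n := ⟨_, rfl⟩
  induction n using Nat.strong_induction_on generalizing g with
  | _ n ih =>
  rcases Nat.eq_zero_or_pos n with rfl | hpos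
  · have := eq_one_of_monic_natDegree_zero hm hn
    subst this
    exact ⟨1, monic_one, by simp, by simp [TwistPairCount.tw_one], by simp,
      fun P hi hd => absurd (isUnit_of_dvd_one hd) hi.not_isUnit⟩
  obtain ⟨P, hPi, hPd⟩ := exists_irreducible_of_natDegree_pos (f := g) (by omega)
  have hNi := (normalize_associated P).symm.irreducible hPi
  have hNm := monic_normalize hPi.ne_zero
  set R := normalize P
  have hRd : R ∣ g := normalize_dvd_iff.mpr hPd
  have hRD := hP R hNi hNm hRd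
  obtain ⟨hτD, hττ⟩ := h.tmem R hRD
  have hne : τ R ≠ R := fun e => (h.self R hRD).mp e hodd
  have hdvd : R * τ R ∣ g := by
    obtain ⟨g', rfl⟩ := hRd
    have h2 : τ R ∣ R * g' := ht ▸ tw_dvd _ (dvd_mul_right R g')
    refine mul_dvd_mul_left R (((h.mem _ hτD).2.1.prime.dvd_or_dvd h2).resolve_left fun e => hne ?_)
    exact eq_of_monic_of_associated (h.mem _ hτD).1 hNm ((h.mem _ hτD).2.1.associated_of_dvd hNi e)
  obtain ⟨g', rfl⟩ := hdvd
  have hm2 : (R * τ R).Monic := hNm.mul (h.mem _ hτD).1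
  have hd2 : (R * τ R).natDegree = i + i := by
    rw [hNm.natDegree_mul (h.mem _ hτD).1, (h.mem _ hτD).2.2, (h.mem _ hRD).2.2]
  have hgm : g'.Monic := hm2.of_mul_monic_left hm
  have hpi := h.pos
  rw [tw_mul, tw_mul, hττ, mul_comm (τ R) R] at ht
  obtain ⟨g₁, a1, a0, a2, a3, a4⟩ := ih g'.natDegree
    (by rw [← hn, hm2.natDegree_mul hgm, hd2]; omega) hgm (mul_left_cancel₀ hm2.ne_zero ht)
    (fun S hS hSm hd => hP S hS hSm (dvd_mul_of_dvd_right hd _)) rfl
  refine ⟨R * g₁, hNm.mul a1, ?_, ?_, ?_, fun S hS hd => ?_⟩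
  · rw [mul_coeff_zero]; exact mul_ne_zero (h.c0 R hRD) a0
  · rw [tw_mul, a2]; ring
  · rw [hm2.natDegree_mul hgm, hd2, hNm.natDegree_mul a1, (h.mem _ hRD).2.2, a3]; ring
  · rcases hS.prime.dvd_or_dvd hd with hd | hd
    · exact hd.trans ((h.dvd R hNi hNm).mpr (Or.inr hRD))
    · exact a4 S hS hd

/-- Products of self-reciprocal factors, `i` even. -/
theorem palindromic (h : Facts r i t D) (heven : ¬ Odd i) {g : F[X]} (hm : g.Monic)
    (hP : ∀ P : F[X], Irreducible P → P.Monic → P ∣ g → P ∈ D) :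
    g.coeff 0 = 1 ∧ g.reverse = g ∧ i ∣ g.natDegree := by
  classical
  have hmem : ∀ P ∈ normalizedFactors g, P ∈ D := fun P h' =>
    hP P (irreducible_of_normalized_factor P h') (normalizedFactor_monic hm.ne_zero h')
      (dvd_of_mem_normalizedFactors h')
  have hfix : ∀ P ∈ normalizedFactors g, τ P = P := fun P h' => (h.self P (hmem P h')).mpr heven
  have hc : ∀ P ∈ normalizedFactors g, P.coeff 0 = 1 := fun P h' => by
    refine SympPrimeOrder.coeff_zero_eq_one (h.mem P (hmem P h')).1 (h.c0 P (hmem P h')) (hfix P h') fun h1 => ?_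
    have hd' : X - C 1 ∣ P := dvd_iff_isRoot.mpr h1
    rw [map_one] at hd'
    exact h.one (eq_of_monic_of_associated (h.mem P (hmem P h')).1 (by simpa using monic_X_sub_C (1 : F))
      ((show Irreducible (X - 1 : F[X]) by simpa using irreducible_X_sub_C (1 : F)).associated_of_dvd
        (h.mem P (hmem P h')).2.1 hd').symm ▸ hmem P h')
  have hc0 : g.coeff 0 = 1 := by
    rw [← TwistPairCount.prod_nf hm, coeff_zero_multiset_prod, Multiset.map_congr rfl hc, Multiset.map_const',
      Multiset.prod_replicate, one_pow]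
  have e := TwistPairCount.tw_prod (RingHom.id F) (normalizedFactors g)
  rw [Multiset.map_congr rfl hfix, Multiset.map_id', TwistPairCount.prod_nf hm,
    SympPrimeOrder.tw_eq_reverse hc0] at e
  refine ⟨hc0, e, Multiset.card (normalizedFactors g), ?_⟩
  conv_lhs => rw [← TwistPairCount.prod_nf hm, natDegree_multiset_prod_of_monic _ (fun P h' => (h.mem P (hmem P h')).1),
    Multiset.map_congr rfl (fun P h' => (h.mem P (hmem P h')).2.2), Multiset.map_const', Multiset.sum_replicate,
    smul_eq_mul, mul_comm]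

end CfsgLib.Classical.OrthPrimeFactors
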