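import Cfsg.Agent.Lib.Classical.OrthPrimeReal
import Cfsg.Agent.Lib.Classical.OrthPrimeFactors

/-!
Classes of elements of odd prime order, different from the characteristic, in the orthogonal groups.
-/

set_option autoImplicit false
set_option linter.style.haveILetI false
set_option maxHeartbeats 800000

namespace CfsgLib.Classical.OrthPrimeCount

open scoped Matrix
open Polynomial Module CfsgLib.Classical.UnitaryTwistPoly CfsgLib.Classical.OrthModels
  CfsgLib.Classical.OrthPrimeReal CfsgLib.Classical.OrthPrimeFactors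

universe u

variable {F : Type u} [Field F] [Fintype F] {p : ℕ} [hp : Fact p.Prime] [CharP F p]
  {q r i t : ℕ} {D : Finset F[X]}

local notation "τ" => tw (RingHom.id F)

section classes

variable {ι : Type} [Fintype ι] [DecidableEq ι]

omit [Fintype F] hp [CharP F p] in
theorem real_iff_exists (hr : 0 < r) (Q : (ι → F) → F) (f : F[X]) :
    Real r Q f ↔ ∃ g : ↥(Cfsg.isometryGroup F Q), g ^ r = 1 ∧ ((g : GL ι F) : Matrix ι ι F).charpoly = f := by
  constructor
  · rintro ⟨T, hT, hTr, hTc⟩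
    set M := LinearMap.toMatrix' T
    have hM : M ^ r = 1 := by
      refine Matrix.toLin'.injective ?_
      rw [Matrix.toLin'_pow, Matrix.toLin'_toMatrix', hTr, Matrix.toLin'_one]; rfl
    let U : GL ι F := ⟨M, M ^ (r - 1), by rw [← pow_succ', show r - 1 + 1 = r by omega, hM],
      by rw [← pow_succ, show r - 1 + 1 = r by omega, hM]⟩
    refine ⟨⟨U, RestrictScalars.isometry_mem.2 fun v => ?_⟩, Subtype.ext (Units.ext ?_), ?_⟩
    · show Q (M *ᵥ v) = Q v
      rw [← Matrix.toLin'_apply, Matrix.toLin'_toMatrix', hT]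
    · rw [SubmonoidClass.coe_pow, Units.val_pow_eq_pow_val]; exact hM
    · show M.charpoly = f
      rw [← Matrix.charpoly_toLin', Matrix.toLin'_toMatrix', hTc]
  · rintro ⟨g, hg, hgc⟩
    refine ⟨Matrix.toLin' ((g : GL ι F) : Matrix ι ι F), fun v => RestrictScalars.isometry_mem.1 g.2 v, ?_,
      by rw [Matrix.charpoly_toLin', hgc]⟩
    rw [← Matrix.toLin'_pow, ← Units.val_pow_eq_pow_val, ← SubmonoidClass.coe_pow, hg]
    exact Matrix.toLin'_one

omit [Fintype F] hp [CharP F p] in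
theorem isT_of_real (hD : Facts r i t D) (hr : 0 < r) (Q : QuadraticForm F (ι → F)) (hQ : CfsgLib.Orth.Nondeg Q)
    {f : F[X]} (h : Real r (⇑Q) f) : IsT D (Fintype.card ι) f := by
  obtain ⟨g, hg, rfl⟩ := (real_iff_exists hr _ f).mp h
  refine ⟨Matrix.charpoly_monic _, Matrix.charpoly_natDegree_eq_dim _, tw_charpoly Q hQ _ g.2, fun P hi hm hd => ?_⟩
  haveI := Fact.mk hi
  refine (hD.dvd P hi hm).mp (SemisimpleClasses.dvd_of_dvd_charpoly _ hd ?_)
  rw [map_sub, map_pow, aeval_X, map_one, ← Units.val_pow_eq_pow_val, ← SubmonoidClass.coe_pow, hg]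
  simp

include hp in
theorem card_classes (hr : r.Prime) (hr2 : r ≠ 2) (hrp : r ≠ p) (Q : QuadraticForm F (ι → F))
    (hQ : CfsgLib.Orth.Nondeg Q) (S : F[X] → Prop) (hS : ∀ f, Real r (⇑Q) f ↔ S f) :
    Nat.card {C : ConjClasses ↥(Cfsg.isometryGroup F ⇑Q) //
      ∃ g : ↥(Cfsg.isometryGroup F ⇑Q), ConjClasses.mk g = C ∧ orderOf g = r} = Nat.card {f : F[X] // S f} - 1 := by
  classical
  haveI := Fact.mk hr
  set G := ↥(Cfsg.isometryGroup F ⇑Q)
  have hinv : ∀ g h : G, IsConj g h →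
      ((g : GL ι F) : Matrix ι ι F).charpoly = ((h : GL ι F) : Matrix ι ι F).charpoly := fun g h hgh => by
    obtain ⟨c, hc⟩ := isConj_iff.mp hgh
    rw [← hc, Subgroup.coe_mul, Subgroup.coe_mul, Subgroup.coe_inv, Units.val_mul, Units.val_mul,
      Matrix.coe_units_inv, Matrix.charpoly_units_conj]
  have hss : ∀ g : G, g ^ r = 1 → Module.End.IsSemisimple (Matrix.toLin' ((g : GL ι F) : Matrix ι ι F)) := fun g hg =>
    SemisimpleDet.isSemisimple_of_pow p _ (k := r)
      (fun h => hrp ((Nat.prime_dvd_prime_iff_eq hp.out hr).mp h).symm)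
      (by rw [← Matrix.toLin'_pow, ← Units.val_pow_eq_pow_val, ← SubmonoidClass.coe_pow, hg]; exact Matrix.toLin'_one)
  have hinj : ∀ g h : G, g ^ r = 1 → h ^ r = 1 →
      ((g : GL ι F) : Matrix ι ι F).charpoly = ((h : GL ι F) : Matrix ι ι F).charpoly → IsConj g h := by
    intro g h hg hh hc
    obtain ⟨e, he⟩ := SemisimpleClasses.exists_conj_aux _ _ _ (Matrix.toLin' ((g : GL ι F) : Matrix ι ι F))
      (Matrix.toLin' ((h : GL ι F) : Matrix ι ι F)) rfl (hss g hg) (hss h hh)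
      (by rw [Matrix.charpoly_toLin', Matrix.charpoly_toLin', hc])
    have hdvd := orderOf_dvd_of_pow_eq_one hg
    exact OrthSemisimple.isConj_of_linear (p := p) Q (CfsgLib.Orth.bilin_nondeg hQ) g h
      ((hr.odd_of_ne_two hr2).of_dvd_nat hdvd)
      (Nat.Coprime.coprime_dvd_left hdvd ((Nat.coprime_primes hr hp.out).mpr hrp)) e he
  set T := {C : ConjClasses G | ∃ g : G, ConjClasses.mk g = C ∧ g ^ r = 1}
  have hcount : Nat.card T = Nat.card {f : F[X] // S f} := by
    refine Nat.card_eq_of_bijective (fun C => ⟨((C.2.choose : GL ι F) : Matrix ι ι F).charpoly,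
      (hS _).mp ((real_iff_exists hr.pos _ _).mpr ⟨_, C.2.choose_spec.2, rfl⟩)⟩) ⟨fun C C' h => ?_, ?_⟩
    · apply Subtype.ext
      rw [← C.2.choose_spec.1, ← C'.2.choose_spec.1]
      exact ConjClasses.mk_eq_mk_iff_isConj.mpr
        (hinj _ _ C.2.choose_spec.2 C'.2.choose_spec.2 (congrArg Subtype.val h))
    · rintro ⟨f, hf⟩
      obtain ⟨g, hg, hgc⟩ := (real_iff_exists hr.pos _ _).mp ((hS f).mpr hf)
      let C : T := ⟨ConjClasses.mk g, g, rfl, hg⟩
      refine ⟨C, Subtype.ext ?_⟩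
      show ((C.2.choose : GL ι F) : Matrix ι ι F).charpoly = f
      rw [hinv _ g (ConjClasses.mk_eq_mk_iff_isConj.mp C.2.choose_spec.1), hgc]
  have h1T : ConjClasses.mk 1 ∈ T := ⟨1, rfl, one_pow r⟩
  have e : {C : ConjClasses G | ∃ g : G, ConjClasses.mk g = C ∧ orderOf g = r} = T \ {ConjClasses.mk 1} := by
    ext C
    constructor
    · rintro ⟨g, rfl, hg⟩
      refine ⟨⟨g, rfl, hg ▸ pow_orderOf_eq_one g⟩, fun h => ?_⟩
      have h' := ConjClasses.mk_eq_mk_iff_isConj.mp (Set.mem_singleton_iff.mp h)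
      rw [isConj_one_right.mp h'.symm, orderOf_one] at hg
      exact hr.ne_one hg.symm
    · rintro ⟨⟨g, rfl, hg⟩, hne⟩
      exact ⟨g, rfl, orderOf_eq_prime hg fun h => hne (by rw [h]; rfl)⟩
  have h := congrArg Set.ncard e
  rw [Set.ncard_sdiff_singleton_of_mem h1T, ← Nat.card_coe_set_eq, ← Nat.card_coe_set_eq, hcount] at h
  exact h

end classes

theorem real_one_plus (l : ℕ) : Real r (Cfsg.quadFormPlus l F) ((X - 1) ^ (2 * l)) := by
  have := real_one (r := r) (Cfsg.quadFormPlus l F)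
  rwa [Module.finrank_fintype_fun_eq_card, Fintype.card_sum, Fintype.card_fin, ← two_mul] at this

theorem real_one_minus (l : ℕ) (a b : F) : Real r (Cfsg.quadFormMinus l F a b) ((X - 1) ^ (2 * (l + 1))) := by
  have := real_one (r := r) (Cfsg.quadFormMinus l F a b)
  rwa [Module.finrank_fintype_fun_eq_card, Fintype.card_sum, Fintype.card_sum, Fintype.card_fin, Fintype.card_fin,
    show l + l + 2 = 2 * (l + 1) by ring] at this

theorem real_one_odd (l : ℕ) : Real r (Cfsg.quadFormOdd l F) ((X - 1) ^ (2 * l + 1)) := by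
  have := real_one (r := r) (Cfsg.quadFormOdd l F)
  rwa [Module.finrank_fintype_fun_eq_card, Fintype.card_sum, Fintype.card_sum, Fintype.card_fin, Fintype.card_unit,
    show 1 + (l + l) = 2 * l + 1 by ring] at this

/-- The part without the root `1`: paired blocks or a self-reciprocal one. -/
theorem real_free (hp' : p.Prime) (hD : Facts r i t D) (hr : r.Prime) (hr2 : r ≠ 2) (a b : F)
    (hab : ∀ z₁ z₂ : F, z₁ ^ 2 + a * z₁ * z₂ + b * z₂ ^ 2 = 0 → z₁ = 0 ∧ z₂ = 0)
    {g : F[X]} (hm : g.Monic) (ht : τ g = g) (h1 : g.eval 1 ≠ 0)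
    (hP : ∀ P : F[X], Irreducible P → P.Monic → P ∣ g → P ∈ D) :
    ∃ k, g.natDegree = 2 * k ∧
      ∃ Q : QuadraticForm F (Fin k ⊕ Fin k → F), (QuadraticMap.polarBilin Q).Nondegenerate ∧ Real r (⇑Q) g ∧
        (Odd i → Real r (Cfsg.quadFormPlus k F) g) ∧
        (Iso (⇑Q) (Cfsg.quadFormPlus k F) ∨ ∃ j, k = j + 1 ∧ Iso (⇑Q) (Cfsg.quadFormMinus j F a b)) := by
  classical
  haveI := Fact.mk hp'
  by_cases hodd : Odd i
  · obtain ⟨g₁, hm1, h0, he, hd, hdvd⟩ := exists_half hD hodd hm ht hP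
    obtain ⟨Q, hQ, hQn⟩ := CfsgLib.Orth.exists_quadForm_plus (F := F) g₁.natDegree
    have hre := real_pair (p := p) hr.pos g₁ hm1 rfl h0 hdvd
    rw [← he] at hre
    exact ⟨g₁.natDegree, hd, Q, CfsgLib.Orth.bilin_nondeg hQn, hQ ▸ hre, fun _ => hre,
      Or.inl (hQ ▸ Iso.refl _)⟩
  · obtain ⟨hc, hrev, hdvd⟩ := palindromic hD hodd hm hP
    obtain ⟨k, hk⟩ : ∃ k, g.natDegree = 2 * k := by
      obtain ⟨c, hc⟩ := hdvd
      obtain ⟨j, hj⟩ := Nat.not_odd_iff_even.mp hodd
      exact ⟨j * c, by rw [hc, hj]; ring⟩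
    obtain ⟨Q, hQ, hre⟩ := real_self (p := p) hr.pos (hr.odd_of_ne_two hr2) g hm hk hc hrev h1 fun P hi hd => by
      have hNi := (normalize_associated P).symm.irreducible hi
      exact (normalize_associated P).symm.dvd.trans ((hD.dvd _ hNi (monic_normalize hi.ne_zero)).mpr
        (Or.inr (hP _ hNi (monic_normalize hi.ne_zero) (normalize_dvd_iff.mpr hd))))
    refine ⟨k, hk, Q, hQ, hre, fun h => absurd h hodd, classify_even Q hQ ?_ a b hab⟩
    rw [Module.finrank_fintype_fun_eq_card, Fintype.card_sum, Fintype.card_fin, two_mul]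

theorem real_odd_dim (hp' : p.Prime) (hD : Facts r i t D) (hr : r.Prime) (hr2 : r ≠ 2) (h2 : (2 : F) ≠ 0) {m : ℕ}
    {f : F[X]} (hf : IsT D (2 * m + 1) f) : Real r (Cfsg.quadFormOdd m F) f := by
  classical
  obtain ⟨a, b, hab⟩ := RestrictScalars.exists_ab (F := F)
  obtain ⟨c, g, rfl, hgm, hd, hgt, hg1, hgP⟩ := exists_split_one hD hf
  obtain ⟨k, hk, Q, hQ, hre, -, -⟩ := real_free hp' hD hr hr2 a b hab hgm hgt hg1 hgP
  obtain ⟨l, rfl⟩ : ∃ l, c = 2 * l + 1 := ⟨m - k, by omega⟩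
  obtain ⟨R, hR, hRn⟩ := CfsgLib.Orth.exists_quadForm_odd h2 l
  have hnd : ∀ v, (∀ w, QuadraticMap.polar (Q.prod R) v w = 0) → v = 0 := fun v hv => by
    refine Prod.ext (hQ.1 v.1 fun w => ?_) (hRn v.2 fun w => ?_)
    · simpa [QuadraticMap.polar] using hv (w, 0)
    · simpa [QuadraticMap.polar] using hv (0, w)
  obtain ⟨s, hs, hiso⟩ := classify_odd (Q.prod R)
    ⟨hnd, fun v hv => hnd v fun w => by rw [QuadraticMap.polar_comm]; exact hv w⟩ (m := m)
    (by simp [Module.finrank_fintype_fun_eq_card]; omega)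
  have h1 : Real r (⇑(Q.prod R)) (g * (X - 1) ^ (2 * l + 1)) := by
    have h := hre.sum (real_one_odd (r := r) l)
    rw [← hR] at h
    exact Real.of_iso ⟨LinearEquiv.refl F _, fun x => by simp [add]⟩ h
  rw [mul_comm]
  exact Real.of_scale hs (h1.of_iso hiso)

theorem real_plus_of_root (hp' : p.Prime) (hD : Facts r i t D) (hr : r.Prime) (hr2 : r ≠ 2) (a b : F)
    (hab : ∀ z₁ z₂ : F, z₁ ^ 2 + a * z₁ * z₂ + b * z₂ ^ 2 = 0 → z₁ = 0 ∧ z₂ = 0) {m : ℕ}
    {f : F[X]} (hf : IsT D (2 * (m + 1)) f) :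
    (f.eval 1 = 0 → Real r (Cfsg.quadFormPlus (m + 1) F) f ∧ Real r (Cfsg.quadFormMinus m F a b) f) ∧
      (Odd i → Real r (Cfsg.quadFormPlus (m + 1) F) f) ∧
      (Real r (Cfsg.quadFormPlus (m + 1) F) f ∨ Real r (Cfsg.quadFormMinus m F a b) f) := by
  classical
  obtain ⟨c, g, rfl, hgm, hd, hgt, hg1, hgP⟩ := exists_split_one hD hf
  obtain ⟨k, hk, Q, hQ, hre, hodd, hiso⟩ := real_free hp' hD hr hr2 a b hab hgm hgt hg1 hgP
  obtain ⟨l, rfl⟩ : ∃ l, c = 2 * l := ⟨m + 1 - k, by omega⟩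
  have hkl : k + l = m + 1 := by omega
  have hplus : Real r (Cfsg.quadFormPlus k F) g → Real r (Cfsg.quadFormPlus (m + 1) F) ((X - 1) ^ (2 * l) * g) := by
    intro h
    have := (h.sum (real_one_plus (r := r) l)).of_iso (plus_plus k l)
    rw [hkl, mul_comm] at this
    exact this
  have hroot : eval 1 ((X - 1) ^ (2 * l) * g) = 0 → ∃ l', l = l' + 1 := fun h => by
    rcases l with _ | l
    · simp at h; exact absurd h hg1
    · exact ⟨l, rfl⟩
  rcases hiso with hiso | ⟨j, rfl, hiso⟩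
  · have h := hre.of_iso hiso
    refine ⟨fun he => ⟨hplus h, ?_⟩, fun _ => hplus h, Or.inl (hplus h)⟩
    obtain ⟨l', rfl⟩ := hroot he
    have := (h.sum (real_one_minus (r := r) l' a b)).of_iso (plus_minus k l' a b)
    rwa [show k + l' = m by omega, mul_comm] at this
  · have h := hre.of_iso hiso
    have hminus : Real r (Cfsg.quadFormMinus m F a b) ((X - 1) ^ (2 * l) * g) := by
      have := ((real_one_plus (r := r) l).sum h).of_iso (plus_minus l j a b)
      rwa [show l + j = m by omega] at this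
    refine ⟨fun he => ⟨?_, hminus⟩, fun ho => hplus (hodd ho), Or.inr hminus⟩
    obtain ⟨l', rfl⟩ := hroot he
    have := (h.sum (real_one_minus (r := r) l' a b)).of_iso (minus_minus j l' a b hab)
    rwa [show j + l' + 2 = m + 1 by omega, mul_comm] at this

theorem dvd_of_free (hD : Facts r i t D) (heven : ¬ Odd i) {d : ℕ} {f : F[X]} (hf : IsT D d f) (h1 : f.eval 1 ≠ 0) :
    i ∣ d := by
  rw [← hf.2.1]
  refine (palindromic hD heven hf.1 fun P hi hm hd => (hf.2.2.2 P hi hm hd).resolve_left ?_).2.2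
  rintro rfl
  rw [← map_one C, dvd_iff_isRoot] at hd
  exact h1 hd

/-- The sign of `q ^ m` modulo `r`, and `q` is not `1` there. -/
theorem sign_mod (hr : r.Prime) (hr2 : r ≠ 2) (hi : i = orderOf (q : ZMod r)) (hi0 : 0 < i) (heven : ¬ Odd i) {m : ℕ}
    (hd : i ∣ 2 * m) : (q : ZMod r) ^ m = (-1) ^ (2 * m / i) ∧ (2 : ZMod r) * ((q : ZMod r) - 1) ≠ 0 := by
  haveI := Fact.mk hr
  obtain ⟨j, hj⟩ := Nat.not_odd_iff_even.mp heven
  have hq : (q : ZMod r) ^ j = -1 := by
    have h2 : ((q : ZMod r) ^ j) * ((q : ZMod r) ^ j) = 1 := by rw [← pow_add, ← hj, hi, pow_orderOf_eq_one]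
    refine (mul_self_eq_one_iff.mp h2).resolve_left fun h => ?_
    have := Nat.le_of_dvd (by omega) (orderOf_dvd_of_pow_eq_one h)
    rw [← hi] at this
    omega
  obtain ⟨n, hn⟩ := hd
  refine ⟨?_, mul_ne_zero (fun h => hr2 ?_) (sub_ne_zero.mpr fun h => heven ?_)⟩
  · rw [hn, Nat.mul_div_cancel_left _ hi0, ← hq, ← pow_mul]
    congr 1
    rw [hj, add_mul] at hn
    omega
  · have h' : ((2 : ℕ) : ZMod r) = 0 := by exact_mod_cast h
    exact (Nat.prime_dvd_prime_iff_eq hr Nat.prime_two).mp ((ZMod.natCast_eq_zero_iff _ _).mp h')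
  · rw [hi, h, orderOf_one]; exact odd_one

theorem card_restrict (hD : Facts r i t D) {m : ℕ} (P : Prop) [Decidable P] :
    Nat.card {f : F[X] // IsT D (2 * m) f ∧ (f.eval 1 = 0 ∨ ¬ P)} =
      Nat.card {f : F[X] // IsT D (2 * m) f} - if P then Nat.card {f : F[X] // IsT D (2 * m) f ∧ f.eval 1 ≠ 0} else 0 := by
  classical
  by_cases hP : P
  · rw [if_pos hP, Nat.card_congr (Equiv.subtypeEquivRight (q := fun f => IsT D (2 * m) f ∧ f.eval 1 = 0)
      fun f => by simp [hP])]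
    haveI : Finite {f : F[X] // IsT D (2 * m) f} := Nat.finite_of_card_ne_zero (by
      rw [card_isT hD]; split_ifs <;> exact (Nat.choose_pos (Nat.le_add_left _ _)).ne')
    have hsum := Nat.card_congr (Equiv.sumCompl fun f : {f : F[X] // IsT D (2 * m) f} => f.1.eval 1 = 0)
    rw [Nat.card_sum, Nat.card_congr (Equiv.subtypeSubtypeEquivSubtypeInter _ (fun f : F[X] => f.eval 1 = 0)),
      Nat.card_congr (Equiv.subtypeSubtypeEquivSubtypeInter _ (fun f : F[X] => ¬ f.eval 1 = 0))] at hsum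
    simp only [ne_eq] at hsum ⊢
    omega
  · rw [if_neg hP, Nat.sub_zero]
    exact Nat.card_congr (Equiv.subtypeEquivRight fun f => by simp [hP])

include hp in
theorem card_classes_odd (hF : Fintype.card F = q) (hq : Odd q) (m : ℕ) (hr : r.Prime) (hr2 : r ≠ 2) (hrp : r ≠ p)
    (hi : i = orderOf (q : ZMod r)) (ht : t * i = r - 1) :
    Nat.card {C : ConjClasses ↥(Cfsg.isometryGroup F (Cfsg.quadFormOdd m F)) //
      ∃ g : ↥(Cfsg.isometryGroup F (Cfsg.quadFormOdd m F)), ConjClasses.mk g = C ∧ orderOf g = r} =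
      if Odd i then Nat.choose (m / i + t / 2) (t / 2) - 1 else Nat.choose ((2 * m + 1) / i + t) t - 1 := by
  classical
  have h2 : (2 : F) ≠ 0 := Ring.two_ne_zero fun h => by
    have := FiniteField.even_card_of_char_two (F := F) h
    rw [hF] at this
    exact absurd hq (Nat.not_odd_iff.mpr this)
  obtain ⟨D, hD⟩ := exists_facts (p := p) hF r i t hr hr2 hrp hi ht
  obtain ⟨Q, hQ, hQn⟩ := CfsgLib.Orth.exists_quadForm_odd h2 m
  rw [← hQ, card_classes (p := p) hr hr2 hrp Q hQn (IsT D (2 * m + 1)) fun f => ⟨fun h => ?_, fun h => ?_⟩,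
    card_isT hD]
  · split_ifs with h
    · congr 3
      have hpi := hD.pos
      rw [← Nat.div_div_eq_div_mul, show (2 * m + 1) / 2 = m by omega]
    · rfl
  · have := isT_of_real hD hr.pos Q hQn h
    rwa [Fintype.card_sum, Fintype.card_sum, Fintype.card_unit, Fintype.card_fin,
      show 1 + (m + m) = 2 * m + 1 by ring] at this
  · rw [hQ]; exact real_odd_dim hp.out hD hr hr2 h2 h

include hp in
theorem card_classes_plus (hF : Fintype.card F = q) (m : ℕ) (hm : 1 ≤ m) (hr : r.Prime) (hr2 : r ≠ 2) (hrp : r ≠ p)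
    (hi : i = orderOf (q : ZMod r)) (ht : t * i = r - 1) :
    Nat.card {C : ConjClasses ↥(Cfsg.isometryGroup F (Cfsg.quadFormPlus m F)) //
      ∃ g : ↥(Cfsg.isometryGroup F (Cfsg.quadFormPlus m F)), ConjClasses.mk g = C ∧ orderOf g = r} =
      if Odd i then Nat.choose (m / i + t / 2) (t / 2) - 1
      else Nat.choose (2 * m / i + t) t - 1 -
        (if i ∣ 2 * m ∧ Odd (2 * m / i) then Nat.choose (2 * m / i + t - 1) (t - 1) else 0) := by
  classical
  obtain ⟨a, b, hab⟩ := RestrictScalars.exists_ab (F := F)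
  obtain ⟨D, hD⟩ := exists_facts (p := p) hF r i t hr hr2 hrp hi ht
  obtain ⟨m, rfl⟩ : ∃ j, m = j + 1 := ⟨m - 1, by omega⟩
  obtain ⟨Q, hQ, hQn⟩ := CfsgLib.Orth.exists_quadForm_plus (F := F) (m + 1)
  rw [← hQ, card_classes (p := p) hr hr2 hrp Q hQn
    (fun f => IsT D (2 * (m + 1)) f ∧ (f.eval 1 = 0 ∨ ¬ (¬ Odd i ∧ i ∣ 2 * (m + 1) ∧ Odd (2 * (m + 1) / i))))
    fun f => ⟨fun h => ?_, fun h => ?_⟩, card_restrict hD, card_isT hD, card_isT_free hD (by omega) hr hr2 ht,
    Nat.mul_div_mul_left _ i two_pos]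
  · by_cases ho : Odd i
    · simp [ho]
    · simp only [ho, if_false, not_false_iff, true_and]
      split_ifs with h1 h2 <;> omega
  · have hT := isT_of_real hD hr.pos Q hQn h
    rw [Fintype.card_sum, Fintype.card_fin, ← two_mul] at hT
    refine ⟨hT, or_iff_not_imp_left.mpr fun h1 ⟨ho, hd, hN⟩ => ?_⟩
    haveI := Fact.mk hr
    have hpar := plus_parity hr (hQ ▸ h) h1
    obtain ⟨hs, hne⟩ := sign_mod hr hr2 hi hD.pos ho hd
    rw [hF, hs, hN.neg_one_pow] at hpar
    exact hne (by linear_combination -hpar)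
  · rw [hQ]
    obtain ⟨hT, hg⟩ := h
    obtain ⟨h1, h2, h3⟩ := real_plus_of_root hp.out hD hr hr2 a b hab hT
    by_cases he : f.eval 1 = 0
    · exact (h1 he).1
    by_cases ho : Odd i
    · exact h2 ho
    refine h3.resolve_right fun hm' => ?_
    have hd := dvd_of_free hD ho hT he
    have hN : ¬ Odd (2 * (m + 1) / i) := fun hN => (hg.resolve_left he) ⟨ho, hd, hN⟩
    haveI := Fact.mk hr
    have hpar := minus_parity hr a b hab hm' he
    obtain ⟨hs, hne⟩ := sign_mod hr hr2 hi hD.pos ho hd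
    rw [hF, hs, (Nat.not_odd_iff_even.mp hN).neg_one_pow] at hpar
    exact hne (by linear_combination -hpar)

include hp in
theorem card_classes_minus (hF : Fintype.card F = q) (m : ℕ) (hm : 1 ≤ m) (a c : F)
    (hac : ∀ z₁ z₂ : F, z₁ ^ 2 + a * z₁ * z₂ + c * z₂ ^ 2 = 0 → z₁ = 0 ∧ z₂ = 0)
    (hr : r.Prime) (hr2 : r ≠ 2) (hrp : r ≠ p) (hi : i = orderOf (q : ZMod r)) (ht : t * i = r - 1) :
    Nat.card {C : ConjClasses ↥(Cfsg.isometryGroup F (Cfsg.quadFormMinus (m - 1) F a c)) //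
      ∃ g : ↥(Cfsg.isometryGroup F (Cfsg.quadFormMinus (m - 1) F a c)), ConjClasses.mk g = C ∧ orderOf g = r} =
      if Odd i then Nat.choose (m / i + t / 2) (t / 2) - 1 -
        (if i ∣ m then Nat.choose (m / i + t / 2 - 1) (t / 2 - 1) else 0)
      else Nat.choose (2 * m / i + t) t - 1 -
        (if i ∣ 2 * m ∧ Even (2 * m / i) then Nat.choose (2 * m / i + t - 1) (t - 1) else 0) := by
  classical
  obtain ⟨D, hD⟩ := exists_facts (p := p) hF r i t hr hr2 hrp hi ht
  obtain ⟨m, rfl⟩ : ∃ j, m = j + 1 := ⟨m - 1, by omega⟩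
  rw [Nat.add_sub_cancel]
  obtain ⟨Q, hQ, hQn⟩ := CfsgLib.Orth.exists_quadForm_minus m hac
  rw [← hQ, card_classes (p := p) hr hr2 hrp Q hQn
    (fun f => IsT D (2 * (m + 1)) f ∧ (f.eval 1 = 0 ∨ ¬ (Odd i ∨ i ∣ 2 * (m + 1) ∧ Even (2 * (m + 1) / i))))
    fun f => ⟨fun h => ?_, fun h => ?_⟩, card_restrict hD, card_isT hD, card_isT_free hD (by omega) hr hr2 ht,
    Nat.mul_div_mul_left _ i two_pos]
  · by_cases ho : Odd i
    · simp only [ho, if_true, true_or]
      omega
    · simp only [ho, if_false, false_or]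
      split_ifs with h1 h2 <;> omega
  · have hT := isT_of_real hD hr.pos Q hQn h
    rw [Fintype.card_sum, Fintype.card_sum, Fintype.card_fin, Fintype.card_fin,
      show m + m + 2 = 2 * (m + 1) by ring] at hT
    refine ⟨hT, or_iff_not_imp_left.mpr fun h1 hP => ?_⟩
    rw [hQ] at h
    rcases hP with ho | ⟨hd, hN⟩
    · exact not_both (p := p) (hr.odd_of_ne_two hr2) a c hac
        (fun hd => hrp ((Nat.prime_dvd_prime_iff_eq hp.out hr).mp hd).symm)
        ((real_plus_of_root hp.out hD hr hr2 a c hac hT).2.1 ho) h h1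
    · have ho : ¬ Odd i := fun ho => not_both (p := p) (hr.odd_of_ne_two hr2) a c hac
        (fun hd => hrp ((Nat.prime_dvd_prime_iff_eq hp.out hr).mp hd).symm)
        ((real_plus_of_root hp.out hD hr hr2 a c hac hT).2.1 ho) h h1
      haveI := Fact.mk hr
      have hpar := minus_parity hr a c hac h h1
      obtain ⟨hs, hne⟩ := sign_mod hr hr2 hi hD.pos ho hd
      rw [hF, hs, hN.neg_one_pow] at hpar
      exact hne (by linear_combination -hpar)
  · rw [hQ]
    obtain ⟨hT, hg⟩ := h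
    obtain ⟨h1, h2, h3⟩ := real_plus_of_root hp.out hD hr hr2 a c hac hT
    by_cases he : f.eval 1 = 0
    · exact (h1 he).2
    have hg := hg.resolve_left he
    have ho : ¬ Odd i := fun ho => hg (Or.inl ho)
    refine h3.resolve_left fun hp' => ?_
    have hd := dvd_of_free hD ho hT he
    have hN : ¬ Even (2 * (m + 1) / i) := fun hN => hg (Or.inr ⟨hd, hN⟩)
    haveI := Fact.mk hr
    have hpar := plus_parity hr hp' he
    obtain ⟨hs, hne⟩ := sign_mod hr hr2 hi hD.pos ho hd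
    rw [hF, hs, (Nat.not_even_iff_odd.mp hN).neg_one_pow] at hpar
    exact hne (by linear_combination -hpar)

end CfsgLib.Classical.OrthPrimeCount
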