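import Cfsg.Agent.Lib.Classical.OrthSubfieldRoots
import Cfsg.Agent.Lib.Classical.OrthStab
import Cfsg.Agent.Lib.Classical.OrthSub
import Cfsg.Agent.Lib.SL2.TwoRoots

/-!
Subfield subgroups of prime degree are maximal in the commutator subgroup of a finite orthogonal
group of dimension at least 7.

A root element of `M` on a line which is not rational meets a rational totally singular 3-space `U`
in a way that, with the root elements of `U`, generates an `SL₂` on a quotient; a diagonal element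
of it gives a root element of `U` with an irrational coordinate.
-/

set_option autoImplicit false
set_option linter.unusedSectionVars false

namespace CfsgLib.Orth.Rat

open Matrix
open scoped MatrixGroups

variable {F : Type*} [Field F] [Finite F] {ι : Type} [Fintype ι] [DecidableEq ι]
variable {Q : QuadraticForm F (ι → F)} {F₀ : Subfield F} {P : GL ι F}
variable {Q₀ : QuadraticForm F₀ (ι → F₀)} {r : ℕ}

local notation "B" => QuadraticMap.polar (DFunLike.coe Q)
local notation "B₀" => QuadraticMap.polar (DFunLike.coe Q₀)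

/-! ### The subfield group -/

omit [Finite F] in
theorem emb_mem_subfield {h : GL ι F}
    (hh : ∀ u : ι → F₀, ∃ u' : ι → F₀, (h : Matrix ι ι F) *ᵥ emb P u = emb P u') :
    h ∈ Cfsg.Geo.subfieldSubgroup F₀ P := by
  obtain ⟨N, hN⟩ : ∃ N, N = P⁻¹ * h * P := ⟨_, rfl⟩
  have key : ∀ u : ι → F₀, ∃ u' : ι → F₀, (N : Matrix ι ι F) *ᵥ (fun i => (u i : F)) = fun i => (u' i : F) := by
    intro u
    obtain ⟨u', hu'⟩ := hh u
    refine ⟨u', ?_⟩
    rw [hN, Units.val_mul, Units.val_mul, ← mulVec_mulVec, ← mulVec_mulVec]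
    show _ *ᵥ ((h : Matrix ι ι F) *ᵥ emb P u) = _
    rw [hu', emb, mulVec_mulVec, Units.inv_mul, one_mulVec]
  have hent : ∀ i j, (N : Matrix ι ι F) i j ∈ F₀ := fun i j => by
    obtain ⟨u', hu'⟩ := key (Pi.single j 1)
    have e : (fun k => ((Pi.single j (1 : F₀) : ι → F₀) k : F)) = Pi.single j (1 : F) := funext fun k => by
      rcases eq_or_ne k j with rfl | h' <;> simp [Pi.single_eq_of_ne, *]
    rw [e, mulVec_single_one] at hu'
    have := congrFun hu' i
    rw [Matrix.col_apply] at this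
    rw [this]; exact (u' i).2
  obtain ⟨N₀, hN₀⟩ : ∃ N₀ : Matrix ι ι F₀, N₀.map F₀.subtype = (N : Matrix ι ι F) :=
    ⟨fun i j => ⟨_, hent i j⟩, rfl⟩
  have hdet : N₀.det ≠ 0 := fun e => by
    have h1 := RingHom.map_det F₀.subtype N₀
    rw [e, map_zero, RingHom.mapMatrix_apply, hN₀] at h1
    exact ((Matrix.isUnit_iff_isUnit_det _).1 N.isUnit).ne_zero h1.symm
  refine ⟨N, Subgroup.mem_sup_left ⟨Matrix.GeneralLinearGroup.mkOfDetNeZero N₀ hdet, Units.ext hN₀⟩, ?_⟩
  show P * N * P⁻¹ = h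
  rw [hN]; group

omit [Finite F] in
theorem emb_smul_mem_subfield {h : GL ι F} {c : F} (hc : c ≠ 0)
    (hh : ∀ u : ι → F₀, ∃ u' : ι → F₀, (h : Matrix ι ι F) *ᵥ emb P u = c • emb P u') :
    h ∈ Cfsg.Geo.subfieldSubgroup F₀ P := by
  obtain ⟨S, hS⟩ : ∃ S : GL ι F, (S : Matrix ι ι F) = c • (1 : Matrix ι ι F) :=
    ⟨Units.map (Matrix.scalar ι : F →+* Matrix ι ι F).toMonoidHom (Units.mk0 c hc),
      by simp [Matrix.smul_one_eq_diagonal]⟩
  have hSmem : S ∈ Cfsg.Geo.scalars ι F := (Cfsg.Geo.mem_scalars_iff S).2 ⟨Units.mk0 c hc, hS⟩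
  have hS' : S ∈ Cfsg.Geo.subfieldSubgroup F₀ P := ⟨S, Subgroup.mem_sup_right hSmem, Units.ext (by
    simp only [MulEquiv.coe_toMonoidHom, MulAut.conj_apply, Units.val_mul, hS, Matrix.mul_smul,
      Matrix.mul_one, Matrix.smul_mul]
    rw [← Units.val_mul, mul_inv_cancel, Units.val_one])⟩
  have h' : S⁻¹ * h ∈ Cfsg.Geo.subfieldSubgroup F₀ P := by
    refine emb_mem_subfield fun u => ?_
    obtain ⟨u', hu'⟩ := hh u
    refine ⟨u', ?_⟩
    have hSr : c • emb P u' = (S : Matrix ι ι F) *ᵥ emb P u' := by rw [hS, smul_mulVec, one_mulVec]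
    rw [Units.val_mul, ← mulVec_mulVec, hu', hSr, mulVec_mulVec, Units.inv_mul, one_mulVec]
  have := mul_mem hS' h'
  rwa [mul_inv_cancel_left] at this

omit [Finite F] in
theorem subfield_maps {h : GL ι F} (hh : h ∈ Cfsg.Geo.subfieldSubgroup F₀ P) :
    ∃ c : F, c ≠ 0 ∧ ∀ u : ι → F₀, ∃ u' : ι → F₀, (h : Matrix ι ι F) *ᵥ emb P u = c • emb P u' := by
  obtain ⟨N, hN, rfl⟩ := hh
  obtain ⟨M', hM', S, hS, rfl⟩ := Subgroup.mem_sup_of_normal_right.1 hN
  obtain ⟨M₀, rfl⟩ := hM'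
  obtain ⟨c, hc⟩ := (Cfsg.Geo.mem_scalars_iff S).1 hS
  refine ⟨c, c.ne_zero, fun u => ⟨(M₀ : Matrix ι ι F₀) *ᵥ u, ?_⟩⟩
  have e : (fun i => (((M₀ : Matrix ι ι F₀) *ᵥ u) i : F)) =
      (Matrix.GeneralLinearGroup.map F₀.subtype M₀ : Matrix ι ι F) *ᵥ fun i => (u i : F) := funext fun i => by
    simp [mulVec, dotProduct]
  simp only [emb, e, MulEquiv.coe_toMonoidHom, MulAut.conj_apply, Units.val_mul, ← mulVec_mulVec, hc,
    smul_mulVec, one_mulVec, mulVec_smul]
  rw [mulVec_mulVec _ ((P⁻¹ : GL ι F) : Matrix ι ι F), Units.inv_mul, one_mulVec]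

/-! ### The Galois map -/

theorem exists_frob (F₀ : Subfield F) : ∃ σ : F →+* F, ∀ x, σ x = x ↔ x ∈ F₀ := by
  classical
  let _ := Fintype.ofFinite F
  let _ := Fintype.ofFinite F₀
  obtain ⟨p, hchar⟩ := CharP.exists F
  obtain ⟨e, hp, hcard⟩ := FiniteField.card F p
  have : Fact p.Prime := ⟨hp⟩
  have : CharP F₀ p := (F₀.subtype.charP_iff F₀.subtype.injective p).2 hchar
  obtain ⟨a, -, ha⟩ := FiniteField.card F₀ p
  have hq : (2 : ℕ) ≤ p ^ (a : ℕ) := ha ▸ Fintype.one_lt_card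
  refine ⟨iterateFrobenius F p a, fun x => ⟨fun h => ?_, fun h => ?_⟩⟩
  · rw [iterateFrobenius_def] at h
    by_contra hx
    obtain ⟨f, hf⟩ : ∃ f : Polynomial F, f = Polynomial.X ^ p ^ (a : ℕ) - Polynomial.X := ⟨_, rfl⟩
    have hf0 : f ≠ 0 := hf ▸ FiniteField.X_pow_card_sub_X_ne_zero F hq
    have hsub : insert x ((Finset.univ : Finset F₀).map ⟨Subtype.val, Subtype.val_injective⟩) ⊆
        f.roots.toFinset := by
      intro y hy
      rw [Multiset.mem_toFinset, Polynomial.mem_roots hf0, Polynomial.IsRoot, hf]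
      rcases Finset.mem_insert.1 hy with rfl | hy
      · simp [h]
      · obtain ⟨z, -, rfl⟩ := Finset.mem_map.1 hy
        have := congrArg Subtype.val (FiniteField.pow_card z)
        rw [SubmonoidClass.coe_pow, ha] at this
        simp [this]
    have h1 := (Finset.card_le_card hsub).trans ((Multiset.toFinset_card_le _).trans (Polynomial.card_roots' f))
    rw [Finset.card_insert_of_notMem (by simpa using hx), Finset.card_map, Finset.card_univ, ha, hf,
      FiniteField.X_pow_card_sub_X_natDegree_eq F (by omega)] at h1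
    omega
  · have := congrArg Subtype.val (FiniteField.pow_card (⟨x, h⟩ : F₀))
    rw [SubmonoidClass.coe_pow, ha] at this
    rw [iterateFrobenius_def]
    exact this

/-- The semilinear map fixing the rational vectors. -/
def sg (P : GL ι F) (σ : F →+* F) (x : ι → F) : ι → F :=
  (P : Matrix ι ι F) *ᵥ fun i => σ ((((P⁻¹ : GL ι F) : Matrix ι ι F) *ᵥ x) i)

variable {σ : F →+* F}

omit [Finite F] in
theorem sg_add (x y : ι → F) : sg P σ (x + y) = sg P σ x + sg P σ y := by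
  rw [sg, sg, sg, ← mulVec_add, mulVec_add ((P⁻¹ : GL ι F) : Matrix ι ι F)]
  congr 1
  funext i
  simp

omit [Finite F] in
theorem sg_smul (c : F) (x : ι → F) : sg P σ (c • x) = σ c • sg P σ x := by
  rw [sg, sg, ← mulVec_smul, mulVec_smul ((P⁻¹ : GL ι F) : Matrix ι ι F)]
  congr 1
  funext i
  simp

omit [Finite F] in
theorem sg_zero : sg P σ (0 : ι → F) = 0 := by
  have := sg_smul (P := P) (σ := σ) 0 (0 : ι → F)
  rwa [zero_smul, map_zero, zero_smul] at this

variable (hσ : ∀ x, σ x = x ↔ x ∈ F₀)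
include hσ

omit [Finite F] in
theorem sg_emb (u : ι → F₀) : sg P σ (emb P u) = emb P u := by
  rw [sg, emb, mulVec_mulVec, Units.inv_mul, one_mulVec]
  exact congrArg _ (funext fun i => (hσ _).2 (u i).2)

omit [Finite F] in
theorem exists_of_sg_eq {x : ι → F} (h : sg P σ x = x) : ∃ u : ι → F₀, x = emb P u := by
  have h' := congrArg (fun v => ((P⁻¹ : GL ι F) : Matrix ι ι F) *ᵥ v) h
  simp only [sg, mulVec_mulVec, Units.inv_mul, one_mulVec] at h'
  refine ⟨fun i => ⟨_, (hσ _).1 (congrFun h' i)⟩, ?_⟩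
  rw [emb, mulVec_mulVec, Units.mul_inv, one_mulVec]

omit [Finite F] in
/-- A point fixed by the Galois map is rational. -/
theorem exists_of_point {x : ι → F} (h : ∃ c : F, sg P σ x = c • x) :
    ∃ (c : F) (u : ι → F₀), x = c • emb P u := by
  classical
  obtain ⟨c, hc⟩ := h
  obtain ⟨y, hy⟩ : ∃ y, y = ((P⁻¹ : GL ι F) : Matrix ι ι F) *ᵥ x := ⟨_, rfl⟩
  by_cases hy0 : ∀ i, y i = 0
  · refine ⟨0, 0, ?_⟩
    rw [zero_smul, ← one_mulVec x, ← Units.mul_inv P, ← mulVec_mulVec, ← hy, funext hy0]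
    exact mulVec_zero _
  push Not at hy0
  obtain ⟨j, hj⟩ := hy0
  have hcy : σ (y j) = c * y j := by
    have h' := congrArg (fun v => ((P⁻¹ : GL ι F) : Matrix ι ι F) *ᵥ v) hc
    simp only [sg, mulVec_mulVec, Units.inv_mul, one_mulVec, mulVec_smul, ← hy] at h'
    simpa using congrFun h' j
  have hσj : σ (y j) ≠ 0 := (map_ne_zero σ).2 hj
  obtain ⟨u, hu⟩ := exists_of_sg_eq hσ (x := (y j)⁻¹ • x) (by
    rw [sg_smul, hc, smul_smul, map_inv₀, hcy]
    congr 1
    have hc0 : c ≠ 0 := fun e => hσj (by rw [hcy, e, zero_mul])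
    field_simp)
  exact ⟨y j, u, by rw [← hu, smul_smul, mul_inv_cancel₀ hj, one_smul]⟩

variable (D : Str Q F₀ P Q₀ r)
include D

omit hσ in
theorem b_emb_zero {u v : ι → F₀} (h : B₀ u v = 0) : B (emb P u) (emb P v) = 0 := by
  rw [b_emb D, h, ZeroMemClass.coe_zero]

omit hσ in
theorem b_emb_one {u v : ι → F₀} (h : B₀ u v = 1) : B (emb P u) (emb P v) = 1 := by
  rw [b_emb D, h, OneMemClass.coe_one]

omit hσ in
theorem q_emb_zero {u : ι → F₀} (h : Q₀ u = 0) : Q (emb P u) = 0 := by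
  rw [q_emb D, h, ZeroMemClass.coe_zero]

/-- A vector with rational products against the rational vectors is rational. -/
theorem sg_eq_of_products {a : ι → F} (h : ∀ u : ι → F₀, B (emb P u) a ∈ F₀) : sg P σ a = a := by
  have key : ∀ u : ι → F₀, B (emb P u) (sg P σ a) = σ (B (emb P u) a) := fun u => by
    obtain ⟨γ, hγ⟩ : ∃ γ : ι → F, γ = ((P⁻¹ : GL ι F) : Matrix ι ι F) *ᵥ a := ⟨_, rfl⟩
    have e1 := sum_emb_single (F₀ := F₀) (P := P) a
    rw [← hγ] at e1
    let f : (ι → F) →+ (ι → F) := { toFun := sg P σ, map_zero' := sg_zero, map_add' := sg_add }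
    have e2 : sg P σ a = ∑ j, σ (γ j) • emb P (Pi.single j (1 : F₀)) := by
      conv_lhs => rw [e1]
      show f _ = _
      rw [map_sum]
      exact Finset.sum_congr rfl fun j _ => show sg P σ _ = _ by rw [sg_smul, sg_emb hσ]
    rw [e2]
    conv_rhs => rw [e1]
    rw [← QuadraticMap.polarBilin_apply_apply, ← QuadraticMap.polarBilin_apply_apply, map_sum, map_sum,
      map_sum]
    refine Finset.sum_congr rfl fun j _ => ?_
    rw [map_smul, map_smul, smul_eq_mul, smul_eq_mul, map_mul, QuadraticMap.polarBilin_apply_apply,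
      b_emb D, (hσ _).2 (SetLike.coe_mem _)]
  refine sub_eq_zero.1 (D.nd _ fun y => ?_)
  have hj : ∀ j, QuadraticMap.polarBilin Q (sg P σ a - a) (emb P (Pi.single j (1 : F₀))) = 0 := fun j => by
    rw [QuadraticMap.polarBilin_apply_apply, b_comm, b_sub_right, key, (hσ _).2 (h _), sub_self]
  rw [sum_emb_single (F₀ := F₀) (P := P) y, ← QuadraticMap.polarBilin_apply_apply, map_sum]
  exact Finset.sum_eq_zero fun j _ => by rw [map_smul, hj, smul_zero]

omit hσ in
theorem span_singular {p : (ι → F₀) → Prop} (h0 : p 0) (hadd : ∀ u v, p u → p v → p (u + v))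
    (hsmul : ∀ (k : F₀) u, p u → p (k • u)) (hs : ∀ u, Q₀ u = 0 → p u) (x : ι → F₀) : p x := by
  obtain ⟨u, hu0, hu, -⟩ := exists_perp D ∅ (by simp)
  obtain ⟨f, hf, huf⟩ := exists_partner (nd₀ D) hu hu0
  induction le_span_singular_in (S := ⊤) trivial trivial hu hf huf (x := x) trivial using
    Submodule.span_induction with
  | mem y hy => exact hs y hy.2
  | zero => exact h0
  | add a b _ _ ha hb => exact hadd a b ha hb
  | smul k a _ ha => exact hsmul k a ha

/-! ### A moved line -/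

/-- If an element maps every rational line to a rational line, it lies in the subfield group. -/
theorem exists_scalar_of_lines (g : Grp Q)
    (h : ∀ x y : ι → F₀, Pr Q₀ x y → ∀ z : ι → F, z = ap g (emb P x) ∨ z = ap g (emb P y) →
      sg P σ z ∈ Submodule.span F ({ap g (emb P x), ap g (emb P y)} : Set (ι → F))) :
    (g : GL ι F) ∈ Cfsg.Geo.subfieldSubgroup F₀ P := by
  classical
  -- points go to rational points
  have hpt : ∀ u : ι → F₀, Q₀ u = 0 → u ≠ 0 →
      ∃ (c : F) (u' : ι → F₀), ap g (emb P u) = c • emb P u' := by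
    intro u hu hu0
    obtain ⟨v₁, hp₁, -⟩ := exists_pr_perp D hu hu0 ∅ (by simp)
    obtain ⟨fu, fv, -, -, -, hv₁fv, hufv, -, -⟩ := exists_two_duals D hp₁
    obtain ⟨v₂, hp₂, hs⟩ := exists_pr_perp D hu hu0 {fv} (by simp)
    have hv₂fv : B₀ fv v₂ = 0 := hs fv (by simp)
    obtain ⟨α, β, h1⟩ := Submodule.mem_span_pair.1 (h u v₁ hp₁ _ (Or.inl rfl))
    obtain ⟨α', γ, h2⟩ := Submodule.mem_span_pair.1 (h u v₂ hp₂ _ (Or.inl rfl))
    have e := congrArg (fun z => B z (ap g (emb P fv))) (h1.trans h2.symm)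
    simp only [b_add_left, b_smul_left, ap_b, b_emb_zero D hufv, b_emb_one D hv₁fv,
      b_emb_zero D (show B₀ v₂ fv = 0 by rw [b_comm]; exact hv₂fv), mul_zero, mul_one, add_zero,
      zero_add] at e
    rw [e, zero_smul, add_zero] at h1
    exact exists_of_point hσ ⟨α, h1.symm⟩
  -- multipliers agree on orthogonal pairs
  obtain ⟨u₀, hu₀0, hu₀, -⟩ := exists_perp D ∅ (by simp)
  obtain ⟨c, u₀', hc⟩ := hpt u₀ hu₀ hu₀0
  have hc0 : c ≠ 0 := fun e => hu₀0 (emb_inj (P := P) (by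
    rw [emb_zero]
    refine ap_inj g ?_
    rw [hc, e, zero_smul, ap, mulVec_zero]))
  let T : (ι → F₀) → Prop := fun u => ∃ u' : ι → F₀, ap g (emb P u) = c • emb P u'
  have hstep : ∀ u v, Pr Q₀ u v → T u → T v := by
    intro u v hp ⟨u', hu'⟩
    obtain ⟨d, v', hv'⟩ := hpt v hp.qy hp.y0
    obtain ⟨k, w, hw⟩ := hpt (u + v) (by rw [q_add, hp.qx, hp.qy, hp.bxy, add_zero, add_zero]) fun e =>
      hp.ind (Submodule.mem_span_singleton.2 ⟨-1, by rw [neg_one_smul, eq_neg_of_add_eq_zero_right e]⟩)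
    obtain ⟨fu, fv, -, -, hufu, hvfv, hufv, hvfu, -⟩ := exists_two_duals D hp
    have hsum : c • emb P u' + d • emb P v' = k • emb P w := by rw [← hu', ← hv', ← ap_add, ← emb_add, hw]
    have hk0 : k ≠ 0 := fun e => by
      have := congrArg (fun z => B z (ap g (emb P fu))) hw
      rw [emb_add, ap_add, e, zero_smul] at this
      simp only [b_add_left, ap_b, b_emb_one D hufu, b_emb_zero D hvfu, add_zero, b_zero_left] at this
      exact one_ne_zero this
    have hw' : emb P w = (c / k) • emb P u' + (d / k) • emb P v' := by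
      rw [div_eq_inv_mul, div_eq_inv_mul, ← smul_smul, ← smul_smul, ← smul_add, hsum, smul_smul,
        inv_mul_cancel₀ hk0, one_smul]
    have hfix := congrArg (sg P σ) hw'
    rw [sg_emb hσ, sg_add, sg_smul, sg_smul, sg_emb hσ, sg_emb hσ] at hfix
    have e := congrArg (fun z => d • z) (hw'.symm.trans hfix)
    have e' := congrArg (fun z => c • z) e
    simp only [smul_add, smul_smul] at e'
    have key : ∀ fw : ι → F₀, (c / k) * d * B₀ u fw + (d / k) * c * B₀ v fw =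
        σ (c / k) * d * B₀ u fw + σ (d / k) * c * B₀ v fw := fun fw => by
      have e2 := congrArg (fun z => B z (ap g (emb P fw))) e'
      have hu2 : c * B (emb P u') (ap g (emb P fw)) = B₀ u fw := by
        rw [← b_smul_left, ← hu', ap_b, b_emb D]
      have hv2 : d * B (emb P v') (ap g (emb P fw)) = B₀ v fw := by
        rw [← b_smul_left, ← hv', ap_b, b_emb D]
      simp only [b_add_left, b_smul_left] at e2
      linear_combination e2 + ((σ (c / k) - c / k) * d) * hu2 + ((σ (d / k) - d / k) * c) * hv2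
    have hα : c / k ∈ F₀ := (hσ _).1 (by
      have := key fu
      rw [hufu, hvfu, OneMemClass.coe_one, ZeroMemClass.coe_zero, mul_zero, add_zero, mul_zero,
        add_zero, mul_one, mul_one] at this
      refine (mul_right_cancel₀ ?_ this).symm
      rintro rfl
      rw [zero_smul] at hv'
      exact hp.y0 (emb_inj (P := P) (by
        rw [emb_zero]
        exact ap_inj g (by rw [hv', ap, mulVec_zero]))))
    have hβ : d / k ∈ F₀ := (hσ _).1 (by
      have := key fv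
      rw [hufv, hvfv, OneMemClass.coe_one, ZeroMemClass.coe_zero, mul_zero, zero_add, mul_zero,
        zero_add, mul_one, mul_one] at this
      exact (mul_right_cancel₀ hc0 this).symm)
    refine ⟨(⟨d / k / (c / k), F₀.div_mem hβ hα⟩ : F₀) • v', ?_⟩
    rw [emb_smul, hv', smul_smul]
    congr 1
    show d = c * (d / k / (c / k))
    field_simp
  have hT : ∀ v, Q₀ v = 0 → v ≠ 0 → T v := by
    intro v hv hv0
    obtain ⟨fv, hfv, hvfv⟩ := exists_partner (nd₀ D) hv hv0
    obtain ⟨d, hpd, hd⟩ := exists_pr_perp D hu₀ hu₀0 {v, fv}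
      (by refine Finset.card_le_two.trans ?_; norm_num)
    simp only [Finset.mem_insert, Finset.mem_singleton, forall_eq_or_imp, forall_eq] at hd
    refine hstep d v ⟨hpd.qy, hv, by rw [b_comm]; exact hd.1, hpd.y0, fun e => ?_⟩
      (hstep u₀ d hpd ⟨u₀', hc⟩)
    obtain ⟨a, rfl⟩ := Submodule.mem_span_singleton.1 e
    rw [b_smul_left, b_comm d fv, hd.2, mul_zero] at hvfv
    exact zero_ne_one hvfv
  refine emb_smul_mem_subfield hc0 (span_singular D (p := T)
    ⟨0, by rw [emb_zero, smul_zero, ap, mulVec_zero]⟩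
    (fun u v ⟨u', hu⟩ ⟨v', hv⟩ => ⟨u' + v', by rw [emb_add, ap_add, hu, hv, emb_add, smul_add]⟩)
    (fun k u ⟨u', hu⟩ => ⟨k • u', by rw [emb_smul, ap_smul, hu, emb_smul, smul_comm]⟩) fun u hu => ?_)
  by_cases hu0 : u = 0
  · exact ⟨0, by rw [hu0, emb_zero, smul_zero, ap, mulVec_zero]⟩
  · exact hT u hu hu0

omit hσ D

/-- The minor of a pair of vectors against a line. -/
def mn (Q : QuadraticForm F (ι → F)) (a b x y : ι → F) : F :=
  QuadraticMap.polar Q x a * QuadraticMap.polar Q y b - QuadraticMap.polar Q x b * QuadraticMap.polar Q y a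

omit [Finite F] [Fintype ι] [DecidableEq ι] in
theorem mn_swap (a b x y : ι → F) : mn Q a b y x = -mn Q a b x y := by
  simp only [mn]; ring

omit [Finite F] [Fintype ι] [DecidableEq ι] in
theorem mn_add_left (a b x x' y : ι → F) : mn Q a b (x + x') y = mn Q a b x y + mn Q a b x' y := by
  simp only [mn, b_add_left]; ring

omit [Finite F] [Fintype ι] [DecidableEq ι] in
theorem mn_smul_left (a b x y : ι → F) (c : F) : mn Q a b (c • x) y = c * mn Q a b x y := by
  simp only [mn, b_smul_left]; ring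

omit [Finite F] [Fintype ι] [DecidableEq ι] in
theorem mn_zero_left (a b y : ι → F) : mn Q a b 0 y = 0 := by
  simp only [mn, b_zero_left]; ring

section Line

variable (a b : ι → F)

include D

/-- An orthogonal pair of rational singular vectors with non-zero minor. -/
theorem exists_good_pair {fa fb : ι → F} (h1 : B fa a = 1) (h2 : B fa b = 0) (h3 : B fb a = 0)
    (h4 : B fb b = 1) :
    ∃ u v : ι → F₀, Q₀ u = 0 ∧ Q₀ v = 0 ∧ B₀ u v = 0 ∧ mn Q a b (emb P u) (emb P v) ≠ 0 := by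
  classical
  obtain ⟨u, v, hu, hv, huv⟩ : ∃ u v : ι → F₀, Q₀ u = 0 ∧ Q₀ v = 0 ∧ mn Q a b (emb P u) (emb P v) ≠ 0 := by
    by_contra hc
    push Not at hc
    have hall : ∀ x y : ι → F₀, mn Q a b (emb P x) (emb P y) = 0 := by
      intro x y
      refine span_singular D (p := fun x => mn Q a b (emb P x) (emb P y) = 0)
        (by rw [emb_zero, mn_zero_left]) (fun u v hu hv => by rw [emb_add, mn_add_left, hu, hv, add_zero])
        (fun k u hu => by rw [emb_smul, mn_smul_left, hu, mul_zero]) (fun u hu => ?_) x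
      rw [← neg_eq_zero, ← mn_swap]
      exact span_singular D (p := fun y => mn Q a b (emb P y) (emb P u) = 0)
        (by rw [emb_zero, mn_zero_left]) (fun u v hu hv => by rw [emb_add, mn_add_left, hu, hv, add_zero])
        (fun k u hu => by rw [emb_smul, mn_smul_left, hu, mul_zero]) (fun v hv => hc v u hv hu) y
    have hsum : ∀ x y : ι → F, (∀ j, mn Q a b (emb P (Pi.single j (1 : F₀))) y = 0) → mn Q a b x y = 0 := by
      intro x y hy
      rw [sum_emb_single (F₀ := F₀) (P := P) x]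
      refine Finset.sum_induction (M := ι → F) _ (fun z => mn Q a b z y = 0)
        (fun z z' hz hz' => by rw [mn_add_left, hz, hz', add_zero]) (mn_zero_left _ _ _)
        fun j _ => by rw [mn_smul_left, hy, mul_zero]
    have h0 : mn Q a b fa fb = 0 := hsum _ _ fun j => by
      rw [← neg_eq_zero, ← mn_swap]
      exact hsum _ _ fun i => hall _ _
    rw [mn, h1, h2, h3, h4] at h0
    simp at h0
  by_cases h0 : B₀ u v = 0
  · exact ⟨u, v, hu, hv, h0, huv⟩
  by_contra hno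
  push Not at hno
  have hu0 : emb P u ≠ 0 := fun e => huv (by rw [e, mn_zero_left])
  obtain ⟨w, hw0, hw, hws⟩ := exists_perp D {u, v} (by refine Finset.card_le_two.trans ?_; norm_num)
  simp only [Finset.mem_insert, Finset.mem_singleton, forall_eq_or_imp, forall_eq] at hws
  obtain ⟨huw, hvw⟩ := hws
  have hkill : ∀ z : ι → F₀, Q₀ z = 0 → B₀ u z = 0 → B₀ v z = 0 →
      B (emb P z) a = 0 ∧ B (emb P z) b = 0 := by
    intro z hz huz hvz
    have e1 := hno u z hu hz huz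
    have e2 := hno v z hv hz hvz
    simp only [mn] at huv e1 e2
    constructor
    · refine (mul_eq_zero.1 ?_).resolve_left huv
      linear_combination (B (emb P v) a) * e1 - (B (emb P u) a) * e2
    · refine (mul_eq_zero.1 ?_).resolve_left huv
      linear_combination (B (emb P v) b) * e1 - (B (emb P u) b) * e2
  have hwn : w ∉ Submodule.span F₀ ({u, v} : Set (ι → F₀)) := fun e => by
    obtain ⟨α, β, e⟩ := Submodule.mem_span_pair.1 e
    have e1 := congrArg (B₀ u) e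
    have e2 := congrArg (B₀ v) e
    simp only [b_add_right, b_smul_right, b_self_zero hu, b_self_zero hv, b_comm v u, huw, hvw,
      mul_zero, zero_add, add_zero] at e1 e2
    exact hw0 (by
      rw [← e, (mul_eq_zero.1 e1).resolve_right h0, (mul_eq_zero.1 e2).resolve_right h0, zero_smul,
        zero_smul, add_zero])
  obtain ⟨t, ht, hwt, hts⟩ := exists_dual D {u, v} hw (fun s hs => by
    rcases hs with rfl | rfl
    exacts [huw, hvw]) hwn
  have hut := hts u (Or.inl rfl)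
  have hvt := hts v (Or.inr rfl)
  obtain ⟨y, hy⟩ : ∃ y, y = (-(B₀ u v)) • t := ⟨_, rfl⟩
  have hyq : Q₀ y = 0 := by rw [hy, q_smul, ht, mul_zero]
  have hvy : B₀ v y = 0 := by rw [hy, b_smul_right, hvt, mul_zero]
  have huy : B₀ u y = 0 := by rw [hy, b_smul_right, hut, mul_zero]
  have key := hno (u + w) (v + y) (by rw [q_add, hu, hw, huw, add_zero, add_zero])
    (by rw [q_add, hv, hyq, hvy, add_zero, add_zero]) (by
      rw [b_add_left, b_add_right, b_add_right, huy, b_comm w v, hvw, hy, b_smul_right, hwt]; ring)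
  obtain ⟨k1, k2⟩ := hkill w hw huw hvw
  obtain ⟨k3, k4⟩ := hkill y hyq huy hvy
  rw [mn, emb_add, emb_add, b_add_left, b_add_left, b_add_left, b_add_left, k1, k2, k3, k4, add_zero,
    add_zero, add_zero, add_zero] at key
  exact huv key

/-- The coordinates of `x` on the images of `u`, `v` are rational. -/
def InL (Q : QuadraticForm F (ι → F)) (F₀ : Subfield F) (P : GL ι F) (a b : ι → F) (u v x : ι → F₀) :
    Prop :=
  ∃ α β : F₀,
    QuadraticMap.polar Q (emb P x) a = α * QuadraticMap.polar Q (emb P u) a + β * QuadraticMap.polar Q (emb P v) a ∧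
      QuadraticMap.polar Q (emb P x) b = α * QuadraticMap.polar Q (emb P u) b + β * QuadraticMap.polar Q (emb P v) b

theorem InL.add {u v x y : ι → F₀} (h : InL Q F₀ P a b u v x) (h' : InL Q F₀ P a b u v y) :
    InL Q F₀ P a b u v (x + y) := by
  obtain ⟨α, β, e1, e2⟩ := h
  obtain ⟨α', β', e3, e4⟩ := h'
  refine ⟨α + α', β + β', ?_, ?_⟩ <;>
    simp only [emb_add, b_add_left, e1, e2, e3, e4, AddMemClass.coe_add] <;> ring

theorem InL.smul {u v x : ι → F₀} (h : InL Q F₀ P a b u v x) (k : F₀) :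
    InL Q F₀ P a b u v (k • x) := by
  obtain ⟨α, β, e1, e2⟩ := h
  refine ⟨k * α, k * β, ?_, ?_⟩ <;>
    simp only [emb_smul, b_smul_left, e1, e2, MulMemClass.coe_mul] <;> ring

/-- A bad triple for the line: rational, totally singular, with two rationally independent minors. -/
def Bad (Q : QuadraticForm F (ι → F)) (Q₀ : QuadraticForm F₀ (ι → F₀)) (P : GL ι F) (a b : ι → F) : Prop :=
  ∃ u v z : ι → F₀, Q₀ u = 0 ∧ Q₀ v = 0 ∧ Q₀ z = 0 ∧ QuadraticMap.polar (DFunLike.coe Q₀) u v = 0 ∧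
    QuadraticMap.polar (DFunLike.coe Q₀) u z = 0 ∧ QuadraticMap.polar (DFunLike.coe Q₀) v z = 0 ∧
    mn Q a b (emb P u) (emb P v) ≠ 0 ∧
    (mn Q a b (emb P z) (emb P v) / mn Q a b (emb P u) (emb P v) ∉ F₀ ∨
      mn Q a b (emb P u) (emb P z) / mn Q a b (emb P u) (emb P v) ∉ F₀)

variable {a b}

theorem inL_singular (hbad : ¬ Bad Q Q₀ P a b) {u v z : ι → F₀} (hu : Q₀ u = 0) (hv : Q₀ v = 0)
    (hz : Q₀ z = 0) (huv : B₀ u v = 0) (huz : B₀ u z = 0) (hvz : B₀ v z = 0)
    (hm : mn Q a b (emb P u) (emb P v) ≠ 0) : InL Q F₀ P a b u v z := by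
  by_cases hα : mn Q a b (emb P z) (emb P v) / mn Q a b (emb P u) (emb P v) ∈ F₀
  swap
  · exact (hbad ⟨u, v, z, hu, hv, hz, huv, huz, hvz, hm, Or.inl hα⟩).elim
  by_cases hβ : mn Q a b (emb P u) (emb P z) / mn Q a b (emb P u) (emb P v) ∈ F₀
  swap
  · exact (hbad ⟨u, v, z, hu, hv, hz, huv, huz, hvz, hm, Or.inr hβ⟩).elim
  refine ⟨⟨_, hα⟩, ⟨_, hβ⟩, ?_, ?_⟩
  all_goals
    rw [show ((⟨_, hα⟩ : F₀) : F) = _ from rfl, show ((⟨_, hβ⟩ : F₀) : F) = _ from rfl, div_mul_eq_mul_div,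
      div_mul_eq_mul_div, ← add_div, eq_div_iff hm]
    simp only [mn]
    ring

/-- A vector orthogonal to both has rational coordinates. -/
theorem inL_perp (hbad : ¬ Bad Q Q₀ P a b) {u v x : ι → F₀} (hu : Q₀ u = 0) (hv : Q₀ v = 0)
    (huv : B₀ u v = 0) (hux : B₀ u x = 0) (hvx : B₀ v x = 0)
    (hm : mn Q a b (emb P u) (emb P v) ≠ 0) (hp : Pr Q₀ u v) : InL Q F₀ P a b u v x := by
  classical
  obtain ⟨fu, fv, -, -, hufu, hvfv, hufv, hvfu, -⟩ := exists_two_duals D hp
  obtain ⟨s, hs0, hs, hss⟩ := exists_perp D {u, v, fu, fv} (by refine Finset.card_le_four.trans ?_; norm_num)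
  simp only [Finset.mem_insert, Finset.mem_singleton, forall_eq_or_imp, forall_eq] at hss
  obtain ⟨hus, hvs, hfus, hfvs⟩ := hss
  have hsn : s ∉ Submodule.span F₀ ({u, v} : Set (ι → F₀)) := fun e => by
    obtain ⟨α, β, e⟩ := Submodule.mem_span_pair.1 e
    have e1 := congrArg (B₀ fu) e
    have e2 := congrArg (B₀ fv) e
    simp only [b_add_right, b_smul_right, b_comm fu u, b_comm fu v, b_comm fv u, b_comm fv v, hufu,
      hvfu, hufv, hvfv, hfus, hfvs, mul_zero, mul_one, zero_add, add_zero] at e1 e2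
    exact hs0 (by rw [← e, e1, e2, zero_smul, zero_smul, add_zero])
  obtain ⟨t, ht, hst, hts⟩ := exists_dual D {u, v} hs (fun s' hs' => by
    rcases hs' with rfl | rfl
    exacts [hus, hvs]) hsn
  obtain ⟨S, hS⟩ : ∃ S, S = orth Q₀ (Submodule.span F₀ ({u, v} : Set (ι → F₀))) := ⟨_, rfl⟩
  have memS : ∀ y, y ∈ S ↔ B₀ u y = 0 ∧ B₀ v y = 0 := fun y => by
    rw [hS, mem_orth_span]; simp
  have hspan := le_span_singular_in (S := S) ((memS s).2 ⟨hus, hvs⟩)
      ((memS t).2 ⟨hts u (Or.inl rfl), hts v (Or.inr rfl)⟩) hs ht hst (x := x) ((memS x).2 ⟨hux, hvx⟩)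
  clear hux hvx
  induction hspan using Submodule.span_induction with
  | mem y hy => exact inL_singular D hbad hu hv hy.2 huv ((memS y).1 hy.1).1 ((memS y).1 hy.1).2 hm
  | zero => exact ⟨0, 0, by simp [emb_zero, b_zero_left], by simp [emb_zero, b_zero_left]⟩
  | add p q _ _ hp' hq' => exact InL.add D a b hp' hq'
  | smul k p _ hp' => exact InL.smul D a b hp' k

omit D in
theorem InL.swap {u v x : ι → F₀} (h : InL Q F₀ P a b v u x) : InL Q F₀ P a b u v x := by
  obtain ⟨α, β, e1, e2⟩ := h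
  exact ⟨β, α, e1.trans (add_comm _ _), e2.trans (add_comm _ _)⟩

theorem inL_dual (hbad : ¬ Bad Q Q₀ P a b) {u v f g : ι → F₀} (hp : Pr Q₀ u v)
    (hm : mn Q a b (emb P u) (emb P v) ≠ 0) (hf : Q₀ f = 0) (huf : B₀ u f = 1) (hvf : B₀ v f = 0)
    (hug : B₀ u g = 0) (hvg : B₀ v g = 1) (hfg : B₀ f g = 0) : InL Q F₀ P a b u v f := by
  classical
  obtain ⟨w₁, hw₁0, hw₁, hs₁⟩ := exists_perp D {u, v, f, g} (by refine Finset.card_le_four.trans ?_; norm_num)
  simp only [Finset.mem_insert, Finset.mem_singleton, forall_eq_or_imp, forall_eq] at hs₁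
  obtain ⟨h1u, h1v, h1f, h1g⟩ := hs₁
  have key : ∀ w, w ≠ 0 → Q₀ w = 0 → B₀ u w = 0 → B₀ v w = 0 → B₀ f w = 0 → B₀ g w = 0 →
      mn Q a b (emb P (u + w)) (emb P v) ≠ 0 → InL Q F₀ P a b u v f := by
    intro w hw0 hw huw hvw hfw hgw hm'
    have hn : ∀ S : Set (ι → F₀), S ⊆ {u, v, f} → w ∉ Submodule.span F₀ S := fun S hS e => by
      obtain ⟨α, y, hy, e⟩ := Submodule.mem_span_insert.1 (Submodule.span_mono hS e)
      obtain ⟨β, γ, rfl⟩ := Submodule.mem_span_pair.1 hy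
      have e1 := congrArg (B₀ f) e
      have e2 := congrArg (B₀ g) e
      have e3 := congrArg (B₀ u) e
      simp only [b_add_right, b_smul_right, hfw, hgw, huw, b_comm f u, b_comm f v, b_comm g u,
        b_comm g v, b_comm g f, huf, hvf, hug, hvg, hfg, hp.bxy, b_self_zero hp.qx, b_self_zero hf,
        mul_zero, mul_one, zero_add, add_zero] at e1 e2 e3
      exact hw0 (by rw [e, ← e1, ← e2, ← e3]; simp)
    obtain ⟨t, ht, hwt, hts⟩ := exists_dual D {u, v, f} hw (fun s hs => by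
      rcases hs with rfl | rfl | rfl
      exacts [huw, hvw, hfw]) (hn _ subset_rfl)
    have hut := hts u (by simp)
    have hvt := hts v (by simp)
    have hft := hts f (by simp)
    have hy : InL Q F₀ P a b u v t := inL_singular D hbad hp.qx hp.qy ht hp.bxy hut hvt hm
    have hu' : Q₀ (u + w) = 0 := by rw [q_add, hp.qx, hw, huw, add_zero, add_zero]
    have hu'v : B₀ (u + w) v = 0 := by rw [b_add_left, hp.bxy, b_comm w v, hvw, add_zero]
    have hx : InL Q F₀ P a b (u + w) v (f - t) := inL_singular D hbad hu' hp.qy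
      (by rw [q_sub, hf, ht, hft, add_zero, sub_zero]) hu'v
      (by rw [b_add_left, b_sub_right, b_sub_right, huf, hut, b_comm w f, hfw, hwt]; ring)
      (by rw [b_sub_right, hvf, hvt, sub_zero]) hm'
    have hw' : InL Q F₀ P a b u v w := inL_singular D hbad hp.qx hp.qy hw hp.bxy huw hvw hm
    obtain ⟨α, β, e1, e2⟩ := hx
    obtain ⟨γ, δ, e3, e4⟩ := hw'
    have hft' : InL Q F₀ P a b u v (f - t) := ⟨α + α * γ, β + α * δ,
      by rw [e1, emb_add, b_add_left, e3]; simp only [AddMemClass.coe_add, MulMemClass.coe_mul]; ring,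
      by rw [e2, emb_add, b_add_left, e4]; simp only [AddMemClass.coe_add, MulMemClass.coe_mul]; ring⟩
    have := InL.add D a b hft' hy
    rwa [sub_add_cancel] at this
  by_contra hno
  have hzero : ∀ w, w ≠ 0 → Q₀ w = 0 → B₀ u w = 0 → B₀ v w = 0 → B₀ f w = 0 → B₀ g w = 0 →
      mn Q a b (emb P u) (emb P v) + mn Q a b (emb P w) (emb P v) = 0 := fun w h0 h1 h2 h3 h4 h5 => by
    rw [← mn_add_left, ← emb_add]
    by_contra h6
    exact hno (key w h0 h1 h2 h3 h4 h5 h6)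
  have e1 := hzero w₁ hw₁0 hw₁ h1u h1v h1f h1g
  by_cases hk : ∃ k : F₀, k ≠ 0 ∧ k ≠ 1
  · -- another multiple of the vector
    obtain ⟨k, hk0, hk1⟩ := hk
    have e2 := hzero (k • w₁) (smul_ne_zero hk0 hw₁0) (by rw [q_smul, hw₁, mul_zero])
      (by rw [b_smul_right, h1u, mul_zero]) (by rw [b_smul_right, h1v, mul_zero])
      (by rw [b_smul_right, h1f, mul_zero]) (by rw [b_smul_right, h1g, mul_zero])
    rw [emb_smul, mn_smul_left] at e2
    have e3 : (1 - (k : F)) * mn Q a b (emb P u) (emb P v) = 0 := by linear_combination e2 - (k : F) * e1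
    exact hk1 (Subtype.ext (sub_eq_zero.1 ((mul_eq_zero.1 e3).resolve_right hm)).symm)
  push Not at hk
  -- two elements
  have htwo : (2 : F₀) = 0 := by
    by_contra h2
    exact one_ne_zero (α := F₀) (by linear_combination hk 2 h2)
  have hneg : ∀ k : F₀, -k = k := fun k => by linear_combination (-k) * htwo
  have hgg : B₀ g g = 0 := by rw [b_self]; linear_combination (Q₀ g) * htwo
  have hw1n : w₁ ∉ Submodule.span F₀ ({u, v, f, g} : Set (ι → F₀)) := fun e => by
    obtain ⟨a', w, hw, e⟩ := Submodule.mem_span_insert.1 e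
    obtain ⟨b', w', hw', rfl⟩ := Submodule.mem_span_insert.1 hw
    obtain ⟨c', d', rfl⟩ := Submodule.mem_span_pair.1 hw'
    have e1 := congrArg (B₀ f) e
    have e2 := congrArg (B₀ g) e
    have e3 := congrArg (B₀ u) e
    have e4 := congrArg (B₀ v) e
    simp only [b_add_right, b_smul_right, h1u, h1v, h1f, h1g, b_comm f u, b_comm f v, b_comm g u,
      b_comm g v, b_comm g f, b_comm v u, huf, hvf, hug, hvg, hfg, hp.bxy, b_self_zero hp.qx,
      b_self_zero hp.qy, b_self_zero hf, hgg, mul_zero, mul_one, zero_add, add_zero] at e1 e2 e3 e4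
    rw [e, ← e1, ← e3, ← e4] at hw₁0
    simp [← e2] at hw₁0
  obtain ⟨t₁, ht₁, hwt₁, hts₁⟩ := exists_dual D {u, v, f, g} hw₁ (fun s hs => by
    rcases hs with rfl | rfl | rfl | rfl
    exacts [h1u, h1v, h1f, h1g]) hw1n
  simp only [Set.mem_insert_iff, Set.mem_singleton_iff, forall_eq_or_imp, forall_eq] at hts₁
  obtain ⟨htu, htv, htf, htg⟩ := hts₁
  have et := hzero t₁ (fun e => by rw [e, b_zero_right] at hwt₁; exact zero_ne_one hwt₁) ht₁ htu htv htf htg
  have hval : ∀ p, p ≠ 0 → B₀ u p = 0 → B₀ v p = 0 → B₀ f p = 0 → B₀ g p = 0 → B₀ w₁ p = 0 →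
      B₀ t₁ p = 0 → mn Q a b (emb P u) (emb P v) + mn Q a b (emb P p) (emb P v) = 0 := by
    intro p hp0 hup hvp hfp hgp hwp htp
    by_cases hq : Q₀ p = 0
    · exact hzero p hp0 hq hup hvp hfp hgp
    have hq1 := hk _ hq
    have hz := hzero (w₁ + t₁ + p) (fun e => by
        have := congrArg (B₀ t₁) e
        rw [b_add_right, b_add_right, b_comm t₁ w₁, hwt₁, b_self_zero ht₁, htp, b_zero_right,
          add_zero, add_zero] at this
        exact one_ne_zero this)
      (by rw [q_add, q_add, hw₁, ht₁, hwt₁, hq1, b_add_left, hwp, htp]; linear_combination htwo)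
      (by rw [b_add_right, b_add_right, h1u, htu, hup, add_zero, add_zero])
      (by rw [b_add_right, b_add_right, h1v, htv, hvp, add_zero, add_zero])
      (by rw [b_add_right, b_add_right, h1f, htf, hfp, add_zero, add_zero])
      (by rw [b_add_right, b_add_right, h1g, htg, hgp, add_zero, add_zero])
    rw [emb_add, emb_add, mn_add_left, mn_add_left] at hz
    have h2F : (2 : F) = 0 := by
      have := congrArg F₀.subtype htwo
      rwa [map_ofNat, map_zero] at this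
    linear_combination hz - e1 - et + (mn Q a b (emb P u) (emb P v)) * h2F
  obtain ⟨S, hS⟩ : ∃ S, S = orth Q₀ (Submodule.span F₀ (({u, v, f, g, w₁, t₁} : Finset (ι → F₀)) : Set (ι → F₀))) :=
    ⟨_, rfl⟩
  have memS : ∀ x, x ∈ S ↔ B₀ u x = 0 ∧ B₀ v x = 0 ∧ B₀ f x = 0 ∧ B₀ g x = 0 ∧ B₀ w₁ x = 0 ∧ B₀ t₁ x = 0 :=
    fun x => by rw [hS, mem_orth_span]; simp
  have hS1 : 1 ≤ Module.finrank F₀ S := by
    have h := finrank_orth_span (nd₀ D) ({u, v, f, g, w₁, t₁} : Finset (ι → F₀))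
    rw [← hS] at h
    have := finrank₀ D
    have : ({u, v, f, g, w₁, t₁} : Finset (ι → F₀)).card ≤ 6 := Finset.card_le_six
    omega
  obtain ⟨p₁, hp₁S, hp₁0⟩ := Submodule.exists_mem_ne_zero_of_ne_bot (Submodule.one_le_finrank_iff.1 hS1)
  obtain ⟨y, hy⟩ : ∃ y, B₀ p₁ y ≠ 0 := by
    by_contra hc
    push Not at hc
    exact hp₁0 (nd₀ D _ hc)
  obtain ⟨p₂, hp₂⟩ : ∃ p₂, p₂ = y - B₀ u y • f - B₀ f y • u - B₀ v y • g - B₀ g y • v +
      (B₀ v y * B₀ g g) • v - B₀ w₁ y • t₁ - B₀ t₁ y • w₁ := ⟨_, rfl⟩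
  obtain ⟨g1, g2, g3, g4, g5, g6⟩ := (memS p₁).1 hp₁S
  have hp₂S : p₂ ∈ S := by
    rw [memS]
    simp only [hp₂, b_add_right, b_sub_right, b_smul_right, b_comm f u, b_comm f v, b_comm g u,
      b_comm g v, b_comm g f, b_comm v u, b_comm w₁ u, b_comm w₁ v, b_comm w₁ f, b_comm w₁ g,
      b_comm t₁ u, b_comm t₁ v, b_comm t₁ f, b_comm t₁ g, b_comm t₁ w₁, huf, hvf, hug, hvg, hfg,
      hp.bxy, h1u, h1v, h1f, h1g, htu, htv, htf, htg, hwt₁, b_self_zero hp.qx, b_self_zero hp.qy,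
      b_self_zero hf, b_self_zero hw₁, b_self_zero ht₁]
    refine ⟨?_, ?_, ?_, ?_, ?_, ?_⟩ <;> ring
  have hpp : B₀ p₁ p₂ ≠ 0 := by
    simp only [hp₂, b_add_right, b_sub_right, b_smul_right, b_comm p₁ u, b_comm p₁ v, b_comm p₁ f,
      b_comm p₁ g, b_comm p₁ w₁, b_comm p₁ t₁, g1, g2, g3, g4, g5, g6]
    simpa using hy
  have hp₁₁ : B₀ p₁ p₁ = 0 := by rw [b_self]; linear_combination (Q₀ p₁) * htwo
  have hp₁₂ : p₁ + p₂ ∈ S := S.add_mem hp₁S hp₂S
  have val : ∀ p ∈ S, p ≠ 0 → mn Q a b (emb P u) (emb P v) + mn Q a b (emb P p) (emb P v) = 0 :=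
    fun p hp' hp0 => by
      obtain ⟨a1, a2, a3, a4, a5, a6⟩ := (memS p).1 hp'
      exact hval p hp0 a1 a2 a3 a4 a5 a6
  have v1 := val p₁ hp₁S hp₁0
  have v2 := val p₂ hp₂S fun e => hpp (by rw [e, b_zero_right])
  have v3 := val (p₁ + p₂) hp₁₂ fun e => hpp (by
    have := congrArg (B₀ p₁) e
    rwa [b_add_right, hp₁₁, zero_add, b_zero_right] at this)
  rw [emb_add, mn_add_left] at v3
  exact hm (by linear_combination v1 + v2 - v3)

/-- A line which is not rational has a bad triple. -/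
theorem bad_of_irrational (hσ : ∀ x, σ x = x ↔ x ∈ F₀) {fa fb : ι → F} (h1 : B fa a = 1) (h2 : B fa b = 0)
    (h3 : B fb a = 0) (h4 : B fb b = 1)
    (hnot : ¬ (sg P σ a ∈ Submodule.span F ({a, b} : Set (ι → F)) ∧
      sg P σ b ∈ Submodule.span F ({a, b} : Set (ι → F)))) : Bad Q Q₀ P a b := by
  classical
  by_contra hbad
  obtain ⟨u, v, hu, hv, huv, hm⟩ := exists_good_pair D a b h1 h2 h3 h4
  have hp : Pr Q₀ u v := by
    refine ⟨hu, hv, huv, fun e => hm (by rw [e, emb_zero, mn_zero_left]), fun e => ?_⟩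
    obtain ⟨c, rfl⟩ := Submodule.mem_span_singleton.1 e
    refine hm ?_
    simp only [mn, emb_smul, b_smul_left]; ring
  obtain ⟨f, g, hf, hg, huf, hvg, hug, hvf, hfg⟩ := exists_two_duals D hp
  have hLf : InL Q F₀ P a b u v f := inL_dual D hbad hp hm hf huf hvf hug hvg hfg
  have hm' : mn Q a b (emb P v) (emb P u) ≠ 0 := by rw [mn_swap]; exact neg_ne_zero.2 hm
  have hLg : InL Q F₀ P a b u v g :=
    (inL_dual D hbad hp.symm hm' hg hvg hug hvf huf (by rw [b_comm]; exact hfg)).swap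
  have hall : ∀ x, InL Q F₀ P a b u v x := by
    intro x
    have hx : InL Q F₀ P a b u v (x - B₀ u x • f - B₀ v x • g) := inL_perp D hbad hu hv huv
      (by simp [b_sub_right, b_smul_right, huf, hug])
      (by simp [b_sub_right, b_smul_right, hvf, hvg]) hm hp
    have := InL.add D a b (InL.add D a b hx (InL.smul D a b hLf (B₀ u x)))
      (InL.smul D a b hLg (B₀ v x))
    rwa [show x - B₀ u x • f - B₀ v x • g + B₀ u x • f + B₀ v x • g = x by abel] at this
  obtain ⟨A₁, hA₁⟩ : ∃ t, t = B (emb P u) a := ⟨_, rfl⟩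
  obtain ⟨C₁, hC₁⟩ : ∃ t, t = B (emb P u) b := ⟨_, rfl⟩
  obtain ⟨A₂, hA₂⟩ : ∃ t, t = B (emb P v) a := ⟨_, rfl⟩
  obtain ⟨C₂, hC₂⟩ : ∃ t, t = B (emb P v) b := ⟨_, rfl⟩
  obtain ⟨d, hd⟩ : ∃ t, t = A₁ * C₂ - C₁ * A₂ := ⟨_, rfl⟩
  have hd0 : d ≠ 0 := by rw [hd, hA₁, hC₁, hA₂, hC₂]; exact hm
  obtain ⟨a', ha'⟩ : ∃ a', a' = d⁻¹ • (C₂ • a - A₂ • b) := ⟨_, rfl⟩
  obtain ⟨b', hb'⟩ : ∃ b', b' = d⁻¹ • (A₁ • b - C₁ • a) := ⟨_, rfl⟩
  have ha'' : sg P σ a' = a' := sg_eq_of_products hσ D fun x => by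
    obtain ⟨α, β, e1, e2⟩ := hall x
    rw [ha', b_smul_right, b_sub_right, b_smul_right, b_smul_right, e1, e2, ← hA₁, ← hA₂, ← hC₁, ← hC₂]
    rw [show d⁻¹ * (C₂ * (α * A₁ + β * A₂) - A₂ * (α * C₁ + β * C₂)) = d⁻¹ * d * (α : F) by rw [hd]; ring,
      inv_mul_cancel₀ hd0, one_mul]
    exact α.2
  have hb'' : sg P σ b' = b' := sg_eq_of_products hσ D fun x => by
    obtain ⟨α, β, e1, e2⟩ := hall x
    rw [hb', b_smul_right, b_sub_right, b_smul_right, b_smul_right, e1, e2, ← hA₁, ← hA₂, ← hC₁, ← hC₂]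
    rw [show d⁻¹ * (A₁ * (α * C₁ + β * C₂) - C₁ * (α * A₁ + β * A₂)) = d⁻¹ * d * (β : F) by rw [hd]; ring,
      inv_mul_cancel₀ hd0, one_mul]
    exact β.2
  have hane : ∀ z : ι → F, z ∈ ({a', b'} : Set (ι → F)) → z ∈ Submodule.span F ({a, b} : Set (ι → F)) := by
    intro z hz
    rcases hz with rfl | rfl
    · rw [ha', smul_sub, smul_smul, smul_smul]
      exact Submodule.sub_mem _ (Submodule.smul_mem _ _ (Submodule.subset_span (Or.inl rfl)))
        (Submodule.smul_mem _ _ (Submodule.subset_span (Or.inr rfl)))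
    · rw [hb', smul_sub, smul_smul, smul_smul]
      exact Submodule.sub_mem _ (Submodule.smul_mem _ _ (Submodule.subset_span (Or.inr rfl)))
        (Submodule.smul_mem _ _ (Submodule.subset_span (Or.inl rfl)))
  have hcomb : ∀ k l : F, sg P σ (k • a' + l • b') ∈ Submodule.span F ({a, b} : Set (ι → F)) := fun k l => by
    rw [sg_add, sg_smul, sg_smul, ha'', hb'']
    exact Submodule.add_mem _ (Submodule.smul_mem _ _ (hane _ (Or.inl rfl)))
      (Submodule.smul_mem _ _ (hane _ (Or.inr rfl)))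
  refine hnot ⟨?_, ?_⟩
  · have e : a = A₁ • a' + A₂ • b' := by
      rw [ha', hb']
      match_scalars <;> field_simp <;> rw [hd] <;> ring
    have := hcomb A₁ A₂
    rw [← e] at this
    exact this
  · have e : b = C₁ • a' + C₂ • b' := by
      rw [ha', hb']
      match_scalars <;> field_simp <;> rw [hd] <;> ring
    have := hcomb C₁ C₂
    rw [← e] at this
    exact this

end Line

/-! ### The torus -/

variable {M : Subgroup (Grp Q)}
variable (hM : ∀ g : Grp Q, g ∈ El Q → (∀ u : ι → F₀, ∃ u' : ι → F₀, ap g (emb P u) = emb P u') → g ∈ M)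

/-- `N` is realised on the quotient plane pairs `(p, b)` and `(p', -a)`. -/
def Rl (M : Subgroup (Grp Q)) (u0 p p' a b : ι → F) (N : SL(2, F)) : Prop :=
  ∃ x ∈ M, ap x u0 = u0 ∧ ∃ c₁ c₂ c₃ c₄ : F,
    ap x p = N.1 0 0 • p + N.1 1 0 • b + c₁ • u0 ∧ ap x b = N.1 0 1 • p + N.1 1 1 • b + c₂ • u0 ∧
    ap x p' = N.1 0 0 • p' - N.1 1 0 • a + c₃ • u0 ∧ ap x a = -N.1 0 1 • p' + N.1 1 1 • a + c₄ • u0

omit [Finite F] in
theorem Rl.one (u0 p p' a b : ι → F) : Rl M u0 p p' a b 1 :=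
  ⟨1, one_mem M, ap_one _, 0, 0, 0, 0, by simp [ap_one], by simp [ap_one], by simp [ap_one],
    by simp [ap_one]⟩

omit [Finite F] in
theorem Rl.mul {u0 p p' a b : ι → F} {N N' : SL(2, F)} (h : Rl M u0 p p' a b N)
    (h' : Rl M u0 p p' a b N') : Rl M u0 p p' a b (N * N') := by
  obtain ⟨x, hx, hx0, c₁, c₂, c₃, c₄, e1, e2, e3, e4⟩ := h
  obtain ⟨y, hy, hy0, d₁, d₂, d₃, d₄, f1, f2, f3, f4⟩ := h'
  refine ⟨x * y, M.mul_mem hx hy, by rw [ap_mul, hy0, hx0],
    N'.1 0 0 * c₁ + N'.1 1 0 * c₂ + d₁, N'.1 0 1 * c₁ + N'.1 1 1 * c₂ + d₂,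
    N'.1 0 0 * c₃ - N'.1 1 0 * c₄ + d₃, -N'.1 0 1 * c₃ + N'.1 1 1 * c₄ + d₄, ?_, ?_, ?_, ?_⟩ <;>
    simp only [ap_mul, f1, f2, f3, f4, ap_add, ap_sub, ap_smul, e1, e2, e3, e4, hx0,
      Matrix.SpecialLinearGroup.coe_mul, Matrix.mul_apply, Fin.sum_univ_two] <;>
    module

include D hM

omit hσ in
/-- The line gives a diagonal element. -/
theorem exists_diag {a b : ι → F} (ha : Q a = 0) (hb : Q b = 0) (hab : B a b = 0)
    (hline : ∀ k : F₀, Mem M a ((k : F) • b)) {u v z : ι → F₀} (hu : Q₀ u = 0) (hv : Q₀ v = 0)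
    (hz : Q₀ z = 0) (huv : B₀ u v = 0) (huz : B₀ u z = 0) (hvz : B₀ v z = 0)
    (hm : mn Q a b (emb P u) (emb P v) ≠ 0)
    (hir : mn Q a b (emb P z) (emb P v) / mn Q a b (emb P u) (emb P v) ∉ F₀ ∨
      mn Q a b (emb P u) (emb P z) / mn Q a b (emb P u) (emb P v) ∉ F₀)
    {u0 : ι → F} (hu0 : u0 = mn Q a b (emb P v) (emb P z) • emb P u -
      mn Q a b (emb P u) (emb P z) • emb P v + mn Q a b (emb P u) (emb P v) • emb P z)
    {t : F} (ht : t ≠ 0) :
    ∃ x ∈ M, ap x u0 = u0 ∧ (∃ s : F, ap x (emb P u) = t • emb P u + s • u0) ∧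
      (∃ s : F, ap x (emb P v) = t • emb P v + s • u0) ∧ ∃ s : F, ap x (emb P z) = t • emb P z + s • u0 := by
  classical
  obtain ⟨A₁, hA₁⟩ : ∃ x, x = B (emb P u) a := ⟨_, rfl⟩
  obtain ⟨C₁, hC₁⟩ : ∃ x, x = B (emb P u) b := ⟨_, rfl⟩
  obtain ⟨A₂, hA₂⟩ : ∃ x, x = B (emb P v) a := ⟨_, rfl⟩
  obtain ⟨C₂, hC₂⟩ : ∃ x, x = B (emb P v) b := ⟨_, rfl⟩
  obtain ⟨A₃, hA₃⟩ : ∃ x, x = B (emb P z) a := ⟨_, rfl⟩
  obtain ⟨C₃, hC₃⟩ : ∃ x, x = B (emb P z) b := ⟨_, rfl⟩
  obtain ⟨d, hd⟩ : ∃ x, x = mn Q a b (emb P u) (emb P v) := ⟨_, rfl⟩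
  have hd' : d = A₁ * C₂ - C₁ * A₂ := by rw [hd, hA₁, hC₁, hA₂, hC₂]; rfl
  rw [← hd] at hm hu0
  have e13 : mn Q a b (emb P u) (emb P z) = A₁ * C₃ - C₁ * A₃ := by rw [hA₁, hC₁, hA₃, hC₃]; rfl
  have e23 : mn Q a b (emb P v) (emb P z) = A₂ * C₃ - C₂ * A₃ := by rw [hA₂, hC₂, hA₃, hC₃]; rfl
  rw [e13, e23] at hu0
  obtain ⟨p, hp⟩ : ∃ p, p = d⁻¹ • (C₂ • emb P u - C₁ • emb P v) := ⟨_, rfl⟩
  obtain ⟨p', hp'⟩ : ∃ p', p' = d⁻¹ • (A₁ • emb P v - A₂ • emb P u) := ⟨_, rfl⟩
  have hpa : B p a = 1 := by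
    rw [hp, b_smul_left, b_sub_left, b_smul_left, b_smul_left, ← hA₁, ← hA₂]
    field_simp; rw [hd']; ring
  have hpb : B p b = 0 := by
    rw [hp, b_smul_left, b_sub_left, b_smul_left, b_smul_left, ← hC₁, ← hC₂]; ring
  have hp'a : B p' a = 0 := by
    rw [hp', b_smul_left, b_sub_left, b_smul_left, b_smul_left, ← hA₁, ← hA₂]; ring
  have hp'b : B p' b = 1 := by
    rw [hp', b_smul_left, b_sub_left, b_smul_left, b_smul_left, ← hC₁, ← hC₂]
    field_simp; rw [hd']; ring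
  have hu0a : B u0 a = 0 := by
    rw [hu0, b_add_left, b_sub_left, b_smul_left, b_smul_left, b_smul_left, ← hA₁, ← hA₂, ← hA₃, hd']; ring
  have hu0b : B u0 b = 0 := by
    rw [hu0, b_add_left, b_sub_left, b_smul_left, b_smul_left, b_smul_left, ← hC₁, ← hC₂, ← hC₃, hd']; ring
  have hqu := q_emb_zero D hu
  have hqv := q_emb_zero D hv
  have hqz := q_emb_zero D hz
  have buv := b_emb_zero D huv
  have buz := b_emb_zero D huz
  have bvz := b_emb_zero D hvz
  -- coordinates of the three vectors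
  have cu : emb P u = A₁ • p + C₁ • p' + (0 : F) • u0 := by
    rw [hp, hp']; match_scalars <;> field_simp <;> rw [hd'] <;> ring
  have cv : emb P v = A₂ • p + C₂ • p' + (0 : F) • u0 := by
    rw [hp, hp']; match_scalars <;> field_simp <;> rw [hd'] <;> ring
  have cz : emb P z = A₃ • p + C₃ • p' + d⁻¹ • u0 := by
    rw [hp, hp', hu0]; match_scalars <;> field_simp <;> rw [hd'] <;> ring
  let Hs : Subgroup SL(2, F) :=
    { carrier := {N | Rl M u0 p p' a b N}
      one_mem' := Rl.one u0 p p' a b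
      mul_mem' := fun h h' => h.mul h'
      inv_mem' := fun {N} h => by
        have hN : 0 < orderOf N := orderOf_pos N
        have e : N⁻¹ = N ^ (orderOf N - 1) := by
          rw [inv_eq_iff_mul_eq_one, ← pow_succ', Nat.sub_add_cancel hN, pow_orderOf_eq_one]
        have : ∀ k : ℕ, Rl M u0 p p' a b (N ^ k) := fun k => by
          induction k with
          | zero => rw [pow_zero]; exact Rl.one _ _ _ _ _
          | succ k ih => rw [pow_succ]; exact ih.mul h
        show Rl M u0 p p' a b N⁻¹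
        rw [e]; exact this _ }
  have hlo : CfsgLib.SL2.lo (1 : F) ∈ Hs := by
    obtain ⟨x, hx⟩ := exists_siegel D.nd ha (v := b) hab
    refine ⟨x, by simpa using hline 1 x (by simpa using hx), ?_, 0, 0, 0, 0, ?_, ?_, ?_, ?_⟩ <;>
      simp [hx.2.2, CfsgLib.SL2.lo_coe, hb, hu0a, hu0b, hpa, hpb, hp'a, hp'b, hab, b_comm b a,
        b_self_zero ha, b_self_zero hb] <;> abel
  -- the root elements of the three-space
  have hroot : ∀ (i j : ι → F₀) (Ai Ci γi Aj Cj γj : F), Q₀ i = 0 → Q₀ j = 0 → B₀ i j = 0 →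
      emb P i = Ai • p + Ci • p' + γi • u0 → emb P j = Aj • p + Cj • p' + γj • u0 →
      B (emb P i) a = Ai → B (emb P i) b = Ci → B (emb P j) a = Aj → B (emb P j) b = Cj →
      (∀ y ∈ ({p, p', u0} : Set (ι → F)), B y (emb P i) = 0 ∧ B y (emb P j) = 0) →
      ∀ k : F₀, CfsgLib.SL2.up (-((k : F) * (Ai * Cj - Ci * Aj))) ∈ Hs := by
    intro i j Ai Ci γi Aj Cj γj hi hj hij ci cj hia hib hja hjb hperp k
    obtain ⟨x, hx⟩ := exists_siegel D.nd (q_emb_zero D hi) (v := (k : F) • emb P j)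
      (by rw [b_smul_right, b_emb_zero D hij, mul_zero])
    have hfix : ∀ y ∈ ({p, p', u0} : Set (ι → F)), ap x y = y := fun y hy =>
      siegel_fix hx (hperp y hy).1 (by rw [b_smul_right, (hperp y hy).2, mul_zero])
    refine ⟨x, mem_rational D hM i j k x hx, hfix u0 (by simp), 0,
      (k : F) * (Ci * γj - Cj * γi), 0, (k : F) * (Ai * γj - Aj * γi), ?_, ?_, ?_, ?_⟩
    · rw [hfix p (by simp)]; simp [CfsgLib.SL2.up_coe]
    · rw [hx.2.2, b_smul_right, b_comm b, hib, b_comm b, hjb, q_smul, q_emb_zero D hj]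
      simp [CfsgLib.SL2.up_coe]
      conv_lhs => rw [ci, cj]
      module
    · rw [hfix p' (by simp)]; simp [CfsgLib.SL2.up_coe]
    · rw [hx.2.2, b_smul_right, b_comm a, hia, b_comm a, hja, q_smul, q_emb_zero D hj]
      simp [CfsgLib.SL2.up_coe]
      conv_lhs => rw [ci, cj]
      module
  have hperp : ∀ y ∈ ({p, p', u0} : Set (ι → F)),
      B y (emb P u) = 0 ∧ B y (emb P v) = 0 ∧ B y (emb P z) = 0 := by
    intro y hy
    rcases hy with rfl | rfl | rfl
    all_goals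
      simp [hp, hp', hu0, b_add_left, b_sub_left, b_smul_left, b_self_zero hqu, b_self_zero hqv,
        b_self_zero hqz, buv, buz, bvz, b_comm (emb P v) (emb P u), b_comm (emb P z) (emb P u),
        b_comm (emb P z) (emb P v)]
  have w12 := hroot u v A₁ C₁ 0 A₂ C₂ 0 hu hv huv cu cv hA₁.symm hC₁.symm hA₂.symm hC₂.symm
    fun y hy => ⟨(hperp y hy).1, (hperp y hy).2.1⟩
  have w13 := hroot u z A₁ C₁ 0 A₃ C₃ d⁻¹ hu hz huz cu cz hA₁.symm hC₁.symm hA₃.symm hC₃.symm
    fun y hy => ⟨(hperp y hy).1, (hperp y hy).2.2⟩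
  have w23 := hroot v z A₂ C₂ 0 A₃ C₃ d⁻¹ hv hz hvz cv cz hA₂.symm hC₂.symm hA₃.symm hC₃.symm
    fun y hy => ⟨(hperp y hy).2.1, (hperp y hy).2.2⟩
  rw [← hd'] at w12
  let W : AddSubgroup F :=
    { carrier := {w | CfsgLib.SL2.up w ∈ Hs}
      zero_mem' := by
        show CfsgLib.SL2.up (0 : F) ∈ Hs
        rw [CfsgLib.SL2.up_zero]; exact Hs.one_mem
      add_mem' := fun {s t} hs ht => by
        show CfsgLib.SL2.up (s + t) ∈ Hs; rw [CfsgLib.SL2.up_add]; exact Hs.mul_mem hs ht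
      neg_mem' := fun {s} hs => by
        show CfsgLib.SL2.up (-s) ∈ Hs; rw [CfsgLib.SL2.up_neg]; exact Hs.inv_mem hs }
  obtain ⟨m, hmW, hmn⟩ : ∃ m, (∀ k : F₀, (k : F) * m ∈ W) ∧ m / d ∉ F₀ := by
    rcases hir with h | h
    · refine ⟨A₂ * C₃ - C₂ * A₃, fun k => by simpa using W.neg_mem (w23 k), fun e => h ?_⟩
      rw [mn_swap, e23, ← hd, neg_div]
      exact F₀.neg_mem e
    · refine ⟨A₁ * C₃ - C₁ * A₃, fun k => by simpa using W.neg_mem (w13 k), fun e => h ?_⟩
      rw [e13, ← hd]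
      exact e
  have hdW : ∀ k : F₀, (k : F) * d ∈ W := fun k => by simpa using W.neg_mem (w12 k)
  have hcard : Nat.card F₀ * Nat.card F₀ ≤ Nat.card W := by
    rw [← Nat.card_prod]
    refine Nat.card_le_card_of_injective
      (fun k : F₀ × F₀ => (⟨(k.1 : F) * d + (k.2 : F) * m, W.add_mem (hdW _) (hmW _)⟩ : W))
      ?_
    intro a₁ a₂ e
    obtain ⟨k, l⟩ := a₁
    obtain ⟨k', l'⟩ := a₂
    have e₀ : (k : F) * d + (l : F) * m = (k' : F) * d + (l' : F) * m := congrArg Subtype.val e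
    have e' : ((k : F) - k') * d + ((l : F) - l') * m = 0 := by linear_combination e₀
    by_cases hl : (l : F) - l' = 0
    · rw [hl, zero_mul, add_zero] at e'
      exact Prod.ext (Subtype.ext (sub_eq_zero.1 ((mul_eq_zero.1 e').resolve_right hm)))
        (Subtype.ext (sub_eq_zero.1 hl))
    · refine absurd ?_ hmn
      rw [show m / d = -((k : F) - k') / ((l : F) - l') by
        rw [div_eq_div_iff hm hl]; linear_combination e']
      exact F₀.div_mem (F₀.neg_mem (F₀.sub_mem k.2 k'.2)) (F₀.sub_mem l.2 l'.2)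
  have h45 : 5 < Nat.card W ∨ (Nat.card W = 4 ∧ (2 : F) = 0) := by
    have h2 : 2 ≤ Nat.card F₀ := Finite.one_lt_card
    rcases Nat.lt_or_ge 2 (Nat.card F₀) with h3 | h3
    · exact Or.inl (lt_of_lt_of_le (by nlinarith) hcard)
    have hq2 : Nat.card F₀ = 2 := le_antisymm h3 h2
    have hz : (2 : F₀) = 0 := by
      cases nonempty_fintype F₀
      have : ((Fintype.card F₀ : ℕ) : F₀) = 0 := FiniteField.cast_card_eq_zero F₀
      rwa [← Nat.card_eq_fintype_card, hq2, Nat.cast_ofNat] at this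
    have hz' : (2 : F) = 0 := by
      have := congrArg F₀.subtype hz
      rwa [map_ofNat, map_zero] at this
    rcases Nat.lt_or_ge 5 (Nat.card W) with h5 | h5
    · exact Or.inl h5
    obtain ⟨k, -, hk⟩ := (Nat.dvd_prime_pow Nat.prime_two).1
      (show Nat.card W ∣ 2 ^ r by rw [← hq2, ← D.card]; exact W.card_addSubgroup_dvd_card)
    refine Or.inr ⟨?_, hz'⟩
    rw [hq2] at hcard
    rcases k with _ | _ | _ | k
    · omega
    · omega
    · exact hk
    · have : 2 ^ 3 ≤ 2 ^ (k + 3) := Nat.pow_le_pow_right (by norm_num) (by omega)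
      omega
  have htop : Hs = ⊤ := by
    refine CfsgLib.SL2.eq_top_of_up_lo' W (fun w hw => hw) one_ne_zero hlo h45 fun K hK => ?_
    have hK' : ∀ w ∈ W, w ∈ K := fun w hw => by simpa using hK w hw
    have hdK : d ∈ K := by simpa using hK' _ (hdW 1)
    have h0 : ∀ k : F₀, (k : F) ∈ K := fun k => by
      have := K.div_mem (hK' _ (hdW k)) hdK
      rwa [mul_div_cancel_right₀ _ hm] at this
    refine eq_top_iff.2 fun x _ => ?_
    refine Classical.MinIndex.Subfield.eq_univ_of_closed (F₀ := F₀) (S := (K : Set F)) D.prime D.card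
      (fun c hc => h0 ⟨c, hc⟩) (fun _ h _ h' => K.add_mem h h') (fun _ h _ h' => K.mul_mem h h')
      (K.div_mem (by simpa using hK' _ (hmW 1)) hdK) hmn x
  obtain ⟨N, hN⟩ : ∃ N : SL(2, F), N.1 = !![t, 0; 0, t⁻¹] :=
    ⟨⟨!![t, 0; 0, t⁻¹], by simp [Matrix.det_fin_two, ht]⟩, rfl⟩
  have hdiag : N ∈ Hs := htop ▸ Subgroup.mem_top _
  obtain ⟨x, hx, hx0, c₁, c₂, c₃, c₄, e1, -, e3, -⟩ := hdiag
  simp [hN] at e1 e3
  refine ⟨x, hx, hx0, ⟨A₁ * c₁ + C₁ * c₃, ?_⟩, ⟨A₂ * c₁ + C₂ * c₃, ?_⟩,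
    A₃ * c₁ + C₃ * c₃ + (1 - t) * d⁻¹, ?_⟩
  · conv_lhs => rw [cu, ap_add, ap_add, ap_smul, ap_smul, ap_smul, e1, e3, hx0]
    conv_rhs => rw [cu]
    module
  · conv_lhs => rw [cv, ap_add, ap_add, ap_smul, ap_smul, ap_smul, e1, e3, hx0]
    conv_rhs => rw [cv]
    module
  · conv_lhs => rw [cz, ap_add, ap_add, ap_smul, ap_smul, ap_smul, e1, e3, hx0]
    conv_rhs => rw [cz]
    module

omit hσ in
/-- A coordinate of a moved root element of the three-space is rational. -/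
theorem pair_minor (hne : ¬ El Q ≤ M) {i j fi fj : ι → F₀} (hi : Q₀ i = 0) (hj : Q₀ j = 0)
    (hfj : Q₀ fj = 0) (hij : B₀ i j = 0) (hifi : B₀ i fi = 1) (hjfj : B₀ j fj = 1) (hifj : B₀ i fj = 0)
    (hjfi : B₀ j fi = 0) {d e : ι → F₀} (hde : Pr Q₀ d e)
    (hd : B₀ d i = 0 ∧ B₀ d j = 0 ∧ B₀ d fi = 0 ∧ B₀ d fj = 0)
    (he : B₀ e i = 0 ∧ B₀ e j = 0 ∧ B₀ e fj = 0)
    {u0 : ι → F} (hu0q : Q u0 = 0) (hu0i : B u0 (emb P i) = 0) (hu0j : B u0 (emb P j) = 0)
    (hu0d : B u0 (emb P d) = 0) (hu0e : B u0 (emb P e) = 0) {ci cj : F}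
    (hci : B u0 (emb P fi) = ci) (hcj : B u0 (emb P fj) = cj) {x : Grp Q} (hx : x ∈ M)
    {t si sj : F} (hxi : ap x (emb P i) = t • emb P i + si • u0)
    (hxj : ap x (emb P j) = t • emb P j + sj • u0) : t * t + t * (si * ci + sj * cj) ∈ F₀ := by
  by_contra hn
  obtain ⟨hdi, hdj, hdfi, hdfj⟩ := hd
  obtain ⟨hei, hej, hefj⟩ := he
  have qi := q_emb_zero D hi
  have qj := q_emb_zero D hj
  obtain ⟨a', ha'⟩ : ∃ a', a' = t • emb P i + si • u0 := ⟨_, rfl⟩
  obtain ⟨b', hb'⟩ : ∃ b', b' = t • emb P j + sj • u0 := ⟨_, rfl⟩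
  have hQb : Q b' = 0 := by
    rw [hb', q_add, q_smul, q_smul, qj, hu0q, b_smul_left, b_smul_right, b_comm, hu0j]; ring
  have hg : Mem M a' b' := by
    have := (mem_rational_one D hM i j).conj hx
    rwa [hxi, hxj, ← ha', ← hb'] at this
  have hQa : Q a' = 0 := by
    rw [ha', q_add, q_smul, q_smul, qi, hu0q, b_smul_left, b_smul_right, b_comm, hu0i]; ring
  obtain ⟨g, hgS⟩ := exists_siegel D.nd hQa (v := b') (by
    rw [ha', hb']
    simp [b_add_left, b_add_right, b_smul_left, b_smul_right, b_emb_zero D hij, hu0j,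
      b_comm (emb P i) u0, hu0i, b_self_zero hu0q])
  have hgd : ap g (emb P d) = emb P d := siegel_fix hgS
    (by simp [ha', b_add_right, b_smul_right, b_emb_zero D hdi, b_comm (emb P d) u0, hu0d])
    (by simp [hb', b_add_right, b_smul_right, b_emb_zero D hdj, b_comm (emb P d) u0, hu0d])
  have hv := (mem_rational_one D hM d fi).moved D.nd (hg g hgS) (b_emb_zero D hdfi) hgd
  obtain ⟨vv, hvv⟩ : ∃ vv, vv = ap g (emb P fi) - emb P fi := ⟨_, rfl⟩
  rw [← hvv] at hv
  have hvv' : vv = (t + si * ci) • b' - (sj * ci) • a' := by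
    rw [hvv, hgS.2.2, hQb, ha', hb']
    simp only [b_add_right, b_smul_right, b_comm (emb P fi) (emb P i), b_comm (emb P fi) (emb P j),
      b_emb_one D hifi, b_emb_zero D hjfi, b_comm (emb P fi) u0, hci]
    module
  have hvd : B (emb P d) vv = 0 := by
    simp [hvv', ha', hb', b_sub_right, b_add_right, b_smul_right, b_emb_zero D hdi, b_emb_zero D hdj,
      b_comm (emb P d) u0, hu0d]
  have hve : B (emb P e) vv = 0 := by
    simp [hvv', ha', hb', b_sub_right, b_add_right, b_smul_right, b_emb_zero D hei, b_emb_zero D hej,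
      b_comm (emb P e) u0, hu0e]
  have hvf : B (emb P fj) vv = t * t + t * (si * ci + sj * cj) := by
    simp only [hvv', ha', hb', b_sub_right, b_add_right, b_smul_right, b_comm (emb P fj) (emb P i),
      b_comm (emb P fj) (emb P j), b_emb_zero D hifj, b_emb_one D hjfj, b_comm (emb P fj) u0, hcj]
    ring
  obtain ⟨g₂, hg₂⟩ := exists_siegel D.nd (q_emb_zero D hde.qx) hvd
  have hge : ap g₂ (emb P e) = emb P e :=
    siegel_fix hg₂ (by rw [b_comm]; exact b_emb_zero D hde.bxy) hve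
  have h2 := (mem_rational_one D hM e fj).moved D.nd (hv g₂ hg₂) (b_emb_zero D hefj) hge
  rw [hg₂.2.2, b_comm (emb P fj) (emb P d), b_emb_zero D hdfj, hvf, zero_smul, add_zero, mul_zero,
    zero_smul, sub_zero, sub_sub_cancel_left] at h2
  have h3 := h2.neg D.nd
  rw [neg_neg] at h3
  exact hne (El_le_of_irrational D hM hde.symm h3 hn)

omit hσ in
/-- A line of `M` which is not rational gives the whole group. -/
theorem El_le_of_bad {a b : ι → F} (ha : Q a = 0) (hb : Q b = 0) (hab : B a b = 0)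
    (hline : ∀ k : F₀, Mem M a ((k : F) • b)) (hbad : Bad Q Q₀ P a b) : El Q ≤ M := by
  classical
  by_contra hne
  obtain ⟨u, v, z, hu, hv, hz, huv, huz, hvz, hm, hir⟩ := hbad
  have hp : Pr Q₀ u v := by
    refine ⟨hu, hv, huv, fun e => hm (by rw [e, emb_zero, mn_zero_left]), fun e => ?_⟩
    obtain ⟨c, rfl⟩ := Submodule.mem_span_singleton.1 e
    refine hm ?_
    simp only [mn, emb_smul, b_smul_left]; ring
  have hz2 : z ∉ Submodule.span F₀ ({u, v} : Set (ι → F₀)) := fun e => by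
    obtain ⟨k, l, rfl⟩ := Submodule.mem_span_pair.1 e
    rcases hir with h | h
    · refine h ?_
      rw [emb_add, emb_smul, emb_smul, mn_add_left, mn_smul_left, mn_smul_left,
        show mn Q a b (emb P v) (emb P v) = 0 by simp only [mn]; ring, mul_zero, add_zero,
        mul_div_cancel_right₀ _ hm]
      exact k.2
    · refine h ?_
      rw [mn_swap, emb_add, emb_smul, emb_smul, mn_add_left, mn_smul_left, mn_smul_left,
        show mn Q a b (emb P u) (emb P u) = 0 by simp only [mn]; ring, mul_zero, zero_add, mn_swap,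
        mul_neg, neg_neg, mul_div_cancel_right₀ _ hm]
      exact l.2
  -- three duals
  obtain ⟨fz, hfz, hzfz, hs⟩ := exists_dual D {u, v} hz (fun s hs => by
    rcases hs with rfl | rfl
    exacts [huz, hvz]) hz2
  have hufz := hs u (Or.inl rfl)
  have hvfz := hs v (Or.inr rfl)
  have hu3 : u ∉ Submodule.span F₀ ({v, z, fz} : Set (ι → F₀)) := fun e => by
    obtain ⟨α, y, hy, e⟩ := Submodule.mem_span_insert.1 e
    obtain ⟨β, γ, rfl⟩ := Submodule.mem_span_pair.1 hy
    have e1 := congrArg (B₀ fz) e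
    have e2 := congrArg (B₀ z) e
    simp only [b_add_right, b_smul_right, b_comm fz u, b_comm fz v, b_comm fz z, hufz, hvfz, hzfz,
      b_self_zero hfz, b_comm z u, b_comm z v, huz, hvz, b_self_zero hz, mul_zero, mul_one,
      zero_add, add_zero] at e1 e2
    refine hp.symm.ind (Submodule.mem_span_singleton.2 ⟨α, ?_⟩)
    rw [e, ← e1, ← e2, zero_smul, zero_smul, add_zero, add_zero]
  obtain ⟨fu, hfu, hufu, hs'⟩ := exists_dual D {v, z, fz} hu (fun s hs => by
    rcases hs with rfl | rfl | rfl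
    · rw [b_comm]; exact huv
    · rw [b_comm]; exact huz
    · rw [b_comm]; exact hufz) hu3
  have hvfu := hs' v (by simp)
  have hzfu := hs' z (by simp)
  have hv4 : v ∉ Submodule.span F₀ ({u, z, fu, fz} : Set (ι → F₀)) := fun e => by
    obtain ⟨α, y, hy, e⟩ := Submodule.mem_span_insert.1 e
    obtain ⟨δ, y', hy', rfl⟩ := Submodule.mem_span_insert.1 hy
    obtain ⟨β, γ, rfl⟩ := Submodule.mem_span_pair.1 hy'
    have e1 := congrArg (B₀ u) e
    have e2 := congrArg (B₀ z) e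
    simp only [b_add_right, b_smul_right, huv, huz, hufu, hufz, b_self_zero hu, b_self_zero hz,
      b_comm z u, b_comm z v, hzfu, hzfz, hvz, mul_zero, mul_one, zero_add, add_zero] at e1 e2
    have e3 := congrArg (B₀ fz) e
    rw [← e1, ← e2, zero_smul, zero_smul, add_zero, add_zero] at e e3
    simp only [b_add_right, b_smul_right, b_comm fz u, b_comm fz v, b_comm fz z, hufz, hvfz, hzfz,
      mul_zero, mul_one, zero_add] at e3
    refine hp.ind (Submodule.mem_span_singleton.2 ⟨α, ?_⟩)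
    rw [e, ← e3, zero_smul, add_zero]
  obtain ⟨fv, hfv, hvfv, hs''⟩ := exists_dual D {u, z, fu, fz} hv (fun s hs => by
    rcases hs with rfl | rfl | rfl | rfl
    · exact huv
    · rw [b_comm]; exact hvz
    · rw [b_comm]; exact hvfu
    · rw [b_comm]; exact hvfz) hv4
  have hufv := hs'' u (by simp)
  have hzfv := hs'' z (by simp)
  have hzu' : Pr Q₀ z u := ⟨hz, hu, by rw [b_comm]; exact huz, fun e => hz2 (e ▸ Submodule.zero_mem _),
    fun e => by
      obtain ⟨c, hc⟩ := Submodule.mem_span_singleton.1 e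
      have := congrArg (B₀ fu) hc
      rw [b_smul_right, b_comm fu z, hzfu, mul_zero, b_comm fu u, hufu] at this
      exact zero_ne_one this⟩
  have hvu' : Pr Q₀ v u := hp.symm
  have huv' : Pr Q₀ u v := hp
  -- the trace
  obtain ⟨t, ht, htn⟩ : ∃ t : F, t ≠ 0 ∧ t * t + 2 * t ∉ F₀ := by
    by_contra hc
    push Not at hc
    have hc' : ∀ t : F, t * t + 2 * t ∈ F₀ := fun t => by
      by_cases ht : t = 0
      · rw [ht, mul_zero, mul_zero, add_zero]; exact F₀.zero_mem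
      · exact hc t ht
    have hirr : ∃ c : F, c ∉ F₀ := by
      rcases hir with h | h <;> exact ⟨_, h⟩
    obtain ⟨c, hcn⟩ := hirr
    by_cases h2 : (2 : F) = 0
    · have : CharP F 2 := CharTwo.of_one_ne_zero_of_two_eq_zero one_ne_zero h2
      obtain ⟨s, hs⟩ := (Finite.injective_iff_surjective.1 (frobenius_inj F 2)) c
      refine hcn ?_
      have := hc' s
      rw [h2, zero_mul, add_zero] at this
      rw [← hs, frobenius_def, pow_two]
      exact this
    · have h4 : (4 : F) ≠ 0 := by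
        rw [show (4 : F) = 2 * 2 by norm_num]; exact mul_ne_zero h2 h2
      refine hcn ?_
      have := F₀.div_mem (F₀.sub_mem (hc' c) (hc' (-c))) (ofNat_mem F₀ 4)
      rwa [show (c * c + 2 * c - (-c * -c + 2 * -c)) / 4 = c by field_simp; ring] at this
  obtain ⟨u0, hu0⟩ : ∃ u0, u0 = mn Q a b (emb P v) (emb P z) • emb P u -
      mn Q a b (emb P u) (emb P z) • emb P v + mn Q a b (emb P u) (emb P v) • emb P z := ⟨_, rfl⟩
  obtain ⟨x, hx, hx0, ⟨s₁, h₁⟩, ⟨s₂, h₂⟩, s₃, h₃⟩ :=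
    exists_diag D hM ha hb hab hline hu hv hz huv huz hvz hm hir hu0 ht
  obtain ⟨c₁, hc₁⟩ : ∃ c, c = mn Q a b (emb P v) (emb P z) := ⟨_, rfl⟩
  obtain ⟨c₂, hc₂⟩ : ∃ c, c = mn Q a b (emb P u) (emb P z) := ⟨_, rfl⟩
  obtain ⟨c₃, hc₃⟩ : ∃ c, c = mn Q a b (emb P u) (emb P v) := ⟨_, rfl⟩
  rw [← hc₁, ← hc₂, ← hc₃] at hu0
  have hfu' : B u0 (emb P fu) = c₁ := by
    simp [hu0, b_add_left, b_sub_left, b_smul_left, b_emb_one D hufu, b_emb_zero D hvfu, b_emb_zero D hzfu]
  have hfv' : B u0 (emb P fv) = -c₂ := by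
    simp [hu0, b_add_left, b_sub_left, b_smul_left, b_emb_one D hvfv, b_emb_zero D hufv, b_emb_zero D hzfv]
  have hfz' : B u0 (emb P fz) = c₃ := by
    simp [hu0, b_add_left, b_sub_left, b_smul_left, b_emb_one D hzfz, b_emb_zero D hufz, b_emb_zero D hvfz]
  have hperp : ∀ w : ι → F₀, B₀ u w = 0 → B₀ v w = 0 → B₀ z w = 0 → B u0 (emb P w) = 0 := by
    intro w h1 h2 h3
    simp [hu0, b_add_left, b_sub_left, b_smul_left, b_emb_zero D h1, b_emb_zero D h2, b_emb_zero D h3]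
  have hzu : B₀ z u = 0 := by rw [b_comm]; exact huz
  have hzv : B₀ z v = 0 := by rw [b_comm]; exact hvz
  have hvu : B₀ v u = 0 := by rw [b_comm]; exact huv
  have hu0u := hperp u (b_self_zero hu) hvu hzu
  have hu0v := hperp v huv (b_self_zero hv) hzv
  have hu0z := hperp z huz hvz (b_self_zero hz)
  have hu0q : Q u0 = 0 := by
    simp [hu0, q_add, q_sub, q_smul, b_sub_left, b_smul_left, b_smul_right, q_emb_zero D hu,
      q_emb_zero D hv, q_emb_zero D hz, b_emb_zero D huv, b_emb_zero D huz, b_emb_zero D hvz]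
  -- the constraint from the fixed vector
  have hcon : c₁ * s₁ - c₂ * s₂ + c₃ * s₃ = 1 - t := by
    have h := hx0
    conv_lhs at h => rw [hu0, ap_add, ap_sub, ap_smul, ap_smul, ap_smul, h₁, h₂, h₃]
    have e := congrArg (fun y => B y (emb P fz)) h
    simp only [b_add_left, b_sub_left, b_smul_left, hfz', b_emb_one D hzfz, b_emb_zero D hufz,
      b_emb_zero D hvfz, mul_zero, mul_one, zero_add] at e
    have hc30 : c₃ ≠ 0 := hc₃ ▸ hm
    apply mul_right_cancel₀ hc30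
    linear_combination e
  have r12 := pair_minor D hM hne hu hv hfv huv hufu hvfv hufv hvfu hzu'
    ⟨hzu, hzv, hzfu, hzfv⟩ ⟨b_self_zero hu, huv, hufv⟩
    hu0q hu0u hu0v hu0z hu0u hfu' hfv' hx h₁ h₂
  have r13 := pair_minor D hM hne hu hz hfz huz hufu hzfz hufz hzfu hvu'
    ⟨hvu, hvz, hvfu, hvfz⟩ ⟨b_self_zero hu, huz, hufz⟩
    hu0q hu0u hu0z hu0v hu0u hfu' hfz' hx h₁ h₃
  have r23 := pair_minor D hM hne hv hz hfz hvz hvfv hzfz hvfz hzfv huv'
    ⟨huv, huz, hufv, hufz⟩ ⟨b_self_zero hv, hvz, hvfz⟩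
    hu0q hu0v hu0z hu0u hu0v hfv' hfz' hx h₂ h₃
  refine htn ?_
  have := F₀.add_mem (F₀.add_mem r12 r13) r23
  rwa [show t * t + t * (s₁ * c₁ + s₂ * -c₂) + (t * t + t * (s₁ * c₁ + s₃ * c₃)) +
    (t * t + t * (s₂ * -c₂ + s₃ * c₃)) = t * t + 2 * t by linear_combination (2 * t) * hcon] at this

include hσ in
/-- An element outside the subfield group gives the whole group. -/
theorem El_le_of_not_mem {g : Grp Q} (hg : g ∈ M) (hgn : (g : GL ι F) ∉ Cfsg.Geo.subfieldSubgroup F₀ P) :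
    El Q ≤ M := by
  classical
  by_contra hne
  refine hgn (exists_scalar_of_lines hσ D g fun x y hp z hz => ?_)
  by_contra hzn
  obtain ⟨fx, fy, -, -, hxfx, hyfy, hxfy, hyfx, -⟩ := exists_two_duals D hp
  refine hne (El_le_of_bad D hM (a := ap g (emb P x)) (b := ap g (emb P y)) ?_ ?_ ?_ (fun k => ?_) ?_)
  · rw [ap_q, q_emb_zero D hp.qx]
  · rw [ap_q, q_emb_zero D hp.qy]
  · rw [ap_b, b_emb_zero D hp.bxy]
  · have := (mem_rational D hM x y k).conj hg
    rwa [ap_smul] at this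
  · refine bad_of_irrational D hσ (fa := ap g (emb P fx)) (fb := ap g (emb P fy)) ?_ ?_ ?_ ?_ fun h => ?_
    · rw [ap_b, b_comm, b_emb_one D hxfx]
    · rw [ap_b, b_comm, b_emb_zero D hyfx]
    · rw [ap_b, b_comm, b_emb_zero D hxfy]
    · rw [ap_b, b_comm, b_emb_one D hyfy]
    · rcases hz with rfl | rfl
      exacts [hzn h.1, hzn h.2]

omit hM in
/-- The subfield group does not contain every Siegel element. -/
theorem exists_siegel_not_mem : ∃ g ∈ El Q, (g : GL ι F) ∉ Cfsg.Geo.subfieldSubgroup F₀ P := by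
  classical
  obtain ⟨u, hu0, hu, -⟩ := exists_perp D ∅ (by simp)
  obtain ⟨v, hp, -⟩ := exists_pr_perp D hu hu0 ∅ (by simp)
  obtain ⟨fu, fv, hfu, hfv, hufu, hvfv, hufv, hvfu, -⟩ := exists_two_duals D hp
  obtain ⟨c, hc⟩ : ∃ c : F, c ∉ F₀ := by
    by_contra hall
    push Not at hall
    have h1 : Nat.card F ≤ Nat.card F₀ :=
      Nat.card_le_card_of_injective (fun x : F => (⟨x, hall x⟩ : F₀)) fun a b e => congrArg Subtype.val e
    have h2 : Nat.card F₀ ^ 1 < Nat.card F₀ ^ r :=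
      Nat.pow_lt_pow_right Finite.one_lt_card D.prime.one_lt
    rw [pow_one, ← D.card] at h2
    omega
  obtain ⟨g, hg⟩ := exists_siegel D.nd (q_emb_zero D hu) (v := c • emb P v)
    (by rw [b_smul_right, b_emb_zero D hp.bxy, mul_zero])
  refine ⟨g, siegel_mem_El hg, fun h => ?_⟩
  obtain ⟨k, hk, hmaps⟩ := subfield_maps h
  have hgu : ap g (emb P u) = emb P u := siegel_fix hg (b_self_zero (q_emb_zero D hu))
    (by rw [b_smul_right, b_emb_zero D hp.bxy, mul_zero])
  obtain ⟨u', hu'⟩ := hmaps u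
  obtain ⟨f', hf'⟩ := hmaps fu
  change ap g _ = _ at hu' hf'
  have hgf : ap g (emb P fu) = emb P fu + c • emb P v := by
    rw [hg.2.2, b_comm (emb P fu), b_emb_one D hufu, b_smul_right, b_comm (emb P fu),
      b_emb_zero D hvfu, q_smul, q_emb_zero D hp.qy]
    module
  -- the multiplier is rational
  have hk' : k ∈ F₀ := by
    have e := congrArg (fun y => B y (emb P fu)) hu'
    rw [hgu, b_emb_one D hufu, b_smul_left, b_emb D] at e
    rw [eq_inv_of_mul_eq_one_left e.symm]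
    exact F₀.inv_mem (SetLike.coe_mem _)
  refine hc ?_
  have e := congrArg (fun y => B y (emb P fv)) hf'
  rw [hgf, b_add_left, b_smul_left, b_emb_one D hvfv, mul_one, b_smul_left, b_emb D, b_emb D] at e
  rw [show c = k * (B₀ f' fv : F₀) - (B₀ fu fv : F₀) by linear_combination e]
  exact F₀.sub_mem (F₀.mul_mem hk' (SetLike.coe_mem _)) (SetLike.coe_mem _)

omit D hσ hM

/-- Subfield subgroups are maximal. -/
theorem isMaximalIn_subfield (hB : Nondeg Q) (hn : 7 ≤ Fintype.card ι) (hr : r.Prime)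
    (hcard : Nat.card F = Nat.card F₀ ^ r) (hP : Cfsg.Geo.IsQuadFormRationalStructure (⇑Q) F₀ P) :
    Cfsg.Geo.IsMaximalIn (Cfsg.Geo.omegaGL ⇑Q)
      (Cfsg.Geo.subfieldSubgroup F₀ P ⊓ Cfsg.Geo.omegaGL ⇑Q) := by
  classical
  obtain ⟨Q₀, hQ₀⟩ : ∃ Q₀ : QuadraticForm F₀ (ι → F₀), ∀ u, (Q₀ u : F) = Q (emb P u) := by
    have hmem : ∀ u : ι → F₀, Q (emb P u) ∈ F₀ := fun u => hP _ fun i => (u i).2
    refine ⟨QuadraticMap.ofPolar (fun u => ⟨_, hmem u⟩) ?_ ?_ ?_, fun u => rfl⟩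
    · intro k x
      refine Subtype.ext ?_
      show Q (emb P (k • x)) = ((k : F) * k) * Q (emb P x)
      rw [emb_smul, q_smul]
    · intro x x' y
      refine Subtype.ext ?_
      simp only [QuadraticMap.polar, AddSubgroupClass.coe_sub, AddMemClass.coe_add, emb_add]
      simp only [q_add, b_add_left]
      ring
    · intro k x y
      refine Subtype.ext ?_
      simp only [QuadraticMap.polar, AddSubgroupClass.coe_sub, smul_eq_mul, MulMemClass.coe_mul, emb_add,
        emb_smul]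
      simp only [q_add, q_smul, b_smul_left]
      ring
  have D : Str Q F₀ P Q₀ r := ⟨hB, hQ₀, hn, hr, hcard⟩
  obtain ⟨σ, hσ⟩ := exists_frob F₀
  refine isMaximalIn_omegaGL (H := (Cfsg.Geo.subfieldSubgroup F₀ P).comap
    (Cfsg.isometryGroup F ⇑Q).subtype) (fun _ => Iff.rfl) ?_
  rw [omega_eq_El hB (by rw [Module.finrank_pi]; omega)]
  refine ⟨lt_of_le_not_ge inf_le_right fun h => ?_, fun M hle hM => ?_⟩
  · obtain ⟨g, hg, hgn⟩ := exists_siegel_not_mem D
    exact hgn (h hg).1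
  by_cases hMH : M ≤ (Cfsg.Geo.subfieldSubgroup F₀ P).comap (Cfsg.isometryGroup F ⇑Q).subtype
  · exact Or.inl (le_antisymm (le_inf hMH hM) hle)
  obtain ⟨g, hg, hgn⟩ := SetLike.not_le_iff_exists.1 hMH
  refine Or.inr (le_antisymm hM (El_le_of_not_mem hσ D (fun k hk hpres => hle ⟨?_, hk⟩) hg hgn))
  exact emb_mem_subfield hpres

omit [Finite F] in
/-- Proportional forms have the same commutator subgroup. -/
theorem omegaGL_smul {Q' : (ι → F) → F} {ζ : F} (hζ : ζ ≠ 0) :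
    Cfsg.Geo.omegaGL (fun v => ζ * Q' v) = Cfsg.Geo.omegaGL Q' := by
  have h : Cfsg.isometryGroup F (fun v => ζ * Q' v) = Cfsg.isometryGroup F Q' := by
    ext g
    exact ⟨fun hg u v => mul_left_cancel₀ hζ (hg u v), fun hg u v => congrArg (ζ * ·) (hg u v)⟩
  rw [Cfsg.Geo.omegaGL, Cfsg.Geo.omegaGL, Cfsg.Omega, Cfsg.Omega, Subgroup.map_subtype_commutator,
    Subgroup.map_subtype_commutator, h]

end CfsgLib.Orth.Rat
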