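import Cfsg.Agent.Lib.Classical.OrthNondeg
import Cfsg.Agent.Lib.Classical.LinearSubfield

/-!
Rational structures on orthogonal spaces: a subgroup containing the rational Siegel elements and one
root element with an irrational parameter on a rational line contains every Siegel element.
-/

set_option autoImplicit false
set_option linter.unusedSectionVars false

namespace CfsgLib.Orth.Rat

open Matrix

variable {F : Type*} [Field F] [Finite F] {ι : Type} [Fintype ι] [DecidableEq ι]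
variable {Q : QuadraticForm F (ι → F)} {F₀ : Subfield F} {P : GL ι F}
variable {Q₀ : QuadraticForm F₀ (ι → F₀)} {r : ℕ}

local notation "B" => QuadraticMap.polar (DFunLike.coe Q)
local notation "B₀" => QuadraticMap.polar (DFunLike.coe Q₀)

/-- The vector with given rational coordinates. -/
def emb (P : GL ι F) (u : ι → F₀) : ι → F := (P : Matrix ι ι F) *ᵥ fun i => (u i : F)

omit [Finite F] in
theorem emb_add (u v : ι → F₀) : emb P (u + v) = emb P u + emb P v := by
  rw [emb, emb, emb, ← mulVec_add]; rfl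

omit [Finite F] in
theorem emb_smul (c : F₀) (u : ι → F₀) : emb P (c • u) = (c : F) • emb P u := by
  rw [emb, emb, ← mulVec_smul]; rfl

omit [Finite F] in
theorem emb_zero : emb P (0 : ι → F₀) = 0 := mulVec_zero _

omit [Finite F] in
theorem emb_neg (u : ι → F₀) : emb P (-u) = -emb P u := by
  rw [emb, emb, ← mulVec_neg]; rfl

omit [Finite F] in
theorem emb_sub (u v : ι → F₀) : emb P (u - v) = emb P u - emb P v := by
  rw [sub_eq_add_neg, emb_add, emb_neg, ← sub_eq_add_neg]

omit [Finite F] in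
theorem emb_inj {u v : ι → F₀} (h : emb P u = emb P v) : u = v := by
  have := congrArg (fun x => ((P⁻¹ : GL ι F) : Matrix ι ι F) *ᵥ x) h
  simp only [emb, mulVec_mulVec, Units.inv_mul, one_mulVec] at this
  exact funext fun i => Subtype.ext (congrFun this i)

omit [Finite F] in
/-- Every vector is a combination of rational ones. -/
theorem sum_emb_single (x : ι → F) :
    x = ∑ j, (((P⁻¹ : GL ι F) : Matrix ι ι F) *ᵥ x) j • emb P (Pi.single j (1 : F₀)) := by
  have e : ∀ j, emb P (Pi.single j (1 : F₀)) = (P : Matrix ι ι F) *ᵥ Pi.single j (1 : F) := fun j => by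
    rw [emb]
    congr 1
    funext i
    rcases eq_or_ne i j with rfl | h
    · simp
    · simp [Pi.single_eq_of_ne h]
  obtain ⟨y, hy⟩ : ∃ y, y = ((P⁻¹ : GL ι F) : Matrix ι ι F) *ᵥ x := ⟨_, rfl⟩
  rw [← hy]
  simp only [e, ← mulVec_smul, ← mulVec_sum]
  rw [← pi_eq_sum_univ' y, hy, mulVec_mulVec, Units.mul_inv, one_mulVec]

/-- The hypotheses on a rational structure. -/
structure Str (Q : QuadraticForm F (ι → F)) (F₀ : Subfield F) (P : GL ι F)
    (Q₀ : QuadraticForm F₀ (ι → F₀)) (r : ℕ) : Prop where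
  nd : Nondeg Q
  compat : ∀ u, (Q₀ u : F) = Q (emb P u)
  dim : 7 ≤ Fintype.card ι
  prime : r.Prime
  card : Nat.card F = Nat.card F₀ ^ r

variable (D : Str Q F₀ P Q₀ r)

include D

theorem q_emb (u : ι → F₀) : Q (emb P u) = (Q₀ u : F) := (D.compat u).symm

theorem b_emb (u v : ι → F₀) : B (emb P u) (emb P v) = (B₀ u v : F) := by
  simp only [QuadraticMap.polar, ← emb_add, q_emb D, AddSubgroupClass.coe_sub]

theorem nd₀ : Nondeg Q₀ := by
  intro x hx
  refine emb_inj (P := P) (F₀ := F₀) ?_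
  rw [emb_zero]
  refine D.nd _ fun y => ?_
  have h : ∀ j, QuadraticMap.polarBilin Q (emb P x) (emb P (Pi.single j (1 : F₀))) = 0 := fun j => by
    rw [QuadraticMap.polarBilin_apply_apply, b_emb D, hx, ZeroMemClass.coe_zero]
  rw [sum_emb_single (F₀ := F₀) (P := P) y, ← QuadraticMap.polarBilin_apply_apply, map_sum]
  exact Finset.sum_eq_zero fun j _ => by rw [map_smul, h, smul_zero]

theorem finrank₀ : 7 ≤ Module.finrank F₀ (ι → F₀) := by
  rw [Module.finrank_pi]; exact D.dim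

/-- A nonzero singular rational vector orthogonal to a short list. -/
theorem exists_perp (s : Finset (ι → F₀)) (hs : s.card ≤ 4) :
    ∃ w, w ≠ 0 ∧ Q₀ w = 0 ∧ ∀ x ∈ s, B₀ x w = 0 := by
  have h := finrank_orth_span (nd₀ D) s
  have := finrank₀ D
  obtain ⟨w, hw, hw0, hwq⟩ := exists_singular (Q := Q₀)
    (U := orth Q₀ (Submodule.span F₀ (s : Set (ι → F₀)))) (by omega)
  exact ⟨w, hw0, hwq, fun x hx => mem_orth_span.1 hw x hx⟩

/-- A singular partner orthogonal to a list. -/
theorem exists_dual (S : Set (ι → F₀)) {x : ι → F₀} (hx : Q₀ x = 0) (hxS : ∀ s ∈ S, B₀ s x = 0)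
    (h : x ∉ Submodule.span F₀ S) :
    ∃ f, Q₀ f = 0 ∧ B₀ x f = 1 ∧ ∀ s ∈ S, B₀ s f = 0 := by
  obtain ⟨z, hz, hxz⟩ := exists_orth_one (nd₀ D) h
  refine ⟨z - Q₀ z • x, ?_, ?_, fun s hs => ?_⟩
  · rw [q_sub, q_smul, hx, mul_zero, add_zero, b_smul_right, b_comm z x, hxz, mul_one, sub_self]
  · rw [b_sub_right, b_smul_right, hxz, b_self_zero hx, mul_zero, sub_zero]
  · rw [b_sub_right, b_smul_right, mem_orth_span.1 hz s hs, hxS s hs, mul_zero, sub_zero]

/-- An independent orthogonal pair of singular rational vectors. -/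
structure Pr (Q₀ : QuadraticForm F₀ (ι → F₀)) (x y : ι → F₀) : Prop where
  qx : Q₀ x = 0
  qy : Q₀ y = 0
  bxy : QuadraticMap.polar (DFunLike.coe Q₀) x y = 0
  x0 : x ≠ 0
  ind : y ∉ Submodule.span F₀ {x}

omit D in
theorem Pr.symm {x y : ι → F₀} (h : Pr Q₀ x y) : Pr Q₀ y x := by
  refine ⟨h.qy, h.qx, by rw [b_comm]; exact h.bxy, fun e => h.ind (e ▸ Submodule.zero_mem _), fun e => ?_⟩
  obtain ⟨c, hc⟩ := Submodule.mem_span_singleton.1 e
  have hc0 : c ≠ 0 := fun e0 => h.x0 (by rw [← hc, e0, zero_smul])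
  exact h.ind (Submodule.mem_span_singleton.2 ⟨c⁻¹, by
    rw [← hc, smul_smul, inv_mul_cancel₀ hc0, one_smul]⟩)

omit D in
theorem Pr.y0 {x y : ι → F₀} (h : Pr Q₀ x y) : y ≠ 0 := h.symm.x0

theorem exists_two_duals {x y : ι → F₀} (h : Pr Q₀ x y) :
    ∃ fx fy, Q₀ fx = 0 ∧ Q₀ fy = 0 ∧ B₀ x fx = 1 ∧ B₀ y fy = 1 ∧ B₀ x fy = 0 ∧ B₀ y fx = 0 ∧
      B₀ fx fy = 0 := by
  obtain ⟨fx, hfx, hxfx, hyfx⟩ := exists_dual D {y} h.qx (fun s hs => by
    rw [Set.mem_singleton_iff.1 hs, b_comm]; exact h.bxy) h.symm.ind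
  have hy2 : y ∉ Submodule.span F₀ ({x, fx} : Set (ι → F₀)) := fun e => by
    obtain ⟨a, b, e⟩ := Submodule.mem_span_pair.1 e
    have e1 := congrArg (B₀ x) e
    rw [b_add_right, b_smul_right, b_smul_right, b_self_zero h.qx, hxfx, h.bxy, mul_zero, zero_add,
      mul_one] at e1
    exact h.ind (Submodule.mem_span_singleton.2 ⟨a, by rw [← e, e1, zero_smul, add_zero]⟩)
  obtain ⟨fy, hfy, hyfy, hs⟩ := exists_dual D {x, fx} h.qy (fun s hs => by
    rcases hs with rfl | rfl
    · exact h.bxy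
    · rw [b_comm]; exact hyfx y rfl) hy2
  exact ⟨fx, fy, hfx, hfy, hxfx, hyfy, hs x (Or.inl rfl), hyfx y rfl, hs fx (Or.inr rfl)⟩

/-- A singular vector orthogonal to a list and independent of two orthogonal pairs. -/
theorem exists_pr_perp {x : ι → F₀} (hx : Q₀ x = 0) (hx0 : x ≠ 0) (s : Finset (ι → F₀)) (hs : s.card ≤ 2) :
    ∃ d, Pr Q₀ x d ∧ ∀ z ∈ s, B₀ z d = 0 := by
  classical
  obtain ⟨f, hf, hxf⟩ := exists_partner (nd₀ D) hx hx0
  obtain ⟨d, hd0, hd, hd'⟩ := exists_perp D (insert x (insert f s))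
    (((Finset.card_insert_le _ _).trans (Nat.succ_le_succ (Finset.card_insert_le _ _))).trans
      (by omega))
  refine ⟨d, ⟨hx, hd, hd' x (Finset.mem_insert_self _ _), hx0, fun e => ?_⟩,
    fun z hz => hd' z (Finset.mem_insert_of_mem (Finset.mem_insert_of_mem hz))⟩
  obtain ⟨c, rfl⟩ := Submodule.mem_span_singleton.1 e
  have := hd' f (Finset.mem_insert_of_mem (Finset.mem_insert_self _ _))
  rw [b_smul_right, b_comm f x, hxf, mul_one] at this
  exact hd0 (by rw [this, zero_smul])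

omit D

/-- All Siegel elements `T(x, y)` lie in `M`. -/
def Mem (M : Subgroup (Grp Q)) (x y : ι → F) : Prop := ∀ k, IsSiegel x y k → k ∈ M

/-- The root element with parameter `c` on the rational pair lies in `M`. -/
def PM (P : GL ι F) (M : Subgroup (Grp Q)) (x y : ι → F₀) (c : F) : Prop :=
  Mem M (emb P x) (c • emb P y)

variable {M : Subgroup (Grp Q)}

theorem Mem.zero (u : ι → F) : Mem M u 0 := fun k hk => by
  rw [siegel_unique hk (siegel_one hk.1)]; exact one_mem M

theorem Mem.neg (hB : Nondeg Q) {u v : ι → F} (h : Mem M u v) : Mem M u (-v) := fun k hk => by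
  obtain ⟨k', hk'⟩ := exists_siegel hB hk.1 (v := v) (by
    have := hk.2.1
    rwa [← neg_one_smul F v, b_smul_right, neg_mul, one_mul, neg_eq_zero] at this)
  have e := siegel_mul hk hk'
  rw [neg_add_cancel] at e
  rw [eq_inv_of_mul_eq_one_left (siegel_unique e (siegel_one hk.1))]
  exact inv_mem (h k' hk')

theorem Mem.add (hB : Nondeg Q) {u v w : ι → F} (hw : B u w = 0) (h : Mem M u v) (h' : Mem M u w) :
    Mem M u (v + w) := fun _ hk => siegel_add_mem hB hk hw h h'

theorem Mem.swap {a b : ι → F} (ha : Q a = 0) (hb : Q b = 0) (h : Mem M a b) : Mem M b (-a) := by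
  intro k hk
  refine h k ⟨ha, ?_, fun z => ?_⟩
  · have := hk.2.1
    rwa [← neg_one_smul F a, b_smul_right, neg_mul, one_mul, neg_eq_zero, b_comm] at this
  · rw [hk.2.2, ← neg_one_smul F a, b_smul_right, q_smul, ha, hb]
    module

theorem Mem.swap' (hB : Nondeg Q) {a b : ι → F} (ha : Q a = 0) (hb : Q b = 0) (h : Mem M a b) :
    Mem M b a := neg_neg a ▸ (h.swap ha hb).neg hB

theorem Mem.scale (hB : Nondeg Q) {a b : ι → F} (hab : B a b = 0) (ha : Q a = 0) (c : F)
    (h : Mem M (c • a) b) : Mem M a (c • b) := by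
  intro k hk
  obtain ⟨k', hk'⟩ := exists_siegel hB (u := c • a) (v := b) (by rw [q_smul, ha, mul_zero])
    (by rw [b_smul_left, hab, mul_zero])
  obtain ⟨k₁, hk₁⟩ := exists_siegel hB ha (v := b) hab
  rw [siegel_unique hk (siegel_smul hk₁ c hk')]
  exact h k' hk'

theorem Mem.conj {x y : ι → F} {s : Grp Q} (hs : s ∈ M) (h : Mem M x y) :
    Mem M (ap s x) (ap s y) := fun k hk =>
  siegel_conj_mem hk hs fun k' hk' => h k' (by rwa [ap_inv_ap, ap_inv_ap] at hk')

/-- The commutator of an element fixing `d` with a root element through `d`. -/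
theorem Mem.moved (hB : Nondeg Q) {g : Grp Q} (hg : g ∈ M) {f d : ι → F} (hfd : B d f = 0)
    (h : Mem M d f) (hgd : ap g d = d) : Mem M d (ap g f - f) := by
  have h1 := h.conj hg
  rw [hgd] at h1
  rw [sub_eq_add_neg]
  exact h1.add hB (by rw [← neg_one_smul F f, b_smul_right, hfd, mul_zero]) (h.neg hB)

variable (hM : ∀ g : Grp Q, g ∈ El Q → (∀ u : ι → F₀, ∃ u' : ι → F₀, ap g (emb P u) = emb P u') → g ∈ M)

include D hM

theorem mem_rational (x y : ι → F₀) (c : F₀) : Mem M (emb P x) ((c : F) • emb P y) := fun k hk =>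
  hM k (siegel_mem_El hk) fun u => ⟨u + B₀ u x • (c • y) - B₀ u (c • y) • x - (Q₀ (c • y) * B₀ u x) • x, by
    rw [hk.2.2]
    simp only [emb_sub, emb_add, emb_smul, ← b_emb D, ← q_emb D, MulMemClass.coe_mul]⟩

theorem mem_rational_one (x y : ι → F₀) : Mem M (emb P x) (emb P y) := by
  simpa using mem_rational D hM x y 1

omit hM in
theorem PM.swap {x y : ι → F₀} {c : F} (hx : Q₀ x = 0) (hy : Q₀ y = 0) (hxy : B₀ x y = 0)
    (h : PM P M x y c) : PM P M y x c := by
  have hx' : Q (emb P x) = 0 := by rw [q_emb D, hx, ZeroMemClass.coe_zero]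
  have hy' : Q (emb P y) = 0 := by rw [q_emb D, hy, ZeroMemClass.coe_zero]
  refine (Mem.swap' D.nd hx' (by rw [q_smul, hy', mul_zero]) h).scale D.nd ?_ hy' c
  rw [b_emb D, b_comm, hxy, ZeroMemClass.coe_zero]

omit hM in
theorem comm {a b c d : ι → F₀} (ha : Q₀ a = 0) (hb : Q₀ b = 0) (hc : Q₀ c = 0) (hd : Q₀ d = 0)
    (hab : B₀ a b = 0) (hac : B₀ a c = 0) (had : B₀ a d = 0) (hbd : B₀ b d = 0) (hcd : B₀ c d = 0)
    (hbc : B₀ b c = 1) {s t : F} (h : PM P M a b s) (h' : PM P M c d t) : PM P M d a (s * t) := by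
  have e : ∀ u v : ι → F₀, B₀ u v = 0 → B (emb P u) (emb P v) = 0 := fun u v huv => by
    rw [b_emb D, huv, ZeroMemClass.coe_zero]
  have hq : ∀ u : ι → F₀, Q₀ u = 0 → Q (emb P u) = 0 := fun u hu => by
    rw [q_emb D, hu, ZeroMemClass.coe_zero]
  have hbc' : B (emb P b) (emb P c) = 1 := by rw [b_emb D, hbc, OneMemClass.coe_one]
  obtain ⟨g, hg⟩ := exists_siegel D.nd (hq a ha) (v := s • emb P b)
    (by rw [b_smul_right, e a b hab, mul_zero])
  have hgc : ap g (t • emb P c) = t • emb P c - (t * s) • emb P a := by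
    rw [hg.2.2, b_smul_left, b_comm (emb P c), e a c hac, b_smul_left, b_smul_right,
      b_comm (emb P c), hbc', q_smul, hq b hb]
    module
  have hgd : ap g (emb P d) = emb P d := siegel_fix hg (by rw [b_comm]; exact e a d had)
    (by rw [b_smul_right, b_comm, e b d hbd, mul_zero])
  have hd' : Mem M (emb P d) (t • emb P c) := h'.swap D hc hd hcd
  have h1 := hd'.moved D.nd (h g hg) (by rw [b_smul_right, b_comm, e c d hcd, mul_zero]) hgd
  rw [hgc, sub_sub_cancel_left] at h1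
  have h2 := h1.neg D.nd
  rw [neg_neg, mul_comm] at h2
  exact h2

/-- An irrational parameter on a rational pair gives every parameter. -/
theorem full_of_irrational {x y : ι → F₀} (hp : Pr Q₀ x y) {c : F} (hc : PM P M x y c) (hcn : c ∉ F₀) :
    ∀ s, PM P M x y s := by
  obtain ⟨fx, fy, hfx, hfy, hxfx, hyfy, hxfy, hyfx, hff⟩ := exists_two_duals D hp
  classical
  obtain ⟨z, hz0, hz, hzs⟩ := exists_perp D {x, y, fx, fy} (by
    refine Finset.card_le_four.trans ?_; norm_num)
  simp only [Finset.mem_insert, Finset.mem_singleton, forall_eq_or_imp, forall_eq] at hzs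
  obtain ⟨hxz, hyz, hfxz, hfyz⟩ := hzs
  have hzn : z ∉ Submodule.span F₀ ({x, y, fx, fy} : Set (ι → F₀)) := fun e => by
    obtain ⟨a, w, hw, e⟩ := Submodule.mem_span_insert.1 e
    obtain ⟨b, w', hw', rfl⟩ := Submodule.mem_span_insert.1 hw
    obtain ⟨g, k, rfl⟩ := Submodule.mem_span_pair.1 hw'
    have e1 := congrArg (B₀ fx) e
    have e2 := congrArg (B₀ fy) e
    have e3 := congrArg (B₀ x) e
    have e4 := congrArg (B₀ y) e
    simp only [b_add_right, b_smul_right, hfxz, hfyz, hxz, hyz, hff, b_comm fy fx, b_comm fx x,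
      b_comm fy x, b_comm fx y, b_comm fy y, b_comm y x, hp.bxy, hxfx, hyfy, hxfy, hyfx,
      b_self_zero hp.qx, b_self_zero hp.qy, b_self_zero hfx, b_self_zero hfy, mul_zero, mul_one,
      add_zero, zero_add] at e1 e2 e3 e4
    exact hz0 (by rw [e, ← e1, ← e2, ← e3, ← e4]; simp)
  obtain ⟨fz, hfz, hzfz, hs⟩ := exists_dual D {x, y, fx, fy} hz (fun s hs => by
    rcases hs with rfl | rfl | rfl | rfl
    exacts [hxz, hyz, hfxz, hfyz]) hzn
  have hxfz := hs x (by simp)
  have hyfz := hs y (by simp)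
  have one : ∀ u v : ι → F₀, PM P M u v 1 := fun u v => by
    unfold PM; rw [one_smul]; exact mem_rational_one D hM u v
  -- move the parameter to the other edges
  have t13 : ∀ s, PM P M x y s → PM P M x z s := fun s h => by
    have := comm D hp.qx hp.qy hfy hz hp.bxy hxfy hxz hyz hfyz hyfy h (one fy z)
    rw [mul_one] at this
    exact this.swap D hz hp.qx (by rw [b_comm]; exact hxz)
  have t12 : ∀ s, PM P M x z s → PM P M x y s := fun s h => by
    have := comm D hp.qx hz hfz hp.qy hxz hxfz hp.bxy (by rw [b_comm]; exact hyz)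
      (by rw [b_comm]; exact hyfz) hzfz h (one fz y)
    rw [mul_one] at this
    exact this.swap D hp.qy hp.qx (by rw [b_comm]; exact hp.bxy)
  have t23 : ∀ s, PM P M x z s → PM P M fy z s := fun s h => by
    have := comm D hz hp.qx hfx hfy (by rw [b_comm]; exact hxz) (by rw [b_comm]; exact hfxz)
      (by rw [b_comm]; exact hfyz) hxfy hff hxfx (h.swap D hp.qx hz hxz) (one fx fy)
    rwa [mul_one] at this
  have hmul : ∀ s, PM P M x y s → ∀ t, PM P M x y t → PM P M x y (s * t) := fun s hs t ht =>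
    t12 _ ((comm D hp.qx hp.qy hfy hz hp.bxy hxfy hxz hyz hfyz hyfy hs (t23 t (t13 t ht))).swap D
      hz hp.qx (by rw [b_comm]; exact hxz))
  have hadd : ∀ s, PM P M x y s → ∀ t, PM P M x y t → PM P M x y (s + t) := fun s hs t ht => by
    have := hs.add D.nd (by rw [b_smul_right, b_emb D, hp.bxy, ZeroMemClass.coe_zero, mul_zero]) ht
    rwa [← add_smul] at this
  exact Classical.MinIndex.Subfield.eq_univ_of_closed (F₀ := F₀) (S := {s | PM P M x y s}) D.prime
    D.card (fun s hs => mem_rational D hM x y ⟨s, hs⟩) hadd hmul hc hcn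

omit hM in
theorem mem_add_pair {x y z : ι → F₀} (hz : B₀ x z = 0) {c : F} (h : PM P M x y c) (h' : PM P M x z c) :
    PM P M x (y + z) c := by
  unfold PM
  rw [emb_add, smul_add]
  exact h.add D.nd (by rw [b_smul_right, b_emb D, hz, ZeroMemClass.coe_zero, mul_zero]) h'

theorem spread_step {x y d : ι → F₀} (hp : Pr Q₀ x y) (hd : Q₀ d = 0) (hxd : B₀ x d = 0)
    (hyd : B₀ y d = 0) (hy : y ∉ Submodule.span F₀ ({x, d} : Set (ι → F₀))) (h : ∀ s, PM P M x y s) :
    ∀ s, PM P M x d s := fun s => by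
  obtain ⟨f, hf, hyf, hs⟩ := exists_dual D {x, d} hp.qy (fun u hu => by
    rcases hu with rfl | rfl
    · exact hp.bxy
    · rw [b_comm]; exact hyd) hy
  have h1 : PM P M f d 1 := by unfold PM; rw [one_smul]; exact mem_rational_one D hM f d
  have := comm D hp.qx hp.qy hf hd hp.bxy (hs x (Or.inl rfl)) hxd hyd
    (by rw [b_comm]; exact hs d (Or.inr rfl)) hyf (h s) h1
  rw [mul_one] at this
  exact this.swap D hd hp.qx (by rw [b_comm]; exact hxd)

omit hM in
theorem not_mem_pair {x d y f : ι → F₀} (hp : Pr Q₀ x y) (hxd : Pr Q₀ x d) (hf : B₀ y f = 1)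
    (hdf : B₀ d f = 0) (hxf : B₀ x f = 0) : y ∉ Submodule.span F₀ ({x, d} : Set (ι → F₀)) := fun e => by
  obtain ⟨a, b, e⟩ := Submodule.mem_span_pair.1 e
  have := congrArg (fun u => B₀ u f) e
  simp only [b_add_left, b_smul_left, hxf, hdf, hf, mul_zero, add_zero] at this
  exact zero_ne_one this

/-- The pairs through a vector of a full pair are full. -/
theorem spread {x y z : ι → F₀} (hp : Pr Q₀ x y) (hxz : Pr Q₀ x z) (h : ∀ s, PM P M x y s) :
    ∀ s, PM P M x z s := by
  classical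
  by_cases hyz : B₀ y z = 0
  · by_cases hy2 : y ∈ Submodule.span F₀ ({x, z} : Set (ι → F₀))
    swap
    · exact spread_step D hM hp hxz.qy hxz.bxy hyz hy2 h
    obtain ⟨a, b, e⟩ := Submodule.mem_span_pair.1 hy2
    have hb : b ≠ 0 := fun hb => hp.ind (Submodule.mem_span_singleton.2 ⟨a, by rw [← e, hb, zero_smul, add_zero]⟩)
    obtain ⟨fx, fy, -, -, -, hyfy, hxfy, -, -⟩ := exists_two_duals D hp
    obtain ⟨d, hxd, hd⟩ := exists_pr_perp D hp.qx hp.x0 {y, fy} Finset.card_le_two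
    simp only [Finset.mem_insert, Finset.mem_singleton, forall_eq_or_imp, forall_eq] at hd
    obtain ⟨hyd, hfyd⟩ := hd
    have hn := not_mem_pair D hp hxd hyfy (by rw [b_comm]; exact hfyd) hxfy
    have hdz : B₀ d z = 0 := by
      have e2 := congrArg (B₀ d) e
      rw [b_add_right, b_smul_right, b_smul_right, b_comm d x, hxd.bxy, b_comm d y, hyd, mul_zero,
        zero_add] at e2
      exact (mul_eq_zero.1 e2).resolve_left hb
    refine spread_step D hM hxd hxz.qy hxz.bxy hdz (fun e' => ?_)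
      (spread_step D hM hp hxd.qy hxd.bxy hyd hn h)
    obtain ⟨a', b', e'⟩ := Submodule.mem_span_pair.1 e'
    have hb' : b' ≠ 0 := fun hb' => hxd.ind (Submodule.mem_span_singleton.2 ⟨a', by rw [← e', hb', zero_smul, add_zero]⟩)
    refine hn (Submodule.mem_span_pair.2 ⟨a - b * (a' / b'), b / b', ?_⟩)
    rw [← e, ← e']
    match_scalars <;> field_simp <;> ring
  obtain ⟨d, hxd, hd⟩ := exists_pr_perp D hp.qx hp.x0 {y, z} Finset.card_le_two
  simp only [Finset.mem_insert, Finset.mem_singleton, forall_eq_or_imp, forall_eq] at hd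
  obtain ⟨hyd, hzd⟩ := hd
  have h1 := spread_step D hM hp hxd.qy hxd.bxy hyd (fun e => ?_) h
  · refine spread_step D hM hxd hxz.qy hxz.bxy (by rw [b_comm]; exact hzd) (fun e => ?_) h1
    obtain ⟨a, b, e⟩ := Submodule.mem_span_pair.1 e
    have e2 := congrArg (B₀ y) e
    rw [b_add_right, b_smul_right, b_smul_right, b_comm y x, hp.bxy, hyd, mul_zero, zero_add] at e2
    exact hxd.ind (Submodule.mem_span_singleton.2 ⟨a, by
      rw [← e, (mul_eq_zero.1 e2).resolve_right hyz, zero_smul, add_zero]⟩)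
  · obtain ⟨a, b, e⟩ := Submodule.mem_span_pair.1 e
    have e2 := congrArg (B₀ z) e
    rw [b_add_right, b_smul_right, b_smul_right, b_comm z x, hxz.bxy, hzd, mul_zero, mul_zero,
      zero_add, b_comm z y] at e2
    exact hyz e2.symm

/-- The Siegel group of a vector of a full pair lies in `M`. -/
theorem mem_point {x y : ι → F₀} (hp : Pr Q₀ x y) (h : ∀ s, PM P M x y s) (v : ι → F) :
    Mem M (emb P x) v := by
  intro k hk
  obtain ⟨f, hf, hxf⟩ := exists_partner (nd₀ D) hp.qx hp.x0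
  classical
  obtain ⟨s, hps, hs'⟩ := exists_pr_perp D hp.qx hp.x0 {f} (by simp)
  have hfs : B₀ f s = 0 := hs' f (by simp)
  have hsn : s ∉ Submodule.span F₀ ({x, f} : Set (ι → F₀)) := fun e => by
    obtain ⟨a, b, e⟩ := Submodule.mem_span_pair.1 e
    have := congrArg (B₀ x) e
    simp only [b_add_right, b_smul_right, b_self_zero hp.qx, hxf, hps.bxy, mul_zero, mul_one,
      zero_add] at this
    exact hps.ind (Submodule.mem_span_singleton.2 ⟨a, by rw [← e, this, zero_smul, add_zero]⟩)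
  obtain ⟨t, ht, hst, hxt⟩ := exists_dual D {x, f} hps.qy (fun u hu => by
    rcases hu with rfl | rfl
    exacts [hps.bxy, hfs]) hsn
  have hxt : B₀ x t = 0 := hxt x (Or.inl rfl)
  -- a rational vector orthogonal to `x` is a sum of singular ones
  have hsing : ∀ z : ι → F₀, Q₀ z = 0 → B₀ x z = 0 → ∀ a : F, Mem M (emb P x) (a • emb P z) := by
    intro z hz hxz a
    by_cases hzx : z ∈ Submodule.span F₀ {x}
    · obtain ⟨c, rfl⟩ := Submodule.mem_span_singleton.1 hzx
      intro k hk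
      rw [emb_smul, smul_smul] at hk
      have h0 := siegel_add_self hk (-(a * c))
      rw [← add_smul, add_neg_cancel, zero_smul] at h0
      rw [siegel_unique h0 (siegel_one hk.1)]
      exact one_mem M
    · exact spread D hM hp ⟨hp.qx, hz, hxz, hp.x0, hzx⟩ h a
  have hrat : ∀ z : ι → F₀, B₀ x z = 0 → ∀ a : F, Mem M (emb P x) (a • emb P z) := by
    intro z hxz a
    obtain ⟨z₀, hz₀⟩ : ∃ z₀, z₀ = z - B₀ z t • s - B₀ z s • t := ⟨_, rfl⟩
    have h₁ : B₀ z₀ s = 0 := by
      rw [hz₀, b_sub_left, b_sub_left, b_smul_left, b_smul_left, b_self_zero hps.qy, b_comm t s, hst]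
      ring
    have h₂ : B₀ z₀ t = 0 := by
      rw [hz₀, b_sub_left, b_sub_left, b_smul_left, b_smul_left, b_self_zero ht, hst]
      ring
    obtain ⟨z₁, hz₁⟩ : ∃ z₁, z₁ = z₀ + (-Q₀ z₀) • s + t := ⟨_, rfl⟩
    have hxz₀ : B₀ x z₀ = 0 := by
      simp [hz₀, b_sub_right, b_smul_right, hxz, hps.bxy, hxt]
    have e : a • emb P z = a • emb P z₁ + (a * ((B₀ z t + Q₀ z₀ : F₀) : F)) • emb P s +
        (a * ((B₀ z s - 1 : F₀) : F)) • emb P t := by
      rw [← smul_smul, ← smul_smul, ← smul_add, ← smul_add, ← emb_smul, ← emb_smul, ← emb_add,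
        ← emb_add, hz₁, hz₀]
      congr 2
      module
    have hb : ∀ w : ι → F₀, B₀ x w = 0 → ∀ b : F, B (emb P x) (b • emb P w) = 0 := fun w hw b => by
      rw [b_smul_right, b_emb D, hw, ZeroMemClass.coe_zero, mul_zero]
    rw [e]
    refine ((hsing z₁ ?_ ?_ _).add D.nd (hb s hps.bxy _) (hsing s hps.qy hps.bxy _)).add D.nd
      (hb t hxt _) (hsing t ht hxt _)
    · rw [hz₁, q_add, q_add, q_smul, hps.qy, ht, b_smul_right, h₁, b_add_left, h₂, b_smul_left, hst]
      ring
    · simp [hz₁, b_add_right, b_smul_right, hxz₀, hps.bxy, hxt]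
  -- split `v` along a rational basis
  obtain ⟨γ, hγ⟩ : ∃ γ : ι → F, γ = ((P⁻¹ : GL ι F) : Matrix ι ι F) *ᵥ v := ⟨_, rfl⟩
  obtain ⟨w, hw⟩ : ∃ w : ι → ι → F₀, w = fun j => Pi.single j 1 - B₀ x (Pi.single j 1) • f := ⟨_, rfl⟩
  have hxw : ∀ j, B₀ x (w j) = 0 := fun j => by
    rw [hw, b_sub_right, b_smul_right, hxf, mul_one, sub_self]
  have hv : v = ∑ j, γ j • emb P (w j) := by
    have hbj : ∑ j, γ j * ((B₀ x (Pi.single j 1) : F₀) : F) = 0 := by
      have h2 := hk.2.1
      rw [sum_emb_single (F₀ := F₀) (P := P) v, ← hγ, ← QuadraticMap.polarBilin_apply_apply, map_sum] at h2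
      rw [← h2]
      exact Finset.sum_congr rfl fun j _ => by
        rw [map_smul, QuadraticMap.polarBilin_apply_apply, b_emb D, smul_eq_mul]
    conv_lhs => rw [sum_emb_single (F₀ := F₀) (P := P) v, ← hγ]
    simp only [hw, emb_sub, emb_smul, smul_sub, smul_smul, Finset.sum_sub_distrib, ← Finset.sum_smul,
      hbj, zero_smul, sub_zero]
  have hsum : ∀ S : Finset ι, Mem M (emb P x) (∑ j ∈ S, γ j • emb P (w j)) ∧
      B (emb P x) (∑ j ∈ S, γ j • emb P (w j)) = 0 := by
    intro S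
    induction S using Finset.induction_on with
    | empty => exact ⟨by rw [Finset.sum_empty]; exact Mem.zero _, by rw [Finset.sum_empty, b_zero_right]⟩
    | insert j S hj ih =>
      rw [Finset.sum_insert hj]
      exact ⟨(hrat _ (hxw j) _).add D.nd ih.2 ih.1, by
        rw [b_add_right, ih.2, b_smul_right, b_emb D, hxw, ZeroMemClass.coe_zero, mul_zero, add_zero]⟩
  exact (hsum Finset.univ).1 k (hv ▸ hk)

omit D hM in
/-- Two opposite full points give every Siegel element. -/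
theorem El_le_of_points [Finite F] (hB : Nondeg Q) (hn : 5 ≤ Module.finrank F (ι → F)) {u f : ι → F}
    (hu : Q u = 0) (hf : Q f = 0) (huf : B u f = 1) (hCu : ∀ v, Mem M u v) (hCf : ∀ v, Mem M f v) :
    El Q ≤ M := by
  have key : ∀ p q : ι → F, Q p = 0 → Q q = 0 → B p q ≠ 0 → (∀ v, Mem M p v) → (∀ v, Mem M q v) →
      ∀ x, Q x = 0 → B x q ≠ 0 → ∀ v, Mem M x v := by
    intro p q hp hq hpq hP hQ x hx hxq v
    obtain ⟨c, hc⟩ : ∃ c, c = B x q / B p q := ⟨_, rfl⟩
    have hc0 : c ≠ 0 := hc ▸ div_ne_zero hxq hpq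
    obtain ⟨b, hb⟩ : ∃ b, b = B p q := ⟨_, rfl⟩
    rw [← hb] at hpq hc
    obtain ⟨y, hy⟩ : ∃ y, y = c⁻¹ • x := ⟨_, rfl⟩
    have hyq : B y q = b := by
      rw [hy, b_smul_left, hc]; field_simp
    have hy0 : Q y = 0 := by rw [hy, q_smul, hx, mul_zero]
    obtain ⟨w, hw⟩ : ∃ w, w = b⁻¹ • (y - p) := ⟨_, rfl⟩
    have hqw : B q w = 0 := by
      rw [hw, b_smul_right, b_sub_right, b_comm q y, b_comm q p, hyq, ← hb, sub_self, mul_zero]
    obtain ⟨e, he⟩ := exists_siegel hB hq (v := w) hqw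
    have hep : ap e p = y := by
      have h1 : B p w = b⁻¹ * B p y := by
        rw [hw, b_smul_right, b_sub_right, b_self_zero hp, sub_zero]
      have h2 : Q w = -(b⁻¹ * b⁻¹ * B p y) := by
        rw [hw, q_smul, q_sub, hy0, hp, b_comm y p]; ring
      rw [he.2.2, ← hb, h1, h2, show y = p + b • w by
        rw [hw, smul_smul, mul_inv_cancel₀ hpq, one_smul, add_sub_cancel]]
      match_scalars <;> field_simp <;> ring
    have hyv : ∀ v, Mem M y v := fun v => by
      have := (hP (ap e⁻¹ v)).conj (hQ w e he)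
      rwa [hep, ap_ap_inv] at this
    intro k hk
    obtain ⟨k', hk'⟩ := exists_siegel hB hy0 (v := c • v) (by
      rw [b_smul_right, hy, b_smul_left, hk.2.1, mul_zero, mul_zero])
    have e1 : k = k' := by
      refine siegel_unique hk ⟨hx, hk.2.1, fun z => ?_⟩
      rw [hk'.2.2, hy, b_smul_right, b_smul_right, q_smul]
      match_scalars <;> field_simp
    exact e1 ▸ hyv _ k' hk'
  refine (Subgroup.closure_le _).2 ?_
  rintro g ⟨x, v, hg⟩
  by_cases hx0 : x = 0
  · subst hx0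
    have : g = 1 := ext_ap fun z => by
      rw [hg.2.2, ap_one, b_zero_right, zero_smul, mul_zero, zero_smul, smul_zero, add_zero,
        sub_zero, sub_zero]
    rw [this]; exact one_mem M
  refine (?_ : ∀ v, Mem M x v) v g hg
  have hne : B u f ≠ 0 := by rw [huf]; exact one_ne_zero
  by_cases hxf : B x f = 0
  swap
  · exact key u f hu hf hne hCu hCf x hg.1 hxf
  by_cases hxu : B x u = 0
  swap
  · exact key f u hf hu (by rw [b_comm]; exact hne) hCf hCu x hg.1 hxu
  obtain ⟨z, hz, hxz⟩ := exists_partner hB hg.1 hx0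
  obtain ⟨y, hy, hyx, hyf⟩ : ∃ y, Q y = 0 ∧ B x y = 1 ∧ B y f ≠ 0 := by
    by_cases hzf : B z f = 0
    swap
    · exact ⟨z, hz, hxz, hzf⟩
    obtain ⟨z', hz'⟩ : ∃ z', z' = z - B z u • f := ⟨_, rfl⟩
    have hz'u : B z' u = 0 := by
      rw [hz', b_sub_left, b_smul_left, b_comm f u, huf]; ring
    have hz'q : Q z' = 0 := by rw [hz', q_sub, q_smul, hz, hf, b_smul_right, hzf]; ring
    refine ⟨z' + u, ?_, ?_, ?_⟩
    · rw [q_add, hz'q, hu, hz'u, add_zero, add_zero]
    · rw [b_add_right, hxu, hz', b_sub_right, b_smul_right, hxf, hxz]; ring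
    · rw [b_add_left, huf, hz', b_sub_left, b_smul_left, hzf, b_self_zero hf]
      simp
  have hCy := key u f hu hf hne hCu hCf y hy hyf
  exact key f y hf hy (by rw [b_comm]; exact hyf) hCf hCy x hg.1 (by rw [hyx]; exact one_ne_zero)

/-- An irrational parameter on a rational pair gives the whole group. -/
theorem El_le_of_irrational {x y : ι → F₀} (hp : Pr Q₀ x y) {c : F} (hc : PM P M x y c) (hcn : c ∉ F₀) :
    El Q ≤ M := by
  have h := full_of_irrational D hM hp hc hcn
  obtain ⟨f, hf, hxf⟩ := exists_partner (nd₀ D) hp.qx hp.x0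
  classical
  obtain ⟨d, hxd, hfd⟩ := exists_pr_perp D hp.qx hp.x0 {f} (by simp)
  have hfd : B₀ f d = 0 := hfd f (by simp)
  have h1 := spread D hM hp hxd h
  have h2 : ∀ s, PM P M d x s := fun s => (h1 s).swap D hxd.qx hxd.qy hxd.bxy
  have hdf : Pr Q₀ d f := ⟨hxd.qy, hf, by rw [b_comm]; exact hfd, hxd.y0, fun e => by
    obtain ⟨a, rfl⟩ := Submodule.mem_span_singleton.1 e
    rw [b_smul_right, hxd.bxy, mul_zero] at hxf
    exact zero_ne_one hxf⟩
  have h3 := spread D hM hxd.symm hdf h2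
  have h4 : ∀ s, PM P M f d s := fun s => (h3 s).swap D hdf.qx hdf.qy hdf.bxy
  refine El_le_of_points D.nd ?_ (u := emb P x) (f := emb P f) ?_ ?_ ?_ (mem_point D hM hp h)
    (mem_point D hM hdf.symm h4)
  · rw [Module.finrank_pi]; have := D.dim; omega
  · rw [q_emb D, hp.qx, ZeroMemClass.coe_zero]
  · rw [q_emb D, hf, ZeroMemClass.coe_zero]
  · rw [b_emb D, hxf, OneMemClass.coe_one]

end CfsgLib.Orth.Rat
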