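import Mathlib
import Cfsg.Agent.Lib.Classical.SemisimpleClasses

/-!
Classes of involutions of `PGL` over a field of odd order.
-/

set_option autoImplicit false
set_option linter.style.haveILetI false

namespace CfsgLib.Classical.PGLInvolutions

open Polynomial UniqueFactorizationMonoid CfsgLib.Classical.SemisimpleClasses
open scoped MatrixGroups

variable {F : Type*} [Field F]

theorem eq_one_or_eq_neg_one {μ : F} (h : μ ^ 2 = 1) : μ = 1 ∨ μ = -1 := sq_eq_one_iff.mp h

/-- The charpoly of a matrix killed by a squarefree product only involves its factors. -/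
theorem factor_dvd {n : ℕ} (A : Matrix (Fin n) (Fin n) F) {f : F[X]} (hf : aeval A f = 0) {P : F[X]}
    (hP : Irreducible P) (hdvd : P ∣ A.charpoly) : P ∣ f :=
  haveI := Fact.mk hP
  dvd_of_dvd_charpoly A hdvd hf

/-- Signs. -/
def sgn (n b : ℕ) : Fin n → F := fun i => if (i : ℕ) < b then -1 else 1

theorem charpoly_diag_sgn (n b : ℕ) (hb : b ≤ n) :
    (Matrix.diagonal (sgn (F := F) n b)).charpoly = (X + C 1) ^ b * (X - C 1) ^ (n - b) := by
  classical
  rw [Matrix.charpoly_diagonal]
  have : ∀ i : Fin n, X - C (sgn (F := F) n b i) = if (i : ℕ) < b then X + C 1 else X - C 1 := fun i => by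
    unfold sgn
    split_ifs <;> simp [map_neg]
  rw [Finset.prod_congr rfl fun i _ => this i, Finset.prod_ite, Finset.prod_const, Finset.prod_const]
  have h1 : (Finset.univ.filter fun i : Fin n => (i : ℕ) < b).card = b := by
    rw [Fin.card_filter_val_lt, min_eq_right hb]
  have h2 := Finset.card_filter_add_card_filter_not (s := (Finset.univ : Finset (Fin n)))
    (fun i : Fin n => (i : ℕ) < b)
  rw [h1, Finset.card_univ, Fintype.card_fin] at h2
  rw [h1, show (Finset.univ.filter fun i : Fin n => ¬ (i : ℕ) < b).card = n - b by omega]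

theorem exponents_eq [NeZero (2 : F)] {a b c d : ℕ}
    (h : (X + C (1 : F)) ^ a * (X - C 1) ^ b = (X + C 1) ^ c * (X - C 1) ^ d) : a = c := by
  classical
  have key : ∀ a b : ℕ, ((X + C (1 : F)) ^ a * (X - C 1) ^ b).roots.count (-1) = a := by
    intro a b
    have hne : (1 : F) ≠ -1 := fun e => two_ne_zero (α := F) (by linear_combination e)
    rw [show (X + C (1 : F)) = X - C (-1) by simp [map_neg]]
    rw [roots_mul (mul_ne_zero (pow_ne_zero _ (X_sub_C_ne_zero _)) (pow_ne_zero _ (X_sub_C_ne_zero _))),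
      roots_pow, roots_pow, roots_X_sub_C, roots_X_sub_C, Multiset.count_add, Multiset.nsmul_singleton,
      Multiset.nsmul_singleton, Multiset.count_replicate_self, Multiset.count_replicate, if_neg hne, add_zero]
  rw [← key a b, h, key]

theorem charpoly_of_sq_eq_one {n : ℕ} (A : Matrix (Fin n) (Fin n) F) (hA : A ^ 2 = 1) :
    ∃ b, b ≤ n ∧ A.charpoly = (X + C 1) ^ b * (X - C 1) ^ (n - b) := by
  classical
  have hf : aeval A ((X + C 1) * (X - C 1) : F[X]) = 0 := by
    have e : ((X + C 1) * (X - C 1) : F[X]) = X ^ 2 - 1 := by rw [map_one]; ring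
    rw [e, map_sub, map_pow, aeval_X, map_one, hA, sub_self]
  have hne := (Matrix.charpoly_monic A).ne_zero
  have h1 : Irreducible (X + C (1 : F)) := by
    simpa [map_neg, sub_neg_eq_add] using irreducible_X_sub_C (-1 : F)
  have h2 : Irreducible (X - C (1 : F)) := irreducible_X_sub_C 1
  set L := normalizedFactors A.charpoly with hL
  have hmem : ∀ P ∈ L, P = X + C 1 ∨ P = X - C 1 := by
    intro P hP
    have hPi := irreducible_of_normalized_factor P hP
    have hPn := ((mem_normalizedFactors_iff' hne).mp hP).2.1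
    have hPm : P.Monic := hPn ▸ monic_normalize hPi.ne_zero
    rcases hPi.prime.dvd_or_dvd (factor_dvd A hf hPi (dvd_of_mem_normalizedFactors hP)) with h | h
    · exact Or.inl (eq_of_monic_of_associated hPm (monic_X_add_C 1) (hPi.associated_of_dvd h1 h))
    · exact Or.inr (eq_of_monic_of_associated hPm (monic_X_sub_C 1) (hPi.associated_of_dvd h2 h))
  have hprod : L.prod = A.charpoly := by
    have := prod_normalizedFactors_eq (a := A.charpoly) hne
    rwa [(Matrix.charpoly_monic A).normalize_eq_self, ← hL] at this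
  have hsplit : L.prod = (X + C 1) ^ Multiset.card (L.filter (· = X + C 1)) *
      (X - C 1) ^ Multiset.card (L.filter (fun P => ¬ P = X + C 1)) := by
    conv_lhs => rw [← Multiset.filter_add_not (· = X + C 1) L]
    rw [Multiset.prod_add,
      Multiset.eq_replicate_card.mpr (fun P (hP : P ∈ L.filter (· = X + C 1)) => (Multiset.mem_filter.mp hP).2),
      Multiset.eq_replicate_card.mpr (fun P (hP : P ∈ L.filter (fun P => ¬ P = X + C 1)) =>
        (hmem P (Multiset.mem_filter.mp hP).1).resolve_left (Multiset.mem_filter.mp hP).2),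
      Multiset.prod_replicate, Multiset.prod_replicate, Multiset.card_replicate, Multiset.card_replicate]
  rw [hprod] at hsplit
  have hdeg := congrArg natDegree hsplit
  rw [Matrix.charpoly_natDegree_eq_dim, Fintype.card_fin,
    natDegree_mul (pow_ne_zero _ h1.ne_zero) (pow_ne_zero _ h2.ne_zero), natDegree_pow, natDegree_pow,
    natDegree_X_add_C, natDegree_X_sub_C, mul_one, mul_one] at hdeg
  exact ⟨Multiset.card (L.filter (· = X + C 1)), by omega, hsplit.trans (by congr 2; omega)⟩

variable [Fintype F]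

section

variable {p : ℕ} [hp : Fact p.Prime] [CharP F p]

theorem coprime_of_pow {n : ℕ} (hp2 : p ≠ 2) (g : GL (Fin n) F) {c : Fˣ}
    (hg : g ^ 2 = Matrix.GeneralLinearGroup.scalar (Fin n) c) : (orderOf g).Coprime p := by
  have h1 : g ^ (2 * (Fintype.card F - 1)) = 1 := by
    classical
    rw [pow_mul, hg, ← map_pow, ← Fintype.card_units, pow_card_eq_one, map_one]
  refine Nat.Coprime.coprime_dvd_left (orderOf_dvd_of_pow_eq_one h1) (Nat.Coprime.mul_left
    ((Nat.coprime_primes Nat.prime_two hp.out).mpr (Ne.symm hp2)) ?_)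
  refine ((hp.out.coprime_iff_not_dvd).mpr fun h => ?_).symm
  obtain ⟨k, hk⟩ := FiniteField.card F p
  have h2 : p ∣ Fintype.card F := hk.2 ▸ dvd_pow_self p k.ne_zero
  have h3 := Nat.dvd_sub h2 h
  rw [Nat.sub_sub_self Fintype.card_pos] at h3
  exact hp.out.not_dvd_one h3

theorem isConj_of_sq_nonsquare {n : ℕ} (hp2 : p ≠ 2) {ν : Fˣ} (hν : ¬ IsSquare (ν : F))
    (g h : GL (Fin n) F) (hg : g ^ 2 = Matrix.GeneralLinearGroup.scalar (Fin n) ν)
    (hh : h ^ 2 = Matrix.GeneralLinearGroup.scalar (Fin n) ν) : IsConj g h := by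
  classical
  set f : F[X] := X ^ 2 - C (ν : F)
  have hfi : Irreducible f := by
    refine X_pow_sub_C_irreducible_of_prime Nat.prime_two fun b hb => hν ⟨b, ?_⟩
    rw [← hb, pow_two]
  have hfm : f.Monic := monic_X_pow_sub_C _ two_ne_zero
  have hf : ∀ x : GL (Fin n) F, x ^ 2 = Matrix.GeneralLinearGroup.scalar (Fin n) ν →
      aeval (x : Matrix (Fin n) (Fin n) F) f = 0 := by
    intro x hx
    rw [map_sub, map_pow, aeval_X, aeval_C, ← Units.val_pow_eq_pow_val, hx, sub_eq_zero]
    rfl
  have key : ∀ x : GL (Fin n) F, x ^ 2 = Matrix.GeneralLinearGroup.scalar (Fin n) ν →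
      ∃ k, 2 * k = n ∧ (x : Matrix (Fin n) (Fin n) F).charpoly = f ^ k := by
    intro x hx
    have hne := (Matrix.charpoly_monic (x : Matrix (Fin n) (Fin n) F)).ne_zero
    have hrep : ∀ P ∈ normalizedFactors (x : Matrix (Fin n) (Fin n) F).charpoly, P = f := by
      intro P hP
      have hPi := irreducible_of_normalized_factor P hP
      have hPm : P.Monic := ((mem_normalizedFactors_iff' hne).mp hP).2.1 ▸ monic_normalize hPi.ne_zero
      exact eq_of_monic_of_associated hPm hfm
        (hPi.associated_of_dvd hfi (factor_dvd _ (hf x hx) hPi (dvd_of_mem_normalizedFactors hP)))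
    have hprod := prod_normalizedFactors_eq (a := (x : Matrix (Fin n) (Fin n) F).charpoly) hne
    rw [(Matrix.charpoly_monic _).normalize_eq_self, Multiset.eq_replicate_card.mpr hrep,
      Multiset.prod_replicate] at hprod
    have hd := congrArg natDegree hprod
    rw [natDegree_pow, natDegree_X_pow_sub_C, Matrix.charpoly_natDegree_eq_dim, Fintype.card_fin] at hd
    exact ⟨_, by rw [mul_comm]; exact hd, hprod.symm⟩
  obtain ⟨k, hk, hgc⟩ := key g hg
  obtain ⟨l, hl, hhc⟩ := key h hh
  refine isConj_of_charpoly_eq g h (coprime_of_pow hp2 g hg) (coprime_of_pow hp2 h hh) ?_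
  rw [hgc, hhc, show k = l by omega]

end

theorem card_classes {q : ℕ} (hF : Fintype.card F = q) (hq : Odd q) {n : ℕ} (hn : 2 ≤ n) :
    Nat.card {C : ConjClasses (GL (Fin n) F ⧸ Subgroup.center (GL (Fin n) F)) //
      ∃ g : GL (Fin n) F ⧸ Subgroup.center (GL (Fin n) F), ConjClasses.mk g = C ∧ orderOf g = 2} =
      n / 2 + (if Even n then 1 else 0) := by
  classical
  haveI : Nonempty (Fin n) := ⟨⟨0, by omega⟩⟩
  obtain ⟨p, hpc⟩ := CharP.exists F
  haveI : Fact p.Prime := ⟨CharP.char_is_prime F p⟩
  obtain ⟨k, hk⟩ := FiniteField.card F p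
  have hp2 : p ≠ 2 := by
    rintro rfl
    exact (Nat.not_even_iff_odd.mpr hq) (hF ▸ hk.2 ▸ Nat.even_pow.mpr ⟨even_two, k.ne_zero⟩)
  have h2 : ringChar F ≠ 2 := by rw [ringChar.eq F p]; exact hp2
  haveI : NeZero (2 : F) := ⟨Ring.two_ne_zero h2⟩
  obtain ⟨ν₀, hν₀⟩ := FiniteField.exists_nonsquare h2
  set ν : Fˣ := Units.mk0 ν₀ (fun h => hν₀ (h ▸ IsSquare.zero))
  set S := Matrix.GeneralLinearGroup.scalar (R := F) (Fin n)
  set π := QuotientGroup.mk' (Subgroup.center (GL (Fin n) F))
  have hπ : ∀ g : GL (Fin n) F, π g = 1 ↔ ∃ c, S c = g := by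
    intro g
    rw [QuotientGroup.mk'_apply, QuotientGroup.eq_one_iff, Matrix.GeneralLinearGroup.center_eq_range_scalar]
    exact MonoidHom.mem_range
  have hS : ∀ (c : Fˣ) (g : GL (Fin n) F), S c * g = g * S c := fun c g =>
    Units.ext (Algebra.commutes (A := Matrix (Fin n) (Fin n) F) (c : F) _)
  have hSinj : Function.Injective S := by
    intro a b h
    have := congrArg (fun z : GL (Fin n) F => (z : Matrix (Fin n) (Fin n) F) ⟨0, by omega⟩ ⟨0, by omega⟩) h
    exact Units.ext (by simpa [S] using this)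
  have hπS : ∀ c g, π (S c * g) = π g := fun c g => by rw [map_mul, (hπ _).mpr ⟨c, rfl⟩, one_mul]
  let D : ℕ → GL (Fin n) F := fun b => Matrix.GeneralLinearGroup.mkOfDetNeZero (Matrix.diagonal (sgn n b))
    (by rw [Matrix.det_diagonal, Finset.prod_ne_zero_iff]; intro i _; unfold sgn; split_ifs <;> simp)
  have hD2 : ∀ b, D b ^ 2 = S 1 := fun b => by
    rw [map_one]; apply Units.ext
    show (Matrix.diagonal (sgn (F := F) n b)) ^ 2 = 1
    rw [Matrix.diagonal_pow, ← Matrix.diagonal_one]
    congr 1; funext i; simp only [Pi.pow_apply]; unfold sgn; split_ifs <;> simp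
  have hDc : ∀ b, b ≤ n → (D b : Matrix (Fin n) (Fin n) F).charpoly = (X + C 1) ^ b * (X - C 1) ^ (n - b) :=
    fun b hb => charpoly_diag_sgn n b hb
  have hnegD : ∀ b, b ≤ n → ((S (-1) * D b : GL (Fin n) F) : Matrix (Fin n) (Fin n) F).charpoly =
      (X + C 1) ^ (n - b) * (X - C 1) ^ b := by
    intro b hb
    have e : ((S (-1) * D b : GL (Fin n) F) : Matrix (Fin n) (Fin n) F) =
        Matrix.diagonal (fun i => - sgn (F := F) n b i) := by
      show Matrix.scalar (Fin n) ((-1 : Fˣ) : F) * Matrix.diagonal (sgn n b) = _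
      simp [Matrix.scalar_apply, Matrix.diagonal_mul_diagonal]
    rw [e, Matrix.charpoly_diagonal]
    have : ∀ i : Fin n, X - C (- sgn (F := F) n b i) = if (i : ℕ) < b then X - C 1 else X + C 1 := fun i => by
      unfold sgn
      split_ifs <;> simp [map_neg]
    rw [Finset.prod_congr rfl fun i _ => this i, Finset.prod_ite, Finset.prod_const, Finset.prod_const]
    have h1 : (Finset.univ.filter fun i : Fin n => (i : ℕ) < b).card = b := by
      rw [Fin.card_filter_val_lt, min_eq_right hb]
    have h2 := Finset.card_filter_add_card_filter_not (s := (Finset.univ : Finset (Fin n)))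
      (fun i : Fin n => (i : ℕ) < b)
    rw [h1, Finset.card_univ, Fintype.card_fin] at h2
    rw [h1, show (Finset.univ.filter fun i : Fin n => ¬ (i : ℕ) < b).card = n - b by omega, mul_comm]
  have hE : ∀ _ : Even n, ∃ g : GL (Fin n) F, g ^ 2 = S ν := by
    intro he
    obtain ⟨m, hm⟩ := he
    let e : Fin 2 × Fin m ≃ Fin n := finProdFinEquiv.trans (finCongr (by omega))
    let M : Matrix (Fin 2 × Fin m) (Fin 2 × Fin m) F :=
      Matrix.blockDiagonal fun _ : Fin m => !![0, (ν : F); 1, 0]
    have hM : M * M = Matrix.scalar (Fin 2 × Fin m) (ν : F) := by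
      rw [← Matrix.blockDiagonal_mul, Matrix.scalar_apply,
        ← Matrix.blockDiagonal_diagonal (fun (_ : Fin m) (_ : Fin 2) => (ν : F))]
      congr 1
      funext i
      ext a b
      fin_cases a <;> fin_cases b <;> simp
    have hA : (M.reindex e e) * (M.reindex e e) = Matrix.scalar (Fin n) (ν : F) := by
      rw [Matrix.reindex_apply, Matrix.submatrix_mul_equiv, hM, Matrix.scalar_apply, Matrix.scalar_apply,
        Matrix.submatrix_diagonal_equiv]
      rfl
    have hdet : (M.reindex e e).det ≠ 0 := by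
      intro h0
      have := congrArg Matrix.det hA
      rw [Matrix.det_mul, h0, mul_zero, Matrix.scalar_apply, Matrix.det_diagonal] at this
      exact (pow_ne_zero n ν.ne_zero) (by simpa using this.symm)
    refine ⟨Matrix.GeneralLinearGroup.mkOfDetNeZero _ hdet, Units.ext ?_⟩
    rw [Units.val_pow_eq_pow_val, pow_two]
    exact hA
  choose E hE using hE
  have hord : ∀ (g : GL (Fin n) F) (c : Fˣ), g ^ 2 = S c → π g ≠ 1 → orderOf (π g) = 2 := fun g c hg hne =>
    orderOf_eq_prime (by rw [← map_pow, hg, (hπ _).mpr ⟨c, rfl⟩]) hne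
  have hDne : ∀ j : Fin (n / 2), π (D (j + 1)) ≠ 1 := by
    intro j h
    obtain ⟨c, hc⟩ := (hπ _).mp h
    have h0 := congrArg (fun z : GL (Fin n) F => (z : Matrix (Fin n) (Fin n) F) ⟨0, by omega⟩ ⟨0, by omega⟩) hc
    have h1 := congrArg (fun z : GL (Fin n) F =>
      (z : Matrix (Fin n) (Fin n) F) ⟨n - 1, by omega⟩ ⟨n - 1, by omega⟩) hc
    have hj := j.2
    simp [S, D, sgn, show ¬ (n - 1 < (j : ℕ) + 1) by omega] at h0 h1
    rw [h1] at h0
    have h4 : (1 : F) = -1 := by simpa using congrArg Units.val h0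
    exact two_ne_zero (α := F) (by linear_combination h4)
  have hEne : ∀ he, π (E he) ≠ 1 := by
    intro he h
    obtain ⟨c, hc⟩ := (hπ _).mp h
    have := hE he
    rw [← hc, ← map_pow] at this
    exact hν₀ ⟨c, by simpa [ν, pow_two] using (congrArg Units.val (hSinj this)).symm⟩
  let ψ : Fin (n / 2) ⊕ PLift (Even n) →
      {C : ConjClasses (GL (Fin n) F ⧸ Subgroup.center (GL (Fin n) F)) //
      ∃ g : GL (Fin n) F ⧸ Subgroup.center (GL (Fin n) F), ConjClasses.mk g = C ∧ orderOf g = 2} := fun x =>
    match x with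
    | Sum.inl j => ⟨ConjClasses.mk (π (D (j + 1))), π (D (j + 1)), rfl, hord _ 1 (hD2 _) (hDne j)⟩
    | Sum.inr he => ⟨ConjClasses.mk (π (E he.down)), π (E he.down), rfl, hord _ ν (hE _) (hEne _)⟩
  have hlift : ∀ g h : GL (Fin n) F, IsConj (π g) (π h) → ∃ c, IsConj g (S c * h) := by
    intro g h hc
    obtain ⟨s, hs⟩ := isConj_iff.mp hc
    obtain ⟨s, rfl⟩ := QuotientGroup.mk'_surjective _ s
    obtain ⟨c, hc'⟩ := (hπ (s * g * s⁻¹ * h⁻¹)).mp (by
      simp only [π, map_mul, map_inv] at hs ⊢
      rw [hs, mul_inv_cancel])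
    exact ⟨c, isConj_iff.mpr ⟨s, by rw [hc']; group⟩⟩
  have hsq : ∀ g h : GL (Fin n) F, ∀ a b c : Fˣ, g ^ 2 = S a → h ^ 2 = S b → IsConj g (S c * h) →
      a = c ^ 2 * b := by
    intro g h a b c ha hb hc
    obtain ⟨s, hs⟩ := isConj_iff.mp hc
    apply hSinj
    calc S a = s * S a * s⁻¹ := by rw [← hS, mul_inv_cancel_right]
      _ = (s * g * s⁻¹) ^ 2 := by rw [← ha, conj_pow]
      _ = S (c ^ 2 * b) := by
        rw [hs, (show Commute (S c) h from hS c h).mul_pow, hb, ← map_pow, ← map_mul]
  have hψ : Function.Bijective ψ := by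
    constructor
    · rintro (i | i) (j | j) e <;>
        have hc := ConjClasses.mk_eq_mk_iff_isConj.mp (congrArg Subtype.val e) <;>
        obtain ⟨c, hc'⟩ := hlift _ _ hc
      · have h1 := hsq _ _ _ _ c (hD2 _) (hD2 _) hc'
        have hi := i.2
        have hj := j.2
        have hchar : ∀ g h : GL (Fin n) F, IsConj g h →
            (g : Matrix (Fin n) (Fin n) F).charpoly = (h : Matrix (Fin n) (Fin n) F).charpoly := by
          intro g h hgh
          obtain ⟨s, hs⟩ := isConj_iff.mp hgh
          rw [← hs, Units.val_mul, Units.val_mul,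
            ← Matrix.charpoly_units_conj s (g : Matrix (Fin n) (Fin n) F), Matrix.coe_units_inv]
        rcases eq_one_or_eq_neg_one (F := F) (μ := (c : F)) (by
          have := (congrArg Units.val h1).symm
          simpa using this) with hc1 | hc1
        · have : c = 1 := Units.ext hc1
          subst this
          rw [map_one, one_mul] at hc'
          have := hchar _ _ hc'
          rw [hDc _ (by omega), hDc _ (by omega)] at this
          have := exponents_eq this
          exact congrArg Sum.inl (Fin.ext (by omega))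
        · have : c = -1 := Units.ext (by simpa using hc1)
          subst this
          have := hchar _ _ hc'
          rw [hDc _ (by omega), hnegD _ (by omega)] at this
          have := exponents_eq this
          exact congrArg Sum.inl (Fin.ext (by omega))
      · have h1 := hsq _ _ _ _ c (hD2 _) (hE _) hc'
        exfalso
        refine hν₀ ⟨((c⁻¹ : Fˣ) : F), ?_⟩
        have h2 : ν = c⁻¹ * c⁻¹ := by
          calc ν = (c ^ 2)⁻¹ * (c ^ 2 * ν) := by rw [inv_mul_cancel_left]
            _ = c⁻¹ * c⁻¹ := by rw [← h1, mul_one, pow_two, mul_inv_rev]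
        exact congrArg Units.val h2
      · have h1 := hsq _ _ _ _ c (hE _) (hD2 _) hc'
        exfalso
        refine hν₀ ⟨(c : F), ?_⟩
        have h2 : ν = c * c := by rw [h1, mul_one, pow_two]
        exact congrArg Units.val h2
      · exact congrArg Sum.inr (Subsingleton.elim _ _)
    · rintro ⟨C, x, rfl, hx⟩
      obtain ⟨g, rfl⟩ := QuotientGroup.mk'_surjective _ x
      have hg2 : π (g ^ 2) = 1 := by rw [map_pow, ← hx, pow_orderOf_eq_one]
      obtain ⟨lam, hlam⟩ := (hπ _).mp hg2
      have hgne : π g ≠ 1 := fun h => by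
        have : orderOf (π g) = 2 := hx
        rw [h, orderOf_one] at this
        omega
      by_cases hsl : IsSquare (lam : F)
      · obtain ⟨μ, hμ⟩ := hsl
        have hμ0 : μ ≠ 0 := fun h => lam.ne_zero (by rw [hμ, h, mul_zero])
        set h := S (Units.mk0 μ hμ0)⁻¹ * g with hh
        have hh2 : h ^ 2 = S 1 := by
          rw [hh, (show Commute (S _) g from hS _ g).mul_pow, ← hlam, ← map_pow, ← map_mul]
          congr 1
          apply Units.ext
          simp [hμ]
          field_simp
        obtain ⟨b, hb, hbc⟩ := charpoly_of_sq_eq_one (h : Matrix (Fin n) (Fin n) F) (by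
          rw [← Units.val_pow_eq_pow_val, hh2, map_one, Units.val_one])
        have hcop := coprime_of_pow (p := p) hp2 h hh2
        have hπh : π h = π g := hπS _ _
        have hb0 : b ≠ 0 := by
          rintro rfl
          apply hgne
          obtain ⟨s, hs⟩ := isConj_iff.mp (isConj_of_charpoly_eq (p := p) h (S 1) hcop
            (by rw [map_one, orderOf_one]; exact Nat.coprime_one_left p) (by
              rw [hbc]; simp [Matrix.charpoly_one]))
          rw [map_one, mul_inv_eq_one] at hs
          rw [← hπh, show h = 1 by simpa using hs, map_one]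
        have hbn : b ≠ n := by
          rintro rfl
          apply hgne
          obtain ⟨s, hs⟩ := isConj_iff.mp (isConj_of_charpoly_eq (p := p) h (D b) hcop
            (coprime_of_pow hp2 _ (hD2 b)) (by rw [hbc, hDc _ le_rfl]))
          have hDb : D b = S (-1) := by
            apply Units.ext
            show Matrix.diagonal (sgn b b) = Matrix.scalar (Fin b) ((-1 : Fˣ) : F)
            rw [Matrix.scalar_apply]
            congr 1; funext i; simp [sgn, i.2]
          rw [hDb, mul_inv_eq_iff_eq_mul, hS, mul_left_cancel_iff] at hs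
          rw [← hπh, hs]
          exact (hπ _).mpr ⟨-1, rfl⟩
        by_cases hb2 : b ≤ n / 2
        · refine ⟨Sum.inl ⟨b - 1, by omega⟩, Subtype.ext (ConjClasses.mk_eq_mk_iff_isConj.mpr ?_)⟩
          have hh' := isConj_of_charpoly_eq (p := p) (D b) h (coprime_of_pow hp2 _ (hD2 b)) hcop
            (by rw [hbc, hDc _ hb])
          show IsConj (π (D (b - 1 + 1))) (π g)
          rw [Nat.sub_add_cancel (by omega), ← hπh]
          exact π.map_isConj hh'
        · refine ⟨Sum.inl ⟨n - b - 1, by omega⟩, Subtype.ext (ConjClasses.mk_eq_mk_iff_isConj.mpr ?_)⟩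
          have hneg : (S (-1) * D (n - b)) ^ 2 = S 1 := by
            rw [(show Commute (S _) (D (n - b)) from hS _ _).mul_pow, hD2, ← map_pow, ← map_mul]
            simp
          have hh' := isConj_of_charpoly_eq (p := p) (S (-1) * D (n - b)) h
            (coprime_of_pow hp2 _ hneg) hcop (by
              rw [hbc, hnegD _ (by omega), show n - (n - b) = b by omega])
          show IsConj (π (D (n - b - 1 + 1))) (π g)
          rw [Nat.sub_add_cancel (by omega), ← hπh, ← hπS (-1)]
          exact π.map_isConj hh'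
      · have hsq' : IsSquare ((lam : F) * (ν : F)⁻¹) := by
          rw [← quadraticChar_one_iff_isSquare (mul_ne_zero lam.ne_zero (inv_ne_zero ν.ne_zero)), map_mul,
            quadraticChar_neg_one_iff_not_isSquare.mpr hsl,
            quadraticChar_neg_one_iff_not_isSquare.mpr (fun h => hν₀ (by simpa [ν] using h.inv))]
          norm_num
        obtain ⟨μ, hμ⟩ := hsq'
        have hμ0 : μ ≠ 0 := fun h => (mul_ne_zero lam.ne_zero (inv_ne_zero ν.ne_zero)) (by rw [hμ, h, mul_zero])
        set h := S (Units.mk0 μ hμ0)⁻¹ * g with hh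
        have hh2 : h ^ 2 = S ν := by
          rw [hh, (show Commute (S _) g from hS _ g).mul_pow, ← hlam, ← map_pow, ← map_mul]
          congr 1
          apply Units.ext
          have e : (lam : F) = μ * μ * (ν : F) := by rw [← hμ, mul_assoc, inv_mul_cancel₀ ν.ne_zero, mul_one]
          simp [e]
          field_simp
        have heven : Even n := by
          have h3 := congrArg (fun z : GL (Fin n) F => (z : Matrix (Fin n) (Fin n) F).det) hh2
          simp only [Units.val_pow_eq_pow_val, Matrix.det_pow] at h3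
          rw [show ((S ν : GL (Fin n) F) : Matrix (Fin n) (Fin n) F).det = (ν : F) ^ n by
            simp [S, Matrix.det_diagonal]] at h3
          by_contra ho
          obtain ⟨m, rfl⟩ := Nat.not_even_iff_odd.mp ho
          refine hν₀ ⟨(h : Matrix (Fin (2 * m + 1)) (Fin (2 * m + 1)) F).det / (ν : F) ^ m, ?_⟩
          rw [div_mul_div_comm, ← pow_two, h3, pow_succ, two_mul, pow_add, mul_div_cancel_left₀ _
            (mul_ne_zero (pow_ne_zero _ ν.ne_zero) (pow_ne_zero _ ν.ne_zero))]
          rfl
        refine ⟨Sum.inr ⟨heven⟩, Subtype.ext (ConjClasses.mk_eq_mk_iff_isConj.mpr ?_)⟩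
        show IsConj (π (E heven)) (π g)
        rw [← hπS (Units.mk0 μ hμ0)⁻¹ g, ← hh]
        exact π.map_isConj (isConj_of_sq_nonsquare (p := p) hp2 (by simpa [ν] using hν₀) _ _ (hE _) hh2)
  rw [← Nat.card_congr (Equiv.ofBijective ψ hψ), Nat.card_sum, Nat.card_fin]
  split_ifs with he
  · haveI : Unique (PLift (Even n)) := ⟨⟨⟨he⟩⟩, fun _ => Subsingleton.elim _ _⟩
    rw [Nat.card_unique]
  · haveI : IsEmpty (PLift (Even n)) := ⟨fun h => he h.down⟩
    rw [Nat.card_of_isEmpty]

end CfsgLib.Classical.PGLInvolutions
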