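import Cfsg.Agent.Lib.Classical.Card

/-!
Sylow 2-subgroups of `PGL(2, q)`, `q` a Mersenne prime, meet nontrivially: the stabilisers of two
elliptic points share the commutator of the two points.
-/

set_option autoImplicit false
set_option linter.style.haveILetI false

namespace CfsgLib.PGLTwoMeet

open Matrix
open scoped MatrixGroups Pointwise

variable {F : Type*} [Field F]

/-- The elliptic point. -/
def pt (F : Type*) [Field F] : Matrix (Fin 2) (Fin 2) F := !![0, -1; 1, 0]

/-- The elements preserving the point up to sign. -/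
def stab (F : Type*) [Field F] : Subgroup (GL (Fin 2) F) where
  carrier := {g | (g : Matrix (Fin 2) (Fin 2) F) * pt F = pt F * g ∨
    (g : Matrix (Fin 2) (Fin 2) F) * pt F = -(pt F * g)}
  one_mem' := Or.inl (by simp)
  mul_mem' := fun {a b} ha hb => by
    show _ ∨ _
    simp only [Units.val_mul, mul_assoc]
    rcases ha with ha | ha <;> rcases hb with hb | hb
    · left; rw [hb, ← mul_assoc, ha, mul_assoc]
    · right; rw [hb, mul_neg, ← mul_assoc, ha, mul_assoc]
    · right; rw [hb, ← mul_assoc, ha, neg_mul, mul_assoc]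
    · left; rw [hb, mul_neg, ← mul_assoc, ha, neg_mul, neg_neg, mul_assoc]
  inv_mem' := fun {a} ha => by
    show _ ∨ _
    rcases ha with ha | ha
    · left
      rw [Units.inv_mul_eq_iff_eq_mul, ← mul_assoc, ha, Units.mul_inv_cancel_right]
    · right
      rw [Units.inv_mul_eq_iff_eq_mul, mul_neg, ← mul_assoc, ha, neg_mul, neg_neg,
        Units.mul_inv_cancel_right]

lemma mem_stab_iff (g : GL (Fin 2) F) : g ∈ stab F ↔
    ((g : Matrix (Fin 2) (Fin 2) F) 1 1 = (g : Matrix (Fin 2) (Fin 2) F) 0 0 ∧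
      (g : Matrix (Fin 2) (Fin 2) F) 0 1 = -(g : Matrix (Fin 2) (Fin 2) F) 1 0) ∨
    ((g : Matrix (Fin 2) (Fin 2) F) 1 1 = -(g : Matrix (Fin 2) (Fin 2) F) 0 0 ∧
      (g : Matrix (Fin 2) (Fin 2) F) 0 1 = (g : Matrix (Fin 2) (Fin 2) F) 1 0) := by
  set M : Matrix (Fin 2) (Fin 2) F := (g : Matrix (Fin 2) (Fin 2) F) with hM
  show M * pt F = pt F * M ∨ M * pt F = -(pt F * M) ↔ _
  rw [Matrix.eta_fin_two M, pt]
  simp only [Matrix.mul_fin_two, ← Matrix.ext_iff, Fin.forall_fin_two]
  simp
  constructor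
  · rintro (⟨⟨h1, h2⟩, h3, h4⟩ | ⟨⟨h1, h2⟩, h3, h4⟩)
    · exact Or.inl ⟨by linear_combination h3, by linear_combination h1⟩
    · exact Or.inr ⟨by linear_combination h3, by linear_combination h1⟩
  · rintro (⟨h1, h2⟩ | ⟨h1, h2⟩)
    · refine Or.inl ⟨⟨?_, ?_⟩, ?_, ?_⟩ <;>
        first | linear_combination h1 | linear_combination h2 | linear_combination -h1 | linear_combination -h2
    · refine Or.inr ⟨⟨?_, ?_⟩, ?_, ?_⟩ <;>
        first | linear_combination h1 | linear_combination h2 | linear_combination -h1 | linear_combination -h2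

section Count

variable [Fintype F] (hns : ¬ IsSquare (-1 : F)) (h2 : (2 : F) ≠ 0)
include hns h2

lemma sumsq_ne_zero {a b : F} (h : (a, b) ≠ 0) : a * a + b * b ≠ 0 := by
  intro e
  by_cases hb : b = 0
  · subst hb
    have : a * a = 0 := by linear_combination e
    exact h (Prod.ext (mul_self_eq_zero.1 this) rfl)
  · exact hns ⟨a / b, by field_simp; linear_combination -e⟩

theorem card_stab : Nat.card (stab F) = 2 * (Fintype.card F ^ 2 - 1) := by
  classical
  let mk : Bool × {v : F × F // v ≠ 0} → ↥(stab F) := fun p =>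
    ⟨Matrix.GeneralLinearGroup.mkOfDetNeZero
      (if p.1 then !![p.2.1.1, -p.2.1.2; p.2.1.2, p.2.1.1] else !![p.2.1.1, p.2.1.2; p.2.1.2, -p.2.1.1])
      (by
        have := sumsq_ne_zero hns h2 p.2.2
        split <;> rw [Matrix.det_fin_two_of] <;> intro e <;>
          first | exact this (by linear_combination e) | exact this (by linear_combination -e)),
      (mem_stab_iff _).2 (by
        cases p.1
        · right
          simp [Matrix.GeneralLinearGroup.mkOfDetNeZero]
        · left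
          simp [Matrix.GeneralLinearGroup.mkOfDetNeZero])⟩
  have hbij : Function.Bijective mk := by
    constructor
    · rintro ⟨s, ⟨⟨a, b⟩, hv⟩⟩ ⟨s', ⟨⟨a', b'⟩, hv'⟩⟩ e
      have e' := congrArg (fun g : ↥(stab F) => ((g : GL (Fin 2) F) : Matrix (Fin 2) (Fin 2) F)) e
      have e00 := congrFun (congrFun e' 0) 0
      have e10 := congrFun (congrFun e' 1) 0
      have e01 := congrFun (congrFun e' 0) 1
      have e11 := congrFun (congrFun e' 1) 1
      cases s <;> cases s' <;> simp [mk, Matrix.GeneralLinearGroup.mkOfDetNeZero] at e00 e10 e01 e11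
      · subst e00; subst e10; rfl
      · exfalso
        have hb : (2 : F) * b = 0 := by linear_combination e01 + e10
        have ha : (2 : F) * a = 0 := by linear_combination e00 - e11
        exact hv (Prod.ext ((mul_eq_zero.1 ha).resolve_left h2) ((mul_eq_zero.1 hb).resolve_left h2))
      · exfalso
        have hb : (2 : F) * b = 0 := by linear_combination -e01 + e10
        have ha : (2 : F) * a = 0 := by linear_combination e00 + e11
        exact hv (Prod.ext ((mul_eq_zero.1 ha).resolve_left h2) ((mul_eq_zero.1 hb).resolve_left h2))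
      · subst e00; subst e10; rfl
    · rintro ⟨g, hg⟩
      have hdet : (g : Matrix (Fin 2) (Fin 2) F).det ≠ 0 :=
        ((Matrix.isUnit_iff_isUnit_det _).1 g.isUnit).ne_zero
      have hv : (((g : Matrix (Fin 2) (Fin 2) F) 0 0, (g : Matrix (Fin 2) (Fin 2) F) 1 0) : F × F) ≠ 0 := by
        intro e
        rw [Prod.mk_eq_zero] at e
        exact hdet (by rw [Matrix.det_fin_two, e.1, e.2]; ring)
      rcases (mem_stab_iff g).1 hg with ⟨h1, h2'⟩ | ⟨h1, h2'⟩
      · refine ⟨(true, ⟨_, hv⟩), Subtype.ext (Units.ext ?_)⟩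
        show !![_, _; _, _] = _
        conv_rhs => rw [Matrix.eta_fin_two (g : Matrix (Fin 2) (Fin 2) F), h1, h2']
      · refine ⟨(false, ⟨_, hv⟩), Subtype.ext (Units.ext ?_)⟩
        show !![_, _; _, _] = _
        conv_rhs => rw [Matrix.eta_fin_two (g : Matrix (Fin 2) (Fin 2) F), h1, h2']
  rw [← Nat.card_eq_of_bijective mk hbij, Nat.card_prod, Nat.card_eq_fintype_card (α := Bool),
    Fintype.card_bool, Nat.card_eq_fintype_card, Fintype.card_subtype_compl,
    Fintype.card_subtype_eq, Fintype.card_prod, sq]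

omit [Fintype F] in
/-- Two conjugates of the stabiliser share a non-scalar element. -/
theorem exists_common (y : GL (Fin 2) F) :
    ∃ c : GL (Fin 2) F, c ∈ stab F ∧ y⁻¹ * c * y ∈ stab F ∧ c ∉ Subgroup.center (GL (Fin 2) F) := by
  classical
  set A := pt F with hA
  set Y : Matrix (Fin 2) (Fin 2) F := (y : Matrix (Fin 2) (Fin 2) F) with hY
  set Z : Matrix (Fin 2) (Fin 2) F := ((y⁻¹ : GL (Fin 2) F) : Matrix (Fin 2) (Fin 2) F) with hZ
  set B := Y * A * Z with hB
  have hZY : Z * Y = 1 := Units.inv_mul y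
  have hAA : A * A = -1 := by
    rw [hA, pt, Matrix.mul_fin_two, Matrix.one_fin_two]; simp
  have hBB : B * B = -1 := by
    rw [hB, show Y * A * Z * (Y * A * Z) = Y * A * (Z * Y) * A * Z by simp only [mul_assoc], hZY,
      mul_one, mul_assoc Y A A, hAA, mul_neg, mul_one, neg_mul, Units.mul_inv y]
  have hnoev : ∀ v : Fin 2 → F, v ≠ 0 → ∀ c : F, A *ᵥ v ≠ c • v := by
    intro v hv c e
    have h1 : (A * A) *ᵥ v = (c * c) • v := by
      rw [← Matrix.mulVec_mulVec, e, Matrix.mulVec_smul, e, smul_smul]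
    rw [hAA, Matrix.neg_mulVec, Matrix.one_mulVec, ← neg_one_smul F v] at h1
    exact hns ⟨c, (smul_left_injective F hv h1)⟩
  have hanti : ∀ X : Matrix (Fin 2) (Fin 2) F, X = A * B - B * A →
      X * A = -(A * X) ∧ X * B = -(B * X) := by
    rintro X rfl
    constructor
    · rw [sub_mul, mul_sub, mul_assoc B A A, hAA, mul_neg_one, ← mul_assoc A A B, hAA, neg_one_mul,
        mul_assoc]
      abel
    · rw [sub_mul, mul_sub, mul_assoc A B B, hBB, mul_neg_one, ← mul_assoc B B A, hBB, neg_one_mul,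
        mul_assoc]
      abel
  by_cases hC : A * B - B * A = 0
  · -- the two points coincide: an element preserving both
    refine ⟨Matrix.GeneralLinearGroup.mkOfDetNeZero A (by rw [hA, pt, Matrix.det_fin_two_of]; simp),
      Or.inl rfl, Or.inl ?_, ?_⟩
    · rw [sub_eq_zero] at hC
      show Z * A * Y * A = A * (Z * A * Y)
      have e1 : Y * A = B * Y := by rw [hB, mul_assoc (Y * A), hZY, mul_one]
      have e2 : A * Z = Z * B := by
        rw [hB, ← mul_assoc Z, ← mul_assoc Z, hZY, one_mul]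
      rw [mul_assoc (Z * A) Y A, e1, ← mul_assoc, mul_assoc Z A B, hC, ← mul_assoc, ← e2]
      simp only [mul_assoc]
    · intro hc
      rw [Matrix.GeneralLinearGroup.center_eq_range_scalar] at hc
      obtain ⟨r, hr⟩ := hc
      have := congrArg (fun g : GL (Fin 2) F => (g : Matrix (Fin 2) (Fin 2) F) 1 0) hr
      simp [Matrix.GeneralLinearGroup.mkOfDetNeZero, hA, pt] at this
  set X := A * B - B * A with hX
  obtain ⟨hXA, hXB⟩ := hanti X hX
  have hdet : X.det ≠ 0 := by
    intro hd
    obtain ⟨v, hv, hXv⟩ := Matrix.exists_mulVec_eq_zero_iff.2 hd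
    have hXAv : X *ᵥ (A *ᵥ v) = 0 := by
      rw [Matrix.mulVec_mulVec, hXA, Matrix.neg_mulVec, ← Matrix.mulVec_mulVec, hXv,
        Matrix.mulVec_zero, neg_zero]
    refine hC ?_
    have hind : LinearIndependent F ![v, A *ᵥ v] := by
      rw [LinearIndependent.pair_iff' hv]
      exact fun c e => hnoev v hv c e.symm
    let bs := basisOfLinearIndependentOfCardEqFinrank hind (by simp)
    refine Matrix.toLin'.injective (bs.ext fun i => ?_)
    rw [map_zero, LinearMap.zero_apply, Matrix.toLin'_apply]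
    rw [coe_basisOfLinearIndependentOfCardEqFinrank]
    fin_cases i
    exacts [hXv, hXAv]
  refine ⟨Matrix.GeneralLinearGroup.mkOfDetNeZero X hdet, Or.inr hXA, Or.inr ?_, ?_⟩
  · show Z * X * Y * A = -(A * (Z * X * Y))
    have e1 : Y * A = B * Y := by rw [hB, mul_assoc (Y * A), hZY, mul_one]
    have e2 : A * Z = Z * B := by
      rw [hB, ← mul_assoc Z, ← mul_assoc Z, hZY, one_mul]
    rw [mul_assoc (Z * X) Y A, e1, ← mul_assoc, mul_assoc Z X B, hXB, mul_neg, neg_mul,
      ← mul_assoc, ← e2]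
    simp only [mul_assoc]
  · intro hc
    rw [Matrix.GeneralLinearGroup.center_eq_range_scalar] at hc
    obtain ⟨r, hr⟩ := hc
    have e : X = Matrix.scalar (Fin 2) (r : F) :=
      (congrArg (fun g : GL (Fin 2) F => (g : Matrix (Fin 2) (Fin 2) F)) hr).symm
    rw [e, ← (Matrix.scalar_commute (r : F) (fun s => mul_comm _ s) A).eq] at hXA
    have h3 : (2 : F) * (r : F) = 0 := by
      have := congrFun (congrFun hXA 1) 0
      simp [Matrix.mul_apply, Matrix.scalar_apply, Matrix.diagonal, hA, pt] at this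
      linear_combination this
    exact mul_ne_zero h2 r.ne_zero h3

theorem meet {k : ℕ} (hk : Fintype.card F + 1 = 2 ^ k) (hk2 : 2 ≤ k)
    (H : Sylow 2 (GL (Fin 2) F ⧸ Subgroup.center (GL (Fin 2) F)))
    (x : GL (Fin 2) F ⧸ Subgroup.center (GL (Fin 2) F)) :
    (H : Subgroup (GL (Fin 2) F ⧸ Subgroup.center (GL (Fin 2) F))) ⊓
      MulAut.conj x • (H : Subgroup _) ≠ ⊥ := by
  classical
  haveI : Fact (Nat.Prime 2) := ⟨Nat.prime_two⟩
  set π := QuotientGroup.mk' (Subgroup.center (GL (Fin 2) F)) with hπ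
  set q := Fintype.card F with hq
  have hq2 : 3 ≤ q := by
    have : 2 ^ 2 ≤ 2 ^ k := Nat.pow_le_pow_right (by norm_num) hk2
    omega
  have hcZ : Nat.card (Subgroup.center (GL (Fin 2) F)) = q - 1 := by
    rw [CfsgLib.Classical.card_center_GL, Nat.card_units, Nat.card_eq_fintype_card]
  have hGL : Nat.card (GL (Fin 2) F) = (q ^ 2 - 1) * (q ^ 2 - q) := by
    rw [Matrix.card_GL_field, Fin.prod_univ_two, ← hq]
    simp
  have hZle : (Subgroup.center (GL (Fin 2) F)) ≤ stab F := fun z hz => by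
    left
    exact (congrArg (fun g : GL (Fin 2) F => (g : Matrix (Fin 2) (Fin 2) F))
      (Subgroup.mem_center_iff.1 hz (Matrix.GeneralLinearGroup.mkOfDetNeZero (pt F) (by
        rw [pt, Matrix.det_fin_two_of]; simp)))).symm
  set S := (stab F).map π
  have hsum : q ^ 2 - 1 = (q + 1) * (q - 1) := by
    rw [show q ^ 2 - 1 = q ^ 2 - 1 ^ 2 by simp, Nat.sq_sub_sq]
  have hcS : Nat.card S = 2 ^ (k + 1) := by
    have h1 : Nat.card S * Nat.card (Subgroup.center (GL (Fin 2) F)) = Nat.card (stab F) := by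
      have := Subgroup.card_eq_card_quotient_mul_card_subgroup ((Subgroup.center (GL (Fin 2) F)).subgroupOf (stab F))
      rw [this, Nat.card_congr (Subgroup.subgroupOfEquivOfLe hZle).toEquiv]
      congr 1
      let φ : ↥(stab F) →* ↥S := π.subgroupMap (stab F)
      have hker : φ.ker = (Subgroup.center (GL (Fin 2) F)).subgroupOf (stab F) := by
        ext z
        rw [MonoidHom.mem_ker, Subgroup.mem_subgroupOf, ← QuotientGroup.eq_one_iff]
        exact Subtype.ext_iff
      rw [← Nat.card_congr (QuotientGroup.quotientKerEquivOfSurjective φ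
        (π.subgroupMap_surjective (stab F))).toEquiv, hker]
    rw [card_stab hns h2, hcZ, ← hq, hsum, ← mul_assoc, hk] at h1
    rw [pow_succ']
    exact Nat.eq_of_mul_eq_mul_right (by omega) h1
  have hG : Nat.card (GL (Fin 2) F ⧸ (Subgroup.center (GL (Fin 2) F))) = (q + 1) * (q * (q - 1)) := by
    have h1 := Subgroup.card_eq_card_quotient_mul_card_subgroup (Subgroup.center (GL (Fin 2) F))
    rw [hGL, hcZ, hsum, show q ^ 2 - q = q * (q - 1) by rw [Nat.mul_sub, mul_one, sq]] at h1
    refine Nat.eq_of_mul_eq_mul_right (show 0 < q - 1 by omega) ?_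
    rw [← h1]; ring
  obtain ⟨m, hm⟩ : ∃ m, q - 1 = 2 * m ∧ Odd m := by
    refine ⟨2 ^ (k - 1) - 1, ?_, ?_⟩
    · have : 2 ^ k = 2 * 2 ^ (k - 1) := by rw [← pow_succ', Nat.sub_add_cancel (by omega)]
      omega
    · exact Nat.Even.sub_odd Nat.one_le_two_pow
        (Nat.even_pow.2 ⟨even_two, by omega⟩) odd_one
  have hqodd : Odd q := by
    have : Even (q + 1) := hk ▸ Nat.even_pow.2 ⟨even_two, by omega⟩
    exact Nat.not_even_iff_odd.1 fun h => (Nat.even_add_one.1 this) h
  have hidx : ¬ 2 ∣ S.index := by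
    have h1 := S.card_mul_index
    rw [hcS, hG, hk, hm.1] at h1
    have h2' : S.index = q * m := by
      refine Nat.eq_of_mul_eq_mul_left (show 0 < 2 ^ (k + 1) by positivity) ?_
      rw [h1, pow_succ]; ring
    rw [h2']
    exact fun h => Nat.not_even_iff_odd.2 (hqodd.mul hm.2) (even_iff_two_dvd.2 h)
  let P : Sylow 2 (GL (Fin 2) F ⧸ (Subgroup.center (GL (Fin 2) F))) := IsPGroup.toSylow (IsPGroup.of_card hcS) hidx
  obtain ⟨u, hu⟩ := MulAction.exists_smul_eq (GL (Fin 2) F ⧸ (Subgroup.center (GL (Fin 2) F))) P H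
  obtain ⟨y, hy⟩ := QuotientGroup.mk'_surjective (Subgroup.center (GL (Fin 2) F)) (u⁻¹ * x * u)
  obtain ⟨c, hc, hc', hcZ'⟩ := exists_common hns h2 y
  have hHS : ∀ g, g ∈ S → u * g * u⁻¹ ∈ (H : Subgroup _) := fun g hg => by
    rw [← hu, Sylow.coe_subgroup_smul]
    exact Subgroup.smul_mem_pointwise_smul g (MulAut.conj u) _ hg
  intro hbot
  have hmem : u * π c * u⁻¹ ∈ (H : Subgroup _) ⊓ MulAut.conj x • (H : Subgroup _) := by
    refine ⟨hHS _ ⟨c, hc, rfl⟩, ?_⟩
    have h3 := hHS _ ⟨_, hc', rfl⟩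
    have h4 := Subgroup.smul_mem_pointwise_smul _ (MulAut.conj x) _ h3
    have heq : u * π c * u⁻¹ = MulAut.conj x • (u * π (y⁻¹ * c * y) * u⁻¹) := by
      rw [MulAut.smul_def, MulAut.conj_apply, map_mul, map_mul, map_inv, hy]
      group
    rw [heq]
    exact h4
  rw [hbot, Subgroup.mem_bot, conj_eq_one_iff] at hmem
  exact hcZ' ((QuotientGroup.eq_one_iff c).1 hmem)

end Count

end CfsgLib.PGLTwoMeet
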