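import Cfsg.Agent.Lib.Classical.SubspaceStab

set_option autoImplicit false

/-!
`PSL(3,4)`: involutions are conjugate, no element has order 15.
-/

namespace CfsgLib.Classical.PSLThreeFour

open Matrix MinIndex

variable {F : Type*} [Field F] [Fintype F]

local notation "SL3" => SpecialLinearGroup (Fin 3) F

theorem two_eq_zero (hF : Fintype.card F = 4) : (2 : F) = 0 := by
  have h : ((4 : ℕ) : F) = 0 := hF ▸ FiniteField.cast_card_eq_zero F
  have : (2 : F) * 2 = 0 := by rw [← h]; norm_num
  exact mul_self_eq_zero.1 this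

theorem exists_w (hF : Fintype.card F = 4) : ∃ w : F, w * w = w + 1 := by
  classical
  obtain ⟨w, -, hw⟩ := Finset.exists_mem_notMem_of_card_lt_card
    (t := (Finset.univ : Finset F)) (s := {0, 1})
    (by rw [Finset.card_pair zero_ne_one, Finset.card_univ, hF]; norm_num)
  simp only [Finset.mem_insert, Finset.mem_singleton, not_or] at hw
  have h3 : w ^ 3 = 1 := by
    have h := FiniteField.pow_card_sub_one_eq_one w hw.1
    rwa [hF] at h
  have h4 : (w - 1) * (w * w + w + 1) = 0 := by linear_combination h3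
  have h5 := (mul_eq_zero.1 h4).resolve_left (sub_ne_zero.2 hw.2)
  exact ⟨w, by linear_combination h5 - (w + 1) * two_eq_zero hF⟩

/-- A model of the field with four elements: `(a, b)` stands for `a + b w`. -/
def emul (x y : Bool × Bool) : Bool × Bool :=
  (xor (x.1 && y.1) (x.2 && y.2), xor (xor (x.1 && y.2) (x.2 && y.1)) (x.2 && y.2))

/-- Addition in the model. -/
def eadd (x y : Bool × Bool) : Bool × Bool := (xor x.1 y.1, xor x.2 y.2)

/-- Multiply `a g^2 + b g + c` by `g`, where `g^3 = t g^2 + s g + 1`. -/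
def step (t s : Bool × Bool) (r : (Bool × Bool) × (Bool × Bool) × (Bool × Bool)) :
    (Bool × Bool) × (Bool × Bool) × (Bool × Bool) :=
  (eadd (emul r.1 t) r.2.1, eadd (emul r.1 s) r.2.2, r.1)

/-- The coefficients of `g ^ k`. -/
def powCoeff (t s : Bool × Bool) : ℕ → (Bool × Bool) × (Bool × Bool) × (Bool × Bool)
  | 0 => ((false, false), (false, false), (true, false))
  | k + 1 => step t s (powCoeff t s k)

theorem small_power (t s : Bool × Bool) : ∃ k : Fin 8, (k.1 = 3 ∨ k.1 = 4 ∨ k.1 = 5 ∨ k.1 = 7) ∧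
    (powCoeff t s k.1).1 = (false, false) ∧ (powCoeff t s k.1).2.1 = (false, false) := by
  revert t s
  decide

/-- The field element of a pair. -/
def val (w : F) (x : Bool × Bool) : F := (if x.1 then 1 else 0) + (if x.2 then w else 0)

theorem val_add {w : F} (h2 : (2 : F) = 0) (x y : Bool × Bool) :
    val w (eadd x y) = val w x + val w y := by
  obtain ⟨_ | _, _ | _⟩ := x <;> obtain ⟨_ | _, _ | _⟩ := y <;> simp [val, eadd]
  all_goals first
    | linear_combination (-1 : F) * h2
    | linear_combination (-w) * h2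
    | linear_combination (-1 - w) * h2
    | ring1

theorem val_mul {w : F} (h2 : (2 : F) = 0) (hw : w * w = w + 1) (x y : Bool × Bool) :
    val w (emul x y) = val w x * val w y := by
  obtain ⟨_ | _, _ | _⟩ := x <;> obtain ⟨_ | _, _ | _⟩ := y <;> simp [val, emul]
  all_goals first
    | linear_combination (-1 : F) * hw
    | linear_combination (-1 : F) * hw + (0 : F) * h2
    | linear_combination (-1 : F) * hw - h2
    | linear_combination (-1 : F) * hw - w * h2
    | linear_combination (-1 : F) * hw - (1 + w) * h2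
    | linear_combination (-1 : F) * hw - (2 * w) * h2
    | linear_combination (-1 : F) * hw - (1 + 2 * w) * h2
    | ring1

theorem val_surjective (hF : Fintype.card F = 4) {w : F} (hw : w * w = w + 1) (z : F) :
    ∃ x, val w x = z := by
  have hw0 : w ≠ 0 := fun h => by subst h; simp at hw
  have hw1 : w ≠ 1 := fun h => by
    subst h
    rw [one_mul] at hw
    exact one_ne_zero (show (1 : F) = 0 by linear_combination -hw)
  have hw2 : (1 : F) + w ≠ 0 := fun h => hw1 (by linear_combination h - two_eq_zero hF)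
  have hinj : Function.Injective (val w) := by
    rintro ⟨_ | _, _ | _⟩ ⟨_ | _, _ | _⟩ h <;> simp [val] at h ⊢ <;>
      first
      | exact hw0 h | exact hw0 h.symm | exact hw1 h | exact hw1 h.symm | exact hw2 h | exact hw2 h.symm
  exact ((Fintype.bijective_iff_injective_and_card _).2 ⟨hinj, by simp [hF]⟩).2 z

theorem exists_cubic (hF : Fintype.card F = 4) (g : SL3) : ∃ t s : F,
    (g : Matrix (Fin 3) (Fin 3) F) ^ 3 = t • (g : Matrix (Fin 3) (Fin 3) F) ^ 2 + s • g.1 + 1 := by
  set M := (g : Matrix (Fin 3) (Fin 3) F)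
  have h := Matrix.aeval_self_charpoly M
  rw [Polynomial.aeval_eq_sum_range, Matrix.charpoly_natDegree_eq_dim] at h
  simp only [Fintype.card_fin, Finset.sum_range_succ, Finset.sum_range_zero, zero_add] at h
  have h3 : M.charpoly.coeff 3 = 1 := by
    have := M.charpoly_monic
    rwa [Polynomial.Monic.def, Polynomial.leadingCoeff, Matrix.charpoly_natDegree_eq_dim] at this
  have h2 := two_eq_zero hF
  have h0 : M.charpoly.coeff 0 = 1 := by
    have hd := Matrix.det_eq_sign_charpoly_coeff M
    rw [g.2, Fintype.card_fin] at hd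
    linear_combination hd - h2
  refine ⟨M.charpoly.coeff 2, M.charpoly.coeff 1, ?_⟩
  rw [h3, h0, one_smul, pow_zero, pow_one, one_smul] at h
  have hneg : ∀ A : Matrix (Fin 3) (Fin 3) F, -A = A := fun A => by
    rw [neg_eq_iff_add_eq_zero, ← two_nsmul, ← Nat.cast_smul_eq_nsmul F]
    simp [h2]
  rw [← sub_eq_zero, sub_eq_add_neg, hneg, ← h]
  abel

theorem pow_eq {w t s : F} (h2 : (2 : F) = 0) (hw : w * w = w + 1) {t' s' : Bool × Bool}
    (ht : val w t' = t) (hs : val w s' = s) (M : Matrix (Fin 3) (Fin 3) F)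
    (hM : M ^ 3 = t • M ^ 2 + s • M + 1) (k : ℕ) :
    M ^ k = val w (powCoeff t' s' k).1 • M ^ 2 + val w (powCoeff t' s' k).2.1 • M +
      val w (powCoeff t' s' k).2.2 • (1 : Matrix (Fin 3) (Fin 3) F) := by
  induction k with
  | zero => simp [powCoeff, val]
  | succ k ih =>
    rw [pow_succ, ih, add_mul, add_mul, smul_mul_assoc, smul_mul_assoc, smul_mul_assoc, one_mul,
      ← pow_succ, hM, ← sq]
    simp only [powCoeff, step, val_add h2, val_mul h2 hw, ht, hs]
    module

theorem orderOf_ne_fifteen (hF : Fintype.card F = 4)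
    (x : ProjectiveSpecialLinearGroup (Fin 3) F) : orderOf x ≠ 15 := by
  obtain ⟨g, rfl⟩ := QuotientGroup.mk_surjective x
  obtain ⟨w, hw⟩ := exists_w hF
  obtain ⟨t, s, hM⟩ := exists_cubic hF g
  obtain ⟨t', ht⟩ := val_surjective hF hw t
  obtain ⟨s', hs⟩ := val_surjective hF hw s
  obtain ⟨k, hk, h1, h2'⟩ := small_power t' s'
  have hp := pow_eq (two_eq_zero hF) hw ht hs g.1 hM k.1
  rw [h1, h2'] at hp
  have hc : g ^ k.1 ∈ Subgroup.center (SpecialLinearGroup (Fin 3) F) := by
    rw [Matrix.SpecialLinearGroup.mem_center_iff]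
    refine ⟨val w (powCoeff t' s' k.1).2.2, ?_, ?_⟩
    · have hd := congrArg Matrix.det hp
      simp [val, Matrix.det_pow, g.2] at hd ⊢
      exact hd.symm
    · refine Eq.trans ?_ (Matrix.SpecialLinearGroup.coe_pow g k.1).symm
      rw [hp, Matrix.scalar_apply, ← Matrix.smul_one_eq_diagonal]
      simp [val]
  have hd : orderOf (g : ProjectiveSpecialLinearGroup (Fin 3) F) ∣ k.1 :=
    orderOf_dvd_of_pow_eq_one (by rw [← QuotientGroup.mk_pow]; exact (QuotientGroup.eq_one_iff _).2 hc)
  intro h15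
  rw [h15] at hd
  have := Nat.le_of_dvd (by omega) hd
  omega

theorem isConj_of_involution (hF : Fintype.card F = 4)
    (x y : ProjectiveSpecialLinearGroup (Fin 3) F) (hx : orderOf x = 2) (hy : orderOf y = 2) :
    IsConj x y := by
  have h2 := two_eq_zero hF
  have key : ∀ z : ProjectiveSpecialLinearGroup (Fin 3) F, orderOf z = 2 →
      ∃ (a φ : Fin 3 → F) (h : φ ⬝ᵥ a = 0), a ≠ 0 ∧ φ ≠ 0 ∧ z = QuotientGroup.mk (tv a φ h) := by
    intro z hz
    obtain ⟨g, rfl⟩ := QuotientGroup.mk_surjective z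
    have hz2 : (g : ProjectiveSpecialLinearGroup (Fin 3) F) ^ 2 = 1 := by
      rw [← hz]; exact pow_orderOf_eq_one _
    have hc : g ^ 2 ∈ Subgroup.center (SpecialLinearGroup (Fin 3) F) :=
      (QuotientGroup.eq_one_iff _).1 (by rw [QuotientGroup.mk_pow]; exact hz2)
    obtain ⟨c, hc3, hcg⟩ := Matrix.SpecialLinearGroup.mem_center_iff.1 hc
    have hh : (g ^ 3) ^ 2 = 1 := by
      rw [← pow_mul, show 3 * 2 = 2 * 3 from rfl, pow_mul]
      refine Subtype.ext ((Matrix.SpecialLinearGroup.coe_pow (g ^ 2) 3).trans ?_)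
      rw [← hcg, ← map_pow]
      simp [show c ^ 3 = 1 by simpa using hc3]
    have hgz : ((g ^ 3 : SL3) : ProjectiveSpecialLinearGroup (Fin 3) F) = g := by
      rw [QuotientGroup.mk_pow, pow_succ, hz2, one_mul]
    have hne : g ^ 3 ≠ 1 := fun h => by
      rw [h, QuotientGroup.mk_one] at hgz
      rw [← hgz, orderOf_one] at hz
      omega
    set N := ((g ^ 3 : SL3) : Matrix (Fin 3) (Fin 3) F) - 1 with hN
    have hsq : N * N = 0 := by
      have h : ((g ^ 3 : SL3) : Matrix (Fin 3) (Fin 3) F) * (g ^ 3 : SL3).1 = 1 := by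
        have := congrArg Subtype.val hh
        rwa [sq] at this
      have h2m : (2 : F) • ((g ^ 3 : SL3) : Matrix (Fin 3) (Fin 3) F) = 0 := by rw [h2, zero_smul]
      have h21 : (2 : F) • (1 : Matrix (Fin 3) (Fin 3) F) = 0 := by rw [h2, zero_smul]
      rw [two_smul] at h2m h21
      rw [hN, sub_mul, mul_sub, mul_sub, h, mul_one, one_mul, one_mul]
      calc (1 : Matrix (Fin 3) (Fin 3) F) - (g ^ 3 : SL3).1 - ((g ^ 3 : SL3).1 - 1)
          = (1 + 1) - ((g ^ 3 : SL3).1 + (g ^ 3 : SL3).1) := by abel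
        _ = 0 := by rw [h21, h2m, sub_zero]
    have hrank : N.rank = 1 := by
      have hle : LinearMap.range N.mulVecLin ≤ LinearMap.ker N.mulVecLin := by
        rintro _ ⟨v, rfl⟩
        simp [Matrix.mulVec_mulVec, hsq]
      have h1 := N.mulVecLin.finrank_range_add_finrank_ker
      have h2' := Submodule.finrank_mono hle
      have h3 : 1 ≤ N.rank := by
        by_contra h0
        refine hne (Subtype.ext ?_)
        have : LinearMap.range N.mulVecLin = ⊥ := Submodule.finrank_eq_zero.1 (by
          rw [Matrix.rank] at h0; omega)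
        have hN0 : N = 0 := Matrix.ext fun i j => by
          have := congrFun (LinearMap.congr_fun (LinearMap.range_eq_bot.1 this) (Pi.single j 1)) i
          simpa using this
        rw [hN, sub_eq_zero] at hN0
        exact hN0
      rw [Module.finrank_fin_fun] at h1
      rw [Matrix.rank] at h3 ⊢
      omega
    obtain ⟨a, φ, h, ha, hφ, he⟩ := exists_tv_of_isTransvection (t := g ^ 3) ⟨hrank, hsq⟩
    exact ⟨a, φ, h, ha, hφ, by rw [← he, hgz]⟩
  obtain ⟨a, φ, h, ha, hφ, rfl⟩ := key x hx
  obtain ⟨a', φ', h', ha', hφ', rfl⟩ := key y hy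
  exact MonoidHom.map_isConj (QuotientGroup.mk' _) (isConj_tv le_rfl ha ha' h h' hφ hφ')

end CfsgLib.Classical.PSLThreeFour
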