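import Cfsg.Agent.Lib.AutPSL.Basic

/-!
Elements of order three of `PSL(3, 4)`.
-/

set_option autoImplicit false
set_option linter.unusedSectionVars false
set_option linter.style.haveILetI false

namespace CfsgLib.PSLThreeFour

open Matrix Polynomial
open scoped MatrixGroups Pointwise

variable {F : Type*} [Field F] [Fintype F] (hF : Fintype.card F = 4)
include hF

lemma cube {a : F} (ha : a ≠ 0) : a ^ 3 = 1 := by
  have := FiniteField.pow_card_sub_one_eq_one a ha
  rwa [hF] at this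

lemma two_eq : (2 : F) = 0 := by
  have h : (4 : F) = 0 := by
    have := Nat.cast_card_eq_zero F
    rwa [hF] at this
  have : (2 : F) * 2 = 0 := by linear_combination h
  exact mul_self_eq_zero.1 this

lemma exists_omega : ∃ w : F, w ≠ 0 ∧ w ≠ 1 ∧ 1 + w + w ^ 2 = 0 ∧
    ∀ a : F, a ≠ 0 → a = 1 ∨ a = w ∨ a = w ^ 2 := by
  classical
  obtain ⟨w, hw⟩ : ((Finset.univ : Finset F) \ {0, 1}).Nonempty := by
    rw [← Finset.card_pos]
    have := Finset.le_card_sdiff ({0, 1} : Finset F) (Finset.univ : Finset F)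
    have h2 := Finset.card_le_two (a := (0 : F)) (b := 1)
    rw [Finset.card_univ, hF] at this
    omega
  simp only [Finset.mem_sdiff, Finset.mem_univ, true_and, Finset.mem_insert,
    Finset.mem_singleton, not_or] at hw
  have hw3 := cube hF hw.1
  have hs : 1 + w + w ^ 2 = 0 := by
    refine (mul_eq_zero.1 (?_ : (w - 1) * (1 + w + w ^ 2) = 0)).resolve_left (sub_ne_zero.2 hw.2)
    linear_combination hw3
  refine ⟨w, hw.1, hw.2, hs, fun a ha => ?_⟩
  have : (a - 1) * ((a - w) * (a - w ^ 2)) = 0 := by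
    linear_combination cube hF ha - (a ^ 2 - a * w) * hs - hw3
  rcases mul_eq_zero.1 this with h | h
  · exact Or.inl (sub_eq_zero.1 h)
  rcases mul_eq_zero.1 h with h | h
  · exact Or.inr (Or.inl (sub_eq_zero.1 h))
  · exact Or.inr (Or.inr (sub_eq_zero.1 h))

/-- A lift of an element of order three has cube one. -/
theorem cube_eq_one {x : SL(3, F)} (h : x ^ 3 ∈ Subgroup.center SL(3, F)) : x ^ 3 = 1 := by
  rw [Matrix.SpecialLinearGroup.mem_center_iff] at h
  obtain ⟨z, -, e⟩ := h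
  rw [Matrix.SpecialLinearGroup.coe_pow] at e
  set M : Matrix (Fin 3) (Fin 3) F := (x : Matrix (Fin 3) (Fin 3) F)
  by_cases hz : z = 1
  · refine Subtype.ext ?_
    rw [Matrix.SpecialLinearGroup.coe_pow, ← e, hz, map_one]
    rfl
  exfalso
  have hz0 : z ≠ 0 := by
    intro hz0
    have hd := congrArg Matrix.det e
    rw [Matrix.det_pow, x.det_coe, one_pow, hz0, map_zero, Matrix.det_zero] at hd
    exact zero_ne_one hd
  have hirr : Irreducible (X ^ 3 - C z : F[X]) :=
    X_pow_sub_C_irreducible_of_prime Nat.prime_three fun b hb => by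
      rcases eq_or_ne b 0 with rfl | hb0
      · exact hz0 (by rw [← hb]; simp)
      · exact hz (by rw [← hb, cube hF hb0])
  have hmon : (X ^ 3 - C z : F[X]).Monic := monic_X_pow_sub_C z (by norm_num)
  have haev : aeval M (X ^ 3 - C z : F[X]) = 0 := by
    rw [map_sub, map_pow, aeval_X, aeval_C, ← e, Algebra.algebraMap_eq_smul_one,
      Matrix.scalar_apply, ← Matrix.smul_one_eq_diagonal, sub_self]
  have hmin : minpoly F M = X ^ 3 - C z :=
    (minpoly.eq_of_irreducible_of_monic hirr haev hmon).symm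
  have hdvd := Matrix.minpoly_dvd_charpoly M
  rw [hmin] at hdvd
  have hchar : M.charpoly = X ^ 3 - C z := Polynomial.eq_of_monic_of_dvd_of_natDegree_le hmon
    M.charpoly_monic hdvd (by rw [M.charpoly_natDegree_eq_dim, Fintype.card_fin, natDegree_X_pow_sub_C])
  have hdet := Matrix.det_eq_sign_charpoly_coeff M
  rw [x.det_coe, hchar, Fintype.card_fin] at hdet
  simp [coeff_X_pow] at hdet
  exact hz (by linear_combination -hdet + (0 : F) * z)

/-- An element of `SL(3, 4)` of order three is conjugate to `diag(1, ω, ω²)`. -/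
theorem conj_diag {w : F} (hw : 1 + w + w ^ 2 = 0)
    (hall : ∀ a : F, a ≠ 0 → a = 1 ∨ a = w ∨ a = w ^ 2) {x : SL(3, F)} (h3 : x ^ 3 = 1)
    (hns : x ∉ Subgroup.center SL(3, F)) :
    ∃ P : GL (Fin 3) F, (x : Matrix (Fin 3) (Fin 3) F) * (P : Matrix (Fin 3) (Fin 3) F) =
      (P : Matrix (Fin 3) (Fin 3) F) * Matrix.diagonal ![1, w, w ^ 2] := by
  classical
  set M : Matrix (Fin 3) (Fin 3) F := (x : Matrix (Fin 3) (Fin 3) F) with hM
  have hM3 : M * (M * M) = 1 := by
    have := congrArg (fun g : SL(3, F) => (g : Matrix (Fin 3) (Fin 3) F)) h3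
    simpa [pow_succ, mul_assoc] using this
  have h2 := two_eq hF
  have hw3 : w ^ 3 = 1 := by linear_combination (w - 1) * hw
  let S : Set (Fin 3 → F) := {v | ∃ a : F, a ≠ 0 ∧ M *ᵥ v = a • v}
  have hspan : Submodule.span F S = ⊤ := by
    rw [eq_top_iff]
    intro v _
    have hE : ∀ a : F, a ^ 3 = 1 → v + a ^ 2 • M *ᵥ v + a • M *ᵥ (M *ᵥ v) ∈ S := by
      intro a ha
      refine ⟨a, fun h0 => by rw [h0, zero_pow three_ne_zero] at ha; exact zero_ne_one ha, ?_⟩
      have e : M *ᵥ (M *ᵥ (M *ᵥ v)) = v := by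
        rw [Matrix.mulVec_mulVec, Matrix.mulVec_mulVec, mul_assoc, hM3, Matrix.one_mulVec]
      simp only [Matrix.mulVec_add, Matrix.mulVec_smul, e, smul_add, smul_smul]
      rw [show a * a ^ 2 = 1 by rw [← ha]; ring, one_smul, show a * a = a ^ 2 by ring]
      abel
    have hsum : v = (v + (1 : F) ^ 2 • M *ᵥ v + (1 : F) • M *ᵥ (M *ᵥ v)) +
        (v + w ^ 2 • M *ᵥ v + w • M *ᵥ (M *ᵥ v)) +
        (v + (w ^ 2) ^ 2 • M *ᵥ v + w ^ 2 • M *ᵥ (M *ᵥ v)) := by
      funext i
      simp only [Pi.add_apply, Pi.smul_apply, smul_eq_mul]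
      linear_combination -(v i) * h2 - (M *ᵥ v) i * hw - (M *ᵥ (M *ᵥ v)) i * hw -
        (M *ᵥ v) i * w * hw3
    rw [hsum]
    exact add_mem (add_mem (Submodule.subset_span (hE 1 (one_pow 3)))
      (Submodule.subset_span (hE w hw3)))
      (Submodule.subset_span (hE (w ^ 2) (by rw [← pow_mul, pow_mul', hw3, one_pow])))
  let b := Module.Basis.ofSpan hspan.ge
  have hb : ∀ i, b i ∈ S := fun i => Module.Basis.ofSpan_subset hspan.ge ⟨i, rfl⟩
  let e := b.indexEquiv (Pi.basisFun F (Fin 3))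
  let c := b.reindex e
  choose d hd0 hd using fun i : Fin 3 => show ∃ a : F, a ≠ 0 ∧ M *ᵥ c i = a • c i from by
    rw [Module.Basis.reindex_apply]; exact hb _
  have key : ∀ (d : Fin 3 → F) (c : Module.Basis (Fin 3) F (Fin 3 → F)),
      (∀ i, M *ᵥ c i = d i • c i) → ∃ P : GL (Fin 3) F, M * (P : Matrix (Fin 3) (Fin 3) F) =
        (P : Matrix (Fin 3) (Fin 3) F) * Matrix.diagonal d := by
    intro d c hd
    haveI := (Pi.basisFun F (Fin 3)).invertibleToMatrix c
    refine ⟨unitOfInvertible ((Pi.basisFun F (Fin 3)).toMatrix c), ?_⟩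
    ext i j
    rw [val_unitOfInvertible, Matrix.mul_diagonal, Matrix.mul_apply]
    have := congrFun (hd j) i
    simp only [Matrix.mulVec, dotProduct, Pi.smul_apply, smul_eq_mul] at this
    simp only [Module.Basis.toMatrix_apply, Pi.basisFun_repr]
    rw [this, mul_comm]
  obtain ⟨P, hP⟩ := key d c hd
  have hdet : d 0 * d 1 * d 2 = 1 := by
    have h1 := congrArg Matrix.det hP
    rw [Matrix.det_mul, Matrix.det_mul, x.det_coe, one_mul, Matrix.det_diagonal,
      Fin.prod_univ_three] at h1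
    have hPd : (P : Matrix (Fin 3) (Fin 3) F).det ≠ 0 :=
      ((Matrix.isUnit_iff_isUnit_det _).1 P.isUnit).ne_zero
    exact (mul_eq_left₀ hPd).1 h1.symm
  have hinj : Function.Injective d := by
    have hsame : ∀ i j k : Fin 3, d i * d j * d k = 1 → d i = d j → d k = d i := fun i j k he hij => by
      have h3 := cube hF (hd0 i)
      rw [← hij] at he
      exact mul_left_cancel₀ (pow_ne_zero 2 (hd0 i)) (by linear_combination he - h3)
    have hnc : ¬ (d 0 = d 1 ∧ d 0 = d 2) := by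
      rintro ⟨e1, e2⟩
      refine hns (Matrix.SpecialLinearGroup.mem_center_iff.2 ⟨d 0, ?_, ?_⟩)
      · rw [Fintype.card_fin, cube hF (hd0 0)]
      · have : Matrix.diagonal d = Matrix.scalar (Fin 3) (d 0) := by
          rw [Matrix.scalar_apply]
          congr 1
          funext i
          fin_cases i <;> simp [← e1, ← e2]
        rw [this, ← (Matrix.scalar_commute (d 0) (fun r => mul_comm _ r) _).eq] at hP
        exact (P.isUnit.mul_left_inj.1 hP).symm
    intro i j hij
    fin_cases i <;> fin_cases j <;> first | rfl | skip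
    all_goals exfalso; simp only [Fin.mk_zero, Fin.mk_one, Fin.reduceFinMk] at hij
    · exact hnc ⟨hij, (hsame 0 1 2 hdet hij).symm⟩
    · exact hnc ⟨(hsame 0 2 1 (by linear_combination hdet) hij).symm, hij⟩
    · exact hnc ⟨hij.symm, (hsame 0 1 2 hdet hij.symm).symm⟩
    · have := hsame 1 2 0 (by linear_combination hdet) hij
      exact hnc ⟨this, this.trans hij⟩
    · exact hnc ⟨(hsame 0 2 1 (by linear_combination hdet) hij.symm).symm, hij.symm⟩
    · have := hsame 1 2 0 (by linear_combination hdet) hij.symm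
      exact hnc ⟨this, this.trans hij.symm⟩
  have hex : ∀ i : Fin 3, ∃ j, d j = (![1, w, w ^ 2] : Fin 3 → F) i := by
    have hsub : Finset.univ.image d ⊆ ({1, w, w ^ 2} : Finset F) := fun a ha => by
      obtain ⟨i, -, rfl⟩ := Finset.mem_image.1 ha
      simpa using hall _ (hd0 i)
    have heq := Finset.eq_of_subset_of_card_le hsub (by
      rw [Finset.card_image_of_injective _ hinj, Finset.card_univ, Fintype.card_fin]
      exact Finset.card_le_three)
    intro i
    have : (![1, w, w ^ 2] : Fin 3 → F) i ∈ Finset.univ.image d := by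
      rw [heq]; fin_cases i <;> simp
    obtain ⟨j, -, hj⟩ := Finset.mem_image.1 this
    exact ⟨j, hj⟩
  choose p hp using hex
  have hpinj : Function.Injective p := fun i j hij => by
    have h1 : (![1, w, w ^ 2] : Fin 3 → F) i = ![1, w, w ^ 2] j := by rw [← hp, ← hp, hij]
    have hw1 : w ≠ 1 := fun e => by
      rw [e] at hw
      exact one_ne_zero (by linear_combination hw - h2 : (1 : F) = 0)
    have hw0 : w ≠ 0 := fun e => by rw [e] at hw; simp at hw
    have hw2 : w ^ 2 ≠ 1 := fun e => hw1 (by linear_combination hw3 - w * e)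
    have hww : w ^ 2 ≠ w := fun e => hw1 (mul_left_cancel₀ hw0 (by linear_combination e))
    fin_cases i <;> fin_cases j <;>
      first | rfl | (exfalso; simp [hw1, hw1.symm, hw2, hw2.symm, hww, hww.symm] at h1)
  obtain ⟨Q, hQ⟩ := key (![1, w, w ^ 2] : Fin 3 → F) (c.reindex (Equiv.ofBijective p
    (Finite.injective_iff_bijective.1 hpinj)).symm) fun i => by
      rw [Module.Basis.reindex_apply, Equiv.symm_symm, Equiv.ofBijective_apply, ← hp i]
      exact hd _
  exact ⟨Q, hQ⟩

/-- Any two elements of order three of `PSL(3, 4)` are conjugate. -/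
theorem conj_order_three {a b : PSL(3, F)} (ha : orderOf a = 3) (hb : orderOf b = 3) :
    ∃ g : PSL(3, F), g * a * g⁻¹ = b := by
  classical
  obtain ⟨w, hw0, hw1, hw, hall⟩ := exists_omega hF
  have lift : ∀ a : PSL(3, F), orderOf a = 3 → ∃ x : SL(3, F), AutPSL.mkP x = a ∧
      ∃ P : GL (Fin 3) F, (x : Matrix (Fin 3) (Fin 3) F) * (P : Matrix (Fin 3) (Fin 3) F) =
        (P : Matrix (Fin 3) (Fin 3) F) * Matrix.diagonal ![1, w, w ^ 2] := by
    intro a ha
    obtain ⟨x, rfl⟩ := AutPSL.mkP_surjective a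
    refine ⟨x, rfl, conj_diag hF hw hall (cube_eq_one hF ?_) fun hx => ?_⟩
    · refine (QuotientGroup.eq_one_iff _).1 ?_
      show AutPSL.mkP (x ^ 3) = 1
      have h := pow_orderOf_eq_one (AutPSL.mkP x)
      rw [ha] at h
      rw [map_pow]; exact h
    · have : AutPSL.mkP x = 1 := (QuotientGroup.eq_one_iff _).2 hx
      rw [this, orderOf_one] at ha
      omega
  obtain ⟨x, rfl, P, hP⟩ := lift a ha
  obtain ⟨y, rfl, Q, hQ⟩ := lift b hb
  set D : Matrix (Fin 3) (Fin 3) F := Matrix.diagonal ![1, w, w ^ 2]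
  set l : F := (P : Matrix (Fin 3) (Fin 3) F).det * ((Q : Matrix (Fin 3) (Fin 3) F).det)⁻¹ with hl
  have hQd : (Q : Matrix (Fin 3) (Fin 3) F).det ≠ 0 :=
    ((Matrix.isUnit_iff_isUnit_det _).1 Q.isUnit).ne_zero
  set E : Matrix (Fin 3) (Fin 3) F := Matrix.diagonal ![l, 1, 1]
  have hED : E * D = D * E := by
    rw [Matrix.diagonal_mul_diagonal, Matrix.diagonal_mul_diagonal]
    congr 1; funext i; exact mul_comm _ _
  set g : Matrix (Fin 3) (Fin 3) F :=
    (Q : Matrix (Fin 3) (Fin 3) F) * E * ((P⁻¹ : GL (Fin 3) F) : Matrix (Fin 3) (Fin 3) F) with hg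
  have hgd : g.det = 1 := by
    rw [hg, Matrix.det_mul, Matrix.det_mul, Matrix.det_diagonal, Fin.prod_univ_three,
      Matrix.GeneralLinearGroup.coe_inv, Matrix.det_nonsing_inv, Ring.inverse_eq_inv']
    have hPd : (P : Matrix (Fin 3) (Fin 3) F).det ≠ 0 :=
      ((Matrix.isUnit_iff_isUnit_det _).1 P.isUnit).ne_zero
    simp [hl]
    field_simp
  let G : SL(3, F) := ⟨g, hgd⟩
  refine ⟨AutPSL.mkP G, ?_⟩
  rw [← map_mul, mul_inv_eq_iff_eq_mul, ← map_mul]
  refine congrArg _ (Subtype.ext ?_)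
  show g * (x : Matrix (Fin 3) (Fin 3) F) = (y : Matrix (Fin 3) (Fin 3) F) * g
  have hx : ((P⁻¹ : GL (Fin 3) F) : Matrix (Fin 3) (Fin 3) F) * (x : Matrix (Fin 3) (Fin 3) F) =
      D * ((P⁻¹ : GL (Fin 3) F) : Matrix (Fin 3) (Fin 3) F) := by
    rw [Units.eq_mul_inv_iff_mul_eq, mul_assoc, hP, ← mul_assoc, Units.inv_mul, one_mul]
  rw [hg, mul_assoc, hx, ← mul_assoc, mul_assoc (Q : Matrix (Fin 3) (Fin 3) F) E D, hED,
    ← mul_assoc, ← hQ, mul_assoc (y : Matrix (Fin 3) (Fin 3) F), mul_assoc (y : Matrix (Fin 3) (Fin 3) F)]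

/-- All subgroups of order three of `PSL(3, 4)` are conjugate. -/
theorem subgroups_conj (A B : Subgroup (PSL(3, F))) (hA : Nat.card A = 3) (hB : Nat.card B = 3) :
    ∃ g : PSL(3, F), MulAut.conj g • A = B := by
  haveI : Fact (Nat.Prime 3) := ⟨Nat.prime_three⟩
  have gens : ∀ A : Subgroup (PSL(3, F)), Nat.card A = 3 →
      ∃ a : PSL(3, F), orderOf a = 3 ∧ A = Subgroup.zpowers a := fun A hA => by
    obtain ⟨a, ha⟩ := exists_prime_orderOf_dvd_card' (G := A) 3 (by rw [hA])
    rw [← Subgroup.orderOf_coe] at ha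
    refine ⟨a, ha, (Subgroup.eq_of_le_of_card_ge (Subgroup.zpowers_le.2 a.2) ?_).symm⟩
    rw [hA, Nat.card_zpowers, ha]
  obtain ⟨a, ha, rfl⟩ := gens A hA
  obtain ⟨b, hb, rfl⟩ := gens B hB
  obtain ⟨g, hg⟩ := conj_order_three hF ha hb
  refine ⟨g, ?_⟩
  show (Subgroup.zpowers a).map (MulAut.conj g).toMonoidHom = _
  rw [MonoidHom.map_zpowers, ← hg]
  rfl

end CfsgLib.PSLThreeFour
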