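import Cfsg.Agent.Lib.Classical.PSLThreeFour
import Cfsg.Agent.Lib.Classical.UnitaryOrder
import Cfsg.Agent.Lib.ClassicalAut.UnitaryTwist

set_option autoImplicit false

/-!
`PSU(3,2) = 3^2 : Q8`.
-/

namespace CfsgLib.Classical.PSUThreeTwo

open Matrix Cfsg CfsgLib.Classical.PSLThreeFour
open CfsgLib.ClassicalAut (Unitary.Conj)

abbrev E4 := Bool × Bool
abbrev M3 := Fin 3 → Fin 3 → E4

def o : E4 := (false, false)
def u1 : E4 := (true, false)
def uw : E4 := (false, true)
def uw2 : E4 := (true, true)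

def mmul (X Y : M3) : M3 := fun i j =>
  eadd (eadd (emul (X i 0) (Y 0 j)) (emul (X i 1) (Y 1 j))) (emul (X i 2) (Y 2 j))

def smat (s : E4) : M3 := fun i j => if i = j then s else o

def mA : M3 := ![![u1, o, o], ![o, uw, o], ![o, o, uw2]]
def mP : M3 := ![![o, o, u1], ![u1, o, o], ![o, u1, o]]
def mI : M3 := ![![u1, u1, u1], ![u1, uw, uw2], ![u1, uw2, uw]]
def mJ : M3 := ![![u1, u1, uw2], ![u1, uw, uw], ![uw, u1, uw]]

def mpow (X : M3) : ℕ → M3
  | 0 => smat u1
  | n + 1 => mmul (mpow X n) X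

/-- Unitary of determinant one. -/
def Good (X : M3) : Prop :=
  (∀ i j, eadd (eadd (emul (X 0 i) (emul (X 0 j) (X 0 j))) (emul (X 1 i) (emul (X 1 j) (X 1 j))))
      (emul (X 2 i) (emul (X 2 j) (X 2 j))) = smat u1 i j) ∧
    eadd (eadd (eadd (emul (emul (X 0 0) (X 1 1)) (X 2 2)) (emul (emul (X 0 0) (X 1 2)) (X 2 1)))
      (eadd (emul (emul (X 0 1) (X 1 0)) (X 2 2)) (emul (emul (X 0 1) (X 1 2)) (X 2 0))))
      (eadd (emul (emul (X 0 2) (X 1 0)) (X 2 1)) (emul (emul (X 0 2) (X 1 1)) (X 2 0))) = u1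

instance (X : M3) : Decidable (Good X) := by unfold Good; infer_instance

def nmat (k : ZMod 3 × ZMod 3) : M3 := mmul (mpow mA k.1.val) (mpow mP k.2.val)

def fmat : QuaternionGroup 2 → M3
  | .a i => mpow mI i.val
  | .xa i => mmul mJ (mpow mI i.val)

/-- Equal up to a scalar. -/
def SEq (X Y : M3) : Prop := ∃ s : E4, s ≠ o ∧ X = mmul (smat s) Y

instance (X Y : M3) : Decidable (SEq X Y) := by unfold SEq; infer_instance

def gEl : Fin 8 → QuaternionGroup 2 :=
  ![.a 0, .a 1, .a 2, .a 3, .xa 0, .xa 1, .xa 2, .xa 3]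

theorem gEl_surjective : Function.Surjective gEl := by
  rintro (i | i) <;> revert i <;> decide

theorem good_n : ∀ k, Good (nmat k) := by decide +kernel
theorem good_f' : ∀ x, Good (fmat (gEl x)) ∧ ∀ k, Good (mmul (fmat (gEl x)) (nmat k)) := by decide +kernel
theorem n_mul : ∀ k l, SEq (mmul (nmat k) (nmat l)) (nmat (k + l)) := by decide +kernel
theorem f_mul' : ∀ x y, ∃ k, SEq (mmul (fmat (gEl x)) (fmat (gEl y)))
    (mmul (fmat (gEl x * gEl y)) (nmat k)) := by decide +kernel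
theorem f_norm' : ∀ x k, ∃ l, SEq (mmul (fmat (gEl x)) (nmat k)) (mmul (nmat l) (fmat (gEl x))) := by
  decide +kernel
theorem f_inj' : ∀ x y k l, SEq (mmul (fmat (gEl x)) (nmat k)) (mmul (fmat (gEl y)) (nmat l)) →
    gEl x = gEl y ∧ k = l := by decide +kernel

section Field

variable {F : Type*} [Field F] [Fintype F]

/-- Interpret a model matrix. -/
def toF (w : F) (X : M3) : Matrix (Fin 3) (Fin 3) F := Matrix.of fun i j => val w (X i j)

theorem card_PSU_three_two (K : Unitary.Conj F 2) : Nat.card (PSU 3 F 2) = 72 := by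
  have h1 := Herm.card_GU (n := 3) K
  have h2 := Herm.card_SU (n := 3) K (by norm_num)
  have h3 := Herm.card_center (n := 3) K (by norm_num)
  rw [h1] at h2
  norm_num [Finset.prod_range_succ, Nat.even_iff] at h2 h3
  have h4 := Subgroup.card_eq_card_quotient_mul_card_subgroup (Subgroup.center (SU 3 F 2))
  rw [h3] at h4
  show Nat.card (SU 3 F 2 ⧸ Subgroup.center (SU 3 F 2)) = 72
  omega

theorem structure_psu (hF : Fintype.card F = 4) :
    Nat.card (PSU 3 F 2) = 72 ∧ Group.IsSolvable (PSU 3 F 2) ∧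
    ∃ (N : Subgroup (PSU 3 F 2)) (_ : N.Normal), Nat.card N = 9 ∧ (∀ x ∈ N, x ^ 3 = 1) ∧
      Nonempty (PSU 3 F 2 ⧸ N ≃* QuaternionGroup 2) := by
  classical
  obtain ⟨K⟩ := Herm.exists_conj_of_card (q := 2) hF
  obtain ⟨w, hw⟩ := exists_w hF
  have h2 := two_eq_zero hF
  have hcard := card_PSU_three_two K
  have v1 : val w u1 = 1 := by simp [val, u1]
  have v0 : val w o = 0 := by simp [val, o]
  have vinj : Function.Injective (val w) :=
    ((Fintype.bijective_iff_surjective_and_card _).2 ⟨val_surjective hF hw, by simp [hF]⟩).1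
  have tmul : ∀ X Y, toF w (mmul X Y) = toF w X * toF w Y := fun X Y => by
    ext i j
    simp [toF, mmul, Matrix.mul_apply, Fin.sum_univ_three, val_add h2, val_mul h2 hw]
  have tinj : Function.Injective (toF w) := fun X Y h => funext fun i => funext fun j =>
    vinj (congrFun (congrFun h i) j)
  have tsm : ∀ s, toF w (smat s) = val w s • (1 : Matrix (Fin 3) (Fin 3) F) := fun s => by
    ext i j
    by_cases h : i = j <;> simp [toF, smat, h, v0]
  have ex : ∀ X, Good X → ∃ g : SU 3 F 2, g.1.1 = toF w X := by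
    intro X hX
    have hd : (toF w X).det = 1 := by
      have := congrArg (val w) hX.2
      simp only [val_add h2, val_mul h2 hw, v1] at this
      rw [Matrix.det_fin_three]
      simp only [toF, Matrix.of_apply]
      linear_combination this - (val w (X 0 0) * val w (X 1 2) * val w (X 2 1) +
        val w (X 0 1) * val w (X 1 0) * val w (X 2 2) + val w (X 0 2) * val w (X 1 1) * val w (X 2 0)) * h2
    let g : GL (Fin 3) F := Matrix.GeneralLinearGroup.mkOfDetNeZero (toF w X) (by rw [hd]; exact one_ne_zero)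
    have hg : g ∈ GU 3 F 2 := by
      rw [ClassicalAut.Unitary.mem_GU_iff K]
      refine Matrix.ext fun i j => ?_
      have h := congrArg (val w) (hX.1 i j)
      simp only [val_add h2, val_mul h2 hw] at h
      have h1 : (1 : Matrix (Fin 3) (Fin 3) F) i j = val w (smat u1 i j) := by
        by_cases hij : i = j <;> simp [smat, hij, v0, v1, Matrix.one_apply]
      rw [h1, ← h]
      simp [g, toF, Matrix.mul_apply, Fin.sum_univ_three, K.bar_apply, sq]
    exact ⟨⟨⟨toF w X, hd⟩, fun u v => hg u v⟩, rfl⟩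
  let E : M3 → SU 3 F 2 := fun X => if h : Good X then (ex X h).choose else 1
  have hE : ∀ X, Good X → (E X).1.1 = toF w X := fun X h => by
    simp only [E, dif_pos h]
    exact (ex X h).choose_spec
  let π : M3 → PSU 3 F 2 := fun X => QuotientGroup.mk (E X)
  have πeq : ∀ X Y Z, Good X → Good Y → Good Z → SEq (mmul X Y) Z → π X * π Y = π Z := by
    rintro X Y Z hX hY hZ ⟨s, hs, he⟩
    show QuotientGroup.mk (E X * E Y) = QuotientGroup.mk (E Z)
    rw [eq_comm, QuotientGroup.eq, Herm.center_iff K (by norm_num)]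
    refine ⟨val w s, ?_⟩
    have hp : (E X * E Y).1.1 = val w s • (E Z).1.1 := by
      show (E X).1.1 * (E Y).1.1 = _
      rw [hE X hX, hE Y hY, hE Z hZ, ← tmul, he, tmul, tsm, Matrix.smul_mul, Matrix.one_mul]
    show ((E Z)⁻¹).1.1 * (E X * E Y).1.1 = _
    rw [hp, Matrix.mul_smul]
    congr 1
    exact congrArg (fun g : SU 3 F 2 => g.1.1) (inv_mul_cancel (E Z))
  have πinj : ∀ X Y, Good X → Good Y → π X = π Y → SEq X Y := by
    intro X Y hX hY h
    have h' := (QuotientGroup.eq).1 h.symm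
    obtain ⟨c, hc⟩ := (Herm.center_iff K (by norm_num) _).1 h'
    obtain ⟨s, rfl⟩ := val_surjective hF hw c
    have hXY : toF w X = toF w (mmul (smat s) Y) := by
      rw [tmul, tsm, ← hE X hX, ← hE Y hY, Matrix.smul_mul, Matrix.one_mul]
      have : (E X).1.1 = (E Y).1.1 * ((E Y)⁻¹ * E X).1.1 := by
        show _ = (E Y * ((E Y)⁻¹ * E X)).1.1
        rw [mul_inv_cancel_left]
      rw [this, hc, Matrix.mul_smul, Matrix.mul_one]
    refine ⟨s, fun hs => ?_, tinj hXY⟩
    have : (E X).1.1.det = 1 := (E X).1.2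
    rw [hE X hX, hXY, tmul, tsm, hs, v0, zero_smul, zero_mul, Matrix.det_zero] at this
    exact zero_ne_one this
  have sr : ∀ X, Good X → SEq X X := fun X _ => ⟨u1, by decide, tinj (by rw [tmul, tsm, v1, one_smul, one_mul])⟩
  let ψ : Multiplicative (ZMod 3 × ZMod 3) →* PSU 3 F 2 :=
    MonoidHom.mk' (fun k => π (nmat k.toAdd)) fun k l =>
      (πeq _ _ _ (good_n _) (good_n _) (good_n _) (n_mul k.toAdd l.toAdd)).symm
  let N := ψ.range
  have good_f : ∀ x, Good (fmat x) ∧ ∀ k, Good (mmul (fmat x) (nmat k)) := fun x => by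
    obtain ⟨i, rfl⟩ := gEl_surjective x; exact good_f' i
  have hprod : ∀ x k, π (fmat x) * ψ k = π (mmul (fmat x) (nmat k.toAdd)) := fun x k =>
    πeq _ _ _ (good_f x).1 (good_n _) ((good_f x).2 _) (sr _ ((good_f x).2 _))
  let χ : QuaternionGroup 2 × Multiplicative (ZMod 3 × ZMod 3) → PSU 3 F 2 :=
    fun p => π (fmat p.1) * ψ p.2
  have χinj : Function.Injective χ := by
    rintro ⟨x, k⟩ ⟨y, l⟩ h
    simp only [χ, hprod] at h
    obtain ⟨i, rfl⟩ := gEl_surjective x
    obtain ⟨j, rfl⟩ := gEl_surjective y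
    obtain ⟨h1, h2⟩ := f_inj' i j _ _ (πinj _ _ ((good_f _).2 _) ((good_f _).2 _) h)
    exact Prod.ext h1 (Multiplicative.toAdd.injective h2)
  have χbij : Function.Bijective χ := (Nat.bijective_iff_injective_and_card χ).2 ⟨χinj, by
    rw [hcard, Nat.card_prod]
    simp [QuaternionGroup.card, Nat.card_eq_fintype_card]⟩
  have ψinj : Function.Injective ψ := fun k l h =>
    (Prod.ext_iff.1 (χinj (a₁ := (1, k)) (a₂ := (1, l)) (by simp only [χ, h]))).2
  have hnorm : ∀ x k, ∃ l, π (fmat x) * ψ k = ψ l * π (fmat x) := by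
    intro x k
    obtain ⟨i, rfl⟩ := gEl_surjective x
    obtain ⟨l, hl⟩ := f_norm' i k.toAdd
    refine ⟨Multiplicative.ofAdd l, ?_⟩
    obtain ⟨s, hs, he⟩ := hl
    show π _ * π _ = π (nmat l) * π (fmat (gEl i))
    have hgood : Good (mmul (fmat (gEl i)) (nmat k.toAdd)) := (good_f _).2 _
    rw [πeq _ _ _ (good_f _).1 (good_n _) hgood (sr _ hgood)]
    have hs2 : SEq (mmul (nmat l) (fmat (gEl i))) (mmul (fmat (gEl i)) (nmat k.toAdd)) := by
      obtain ⟨s', hs'⟩ := (by decide : ∀ s : E4, s ≠ o → ∃ s', emul s' s = u1) s hs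
      refine ⟨s', fun h0 => ?_, tinj ?_⟩
      · subst h0; exact (by decide : ∀ s : E4, emul o s ≠ u1) s hs'
      rw [he, tmul (smat s'), tmul (smat s), tsm, tsm, Matrix.smul_mul, Matrix.one_mul, Matrix.smul_mul,
        Matrix.one_mul, smul_smul, ← val_mul h2 hw, hs', v1, one_smul]
    exact (πeq _ _ _ (good_n _) (good_f _).1 hgood hs2).symm
  have hNn : N.Normal := by
    refine ⟨fun z hz g => ?_⟩
    obtain ⟨⟨x, k⟩, rfl⟩ := χbij.2 g
    obtain ⟨j, rfl⟩ := hz
    obtain ⟨l, hl⟩ := hnorm x j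
    refine ⟨l, ?_⟩
    have hkj : ψ k * ψ j * (ψ k)⁻¹ = ψ j := by
      rw [← map_inv, ← map_mul, ← map_mul, mul_inv_eq_iff_eq_mul.2 (mul_comm k j)]
    show ψ l = π (fmat x) * ψ k * ψ j * (π (fmat x) * ψ k)⁻¹
    rw [eq_mul_inv_iff_mul_eq, ← mul_assoc, ← hl, mul_assoc, mul_assoc, ← map_mul, ← map_mul, mul_comm j k]
  have hNc : Nat.card N = 9 := by
    rw [← Nat.card_congr (MonoidHom.ofInjective ψinj).toEquiv]
    simp [Nat.card_eq_fintype_card]
  let Φ : QuaternionGroup 2 →* PSU 3 F 2 ⧸ N :=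
    MonoidHom.mk' (fun x => QuotientGroup.mk (π (fmat x))) fun x y => by
      obtain ⟨i, rfl⟩ := gEl_surjective x
      obtain ⟨j, rfl⟩ := gEl_surjective y
      obtain ⟨k, hk⟩ := f_mul' i j
      have e : π (fmat (gEl i)) * π (fmat (gEl j)) = π (fmat (gEl i * gEl j)) * ψ (Multiplicative.ofAdd k) := by
        rw [hprod]; exact πeq _ _ _ (good_f _).1 (good_f _).1 ((good_f _).2 _) hk
      rw [← QuotientGroup.mk_mul, e, QuotientGroup.mk_mul,
        (QuotientGroup.eq_one_iff _).2 (MonoidHom.mem_range.2 ⟨_, rfl⟩), mul_one]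
  have Φbij : Function.Bijective Φ := by
    refine ⟨fun x y h => ?_, fun c => ?_⟩
    · obtain ⟨k, hk⟩ := (QuotientGroup.eq).1 h
      have : π (fmat x) * ψ k = π (fmat y) * ψ 1 := by rw [hk, map_one, mul_one, mul_inv_cancel_left]
      exact (Prod.ext_iff.1 (χinj (a₁ := (x, k)) (a₂ := (y, 1)) this)).1
    · obtain ⟨g, rfl⟩ := QuotientGroup.mk_surjective c
      obtain ⟨⟨x, k⟩, rfl⟩ := χbij.2 g
      refine ⟨x, ?_⟩
      show _ = QuotientGroup.mk (π (fmat x) * ψ k)
      rw [QuotientGroup.mk_mul, (QuotientGroup.eq_one_iff (N := N) (ψ k)).2 (MonoidHom.mem_range.2 ⟨k, rfl⟩), mul_one]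
      rfl
  let e := (MulEquiv.ofBijective Φ Φbij).symm
  refine ⟨hcard, ?_, N, hNn, hNc, ?_, ⟨e⟩⟩
  · have h1 : Group.IsNilpotent (PSU 3 F 2 ⧸ N) := by
      refine IsPGroup.isNilpotent (p := 2) (IsPGroup.of_card (n := 3) ?_)
      rw [Nat.card_congr e.toEquiv]
      simp [QuaternionGroup.card, Nat.card_eq_fintype_card]
    exact Group.isSolvable_of_ker_le_range ψ (QuotientGroup.mk' N) (by rw [QuotientGroup.ker_mk'])
  · rintro _ ⟨k, rfl⟩
    rw [← map_pow]
    have : k ^ 3 = 1 := Multiplicative.toAdd.injective (by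
      simp only [toAdd_pow, toAdd_one]
      exact (by decide : ∀ z : ZMod 3 × ZMod 3, 3 • z = 0) _)
    rw [this, map_one]

end Field

end CfsgLib.Classical.PSUThreeTwo
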