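import Mathlib
import Cfsg.Prelude.Def_GeometricClasses

set_option autoImplicit false
set_option linter.unusedSectionVars false

/-!
Invariant subspaces, centralising algebras and Clifford's theorem for matrix groups of prime degree.
-/

namespace CfsgLib.PrimeDim

open Matrix
open Cfsg.Geo (matrixSet scalars mem_scalars_iff ActsIrreducibly ActsAbsolutelyIrreducibly)
open scoped MatrixGroups

variable {F : Type*} [Field F] {n : ℕ}

/-- A subspace invariant under a set of matrices. -/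
def Inv (S : Set (Matrix (Fin n) (Fin n) F)) (W : Submodule F (Fin n → F)) : Prop :=
  ∀ s ∈ S, ∀ v ∈ W, s *ᵥ v ∈ W

theorem inv_bot (S : Set (Matrix (Fin n) (Fin n) F)) : Inv S ⊥ := fun s _ v hv => by
  rw [(Submodule.mem_bot F).1 hv, mulVec_zero]
  exact zero_mem _

theorem inv_sup {S : Set (Matrix (Fin n) (Fin n) F)} {U W : Submodule F (Fin n → F)} (hU : Inv S U)
    (hW : Inv S W) : Inv S (U ⊔ W) := by
  intro s hs v hv
  obtain ⟨a, ha, b, hb, rfl⟩ := Submodule.mem_sup.1 hv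
  rw [mulVec_add]
  exact Submodule.add_mem_sup (hU s hs a ha) (hW s hs b hb)

theorem inv_inf {S : Set (Matrix (Fin n) (Fin n) F)} {U W : Submodule F (Fin n → F)} (hU : Inv S U)
    (hW : Inv S W) : Inv S (U ⊓ W) := fun s hs v hv => ⟨hU s hs v hv.1, hW s hs v hv.2⟩

theorem irreducible_iff {S : Set (Matrix (Fin n) (Fin n) F)} :
    ActsIrreducibly S ↔ ∀ W, Inv S W → W = ⊥ ∨ W = ⊤ := by
  have key : ∀ W, Inv S W ↔ ∀ s ∈ S, W.map (Matrix.toLin' s) ≤ W := fun W => by
    refine forall₂_congr fun s _ => ?_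
    rw [Submodule.map_le_iff_le_comap]
    exact ⟨fun h v hv => by rw [Submodule.mem_comap, Matrix.toLin'_apply]; exact h v hv,
      fun h v hv => by rw [← Matrix.toLin'_apply]; exact h hv⟩
  exact forall_congr' fun W => by rw [key]

theorem exists_minimal {S : Set (Matrix (Fin n) (Fin n) F)} {U : Submodule F (Fin n → F)}
    (hU : Inv S U) (hU0 : U ≠ ⊥) :
    ∃ W ≤ U, Inv S W ∧ W ≠ ⊥ ∧ ∀ X, Inv S X → X ≤ W → X = ⊥ ∨ X = W := by
  obtain ⟨W, ⟨h1, h2, h3⟩, h4⟩ := wellFounded_lt.has_min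
    {W : Submodule F (Fin n → F) | W ≤ U ∧ Inv S W ∧ W ≠ ⊥} ⟨U, le_rfl, hU, hU0⟩
  refine ⟨W, h1, h2, h3, fun X hX hle => ?_⟩
  by_contra hc
  push Not at hc
  exact h4 X ⟨hle.trans h1, hX, hc.1⟩ (lt_of_le_of_ne hle hc.2)

/-- A space covered by minimal invariant subspaces of dimension `w` has dimension divisible by `w`. -/
theorem dvd_of_cover {S : Set (Matrix (Fin n) (Fin n) F)} {w : ℕ}
    (𝒲 : Set (Submodule F (Fin n → F))) (hI : ∀ W ∈ 𝒲, Inv S W)
    (hw : ∀ W ∈ 𝒲, Module.finrank F W = w)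
    (hmin : ∀ W ∈ 𝒲, ∀ X, Inv S X → X ≤ W → X = ⊥ ∨ X = W)
    (htop : ∀ U, (∀ W ∈ 𝒲, W ≤ U) → U = ⊤) : w ∣ n := by
  obtain ⟨U, ⟨hU, hd⟩, hmax⟩ := wellFounded_gt.has_min
    {U : Submodule F (Fin n → F) | Inv S U ∧ w ∣ Module.finrank F U} ⟨⊥, inv_bot S, by simp⟩
  have hall : ∀ W ∈ 𝒲, W ≤ U := by
    intro W hW
    rcases hmin W hW (U ⊓ W) (inv_inf hU (hI W hW)) inf_le_right with h | h
    · by_contra hle
      refine hmax (U ⊔ W) ⟨inv_sup hU (hI W hW), ?_⟩ (left_lt_sup.2 hle)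
      have := Submodule.finrank_sup_add_finrank_inf_eq U W
      rw [h, finrank_bot, add_zero, hw W hW] at this
      rw [this]
      exact dvd_add hd dvd_rfl
    · exact inf_eq_right.1 h
  rwa [htop U hall, finrank_top, Module.finrank_fin_fun] at hd

/-- The centralising algebra. -/
def cent (S : Set (Matrix (Fin n) (Fin n) F)) : Subalgebra F (Matrix (Fin n) (Fin n) F) :=
  Subalgebra.centralizer F S

theorem mem_cent {S : Set (Matrix (Fin n) (Fin n) F)} {M : Matrix (Fin n) (Fin n) F} :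
    M ∈ cent S ↔ ∀ s ∈ S, s * M = M * s := Subalgebra.mem_centralizer_iff F

theorem isUnit_of_comm {S : Set (Matrix (Fin n) (Fin n) F)} (hirr : ActsIrreducibly S)
    {M : Matrix (Fin n) (Fin n) F} (hM : M ∈ cent S) (h0 : M ≠ 0) : IsUnit M := by
  rw [irreducible_iff] at hirr
  have hinv : Inv S (LinearMap.ker (Matrix.toLin' M)) := fun s hs v hv => by
    rw [LinearMap.mem_ker, Matrix.toLin'_apply] at hv ⊢
    rw [mulVec_mulVec, ← mem_cent.1 hM s hs, ← mulVec_mulVec, hv, mulVec_zero]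
  rcases hirr _ hinv with h | h
  · refine Matrix.mulVec_injective_iff_isUnit.1 fun x y e => ?_
    exact LinearMap.ker_eq_bot.1 h (by simpa [Matrix.toLin'_apply] using e)
  · exact absurd (Matrix.toLin'.injective (LinearMap.ker_eq_top.1 h |>.trans (map_zero _).symm)) h0

theorem cent_isField [Finite F] (hn : 1 ≤ n) {S : Set (Matrix (Fin n) (Fin n) F)}
    (hirr : ActsIrreducibly S) :
    Cfsg.Geo.IsFieldSubalgebra (Module.finrank F (cent S)) (cent S) := by
  haveI : Nonempty (Fin n) := ⟨⟨0, hn⟩⟩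
  have hinv : ∀ x ∈ cent S, x ≠ 0 → ∃ y ∈ cent S, x * y = 1 := by
    intro x hx h0
    obtain ⟨u, rfl⟩ := isUnit_of_comm hirr hx h0
    refine ⟨(u⁻¹ : (Matrix (Fin n) (Fin n) F)ˣ), mem_cent.2 fun s hs => ?_, Units.mul_inv u⟩
    have h := congrArg (fun z => (↑u⁻¹ : Matrix (Fin n) (Fin n) F) * z * (↑u⁻¹ : Matrix (Fin n) (Fin n) F))
      (mem_cent.1 hx s hs)
    simp only [mul_assoc, Units.mul_inv, mul_one] at h
    simp only [← mul_assoc, Units.inv_mul, one_mul] at h
    exact h.symm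
  haveI : Finite (cent S) := Finite.of_injective _ Subtype.val_injective
  haveI : Nontrivial (cent S) := ⟨⟨0, 1, fun e => zero_ne_one (congrArg Subtype.val e)⟩⟩
  haveI : NoZeroDivisors (cent S) := ⟨fun {a b} h => by
    by_cases ha : a = 0
    · exact Or.inl ha
    obtain ⟨u, hu⟩ := isUnit_of_comm hirr a.2 fun e => ha (Subtype.ext e)
    have h' : (a : Matrix (Fin n) (Fin n) F) * b = 0 := congrArg Subtype.val h
    rw [← hu] at h'
    exact Or.inr (Subtype.ext (by simpa using congrArg (fun z => (↑u⁻¹ : Matrix (Fin n) (Fin n) F) * z) h'))⟩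
  haveI : IsDomain (cent S) := NoZeroDivisors.to_isDomain _
  refine ⟨fun x hx y hy => ?_, hinv, rfl⟩
  exact congrArg Subtype.val
    ((Finite.isDomain_to_isField (cent S)).mul_comm ⟨x, hx⟩ ⟨y, hy⟩)

theorem cent_finrank_dvd [Finite F] (hn : 1 ≤ n) {S : Set (Matrix (Fin n) (Fin n) F)}
    (hirr : ActsIrreducibly S) : Module.finrank F (cent S) ∣ n := by
  classical
  let L : (Fin n → F) → (cent S) →ₗ[F] (Fin n → F) := fun v =>
    { toFun := fun k => (k : Matrix (Fin n) (Fin n) F) *ᵥ v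
      map_add' := fun a b => add_mulVec _ _ _
      map_smul' := fun c a => smul_mulVec _ _ _ }
  have hinj : ∀ v, v ≠ 0 → Function.Injective (L v) := by
    intro v hv
    rw [injective_iff_map_eq_zero]
    intro k hk
    by_contra h0
    obtain ⟨u, hu⟩ := isUnit_of_comm hirr k.2 fun e => h0 (Subtype.ext e)
    have : (↑u⁻¹ : Matrix (Fin n) (Fin n) F) *ᵥ ((k : Matrix (Fin n) (Fin n) F) *ᵥ v) = 0 := by
      rw [show (k : Matrix (Fin n) (Fin n) F) *ᵥ v = 0 from hk, mulVec_zero]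
    rw [← hu, mulVec_mulVec, Units.inv_mul, one_mulVec] at this
    exact hv this
  refine dvd_of_cover (S := (cent S : Set (Matrix (Fin n) (Fin n) F)))
    {W | ∃ v, v ≠ 0 ∧ W = LinearMap.range (L v)} ?_ ?_ ?_ fun U hU => ?_
  · rintro W ⟨v, -, rfl⟩ s hs _ ⟨k, rfl⟩
    exact ⟨⟨s, hs⟩ * k, by show (s * (k : Matrix (Fin n) (Fin n) F)) *ᵥ v = _; rw [← mulVec_mulVec]; rfl⟩
  · rintro W ⟨v, hv, rfl⟩
    exact LinearMap.finrank_range_of_inj (hinj v hv)
  · rintro W ⟨v, hv, rfl⟩ X hX hle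
    by_cases hX0 : X = ⊥
    · exact Or.inl hX0
    obtain ⟨x, hx, hx0⟩ := Submodule.exists_mem_ne_zero_of_ne_bot hX0
    obtain ⟨k, rfl⟩ := hle hx
    refine Or.inr (le_antisymm hle ?_)
    rintro _ ⟨k', rfl⟩
    obtain ⟨y, hy, hky⟩ := (cent_isField hn hirr).inv k k.2 fun e => hx0 (by
      show (k : Matrix (Fin n) (Fin n) F) *ᵥ v = 0
      rw [e, zero_mulVec])
    have h := hX ((k' : Matrix (Fin n) (Fin n) F) * y) ((cent S).mul_mem k'.2 hy) _ hx
    have e : ((k' : Matrix (Fin n) (Fin n) F) * y) *ᵥ ((k : Matrix (Fin n) (Fin n) F) *ᵥ v) =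
        (k' : Matrix (Fin n) (Fin n) F) *ᵥ v := by
      rw [mulVec_mulVec, mul_assoc, (cent_isField hn hirr).comm y hy k k.2, hky, mul_one]
    show (k' : Matrix (Fin n) (Fin n) F) *ᵥ v ∈ X
    rw [← e]
    exact h
  · refine eq_top_iff.2 fun v _ => ?_
    by_cases hv : v = 0
    · rw [hv]; exact zero_mem _
    exact hU _ ⟨v, hv, rfl⟩ ⟨1, one_mulVec v⟩

theorem absIrreducible_of_finrank_one {S : Set (Matrix (Fin n) (Fin n) F)} (hn : 1 ≤ n)
    (hirr : ActsIrreducibly S) (h1 : Module.finrank F (cent S) = 1) :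
    ActsAbsolutelyIrreducibly S := by
  refine ⟨hirr, fun M hM => ?_⟩
  have hmem : M ∈ cent S := mem_cent.2 fun s hs => (hM s hs).symm
  rw [Subalgebra.eq_bot_of_finrank_one h1, Algebra.mem_bot] at hmem
  obtain ⟨c, rfl⟩ := hmem
  exact ⟨c, Algebra.algebraMap_eq_smul_one c⟩

/-- A subgroup of `H` normalised by `H`. -/
structure Nml (H N : Subgroup (GL (Fin n) F)) : Prop where
  le : N ≤ H
  conj : ∀ h ∈ H, ∀ x ∈ N, h * x * h⁻¹ ∈ N

theorem Nml.conj' {H N : Subgroup (GL (Fin n) F)} (hN : Nml H N) {h : GL (Fin n) F} (hh : h ∈ H)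
    {x : GL (Fin n) F} (hx : x ∈ N) : h⁻¹ * x * h ∈ N := by
  simpa using hN.conj h⁻¹ (inv_mem hh) x hx

theorem mulVec_inv_cancel (g : GL (Fin n) F) (v : Fin n → F) :
    (g : Matrix (Fin n) (Fin n) F) *ᵥ ((↑g⁻¹ : Matrix (Fin n) (Fin n) F) *ᵥ v) = v := by
  rw [mulVec_mulVec, Units.mul_inv, one_mulVec]

theorem inv_mulVec_cancel (g : GL (Fin n) F) (v : Fin n → F) :
    (↑g⁻¹ : Matrix (Fin n) (Fin n) F) *ᵥ ((g : Matrix (Fin n) (Fin n) F) *ᵥ v) = v := by
  rw [mulVec_mulVec, Units.inv_mul, one_mulVec]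

theorem mulVec_injective (g : GL (Fin n) F) :
    Function.Injective (Matrix.toLin' (g : Matrix (Fin n) (Fin n) F)) := fun v w e => by
  simp only [Matrix.toLin'_apply] at e
  rw [← inv_mulVec_cancel g v, e, inv_mulVec_cancel]

/-- The common eigenspace of a character. -/
def eig (N : Subgroup (GL (Fin n) F)) (χ : N → F) : Submodule F (Fin n → F) where
  carrier := {v | ∀ x : N, ((x : GL (Fin n) F) : Matrix (Fin n) (Fin n) F) *ᵥ v = χ x • v}
  add_mem' := fun {a b} ha hb x => by rw [mulVec_add, ha x, hb x, smul_add]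
  zero_mem' := fun x => by rw [mulVec_zero, smul_zero]
  smul_mem' := fun c v hv x => by rw [mulVec_smul, hv x, smul_comm]

theorem iSupIndep_eig (N : Subgroup (GL (Fin n) F)) {κ : Type*} (χ : κ → N → F)
    (hχ : Function.Injective χ) : iSupIndep fun i => eig N (χ i) := by
  classical
  rw [iSupIndep_iff_finset_sum_eq_zero_imp_eq_zero]
  intro s
  induction s using Finset.induction_on with
  | empty => simp
  | @insert a s ha ih =>
    intro v hv hsum i hi
    have key : ∀ j ∈ s, ∀ x : N, (χ j x - χ a x) • v j = 0 := by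
      intro j hj x
      have h1 := congrArg (fun w => ((x : GL (Fin n) F) : Matrix (Fin n) (Fin n) F) *ᵥ w) hsum
      simp only [Matrix.mulVec_sum, mulVec_zero] at h1
      rw [Finset.sum_congr rfl fun l hl => hv l hl x] at h1
      have h2 := congrArg (fun w => χ a x • w) hsum
      simp only [Finset.smul_sum, smul_zero] at h2
      have h3 : ∑ l ∈ s, (χ l x - χ a x) • v l = 0 := by
        have := congrArg₂ (· - ·) h1 h2
        simpa [Finset.sum_insert ha, sub_smul, ← Finset.sum_sub_distrib] using this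
      exact ih (fun l => (χ l x - χ a x) • v l)
        (fun l hl => Submodule.smul_mem _ _ (hv l (Finset.mem_insert_of_mem hl))) h3 j hj
    have hz : ∀ j ∈ s, v j = 0 := by
      intro j hj
      by_contra h0
      exact ha ((hχ (funext fun x => sub_eq_zero.1 ((smul_eq_zero.1 (key j hj x)).resolve_right h0))) ▸ hj)
    rcases Finset.mem_insert.1 hi with rfl | hi
    · rw [Finset.sum_insert ha, Finset.sum_eq_zero hz, add_zero] at hsum
      exact hsum
    · exact hz i hi

/-- `H` permutes the eigenlines of a normal subgroup. -/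
def EigenCase (H : Subgroup (GL (Fin n) F)) : Prop :=
  ∃ (N : Subgroup (GL (Fin n) F)) (χ : Fin n → N → F), Nml H N ∧ Function.Injective χ ∧
    Cfsg.Geo.IsMDecomposition 1 (fun i => eig N (χ i)) ∧
    H ≤ Cfsg.Geo.decompositionStabilizer (fun i => eig N (χ i))

/-- `H` normalises a field of degree `n`, the centraliser of a normal subgroup. -/
def FieldCase (H : Subgroup (GL (Fin n) F)) : Prop :=
  ∃ N : Subgroup (GL (Fin n) F), Nml H N ∧ ActsIrreducibly (matrixSet N) ∧
    Cfsg.Geo.IsFieldSubalgebra n (cent (matrixSet N)) ∧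
    H ≤ Cfsg.Geo.subalgebraNormalizer (cent (matrixSet N))

theorem cent_normalized {H N : Subgroup (GL (Fin n) F)} (hN : Nml H N) :
    H ≤ Cfsg.Geo.subalgebraNormalizer (cent (matrixSet N)) := by
  have key : ∀ h ∈ H, ∀ k ∈ cent (matrixSet N),
      (h : Matrix (Fin n) (Fin n) F) * k * (↑h⁻¹ : Matrix (Fin n) (Fin n) F) ∈ cent (matrixSet N) := by
    intro h hh k hk
    refine mem_cent.2 ?_
    rintro _ ⟨x, hx, rfl⟩
    have hy := mem_cent.1 hk _ ⟨_, hN.conj' hh hx, rfl⟩
    simp only [Units.val_mul] at hy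
    have := congrArg (fun z => (h : Matrix (Fin n) (Fin n) F) * z * (↑h⁻¹ : Matrix (Fin n) (Fin n) F)) hy
    simp only [mul_assoc, Units.mul_inv_cancel_left, Units.mul_inv, mul_one] at this ⊢
    exact this
  intro h hh k
  refine ⟨key h hh k, fun hk => ?_⟩
  have := key h⁻¹ (inv_mem hh) _ hk
  simpa [mul_assoc] using this

/-- Clifford's theorem in prime degree. -/
theorem clifford_split [Finite F] (hn : n.Prime) {H N : Subgroup (GL (Fin n) F)}
    (hH : ActsIrreducibly (matrixSet H)) (hN : Nml H N) :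
    N ≤ scalars (Fin n) F ∨ ActsIrreducibly (matrixSet N) ∨
      ((∀ x ∈ N, ∀ y ∈ N, x * y = y * x) ∧ EigenCase H) := by
  classical
  haveI : Nonempty (Fin n) := ⟨⟨0, hn.pos⟩⟩
  obtain ⟨W, -, hW, hW0, hWmin⟩ := exists_minimal (S := matrixSet N) (U := ⊤)
    (fun s _ v _ => Submodule.mem_top) top_ne_bot
  have hH' := irreducible_iff.1 hH
  set 𝒲 : Set (Submodule F (Fin n → F)) :=
    {X | ∃ h ∈ H, X = W.map (Matrix.toLin' (h : Matrix (Fin n) (Fin n) F))}
  have htop : ∀ U, (∀ X ∈ 𝒲, X ≤ U) → U = ⊤ := by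
    intro U hU
    have hS : Inv (matrixSet H) (sSup 𝒲) := by
      rintro _ ⟨g, hg, rfl⟩ v hv
      have : (sSup 𝒲).map (Matrix.toLin' (g : Matrix (Fin n) (Fin n) F)) ≤ sSup 𝒲 := by
        rw [sSup_eq_iSup, Submodule.map_iSup]
        refine iSup_le fun X => ?_
        rw [Submodule.map_iSup]
        refine iSup_le ?_
        rintro ⟨h, hh, rfl⟩
        refine le_iSup₂_of_le _ ⟨g * h, mul_mem hg hh, rfl⟩ ?_
        rw [← Submodule.map_comp, ← Matrix.toLin'_mul, ← Units.val_mul]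
      exact this ⟨v, hv, Matrix.toLin'_apply _ _⟩
    rcases hH' _ hS with h | h
    · refine absurd (eq_bot_iff.2 ?_) hW0
      rw [← h]
      exact le_sSup ⟨1, one_mem H, by simp⟩
    · exact eq_top_iff.2 (h ▸ sSup_le hU)
  have hI : ∀ X ∈ 𝒲, Inv (matrixSet N) X := by
    rintro _ ⟨h, hh, rfl⟩ _ ⟨x, hx, rfl⟩ _ ⟨v, hv, rfl⟩
    refine ⟨_, hW _ ⟨_, hN.conj' hh hx, rfl⟩ v hv, ?_⟩
    simp only [Matrix.toLin'_apply, Units.val_mul, mulVec_mulVec, ← mul_assoc, Units.mul_inv, one_mul]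
  have hdim : ∀ X ∈ 𝒲, Module.finrank F X = Module.finrank F W := by
    rintro _ ⟨h, hh, rfl⟩
    exact (Submodule.equivMapOfInjective _ (mulVec_injective h) W).finrank_eq.symm
  have hmin : ∀ X ∈ 𝒲, ∀ Y, Inv (matrixSet N) Y → Y ≤ X → Y = ⊥ ∨ Y = X := by
    rintro _ ⟨h, hh, rfl⟩ Y hY hle
    have hinv : Inv (matrixSet N) (Y.comap (Matrix.toLin' (h : Matrix (Fin n) (Fin n) F))) := by
      rintro _ ⟨x, hx, rfl⟩ v hv
      rw [Submodule.mem_comap, Matrix.toLin'_apply] at hv ⊢
      have := hY _ ⟨_, hN.conj h hh x hx, rfl⟩ _ hv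
      simpa [mulVec_mulVec, mul_assoc] using this
    have e : (Y.comap (Matrix.toLin' (h : Matrix (Fin n) (Fin n) F))).map
        (Matrix.toLin' (h : Matrix (Fin n) (Fin n) F)) = Y := by
      refine Submodule.map_comap_eq_of_surjective (fun v => ?_) Y
      exact ⟨_, (Matrix.toLin'_apply _ _).trans (mulVec_inv_cancel h v)⟩
    rcases hWmin _ hinv (by
      intro v hv
      obtain ⟨w, hw, e'⟩ := hle hv
      exact mulVec_injective h e' ▸ hw) with h1 | h1
    · exact Or.inl (by rw [← e, h1, Submodule.map_bot])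
    · exact Or.inr (by rw [← e, h1])
  have hdvd := dvd_of_cover 𝒲 hI hdim hmin htop
  rcases (Nat.dvd_prime hn).1 hdvd with h1 | h1
  · -- eigenlines
    by_cases hsc : N ≤ scalars (Fin n) F
    · exact Or.inl hsc
    refine Or.inr (Or.inr ?_)
    have hline : ∀ X ∈ 𝒲, ∃ χ : N → F, X ≤ eig N χ ∧ X ≠ ⊥ := by
      intro X hX
      have hX1 : Module.finrank F X = 1 := (hdim X hX).trans h1
      obtain ⟨v, hv, hspan⟩ := finrank_eq_one_iff'.1 hX1
      have : ∀ x : N, ∃ c : F, c • (v : Fin n → F) = ((x : GL (Fin n) F) : Matrix (Fin n) (Fin n) F) *ᵥ (v : Fin n → F) :=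
        fun x => by
          obtain ⟨c, hc⟩ := hspan ⟨_, hI X hX _ ⟨x, x.2, rfl⟩ _ v.2⟩
          exact ⟨c, congrArg Subtype.val hc⟩
      choose χ hχ using this
      refine ⟨χ, fun w hw x => ?_, fun e => hv (Subtype.ext ((Submodule.mem_bot F).1 (e ▸ v.2)))⟩
      obtain ⟨a, ha⟩ := hspan ⟨w, hw⟩
      rw [show w = a • (v : Fin n → F) from (congrArg Subtype.val ha).symm, mulVec_smul, ← hχ, smul_comm]
    -- the weights
    let Λ := {χ : N → F // eig N χ ≠ ⊥}
    have hind : iSupIndep fun χ : Λ => eig N χ.1 := iSupIndep_eig N _ Subtype.val_injective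
    haveI : Finite Λ := Subtype.finite
    haveI := Fintype.ofFinite Λ
    have hsup : iSup (fun χ : Λ => eig N χ.1) = ⊤ := htop _ fun X hX => by
      obtain ⟨χ, hle, h0⟩ := hline X hX
      exact hle.trans (le_iSup (fun χ : Λ => eig N χ.1) ⟨χ, fun e => h0 (eq_bot_iff.2 (e ▸ hle))⟩)
    -- conjugation moves the eigenspaces
    have hmove : ∀ h ∈ H, ∀ χ : Λ, ∃ χ' : Λ,
        (eig N χ.1).map (Matrix.toLin' (h : Matrix (Fin n) (Fin n) F)) = eig N χ'.1 := by
      intro h hh χ
      let χ' : N → F := fun x => χ.1 ⟨_, hN.conj' hh x.2⟩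
      have e : (eig N χ.1).map (Matrix.toLin' (h : Matrix (Fin n) (Fin n) F)) = eig N χ' := by
        apply le_antisymm
        · rintro _ ⟨v, hv, rfl⟩ x
          have := hv ⟨_, hN.conj' hh x.2⟩
          simp only [Units.val_mul, ← mulVec_mulVec] at this
          rw [Matrix.toLin'_apply, ← mulVec_smul, ← this, mulVec_inv_cancel]
        · intro w hw
          refine ⟨(↑h⁻¹ : Matrix (Fin n) (Fin n) F) *ᵥ w, fun y => ?_, ?_⟩
          · have := hw ⟨_, hN.conj h hh y y.2⟩
            have hy : χ' ⟨_, hN.conj h hh y y.2⟩ = χ.1 y := congrArg χ.1 (Subtype.ext (by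
              simp [mul_assoc]))
            rw [hy] at this
            simp only [Units.val_mul, ← mulVec_mulVec] at this
            have := congrArg (fun u => (↑h⁻¹ : Matrix (Fin n) (Fin n) F) *ᵥ u) this
            simpa [inv_mulVec_cancel, mulVec_smul] using this
          · rw [Matrix.toLin'_apply, mulVec_inv_cancel]
      refine ⟨⟨χ', fun e' => χ.2 ?_⟩, e⟩
      rw [e'] at e
      refine (Submodule.eq_bot_iff _).2 fun v hv => mulVec_injective h ?_
      rw [map_zero]
      exact (Submodule.eq_bot_iff _).1 e _ (Submodule.mem_map_of_mem hv)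
    obtain ⟨χ₀, -, -⟩ := hline _ ⟨1, one_mem H, rfl⟩
    have hΛ0 : Nonempty Λ := by
      obtain ⟨χ, hle, h0⟩ := hline _ ⟨1, one_mem H, rfl⟩
      exact ⟨⟨χ, fun e => h0 (eq_bot_iff.2 (e ▸ hle))⟩⟩
    obtain ⟨χa⟩ := hΛ0
    have horbit : ∀ χ : Λ, ∃ h ∈ H,
        (eig N χa.1).map (Matrix.toLin' (h : Matrix (Fin n) (Fin n) F)) = eig N χ.1 := by
      intro χ
      let O : Set Λ := {χ | ∃ h ∈ H,
        (eig N χa.1).map (Matrix.toLin' (h : Matrix (Fin n) (Fin n) F)) = eig N χ.1}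
      have hOinv : Inv (matrixSet H) (⨆ χ ∈ O, eig N χ.1) := by
        rintro _ ⟨g, hg, rfl⟩ v hv
        have : (⨆ χ ∈ O, eig N χ.1).map (Matrix.toLin' (g : Matrix (Fin n) (Fin n) F)) ≤
            ⨆ χ ∈ O, eig N χ.1 := by
          rw [Submodule.map_iSup]
          refine iSup_le fun ψ => ?_
          rw [Submodule.map_iSup]
          refine iSup_le fun hψ => ?_
          obtain ⟨h, hh, he⟩ := hψ
          obtain ⟨ψ', hψ'⟩ := hmove g hg ψ
          rw [hψ']
          refine le_iSup₂_of_le ψ' ⟨g * h, mul_mem hg hh, ?_⟩ le_rfl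
          rw [Units.val_mul, Matrix.toLin'_mul, Submodule.map_comp, he, hψ']
        exact this ⟨v, hv, Matrix.toLin'_apply _ _⟩
      have hOne : χa ∈ O := ⟨1, one_mem H, by simp⟩
      have hOt : (⨆ χ ∈ O, eig N χ.1) = ⊤ := (hH' _ hOinv).resolve_left fun e =>
        χa.2 (eq_bot_iff.2 ((le_iSup₂ (f := fun (χ : Λ) (_ : χ ∈ O) => eig N χ.1) χa hOne).trans_eq e))
      by_contra hc
      have hd := hind χ
      refine χ.2 (disjoint_self.1 (hd.mono_right (le_top.trans_eq hOt.symm |>.trans ?_)))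
      exact iSup₂_le fun ψ hψ => le_iSup₂_of_le ψ (fun e => hc (e ▸ hψ)) le_rfl
    have hcount : Fintype.card Λ * Module.finrank F (eig N χa.1) = n := by
      have hint : DirectSum.IsInternal fun χ : Λ => eig N χ.1 :=
        DirectSum.isInternal_submodule_of_iSupIndep_of_iSup_eq_top hind hsup
      have h := (LinearEquiv.ofBijective (DirectSum.coeLinearMap fun χ : Λ => eig N χ.1) hint).finrank_eq
      rw [Module.finrank_directSum, Module.finrank_fin_fun, Finset.sum_congr rfl fun χ _ => ?_,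
        Finset.sum_const, Finset.card_univ, smul_eq_mul] at h
      · exact h
      · obtain ⟨g, hg, hge⟩ := horbit χ
        rw [← hge, ← (Submodule.equivMapOfInjective _ (mulVec_injective g) _).finrank_eq]
    have hne1 : Fintype.card Λ ≠ 1 := by
      intro h1'
      apply hsc
      intro x hx
      have htopa : eig N χa.1 = ⊤ := by
        rw [← hsup]
        refine le_antisymm (le_iSup (fun χ : Λ => eig N χ.1) χa) (iSup_le fun χ => ?_)
        rw [Fintype.card_le_one_iff.1 h1'.le χ χa]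
      have hx' : ∀ v, ((x : GL (Fin n) F) : Matrix (Fin n) (Fin n) F) *ᵥ v = χa.1 ⟨x, hx⟩ • v :=
        fun v => (htopa ▸ Submodule.mem_top : v ∈ eig N χa.1) ⟨x, hx⟩
      have hm : (x : Matrix (Fin n) (Fin n) F) = χa.1 ⟨x, hx⟩ • 1 :=
        Matrix.ext_of_mulVec_single fun i => by rw [hx', smul_mulVec, one_mulVec]
      have hc0 : χa.1 ⟨x, hx⟩ ≠ 0 := fun e => x.ne_zero (by rw [hm, e, zero_smul])
      exact (mem_scalars_iff x).2 ⟨Units.mk0 _ hc0, hm⟩
    have hcardn : Fintype.card Λ = n :=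
      ((Nat.dvd_prime hn).1 ⟨_, hcount.symm⟩).resolve_left hne1
    have hm1 : Module.finrank F (eig N χa.1) = 1 := by
      rw [hcardn] at hcount
      exact mul_left_cancel₀ hn.ne_zero (hcount.trans (mul_one n).symm)
    let e : Fin n ≃ Λ := (Fintype.equivFinOfCardEq hcardn).symm
    refine ⟨fun x hx y hy => Units.ext (Matrix.toLin'.injective (LinearMap.ext fun v => ?_)), N, fun i => (e i).1, hN, Subtype.val_injective.comp e.injective,
      ⟨hn.two_le, one_pos, fun i => ?_, hind.comp e.injective, ?_⟩, ?_⟩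
    · have hv : v ∈ iSup (fun χ : Λ => eig N χ.1) := hsup ▸ Submodule.mem_top
      induction hv using Submodule.iSup_induction' with
      | mem χ v hv =>
        simp only [Matrix.toLin'_apply, Units.val_mul, ← mulVec_mulVec]
        rw [hv ⟨x, hx⟩, hv ⟨y, hy⟩, mulVec_smul, mulVec_smul, hv ⟨x, hx⟩, hv ⟨y, hy⟩, smul_comm]
      | zero => simp
      | add v w _ _ hv hw => rw [map_add, map_add, hv, hw]
    · obtain ⟨g, hg, hge⟩ := horbit (e i)
      rw [← hge, ← (Submodule.equivMapOfInjective _ (mulVec_injective g) _).finrank_eq, hm1]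
    · exact (e.iSup_comp (g := fun χ : Λ => eig N χ.1)).trans hsup
    · intro h hh
      choose τ hτ using hmove h hh
      have hτinj : Function.Injective τ := fun a b hab => by
        have : eig N a.1 = eig N b.1 := Submodule.map_injective_of_injective (mulVec_injective h)
          ((hτ a).trans (hab ▸ (hτ b).symm))
        by_contra hne
        exact a.2 (disjoint_self.1 ((hind.pairwiseDisjoint hne).mono_right this.le))
      refine ⟨Equiv.ofBijective (fun i => e.symm (τ (e i))) (Finite.injective_iff_bijective.1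
        (e.symm.injective.comp (hτinj.comp e.injective))), fun i => ?_⟩
      show _ = eig N (e (e.symm (τ (e i)))).1
      rw [Equiv.apply_symm_apply]
      exact hτ (e i)
  · -- irreducible
    have hWt : W = ⊤ := Submodule.eq_top_of_finrank_eq (by rw [h1, Module.finrank_fin_fun])
    have hNirr : ActsIrreducibly (matrixSet N) := irreducible_iff.2 fun X hX => by
      rcases hWmin X hX (hWt ▸ le_top) with h | h
      · exact Or.inl h
      · exact Or.inr (h.trans hWt)
    exact Or.inr (Or.inl hNirr)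

theorem clifford [Finite F] (hn : n.Prime) {H N : Subgroup (GL (Fin n) F)}
    (hH : ActsIrreducibly (matrixSet H)) (hN : Nml H N) :
    N ≤ scalars (Fin n) F ∨ ActsAbsolutelyIrreducibly (matrixSet N) ∨ EigenCase H ∨ FieldCase H := by
  rcases clifford_split hn hH hN with h | h | ⟨-, h⟩
  · exact Or.inl h
  · rcases (Nat.dvd_prime hn).1 (cent_finrank_dvd hn.pos h) with h1 | h1
    · exact Or.inr (Or.inl (absIrreducible_of_finrank_one hn.pos h h1))
    · have hf := cent_isField hn.pos h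
      rw [h1] at hf
      exact Or.inr (Or.inr (Or.inr ⟨N, hN, h, hf, cent_normalized hN⟩))
  · exact Or.inr (Or.inr (Or.inl h))

end CfsgLib.PrimeDim
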