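import Cfsg.Agent.Lib.Classical.PrimeDimBasic

set_option autoImplicit false
set_option linter.unusedSectionVars false

/-!
The structure of irreducible subgroups of `SL(n, q)` for a prime `n`.
-/

namespace CfsgLib.PrimeDim

open Matrix
open Cfsg.Geo (matrixSet scalars mem_scalars_iff ActsIrreducibly ActsAbsolutelyIrreducibly specialLinear)
open scoped MatrixGroups commutatorElement

variable {F : Type*} [Field F] {n : ℕ}

/-- A scalar matrix as an element of the general linear group. -/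
def sc (u : Fˣ) : GL (Fin n) F := Units.map (Matrix.scalar (Fin n) : F →+* Matrix (Fin n) (Fin n) F).toMonoidHom u

theorem sc_val (u : Fˣ) : ((sc u : GL (Fin n) F) : Matrix (Fin n) (Fin n) F) = (u : F) • 1 := by
  simp [sc, Matrix.smul_one_eq_diagonal]

theorem sc_mem (u : Fˣ) : (sc u : GL (Fin n) F) ∈ scalars (Fin n) F := ⟨u, rfl⟩

theorem sc_comm (u : Fˣ) (g : GL (Fin n) F) : sc u * g = g * sc u := by
  apply Units.ext
  simp [sc_val]

theorem sc_mulVec (u : Fˣ) (v : Fin n → F) :
    ((sc u : GL (Fin n) F) : Matrix (Fin n) (Fin n) F) *ᵥ v = (u : F) • v := by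
  rw [sc_val, smul_mulVec, one_mulVec]

theorem det_eq_one {H : Subgroup (GL (Fin n) F)} (hH : H ≤ specialLinear (Fin n) F) {g : GL (Fin n) F}
    (hg : g ∈ H) : (g : Matrix (Fin n) (Fin n) F).det = 1 :=
  congrArg Units.val (MonoidHom.mem_ker.1 (hH hg))

theorem eq_sc_of_mem_scalars {g : GL (Fin n) F} (hg : g ∈ scalars (Fin n) F) : ∃ u, g = sc u := by
  obtain ⟨u, rfl⟩ := hg
  exact ⟨u, rfl⟩

theorem pow_eq_one_of_scalar {H : Subgroup (GL (Fin n) F)} (hH : H ≤ specialLinear (Fin n) F)
    {u : Fˣ} (hu : (sc u : GL (Fin n) F) ∈ H) : u ^ n = 1 := by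
  have h := det_eq_one hH hu
  rw [sc_val, det_smul, det_one, mul_one, Fintype.card_fin] at h
  exact Units.ext (by rw [Units.val_pow_eq_pow_val]; exact h)

/-- The data of a normal Heisenberg group. -/
def HeisCase (H : Subgroup (GL (Fin n) F)) : Prop :=
  ∃ (N : Subgroup (GL (Fin n) F)) (c : Fˣ) (x y : GL (Fin n) F) (v : Fin n → F),
    Nml H N ∧ ActsAbsolutelyIrreducibly (matrixSet N) ∧ IsPrimitiveRoot c n ∧ x ∈ N ∧ y ∈ N ∧
    y ^ n = 1 ∧
    (LinearIndependent F fun i : Fin n => ((y ^ (i : ℕ) : GL (Fin n) F) : Matrix (Fin n) (Fin n) F) *ᵥ v) ∧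
    (∀ i : ℕ, (x : Matrix (Fin n) (Fin n) F) *ᵥ (((y ^ i : GL (Fin n) F) : Matrix (Fin n) (Fin n) F) *ᵥ v) =
      (c : F) ^ i • (((y ^ i : GL (Fin n) F) : Matrix (Fin n) (Fin n) F) *ᵥ v)) ∧
    (∀ z ∈ N, ∃ k i j : ℕ, z = sc c ^ k * x ^ i * y ^ j) ∧
    Cfsg.Geo.IsSymplecticTypeGroup n N ∧ Nat.card N = n ^ 3 ∧ Nat.card (Subgroup.center N) = n

/-- The data of a normal perfect irreducible group, simple modulo scalars. -/
def PerfectCase (H : Subgroup (GL (Fin n) F)) : Prop :=
  ∃ P : Subgroup (GL (Fin n) F), Nml H P ∧ ActsAbsolutelyIrreducibly (matrixSet P) ∧ ⁅P, P⁆ = P ∧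
    IsSimpleGroup (P ⧸ (scalars (Fin n) F).subgroupOf P) ∧
    ¬ IsMulCommutative (P ⧸ (scalars (Fin n) F).subgroupOf P) ∧
    ∀ h ∈ H, (∀ x ∈ P, h * x * h⁻¹ * x⁻¹ ∈ scalars (Fin n) F) → h ∈ scalars (Fin n) F

theorem scalar_of_comm {N : Subgroup (GL (Fin n) F)} (hN : ActsAbsolutelyIrreducibly (matrixSet N))
    {z : GL (Fin n) F} (hz : ∀ a ∈ N, z * a = a * z) : z ∈ scalars (Fin n) F := by
  obtain ⟨c, hc⟩ := hN.2 (z : Matrix (Fin n) (Fin n) F) (by
    rintro _ ⟨a, ha, rfl⟩
    exact congrArg Units.val (hz a ha))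
  refine (mem_scalars_iff z).2 ?_
  rcases Nat.eq_zero_or_pos n with rfl | hn
  · exact ⟨1, Subsingleton.elim _ _⟩
  haveI : Nonempty (Fin n) := ⟨⟨0, hn⟩⟩
  have hc0 : c ≠ 0 := fun e => z.ne_zero (by rw [hc, e, zero_smul])
  exact ⟨Units.mk0 c hc0, hc⟩

/-- A perfect group commuting with an element modulo scalars commutes with it. -/
theorem comm_of_perfect {M : Subgroup (GL (Fin n) F)} (hM : ⁅M, M⁆ = M) {g : GL (Fin n) F}
    (hg : ∀ m ∈ M, g * m * g⁻¹ * m⁻¹ ∈ scalars (Fin n) F) : ∀ m ∈ M, g * m = m * g := by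
  have key : M ≤ Subgroup.centralizer {g} := by
    conv_lhs => rw [← hM]
    rw [Subgroup.commutator_le]
    intro a ha b hb
    obtain ⟨u, hu⟩ := eq_sc_of_mem_scalars (hg a ha)
    obtain ⟨w, hw⟩ := eq_sc_of_mem_scalars (hg b hb)
    rw [mul_inv_eq_iff_eq_mul] at hu hw
    rw [Subgroup.mem_centralizer_singleton_iff, eq_comm, ← mul_inv_eq_iff_eq_mul,
      ← MulAut.conj_apply, map_commutatorElement, MulAut.conj_apply, MulAut.conj_apply, hu, hw,
      commutatorElement_def, commutatorElement_def, _root_.mul_inv_rev, _root_.mul_inv_rev]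
    calc sc u * a * (sc w * b) * (a⁻¹ * (sc u)⁻¹) * (b⁻¹ * (sc w)⁻¹)
        = sc u * (a * sc w) * b * a⁻¹ * ((sc u)⁻¹ * b⁻¹) * (sc w)⁻¹ := by simp only [mul_assoc]
      _ = sc u * (sc w * a) * b * a⁻¹ * (b⁻¹ * (sc u)⁻¹) * (sc w)⁻¹ := by
          rw [← sc_comm w a, show (sc u)⁻¹ * b⁻¹ = b⁻¹ * (sc u)⁻¹ by
            rw [← _root_.mul_inv_rev, ← _root_.mul_inv_rev, sc_comm]]
      _ = (sc u * sc w) * (a * b * a⁻¹ * b⁻¹) * ((sc u)⁻¹ * (sc w)⁻¹) := by simp only [mul_assoc]
      _ = a * b * a⁻¹ * b⁻¹ := by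
          rw [sc_comm u (sc w), mul_assoc (sc w), sc_comm u, ← mul_assoc, sc_comm w]
          simp [mul_assoc]
          rw [← _root_.mul_inv_rev, ← mul_assoc, sc_comm u (sc w), mul_inv_cancel]
  intro m hm
  exact (Subgroup.mem_centralizer_singleton_iff.1 (key hm)).symm

theorem heis_of_class_two [Finite F] (hn : n.Prime) (hn2 : n ≠ 2) {H N : Subgroup (GL (Fin n) F)}
    (hH : H ≤ specialLinear (Fin n) F) (hN : Nml H N)
    (habs : ActsAbsolutelyIrreducibly (matrixSet N))
    (hchar : ∀ K, Nml H K → K ≤ N → K ≤ scalars (Fin n) F ∨ ActsAbsolutelyIrreducibly (matrixSet K))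
    (hns : ¬ N ≤ scalars (Fin n) F) (hcl : ⁅N, N⁆ ≤ scalars (Fin n) F) : HeisCase H := by
  classical
  haveI : Fact n.Prime := ⟨hn⟩
  haveI : Nonempty (Fin n) := ⟨⟨0, hn.pos⟩⟩
  haveI : Finite (GL (Fin n) F) := Finite.of_injective _ Units.val_injective
  have hNS : N ≤ specialLinear (Fin n) F := hN.le.trans hH
  have hcomm : ∀ a ∈ N, ∀ b ∈ N, ∃ u : Fˣ, u ^ n = 1 ∧ a * b = sc u * (b * a) := by
    intro a ha b hb
    have hmem : ⁅a, b⁆ ∈ ⁅N, N⁆ := Subgroup.commutator_mem_commutator ha hb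
    obtain ⟨u, hu⟩ := eq_sc_of_mem_scalars (hcl hmem)
    have hu' : sc u ∈ N := hu ▸ (Subgroup.commutator_le.2 (fun p hp q hq => by
      rw [commutatorElement_def]
      exact mul_mem (mul_mem (mul_mem hp hq) (inv_mem hp)) (inv_mem hq)) : ⁅N, N⁆ ≤ N) hmem
    refine ⟨u, pow_eq_one_of_scalar hNS hu', ?_⟩
    rw [← hu, commutatorElement_def]
    simp [mul_assoc]
  -- exponent
  have hexp : ∀ z ∈ N, z ^ n = 1 := by
    intro z hz
    by_cases hzs : z ∈ scalars (Fin n) F
    · obtain ⟨u, rfl⟩ := eq_sc_of_mem_scalars hzs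
      have := pow_eq_one_of_scalar hNS hz
      rw [sc, ← map_pow, this, map_one]
    obtain ⟨w, hw, d, hdn, hd, hd1⟩ : ∃ w ∈ N, ∃ d : Fˣ, d ^ n = 1 ∧ w * z = sc d * (z * w) ∧ d ≠ 1 := by
      by_contra hc
      push Not at hc
      refine hzs (scalar_of_comm habs fun a ha => ?_)
      obtain ⟨d, hdn, hd⟩ := hcomm a ha z hz
      rw [hc a ha d hdn hd, sc, map_one, one_mul] at hd
      exact hd.symm
    have hord : orderOf d = n := orderOf_eq_prime hdn hd1
    obtain ⟨a, hla⟩ : ∃ a : Fˣ, z ^ n = sc a := by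
      refine eq_sc_of_mem_scalars (scalar_of_comm habs fun b hb => ?_)
      obtain ⟨u, hun, hu⟩ := hcomm b hb z hz
      have : ∀ k : ℕ, b * z ^ k = sc (u ^ k) * (z ^ k * b) := by
        intro k
        induction k with
        | zero => simp [sc]
        | succ k ih =>
          rw [pow_succ, ← mul_assoc, ih, pow_succ, mul_assoc (sc (u ^ k)), mul_assoc (z ^ k), hu,
            ← mul_assoc (z ^ k), ← sc_comm u (z ^ k)]
          simp only [sc, map_mul, mul_assoc]
      rw [this n, hun]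
      simp [sc]
    set Z : Matrix (Fin n) (Fin n) F := (z : Matrix (Fin n) (Fin n) F)
    let L : Matrix (Fin n) (Fin n) F →ₗ[F] Matrix (Fin n) (Fin n) F :=
      (LinearMap.mulLeft F (w : Matrix (Fin n) (Fin n) F)).comp
        (LinearMap.mulRight F (↑w⁻¹ : Matrix (Fin n) (Fin n) F))
    have hL : ∀ i : ℕ, L (Z ^ i) = (d : F) ^ i • Z ^ i := by
      intro i
      have hwz : (w : Matrix (Fin n) (Fin n) F) * Z = (d : F) • (Z * (w : Matrix (Fin n) (Fin n) F)) := by
        have := congrArg Units.val hd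
        simpa [Units.val_mul, sc_val] using this
      have hi : (w : Matrix (Fin n) (Fin n) F) * Z ^ i = (d : F) ^ i • (Z ^ i * (w : Matrix (Fin n) (Fin n) F)) := by
        induction i with
        | zero => simp
        | succ i ih =>
          rw [pow_succ, ← mul_assoc, ih, smul_mul, mul_assoc, hwz, mul_smul_comm, smul_smul, ← mul_assoc,
            pow_succ]
      show (w : Matrix (Fin n) (Fin n) F) * (Z ^ i * (↑w⁻¹ : Matrix (Fin n) (Fin n) F)) = _
      rw [← mul_assoc, hi, smul_mul, mul_assoc, Units.mul_inv, mul_one]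
    have hμ : Function.Injective fun i : Fin n => (d : F) ^ (i : ℕ) := by
      intro i j hij
      have : d ^ (i : ℕ) = d ^ (j : ℕ) := Units.ext (by simpa using hij)
      exact Fin.ext (pow_injOn_Iio_orderOf (by simp [hord]) (by simp [hord]) this)
    have hne : ∀ i : Fin n, Z ^ (i : ℕ) ≠ 0 := fun i => by
      rw [← Units.val_pow_eq_pow_val]; exact (z ^ (i : ℕ)).ne_zero
    have hli : LinearIndependent F fun i : Fin n => Z ^ (i : ℕ) :=
      Module.End.eigenvectors_linearIndependent' L _ hμ _ fun i =>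
        ⟨Module.End.mem_eigenspace_iff.2 (hL i), hne i⟩
    have hZn : Z ^ n = (a : F) • 1 := by
      rw [← Units.val_pow_eq_pow_val, hla, sc_val]
    have hchp : Z.charpoly = Polynomial.X ^ n - Polynomial.C (a : F) := by
      set p := Z.charpoly - (Polynomial.X ^ n - Polynomial.C (a : F))
      have hdeg : p.natDegree < n ∨ p = 0 := by
        rcases eq_or_ne p 0 with h | h
        · exact Or.inr h
        refine Or.inl ((Polynomial.natDegree_lt_iff_degree_lt h).2 ?_)
        calc p.degree < Z.charpoly.degree := Polynomial.degree_sub_lt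
              (by rw [Matrix.charpoly_degree_eq_dim, Polynomial.degree_X_pow_sub_C hn.pos, Fintype.card_fin])
              (Matrix.charpoly_monic Z).ne_zero
              (by rw [(Matrix.charpoly_monic Z).leadingCoeff, (Polynomial.monic_X_pow_sub_C _ hn.ne_zero).leadingCoeff])
          _ = n := by rw [Matrix.charpoly_degree_eq_dim, Fintype.card_fin]
      have hp0 : Polynomial.aeval Z p = 0 := by
        rw [map_sub, Matrix.aeval_self_charpoly, map_sub, map_pow, Polynomial.aeval_X,
          Polynomial.aeval_C, hZn, Algebra.algebraMap_eq_smul_one, sub_self, sub_zero]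
      refine sub_eq_zero.1 (hdeg.elim (fun hd' => ?_) id)
      rw [Polynomial.aeval_eq_sum_range' hd', ← Fin.sum_univ_eq_sum_range (fun i => p.coeff i • Z ^ i)] at hp0
      ext i
      by_cases hi : i < n
      · rw [Polynomial.coeff_zero]
        exact Fintype.linearIndependent_iff.1 hli (fun j => p.coeff j) hp0 ⟨i, hi⟩
      · rw [Polynomial.coeff_zero]
        exact Polynomial.coeff_eq_zero_of_natDegree_lt (lt_of_lt_of_le hd' (not_lt.1 hi))
    have hdet := Matrix.det_eq_sign_charpoly_coeff Z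
    rw [hchp, Fintype.card_fin, det_eq_one hNS hz, Polynomial.coeff_sub, Polynomial.coeff_X_pow,
      if_neg hn.ne_zero.symm, Polynomial.coeff_C_zero, zero_sub, (hn.odd_of_ne_two hn2).neg_one_pow,
      neg_mul_neg, one_mul] at hdet
    rw [hla, show a = 1 from Units.ext hdet.symm, sc, map_one]
  -- a non-commuting pair
  obtain ⟨x, hx, y, hy, c, hcn, hc1, hxy⟩ : ∃ x ∈ N, ∃ y ∈ N, ∃ c : Fˣ, c ^ n = 1 ∧ c ≠ 1 ∧
      x * y = sc c * (y * x) := by
    by_contra hc
    push Not at hc
    refine hns fun x hx => scalar_of_comm habs fun y hy => ?_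
    obtain ⟨u, hun, hu⟩ := hcomm x hx y hy
    by_cases h1 : u = 1
    · rwa [h1, sc, map_one, one_mul] at hu
    · exact absurd hu (hc x hx y hy u hun h1)
  have hprim : IsPrimitiveRoot c n := (orderOf_eq_prime hcn hc1) ▸ IsPrimitiveRoot.orderOf c
  -- the powers of x are independent, so x fixes a vector
  obtain ⟨v, hv0, hv⟩ : ∃ v, v ≠ 0 ∧ (x : Matrix (Fin n) (Fin n) F) *ᵥ v = v := by
    set X : Matrix (Fin n) (Fin n) F := (x : Matrix (Fin n) (Fin n) F)
    have hX : X ^ n = 1 := by rw [← Units.val_pow_eq_pow_val, hexp x hx, Units.val_one]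
    by_contra hc
    push Not at hc
    have hu : IsUnit (X - 1) := by
      refine Matrix.mulVec_injective_iff_isUnit.1 fun a b e => sub_eq_zero.1 ?_
      by_contra h0
      refine hc (a - b) h0 ?_
      have : (X - 1) *ᵥ (a - b) = 0 := by rw [mulVec_sub, sub_eq_zero.2]; exact e
      rwa [sub_mulVec, one_mulVec, sub_eq_zero] at this
    have hsum : ∑ i ∈ Finset.range n, X ^ i = 0 := by
      apply hu.mul_left_eq_zero.1
      rw [geom_sum_mul, hX, sub_self]
    -- conjugation by y scales the powers of x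
    have hyx : ∀ i : ℕ, X ^ i * (y : Matrix (Fin n) (Fin n) F) =
        (c : F) ^ i • ((y : Matrix (Fin n) (Fin n) F) * X ^ i) := by
      intro i
      induction i with
      | zero => simp
      | succ i ih =>
        have h1 : X * (y : Matrix (Fin n) (Fin n) F) = (c : F) • ((y : Matrix (Fin n) (Fin n) F) * X) := by
          have := congrArg Units.val hxy
          simpa [Units.val_mul, sc_val] using this
        rw [pow_succ, mul_assoc, h1, mul_smul_comm, ← mul_assoc, ih, smul_mul, smul_smul, mul_assoc,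
          ← pow_succ']
    have hsum2 : ∑ i ∈ Finset.range n, (c : F) ^ i • X ^ i = 0 := by
      have h0 : ∑ i ∈ Finset.range n, (c : F) ^ i • ((y : Matrix (Fin n) (Fin n) F) * X ^ i) = 0 := by
        rw [← Finset.sum_congr rfl fun i _ => hyx i, ← Finset.sum_mul, hsum, zero_mul]
      simp only [← mul_smul_comm, ← Finset.mul_sum] at h0
      simpa [← mul_assoc] using congrArg (fun M => (↑y⁻¹ : Matrix (Fin n) (Fin n) F) * M) h0
    let L : Matrix (Fin n) (Fin n) F →ₗ[F] Matrix (Fin n) (Fin n) F :=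
      (LinearMap.mulLeft F (↑y⁻¹ : Matrix (Fin n) (Fin n) F)).comp
        (LinearMap.mulRight F (y : Matrix (Fin n) (Fin n) F))
    have hμ : Function.Injective fun i : Fin n => (c : F) ^ (i : ℕ) := by
      intro i j hij
      exact Fin.ext (hprim.pow_inj i.2 j.2 (Units.ext (by simpa using hij)))
    have hli : LinearIndependent F fun i : Fin n => X ^ (i : ℕ) :=
      Module.End.eigenvectors_linearIndependent' L _ hμ _ fun i => ⟨Module.End.mem_eigenspace_iff.2 (by
        show (↑y⁻¹ : Matrix (Fin n) (Fin n) F) * (X ^ (i : ℕ) * (y : Matrix (Fin n) (Fin n) F)) = _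
        rw [hyx, mul_smul_comm, ← mul_assoc, Units.inv_mul, one_mul]), by
          rw [← Units.val_pow_eq_pow_val]; exact (x ^ (i : ℕ)).ne_zero⟩
    have := Fintype.linearIndependent_iff.1 hli (fun _ => 1) (by
      simp only [one_smul]
      rw [Fin.sum_univ_eq_sum_range (fun i => X ^ i)]
      exact hsum) ⟨0, hn.pos⟩
    exact one_ne_zero this
  -- the cyclic basis
  let b : ℕ → Fin n → F := fun i => ((y ^ i : GL (Fin n) F) : Matrix (Fin n) (Fin n) F) *ᵥ v
  have hb : ∀ i, (x : Matrix (Fin n) (Fin n) F) *ᵥ b i = (c : F) ^ i • b i := by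
    intro i
    induction i with
    | zero => simp [b, hv]
    | succ i ih =>
      have h1 := congrArg (fun g : GL (Fin n) F => (g : Matrix (Fin n) (Fin n) F) *ᵥ b i) hxy
      simp only [Units.val_mul, ← mulVec_mulVec, sc_mulVec, ih, mulVec_smul, smul_smul] at h1
      have e : b (i + 1) = (y : Matrix (Fin n) (Fin n) F) *ᵥ b i := by
        simp only [b, pow_succ', Units.val_mul, mulVec_mulVec]
      rw [e, h1, pow_succ', mul_comm (c : F)]
  have hb0 : ∀ i, b i ≠ 0 := fun i e => hv0 (by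
    have := congrArg (fun w => ((↑(y ^ i)⁻¹ : Matrix (Fin n) (Fin n) F)) *ᵥ w) e
    simpa [b, mulVec_mulVec, ← Units.val_mul] using this)
  have hli : LinearIndependent F fun i : Fin n => b i :=
    Module.End.eigenvectors_linearIndependent' (Matrix.toLin' (x : Matrix (Fin n) (Fin n) F))
      (fun i : Fin n => (c : F) ^ (i : ℕ))
      (fun i j hij => Fin.ext (hprim.pow_inj i.2 j.2 (Units.ext (by simpa using hij)))) _
      fun i => ⟨Module.End.mem_eigenspace_iff.2 ((Matrix.toLin'_apply _ _).trans (hb i)), hb0 i⟩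
  let B := basisOfLinearIndependentOfCardEqFinrank hli (by simp)
  have hB : ∀ i : Fin n, B i = b i := fun i => by simp [B]
  have hyn : y ^ n = 1 := hexp y hy
  -- what commutes with both is scalar
  have hcent : ∀ g : GL (Fin n) F, g * x = x * g → g * y = y * g → g ∈ scalars (Fin n) F := by
    intro g hgx hgy
    set u := (g : Matrix (Fin n) (Fin n) F) *ᵥ v
    have hu : (x : Matrix (Fin n) (Fin n) F) *ᵥ u = u := by
      simp only [u, mulVec_mulVec, ← Units.val_mul, ← hgx]
      rw [Units.val_mul, ← mulVec_mulVec, hv]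
    have key : ∀ i : Fin n, i ≠ ⟨0, hn.pos⟩ → B.repr u i = 0 := by
      intro i hi
      have h1 : ∑ j, B.repr u j • B j = u := B.sum_repr u
      have h2 : ∑ j, (B.repr u j * ((c : F) ^ (j : ℕ) - 1)) • B j = 0 := by
        have h3 := congrArg (fun w => (x : Matrix (Fin n) (Fin n) F) *ᵥ w) h1
        simp only [mulVec_sum, mulVec_smul, hu, hB, hb] at h3
        simp only [hB, mul_sub, mul_one, sub_smul, Finset.sum_sub_distrib, mul_smul]
        rw [h3, sub_eq_zero]
        simpa [hB] using h1.symm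
      have := Fintype.linearIndependent_iff.1 B.linearIndependent _ h2 i
      refine (mul_eq_zero.1 this).resolve_right fun e => hi ?_
      refine Fin.ext (hprim.pow_inj i.2 hn.pos ?_)
      rw [pow_zero]
      exact Units.ext (by simpa [sub_eq_zero] using e)
    have hu' : u = B.repr u ⟨0, hn.pos⟩ • v := by
      conv_lhs => rw [← B.sum_repr u]
      rw [Finset.sum_eq_single ⟨0, hn.pos⟩ (fun i _ hi => by rw [key i hi, zero_smul]) (by simp), hB]
      simp [b]
    set r := B.repr u ⟨0, hn.pos⟩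
    have hm : (g : Matrix (Fin n) (Fin n) F) = r • 1 := Matrix.toLin'.injective (B.ext fun i => by
      have hgi : g * y ^ (i : ℕ) = y ^ (i : ℕ) * g := Commute.pow_right hgy _
      rw [Matrix.toLin'_apply, Matrix.toLin'_apply, smul_mulVec, one_mulVec, hB]
      simp only [b, mulVec_mulVec, ← Units.val_mul, hgi]
      rw [Units.val_mul, ← mulVec_mulVec, show (g : Matrix (Fin n) (Fin n) F) *ᵥ v = r • v from hu',
        mulVec_smul])
    exact (mem_scalars_iff g).2 ⟨Units.mk0 r (fun e => g.ne_zero (by rw [hm, e, zero_smul])), hm⟩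
  -- the parametrisation
  have hc1N : sc c ∈ N := by
    have : sc c = x * y * (y * x)⁻¹ := by rw [hxy, mul_assoc, mul_inv_cancel, mul_one]
    rw [this]
    exact mul_mem (mul_mem hx hy) (inv_mem (mul_mem hy hx))
  let f : Fin n × Fin n × Fin n → N := fun t =>
    ⟨sc c ^ (t.1 : ℕ) * x ^ (t.2.1 : ℕ) * y ^ (t.2.2 : ℕ),
      mul_mem (mul_mem (pow_mem hc1N _) (pow_mem hx _)) (pow_mem hy _)⟩
  have hxpow : ∀ i m, ((x ^ i : GL (Fin n) F) : Matrix (Fin n) (Fin n) F) *ᵥ b m = ((c : F) ^ m) ^ i • b m := by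
    intro i m
    induction i with
    | zero => simp
    | succ i ih => rw [pow_succ, Units.val_mul, ← mulVec_mulVec, hb, mulVec_smul, ih, smul_smul, ← pow_succ']
  have hf : ∀ t m, ((f t : GL (Fin n) F) : Matrix (Fin n) (Fin n) F) *ᵥ b m =
      (c : F) ^ ((t.1 : ℕ) + (t.2.2 + m) * t.2.1) • b (t.2.2 + m) := by
    intro t m
    show ((sc c ^ (t.1 : ℕ) * x ^ (t.2.1 : ℕ) * y ^ (t.2.2 : ℕ) : GL (Fin n) F) : Matrix (Fin n) (Fin n) F) *ᵥ b m = _
    have e : ((y ^ (t.2.2 : ℕ) : GL (Fin n) F) : Matrix (Fin n) (Fin n) F) *ᵥ b m = b (t.2.2 + m) := by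
      simp only [b, mulVec_mulVec, ← Units.val_mul, ← pow_add]
    rw [Units.val_mul, ← mulVec_mulVec, e, Units.val_mul, ← mulVec_mulVec, hxpow, mulVec_smul]
    rw [sc, ← map_pow, show Units.map (Matrix.scalar (Fin n) : F →+* Matrix (Fin n) (Fin n) F).toMonoidHom
      (c ^ (t.1 : ℕ)) = sc (c ^ (t.1 : ℕ)) from rfl, sc_mulVec, smul_smul, ← pow_mul,
      Units.val_pow_eq_pow_val, ← pow_add, add_comm]
  have hbmod : ∀ m, b m = b (m % n) := fun m => by
    simp only [b]
    rw [pow_eq_pow_mod m hyn]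
  have hfinj : Function.Injective f := by
    rintro ⟨k, i, j⟩ ⟨k', i', j'⟩ e
    have h0 := (hf (k, i, j) 0).symm.trans ((congrArg (fun g : N => ((g : GL (Fin n) F) : Matrix (Fin n) (Fin n) F) *ᵥ b 0) e).trans (hf (k', i', j') 0))
    have h1 := (hf (k, i, j) 1).symm.trans ((congrArg (fun g : N => ((g : GL (Fin n) F) : Matrix (Fin n) (Fin n) F) *ᵥ b 1) e).trans (hf (k', i', j') 1))
    simp only [add_zero] at h0 h1
    have hjj : j = j' := by
      by_contra hne
      have h := congrArg (fun w => B.repr w j) h0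
      simp only [← hB, map_smul, Finsupp.smul_apply, Module.Basis.repr_self, Finsupp.single_eq_same,
        Finsupp.single_eq_of_ne hne, smul_zero, mul_zero, smul_eq_mul, mul_one] at h
      exact pow_ne_zero _ c.ne_zero h
    subst hjj
    have hc0 : c ^ ((k : ℕ) + j * i) = c ^ ((k' : ℕ) + j * i') :=
      Units.ext (by simpa using smul_left_injective F (hb0 j) h0)
    have hc1' : c ^ ((k : ℕ) + (j + 1) * i) = c ^ ((k' : ℕ) + (j + 1) * i') :=
      Units.ext (by simpa using smul_left_injective F (hb0 (j + 1)) h1)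
    have hii : i = i' := by
      refine Fin.ext (hprim.pow_inj i.2 i'.2 (mul_left_cancel (a := c ^ ((k : ℕ) + j * i)) ?_))
      nth_rewrite 2 [hc0]
      rw [← pow_add, ← pow_add, add_assoc, add_assoc, ← Nat.succ_mul, ← Nat.succ_mul]
      exact hc1'
    subst hii
    rw [pow_add, pow_add] at hc0
    rw [Fin.ext (hprim.pow_inj k.2 k'.2 (mul_right_cancel hc0))]
  have hcard : Nat.card N ≤ n ^ 3 := by
    choose ux hux hux' using fun z : N => hcomm x hx z z.2
    choose uy huy huy' using fun z : N => hcomm y hy z z.2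
    have hroot : ∀ u : Fˣ, u ^ n = 1 → ∃ k : Fin n, c ^ (k : ℕ) = u := fun u hu => by
      obtain ⟨k, hk, e⟩ := (IsPrimitiveRoot.coe_units_iff.2 hprim).eq_pow_of_pow_eq_one
        (show (u : F) ^ n = 1 by rw [← Units.val_pow_eq_pow_val, hu, Units.val_one])
      exact ⟨⟨k, hk⟩, Units.ext (by simpa using e)⟩
    choose kx hkx using fun z => hroot _ (hux z)
    choose ky hky using fun z => hroot _ (huy z)
    have hkey : ∀ z z' : N, kx z = kx z' → ky z = ky z' →
        ∃ k : Fin n, (z' : GL (Fin n) F) = (z : GL (Fin n) F) * sc c ^ (k : ℕ) := by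
      intro z z' e1 e2
      have hz : ∀ g : GL (Fin n) F, ∀ u : Fˣ, g * (z : GL (Fin n) F) = sc u * ((z : GL (Fin n) F) * g) →
          g * (z' : GL (Fin n) F) = sc u * ((z' : GL (Fin n) F) * g) →
          (z : GL (Fin n) F)⁻¹ * (z' : GL (Fin n) F) * g = g * ((z : GL (Fin n) F)⁻¹ * (z' : GL (Fin n) F)) := by
        intro g u h h'
        apply mul_left_cancel (a := sc u * (z : GL (Fin n) F))
        calc sc u * (z : GL (Fin n) F) * ((z : GL (Fin n) F)⁻¹ * (z' : GL (Fin n) F) * g)
            = sc u * ((z' : GL (Fin n) F) * g) := by simp [mul_assoc]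
          _ = g * (z' : GL (Fin n) F) := h'.symm
          _ = g * (z : GL (Fin n) F) * ((z : GL (Fin n) F)⁻¹ * (z' : GL (Fin n) F)) := by simp [mul_assoc]
          _ = _ := by rw [h]; simp [mul_assoc]
      obtain ⟨u, hu⟩ := eq_sc_of_mem_scalars (hcent ((z : GL (Fin n) F)⁻¹ * z')
        (hz x _ (hux' z) (by rw [← hkx z, e1, hkx z']; exact hux' z'))
        (hz y _ (huy' z) (by rw [← hky z, e2, hky z']; exact huy' z')))
      obtain ⟨k, hk⟩ := hroot u (pow_eq_one_of_scalar hNS (hu ▸ mul_mem (inv_mem z.2) z'.2))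
      refine ⟨k, ?_⟩
      rw [sc, ← map_pow, hk]
      exact eq_mul_of_inv_mul_eq hu
    have hN1 : Nonempty N := ⟨1⟩
    let rep : Fin n × Fin n → N := fun t => Function.invFun (fun z => (kx z, ky z)) t
    let g : Fin n × Fin n × Fin n → N := fun t =>
      ⟨(rep (t.2.1, t.2.2) : GL (Fin n) F) * sc c ^ (t.1 : ℕ), mul_mem (rep _).2 (pow_mem hc1N _)⟩
    have hsurj : Function.Surjective g := by
      intro z
      have h := Function.invFun_eq (f := fun z => (kx z, ky z)) (b := (kx z, ky z)) ⟨z, rfl⟩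
      obtain ⟨k, hk⟩ := hkey (rep (kx z, ky z)) z (congrArg Prod.fst h) (congrArg Prod.snd h)
      exact ⟨(k, kx z, ky z), Subtype.ext hk.symm⟩
    have := Nat.card_le_card_of_surjective g hsurj
    simpa [Nat.card_prod, pow_succ, mul_assoc] using this
  have hcard' : Nat.card N = n ^ 3 := by
    refine le_antisymm hcard ?_
    have := Nat.card_le_card_of_injective f hfinj
    simpa [Nat.card_prod, pow_succ, mul_assoc] using this
  have hgen : ∀ z ∈ N, ∃ k i j : ℕ, z = sc c ^ k * x ^ i * y ^ j := by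
    intro z hz
    haveI := Fintype.ofFinite N
    obtain ⟨⟨k, i, j⟩, e⟩ := ((Fintype.bijective_iff_injective_and_card f).2 ⟨hfinj, by
      rw [← Nat.card_eq_fintype_card (α := N), hcard']; simp [pow_succ, mul_assoc]⟩).2 ⟨z, hz⟩
    exact ⟨k, i, j, congrArg Subtype.val e.symm⟩
  let c₁ : N := ⟨sc c, hc1N⟩
  have hord₁ : orderOf c₁ = n := orderOf_eq_prime (Subtype.ext (hexp _ hc1N)) fun e => hc1 (Units.ext (by
    have := congrArg (fun g : N => ((g : GL (Fin n) F) : Matrix (Fin n) (Fin n) F) ⟨0, hn.pos⟩ ⟨0, hn.pos⟩) e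
    simpa [c₁, sc_val] using this))
  have hsc : ∀ z : N, (z : GL (Fin n) F) ∈ scalars (Fin n) F → z ∈ Subgroup.zpowers c₁ := by
    intro z hz
    obtain ⟨u, hu⟩ := eq_sc_of_mem_scalars hz
    obtain ⟨k, hk, e⟩ := (IsPrimitiveRoot.coe_units_iff.2 hprim).eq_pow_of_pow_eq_one
      (show (u : F) ^ n = 1 by
        rw [← Units.val_pow_eq_pow_val, pow_eq_one_of_scalar hNS (hu ▸ z.2), Units.val_one])
    exact ⟨k, Subtype.ext (by
      show ((c₁ ^ (k : ℤ) : N) : GL (Fin n) F) = _
      rw [zpow_natCast, SubgroupClass.coe_pow, hu]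
      show sc c ^ k = sc u
      rw [sc, ← map_pow, show c ^ k = u from Units.ext (by simpa using e)]
      rfl)⟩
  have hcenter : Subgroup.center N = Subgroup.zpowers c₁ := by
    refine le_antisymm (fun z hz => hsc z (scalar_of_comm habs fun a ha => ?_)) ?_
    · exact (congrArg Subtype.val (Subgroup.mem_center_iff.1 hz ⟨a, ha⟩)).symm
    · rw [Subgroup.zpowers_le, Subgroup.mem_center_iff]
      exact fun a => Subtype.ext (sc_comm c a.1).symm
  refine ⟨N, c, x, y, v, hN, habs, hprim, hx, hy, hyn, hli, hb, hgen, ⟨hn, ?_, ?_, ?_⟩, hcard', ?_⟩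
  · exact fun g => ⟨1, by rw [pow_one]; exact Subtype.ext (hexp g g.2)⟩
  · intro A hA hAc
    have hA' : Nml H (A.map N.subtype) := by
      refine ⟨(Subgroup.map_subtype_le A).trans hN.le, ?_⟩
      rintro h hh _ ⟨a, ha, rfl⟩
      let φ : N ≃* N :=
        { toFun := fun g => ⟨h * g * h⁻¹, hN.conj h hh g g.2⟩
          invFun := fun g => ⟨h⁻¹ * g * h, hN.conj' hh g.2⟩
          left_inv := fun g => Subtype.ext (by simp [mul_assoc])
          right_inv := fun g => Subtype.ext (by simp [mul_assoc])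
          map_mul' := fun g g' => Subtype.ext (by simp [mul_assoc]) }
      exact ⟨φ a, by rw [← Subgroup.characteristic_iff_map_eq.1 hA φ]; exact ⟨a, ha, rfl⟩, rfl⟩
    have hle : A ≤ Subgroup.zpowers c₁ := by
      intro a ha
      refine hsc a ?_
      rcases hchar _ hA' (Subgroup.map_subtype_le A) with h | h
      · exact h ⟨a, ha, rfl⟩
      · refine scalar_of_comm h ?_
        rintro _ ⟨a', ha', rfl⟩
        exact congrArg (fun z : A => ((z : N) : GL (Fin n) F))
          (hAc.is_comm.comm ⟨a, ha⟩ ⟨a', ha'⟩)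
    exact isCyclic_of_injective (Subgroup.inclusion hle) (Subgroup.inclusion_injective hle)
  · rw [Nat.coprime_primes Nat.prime_two hn |>.2 (Ne.symm hn2) |>.gcd_eq_one, mul_one]
    refine Nat.dvd_antisymm (Monoid.exponent_dvd_of_forall_pow_eq_one fun g => Subtype.ext (hexp g g.2)) ?_
    have h := Monoid.order_dvd_exponent c₁
    rwa [hord₁] at h
  · rw [hcenter, Nat.card_zpowers, hord₁]

/-- A minimal normal non-scalar perfect subgroup is simple modulo scalars. -/
theorem perfect_case [Finite F] (hn : n.Prime) {H P : Subgroup (GL (Fin n) F)} (hP : Nml H P)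
    (habs : ActsAbsolutelyIrreducibly (matrixSet P)) (hns : ¬ P ≤ scalars (Fin n) F)
    (hmin : ∀ K, Nml H K → K ≤ P → K ≤ scalars (Fin n) F ∨ K = P) (hperf : ⁅P, P⁆ = P)
    (hH : ActsIrreducibly (matrixSet H)) (habsH : ActsAbsolutelyIrreducibly (matrixSet H)) :
    PerfectCase H := by
  classical
  haveI : Finite (GL (Fin n) F) := Finite.of_injective _ Units.val_injective
  have hcomm : ∀ K, Nml P K → ⁅K, K⁆ = K → (∀ a ∈ K, ∀ b ∈ K, a * b = b * a) → K = ⊥ := by
    intro K _ hK h
    rw [← hK, Subgroup.commutator_eq_bot_iff_le_centralizer]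
    exact fun a ha => Subgroup.mem_centralizer_iff.2 fun b hb => h b hb a ha
  -- minimal normal subgroups of P
  obtain ⟨M, ⟨hM, hMns⟩, hMmin⟩ := (wellFounded_lt (α := Subgroup (GL (Fin n) F))).has_min
    {K | Nml P K ∧ ¬ K ≤ scalars (Fin n) F} ⟨P, ⟨le_rfl, fun h hh x hx => mul_mem (mul_mem hh hx) (inv_mem hh)⟩, hns⟩
  have hMP : M = P := by
    by_contra hne
    let cj : H → Subgroup (GL (Fin n) F) := fun h => M.map (MulAut.conj (h : GL (Fin n) F)).toMonoidHom
    have hcjN : ∀ h : H, Nml P (cj h) := by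
      intro h
      refine ⟨?_, ?_⟩
      · rintro _ ⟨m, hm, rfl⟩
        exact hP.conj h h.2 m (hM.le hm)
      · rintro g hg _ ⟨m, hm, rfl⟩
        exact ⟨_, hM.conj _ (hP.conj' h.2 hg) m hm, by simp [mul_assoc]⟩
    have hcjle : ∀ (h : H) K, Nml P K → K ≤ cj h → K ≤ scalars (Fin n) F ∨ K = cj h := by
      intro h K hK hle
      by_cases hKs : K ≤ scalars (Fin n) F
      · exact Or.inl hKs
      refine Or.inr (le_antisymm hle ?_)
      let K' := K.map (MulAut.conj (h : GL (Fin n) F)⁻¹).toMonoidHom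
      have hK'N : Nml P K' := by
        refine ⟨?_, ?_⟩
        · rintro _ ⟨k, hk, rfl⟩
          simpa using hP.conj' h.2 (hK.le hk)
        · rintro g hg _ ⟨k, hk, rfl⟩
          exact ⟨_, hK.conj _ (hP.conj h h.2 g hg) k hk, by simp [mul_assoc]⟩
      have hK'M : K' ≤ M := by
        rintro _ ⟨k, hk, rfl⟩
        obtain ⟨m, hm, rfl⟩ := hle hk
        simpa [mul_assoc] using hm
      have hK's : ¬ K' ≤ scalars (Fin n) F := fun hs => hKs fun k hk => by
        have := (inferInstance : (scalars (Fin n) F).Normal).conj_mem _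
          (hs ⟨k, hk, rfl⟩) (h : GL (Fin n) F)
        simpa [mul_assoc] using this
      have hKM : K' = M := eq_of_le_of_not_lt hK'M fun hlt => hMmin K' ⟨hK'N, hK's⟩ hlt
      rintro _ ⟨m, hm, rfl⟩
      obtain ⟨k, hk, e⟩ := hKM.symm ▸ hm
      rw [← e]
      simpa [mul_assoc] using hk
    have hsup : (⨆ h : H, cj h) = P := by
      refine (hmin _ ⟨iSup_le fun h => (hcjN h).le.trans hP.le, fun g hg x hx => ?_⟩
        (iSup_le fun h => (hcjN h).le)).resolve_left fun hs => hMns ?_
      · have : (⨆ h : H, cj h).map (MulAut.conj g).toMonoidHom ≤ ⨆ h : H, cj h := by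
          rw [Subgroup.map_iSup]
          refine iSup_le fun h => le_iSup_of_le (⟨g, hg⟩ * h) ?_
          rw [Subgroup.map_map]
          refine le_of_eq (congrArg (fun f => M.map f) ?_)
          ext m
          simp [mul_assoc]
        exact this ⟨x, hx, rfl⟩
      · intro m hm
        exact hs (Subgroup.mem_iSup_of_mem (1 : H) ⟨m, hm, by simp⟩)
    have hpair : ∀ h h' : H, cj h ≠ cj h' → ∀ a ∈ cj h, ∀ b ∈ cj h', a * b * a⁻¹ * b⁻¹ ∈ scalars (Fin n) F := by
      intro h h' hne' a ha b hb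
      have hI : cj h ⊓ cj h' ≤ scalars (Fin n) F := by
        have hI' : Nml P (cj h ⊓ cj h') := ⟨inf_le_left.trans (hcjN h).le,
          fun g hg x hx => ⟨(hcjN h).conj g hg x hx.1, (hcjN h').conj g hg x hx.2⟩⟩
        refine (hcjle h _ hI' inf_le_left).resolve_right fun e => ?_
        rcases hcjle h' _ hI' inf_le_right with hs | e'
        · exact hMns fun m hm => by
            have h2 : MulAut.conj (h : GL (Fin n) F) m ∈ cj h ⊓ cj h' := by rw [e]; exact ⟨m, hm, rfl⟩
            have := (inferInstance : (scalars (Fin n) F).Normal).conj_mem _ (hs h2) (h : GL (Fin n) F)⁻¹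
            simpa [mul_assoc] using this
        · exact hne' (e.symm.trans e')
      refine hI (Subgroup.mem_inf.2 ⟨?_, mul_mem ((hcjN h').conj a ((hcjN h).le ha) b hb) (inv_mem hb)⟩)
      rw [mul_assoc, mul_assoc, ← mul_assoc b]
      exact mul_mem ha ((hcjN h).conj b ((hcjN h').le hb) _ (inv_mem ha))
    obtain ⟨h', hh'⟩ : ∃ h' : H, cj h' ≠ cj 1 := by
      by_contra hc
      push Not at hc
      refine hne (le_antisymm hM.le ?_)
      rw [← hsup]
      refine iSup_le fun h => ?_
      rw [hc h]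
      rintro _ ⟨m, hm, rfl⟩
      simpa using hm
    have h1 : cj 1 = M := by
      ext m
      simp [cj, Subgroup.mem_map]
    have hDs : Nml P ⁅M, M⁆ := by
      refine ⟨Subgroup.commutator_le.2 fun a ha b hb => hM.le ?_, fun g hg x hx => ?_⟩
      · exact mul_mem (mul_mem (mul_mem ha hb) (inv_mem ha)) (inv_mem hb)
      · have : (⁅M, M⁆).map (MulAut.conj g).toMonoidHom ≤ ⁅M, M⁆ := by
          rw [Subgroup.map_commutator]
          exact Subgroup.commutator_mono (by rintro _ ⟨m, hm, rfl⟩; exact hM.conj g hg m hm)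
            (by rintro _ ⟨m, hm, rfl⟩; exact hM.conj g hg m hm)
        exact this ⟨x, hx, rfl⟩
    have hDM : ⁅M, M⁆ ≤ M := Subgroup.commutator_le.2 fun a ha b hb =>
      mul_mem (mul_mem (mul_mem ha hb) (inv_mem ha)) (inv_mem hb)
    by_cases hsD : ⁅M, M⁆ ≤ scalars (Fin n) F
    · -- P would be abelian modulo scalars
      apply hns
      rw [← hperf]
      let q := QuotientGroup.mk' (scalars (Fin n) F)
      have hgen : ∀ a ∈ ⋃ h : H, (cj h : Set (GL (Fin n) F)), ∀ b ∈ ⋃ h : H, (cj h : Set (GL (Fin n) F)),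
          a * b * a⁻¹ * b⁻¹ ∈ scalars (Fin n) F := by
        simp only [Set.mem_iUnion, SetLike.mem_coe]
        rintro a ⟨h, ha⟩ b ⟨g, hb⟩
        by_cases e : cj h = cj g
        · rw [← e] at hb
          obtain ⟨m, hm, rfl⟩ := ha
          obtain ⟨m', hm', rfl⟩ := hb
          have := (inferInstance : (scalars (Fin n) F).Normal).conj_mem _
            (hsD (Subgroup.commutator_mem_commutator hm hm')) (h : GL (Fin n) F)
          simpa [commutatorElement_def, mul_assoc] using this
        · exact hpair h g e a ha b hb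
      have hP' : P.map q ≤ Subgroup.centralizer (P.map q) := by
        have hPc : P = Subgroup.closure (⋃ h : H, (cj h : Set (GL (Fin n) F))) := by
          rw [← hsup, Subgroup.iSup_eq_closure]
        conv_lhs => rw [hPc]
        conv_rhs => rw [hPc]
        rw [MonoidHom.map_closure, Subgroup.centralizer_closure, Subgroup.closure_le]
        rintro _ ⟨a, ha, rfl⟩
        rw [SetLike.mem_coe, Subgroup.mem_centralizer_iff]
        rintro _ ⟨b, hb, rfl⟩
        rw [← map_mul, ← map_mul]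
        refine QuotientGroup.eq_iff_div_mem.2 ?_
        simpa [div_eq_mul_inv, mul_assoc] using hgen b hb a ha
      rw [Subgroup.commutator_le]
      intro a ha b hb
      have h2 := Subgroup.mem_centralizer_iff.1 (hP' ⟨b, hb, rfl⟩) _ ⟨a, ha, rfl⟩
      rw [← map_mul, ← map_mul] at h2
      simpa [commutatorElement_def, div_eq_mul_inv, mul_assoc] using QuotientGroup.eq_iff_div_mem.1 h2
    · have hMperf : ⁅M, M⁆ = M :=
        eq_of_le_of_not_lt hDM fun hlt => hMmin _ ⟨hDs, hsD⟩ hlt
      have hc' : ∀ b ∈ cj h', ∀ a ∈ M, b * a = a * b := fun b hb =>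
        comm_of_perfect hMperf fun a ha => hpair h' 1 hh' b hb a (h1.symm ▸ ha)
      have hM'perf : ⁅cj h', cj h'⁆ = cj h' := by rw [← Subgroup.map_commutator, hMperf]
      rcases clifford_split hn habs.1 hM with h | h | ⟨h, -⟩
      · exact hMns h
      · refine hMns ?_
        have hf := cent_isField hn.pos h
        have hbot : cj h' = ⊥ := hcomm _ (hcjN h') hM'perf fun a ha b hb => Units.ext <| by
          refine hf.comm _ ?_ _ ?_
          · refine mem_cent.2 ?_
            rintro _ ⟨m, hm, rfl⟩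
            exact (congrArg Units.val (hc' a ha m hm)).symm
          · refine mem_cent.2 ?_
            rintro _ ⟨m, hm, rfl⟩
            exact (congrArg Units.val (hc' b hb m hm)).symm
        intro m hm
        have : MulAut.conj (h' : GL (Fin n) F) m ∈ cj h' := ⟨m, hm, rfl⟩
        rw [hbot, Subgroup.mem_bot, map_eq_one_iff _ (MulAut.conj (h' : GL (Fin n) F)).injective] at this
        rw [this]
        exact one_mem _
      · exact hMns ((hcomm M hM hMperf h).le.trans bot_le)
  refine ⟨P, hP, habs, hperf, ?_, ?_, fun h hh hc => ?_⟩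
  · haveI : Nontrivial (P ⧸ (scalars (Fin n) F).subgroupOf P) := by
      obtain ⟨z, hz, hzs⟩ := SetLike.not_le_iff_exists.1 hns
      refine ⟨⟨QuotientGroup.mk (⟨z, hz⟩ : P), 1, fun e => hzs ?_⟩⟩
      exact Subgroup.mem_subgroupOf.1 ((QuotientGroup.eq_one_iff (⟨z, hz⟩ : P)).1 e)
    refine ⟨fun Nq hNq => ?_⟩
    let K : Subgroup (GL (Fin n) F) := (Nq.comap (QuotientGroup.mk' _)).map P.subtype
    have hK : Nml P K := by
      refine ⟨Subgroup.map_subtype_le _, ?_⟩
      rintro g hg _ ⟨k, hk, rfl⟩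
      exact ⟨_, (hNq.comap _).conj_mem k hk ⟨g, hg⟩, rfl⟩
    by_cases hKs : K ≤ scalars (Fin n) F
    · left
      rw [eq_bot_iff]
      intro z hz
      obtain ⟨z, rfl⟩ := QuotientGroup.mk_surjective z
      exact (QuotientGroup.eq_one_iff _).2 (hKs ⟨z, hz, rfl⟩)
    · right
      have hKP : K = P := by
        have hKle := hMmin K ⟨hK, hKs⟩
        rw [hMP] at hKle
        exact eq_of_le_of_not_lt hK.le hKle
      rw [eq_top_iff]
      intro z _
      obtain ⟨z, rfl⟩ := QuotientGroup.mk_surjective z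
      obtain ⟨k, hk, e⟩ := (hKP.symm ▸ z.2 : (z : GL (Fin n) F) ∈ K)
      rwa [Subtype.ext e] at hk
  · intro hcq
    apply hns
    rw [← hperf, Subgroup.commutator_le]
    intro a ha b hb
    have := hcq.is_comm.comm (QuotientGroup.mk (⟨a, ha⟩ : P)) (QuotientGroup.mk (⟨b, hb⟩ : P))
    rw [← QuotientGroup.mk_mul, ← QuotientGroup.mk_mul, eq_comm, QuotientGroup.eq,
      Subgroup.mem_subgroupOf] at this
    simp only [Subgroup.coe_mul, Subgroup.coe_inv, _root_.mul_inv_rev] at this
    have h2 := (inferInstance : (scalars (Fin n) F).Normal).conj_mem _ this (b * a)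
    simpa [commutatorElement_def, mul_assoc] using h2
  · exact scalar_of_comm habs (comm_of_perfect hperf hc)

/-- Irreducible subgroups of `SL(n, q)`, `n` an odd prime. -/
theorem structure_cases [Finite F] (hn : n.Prime) (hn2 : n ≠ 2) {H : Subgroup (GL (Fin n) F)}
    (hH : H ≤ specialLinear (Fin n) F) (hirr : ActsIrreducibly (matrixSet H)) :
    EigenCase H ∨ FieldCase H ∨ HeisCase H ∨ PerfectCase H := by
  classical
  haveI : Nonempty (Fin n) := ⟨⟨0, hn.pos⟩⟩
  haveI : Finite (GL (Fin n) F) := Finite.of_injective _ Units.val_injective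
  by_cases hE : EigenCase H
  · exact Or.inl hE
  by_cases hF : FieldCase H
  · exact Or.inr (Or.inl hF)
  refine Or.inr (Or.inr ?_)
  have hall : ∀ K, Nml H K → K ≤ scalars (Fin n) F ∨ ActsAbsolutelyIrreducibly (matrixSet K) := by
    intro K hK
    rcases clifford hn hirr hK with h | h | h | h
    · exact Or.inl h
    · exact Or.inr h
    · exact absurd h hE
    · exact absurd h hF
  have hHns : ¬ H ≤ scalars (Fin n) F := by
    intro hs
    let v : Fin n → F := Pi.single ⟨0, hn.pos⟩ 1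
    rcases irreducible_iff.1 hirr (Submodule.span F {v}) (by
      rintro _ ⟨g, hg, rfl⟩ w hw
      obtain ⟨u, rfl⟩ := eq_sc_of_mem_scalars (hs hg)
      show ((sc u : GL (Fin n) F) : Matrix (Fin n) (Fin n) F) *ᵥ w ∈ _
      rw [sc_mulVec]
      exact Submodule.smul_mem _ _ hw) with h | h
    · exact (show v ≠ 0 by simp [v]) ((Submodule.span_singleton_eq_bot).1 h)
    · have h1 : Module.finrank F (Submodule.span F {v}) ≤ 1 := by
        simpa using finrank_span_le_card ({v} : Set (Fin n → F))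
      rw [h, finrank_top, Module.finrank_fin_fun] at h1
      exact absurd h1 (by have := hn.two_le; omega)
  obtain ⟨N, ⟨hN, hNns⟩, hmin⟩ := (wellFounded_lt (α := Subgroup (GL (Fin n) F))).has_min
    {K | Nml H K ∧ ¬ K ≤ scalars (Fin n) F}
    ⟨H, ⟨le_rfl, fun h hh x hx => mul_mem (mul_mem hh hx) (inv_mem hh)⟩, hHns⟩
  have habs := (hall N hN).resolve_left hNns
  have hmin' : ∀ K, Nml H K → K ≤ N → K ≤ scalars (Fin n) F ∨ K = N := fun K hK hle => by
    by_cases hs : K ≤ scalars (Fin n) F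
    · exact Or.inl hs
    · exact Or.inr (eq_of_le_of_not_lt hle fun hlt => hmin K ⟨hK, hs⟩ hlt)
  have hD : Nml H ⁅N, N⁆ ∧ ⁅N, N⁆ ≤ N := by
    have hle : ⁅N, N⁆ ≤ N := Subgroup.commutator_le.2 fun a ha b hb =>
      mul_mem (mul_mem (mul_mem ha hb) (inv_mem ha)) (inv_mem hb)
    refine ⟨⟨hle.trans hN.le, fun g hg x hx => ?_⟩, hle⟩
    have : (⁅N, N⁆).map (MulAut.conj g).toMonoidHom ≤ ⁅N, N⁆ := by
      rw [Subgroup.map_commutator]
      exact Subgroup.commutator_mono (by rintro _ ⟨m, hm, rfl⟩; exact hN.conj g hg m hm)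
        (by rintro _ ⟨m, hm, rfl⟩; exact hN.conj g hg m hm)
    exact this ⟨x, hx, rfl⟩
  rcases hmin' _ hD.1 hD.2 with h | h
  · exact Or.inl (heis_of_class_two hn hn2 hH hN habs (fun K hK _ => hall K hK) hNns h)
  · exact Or.inr (perfect_case hn hN habs hNns hmin' h hirr
      ((hall H ⟨le_rfl, fun g hg x hx => mul_mem (mul_mem hg hx) (inv_mem hg)⟩).resolve_left hHns))

end CfsgLib.PrimeDim
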