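import Mathlib
import Cfsg.Agent.Lib.Classical.Transvection

set_option autoImplicit false
set_option linter.unusedSectionVars false

/-!
Rank one perturbations and monomial elements of `SL(ι, F)`.
-/

namespace CfsgLib.Classical.SLMon

open Matrix
open scoped MatrixGroups

variable {ι F : Type*} [Fintype ι] [DecidableEq ι] [Field F]

/-- `1 + u φ`. -/
def R (u φ : ι → F) : Matrix ι ι F := 1 + vecMulVec u φ

theorem R_mul (u φ v ψ : ι → F) :
    R u φ * R v ψ = 1 + (vecMulVec u φ + vecMulVec v ψ + vecMulVec ((φ ⬝ᵥ v) • u) ψ) := by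
  simp only [R, add_mul, mul_add, one_mul, mul_one, vecMulVec_mul_vecMulVec]
  rw [show vecMulVec u ((φ ⬝ᵥ v) • ψ) = vecMulVec ((φ ⬝ᵥ v) • u) ψ by
    ext; simp [vecMulVec_apply]; ring]
  abel

theorem R_mul_same_right (u v φ : ι → F) :
    R u φ * R v φ = R (u + v + (φ ⬝ᵥ v) • u) φ := by
  rw [R_mul, R]
  ext k l
  simp [vecMulVec_apply, Matrix.add_apply]
  ring

theorem R_mul_same_left (u φ ψ : ι → F) (h : φ ⬝ᵥ u = 0) : R u φ * R u ψ = R u (φ + ψ) := by
  rw [R_mul, h, zero_smul, R]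
  ext k l
  simp [vecMulVec_apply, Matrix.add_apply]
  ring

theorem R_mulVec (u φ v : ι → F) : R u φ *ᵥ v = v + (φ ⬝ᵥ v) • u := by
  rw [R, add_mulVec, one_mulVec, vecMulVec_mulVec]
  simp

theorem vecMul_R (ψ u φ : ι → F) : ψ ᵥ* R u φ = ψ + (ψ ⬝ᵥ u) • φ := by
  rw [R, vecMul_add, vecMul_one, vecMul_vecMulVec]

theorem R_zero_left (φ : ι → F) : R (0 : ι → F) φ = 1 := by simp [R]

theorem R_zero_right (u : ι → F) : R u (0 : ι → F) = 1 := by simp [R]

theorem R_smul (u φ : ι → F) (c : F) : R (c • u) φ = R u (c • φ) := by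
  simp [R, smul_vecMulVec, vecMulVec_smul]

theorem conj_R {A B : Matrix ι ι F} (h : A * B = 1) (u φ : ι → F) :
    A * R u φ * B = R (A *ᵥ u) (φ ᵥ* B) := by
  rw [R, mul_add, mul_one, add_mul, h, Matrix.mul_vecMulVec, Matrix.vecMulVec_mul, R]

theorem R_transpose (u φ : ι → F) : (R u φ)ᵀ = R φ u := by
  ext k l; simp [R, vecMulVec_apply, Matrix.one_apply, eq_comm, mul_comm]

theorem det_R (u φ : ι → F) : (R u φ).det = 1 + φ ⬝ᵥ u := by
  rw [R, vecMulVec_eq Unit, det_one_add_replicateCol_mul_replicateRow]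

/-- The transvection `1 + u φ`. -/
def Tv (u φ : ι → F) (h : φ ⬝ᵥ u = 0) : SpecialLinearGroup ι F :=
  ⟨R u φ, by rw [det_R, h, add_zero]⟩

/-- `1 + u φ` lies in `K`. -/
def InT (K : Subgroup (SpecialLinearGroup ι F)) (u φ : ι → F) : Prop :=
  ∃ h : φ ⬝ᵥ u = 0, Tv u φ h ∈ K

theorem InT.add_right {K : Subgroup (SpecialLinearGroup ι F)} {u φ ψ : ι → F} (h1 : InT K u φ)
    (h2 : InT K u ψ) : InT K u (φ + ψ) := by
  obtain ⟨a, ha⟩ := h1
  obtain ⟨b, hb⟩ := h2
  refine ⟨by rw [add_dotProduct, a, b, add_zero], ?_⟩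
  convert K.mul_mem ha hb using 1
  exact Subtype.ext (R_mul_same_left u φ ψ a).symm

theorem InT.add_left {K : Subgroup (SpecialLinearGroup ι F)} {u v φ : ι → F} (h1 : InT K u φ)
    (h2 : InT K v φ) : InT K (u + v) φ := by
  obtain ⟨a, ha⟩ := h1
  obtain ⟨b, hb⟩ := h2
  refine ⟨by rw [dotProduct_add, a, b, add_zero], ?_⟩
  convert K.mul_mem ha hb using 1
  refine Subtype.ext ?_
  show R (u + v) φ = R u φ * R v φ
  rw [R_mul_same_right, b, zero_smul, add_zero]

theorem InT.swap_smul {K : Subgroup (SpecialLinearGroup ι F)} {u φ : ι → F} {c : F}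
    (h : InT K u (c • φ)) (hc : c ≠ 0) : InT K (c • u) φ := by
  obtain ⟨a, ha⟩ := h
  rw [smul_dotProduct, smul_eq_mul, mul_eq_zero] at a
  refine ⟨by rw [dotProduct_smul, a.resolve_left hc, smul_zero], ?_⟩
  convert ha using 1
  exact Subtype.ext (R_smul u φ c)

theorem InT.conj {K : Subgroup (SpecialLinearGroup ι F)} {u φ : ι → F} (h1 : InT K u φ)
    {s : SpecialLinearGroup ι F} (hs : s ∈ K) :
    InT K (s.1 *ᵥ u) (φ ᵥ* (s⁻¹).1) := by
  obtain ⟨a, ha⟩ := h1
  have e : s.1 * (s⁻¹).1 = 1 := congrArg Subtype.val (mul_inv_cancel s)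
  have e' : (s⁻¹).1 * s.1 = 1 := congrArg Subtype.val (inv_mul_cancel s)
  refine ⟨by rw [← dotProduct_mulVec, mulVec_mulVec, e', one_mulVec, a], ?_⟩
  convert K.mul_mem (K.mul_mem hs ha) (K.inv_mem hs) using 1
  exact Subtype.ext (conj_R e u φ).symm

theorem inv_Tv {u φ : ι → F} (h : φ ⬝ᵥ u = 0) :
    ((Tv u φ h)⁻¹).1 = R u (-φ) := by
  have e : (Tv u φ h)⁻¹ = Tv u (-φ) (by rw [neg_dotProduct, h, neg_zero]) := by
    refine inv_eq_of_mul_eq_one_right (Subtype.ext ?_)
    show R u φ * R u (-φ) = 1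
    rw [R_mul_same_left u φ _ h, add_neg_cancel, R_zero_right]
  rw [e]; rfl

/-- The monomial matrix with `d l` at `(τ l, l)`. -/
def pmat (τ : Equiv.Perm ι) (d : ι → F) : Matrix ι ι F :=
  fun k l => if k = τ l then d l else 0

theorem pmat_apply (τ : Equiv.Perm ι) (d : ι → F) (k l : ι) :
    pmat τ d k l = if k = τ l then d l else 0 := rfl

theorem pmat_mulVec (τ : Equiv.Perm ι) (d v : ι → F) :
    pmat τ d *ᵥ v = fun k => d (τ.symm k) * v (τ.symm k) := by
  funext k
  simp only [mulVec, dotProduct, pmat, ite_mul, zero_mul]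
  rw [Finset.sum_eq_single (τ.symm k)]
  · simp
  · intro b _ hb
    rw [if_neg]
    rintro rfl
    simp at hb
  · simp

theorem vecMul_pmat (τ : Equiv.Perm ι) (d v : ι → F) :
    v ᵥ* pmat τ d = fun l => v (τ l) * d l := by
  funext l
  simp [vecMul, dotProduct, pmat, mul_ite]

theorem pmat_mul (σ τ : Equiv.Perm ι) (c d : ι → F) :
    pmat σ c * pmat τ d = pmat (σ * τ) (fun l => c (τ l) * d l) := by
  ext k l
  simp only [Matrix.mul_apply, pmat, mul_ite, ite_mul, mul_zero, zero_mul]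
  rw [Finset.sum_eq_single (τ l)]
  · by_cases h : k = σ (τ l) <;> simp [h, Equiv.Perm.mul_apply]
  · intro b _ hb; simp [hb]
  · simp

theorem pmat_one : pmat (1 : Equiv.Perm ι) (fun _ => (1 : F)) = 1 := by
  ext k l; by_cases h : k = l <;> simp [pmat, h, Matrix.one_apply]

theorem pmat_diag (d : ι → F) : pmat (1 : Equiv.Perm ι) d = diagonal d := by
  ext k l
  rcases eq_or_ne k l with rfl | h
  · simp [pmat]
  · simp [pmat, h]

theorem det_pmat (τ : Equiv.Perm ι) (d : ι → F) :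
    (pmat τ d).det = (Equiv.Perm.sign τ : ℤ) * ∏ i, d i := by
  have e : pmat τ d = pmat τ (fun _ => (1 : F)) * diagonal d := by
    rw [← pmat_diag, pmat_mul]; simp
  have e2 : pmat τ (fun _ => (1 : F)) = Equiv.Perm.permMatrix F τ.symm := by
    ext k l
    simp only [pmat, Equiv.Perm.permMatrix, PEquiv.toMatrix_apply]
    by_cases h : k = τ l
    · subst h; rw [if_pos rfl, if_pos]; simp
    · rw [if_neg h, if_neg]
      intro hh
      apply h
      simp at hh
      rw [← hh]; simp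
  rw [e, det_mul, det_diagonal, e2]
  rw [Matrix.det_permutation, Equiv.Perm.sign_symm]

/-- There is a monomial element of `SL` for every permutation, trivial away from one place. -/
theorem exists_pmat_SL (τ : Equiv.Perm ι) (o : ι) :
    ∃ s : SpecialLinearGroup ι F, ∃ d : ι → F, s.1 = pmat τ d ∧ (∀ l, l ≠ o → d l = 1) ∧
      ∀ l, d l ≠ 0 := by
  let σ : F := ((Equiv.Perm.sign τ : ℤ) : F)
  have hσ : σ * σ = 1 := by
    rcases Int.units_eq_one_or (Equiv.Perm.sign τ) with h | h <;> simp [σ, h]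
  let d : ι → F := Function.update (fun _ => 1) o σ
  refine ⟨⟨pmat τ d, ?_⟩, d, rfl, fun l hl => Function.update_of_ne hl _ _, fun l => ?_⟩
  · rw [det_pmat, Finset.prod_update_of_mem (Finset.mem_univ o)]
    simp [σ] at hσ ⊢
    exact hσ
  · by_cases e : l = o
    · subst e; simp only [d, Function.update_self]; exact fun h => by simp [h] at hσ
    · simp [d, e]

theorem InT.smul_root {K : Subgroup (SpecialLinearGroup ι F)} {a b : ι} {c : F}
    (h : InT K (Pi.single a 1) (c • Pi.single b 1)) (hab : a ≠ b) :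
    SpecialLinearGroup.transvection hab c ∈ K := by
  obtain ⟨_, hm⟩ := h
  convert hm using 1
  refine Subtype.ext ?_
  rw [SpecialLinearGroup.transvection_coe]
  ext k l
  simp only [Tv, R, Matrix.transvection, vecMulVec_apply, Matrix.add_apply, Pi.smul_apply,
    Pi.single_apply, Matrix.single_apply, smul_eq_mul]
  by_cases hk : k = a <;> by_cases hl : l = b <;> simp [hk, hl, Ne.symm]

end CfsgLib.Classical.SLMon
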