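import Cfsg.Agent.Lib.Classical.LinearSubfield
import Cfsg.Agent.Lib.Classical.SLMonomial
import Cfsg.Agent.Lib.Classical.SympFitting
import Cfsg.Agent.Lib.Classical.PrimeDimStructure

set_option autoImplicit false
set_option linter.unusedSectionVars false

/-!
Normalisers of absolutely irreducible groups that are realised over a subfield or fix a form.
-/

namespace CfsgLib.PrimeDim

open Matrix
open Cfsg.Geo (matrixSet scalars specialLinear ActsIrreducibly ActsAbsolutelyIrreducibly)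
open CfsgLib.Classical.MinIndex.Subfield (mem_subfield_one)
open scoped MatrixGroups

variable {F : Type*} [Field F] {n : ℕ}

/-- A proper subfield lies in one of prime index, the fixed field of an automorphism. -/
theorem exists_maximal_subfield [Fintype F] {F₀ : Subfield F} (h : F₀ ≠ ⊤) :
    ∃ (F₁ : Subfield F) (r : ℕ) (σ : F ≃+* F), r.Prime ∧ F₀ ≤ F₁ ∧ F₁ ≠ ⊤ ∧
      Fintype.card F = Nat.card F₁ ^ r ∧ ∀ x, σ x = x ↔ x ∈ F₁ := by
  classical
  haveI : Finite F₀ := Finite.of_injective _ Subtype.val_injective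
  haveI : FiniteDimensional F₀ F := Module.Finite.of_finite
  haveI : IsGalois F₀ F := inferInstance
  have hne : Nat.card (F ≃ₐ[F₀] F) ≠ 1 := by
    rw [IsGalois.card_aut_eq_finrank]
    intro h1
    apply h
    refine eq_top_iff.2 fun x _ => ?_
    obtain ⟨c, hc⟩ := (finrank_eq_one_iff_of_nonzero' (1 : F) one_ne_zero).1 h1 x
    have : (c : F) * 1 = x := hc
    rw [mul_one] at this
    exact this ▸ c.2
  obtain ⟨r, hr, hdvd⟩ := Nat.exists_prime_and_dvd hne
  haveI : Fact r.Prime := ⟨hr⟩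
  obtain ⟨σ, hσ⟩ := exists_prime_orderOf_dvd_card' r hdvd
  let E := IntermediateField.fixedField (Subgroup.zpowers σ)
  haveI : Finite E := Finite.of_injective _ Subtype.val_injective
  have hfin : Module.finrank E F = r := by
    rw [IntermediateField.finrank_fixedField_eq_card, Nat.card_zpowers, hσ]
  have hfix : ∀ x, σ x = x ↔ x ∈ E := by
    intro x
    rw [IntermediateField.mem_fixedField_iff]
    refine ⟨fun hx f hf => ?_, fun hx => hx σ (Subgroup.mem_zpowers σ)⟩
    obtain ⟨k, rfl⟩ := hf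
    have hmem : σ ∈ MulAction.stabilizer (F ≃ₐ[F₀] F) x := hx
    exact zpow_mem hmem k
  refine ⟨E.toSubfield, r, σ.toRingEquiv, hr, fun x hx => E.algebraMap_mem ⟨x, hx⟩, fun htop => ?_, ?_,
    hfix⟩
  · refine hr.ne_one (hσ.symm.trans (orderOf_eq_one_iff.2 (AlgEquiv.ext fun x => (hfix x).2 ?_)))
    have : x ∈ E.toSubfield := htop ▸ Subfield.mem_top x
    exact this
  · rw [← Nat.card_eq_fintype_card, Module.natCard_eq_pow_finrank (K := E), hfin]
    rfl

/-- A subfield group in terms of entries. -/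
theorem mem_subfieldSubgroup {F₀ : Subfield F} [Finite F] {P g : GL (Fin n) F} :
    g ∈ Cfsg.Geo.subfieldSubgroup F₀ P ↔ ∃ c : F, c ≠ 0 ∧ ∀ i j,
      ((P⁻¹ * g * P : GL (Fin n) F) : Matrix (Fin n) (Fin n) F) i j / c ∈ F₀ := by
  have h1 : ∀ Q : GL (Fin n) F, g ∈ Cfsg.Geo.subfieldSubgroup F₀ Q ↔
      Q⁻¹ * g * Q ∈ (Matrix.GeneralLinearGroup.map (F₀.subtype : F₀ →+* F)).range ⊔ scalars (Fin n) F := by
    intro Q
    refine ⟨?_, fun h => ⟨_, h, by simp [mul_assoc]⟩⟩
    rintro ⟨x, hx, rfl⟩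
    simpa [mul_assoc] using hx
  rw [h1, ← mem_subfield_one]
  refine ⟨fun h => ⟨_, h, by simp⟩, ?_⟩
  rintro ⟨x, hx, e⟩
  simp at e
  exact e ▸ hx

/-- The normaliser of an absolutely irreducible group realised over a proper subfield lies in a subfield
group, with the data of the descent. -/
theorem subfield_data [Fintype F] {H N : Subgroup (GL (Fin n) F)} (hn : 1 ≤ n) (hN : Nml H N)
    (habs : ActsAbsolutelyIrreducibly (matrixSet N)) {F₀ : Subfield F} (hF₀ : F₀ ≠ ⊤)
    (hreal : Cfsg.Geo.RealisableOver F₀ (matrixSet N)) :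
    ∃ (F₁ : Subfield F) (r : ℕ) (P : GL (Fin n) F) (σ : F ≃+* F), r.Prime ∧ F₁ ≠ ⊤ ∧
      Fintype.card F = Nat.card F₁ ^ r ∧ (∀ x, σ x = x ↔ x ∈ F₁) ∧
      (∀ z ∈ N, ∀ i j, ((P⁻¹ * z * P : GL (Fin n) F) : Matrix (Fin n) (Fin n) F) i j ∈ F₁) ∧
      H ≤ Cfsg.Geo.subfieldSubgroup F₁ P := by
  classical
  obtain ⟨F₁, r, σ, hr, hle, hne, hcard, hfix⟩ := exists_maximal_subfield hF₀
  obtain ⟨B, hB⟩ := hreal
  refine ⟨F₁, r, B⁻¹, σ, hr, hne, hcard, hfix, fun z hz i j => hle (by simpa using hB _ ⟨z, hz, rfl⟩ i j),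
    fun h hh => mem_subfieldSubgroup.2 ?_⟩
  rw [inv_inv]
  set g : GL (Fin n) F := B * h * B⁻¹ with hg
  let gσ : GL (Fin n) F := Matrix.GeneralLinearGroup.map (σ : F →+* F) g
  have hσN : ∀ z ∈ N, Matrix.GeneralLinearGroup.map (σ : F →+* F) (B * z * B⁻¹) = B * z * B⁻¹ := by
    intro z hz
    refine Units.ext (Matrix.ext fun i j => ?_)
    show σ ((((B * z * B⁻¹ : GL (Fin n) F)) : Matrix (Fin n) (Fin n) F) i j) = _
    refine (hfix _).2 (hle ?_)
    simpa using hB _ ⟨z, hz, rfl⟩ i j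
  have hcomm : ∀ z ∈ N, (B⁻¹ * (g⁻¹ * gσ) * B) * z = z * (B⁻¹ * (g⁻¹ * gσ) * B) := by
    intro z hz
    have e : gσ * (B * z * B⁻¹) * gσ⁻¹ = g * (B * z * B⁻¹) * g⁻¹ := by
      have e1 : g * (B * z * B⁻¹) * g⁻¹ = B * (h * z * h⁻¹) * B⁻¹ := by simp [hg, mul_assoc]
      calc gσ * (B * z * B⁻¹) * gσ⁻¹
          = Matrix.GeneralLinearGroup.map (σ : F →+* F) (g * (B * z * B⁻¹) * g⁻¹) := by
            rw [map_mul, map_mul, map_inv, hσN z hz]
        _ = _ := by rw [e1, hσN _ (hN.conj h hh z hz)]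
    have e2 : gσ * (B * z * B⁻¹) = g * (B * z * B⁻¹) * g⁻¹ * gσ := mul_inv_eq_iff_eq_mul.1 e
    calc B⁻¹ * (g⁻¹ * gσ) * B * z = B⁻¹ * g⁻¹ * (gσ * (B * z * B⁻¹)) * B := by simp [mul_assoc]
      _ = B⁻¹ * g⁻¹ * (g * (B * z * B⁻¹) * g⁻¹ * gσ) * B := by rw [e2]
      _ = _ := by simp [mul_assoc]
  obtain ⟨u, hu⟩ := eq_sc_of_mem_scalars (scalar_of_comm habs hcomm)
  have hgσ : gσ = g * sc u := by
    have : g⁻¹ * gσ = sc u := by
      have e := congrArg (fun x => B * x * B⁻¹) hu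
      simp only [mul_assoc, mul_inv_cancel_left, mul_inv_cancel, mul_one] at e
      rw [e, ← mul_assoc, ← sc_comm, mul_assoc, mul_inv_cancel, mul_one]
    rw [← this, mul_inv_cancel_left]
  haveI : Nonempty (Fin n) := ⟨⟨0, hn⟩⟩
  obtain ⟨i, j, hij⟩ : ∃ i j, (g : Matrix (Fin n) (Fin n) F) i j ≠ 0 := by
    by_contra hc
    push Not at hc
    exact g.ne_zero (Matrix.ext hc)
  refine ⟨_, hij, fun k l => (hfix _).1 ?_⟩
  have he : ∀ k l, σ ((g : Matrix (Fin n) (Fin n) F) k l) = (g : Matrix (Fin n) (Fin n) F) k l * u := by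
    intro k l
    have := congrArg (fun x : GL (Fin n) F => (x : Matrix (Fin n) (Fin n) F) k l) hgσ
    rw [← sc_comm] at this
    simpa [gσ, sc_val, mul_comm] using this
  rw [map_div₀, he, he, mul_div_mul_right _ _ u.ne_zero]

/-- The normaliser of an absolutely irreducible group realised over a proper subfield lies in a subfield
group. -/
theorem subfield_of_realisable [Fintype F] {H N : Subgroup (GL (Fin n) F)} (hn : 1 ≤ n) (hN : Nml H N)
    (habs : ActsAbsolutelyIrreducibly (matrixSet N)) {F₀ : Subfield F} (hF₀ : F₀ ≠ ⊤)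
    (hreal : Cfsg.Geo.RealisableOver F₀ (matrixSet N)) :
    ∃ (F₁ : Subfield F) (r : ℕ) (P : GL (Fin n) F), r.Prime ∧ F₁ ≠ ⊤ ∧
      Fintype.card F = Nat.card F₁ ^ r ∧ H ≤ Cfsg.Geo.subfieldSubgroup F₁ P := by
  obtain ⟨F₁, r, P, -, hr, hne, hcard, -, -, hle⟩ := subfield_data hn hN habs hF₀ hreal
  exact ⟨F₁, r, P, hr, hne, hcard, hle⟩

/-! ### Forms -/

/-- A form linear in the first and `τ`-semilinear in the second argument. -/
structure Sesq (τ : F ≃+* F) (f : (Fin n → F) → (Fin n → F) → F) : Prop where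
  add_left : ∀ x y v, f (x + y) v = f x v + f y v
  smul_left : ∀ (c : F) (x v : Fin n → F), f (c • x) v = c * f x v
  add_right : ∀ v x y, f v (x + y) = f v x + f v y
  smul_right : ∀ (c : F) (v x : Fin n → F), f v (c • x) = τ c * f v x
  nd : Cfsg.Geo.IsNondegenerateForm f

theorem Sesq.of_unitary {σ : F ≃+* F} {f : (Fin n → F) → (Fin n → F) → F}
    (hf : Cfsg.Geo.IsUnitaryForm σ f) : Sesq σ f := by
  refine ⟨hf.add_left, hf.smul_left, fun v x y => ?_, fun c v x => ?_, hf.nondegenerate⟩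
  · rw [hf.herm, hf.add_left, map_add, ← hf.herm, ← hf.herm]
  · rw [hf.herm, hf.smul_left, map_mul, ← hf.herm]

theorem Sesq.of_bilinear {f : (Fin n → F) → (Fin n → F) → F} (hf : Cfsg.Geo.IsBilinearForm f)
    (hnd : Cfsg.Geo.IsNondegenerateForm f) : Sesq (RingEquiv.refl F) f :=
  ⟨hf.add_left, hf.smul_left, hf.add_right, hf.smul_right, hnd⟩

theorem Sesq.zero_left {τ : F ≃+* F} {f : (Fin n → F) → (Fin n → F) → F} (hf : Sesq τ f) (v) :
    f 0 v = 0 := by
  simpa using hf.smul_left 0 0 v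

theorem Sesq.sum_left {τ : F ≃+* F} {f : (Fin n → F) → (Fin n → F) → F} (hf : Sesq τ f) {ι : Type*}
    (s : Finset ι) (x : ι → Fin n → F) (v) : f (∑ i ∈ s, x i) v = ∑ i ∈ s, f (x i) v :=
  map_sum (AddMonoidHom.mk' (fun x => f x v) fun a b => hf.add_left a b v) x s

/-- An element normalising an absolutely irreducible isometry group is a similarity. -/
theorem similarity_of_fixes [Finite F] {τ : F ≃+* F} {f : (Fin n → F) → (Fin n → F) → F}
    (hf : Sesq τ f) {H N : Subgroup (GL (Fin n) F)} (hN : Nml H N)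
    (habs : ActsAbsolutelyIrreducibly (matrixSet N)) (hfix : Cfsg.Geo.FixesForm (matrixSet N) f) :
    H ≤ Cfsg.Geo.similarityGroup f := by
  classical
  intro h hh
  let A : Matrix (Fin n) (Fin n) F := h
  let Φ : (Fin n → F) → (Fin n → F) := fun w j => f (Pi.single j 1) w
  have hdec : ∀ u w, f u w = ∑ j, u j * Φ w j := by
    intro u w
    conv_lhs => rw [pi_eq_sum_univ' u]
    rw [hf.sum_left]
    exact Finset.sum_congr rfl fun j _ => hf.smul_left _ _ _
  have hinj : Function.Injective Φ := by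
    intro w w' e
    by_contra hne
    obtain ⟨⟨x, hx⟩, -⟩ := hf.nd (w - w') (sub_ne_zero.2 hne)
    apply hx
    have h2 : f x (w - w' + w') = f x (w - w') + f x w' := hf.add_right _ _ _
    rw [sub_add_cancel, hdec x w, hdec x w', e] at h2
    exact right_eq_add.1 h2
  have hext : ∀ w w', (∀ u, f u w = f u w') → w = w' := fun w w' e => hinj (funext fun j => e _)
  have hex : ∀ v, ∃ w, ∀ u, f u w = f (A *ᵥ u) (A *ᵥ v) := by
    intro v
    obtain ⟨w, hw⟩ := (Finite.injective_iff_surjective.1 hinj) fun j => f (A *ᵥ Pi.single j 1) (A *ᵥ v)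
    refine ⟨w, fun u => ?_⟩
    rw [hdec u w, hw]
    conv_rhs => rw [pi_eq_sum_univ' u, mulVec_sum, hf.sum_left]
    exact Finset.sum_congr rfl fun j _ => by rw [mulVec_smul, hf.smul_left]
  choose M hM using hex
  let L : (Fin n → F) →ₗ[F] (Fin n → F) :=
    { toFun := M
      map_add' := fun v w => hext _ _ fun u => by rw [hM, mulVec_add, hf.add_right, hf.add_right, hM, hM]
      map_smul' := fun c v => hext _ _ fun u => by
        rw [hM, mulVec_smul, hf.smul_right, RingHom.id_apply, hf.smul_right, hM] }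
  obtain ⟨c, hc⟩ := habs.2 (LinearMap.toMatrix' L) (by
    rintro _ ⟨z, hz, rfl⟩
    refine Matrix.toLin'.injective (LinearMap.ext fun v => ?_)
    rw [Matrix.toLin'_mul, Matrix.toLin'_mul, Matrix.toLin'_toMatrix']
    simp only [LinearMap.comp_apply, Matrix.toLin'_apply]
    refine hext _ _ fun u => ?_
    show f u (M ((z : Matrix (Fin n) (Fin n) F) *ᵥ v)) = f u ((z : Matrix (Fin n) (Fin n) F) *ᵥ M v)
    have h1 := hfix _ ⟨_, hN.conj h hh z hz, rfl⟩ (A *ᵥ ((↑z⁻¹ : Matrix (Fin n) (Fin n) F) *ᵥ u)) (A *ᵥ v)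
    have h2 := hfix _ ⟨z, hz, rfl⟩ ((↑z⁻¹ : Matrix (Fin n) (Fin n) F) *ᵥ u) (M v)
    simp only [Units.val_mul, mulVec_mulVec, mul_assoc, Units.inv_mul, mul_one, A] at h1
    simp only [mulVec_mulVec, ← mul_assoc, Units.mul_inv, one_mulVec] at h2
    rw [hM, h2, hM]
    simp only [mulVec_mulVec, A, ← mul_assoc] at h1 ⊢
    simpa [mul_assoc] using h1)
  rcases Nat.eq_zero_or_pos n with rfl | hn
  · exact ⟨1, fun u v => by rw [Units.val_one, one_mul, Subsingleton.elim (_ *ᵥ u) u, Subsingleton.elim (_ *ᵥ v) v]⟩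
  have hMc : ∀ v, M v = c • v := fun v => by
    have := congrArg (fun X : Matrix (Fin n) (Fin n) F => X *ᵥ v) hc
    simpa [LinearMap.toMatrix'_mulVec, smul_mulVec, L] using this
  have hc0 : τ c ≠ 0 := by
    intro e
    haveI : Nonempty (Fin n) := ⟨⟨0, hn⟩⟩
    obtain ⟨v, hv⟩ := exists_ne (0 : Fin n → F)
    obtain ⟨⟨x, hx⟩, -⟩ := hf.nd (A *ᵥ v) fun e' => hv (by
      simpa [A, inv_mulVec_cancel] using congrArg (fun w => (↑h⁻¹ : Matrix (Fin n) (Fin n) F) *ᵥ w) e')
    apply hx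
    rw [← mulVec_inv_cancel h x, ← hM, hMc, hf.smul_right, e, zero_mul]
  exact ⟨Units.mk0 _ hc0, fun u v => by
    show f (A *ᵥ u) (A *ᵥ v) = τ c * f u v
    rw [← hM, hMc, hf.smul_right]⟩

theorem two_ne_zero_of_odd [Fintype F] (hodd : Odd (Fintype.card F)) : (2 : F) ≠ 0 := by
  intro h2
  haveI : CharP F 2 := CharTwo.of_one_ne_zero_of_two_eq_zero one_ne_zero h2
  obtain ⟨k, _, hk⟩ := FiniteField.card F 2
  rw [hk] at hodd
  exact Nat.not_even_iff_odd.2 hodd ((Nat.even_pow' k.ne_zero).2 even_two)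

theorem quad_self {Q : (Fin n → F) → F} (hQ : Cfsg.Geo.IsNondegenerateQuadraticForm Q) (v : Fin n → F) :
    QuadraticMap.polar Q v v = 2 * Q v := by
  show Q (v + v) - Q v - Q v = _
  rw [← two_smul F v, hQ.smul]
  ring

theorem quad_similarity_of_fixes [Fintype F] (hodd : Odd (Fintype.card F)) {Q : (Fin n → F) → F}
    (hQ : Cfsg.Geo.IsNondegenerateQuadraticForm Q) {H N : Subgroup (GL (Fin n) F)} (hN : Nml H N)
    (habs : ActsAbsolutelyIrreducibly (matrixSet N)) (hfix : Cfsg.Geo.FixesQuadForm (matrixSet N) Q) :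
    H ≤ Cfsg.Geo.quadSimilarityGroup Q := by
  intro h hh
  obtain ⟨c, hc⟩ := similarity_of_fixes (Sesq.of_bilinear hQ.polar_bilinear hQ.nondegenerate) hN habs
    (fun s hs u v => by simp only [QuadraticMap.polar, ← mulVec_add, hfix s hs]) hh
  refine ⟨c, fun v => mul_left_cancel₀ (two_ne_zero_of_odd hodd) ?_⟩
  rw [← quad_self hQ, hc, quad_self hQ]
  ring

/-- No nondegenerate alternating form exists in odd dimension. -/
theorem no_alternating (hn : Odd n) {f : (Fin n → F) → (Fin n → F) → F}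
    (hb : Cfsg.Geo.IsBilinearForm f) (ha : ∀ v, f v v = 0)
    (hnd : Cfsg.Geo.IsNondegenerateForm f) : False := by
  let B : LinearMap.BilinForm F (Fin n → F) :=
    LinearMap.mk₂ F f hb.add_left (fun c x y => hb.smul_left c x y) hb.add_right
      (fun c x y => hb.smul_right c x y)
  obtain ⟨k, hk⟩ := CfsgLib.SympCount.even_finrank (B := B) ⟨ha, fun v hv => by
    by_contra h0
    obtain ⟨-, x, hx⟩ := hnd v h0
    exact hx (hv x)⟩
  rw [Module.finrank_fin_fun] at hk
  exact Nat.not_even_iff_odd.2 hn ⟨k, by omega⟩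

theorem odd_card_of_quad [Fintype F] (hn : Odd n) {Q : (Fin n → F) → F}
    (hQ : Cfsg.Geo.IsNondegenerateQuadraticForm Q) : Odd (Fintype.card F) := by
  by_contra hc
  rw [Nat.not_odd_iff_even] at hc
  have h2 : (2 : F) = 0 := by
    obtain ⟨p, hp⟩ := CharP.exists F
    obtain ⟨k, hpp, hk⟩ := FiniteField.card F p
    rw [hk, Nat.even_pow] at hc
    have : p = 2 := (Nat.prime_dvd_prime_iff_eq Nat.prime_two hpp).1 hc.1.two_dvd |>.symm
    subst this
    exact_mod_cast CharP.cast_eq_zero F 2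
  exact no_alternating hn hQ.polar_bilinear (fun v => by rw [quad_self hQ, h2, zero_mul]) hQ.nondegenerate

/-! ### Transvections -/

/-- A transvection in the special linear group. -/
theorem exists_transvection (u φ : Fin n → F) (h : φ ⬝ᵥ u = 0) :
    ∃ t : GL (Fin n) F, t ∈ specialLinear (Fin n) F ∧ t⁻¹.val = 1 - vecMulVec u φ ∧
      t.val = 1 + vecMulVec u φ := by
  have h0 : vecMulVec u φ * vecMulVec u φ = 0 := by
    rw [vecMulVec_mul_vecMulVec, h, zero_smul, vecMulVec_zero]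
  have hA : (1 + vecMulVec u φ) * (1 - vecMulVec u φ) = 1 := by
    rw [mul_sub, mul_one, add_mul, one_mul, h0, add_zero, add_sub_cancel_right]
  have hB : (1 - vecMulVec u φ) * (1 + vecMulVec u φ) = 1 := by
    rw [sub_mul, one_mul, mul_add, mul_one, h0, add_zero, add_sub_cancel_right]
  refine ⟨⟨_, _, hA, hB⟩, MonoidHom.mem_ker.2 (Units.ext ?_), rfl, rfl⟩
  exact (CfsgLib.Classical.SLMon.det_R u φ).trans (by rw [h, add_zero]; rfl)

theorem transvection_mulVec {t : GL (Fin n) F} {u φ : Fin n → F} (ht : t.val = 1 + vecMulVec u φ)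
    (v : Fin n → F) : (t : Matrix (Fin n) (Fin n) F) *ᵥ v = v + (φ ⬝ᵥ v) • u := by
  rw [show (t : Matrix (Fin n) (Fin n) F) = _ from ht]
  exact CfsgLib.Classical.SLMon.R_mulVec u φ v

theorem exists_ne_eigen {z : GL (Fin n) F} (hz : z ∉ scalars (Fin n) F) :
    ∃ u : Fin n → F, ∀ l : F, (z : Matrix (Fin n) (Fin n) F) *ᵥ u ≠ l • u := by
  classical
  by_contra hc
  push Not at hc
  rcases Nat.eq_zero_or_pos n with rfl | hn
  · exact hz ((Cfsg.Geo.mem_scalars_iff z).2 ⟨1, Subsingleton.elim _ _⟩)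
  haveI : Nonempty (Fin n) := ⟨⟨0, hn⟩⟩
  obtain ⟨l, hl⟩ := hc fun _ => 1
  have key : ∀ i, (z : Matrix (Fin n) (Fin n) F) *ᵥ Pi.single i 1 = l • Pi.single i 1 := by
    choose μ hμ using fun i : Fin n => hc (Pi.single i 1)
    have hdiag : ∀ j k, (z : Matrix (Fin n) (Fin n) F) j k = μ k * (Pi.single k (1 : F) : Fin n → F) j := by
      intro j k
      simpa using congrFun (hμ k) j
    intro i
    rw [hμ i]
    congr 1
    have := congrFun hl i
    rw [mulVec, dotProduct, Finset.sum_eq_single i (fun j _ hj => by rw [hdiag i j, Pi.single_eq_of_ne (Ne.symm hj), mul_zero, zero_mul])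
      (fun h => absurd (Finset.mem_univ i) h)] at this
    simpa [hdiag i i] using this
  have hm : (z : Matrix (Fin n) (Fin n) F) = l • 1 :=
    Matrix.ext_of_mulVec_single fun i => by rw [key, smul_mulVec, one_mulVec]
  exact hz ((Cfsg.Geo.mem_scalars_iff z).2 ⟨Units.mk0 l fun e => z.ne_zero (by rw [hm, e, zero_smul]), hm⟩)

/-- `SL` is not in the stabiliser of a decomposition into lines. -/
theorem not_le_decomposition (hn : 3 ≤ n) {D : Fin n → Submodule F (Fin n → F)}
    (hD : Cfsg.Geo.IsMDecomposition 1 D) :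
    ¬ specialLinear (Fin n) F ≤ Cfsg.Geo.decompositionStabilizer D := by
  classical
  intro hle
  have hd : ∀ i, ∃ v ∈ D i, v ≠ 0 := fun i => Submodule.exists_mem_ne_zero_of_ne_bot fun e => by
    have := hD.finrank_eq i
    rw [e, finrank_bot] at this
    exact zero_ne_one this
  choose v hv hv0 using hd
  have hne : (⟨0, by omega⟩ : Fin n) ≠ ⟨1, by omega⟩ := by simp
  set i₀ : Fin n := ⟨0, by omega⟩
  set i₁ : Fin n := ⟨1, by omega⟩
  have hind : v i₀ ∉ Submodule.span F {v i₁} := fun h => hv0 i₀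
    (Submodule.disjoint_def.1 (hD.indep.pairwiseDisjoint hne) _ (hv i₀)
      ((Submodule.span_le.2 (Set.singleton_subset_iff.2 (hv i₁))) h))
  obtain ⟨φ, hφ, hφ0⟩ := CfsgLib.Classical.MinIndex.exists_sep _ hind
  obtain ⟨t, ht, -, htv⟩ := exists_transvection (v i₁) φ (hφ _ (Submodule.mem_span_singleton_self _))
  obtain ⟨σ, hσ⟩ := hle ht
  have hmem : v i₀ + v i₁ ∈ D (σ i₀) := by
    rw [← hσ i₀]
    exact ⟨v i₀, hv i₀, by rw [Matrix.toLin'_apply, transvection_mulVec htv, hφ0, one_smul]⟩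
  have hsub : v i₀ + v i₁ ∈ D i₀ ⊔ D i₁ := Submodule.add_mem_sup (hv i₀) (hv i₁)
  by_cases h0 : σ i₀ = i₀
  · rw [h0] at hmem
    exact hv0 i₁ (Submodule.disjoint_def.1 (hD.indep.pairwiseDisjoint hne) _
      (by simpa using Submodule.sub_mem _ hmem (hv i₀)) (hv i₁))
  by_cases h1 : σ i₀ = i₁
  · rw [h1] at hmem
    exact hv0 i₀ (Submodule.disjoint_def.1 (hD.indep.pairwiseDisjoint hne) _ (hv i₀)
      (by simpa using Submodule.sub_mem _ hmem (hv i₁)))
  have hle2 : D i₀ ⊔ D i₁ ≤ ⨆ (j) (_ : j ≠ σ i₀), D j :=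
    sup_le (le_iSup₂_of_le i₀ (Ne.symm h0) le_rfl) (le_iSup₂_of_le i₁ (Ne.symm h1) le_rfl)
  have hz := Submodule.disjoint_def.1 (hD.indep (σ i₀)) _ hmem (hle2 hsub)
  exact hind (Submodule.mem_span_singleton.2 ⟨-1, by
    rw [neg_one_smul, eq_comm, ← add_eq_zero_iff_eq_neg]; exact hz⟩)

/-- `SL` normalises no field of degree `n`. -/
theorem not_le_normalizer (hn : 3 ≤ n) {K : Subalgebra F (Matrix (Fin n) (Fin n) F)}
    (hK : Cfsg.Geo.IsFieldSubalgebra n K) :
    ¬ specialLinear (Fin n) F ≤ Cfsg.Geo.subalgebraNormalizer K := by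
  classical
  intro hle
  haveI : Nonempty (Fin n) := ⟨⟨0, by omega⟩⟩
  set u : Fin n → F := Pi.single ⟨0, by omega⟩ 1
  set φ : Fin n → F := Pi.single ⟨1, by omega⟩ 1
  have hu0 : u ≠ 0 := Pi.single_ne_zero_iff.2 one_ne_zero
  obtain ⟨t, ht, hti, htv⟩ := exists_transvection u φ (by simp [u, φ])
  have key : ∀ k ∈ K, ∃ c : F, k = c • 1 := by
    intro k hk
    have hX : t.val * k * t⁻¹.val - k ∈ K := sub_mem ((hle ht k).1 hk) hk
    set X := t.val * k * t⁻¹.val - k
    -- its image lies in a plane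
    have himg : ∀ v, X *ᵥ v ∈ Submodule.span F ({u, k *ᵥ u} : Set (Fin n → F)) := by
      intro v
      simp only [X, htv, hti, Matrix.sub_mulVec, ← mulVec_mulVec, Matrix.add_mulVec, one_mulVec, vecMulVec_mulVec,
        op_smul_eq_smul, mulVec_sub, mulVec_smul]
      refine (Submodule.mem_span_pair).2 ?_
      exact ⟨φ ⬝ᵥ (k *ᵥ v) - (φ ⬝ᵥ (k *ᵥ u)) * (φ ⬝ᵥ v), -(φ ⬝ᵥ v), by
        module⟩
    have hX0 : X = 0 := by
      by_contra h0
      obtain ⟨Y, -, hY⟩ := hK.inv X hX h0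
      have htop : Submodule.span F ({u, k *ᵥ u} : Set (Fin n → F)) = ⊤ := eq_top_iff.2 fun v _ => by
        have := himg (Y *ᵥ v)
        rwa [mulVec_mulVec, hY, one_mulVec] at this
      have h2 := finrank_span_le_card (R := F) ({u, k *ᵥ u} : Set (Fin n → F))
      rw [htop, finrank_top, Module.finrank_fin_fun] at h2
      have : ({u, k *ᵥ u} : Set (Fin n → F)).toFinset.card ≤ 2 := by
        rw [Set.toFinset_insert, Set.toFinset_singleton]; exact Finset.card_le_two
      omega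
    have hcomm : t.val * k = k * t.val := by
      have e : t.val * k * t⁻¹.val = k := sub_eq_zero.1 hX0
      conv_rhs => rw [← e]
      rw [mul_assoc, Units.inv_mul, mul_one]
    have hv := congrArg (fun A : Matrix (Fin n) (Fin n) F => A *ᵥ φ) hcomm
    simp only [← mulVec_mulVec, transvection_mulVec htv, mulVec_add, mulVec_smul] at hv
    have h1 : φ ⬝ᵥ φ = 1 := by simp [φ]
    rw [h1, one_smul, add_right_inj] at hv
    refine ⟨φ ⬝ᵥ (k *ᵥ φ), sub_eq_zero.1 ?_⟩
    by_contra h0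
    obtain ⟨Y, hYK, hY⟩ := hK.inv _ (sub_mem hk (K.smul_mem K.one_mem _)) h0
    apply hu0
    rw [← one_mulVec u, ← hY, ← hK.comm Y hYK _ (sub_mem hk (K.smul_mem K.one_mem _)), ← mulVec_mulVec,
      sub_mulVec, smul_mulVec, one_mulVec, hv, sub_self, mulVec_zero]
  have h1 : K = ⊥ := by
    refine eq_bot_iff.2 fun k hk => ?_
    obtain ⟨c, rfl⟩ := key k hk
    exact Algebra.mem_bot.2 ⟨c, Algebra.algebraMap_eq_smul_one c⟩
  have := hK.finrank_eq
  rw [h1, Subalgebra.finrank_bot] at this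
  omega

/-- `SL` normalises no small non-scalar group. -/
theorem not_le_subgroupNormalizer [Fintype F] (hn : 2 ≤ n) {R : Subgroup (GL (Fin n) F)} {m : ℕ}
    (hR : ¬ R ≤ scalars (Fin n) F) (hcard : Nat.card R = m) (hm : m < Fintype.card F ^ (n - 1)) :
    ¬ specialLinear (Fin n) F ≤ Cfsg.Geo.subgroupNormalizer R := by
  classical
  intro hle
  haveI : Finite (GL (Fin n) F) := Finite.of_injective _ Units.val_injective
  obtain ⟨z, hz, hzs⟩ := SetLike.not_le_iff_exists.1 hR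
  obtain ⟨u, hu⟩ := exists_ne_eigen hzs
  have hu0 : u ≠ 0 := fun e => hu 0 (by rw [e, mulVec_zero, smul_zero])
  let ev : (Fin n → F) →ₗ[F] F :=
    { toFun := fun φ => φ ⬝ᵥ u
      map_add' := fun a b => add_dotProduct a b u
      map_smul' := fun c a => smul_dotProduct c a u }
  have hker : Module.finrank F (LinearMap.ker ev) = n - 1 := by
    have hrange : Module.finrank F (LinearMap.range ev) = 1 := by
      rw [LinearMap.range_eq_top.2, finrank_top, Module.finrank_self]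
      intro a
      obtain ⟨j, hj⟩ := Function.ne_iff.1 hu0
      refine ⟨Pi.single j (a / u j), ?_⟩
      show Pi.single j (a / u j) ⬝ᵥ u = a
      rw [single_dotProduct, div_mul_cancel₀ _ hj]
    have := LinearMap.finrank_range_add_finrank_ker ev
    rw [hrange, Module.finrank_fin_fun] at this
    omega
  choose t ht hti htv using fun φ : LinearMap.ker ev => exists_transvection u φ.1 φ.2
  let Ψ : LinearMap.ker ev → R := fun φ =>
    ⟨t φ * z * (t φ)⁻¹, ((Subgroup.mem_normalizer_iff.1 (hle (ht φ))) z).1 hz⟩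
  have hΨ : Function.Injective Ψ := by
    intro φ ψ e
    have e1 : t φ * z * (t φ)⁻¹ = t ψ * z * (t ψ)⁻¹ := congrArg Subtype.val e
    have e3 : ((t ψ)⁻¹ * t φ) * z = z * ((t ψ)⁻¹ * t φ) := by
      calc (t ψ)⁻¹ * t φ * z = (t ψ)⁻¹ * (t φ * z * (t φ)⁻¹) * t φ := by simp [mul_assoc]
        _ = _ := by rw [e1]; simp [mul_assoc]
    have e2 : ((t ψ)⁻¹ * t φ : GL (Fin n) F).val = 1 + vecMulVec u (φ.1 - ψ.1) := by
      rw [Units.val_mul, hti, htv, sub_mul, one_mul, mul_add, mul_one, vecMulVec_mul_vecMulVec,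
        show ψ.1 ⬝ᵥ u = 0 from ψ.2, zero_smul, vecMulVec_zero, vecMulVec_sub]
      abel
    by_contra hne
    obtain ⟨j, hj⟩ := Function.ne_iff.1 (sub_ne_zero.2 fun h => hne (Subtype.ext h))
    set v : Fin n → F := Pi.single j (1 / (φ.1 - ψ.1) j)
    have hv : (φ.1 - ψ.1) ⬝ᵥ v = 1 := by
      rw [dotProduct_single, mul_one_div_cancel hj]
    have h4 := congrArg (fun g : GL (Fin n) F => (g : Matrix (Fin n) (Fin n) F) *ᵥ v) e3
    simp only [Units.val_mul, ← mulVec_mulVec] at h4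
    rw [mulVec_mulVec _ (↑(t ψ)⁻¹ : Matrix (Fin n) (Fin n) F), mulVec_mulVec v (↑(t ψ)⁻¹ : Matrix (Fin n) (Fin n) F),
      ← Units.val_mul, transvection_mulVec e2, transvection_mulVec e2, hv, one_smul, mulVec_add,
      add_right_inj] at h4
    exact hu _ h4.symm
  have h := Nat.card_le_card_of_injective Ψ hΨ
  rw [Module.natCard_eq_pow_finrank (K := F), hker, hcard, Nat.card_eq_fintype_card] at h
  omega

/-- A similarity group containing `SL` has every vector isotropic. -/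
theorem isotropic_of_le (hn : 3 ≤ n) {τ : F ≃+* F} {f : (Fin n → F) → (Fin n → F) → F}
    (hf : Sesq τ f) (hle : specialLinear (Fin n) F ≤ Cfsg.Geo.similarityGroup f) :
    ∀ u, f u u = 0 := by
  classical
  intro u
  by_cases hu : u = 0
  · rw [hu, hf.zero_left]
  obtain ⟨a, hau⟩ : ∃ a, a ∉ Submodule.span F {u} := by
    by_contra hc
    push Not at hc
    have h1 := finrank_span_le_card (R := F) ({u} : Set (Fin n → F))
    have htop : Submodule.span F ({u} : Set (Fin n → F)) = ⊤ := eq_top_iff.2 fun v _ => hc v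
    rw [htop, finrank_top, Module.finrank_fin_fun] at h1
    simp at h1
    omega
  by_contra huu
  -- move `a` into the kernel of `f · u`
  set b := a - (f a u / f u u) • u
  have hbu : b ∉ Submodule.span F {u} := fun h => hau (by
    simpa [b] using Submodule.add_mem _ h (Submodule.smul_mem _ (f a u / f u u) (Submodule.mem_span_singleton_self u)))
  obtain ⟨φ, hφ, hφb⟩ := CfsgLib.Classical.MinIndex.exists_sep _ hbu
  obtain ⟨t, ht, -, htv⟩ := exists_transvection u φ (hφ u (Submodule.mem_span_singleton_self u))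
  obtain ⟨c, hc⟩ := hle ht
  have hb : f b u = 0 := by
    have h := hf.add_left b ((f a u / f u u) • u) u
    rw [show b + (f a u / f u u) • u = a from sub_add_cancel _ _, hf.smul_left, div_mul_cancel₀ _ huu] at h
    exact right_eq_add.1 h
  have htu : (t : Matrix (Fin n) (Fin n) F) *ᵥ u = u := by
    rw [transvection_mulVec htv, hφ u (Submodule.mem_span_singleton_self u), zero_smul, add_zero]
  have h := hc b u
  rw [htu, transvection_mulVec htv, hφb, one_smul, hb, mul_zero, hf.add_left, hb, zero_add] at h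
  exact huu h

theorem not_le_similarity_unitary (hn : 3 ≤ n) {σ : F ≃+* F} {f : (Fin n → F) → (Fin n → F) → F}
    (hf : Cfsg.Geo.IsUnitaryForm σ f) :
    ¬ specialLinear (Fin n) F ≤ Cfsg.Geo.similarityGroup f := by
  intro hle
  have hS := Sesq.of_unitary hf
  have hz := isotropic_of_le hn hS hle
  have hval : ∀ x v, f x v = -σ (f x v) := by
    intro x v
    have h := hz (x + v)
    rw [hf.add_left, hS.add_right, hS.add_right, hz, hz, zero_add, add_zero, hf.herm v x] at h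
    exact eq_neg_of_add_eq_zero_left h
  haveI : Nonempty (Fin n) := ⟨⟨0, by omega⟩⟩
  obtain ⟨v, hv⟩ := exists_ne (0 : Fin n → F)
  obtain ⟨⟨x, hx⟩, -⟩ := hf.nondegenerate v hv
  have hall : ∀ a : F, a = -σ a := fun a => by
    have := hval ((a / f x v) • x) v
    rwa [hf.smul_left, div_mul_cancel₀ _ hx] at this
  refine hf.ne_refl (RingEquiv.ext fun a => ?_)
  have h1 : (1 : F) = -1 := by simpa using hall 1
  show σ a = a
  exact ((hall a).trans (by rw [← neg_one_mul, ← h1, one_mul])).symm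

theorem not_le_quadSimilarity [Fintype F] (hn : 3 ≤ n) (hodd : Odd (Fintype.card F))
    {Q : (Fin n → F) → F} (hQ : Cfsg.Geo.IsNondegenerateQuadraticForm Q) :
    ¬ specialLinear (Fin n) F ≤ Cfsg.Geo.quadSimilarityGroup Q := by
  intro hle
  have hS := Sesq.of_bilinear hQ.polar_bilinear hQ.nondegenerate
  have hle' : specialLinear (Fin n) F ≤ Cfsg.Geo.similarityGroup (QuadraticMap.polar Q) := fun g hg => by
    obtain ⟨c, hc⟩ := hle hg
    exact ⟨c, fun u v => by simp only [QuadraticMap.polar, ← mulVec_add, hc]; ring⟩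
  have hz := isotropic_of_le hn hS hle'
  haveI : Nonempty (Fin n) := ⟨⟨0, by omega⟩⟩
  obtain ⟨v, hv⟩ := exists_ne (0 : Fin n → F)
  obtain ⟨⟨x, hx⟩, -⟩ := hQ.nondegenerate v hv
  apply hx
  have h := hz (x + v)
  rw [hS.add_left, hS.add_right, hS.add_right, hz, hz, zero_add, add_zero,
    QuadraticMap.polar_comm Q v x] at h
  rw [← two_mul] at h
  exact (mul_eq_zero.1 h).resolve_left (two_ne_zero_of_odd hodd)

/-- `SL` lies in no proper subfield group. -/
theorem not_le_subfield [Finite F] (hn : 2 ≤ n) {F₀ : Subfield F} (hF₀ : F₀ ≠ ⊤) (P : GL (Fin n) F) :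
    ¬ specialLinear (Fin n) F ≤ Cfsg.Geo.subfieldSubgroup F₀ P := by
  intro hle
  obtain ⟨a, ha⟩ : ∃ a, a ∉ F₀ := by
    by_contra hc
    push Not at hc
    exact hF₀ (eq_top_iff.2 fun x _ => hc x)
  set i : Fin n := ⟨0, by omega⟩
  set j : Fin n := ⟨1, by omega⟩
  have hij : i ≠ j := by simp [i, j]
  obtain ⟨t, ht, -, htv⟩ := exists_transvection (a • Pi.single i (1 : F)) (Pi.single j (1 : F))
    (by simp [hij])
  have hmem : P * t * P⁻¹ ∈ specialLinear (Fin n) F := (MonoidHom.normal_ker _).conj_mem t ht P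
  obtain ⟨c, hc0, hc⟩ := mem_subfieldSubgroup.1 (hle hmem)
  rw [show P⁻¹ * (P * t * P⁻¹) * P = t by simp [mul_assoc]] at hc
  have h1 := hc i i
  have h2 := hc i j
  rw [show (t : Matrix (Fin n) (Fin n) F) = _ from htv] at h1 h2
  simp [vecMulVec_apply, hij, hij.symm] at h1 h2
  refine ha ?_
  have := F₀.mul_mem h2 h1
  rwa [div_mul_cancel₀ _ hc0] at this

end CfsgLib.PrimeDim
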