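import Cfsg.Agent.Lib.Classical.PrimeDimDescent

set_option autoImplicit false
set_option linter.unusedSectionVars false

/-!
The normaliser of a cubic field in `SL(3, 4)` lies in `SL(3, 2)` times scalars.
-/

namespace CfsgLib.PrimeDim

open Matrix
open Cfsg.Geo (matrixSet scalars specialLinear IsFieldSubalgebra)
open scoped MatrixGroups

variable {F : Type*} [Field F]

/-- The invertible elements of a field of matrices. -/
def fieldUnits {n r : ℕ} {K : Subalgebra F (Matrix (Fin n) (Fin n) F)} (hK : IsFieldSubalgebra r K) :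
    Subgroup (GL (Fin n) F) where
  carrier := {g | (g : Matrix (Fin n) (Fin n) F) ∈ K}
  mul_mem' ha hb := K.mul_mem ha hb
  one_mem' := K.one_mem
  inv_mem' {a} ha := by
    rcases Nat.eq_zero_or_pos n with rfl | hn
    · rw [Set.mem_setOf_eq, show ((a⁻¹ : GL (Fin 0) F) : Matrix (Fin 0) (Fin 0) F) = 1 from Subsingleton.elim _ _]
      exact K.one_mem
    haveI : Nonempty (Fin n) := ⟨⟨0, hn⟩⟩
    obtain ⟨y, hy, e⟩ := hK.inv _ ha a.ne_zero
    rwa [Set.mem_setOf_eq, show ((a⁻¹ : GL (Fin n) F) : Matrix (Fin n) (Fin n) F) = y from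
      (Units.inv_eq_of_mul_eq_one_right e)]

theorem eq_zero_or {n r : ℕ} {K : Subalgebra F (Matrix (Fin n) (Fin n) F)} (hK : IsFieldSubalgebra r K)
    {a b : Matrix (Fin n) (Fin n) F} (ha : a ∈ K) (h : a * b = 0) : a = 0 ∨ b = 0 := by
  by_cases ha0 : a = 0
  · exact Or.inl ha0
  obtain ⟨y, hy, e⟩ := hK.inv a ha ha0
  refine Or.inr ?_
  rw [← one_mul b, ← e, hK.comm a ha y hy, mul_assoc, h, mul_zero]

/-- An element killing a nonzero vector is zero. -/
theorem eq_zero_of_mulVec {n r : ℕ} {K : Subalgebra F (Matrix (Fin n) (Fin n) F)}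
    (hK : IsFieldSubalgebra r K) {a : Matrix (Fin n) (Fin n) F} (ha : a ∈ K) {v : Fin n → F} (hv : v ≠ 0)
    (h : a *ᵥ v = 0) : a = 0 := by
  by_contra ha0
  obtain ⟨y, hy, e⟩ := hK.inv a ha ha0
  apply hv
  rw [← one_mulVec v, ← e, hK.comm a ha y hy, ← mulVec_mulVec, h, mulVec_zero]

theorem exists_subfield_two [Fintype F] (hq : Fintype.card F = 4) :
    ∃ F₀ : Subfield F, Nat.card F₀ = 2 ∧ F₀ ≠ ⊤ ∧ (∀ x ∈ F₀, x = 0 ∨ x = 1) ∧ (2 : F) = 0 := by
  classical
  have h2 : (2 : F) = 0 := by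
    have h4 : ((Fintype.card F : ℕ) : F) = 0 := Nat.cast_card_eq_zero F
    rw [hq] at h4
    push_cast at h4
    rcases mul_eq_zero.1 (show (2 : F) * 2 = 0 by rw [← h4]; norm_num) with h | h <;> exact h
  have hneg : (-1 : F) = 1 := by
    rw [neg_eq_iff_add_eq_zero, one_add_one_eq_two, h2]
  let F₀ : Subfield F :=
    { carrier := {x | x * x = x}
      mul_mem' := fun {a b} ha hb => by
        show a * b * (a * b) = a * b
        rw [mul_mul_mul_comm, show a * a = a from ha, show b * b = b from hb]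
      one_mem' := one_mul 1
      add_mem' := fun {a b} ha hb => by
        show (a + b) * (a + b) = a + b
        have ha' : a * a = a := ha
        have hb' : b * b = b := hb
        linear_combination ha' + hb' + a * b * h2
      zero_mem' := zero_mul 0
      neg_mem' := fun {a} ha => by
        show -a * -a = -a
        rw [neg_mul_neg, show a * a = a from ha, ← neg_one_mul a, hneg, one_mul]
      inv_mem' := fun a ha => by
        show a⁻¹ * a⁻¹ = a⁻¹
        rw [← mul_inv, show a * a = a from ha] }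
  have h01 : ∀ x ∈ F₀, x = 0 ∨ x = 1 := by
    intro x hx
    have hx' : x * x = x := hx
    rcases mul_eq_zero.1 (show x * (x - 1) = 0 by rw [mul_sub, hx', mul_one, sub_self]) with h | h
    · exact Or.inl h
    · exact Or.inr (sub_eq_zero.1 h)
  have hcard : Nat.card F₀ = 2 := by
    refine Nat.card_eq_two_iff.2 ⟨0, 1, zero_ne_one, Set.eq_univ_iff_forall.2 fun x => ?_⟩
    rcases h01 x.1 x.2 with h | h
    · exact Or.inl (Subtype.ext h)
    · exact Or.inr (Subtype.ext h)
  refine ⟨F₀, hcard, fun e => ?_, h01, h2⟩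
  have := hcard
  rw [e, Nat.card_congr Subfield.topEquiv.toEquiv, Nat.card_eq_fintype_card, hq] at this
  omega

theorem field_four [Fintype F] (hq : Fintype.card F = 4) {H : Subgroup (GL (Fin 3) F)}
    (hH : H ≤ specialLinear (Fin 3) F) {K : Subalgebra F (Matrix (Fin 3) (Fin 3) F)}
    (hK : IsFieldSubalgebra 3 K) (hnorm : H ≤ Cfsg.Geo.subalgebraNormalizer K) :
    ∃ (F₀ : Subfield F) (P : GL (Fin 3) F), F₀ ≠ ⊤ ∧ Fintype.card F = Nat.card F₀ ^ 2 ∧
      H ≤ Cfsg.Geo.subfieldSubgroup F₀ P := by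
  classical
  obtain ⟨F₀, hF₀, hne, h01, h2⟩ := exists_subfield_two hq
  haveI : Finite (GL (Fin 3) F) := Finite.of_injective _ Units.val_injective
  haveI : Finite K := Finite.of_injective _ Subtype.val_injective
  let U := fieldUnits hK
  have hU : ∀ g : GL (Fin 3) F, g ∈ U ↔ (g : Matrix (Fin 3) (Fin 3) F) ∈ K := fun g => Iff.rfl
  have hUc : ∀ a b : U, a * b = b * a := fun a b =>
    Subtype.ext (Units.ext (hK.comm _ a.2 _ b.2))
  have hKcard : Nat.card K = 64 := by
    rw [Module.natCard_eq_pow_finrank (K := F), hK.finrank_eq, Nat.card_eq_fintype_card, hq]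
    norm_num
  have hUcard : Nat.card U = 63 := by
    haveI := Fintype.ofFinite K
    have e : Nat.card U = Nat.card {k : K // k ≠ 0} := by
      refine Nat.card_eq_of_bijective
        (fun g => ⟨⟨_, g.2⟩, fun h => (g : GL (Fin 3) F).ne_zero (congrArg Subtype.val h)⟩) ⟨?_, ?_⟩
      · intro a b h
        exact Subtype.ext (Units.ext (congrArg (fun z : {k : K // k ≠ 0} => (z : K).1) h))
      · rintro ⟨⟨k, hk⟩, hk0⟩
        obtain ⟨y, hy, e⟩ := hK.inv k hk fun h => hk0 (Subtype.ext h)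
        exact ⟨⟨⟨k, y, e, (hK.comm y hy k hk).trans e⟩, hk⟩, rfl⟩
    rw [e, Nat.card_eq_fintype_card, Fintype.card_subtype_compl, Fintype.card_subtype_eq,
      ← Nat.card_eq_fintype_card, hKcard]
  haveI : Fact (Nat.Prime 7) := ⟨by norm_num⟩
  obtain ⟨x₁, hx₁⟩ := exists_prime_orderOf_dvd_card' (G := U) 7 (by rw [hUcard]; norm_num)
  let x : GL (Fin 3) F := x₁
  let X : Matrix (Fin 3) (Fin 3) F := x
  have hXK : X ∈ K := x₁.2
  have hx7 : X ^ 7 = 1 := by
    have := congrArg (fun g : U => ((g : GL (Fin 3) F) : Matrix (Fin 3) (Fin 3) F)) (pow_orderOf_eq_one x₁)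
    rw [hx₁] at this
    simpa [X, x] using this
  have hXs : ∀ c : F, X ≠ c • 1 := by
    intro c e
    have hc0 : c ≠ 0 := fun h => (x : GL (Fin 3) F).ne_zero (show X = 0 by rw [e, h, zero_smul])
    have h3 : X ^ 3 = 1 := by
      have := FiniteField.pow_card_sub_one_eq_one c hc0
      rw [hq] at this
      rw [e, smul_pow, one_pow, this, one_smul]
    have h1 : X = 1 := by
      have : X ^ 7 = X := by rw [show (7 : ℕ) = 3 + 3 + 1 from rfl, pow_add, pow_add, h3, one_mul, one_mul, pow_one]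
      rw [← this, hx7]
    have : orderOf x₁ = 1 := orderOf_eq_one_iff.2 (Subtype.ext (Units.ext h1))
    omega
  have h22 : ∀ M : Matrix (Fin 3) (Fin 3) F, M + M = 0 := fun M => by rw [← two_smul F M, h2, zero_smul]
  have hneg : ∀ M : Matrix (Fin 3) (Fin 3) F, -M = M := fun M => neg_eq_of_add_eq_zero_left (h22 M)
  -- the cubic
  obtain ⟨a₁, a₂, ha, hX3⟩ : ∃ a₁ a₂ : F, ((a₁ = 1 ∧ a₂ = 0) ∨ (a₁ = 0 ∧ a₂ = 1)) ∧
      X ^ 3 = 1 + a₁ • X + a₂ • X ^ 2 := by
    have hprod : (X ^ 3 + X + 1) * ((X ^ 3 + X ^ 2 + 1) * (X - 1)) = 0 := by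
      have : (X ^ 3 + X + 1) * ((X ^ 3 + X ^ 2 + 1) * (X - 1)) =
          X ^ 7 - 1 + ((X ^ 4 - X ^ 3) + (X ^ 4 - X ^ 3)) := by noncomm_ring
      rw [this, hx7, sub_self, h22, add_zero]
    rcases eq_zero_or hK (K.add_mem (K.add_mem (pow_mem hXK 3) hXK) K.one_mem) hprod with h | h
    · refine ⟨1, 0, Or.inl ⟨rfl, rfl⟩, ?_⟩
      rw [one_smul, zero_smul, add_zero, ← hneg (1 + X), eq_neg_iff_add_eq_zero, ← h]
      abel
    rcases eq_zero_or hK (K.add_mem (K.add_mem (pow_mem hXK 3) (pow_mem hXK 2)) K.one_mem) h with h | h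
    · refine ⟨0, 1, Or.inr ⟨rfl, rfl⟩, ?_⟩
      rw [one_smul, zero_smul, add_zero, ← hneg (1 + X ^ 2), eq_neg_iff_add_eq_zero, ← h]
      abel
    · exact absurd (sub_eq_zero.1 h) fun e => hXs 1 (by rw [one_smul]; exact e)
  have hlow : ∀ α β : F, X ^ 2 ≠ α • X + β • 1 := by
    intro α β e
    have h3 : X ^ 3 = (α * α + β) • X + (α * β) • 1 := by
      rw [pow_succ, e, add_mul, smul_mul, ← pow_two, e, smul_add, smul_smul, smul_smul, smul_mul, one_mul]
      module
    have h4 : (α * α + β - a₁ - a₂ * α) • X + (α * β - 1 - a₂ * β) • (1 : Matrix (Fin 3) (Fin 3) F) = 0 := by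
      have h5 := hX3.symm.trans h3
      rw [e] at h5
      linear_combination (norm := module) -h5
    by_cases hc : α * α + β - a₁ - a₂ * α = 0
    · rw [hc, zero_smul, zero_add] at h4
      have hd : α * β - 1 - a₂ * β = 0 := by
        have := congrFun (congrFun h4 0) 0
        simpa using this
      have hα : α = 0 ∨ α ^ 3 = 1 := by
        by_cases h : α = 0
        · exact Or.inl h
        · refine Or.inr ?_
          have := FiniteField.pow_card_sub_one_eq_one α h
          rwa [hq] at this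
      rcases ha with ⟨rfl, rfl⟩ | ⟨rfl, rfl⟩
      · rcases hα with rfl | hα
        · exact one_ne_zero (by linear_combination -hd : (1 : F) = 0)
        · have hz : α = 0 := by linear_combination -α * hc + hd + hα + h2
          rw [hz] at hα
          exact zero_ne_one (α := F) (by simpa using hα)
      · rcases hα with rfl | hα
        · have hb : β = 0 := by linear_combination hc
          exact one_ne_zero (by rw [hb] at hd; linear_combination -hd : (1 : F) = 0)
        · have hz : α = 0 := by linear_combination (α - 1) * hc - hd - hα + (α * α - 1) * h2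
          rw [hz] at hα
          exact zero_ne_one (α := F) (by simpa using hα)
    · refine hXs (-(α * β - 1 - a₂ * β) / (α * α + β - a₁ - a₂ * α)) ?_
      rw [add_eq_zero_iff_eq_neg, ← neg_smul] at h4
      have h6 := congrArg (fun M => (α * α + β - a₁ - a₂ * α)⁻¹ • M) h4
      simp only [smul_smul, inv_mul_cancel₀ hc, one_smul] at h6
      rw [h6, div_eq_inv_mul]
  -- the rational basis
  let v : Fin 3 → F := Pi.single 0 1
  have hv : v ≠ 0 := Pi.single_ne_zero_iff.2 one_ne_zero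
  let P₀ : Matrix (Fin 3) (Fin 3) F := Matrix.of fun i j => (X ^ (j : ℕ) *ᵥ v) i
  have hP₀ : ∀ r : Fin 3 → F, P₀ *ᵥ r = (r 0 • (1 : Matrix (Fin 3) (Fin 3) F) + r 1 • X + r 2 • X ^ 2) *ᵥ v := by
    intro r
    funext i
    simp [P₀, mulVec, dotProduct, Fin.sum_univ_three, add_mulVec, smul_mulVec, mul_add, add_mul]
    ring
  have hP₀u : IsUnit P₀ := by
    refine Matrix.mulVec_injective_iff_isUnit.1 ((injective_iff_map_eq_zero (Matrix.mulVecLin P₀)).2 fun r hr => ?_)
    rw [Matrix.mulVecLin_apply, hP₀] at hr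
    have h0 := eq_zero_of_mulVec hK (K.add_mem (K.add_mem (K.smul_mem K.one_mem _) (K.smul_mem hXK _))
      (K.smul_mem (pow_mem hXK 2) _)) hv hr
    have hr2 : r 2 = 0 := by
      by_contra h
      refine hlow (-(r 1) / r 2) (-(r 0) / r 2) ?_
      have h6 := congrArg (fun M => (r 2)⁻¹ • M) h0
      simp only [smul_add, smul_smul, inv_mul_cancel₀ h, one_smul, smul_zero] at h6
      rw [div_eq_inv_mul, div_eq_inv_mul, mul_neg, mul_neg]
      linear_combination (norm := module) h6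
    rw [hr2, zero_smul, add_zero] at h0
    have hr1 : r 1 = 0 := by
      by_contra h
      refine hXs (-(r 0) / r 1) ?_
      have h6 := congrArg (fun M => (r 1)⁻¹ • M) h0
      simp only [smul_add, smul_smul, inv_mul_cancel₀ h, one_smul, smul_zero] at h6
      rw [div_eq_inv_mul, mul_neg]
      linear_combination (norm := module) h6
    rw [hr1, zero_smul, add_zero] at h0
    have hr0 : r 0 = 0 := by
      have := congrFun (congrFun h0 0) 0
      simpa using this
    funext i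
    fin_cases i <;> assumption
  obtain ⟨P, hP⟩ := hP₀u
  -- rational coordinates of the powers
  let C : Matrix (Fin 3) (Fin 3) F := !![0, 0, 1; 1, 0, a₁; 0, 1, a₂]
  have ha' : a₁ ∈ F₀ ∧ a₂ ∈ F₀ := by
    rcases ha with ⟨rfl, rfl⟩ | ⟨rfl, rfl⟩
    · exact ⟨F₀.one_mem, F₀.zero_mem⟩
    · exact ⟨F₀.zero_mem, F₀.one_mem⟩
  have hC : ∀ i j, C i j ∈ F₀ := by
    intro i j
    fin_cases i <;> fin_cases j <;> first | exact F₀.zero_mem | exact F₀.one_mem | exact ha'.1 | exact ha'.2
  have hXP : ∀ r, X *ᵥ (P₀ *ᵥ r) = P₀ *ᵥ (C *ᵥ r) := by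
    intro r
    rw [hP₀, hP₀, mulVec_mulVec]
    refine congrArg (· *ᵥ v) ?_
    simp [C, mulVec, dotProduct, Fin.sum_univ_three, mul_add, ← pow_two, ← pow_succ', hX3]
    module
  have hpow : ∀ m : ℕ, ∃ r : Fin 3 → F, (∀ i, r i ∈ F₀) ∧ X ^ m *ᵥ v = P₀ *ᵥ r := by
    intro m
    induction m with
    | zero =>
      refine ⟨Pi.single 0 1, fun i => ?_, by rw [hP₀]; simp⟩
      fin_cases i <;> simp [F₀.zero_mem, F₀.one_mem]
    | succ m ih =>
      obtain ⟨r, hr, e⟩ := ih
      refine ⟨C *ᵥ r, fun i => (show ∑ j, C i j * r j ∈ F₀ from sum_mem fun j _ => F₀.mul_mem (hC i j) (hr j)), ?_⟩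
      rw [pow_succ', ← mulVec_mulVec, e, hXP]
  have hXC : X * P₀ = P₀ * C := Matrix.ext_of_mulVec_single fun i => by
    rw [← mulVec_mulVec, ← mulVec_mulVec, hXP]
  -- the order seven part
  let S : Subgroup U := Subgroup.zpowers x₁
  haveI : S.Normal := ⟨fun a ha g => by rwa [hUc g a, mul_inv_cancel_right]⟩
  have hseven : ∀ y : U, y ^ 7 = 1 → ∃ m : ℕ, x₁ ^ m = y := by
    intro y hy
    have hidx : Nat.card (U ⧸ S) = 9 := by
      have := S.card_eq_card_quotient_mul_card_subgroup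
      rw [hUcard, Nat.card_zpowers, hx₁] at this
      omega
    have h1 : (QuotientGroup.mk y : U ⧸ S) ^ 7 = 1 := by rw [← QuotientGroup.mk_pow, hy]; rfl
    have h2' : (QuotientGroup.mk y : U ⧸ S) ^ 9 = 1 := hidx ▸ pow_card_eq_one'
    have h3 : (QuotientGroup.mk y : U ⧸ S) = 1 := by
      simpa using pow_gcd_eq_one.2 ⟨h1, h2'⟩
    exact Submonoid.mem_powers_iff _ _ |>.1
      ((isOfFinOrder_of_finite x₁).mem_powers_iff_mem_zpowers.2 ((QuotientGroup.eq_one_iff y).1 h3))
  -- determinant one forces scalar times a power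
  have hdetker : ∀ y : U, ((y : GL (Fin 3) F) : Matrix (Fin 3) (Fin 3) F).det = 1 → y ^ 21 = 1 := by
    intro y hy
    let d : U →* Fˣ := (Matrix.GeneralLinearGroup.det : GL (Fin 3) F →* Fˣ).comp U.subtype
    obtain ⟨ω, hω⟩ : ∃ ω : F, ω ∉ F₀ := by
      by_contra hc
      push Not at hc
      exact hne (eq_top_iff.2 fun a _ => hc a)
    have hω0 : ω ≠ 0 := fun e => hω (e ▸ F₀.zero_mem)
    have hω1 : ω ≠ 1 := fun e => hω (e ▸ F₀.one_mem)
    have hω3 : ω ^ 3 = 1 := by
      have := FiniteField.pow_card_sub_one_eq_one ω hω0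
      rwa [hq] at this
    have hMK : X + ω • 1 ∈ K := K.add_mem hXK (K.smul_mem K.one_mem _)
    have hM0 : X + ω • 1 ≠ 0 := fun e => hXs (-ω) (by rw [neg_smul]; exact eq_neg_of_add_eq_zero_left e)
    obtain ⟨Y, hY, eY⟩ := hK.inv _ hMK hM0
    let w : U := ⟨⟨_, Y, eY, (hK.comm Y hY _ hMK).trans eY⟩, hMK⟩
    have hdet : (X + ω • (1 : Matrix (Fin 3) (Fin 3) F)).det ≠ 1 := by
      have e1 : (X + ω • 1) * P₀ = P₀ * (C + ω • 1) := by
        rw [add_mul, mul_add, hXC, smul_mul_assoc, one_mul, mul_smul_comm, mul_one]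
      have hP0det : P₀.det ≠ 0 := by rw [← hP]; exact (Matrix.GeneralLinearGroup.det P).ne_zero
      have e2 := congrArg Matrix.det e1
      rw [det_mul, det_mul, mul_comm] at e2
      intro e
      rw [mul_left_cancel₀ hP0det e2, det_fin_three] at e
      rcases ha with ⟨rfl, rfl⟩ | ⟨rfl, rfl⟩ <;> simp [C] at e
      · exact hω1 (by linear_combination -e + hω3)
      · rcases e with e | e
        · exact hω0 e
        · exact hω1 (by linear_combination e - h2)
    have hrange : d.range = ⊤ := by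
      have h3 : Nat.card Fˣ = 3 := by rw [Nat.card_units, Nat.card_eq_fintype_card, hq]
      haveI : Fact (Nat.card Fˣ).Prime := ⟨by rw [h3]; norm_num⟩
      refine (Subgroup.eq_bot_or_eq_top_of_prime_card d.range).resolve_left fun hb => hdet ?_
      have : d w ∈ d.range := ⟨w, rfl⟩
      rw [hb, Subgroup.mem_bot] at this
      exact congrArg Units.val this
    have hk : Nat.card d.ker = 21 := by
      have := d.ker.card_eq_card_quotient_mul_card_subgroup
      rw [hUcard, Nat.card_congr (QuotientGroup.quotientKerEquivRange d).toEquiv, hrange,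
        Subgroup.card_top, Nat.card_units, Nat.card_eq_fintype_card, hq] at this
      omega
    have hy' : y ∈ d.ker := Units.ext hy
    have := pow_card_eq_one' (x := (⟨y, hy'⟩ : d.ker))
    rw [hk] at this
    exact congrArg Subtype.val this
  refine ⟨F₀, P, hne, by rw [hq, hF₀]; norm_num, fun h hh => ?_⟩
  -- `h v = k v`
  have hbij : Function.Surjective fun k : K => (k : Matrix (Fin 3) (Fin 3) F) *ᵥ v := by
    haveI := Fintype.ofFinite K
    refine ((Fintype.bijective_iff_injective_and_card _).2 ⟨fun a b e => Subtype.ext (sub_eq_zero.1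
      (eq_zero_of_mulVec hK (K.sub_mem a.2 b.2) hv (by rw [sub_mulVec]; exact sub_eq_zero.2 e))), ?_⟩).2
    rw [← Nat.card_eq_fintype_card, hKcard, Fintype.card_fun, Fintype.card_fin, hq]
    norm_num
  obtain ⟨⟨k, hk⟩, hkv⟩ := hbij ((h : Matrix (Fin 3) (Fin 3) F) *ᵥ v)
  change k *ᵥ v = (h : Matrix (Fin 3) (Fin 3) F) *ᵥ v at hkv
  have hk0 : k ≠ 0 := by
    rintro rfl
    apply hv
    rw [← inv_mulVec_cancel h v, ← hkv, zero_mulVec, mulVec_zero]
  obtain ⟨ki, hki, eki⟩ := hK.inv k hk hk0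
  let k₁ : U := ⟨⟨k, ki, eki, (hK.comm ki hki k hk).trans eki⟩, hk⟩
  set g : GL (Fin 3) F := (k₁ : GL (Fin 3) F)⁻¹ * h with hg
  have hgv : (g : Matrix (Fin 3) (Fin 3) F) *ᵥ v = v := by
    rw [hg, Units.val_mul, ← mulVec_mulVec, ← hkv]
    exact inv_mulVec_cancel (k₁ : GL (Fin 3) F) v
  have hconj : h * x * h⁻¹ ∈ U := by
    rw [hU, Units.val_mul, Units.val_mul]
    exact (hnorm hh X).1 hXK
  obtain ⟨m, hm⟩ := hseven ⟨_, hconj⟩ (Subtype.ext (by
    rw [SubgroupClass.coe_pow, conj_pow, show x ^ 7 = 1 from Units.ext (by rw [Units.val_pow_eq_pow_val]; exact hx7)]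
    simp))
  have hm' : h * x * h⁻¹ = x ^ m := by
    rw [show x ^ m = ((x₁ ^ m : U) : GL (Fin 3) F) from (SubgroupClass.coe_pow x₁ m).symm, hm]
  have hgx : g * x = x ^ m * g := by
    have hc : (k₁ : GL (Fin 3) F)⁻¹ * x ^ m = x ^ m * (k₁ : GL (Fin 3) F)⁻¹ :=
      congrArg Subtype.val (hUc k₁⁻¹ (x₁ ^ m))
    calc g * x = (k₁ : GL (Fin 3) F)⁻¹ * (h * x * h⁻¹) * h := by simp [hg, mul_assoc]
      _ = _ := by rw [hm', hc, hg, mul_assoc]
  have hgpow : ∀ j : ℕ, (g : Matrix (Fin 3) (Fin 3) F) *ᵥ (X ^ j *ᵥ v) = X ^ (m * j) *ᵥ v := by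
    intro j
    induction j with
    | zero => simpa using hgv
    | succ j ih =>
      have e := congrArg (fun z : GL (Fin 3) F => (z : Matrix (Fin 3) (Fin 3) F) *ᵥ (X ^ j *ᵥ v)) hgx
      simp only [Units.val_mul, Units.val_pow_eq_pow_val, ← mulVec_mulVec] at e
      rw [pow_succ', ← mulVec_mulVec, e, ih, mulVec_mulVec, ← pow_add, mul_add, mul_one, add_comm]
  choose r hr hr' using fun j : Fin 3 => hpow (m * (j : ℕ))
  let G : Matrix (Fin 3) (Fin 3) F := Matrix.of fun i j => r j i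
  have hGP : (g : Matrix (Fin 3) (Fin 3) F) * P₀ = P₀ * G := Matrix.ext_of_mulVec_single fun j => by
    rw [← mulVec_mulVec, ← mulVec_mulVec, mulVec_single_one, mulVec_single_one,
      show G.col j = r j from rfl, ← hr', ← hgpow]
    rfl
  have hGrat : P⁻¹ * g * P ∈ (Matrix.GeneralLinearGroup.map (F₀.subtype : F₀ →+* F)).range ⊔ scalars (Fin 3) F ∧
      (g : Matrix (Fin 3) (Fin 3) F).det = 1 := by
    have hPg : ((P⁻¹ * g * P : GL (Fin 3) F) : Matrix (Fin 3) (Fin 3) F) = G := by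
      rw [mul_assoc, Units.val_mul, Units.val_mul, hP, hGP, ← hP, ← mul_assoc, Units.inv_mul, one_mul]
    refine ⟨?_, ?_⟩
    · obtain ⟨z, hz, e⟩ := (mem_subfieldSubgroup (F₀ := F₀) (P := P) (g := g)).2 ⟨1, one_ne_zero, fun i j => by
        rw [div_one, hPg]; exact hr j i⟩
      rw [← e]
      simpa [mul_assoc] using hz
    · have hd := congrArg Matrix.det hPg
      rw [Units.val_mul, Units.val_mul, det_mul, det_mul, mul_right_comm, ← det_mul, Units.inv_mul, det_one,
        one_mul] at hd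
      rcases h01 _ (show (g : Matrix (Fin 3) (Fin 3) F).det ∈ F₀ by
        rw [hd]
        exact Matrix.det_apply G ▸ sum_mem fun σ _ => (Subfield.zsmul_mem F₀ (prod_mem fun i _ => hr _ _) _)) with h0 | h1
      · exact absurd h0 (Matrix.GeneralLinearGroup.det g).ne_zero
      · exact h1
  have hkdet : ((k₁ : GL (Fin 3) F) : Matrix (Fin 3) (Fin 3) F).det = 1 := by
    have h1 := det_eq_one hH hh
    rw [show h = (k₁ : GL (Fin 3) F) * g by simp [hg], Units.val_mul, det_mul, hGrat.2, mul_one] at h1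
    exact h1
  -- `k` is a scalar times a power of `x`
  obtain ⟨c, a, hca⟩ : ∃ (c : Fˣ) (a : ℕ), (k₁ : GL (Fin 3) F) = sc c * x ^ a := by
    have h21 := hdetker k₁ hkdet
    set Z : Matrix (Fin 3) (Fin 3) F := (((k₁ ^ 7 : U) : GL (Fin 3) F) : Matrix (Fin 3) (Fin 3) F)
    have hZK : Z ∈ K := (k₁ ^ 7).2
    have hZ : Z ^ 3 = 1 := by
      have := congrArg (fun z : U => ((z : GL (Fin 3) F) : Matrix (Fin 3) (Fin 3) F)) h21
      simp only [Z, SubgroupClass.coe_pow, Units.val_pow_eq_pow_val, ← pow_mul] at this ⊢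
      exact this
    obtain ⟨ω, hω⟩ : ∃ ω : F, ω ∉ F₀ := by
      by_contra hc
      push Not at hc
      exact hne (eq_top_iff.2 fun a _ => hc a)
    have hω3 : ω ^ 3 = 1 := by
      have := FiniteField.pow_card_sub_one_eq_one ω fun e => hω (e ▸ F₀.zero_mem)
      rwa [hq] at this
    have hω2 : ω ^ 2 + ω + 1 = 0 := by
      have h0 : (ω - 1) * (ω ^ 2 + ω + 1) = 0 := by linear_combination hω3
      exact (mul_eq_zero.1 h0).resolve_left fun e => hω (sub_eq_zero.1 e ▸ F₀.one_mem)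
    have hfac : (Z - 1) * ((Z - ω • 1) * (Z - (ω ^ 2) • 1)) = 0 := by
      have e : (Z - 1) * ((Z - ω • 1) * (Z - (ω ^ 2) • 1)) =
          Z ^ 3 - (ω ^ 2 + ω + 1) • Z ^ 2 + (ω ^ 3 + ω ^ 2 + ω) • Z - ω ^ 3 • 1 := by
        simp only [sub_mul, mul_sub, smul_mul_assoc, mul_smul_comm, one_mul, mul_one, pow_succ, pow_zero, mul_assoc]
        module
      rw [e, hω2, hZ, hω3, show (1 : F) + ω ^ 2 + ω = 0 by linear_combination hω2, zero_smul, zero_smul,
        one_smul, sub_zero, add_zero, sub_self]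
    obtain ⟨c, hc, hc3⟩ : ∃ c : F, Z = c • 1 ∧ c ^ 3 = 1 := by
      have hm1 : Z - 1 ∈ K := K.sub_mem hZK K.one_mem
      have hmω : Z - ω • 1 ∈ K := K.sub_mem hZK (K.smul_mem K.one_mem _)
      rcases eq_zero_or hK hm1 hfac with h | h
      · exact ⟨1, by rw [one_smul]; exact sub_eq_zero.1 h, one_pow 3⟩
      rcases eq_zero_or hK hmω h with h | h
      · exact ⟨ω, sub_eq_zero.1 h, hω3⟩
      · exact ⟨ω ^ 2, sub_eq_zero.1 h, by rw [← pow_mul, pow_mul', hω3, one_pow]⟩
    let cu : Fˣ := Units.mk0 c fun e => by rw [e] at hc3; simp at hc3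
    have hcU : (sc cu : GL (Fin 3) F) ∈ U := by
      rw [hU, sc_val]; exact K.smul_mem K.one_mem _
    let c₁ : U := ⟨sc cu, hcU⟩
    have hc7 : k₁ ^ 7 = c₁ ^ 7 := by
      apply Subtype.ext
      apply Units.ext
      show Z = _
      rw [hc, SubgroupClass.coe_pow, Units.val_pow_eq_pow_val, show (c₁ : GL (Fin 3) F) = sc cu from rfl, sc_val,
        smul_pow, one_pow, show (cu : F) = c from rfl, show (7 : ℕ) = 3 + 3 + 1 from rfl, pow_add, pow_add, hc3,
        one_mul, one_mul, pow_one]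
    obtain ⟨a, ha⟩ := hseven (c₁⁻¹ * k₁) (by rw [Commute.mul_pow (hUc _ _), hc7, inv_pow, inv_mul_cancel])
    refine ⟨cu, a, ?_⟩
    have := congrArg (fun z : U => ((c₁ * z : U) : GL (Fin 3) F)) ha
    simpa [c₁, x] using this.symm
  -- assemble
  have hmem : ∀ y : GL (Fin 3) F, (∀ i j, ((P⁻¹ * y * P : GL (Fin 3) F) : Matrix (Fin 3) (Fin 3) F) i j ∈ F₀) →
      y ∈ Cfsg.Geo.subfieldSubgroup F₀ P := fun y hy =>
    mem_subfieldSubgroup.2 ⟨1, one_ne_zero, fun i j => by rw [div_one]; exact hy i j⟩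
  have hxmem : x ∈ Cfsg.Geo.subfieldSubgroup F₀ P := hmem x fun i j => by
    rw [mul_assoc, Units.val_mul, Units.val_mul, hP, show (x : Matrix (Fin 3) (Fin 3) F) = X from rfl, hXC, ← hP,
      ← mul_assoc, Units.inv_mul, one_mul]
    exact hC i j
  rw [show h = (k₁ : GL (Fin 3) F) * g by simp [hg], hca]
  refine mul_mem (mul_mem ?_ (pow_mem hxmem a)) ⟨_, hGrat.1, by simp [mul_assoc]⟩
  exact ⟨sc c, Subgroup.mem_sup_right (sc_mem c), by simp [← sc_comm c P, mul_assoc]⟩

end CfsgLib.PrimeDim
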