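import Cfsg.Agent.Lib.Classical.PrimeDimOrth

set_option autoImplicit false
set_option linter.unusedSectionVars false

/-!
The maximal subgroups of the commutator subgroup of the standard orthogonal group of odd prime dimension.
-/

namespace CfsgLib.PrimeDim.Std

open Matrix
open Cfsg.Geo (matrixSet scalars ActsIrreducibly ActsAbsolutelyIrreducibly omegaGL glReindex subspaceStabilizer
  decompositionStabilizer subfieldSubgroup)
open scoped MatrixGroups

variable {F : Type*} [Field F] {ι κ : Type} [Fintype ι] [DecidableEq ι] [Fintype κ] [DecidableEq κ] (e : ι ≃ κ)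

/-- The change of coordinates along a bijection. -/
def lin : (κ → F) ≃ₗ[F] (ι → F) := LinearEquiv.funCongrLeft F F e

theorem lin_apply (v : κ → F) (i : ι) : lin e v i = v (e i) := rfl

theorem lin_symm_apply (v : ι → F) (k : κ) : (lin e).symm v k = v (e.symm k) := rfl

theorem reindex_apply (g : GL ι F) (a b : κ) :
    ((glReindex e g : GL κ F) : Matrix κ κ F) a b = (g : Matrix ι ι F) (e.symm a) (e.symm b) := rfl

theorem lin_mulVec (g : GL ι F) (v : κ → F) :
    lin e (((glReindex e g : GL κ F) : Matrix κ κ F) *ᵥ v) = (g : Matrix ι ι F) *ᵥ lin e v := by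
  funext i
  rw [lin_apply]
  simp only [mulVec, dotProduct, lin_apply, reindex_apply, Equiv.symm_apply_apply]
  rw [← Equiv.sum_comp e]
  simp only [Equiv.symm_apply_apply]

theorem mulVec_lin_symm (g : GL ι F) (v : ι → F) :
    ((glReindex e g : GL κ F) : Matrix κ κ F) *ᵥ (lin e).symm v = (lin e).symm ((g : Matrix ι ι F) *ᵥ v) :=
  (lin e).injective (by rw [lin_mulVec, LinearEquiv.apply_symm_apply, LinearEquiv.apply_symm_apply])

theorem isometry_map (Q : (ι → F) → F) :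
    (Cfsg.isometryGroup F Q).map (glReindex e).toMonoidHom = Cfsg.isometryGroup F (Q ∘ lin e) := by
  ext h
  constructor
  · rintro ⟨g, hg, rfl⟩ u w
    show Q (lin e (((glReindex e g : GL κ F) : Matrix κ κ F) *ᵥ u)) = Q (lin e u)
    rw [lin_mulVec]
    exact hg (lin e u) (lin e w)
  · intro hh
    obtain ⟨g, rfl⟩ := (glReindex e (F := F)).surjective h
    refine ⟨g, fun u w => ?_, rfl⟩
    show Q ((g : Matrix ι ι F) *ᵥ u) = Q u
    have h1 : Q (lin e (((glReindex e g : GL κ F) : Matrix κ κ F) *ᵥ (lin e).symm u)) = Q (lin e ((lin e).symm u)) :=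
      hh ((lin e).symm u) ((lin e).symm w)
    rwa [lin_mulVec, LinearEquiv.apply_symm_apply] at h1

theorem omega_eq (Q : (ι → F) → F) : omegaGL Q = ⁅Cfsg.isometryGroup F Q, Cfsg.isometryGroup F Q⁆ := by
  rw [omegaGL, Cfsg.Omega, Subgroup.map_subtype_commutator]

theorem omega_map (Q : (ι → F) → F) :
    (omegaGL Q).map (glReindex e).toMonoidHom = omegaGL (Q ∘ lin e) := by
  rw [omega_eq, Subgroup.map_commutator, isometry_map, omega_eq]

theorem mem_map {X : Subgroup (GL ι F)} {g : GL ι F} :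
    glReindex e g ∈ X.map (glReindex e).toMonoidHom ↔ g ∈ X :=
  Subgroup.mem_map_iff_mem (f := (glReindex e (F := F)).toMonoidHom) (glReindex e).injective

theorem isMaximalIn_map {K H : Subgroup (GL ι F)} (h : Cfsg.Geo.IsMaximalIn K H) :
    Cfsg.Geo.IsMaximalIn (K.map (glReindex e).toMonoidHom) (H.map (glReindex e).toMonoidHom) := by
  refine ⟨(Subgroup.map_lt_map_iff_of_injective (glReindex e).injective).2 h.1, fun M h1 h2 => ?_⟩
  obtain ⟨M, rfl⟩ : ∃ M' : Subgroup (GL ι F), M = M'.map (glReindex e).toMonoidHom :=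
    ⟨M.comap (glReindex e).toMonoidHom, (Subgroup.map_comap_eq_self_of_surjective (glReindex e).surjective M).symm⟩
  have hinj : Function.Injective (glReindex e (F := F)).toMonoidHom := (glReindex e).injective
  rw [Subgroup.map_le_map_iff_of_injective hinj] at h1 h2
  rcases h.2 _ h1 h2 with h' | h'
  · exact Or.inl (by rw [h'])
  · exact Or.inr (by rw [h'])

theorem eq_inf_of_map {H X Y : Subgroup (GL ι F)} {X' : Subgroup (GL κ F)}
    (hX : ∀ g, g ∈ X ↔ glReindex e g ∈ X')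
    (h : H.map (glReindex e).toMonoidHom = X' ⊓ Y.map (glReindex e).toMonoidHom) : H = X ⊓ Y := by
  ext g
  rw [← mem_map e (X := H), h, Subgroup.mem_inf, Subgroup.mem_inf, mem_map, hX]

/-! ### Subspaces -/

theorem stab_iff {W : Submodule F (κ → F)} (g : GL ι F) :
    g ∈ subspaceStabilizer (W.map (lin e).toLinearMap) ↔ glReindex e g ∈ subspaceStabilizer W := by
  constructor
  · intro h v
    have h1 : lin e v ∈ W.map (lin e).toLinearMap ↔ (g : Matrix ι ι F) *ᵥ lin e v ∈ W.map (lin e).toLinearMap :=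
      h (lin e v)
    rw [← lin_mulVec] at h1
    simpa [Submodule.mem_map_equiv] using h1
  · intro h v
    have h1 := h ((lin e).symm v)
    show v ∈ W.map (lin e).toLinearMap ↔ (g : Matrix ι ι F) *ᵥ v ∈ W.map (lin e).toLinearMap
    rw [Submodule.mem_map_equiv, Submodule.mem_map_equiv, ← mulVec_lin_symm]
    exact h1

theorem polar_lin (Q : (ι → F) → F) (u v : κ → F) :
    QuadraticMap.polar (Q ∘ lin e) u v = QuadraticMap.polar Q (lin e u) (lin e v) := by
  simp [QuadraticMap.polar]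

theorem nondegOn_map {Q : (ι → F) → F} {W : Submodule F (κ → F)}
    (h : Cfsg.Geo.IsNondegenerateOn (QuadraticMap.polar (Q ∘ lin e)) W) :
    Cfsg.Geo.IsNondegenerateOn (QuadraticMap.polar Q) (W.map (lin e).toLinearMap) := by
  rintro _ ⟨w, hw, rfl⟩ hw0
  obtain ⟨⟨x, hx, hxw⟩, ⟨y, hy, hwy⟩⟩ := h w hw fun e0 => hw0 (by simp [e0])
  rw [polar_lin] at hxw hwy
  exact ⟨⟨_, ⟨x, hx, rfl⟩, hxw⟩, ⟨_, ⟨y, hy, rfl⟩, hwy⟩⟩

theorem plusType_of_map {Q : (ι → F) → F} {W : Submodule F (κ → F)}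
    (h : Cfsg.Geo.IsPlusTypeOn Q (W.map (lin e).toLinearMap)) : Cfsg.Geo.IsPlusTypeOn (Q ∘ lin e) W := by
  obtain ⟨U, hU, hUs, hd⟩ := h
  refine ⟨U.map (lin e).symm.toLinearMap, ?_, ?_, ?_⟩
  · rintro _ ⟨u, hu, rfl⟩
    simpa [Submodule.mem_map_equiv] using hU hu
  · rintro _ ⟨u, hu, rfl⟩
    simpa using hUs u hu
  · rw [LinearEquiv.finrank_map_eq, hd, LinearEquiv.finrank_map_eq]

/-! ### Decompositions -/

theorem decomp_iff {t : ℕ} {D : Fin t → Submodule F (κ → F)} (g : GL ι F) :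
    g ∈ decompositionStabilizer (fun i => (D i).map (lin e).toLinearMap) ↔
      glReindex e g ∈ decompositionStabilizer D := by
  have key : ∀ i, ((D i).map (lin e).toLinearMap).map (Matrix.toLin' (g : Matrix ι ι F)) =
      ((D i).map (Matrix.toLin' ((glReindex e g : GL κ F) : Matrix κ κ F))).map (lin e).toLinearMap := by
    intro i
    rw [← Submodule.map_comp, ← Submodule.map_comp]
    congr 1
    refine LinearMap.ext fun v => ?_
    simp [lin_mulVec]
  constructor
  · rintro ⟨σ, hσ⟩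
    exact ⟨σ, fun i => Submodule.map_injective_of_injective (lin e).injective ((key i).symm.trans (hσ i))⟩
  · rintro ⟨σ, hσ⟩
    exact ⟨σ, fun i => by rw [key, hσ]⟩

theorem orthogonalMDecomposition_map {Q : (ι → F) → F} {t m : ℕ} {D : Fin t → Submodule F (κ → F)}
    (h : Cfsg.Geo.IsOrthogonalMDecomposition (Q ∘ lin e) m D) :
    Cfsg.Geo.IsOrthogonalMDecomposition Q m fun i => (D i).map (lin e).toLinearMap := by
  obtain ⟨⟨⟨h1, h2, h3, h4, h5⟩, hnd, horth⟩, hiso⟩ := h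
  refine ⟨⟨⟨h1, h2, fun i => ?_, ?_, ?_⟩, fun i => nondegOn_map e (hnd i), fun i j hij => ?_⟩, fun i j => ?_⟩
  · rw [LinearEquiv.finrank_map_eq, h3]
  · exact h4.map_orderIso (Submodule.orderIsoMapComap (lin e))
  · rw [← Submodule.map_iSup, h5, Submodule.map_top, LinearEquiv.range]
  · rintro _ ⟨u, hu, rfl⟩ _ ⟨v, hv, rfl⟩
    have := horth i j hij u hu v hv
    rwa [polar_lin] at this
  · obtain ⟨f, hf⟩ := hiso i j
    refine ⟨((lin e).submoduleMap (D i)).symm.trans (f.trans ((lin e).submoduleMap (D j))), fun w => ?_⟩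
    obtain ⟨u, rfl⟩ := ((lin e).submoduleMap (D i)).surjective w
    rw [LinearEquiv.trans_apply, LinearEquiv.symm_apply_apply]
    exact hf u

/-! ### Subfield groups -/

theorem subfield_map (F₀ : Subfield F) (P : GL ι F) :
    (subfieldSubgroup F₀ P).map (glReindex e).toMonoidHom = subfieldSubgroup F₀ (glReindex e P) := by
  have h1 : ((Matrix.GeneralLinearGroup.map (n := ι) (F₀.subtype : F₀ →+* F)).range).map (glReindex e).toMonoidHom =
      (Matrix.GeneralLinearGroup.map (n := κ) (F₀.subtype : F₀ →+* F)).range := by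
    rw [MonoidHom.map_range]
    ext h
    constructor
    · rintro ⟨g, rfl⟩
      exact ⟨glReindex e g, Units.ext (Matrix.ext fun a b => rfl)⟩
    · rintro ⟨g, rfl⟩
      refine ⟨glReindex e.symm g, Units.ext (Matrix.ext fun a b => ?_)⟩
      show F₀.subtype ((g : Matrix κ κ F₀) (e.symm.symm (e.symm a)) (e.symm.symm (e.symm b))) =
        F₀.subtype ((g : Matrix κ κ F₀) a b)
      simp
  have h2 : (scalars ι F).map (glReindex e).toMonoidHom = scalars κ F := by
    show (MonoidHom.range _).map _ = MonoidHom.range _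
    rw [MonoidHom.map_range]
    congr 1
    refine MonoidHom.ext fun u => Units.ext (Matrix.ext fun a b => ?_)
    show (Matrix.scalar ι (u : F)) (e.symm a) (e.symm b) = Matrix.scalar κ (u : F) a b
    simp [Matrix.scalar_apply, Matrix.diagonal_apply]
  have h3 : (glReindex e).toMonoidHom.comp (MulAut.conj P).toMonoidHom =
      (MulAut.conj (glReindex e P)).toMonoidHom.comp (glReindex e).toMonoidHom :=
    MonoidHom.ext fun g => by simp
  rw [Cfsg.Geo.subfieldSubgroup, Cfsg.Geo.subfieldSubgroup, Subgroup.map_map, h3, ← Subgroup.map_map,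
    Subgroup.map_sup, h1, h2]

theorem rational_map {Q : (ι → F) → F} {F₀ : Subfield F} {P : GL ι F}
    (h : Cfsg.Geo.IsQuadFormRationalStructure (Q ∘ lin e) F₀ (glReindex e P)) :
    Cfsg.Geo.IsQuadFormRationalStructure Q F₀ P := by
  intro u hu
  have h1 : Q (lin e (((glReindex e P : GL κ F) : Matrix κ κ F) *ᵥ (lin e).symm u)) ∈ F₀ :=
    h ((lin e).symm u) fun k => hu (e.symm k)
  rwa [lin_mulVec, LinearEquiv.apply_symm_apply] at h1

/-! ### The residual class -/

theorem scalars_iff (g : GL ι F) : glReindex e g ∈ scalars κ F ↔ g ∈ scalars ι F := by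
  rw [Cfsg.Geo.mem_scalars_iff, Cfsg.Geo.mem_scalars_iff]
  constructor
  · rintro ⟨c, hc⟩
    refine ⟨c, Matrix.ext fun i j => ?_⟩
    have := congrFun (congrFun hc (e i)) (e j)
    simpa [reindex_apply, Matrix.one_apply] using this
  · rintro ⟨c, hc⟩
    refine ⟨c, Matrix.ext fun a b => ?_⟩
    rw [reindex_apply, hc]
    simp [Matrix.one_apply]

theorem residual_of_map {H : Subgroup (GL ι F)}
    (h : Cfsg.Geo.InOrthogonalResidualClass (H.map (glReindex e).toMonoidHom)) :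
    Cfsg.Geo.InOrthogonalResidualClass H := by
  classical
  obtain ⟨P', ⟨hle, hnorm, hperf, hsimple, hnab, hcen, ⟨hirr, hcomm⟩, hsub⟩, hun⟩ := h
  obtain ⟨P, rfl⟩ : ∃ P, P' = Subgroup.map (glReindex e).toMonoidHom P :=
    ⟨P'.comap (glReindex e).toMonoidHom, (Subgroup.map_comap_eq_self_of_surjective (glReindex e).surjective P').symm⟩
  have hleP : P ≤ H := (Subgroup.map_le_map_iff_of_injective (glReindex e).injective).1 hle
  let ψ : P ≃* P.map (glReindex e).toMonoidHom := P.equivMapOfInjective _ (glReindex e).injective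
  let qe : P ⧸ (scalars ι F).subgroupOf P ≃*
      (P.map (glReindex e).toMonoidHom) ⧸ (scalars κ F).subgroupOf (P.map (glReindex e).toMonoidHom) :=
    QuotientGroup.congr _ _ ψ (by
      ext x
      obtain ⟨x, rfl⟩ := ψ.surjective x
      rw [Subgroup.mem_subgroupOf]
      show _ ↔ glReindex e (x : GL ι F) ∈ scalars κ F
      rw [scalars_iff, ← Subgroup.mem_subgroupOf]
      exact Subgroup.mem_map_iff_mem ψ.injective)
  haveI := hsimple
  refine ⟨P, ⟨hleP, fun g hg x hx => ?_, ?_, ?_, ?_, fun g hg hx => ?_, ⟨fun W hW => ?_, fun M hM => ?_⟩,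
    fun F₀ h0 hr => hsub F₀ h0 ?_⟩, ?_⟩
  · rw [← mem_map e]
    rw [map_mul, map_mul, map_inv]
    exact hnorm _ ((mem_map e).2 hg) _ ((mem_map e).2 hx)
  · apply Subgroup.map_injective (glReindex e (F := F)).injective
    show Subgroup.map (glReindex e).toMonoidHom ⁅P, P⁆ = _
    rw [Subgroup.map_commutator]
    exact hperf
  · exact qe.isSimpleGroup
  · intro hc
    exact hnab ⟨⟨fun a b => qe.symm.injective (by rw [map_mul, map_mul]; exact hc.is_comm.comm _ _)⟩⟩
  · refine (scalars_iff e g).1 (hcen _ ((mem_map e).2 hg) ?_)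
    rintro _ ⟨x, hxP, rfl⟩
    show glReindex e g * glReindex e x * (glReindex e g)⁻¹ * (glReindex e x)⁻¹ ∈ _
    rw [← map_mul, ← map_inv, ← map_mul, ← map_inv, ← map_mul, scalars_iff]
    exact hx x hxP
  · have hW' : ∀ s ∈ matrixSet (P.map (glReindex e).toMonoidHom),
        (W.map (lin e).symm.toLinearMap).map (Matrix.toLin' s) ≤ W.map (lin e).symm.toLinearMap := by
      rintro _ ⟨_, ⟨x, hx, rfl⟩, rfl⟩ _ ⟨_, ⟨w, hw, rfl⟩, rfl⟩
      refine ⟨(x : Matrix ι ι F) *ᵥ w, hW _ ⟨x, hx, rfl⟩ ⟨w, hw, Matrix.toLin'_apply _ _⟩, ?_⟩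
      simp [mulVec_lin_symm]
    rcases hirr _ hW' with h0 | h0
    · exact Or.inl (Submodule.map_eq_bot_iff.1 h0)
    · refine Or.inr (Submodule.map_injective_of_injective (lin e).symm.injective ?_)
      rw [h0, Submodule.map_top, LinearEquiv.range]
  · obtain ⟨c, hc⟩ := hcomm (Matrix.reindexAlgEquiv F F e M) (by
      rintro _ ⟨_, ⟨x, hx, rfl⟩, rfl⟩
      show Matrix.reindexAlgEquiv F F e M * Matrix.reindexAlgEquiv F F e (x : Matrix ι ι F) =
        Matrix.reindexAlgEquiv F F e (x : Matrix ι ι F) * Matrix.reindexAlgEquiv F F e M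
      rw [← map_mul, ← map_mul, hM _ ⟨x, hx, rfl⟩])
    exact ⟨c, (Matrix.reindexAlgEquiv F F e).injective (by rw [hc, map_smul, map_one])⟩
  · obtain ⟨C, hC⟩ := hr
    refine ⟨glReindex e C, ?_⟩
    rintro _ ⟨_, ⟨x, hx, rfl⟩, rfl⟩ a b
    have h2 : (glReindex e C : Matrix κ κ F) * (glReindex e x : Matrix κ κ F) *
        ((glReindex e C)⁻¹ : GL κ F) = (glReindex e (C * x * C⁻¹) : Matrix κ κ F) := by
      rw [map_mul, map_mul, map_inv, Units.val_mul, Units.val_mul]
    simp only [MulEquiv.coe_toMonoidHom]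
    rw [h2, reindex_apply, Units.val_mul, Units.val_mul]
    exact hC _ ⟨x, hx, rfl⟩ _ _
  · rintro ⟨σ, f, hf, hfix⟩
    refine hun ⟨σ, fun u v => f (lin e u) (lin e v), ⟨hf.ne_refl, hf.involutive,
      fun x y v => by rw [map_add, hf.add_left], fun c x v => by rw [map_smul, hf.smul_left],
      fun v w => hf.herm _ _, fun v hv => ?_⟩, ?_⟩
    · obtain ⟨⟨x, hx⟩, ⟨y, hy⟩⟩ := hf.nondegenerate (lin e v) fun e0 => hv ((lin e).map_eq_zero_iff.1 e0)
      exact ⟨⟨(lin e).symm x, by rwa [LinearEquiv.apply_symm_apply]⟩,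
        ⟨(lin e).symm y, by rwa [LinearEquiv.apply_symm_apply]⟩⟩
    · rintro _ ⟨_, ⟨x, hx, rfl⟩, rfl⟩ u v
      simp only [MulEquiv.coe_toMonoidHom, lin_mulVec]
      exact hfix _ ⟨x, hx, rfl⟩ _ _

end CfsgLib.PrimeDim.Std

namespace CfsgLib.PrimeDim

open Matrix
open scoped MatrixGroups

variable {F : Type*} [Field F] [Fintype F] {m : ℕ}

/-- The maximal subgroups for the standard form. -/
theorem orth_std_cases (hn : (2 * m + 1).Prime) (hm : 3 ≤ m) (hodd : Odd (Fintype.card F))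
    {H : Subgroup (GL (Unit ⊕ (Fin m ⊕ Fin m)) F)}
    (hH : Cfsg.Geo.IsMaximalIn (Cfsg.Geo.omegaGL (Cfsg.quadFormOdd m F)) H) :
    (∃ W : Submodule F (Unit ⊕ (Fin m ⊕ Fin m) → F), W ≠ ⊥ ∧
      Cfsg.Geo.IsTotallySingularQuad (Cfsg.quadFormOdd m F) W ∧
      H = Cfsg.Geo.subspaceStabilizer W ⊓ Cfsg.Geo.omegaGL (Cfsg.quadFormOdd m F)) ∨
    (∃ W : Submodule F (Unit ⊕ (Fin m ⊕ Fin m) → F), W ≠ ⊥ ∧ Even (Module.finrank F W) ∧
      Cfsg.Geo.IsNondegenerateOn (QuadraticMap.polar (Cfsg.quadFormOdd m F)) W ∧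
      ¬ (Fintype.card F = 3 ∧ Module.finrank F W = 2 ∧ Cfsg.Geo.IsPlusTypeOn (Cfsg.quadFormOdd m F) W) ∧
      H = Cfsg.Geo.subspaceStabilizer W ⊓ Cfsg.Geo.omegaGL (Cfsg.quadFormOdd m F)) ∨
    ((Fintype.card F).Prime ∧ ∃ D : Fin (2 * m + 1) → Submodule F (Unit ⊕ (Fin m ⊕ Fin m) → F),
      Cfsg.Geo.IsOrthogonalMDecomposition (Cfsg.quadFormOdd m F) 1 D ∧
      H = Cfsg.Geo.decompositionStabilizer D ⊓ Cfsg.Geo.omegaGL (Cfsg.quadFormOdd m F)) ∨
    (∃ (F₀ : Subfield F) (r : ℕ) (P : GL (Unit ⊕ (Fin m ⊕ Fin m)) F), r.Prime ∧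
      Fintype.card F = Nat.card F₀ ^ r ∧
      Cfsg.Geo.IsQuadFormRationalStructure (Cfsg.quadFormOdd m F) F₀ P ∧
      H = Cfsg.Geo.subfieldSubgroup F₀ P ⊓ Cfsg.Geo.omegaGL (Cfsg.quadFormOdd m F)) ∨
    Cfsg.Geo.InOrthogonalResidualClass H := by
  classical
  have h2 : (2 : F) ≠ 0 := two_ne_zero_of_odd hodd
  let e : Unit ⊕ (Fin m ⊕ Fin m) ≃ Fin (2 * m + 1) := Fintype.equivFinOfCardEq (by simp; omega)
  let pr : Unit ⊕ (Fin m ⊕ Fin m) → ((Unit ⊕ (Fin m ⊕ Fin m) → F) →ₗ[F] F) := fun i => LinearMap.proj i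
  let Q₁ : QuadraticForm F (Unit ⊕ (Fin m ⊕ Fin m) → F) :=
    QuadraticMap.linMulLin (pr (.inl ())) (pr (.inl ())) +
      ∑ i : Fin m, QuadraticMap.linMulLin (pr (.inr (.inl i))) (pr (.inr (.inr i)))
  have hQ₁ : ⇑Q₁ = Cfsg.quadFormOdd m F := funext fun v => by
    simp [Q₁, pr, Cfsg.quadFormOdd, pow_two]
  let Q' : QuadraticForm F (Fin (2 * m + 1) → F) := Q₁.comp (Std.lin e).toLinearMap
  have hQ' : ⇑Q' = Cfsg.quadFormOdd m F ∘ Std.lin e := funext fun v => by
    simp [Q', ← hQ₁]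
  have hpol : ∀ x y : Unit ⊕ (Fin m ⊕ Fin m) → F, QuadraticMap.polar (Cfsg.quadFormOdd m F) x y =
      2 * x (.inl ()) * y (.inl ()) +
        ∑ i : Fin m, (x (.inr (.inl i)) * y (.inr (.inr i)) + x (.inr (.inr i)) * y (.inr (.inl i))) := by
    intro x y
    simp only [QuadraticMap.polar, Cfsg.quadFormOdd, Pi.add_apply, add_mul, mul_add, Finset.sum_add_distrib]
    rw [show (∑ i : Fin m, y (.inr (.inl i)) * x (.inr (.inr i))) =
      ∑ i : Fin m, x (.inr (.inr i)) * y (.inr (.inl i)) from Finset.sum_congr rfl fun i _ => mul_comm _ _]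
    ring
  have hnd : CfsgLib.Orth.Nondeg Q' := by
    intro x hx
    have hx' : ∀ y, QuadraticMap.polar (Cfsg.quadFormOdd m F) (Std.lin e x) y = 0 := fun y => by
      have := hx ((Std.lin e).symm y)
      rwa [hQ', Std.polar_lin, LinearEquiv.apply_symm_apply] at this
    refine (Std.lin e).map_eq_zero_iff.1 (funext fun i => ?_)
    rcases i with ⟨⟩ | i | i
    · have h := hx' (Pi.single (.inl ()) 1)
      rw [hpol] at h
      simp [Pi.single_apply] at h
      exact h.resolve_left h2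
    · have h := hx' (Pi.single (.inr (.inr i)) 1)
      rw [hpol] at h
      simpa [Pi.single_apply] using h
    · have h := hx' (Pi.single (.inr (.inl i)) 1)
      rw [hpol] at h
      simpa [Pi.single_apply] using h
  have hgram : ∀ (F₁ : Subfield F) i j,
      QuadraticMap.polar ⇑Q' (Pi.single i 1) (Pi.single j 1) ∈ F₁ := by
    intro F₁ i j
    have hs : ∀ (i : Fin (2 * m + 1)) k, Std.lin e (Pi.single i (1 : F)) k ∈ F₁ := fun i k => by
      rw [Std.lin_apply, Pi.single_apply]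
      split
      exacts [F₁.one_mem, F₁.zero_mem]
    rw [hQ', Std.polar_lin, hpol]
    refine F₁.add_mem (F₁.mul_mem (F₁.mul_mem ?_ (hs _ _)) (hs _ _)) (F₁.sum_mem fun k _ => F₁.add_mem
      (F₁.mul_mem (hs _ _) (hs _ _)) (F₁.mul_mem (hs _ _) (hs _ _)))
    rw [← one_add_one_eq_two]
    exact F₁.add_mem F₁.one_mem F₁.one_mem
  have hH' := Std.isMaximalIn_map e hH
  rw [Std.omega_map, ← hQ'] at hH'
  rcases orth_cases hn (by omega) hodd hnd hgram hH' with ⟨W, h0, hW, hE⟩ | ⟨W, h0, he, hW, hx, hE⟩ |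
      ⟨hp, D, hD, hE⟩ | ⟨F₀, r, P, hr, hcard, hrat, hE⟩ | h
  · rw [hQ', ← Std.omega_map] at hE
    refine Or.inl ⟨W.map (Std.lin e).toLinearMap, fun h => h0 (Submodule.map_eq_bot_iff.1 h), ?_,
      Std.eq_inf_of_map e (Std.stab_iff e) hE⟩
    rintro _ ⟨w, hw, rfl⟩
    have := hW w hw
    rwa [hQ'] at this
  · rw [hQ', ← Std.omega_map] at hE
    rw [hQ'] at hW hx
    refine Or.inr (Or.inl ⟨W.map (Std.lin e).toLinearMap, fun h => h0 (Submodule.map_eq_bot_iff.1 h), ?_,
      Std.nondegOn_map e hW, ?_, Std.eq_inf_of_map e (Std.stab_iff e) hE⟩)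
    · rwa [LinearEquiv.finrank_map_eq]
    · rintro ⟨h3, hd, hpl⟩
      rw [LinearEquiv.finrank_map_eq] at hd
      exact hx ⟨h3, hd, Std.plusType_of_map e hpl⟩
  · rw [hQ', ← Std.omega_map] at hE
    rw [hQ'] at hD
    exact Or.inr (Or.inr (Or.inl ⟨hp, _, Std.orthogonalMDecomposition_map e hD,
      Std.eq_inf_of_map e (Std.decomp_iff e) hE⟩))
  · rw [hQ', ← Std.omega_map] at hE
    rw [hQ'] at hrat
    obtain ⟨P, rfl⟩ := (Cfsg.Geo.glReindex e (F := F)).surjective P
    exact Or.inr (Or.inr (Or.inr (Or.inl ⟨F₀, r, P, hr, hcard, Std.rational_map e hrat,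
      Std.eq_inf_of_map e (fun g => by rw [← Std.subfield_map, Std.mem_map]) hE⟩)))
  · exact Or.inr (Or.inr (Or.inr (Or.inr (Std.residual_of_map e h))))

end CfsgLib.PrimeDim
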