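import Mathlib
import Cfsg.Agent.Lib.Classical.NilpotentClasses
import Cfsg.Agent.Lib.Unipotent.Order

/-!
Unipotent classes of the general linear group and partitions, with the nilpotency bound.
-/

set_option autoImplicit false
set_option linter.style.haveILetI false

namespace CfsgLib.Classical.UnipotentClasses

/-- Representatives of the unipotent classes, indexed by partitions. -/
theorem exists_reps (F : Type*) [Field F] [Fintype F] (p : ℕ) [Fact p.Prime] [CharP F p] (n : ℕ) :
    ∃ u : Nat.Partition n → Matrix.GeneralLinearGroup (Fin n) F,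
      (∀ P Q, IsConj (u P) (u Q) → P = Q) ∧
      (∀ (g : Matrix.GeneralLinearGroup (Fin n) F) (j : ℕ), orderOf g = p ^ j → ∃ P, IsConj (u P) g) ∧
      ∀ P k, ((u P : Matrix (Fin n) (Fin n) F) - 1) ^ k = 0 ↔ ∀ a ∈ P.parts, a ≤ k := by
  classical
  -- chain lengths of a partition, and a model for it
  let lens : (P : Nat.Partition n) → Fin P.parts.toList.length → ℕ := fun P i => P.parts.toList.get i
  have hmap : ∀ P, Finset.univ.val.map (lens P) = P.parts := fun P => by
    rw [Fin.univ_val_map, List.ofFn_get, Multiset.coe_toList]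
  have hsum : ∀ P, ∑ i, lens P i = n := fun P => by
    rw [Finset.sum_eq_multiset_sum, hmap, P.parts_sum]
  choose f hf hC using fun P => CfsgLib.NilClasses.exists_model (F := F) (lens P) (hsum P)
  have hu : ∀ P, IsUnit (1 + LinearMap.toMatrix' (f P)) := fun P =>
    IsNilpotent.isUnit_one_add ((hf P).map LinearMap.toMatrixAlgEquiv')
  have hord : ∀ P, ∃ k : ℕ, orderOf (hu P).unit = p ^ k := fun P => by
    have h1 : (hu P).unit ^ p ^ n = 1 := by
      rw [CfsgLib.Unipotent.pow_eq_one_iff p, IsUnit.unit_spec, add_sub_cancel_left]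
      exact pow_eq_zero_of_le (Nat.lt_pow_self (Fact.out : p.Prime).one_lt).le
        (CfsgLib.Unipotent.pow_card_eq_zero ((hf P).map LinearMap.toMatrixAlgEquiv'))
    obtain ⟨j, -, hj⟩ := (Nat.dvd_prime_pow Fact.out).1 (orderOf_dvd_of_pow_eq_one h1)
    exact ⟨j, hj⟩
  refine ⟨fun P => (hu P).unit, ?_, ?_, ?_⟩
  · intro P Q e
    obtain ⟨c, hc⟩ := isConj_iff.1 e
    have hrel : LinearMap.toMatrix' (f Q) = (c : Matrix (Fin n) (Fin n) F) * LinearMap.toMatrix' (f P) *
        ((c⁻¹ : Matrix.GeneralLinearGroup (Fin n) F) : Matrix (Fin n) (Fin n) F) := by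
      have h1 := congrArg Units.val hc
      rw [Units.val_mul, Units.val_mul, IsUnit.unit_spec, IsUnit.unit_spec, mul_add, add_mul,
        mul_one, Units.mul_inv, add_right_inj] at h1
      exact h1.symm
    have hrk : ∀ (R : Nat.Partition n) (k : ℕ),
        (LinearMap.toMatrix' (f R) ^ k).rank = (R.parts.map fun x => x - k).sum := by
      intro R k
      obtain ⟨C⟩ := hC R
      rw [show LinearMap.toMatrix' (f R) ^ k = LinearMap.toMatrix' (f R ^ k) from
          (map_pow LinearMap.toMatrixAlgEquiv' (f R) k).symm, Matrix.rank, ← Matrix.toLin'_apply',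
        Matrix.toLin'_toMatrix', C.finrank_range_pow]
      conv_rhs => rw [← hmap R]
      rw [Multiset.map_map, Finset.sum_eq_multiset_sum]
      rfl
    refine Nat.Partition.ext (CfsgLib.NilClasses.multiset_eq_of_sums (fun x hx => P.parts_pos hx)
      (fun x hx => Q.parts_pos hx) fun k => ?_)
    rw [← hrk, ← hrk, hrel, Units.conj_pow,
      Matrix.rank_mul_eq_left_of_isUnit_det _ _ ((Matrix.isUnit_iff_isUnit_det _).1 (c⁻¹).isUnit),
      Matrix.rank_mul_eq_right_of_isUnit_det _ _ ((Matrix.isUnit_iff_isUnit_det _).1 c.isUnit)]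
  · intro g j hj
    have hnil := CfsgLib.Unipotent.isNilpotent_of_orderOf p hj
    set N := (g : Matrix (Fin n) (Fin n) F) - 1 with hN
    have hnil' : IsNilpotent (Matrix.toLin' N) := hnil.map Matrix.toLinAlgEquiv'
    obtain ⟨ι, hι, μ, hμ, ⟨D⟩⟩ :=
      CfsgLib.NilClasses.exists_chains n (Matrix.toLin' N) (Module.finrank_fin_fun F) hnil'
    have hμn : ∑ i, μ i = n := by
      have h1 := Module.finrank_eq_card_basis D.b
      rw [Module.finrank_fin_fun, Fintype.card_sigma] at h1
      simpa using h1.symm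
    let P : Nat.Partition n := ⟨Finset.univ.val.map μ, by
      intro i hi
      obtain ⟨a, -, rfl⟩ := Multiset.mem_map.1 hi
      exact hμ a, by rw [← Finset.sum_eq_multiset_sum, hμn]⟩
    obtain ⟨C⟩ := hC P
    obtain ⟨e, he⟩ := CfsgLib.NilClasses.exists_intertwine C D (hmap P)
    refine ⟨P, isConj_iff.2 ?_⟩
    let c : Matrix.GeneralLinearGroup (Fin n) F :=
      ⟨LinearMap.toMatrix' (e : (Fin n → F) →ₗ[F] (Fin n → F)),
        LinearMap.toMatrix' (e.symm : (Fin n → F) →ₗ[F] (Fin n → F)),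
        by rw [← LinearMap.toMatrix'_comp, ← LinearMap.toMatrix'_id]; congr 1; ext; simp,
        by rw [← LinearMap.toMatrix'_comp, ← LinearMap.toMatrix'_id]; congr 1; ext; simp⟩
    refine ⟨c, mul_inv_eq_iff_eq_mul.2 (Units.ext ?_)⟩
    have hkey : LinearMap.toMatrix' (e : (Fin n → F) →ₗ[F] (Fin n → F)) * LinearMap.toMatrix' (f P) =
        N * LinearMap.toMatrix' (e : (Fin n → F) →ₗ[F] (Fin n → F)) := by
      rw [← LinearMap.toMatrix'_comp, show (e : (Fin n → F) →ₗ[F] (Fin n → F)) ∘ₗ f P =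
        Matrix.toLin' N ∘ₗ (e : (Fin n → F) →ₗ[F] (Fin n → F)) from LinearMap.ext he,
        LinearMap.toMatrix'_comp, LinearMap.toMatrix'_toLin']
    rw [Units.val_mul, Units.val_mul, IsUnit.unit_spec, mul_add, mul_one,
      show (c : Matrix (Fin n) (Fin n) F) = LinearMap.toMatrix' (e : (Fin n → F) →ₗ[F] (Fin n → F)) from rfl,
      hkey, hN, sub_mul, one_mul, add_sub_cancel]
  · intro P k
    obtain ⟨C⟩ := hC P
    rw [IsUnit.unit_spec, add_sub_cancel_left,
      show LinearMap.toMatrix' (f P) ^ k = LinearMap.toMatrix' (f P ^ k) from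
        (map_pow LinearMap.toMatrixAlgEquiv' (f P) k).symm, LinearEquiv.map_eq_zero_iff]
    constructor
    · intro h a ha
      have h1 := C.finrank_range_pow k
      rw [h, LinearMap.range_zero, finrank_bot] at h1
      rw [← hmap P] at ha
      obtain ⟨i, -, rfl⟩ := Multiset.mem_map.1 ha
      have h2 := (Finset.sum_eq_zero_iff.1 h1.symm) i (Finset.mem_univ i)
      exact Nat.sub_eq_zero_iff_le.1 h2
    · intro h
      refine C.b.ext fun q => ?_
      obtain ⟨i, j⟩ := q
      have hi : lens P i ≤ k := h _ (by rw [← hmap P]; exact Multiset.mem_map_of_mem _ (Finset.mem_univ i))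
      rw [C.pow_apply, dif_neg (by omega), LinearMap.zero_apply]

/-- The classes of elements with `(g - 1) ^ k = 0`. -/
theorem card_classes (F : Type*) [Field F] [Fintype F] (p : ℕ) [Fact p.Prime] [CharP F p] (n k : ℕ) :
    Nat.card {C : ConjClasses (Matrix.GeneralLinearGroup (Fin n) F) //
      ∃ g : Matrix.GeneralLinearGroup (Fin n) F, ConjClasses.mk g = C ∧
        ((g : Matrix (Fin n) (Fin n) F) - 1) ^ k = 0} =
      (Finset.univ.filter (fun μ : Nat.Partition n => ∀ a ∈ μ.parts, a ≤ k)).card := by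
  classical
  obtain ⟨u, hinj, hsurj, hnil⟩ := exists_reps F p n
  rw [← Fintype.card_subtype, ← Nat.card_eq_fintype_card]
  refine (Nat.card_eq_of_bijective (fun P : {μ : Nat.Partition n // ∀ a ∈ μ.parts, a ≤ k} =>
    (⟨ConjClasses.mk (u P.1), u P.1, rfl, (hnil _ _).2 P.2⟩ :
    {C : ConjClasses (Matrix.GeneralLinearGroup (Fin n) F) //
      ∃ g : Matrix.GeneralLinearGroup (Fin n) F, ConjClasses.mk g = C ∧
        ((g : Matrix (Fin n) (Fin n) F) - 1) ^ k = 0})) ⟨?_, ?_⟩).symm
  · intro P Q e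
    exact Subtype.ext (hinj _ _ (ConjClasses.mk_eq_mk_iff_isConj.1 (congrArg Subtype.val e)))
  · rintro ⟨C, g, rfl, hg⟩
    have hN : IsNilpotent ((g : Matrix (Fin n) (Fin n) F) - 1) := ⟨k, hg⟩
    have h1 : g ^ p ^ n = 1 := (CfsgLib.Unipotent.pow_eq_one_iff p g n).2
      (pow_eq_zero_of_le (Nat.lt_pow_self (Fact.out : p.Prime).one_lt).le
        (CfsgLib.Unipotent.pow_card_eq_zero hN))
    obtain ⟨j, -, hj⟩ := (Nat.dvd_prime_pow Fact.out).1 (orderOf_dvd_of_pow_eq_one h1)
    obtain ⟨P, hP⟩ := hsurj g j hj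
    refine ⟨⟨P, (hnil P k).1 ?_⟩, Subtype.ext (ConjClasses.mk_eq_mk_iff_isConj.2 hP)⟩
    obtain ⟨c, hc⟩ := isConj_iff.1 hP.symm
    rw [← hc, Units.val_mul, Units.val_mul,
      show (c : Matrix (Fin n) (Fin n) F) * (g : Matrix (Fin n) (Fin n) F) *
        ((c⁻¹ : Matrix.GeneralLinearGroup (Fin n) F) : Matrix (Fin n) (Fin n) F) - 1 =
        (c : Matrix (Fin n) (Fin n) F) * ((g : Matrix (Fin n) (Fin n) F) - 1) *
        ((c⁻¹ : Matrix.GeneralLinearGroup (Fin n) F) : Matrix (Fin n) (Fin n) F) by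
        rw [mul_sub, sub_mul, mul_one, Units.mul_inv], Units.conj_pow, hg, mul_zero, zero_mul]

/-- Classes of elements of order `p`. -/
theorem card_order_p (F : Type*) [Field F] [Fintype F] (p : ℕ) [Fact p.Prime] [CharP F p] (n : ℕ) :
    Nat.card {C : ConjClasses (Matrix.GeneralLinearGroup (Fin n) F) //
      ∃ g : Matrix.GeneralLinearGroup (Fin n) F, ConjClasses.mk g = C ∧ orderOf g = p} =
      (Finset.univ.filter (fun μ : Nat.Partition n => ∀ a ∈ μ.parts, a ≤ p)).card - 1 := by
  classical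
  rw [← card_classes F p n p]
  have key : ∀ g : Matrix.GeneralLinearGroup (Fin n) F,
      g ^ p = 1 ↔ ((g : Matrix (Fin n) (Fin n) F) - 1) ^ p = 0 := fun g => by
    simpa using CfsgLib.Unipotent.pow_eq_one_iff p g 1
  set S := {C : ConjClasses (Matrix.GeneralLinearGroup (Fin n) F) |
    ∃ g : Matrix.GeneralLinearGroup (Fin n) F, ConjClasses.mk g = C ∧
      ((g : Matrix (Fin n) (Fin n) F) - 1) ^ p = 0}
  have h1S : ConjClasses.mk 1 ∈ S := ⟨1, rfl, (key 1).1 (one_pow p)⟩
  have e : {C : ConjClasses (Matrix.GeneralLinearGroup (Fin n) F) |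
      ∃ g : Matrix.GeneralLinearGroup (Fin n) F, ConjClasses.mk g = C ∧ orderOf g = p} =
      S \ {ConjClasses.mk 1} := by
    ext C
    constructor
    · rintro ⟨g, rfl, hg⟩
      refine ⟨⟨g, rfl, (key g).1 (by rw [← hg, pow_orderOf_eq_one])⟩, fun h => ?_⟩
      have h' := ConjClasses.mk_eq_mk_iff_isConj.1 (Set.mem_singleton_iff.1 h)
      rw [isConj_one_right.1 h'.symm, orderOf_one] at hg
      exact (Fact.out : p.Prime).ne_one hg.symm
    · rintro ⟨⟨g, rfl, hg⟩, hne⟩
      exact ⟨g, rfl, orderOf_eq_prime ((key g).2 hg) fun h => hne (by rw [h]; rfl)⟩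
  have h := congrArg Set.ncard e
  rw [Set.ncard_sdiff_singleton_of_mem h1S, ← Nat.card_coe_set_eq, ← Nat.card_coe_set_eq] at h
  exact h

end CfsgLib.Classical.UnipotentClasses
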