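import Cfsg.Agent.Lib.Classical.SimilarUnitary
import Cfsg.Agent.Lib.Classical.UnipotentClasses

/-!
Unipotent classes of the general unitary group.
-/

set_option autoImplicit false
set_option linter.style.haveILetI false

namespace CfsgLib.Classical.UnitaryUnipotent

open Matrix CfsgLib.Classical.RestrictScalars CfsgLib.Classical.UnitaryConj
open scoped MatrixGroups

variable {K : Type*} [Field K] [Fintype K] {n : ℕ}

theorem rank_map_aut (σ : K →+* K) (M : Matrix (Fin n) (Fin n) K) : (M.map σ).rank = M.rank := by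
  classical
  have hb : Function.Bijective σ := Finite.injective_iff_bijective.mp σ.injective
  let e : (Fin n → K) ≃ (Fin n → K) := Equiv.piCongrRight fun _ => Equiv.ofBijective σ hb
  have he : ∀ v, M.map σ *ᵥ (e v) = e (M *ᵥ v) := fun v => funext fun i => (RingHom.map_mulVec σ M v i).symm
  have hset : (LinearMap.range (M.map σ).mulVecLin : Set (Fin n → K)) =
      e '' (LinearMap.range M.mulVecLin : Set (Fin n → K)) := by
    ext y
    simp only [LinearMap.coe_range, Set.mem_range, Set.mem_image, exists_exists_eq_and, Matrix.mulVecLin_apply]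
    constructor
    · rintro ⟨v, rfl⟩
      obtain ⟨v, rfl⟩ := e.surjective v
      exact ⟨v, (he v).symm⟩
    · rintro ⟨v, rfl⟩
      exact ⟨e v, he v⟩
  have hc : Nat.card (LinearMap.range (M.map σ).mulVecLin) = Nat.card (LinearMap.range M.mulVecLin) := by
    rw [← SetLike.coe_sort_coe, hset, Nat.card_image_of_injective e.injective]
    rfl
  rw [Module.natCard_eq_pow_finrank (K := K) (V := LinearMap.range (M.map σ).mulVecLin),
    Module.natCard_eq_pow_finrank (K := K) (V := LinearMap.range M.mulVecLin)] at hc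
  exact Nat.pow_right_injective (Finite.one_lt_card : 1 < Nat.card K) hc

theorem isConj_of_rank {F : Type*} [Field F] [Finite F] (g h : GL (Fin n) F)
    (hg : IsNilpotent ((g : Matrix (Fin n) (Fin n) F) - 1)) (hh : IsNilpotent ((h : Matrix (Fin n) (Fin n) F) - 1))
    (hr : ∀ k, (((g : Matrix (Fin n) (Fin n) F) - 1) ^ k).rank = (((h : Matrix (Fin n) (Fin n) F) - 1) ^ k).rank) :
    IsConj g h := by
  classical
  set N := (g : Matrix (Fin n) (Fin n) F) - 1 with hN
  set M := (h : Matrix (Fin n) (Fin n) F) - 1 with hM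
  obtain ⟨ι, hι, μ, hμ, ⟨C⟩⟩ :=
    CfsgLib.NilClasses.exists_chains n (Matrix.toLin' N) (Module.finrank_fin_fun F) (hg.map Matrix.toLinAlgEquiv')
  obtain ⟨κ, hκ, ν, hν, ⟨D⟩⟩ :=
    CfsgLib.NilClasses.exists_chains n (Matrix.toLin' M) (Module.finrank_fin_fun F) (hh.map Matrix.toLinAlgEquiv')
  have hk : ∀ (A : Matrix (Fin n) (Fin n) F) (k : ℕ), (A ^ k).rank =
      Module.finrank F (LinearMap.range (Matrix.toLin' A ^ k)) := fun A k => by
    rw [Matrix.rank, ← Matrix.toLin'_apply', ← Matrix.toLin'_pow]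
  have hm : Finset.univ.val.map μ = Finset.univ.val.map ν := by
    refine CfsgLib.NilClasses.multiset_eq_of_sums ?_ ?_ fun k => ?_
    · intro x hx; obtain ⟨i, -, rfl⟩ := Multiset.mem_map.1 hx; exact hμ i
    · intro x hx; obtain ⟨i, -, rfl⟩ := Multiset.mem_map.1 hx; exact hν i
    · have := hr k
      rw [hk, hk, C.finrank_range_pow, D.finrank_range_pow] at this
      rw [Finset.sum_eq_multiset_sum, Finset.sum_eq_multiset_sum] at this
      rw [Multiset.map_map, Multiset.map_map]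
      exact this
  obtain ⟨e, he⟩ := CfsgLib.NilClasses.exists_intertwine C D hm
  let c : GL (Fin n) F :=
    ⟨LinearMap.toMatrix' (e : (Fin n → F) →ₗ[F] (Fin n → F)),
      LinearMap.toMatrix' (e.symm : (Fin n → F) →ₗ[F] (Fin n → F)),
      by rw [← LinearMap.toMatrix'_comp, ← LinearMap.toMatrix'_id]; congr 1; ext; simp,
      by rw [← LinearMap.toMatrix'_comp, ← LinearMap.toMatrix'_id]; congr 1; ext; simp⟩
  refine isConj_iff.2 ⟨c, mul_inv_eq_iff_eq_mul.2 (Units.ext ?_)⟩
  have hkey : (c : Matrix (Fin n) (Fin n) F) * N = M * (c : Matrix (Fin n) (Fin n) F) := by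
    apply Matrix.toLin'.injective
    rw [Matrix.toLin'_mul, Matrix.toLin'_mul]
    show Matrix.toLin' (LinearMap.toMatrix' _) ∘ₗ _ = _ ∘ₗ Matrix.toLin' (LinearMap.toMatrix' _)
    rw [Matrix.toLin'_toMatrix']
    exact LinearMap.ext he
  rw [hN, hM, mul_sub, sub_mul, mul_one, one_mul, sub_left_inj] at hkey
  simpa using hkey

theorem exists_gu_conj {q : ℕ} (hK : Fintype.card K = q ^ 2) (g : GL (Fin n) K)
    (hg : IsNilpotent ((g : Matrix (Fin n) (Fin n) K) - 1)) :
    ∃ B : ↥(Cfsg.GU n K q), IsConj g (B : GL (Fin n) K) := by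
  classical
  obtain ⟨F, _, _, hF⟩ := exists_field_of_card_sq hK
  obtain ⟨a, b, hab⟩ := exists_ab (F := F)
  obtain ⟨fr⟩ := exists_Frame hF hK a b hab
  refine (SimilarUnitary.similar_unitary_iff hK g).mpr ?_
  have hrhs : (((g : Matrix (Fin n) (Fin n) K).map (fun x : K => x ^ q)).transpose)⁻¹ =
      (((adjU fr.σ g)⁻¹ : GL (Fin n) K) : Matrix (Fin n) (Fin n) K) := by
    rw [Matrix.coe_units_inv]
    congr 2
    ext i j
    exact (fr.σ_eq _).symm
  rw [hrhs]
  suffices h' : IsConj g (adjU fr.σ g)⁻¹ from (Units.coeHom (Matrix (Fin n) (Fin n) K)).map_isConj h'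
  set N := (g : Matrix (Fin n) (Fin n) K) - 1 with hN
  set gi := ((g⁻¹ : GL (Fin n) K) : Matrix (Fin n) (Fin n) K)
  have hgi : gi - 1 = (-gi) * N := by
    rw [hN, mul_sub, mul_one, neg_mul, Units.inv_mul]
    abel
  have hcomm : Commute (-gi) N := by
    have h1 : Commute gi (g : Matrix (Fin n) (Fin n) K) := by
      rw [Commute, SemiconjBy, Units.inv_mul, Units.mul_inv]
    exact (h1.neg_left).sub_right (Commute.one_right _)
  have hpow : ∀ k, (gi - 1) ^ k = (-gi) ^ k * N ^ k := fun k => by rw [hgi, hcomm.mul_pow]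
  have hadj : ∀ _k : ℕ, (((adjU fr.σ g)⁻¹ : GL (Fin n) K) : Matrix (Fin n) (Fin n) K) - 1 = adj fr.σ (gi - 1) := by
    intro k
    rw [← adjU_inv]
    ext i j
    by_cases hij : i = j <;> simp [adjU, adj, gi, Matrix.one_apply, hij, Ne.symm]
  have hadjpow : ∀ (M : Matrix (Fin n) (Fin n) K) (k : ℕ), adj fr.σ M ^ k = adj fr.σ (M ^ k) := by
    intro M k
    induction k with
    | zero => rw [pow_zero, pow_zero, adj_one]
    | succ k ih => rw [pow_succ, ih, pow_succ', adj_mul]
  refine isConj_of_rank _ _ hg ?_ fun k => ?_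
  · obtain ⟨m, hm⟩ := hg
    refine ⟨m, ?_⟩
    rw [hadj 0, hadjpow, hpow, hm, mul_zero]
    ext i j; simp [adj]
  · rw [hadj 0, hadjpow, adj, Matrix.rank_transpose, rank_map_aut, hpow,
      Matrix.rank_mul_eq_right_of_isUnit_det]
    rw [← Matrix.isUnit_iff_isUnit_det]
    exact ((g⁻¹ : GL (Fin n) K).isUnit.neg).pow k

theorem card_order_p {q p : ℕ} [Fact p.Prime] [CharP K p] (hK : Fintype.card K = q ^ 2) :
    Nat.card {C : ConjClasses ↥(Cfsg.GU n K q) // ∃ g : ↥(Cfsg.GU n K q), ConjClasses.mk g = C ∧ orderOf g = p} =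
      (Finset.univ.filter (fun μ : Nat.Partition n => ∀ a ∈ μ.parts, a ≤ p)).card - 1 := by
  classical
  rw [← UnipotentClasses.card_order_p K p n]
  refine Nat.card_eq_of_bijective (fun C => (⟨ConjClasses.map (Cfsg.GU n K q).subtype C.1, ?_⟩ :
    {C : ConjClasses (GL (Fin n) K) // ∃ g, ConjClasses.mk g = C ∧ orderOf g = p})) ⟨?_, ?_⟩
  · obtain ⟨g, hg, ho⟩ := C.2
    exact ⟨(g : GL (Fin n) K), by rw [← hg]; rfl, by rw [← ho, Subgroup.orderOf_coe]⟩
  · rintro ⟨C, g, rfl, hg⟩ ⟨D, h, rfl, hh⟩ e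
    refine Subtype.ext (ConjClasses.mk_eq_mk_iff_isConj.mpr ((gu_isConj_iff hK g h).mpr ?_))
    exact ConjClasses.mk_eq_mk_iff_isConj.mp (congrArg Subtype.val e)
  · rintro ⟨C, g, rfl, hg⟩
    obtain ⟨B, hB⟩ := exists_gu_conj hK g
      (CfsgLib.Unipotent.isNilpotent_of_orderOf p (j := 1) (by rw [pow_one]; exact hg))
    have hoB : orderOf B = p := by
      obtain ⟨c, hc⟩ := isConj_iff.mp hB
      rw [← Subgroup.orderOf_coe, ← hc]
      exact (orderOf_injective (MulAut.conj c).toMonoidHom (MulAut.conj c).injective g).trans hg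
    exact ⟨⟨ConjClasses.mk B, B, rfl, hoB⟩, Subtype.ext (ConjClasses.mk_eq_mk_iff_isConj.mpr hB.symm)⟩

end CfsgLib.Classical.UnitaryUnipotent
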