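import Cfsg.Agent.Lib.Classical.UnitarySemisimple
import Cfsg.Agent.Lib.Classical.UnitaryUnipotent
import Cfsg.Agent.Lib.Classical.RegularUnipotent

/-!
Splitting of unitary classes in the special unitary group, applied to regular unipotent elements and
to involutions in characteristic two.
-/

set_option autoImplicit false
set_option linter.style.haveILetI false
set_option maxHeartbeats 800000

namespace CfsgLib.Classical.UnitaryDetClasses

open Matrix CfsgLib.Classical.RestrictScalars CfsgLib.Classical.UnitaryConj CfsgLib.Classical.UnitarySemisimple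
open scoped MatrixGroups

/-- The classes of a kernel inside a class of the whole group. -/
theorem card_classes_in {S G U : Type*} [Group S] [Group G] [CommGroup U] (ι : S →* G) (δ : G →* U)
    (hι : Function.Injective ι) (hker : ∀ g, δ g = 1 ↔ g ∈ ι.range) (hδ : Function.Surjective δ) (x : G)
    (hx : δ x = 1) :
    Nat.card {C : ConjClasses S // ∃ u : S, ConjClasses.mk u = C ∧ IsConj x (ι u)} =
      ((Subgroup.centralizer ({x} : Set G)).map δ).index := by
  classical
  set H := (Subgroup.centralizer ({x} : Set G)).map δ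
  choose d hd using hδ
  have hw : ∀ e, ∃ u : S, ι u = d e * x * (d e)⁻¹ := fun e => (hker _).mp (by simp [hx, hd])
  choose w hw using hw
  have hiff : ∀ e e', IsConj (w e) (w e') ↔ e⁻¹ * e' ∈ H := by
    intro e e'
    constructor
    · intro h
      obtain ⟨s, hs⟩ := isConj_iff.mp h
      have hs' := congrArg ι hs
      simp only [map_mul, map_inv, hw] at hs'
      refine ⟨(d e)⁻¹ * (ι s)⁻¹ * d e', Subgroup.mem_centralizer_singleton_iff.mpr ?_, ?_⟩
      · calc (d e)⁻¹ * (ι s)⁻¹ * d e' * x = (d e)⁻¹ * (ι s)⁻¹ * (d e' * x * (d e')⁻¹) * d e' := by group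
          _ = x * ((d e)⁻¹ * (ι s)⁻¹ * d e') := by rw [← hs']; group
      · rw [map_mul, map_mul, map_inv, map_inv, (hker (ι s)).mpr ⟨s, rfl⟩, hd, hd, inv_one, mul_one]
    · rintro ⟨z, hz, hze⟩
      have hz' := Subgroup.mem_centralizer_singleton_iff.mp hz
      obtain ⟨s, hs⟩ := (hker (d e' * z⁻¹ * (d e)⁻¹)).mp (by
        rw [map_mul, map_mul, map_inv, map_inv, hd, hd, hze]; group)
      refine isConj_iff.mpr ⟨s, hι ?_⟩
      rw [map_mul, map_mul, map_inv, hw, hw, hs]
      calc d e' * z⁻¹ * (d e)⁻¹ * (d e * x * (d e)⁻¹) * (d e' * z⁻¹ * (d e)⁻¹)⁻¹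
          = d e' * (z⁻¹ * (x * z)) * (d e')⁻¹ := by group
        _ = d e' * x * (d e')⁻¹ := by rw [← hz', inv_mul_cancel_left]
  let φ : U ⧸ H → {C : ConjClasses S // ∃ u : S, ConjClasses.mk u = C ∧ IsConj x (ι u)} :=
    Quotient.lift (fun e => ⟨ConjClasses.mk (w e), w e, rfl, isConj_iff.mpr ⟨d e, (hw e).symm⟩⟩) fun e e' h =>
      Subtype.ext (ConjClasses.mk_eq_mk_iff_isConj.mpr ((hiff e e').mpr (QuotientGroup.leftRel_apply.mp h)))
  have hφ : Function.Bijective φ := by
    constructor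
    · intro a b
      induction a using QuotientGroup.induction_on
      induction b using QuotientGroup.induction_on
      intro h
      exact QuotientGroup.eq.mpr ((hiff _ _).mp (ConjClasses.mk_eq_mk_iff_isConj.mp (congrArg Subtype.val h)))
    · rintro ⟨C, u, rfl, hu⟩
      obtain ⟨g, hg⟩ := isConj_iff.mp hu
      refine ⟨QuotientGroup.mk (δ g), Subtype.ext (ConjClasses.mk_eq_mk_iff_isConj.mpr ?_)⟩
      obtain ⟨s, hs⟩ := (hker (g * (d (δ g))⁻¹)).mp (by rw [map_mul, map_inv, hd, mul_inv_cancel])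
      refine isConj_iff.mpr ⟨s, hι ?_⟩
      rw [map_mul, map_mul, map_inv, hw, hs, ← hg]
      group
  rw [← Nat.card_congr (Equiv.ofBijective φ hφ)]
  rfl

variable {K : Type*} [Field K] [Fintype K] {p : ℕ} [hp : Fact p.Prime] [CharP K p] {n : ℕ}
variable {F : Type*} [Field F] [Fintype F] {q : ℕ} {a b : F}

omit [Fintype F] hp [CharP K p] in
theorem det_mem (fr : Frame F K q a b) {g : GL (Fin n) K} (hg : g ∈ Cfsg.GU n K q) :
    Matrix.GeneralLinearGroup.det g ∈ (powMonoidHom (q + 1) : Kˣ →* Kˣ).ker := by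
  apply Units.ext
  have h1 := congrArg (fun z : GL (Fin n) K => (z : Matrix (Fin n) (Fin n) K).det)
    ((mem_gu_iff fr.σ fr.σ_eq fr.σσ g).mp hg)
  simp only [Units.val_mul, Units.val_one, Matrix.det_mul, Matrix.det_one] at h1
  have e : ((adjU fr.σ g : GL (Fin n) K) : Matrix (Fin n) (Fin n) K) = ((g : Matrix (Fin n) (Fin n) K).map fr.σ)ᵀ := rfl
  rw [e, Matrix.det_transpose, ← RingHom.mapMatrix_apply, ← RingHom.map_det, fr.σ_eq, ← pow_succ] at h1
  rw [powMonoidHom_apply, Units.val_pow_eq_pow_val, Matrix.GeneralLinearGroup.val_det_apply, Units.val_one]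
  exact h1

omit [Fintype F] hp [CharP K p] in
theorem norm_one_iff (fr : Frame F K q a b) (e : Kˣ) :
    e ∈ (powMonoidHom (q + 1) : Kˣ →* Kˣ).ker ↔ fr.σ (e : K) * e = 1 := by
  rw [MonoidHom.mem_ker, powMonoidHom_apply, ← Units.val_inj, Units.val_pow_eq_pow_val, fr.σ_eq, ← pow_succ,
    Units.val_one]

/-- The determinant of a unitary matrix. -/
noncomputable def detU (fr : Frame F K q a b) (n : ℕ) :
    ↥(Cfsg.GU n K q) →* ↥(powMonoidHom (q + 1) : Kˣ →* Kˣ).ker :=
  (Matrix.GeneralLinearGroup.det.comp (Cfsg.GU n K q).subtype).codRestrict _ fun g => det_mem fr g.2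

/-- A diagonal unitary matrix. -/
theorem diag_mem (fr : Frame F K q a b) (c : Fin n → K) (hc : ∀ i, fr.σ (c i) * c i = 1) :
    ∃ g : GL (Fin n) K, g ∈ Cfsg.GU n K q ∧ (g : Matrix (Fin n) (Fin n) K) = Matrix.diagonal c := by
  have hne : ∀ i, c i ≠ 0 := fun i h => by simpa [h] using hc i
  refine ⟨Matrix.GeneralLinearGroup.mkOfDetNeZero (Matrix.diagonal c)
    (by rw [Matrix.det_diagonal]; exact Finset.prod_ne_zero_iff.mpr fun i _ => hne i), ?_, rfl⟩
  rw [mem_gu_iff fr.σ fr.σ_eq fr.σσ]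
  apply Units.ext
  show ((Matrix.diagonal c).map fr.σ)ᵀ * Matrix.diagonal c = 1
  rw [Matrix.diagonal_map (map_zero _), Matrix.diagonal_transpose, Matrix.diagonal_mul_diagonal]
  simp [hc]

theorem detU_surjective (fr : Frame F K q a b) (hn : 1 ≤ n) : Function.Surjective (detU fr n) := by
  rintro ⟨e, he⟩
  obtain ⟨g, hg, hgv⟩ := diag_mem fr (Function.update (fun _ : Fin n => (1 : K)) ⟨0, hn⟩ (e : K)) (fun i => by
    by_cases h : i = ⟨0, hn⟩
    · subst h; simpa using (norm_one_iff fr e).mp he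
    · simp [h])
  refine ⟨⟨g, hg⟩, Subtype.ext (Units.ext ?_)⟩
  show (g : Matrix (Fin n) (Fin n) K).det = e
  rw [hgv, Matrix.det_diagonal, Finset.prod_update_of_mem (Finset.mem_univ _)]
  simp

theorem detU_eq_one_iff (fr : Frame F K q a b) (g : ↥(Cfsg.GU n K q)) :
    detU fr n g = 1 ↔ g ∈ (suIncl n K q).range := by
  constructor
  · intro h
    have hd : ((g : GL (Fin n) K) : Matrix (Fin n) (Fin n) K).det = 1 := congrArg (fun z => ((z.1 : Kˣ) : K)) h
    let s : Matrix.SpecialLinearGroup (Fin n) K := ⟨_, hd⟩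
    have hs : Matrix.SpecialLinearGroup.toGL s = g.1 := Units.ext rfl
    have hsm : s ∈ Cfsg.SU n K q := by
      have h1 : Matrix.SpecialLinearGroup.toGL s ∈ Cfsg.GU n K q := hs ▸ g.2
      exact h1
    exact ⟨⟨s, hsm⟩, Subtype.ext hs⟩
  · rintro ⟨s, rfl⟩
    exact Subtype.ext (Units.ext s.1.2)

theorem card_norm_one (hK : Fintype.card K = q ^ 2) :
    Nat.card ↥(powMonoidHom (q + 1) : Kˣ →* Kˣ).ker = q + 1 := by
  rw [IsCyclic.card_powMonoidHom_ker, Nat.card_units, Nat.card_eq_fintype_card, hK]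
  apply Nat.gcd_eq_right
  exact ⟨q - 1, by rw [← Nat.sq_sub_sq, one_pow]⟩

theorem det_unipotent {g : GL (Fin n) K} {k : ℕ} (h : ((g : Matrix (Fin n) (Fin n) K) - 1) ^ k = 0) :
    (g : Matrix (Fin n) (Fin n) K).det = 1 := by
  obtain ⟨p, hpc⟩ := CharP.exists K
  haveI hp : Fact p.Prime := ⟨CharP.char_is_prime K p⟩
  have h1 : g ^ p ^ k = 1 := (CfsgLib.Unipotent.pow_eq_one_iff p g k).2
    (pow_eq_zero_of_le (Nat.lt_pow_self hp.out.one_lt).le h)
  have h2 := congrArg (fun z : GL (Fin n) K => (z : Matrix (Fin n) (Fin n) K).det) h1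
  simp only [Units.val_pow_eq_pow_val, Matrix.det_pow, Units.val_one, Matrix.det_one] at h2
  exact iterateFrobenius_inj K p k (by simpa [iterateFrobenius_def] using h2)

theorem su_regular_unipotent_count (hK : Fintype.card K = q ^ 2) (hn : 1 ≤ n) :
    Nat.card {C : ConjClasses ↥(Cfsg.SU n K q) // ∃ u : ↥(Cfsg.SU n K q), ConjClasses.mk u = C ∧
      (((u : GL (Fin n) K) : Matrix (Fin n) (Fin n) K) - 1) ^ n = 0 ∧
      (((u : GL (Fin n) K) : Matrix (Fin n) (Fin n) K) - 1).rank = n - 1} = Nat.gcd n (q + 1) := by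
  classical
  obtain ⟨F, _, _, hF⟩ := exists_field_of_card_sq hK
  obtain ⟨a, b, hab⟩ := exists_ab (F := F)
  obtain ⟨fr⟩ := exists_Frame hF hK a b hab
  obtain ⟨p, hpc⟩ := CharP.exists K
  haveI hp : Fact p.Prime := ⟨CharP.char_is_prime K p⟩
  set N₀ := CfsgLib.Unipotent.shift K n
  have hN₀ : IsNilpotent N₀ := ⟨n, CfsgLib.Unipotent.shift_pow_card⟩
  have hu : IsUnit (1 + N₀) := hN₀.isUnit_one_add
  obtain ⟨⟨B, hB⟩, hBc⟩ := UnitaryUnipotent.exists_gu_conj hK hu.unit
    (by rw [IsUnit.unit_spec, add_sub_cancel_left]; exact hN₀)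
  have hrel : ∀ g : GL (Fin n) K, IsConj hu.unit g →
      ((g : Matrix (Fin n) (Fin n) K) - 1) ^ n = 0 ∧ ((g : Matrix (Fin n) (Fin n) K) - 1).rank = n - 1 := by
    intro g hg
    obtain ⟨c, hc⟩ := isConj_iff.mp hg
    rw [← hc, Units.val_mul, Units.val_mul, IsUnit.unit_spec, mul_add, add_mul, mul_one, Units.mul_inv,
      add_sub_cancel_left, Units.conj_pow, CfsgLib.Unipotent.shift_pow_card, mul_zero, zero_mul,
      Matrix.rank_mul_eq_left_of_isUnit_det _ _ ((Matrix.isUnit_iff_isUnit_det _).1 (c⁻¹).isUnit),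
      Matrix.rank_mul_eq_right_of_isUnit_det _ _ ((Matrix.isUnit_iff_isUnit_det _).1 c.isUnit),
      RegularUnipotent.shift_rank hn]
    exact ⟨rfl, rfl⟩
  obtain ⟨hBn, hBr⟩ := hrel B hBc
  have hconj : ∀ u : GL (Fin n) K, ((u : Matrix (Fin n) (Fin n) K) - 1) ^ n = 0 →
      ((u : Matrix (Fin n) (Fin n) K) - 1).rank = n - 1 → IsConj B u := by
    intro u h1 h2
    obtain ⟨c, hc⟩ := RegularUnipotent.exists_conj hn hBn hBr h1 h2
    refine isConj_iff.mpr ⟨c, mul_inv_eq_iff_eq_mul.mpr (Units.ext ?_)⟩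
    rw [mul_sub, sub_mul, mul_one, one_mul, sub_left_inj] at hc
    exact hc
  have hset : ∀ u : ↥(Cfsg.SU n K q),
      ((((u : GL (Fin n) K) : Matrix (Fin n) (Fin n) K) - 1) ^ n = 0 ∧
        (((u : GL (Fin n) K) : Matrix (Fin n) (Fin n) K) - 1).rank = n - 1) ↔
      IsConj (⟨B, hB⟩ : ↥(Cfsg.GU n K q)) (suIncl n K q u) := by
    intro u
    constructor
    · rintro ⟨h1, h2⟩
      exact (gu_isConj_iff hK _ _).mpr (hconj _ h1 h2)
    · intro h
      exact hrel _ (hBc.trans ((Cfsg.GU n K q).subtype.map_isConj h))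
  simp_rw [hset]
  rw [card_classes_in (suIncl n K q) (detU fr n) suIncl_injective (detU_eq_one_iff fr) (detU_surjective fr hn)
    ⟨B, hB⟩ (Subtype.ext (Units.ext (det_unipotent hBn)))]
  have hH : (Subgroup.centralizer ({⟨B, hB⟩} : Set ↥(Cfsg.GU n K q))).map (detU fr n) =
      (powMonoidHom n : ↥(powMonoidHom (q + 1) : Kˣ →* Kˣ).ker →* _).range := by
    ext e
    constructor
    · rintro ⟨⟨y, hy⟩, hyc, rfl⟩
      have hyB : y * B = B * y := congrArg Subtype.val (Subgroup.mem_centralizer_singleton_iff.mp hyc)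
      obtain ⟨m, rfl⟩ : ∃ m, n = m + 1 := ⟨n - 1, by omega⟩
      obtain ⟨v, Bas, hBas⟩ := RegularUnipotent.exists_cyclic hn hBn hBr
      obtain ⟨c, hc⟩ := RegularUnipotent.exists_comb_of_comm hBas (Z := (y : Matrix (Fin (m + 1)) (Fin (m + 1)) K)) (by
        rw [mul_sub, sub_mul, mul_one, one_mul, ← Units.val_mul, hyB, Units.val_mul])
      have hd : (y : Matrix (Fin (m + 1)) (Fin (m + 1)) K).det = c 0 ^ (m + 1) := by
        rw [← hc, RegularUnipotent.det_comb hBn]
      have hc0 : c 0 ≠ 0 := fun h => y.det_ne_zero (by rw [hd, h, zero_pow (by omega)])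
      set k := p ^ (m + 1)
      have hyk : (y : Matrix (Fin (m + 1)) (Fin (m + 1)) K) ^ k = c 0 ^ k • (1 : Matrix (Fin (m + 1)) (Fin (m + 1)) K) := by
        set M : Matrix (Fin (m + 1)) (Fin (m + 1)) K :=
          ∑ j : Fin m, c j.succ • ((B : Matrix (Fin (m + 1)) (Fin (m + 1)) K) - 1) ^ (j : ℕ)
        set N := (B : Matrix (Fin (m + 1)) (Fin (m + 1)) K) - 1
        have hcomb : RegularUnipotent.comb N c = c 0 • 1 + N * M := by
          rw [RegularUnipotent.comb, Fin.sum_univ_succ, Fin.val_zero, pow_zero, Finset.mul_sum]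
          congr 1
          exact Finset.sum_congr rfl fun j _ => by rw [Fin.val_succ, pow_succ', Matrix.mul_smul]
        have hcomm : Commute N M := Commute.sum_right _ _ _ fun j _ =>
          ((Commute.refl N).pow_right _).smul_right _
        rw [← hc, hcomb, add_pow_char_pow_of_commute p _ ((Commute.one_left _).smul_left _), hcomm.mul_pow,
          pow_eq_zero_of_le (Nat.lt_pow_self hp.out.one_lt).le hBn, zero_mul, add_zero, smul_pow, one_pow]
      have hN : fr.σ (c 0) * c 0 = 1 := by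
        have h1 : adjU fr.σ (y ^ k) * y ^ k = 1 := (mem_gu_iff fr.σ fr.σ_eq fr.σσ _).mp (pow_mem hy k)
        have h2 : adj fr.σ ((y : Matrix (Fin (m + 1)) (Fin (m + 1)) K) ^ k) *
            (y : Matrix (Fin (m + 1)) (Fin (m + 1)) K) ^ k = 1 := by
          rw [← Units.val_pow_eq_pow_val]
          exact congrArg Units.val h1
        rw [hyk, adj_smul, adj_one, smul_mul_assoc, one_mul, smul_smul, map_pow, ← mul_pow] at h2
        have h3 := congrFun (congrFun h2 0) 0
        simp at h3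
        exact iterateFrobenius_inj K p (m + 1) (by simpa [iterateFrobenius_def, mul_pow] using h3)
      refine ⟨⟨Units.mk0 (c 0) hc0, (norm_one_iff fr _).mpr hN⟩, Subtype.ext (Units.ext ?_)⟩
      exact hd.symm
    · rintro ⟨z, rfl⟩
      obtain ⟨g, hg, hgv⟩ := diag_mem fr (fun _ : Fin n => ((z.1 : Kˣ) : K)) (fun _ => (norm_one_iff fr _).mp z.2)
      refine ⟨⟨g, hg⟩, Subgroup.mem_centralizer_singleton_iff.mpr (Subtype.ext (Units.ext ?_)), Subtype.ext (Units.ext ?_)⟩
      · show (g : Matrix (Fin n) (Fin n) K) * (B : Matrix (Fin n) (Fin n) K) = (B : Matrix (Fin n) (Fin n) K) * (g : Matrix (Fin n) (Fin n) K)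
        rw [hgv]
        exact Matrix.scalar_commute ((z.1 : Kˣ) : K) (fun r' => mul_comm _ r') _
      · show (g : Matrix (Fin n) (Fin n) K).det = _
        rw [hgv, Matrix.det_diagonal, Finset.prod_const, Finset.card_univ, Fintype.card_fin]
        rfl
  rw [hH, IsCyclic.index_powMonoidHom_range, card_norm_one hK, Nat.gcd_comm]

/-- Pairing matrix. -/
def pairs (K : Type*) [Field K] (n r : ℕ) : Matrix (Fin n) (Fin n) K :=
  Matrix.of fun i j => if (i : ℕ) % 2 = 0 ∧ (i : ℕ) < 2 * r ∧ (j : ℕ) = i + 1 then 1 else 0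

theorem pairs_sq (n r : ℕ) : pairs K n r * pairs K n r = 0 := by
  ext i j
  rw [Matrix.mul_apply, Matrix.zero_apply]
  refine Finset.sum_eq_zero fun k _ => ?_
  simp only [pairs, Matrix.of_apply]
  split_ifs with h1 h2 <;> simp
  omega

theorem pairs_rank {n r : ℕ} (h : 2 * r ≤ n) : (pairs K n r).rank = r := by
  classical
  let f : Fin n → Fin n := fun i => if hi : (i : ℕ) < 2 * r then
    ⟨if (i : ℕ) % 2 = 0 then i + 1 else i - 1, by split_ifs <;> omega⟩ else i
  have hf : Function.Involutive f := by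
    intro i
    apply Fin.ext
    by_cases hi : (i : ℕ) < 2 * r
    · by_cases he : (i : ℕ) % 2 = 0
      · simp [f, hi, he, show (i : ℕ) + 1 < 2 * r by omega, show ((i : ℕ) + 1) % 2 ≠ 0 by omega]
      · simp [f, hi, he, show (i : ℕ) - 1 < 2 * r by omega, show ((i : ℕ) - 1) % 2 = 0 by omega]
        omega
    · simp [f, hi]
  have e : pairs K n r = (Matrix.diagonal fun i : Fin n => if (i : ℕ) % 2 = 0 ∧ (i : ℕ) < 2 * r then (1 : K) else 0).submatrix
      (Equiv.refl _) (hf.toPerm f) := by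
    ext i j
    simp only [pairs, Matrix.of_apply, Matrix.submatrix_apply, Equiv.refl_apply, Function.Involutive.coe_toPerm,
      Matrix.diagonal_apply]
    have hj : (f j : ℕ) = if (j : ℕ) < 2 * r then (if (j : ℕ) % 2 = 0 then (j : ℕ) + 1 else (j : ℕ) - 1) else (j : ℕ) := by
      simp only [f]
      split_ifs <;> rfl
    by_cases hij : i = f j
    · rw [if_pos hij]
      have hij' : (i : ℕ) = (f j : ℕ) := congrArg Fin.val hij
      rw [hj] at hij'
      split_ifs at hij' ⊢ <;> first | rfl | omega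
    · rw [if_neg hij, if_neg]
      intro hc
      apply hij
      apply Fin.ext
      rw [hj]
      split_ifs <;> omega
  rw [e, Matrix.rank_submatrix, Matrix.rank_diagonal]
  rw [Fintype.card_subtype]
  let g : Fin r → Fin n := fun k => ⟨2 * k, by omega⟩
  have hg : (Finset.univ.filter fun i : Fin n =>
      (if (i : ℕ) % 2 = 0 ∧ (i : ℕ) < 2 * r then (1 : K) else 0) ≠ 0) = Finset.univ.image g := by
    ext i
    simp only [Finset.mem_filter, Finset.mem_univ, true_and, Finset.mem_image, g, Fin.ext_iff, ne_eq, ite_eq_right_iff,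
      one_ne_zero, imp_false, not_not]
    exact ⟨fun hi => ⟨⟨(i : ℕ) / 2, by omega⟩, by simp; omega⟩, fun ⟨k, hk⟩ => by omega⟩
  rw [hg, Finset.card_image_of_injective _ (fun x y h => Fin.ext (by simpa [g] using congrArg Fin.val h)),
    Finset.card_univ, Fintype.card_fin]

theorem su_involutions (hK : Fintype.card K = q ^ 2) (hp2 : p = 2) (x y : ↥(Cfsg.SU n K q))
    (hx : orderOf x = 2) (hy : orderOf y = 2)
    (hr : (x.1.1 - 1).rank = (y.1.1 - 1).rank) : IsConj x y := by
  classical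
  obtain ⟨F, _, _, hF⟩ := exists_field_of_card_sq hK
  obtain ⟨a, b, hab⟩ := exists_ab (F := F)
  obtain ⟨fr⟩ := exists_Frame hF hK a b hab
  subst hp2
  have hkey : ∀ z : ↥(Cfsg.SU n K q), orderOf z = 2 →
      (((suIncl n K q z).1 : Matrix (Fin n) (Fin n) K) - 1) ^ 2 = 0 := by
    intro z hz
    have h1 : (suIncl n K q z).1 ^ 2 = 1 := by
      rw [← Subgroup.coe_pow, ← map_pow, ← hz, pow_orderOf_eq_one, map_one, Subgroup.coe_one]
    simpa using (CfsgLib.Unipotent.pow_eq_one_iff 2 (suIncl n K q z).1 1).mp (by rwa [pow_one])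
  set A := (suIncl n K q x).1 with hA
  set r := (x.1.1 - 1).rank with hrdef
  have hrA : ((A : Matrix (Fin n) (Fin n) K) - 1).rank = r := rfl
  have hrB : (((suIncl n K q y).1 : Matrix (Fin n) (Fin n) K) - 1).rank = r := hr.symm
  have hr0 : 1 ≤ r := by
    by_contra h0
    have hz : (A : Matrix (Fin n) (Fin n) K) - 1 = 0 := by
      have h1 : ((A : Matrix (Fin n) (Fin n) K) - 1).rank = 0 := by omega
      rw [Matrix.rank, Submodule.finrank_eq_zero, LinearMap.range_eq_bot] at h1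
      exact Matrix.toLin'.injective (by rw [Matrix.toLin'_apply', h1, map_zero])
    have h1 : x = 1 := suIncl_injective (Subtype.ext (Units.ext (by
      rw [sub_eq_zero] at hz
      rw [map_one, Subgroup.coe_one, Units.val_one]
      exact hz)))
    rw [h1, orderOf_one] at hx
    omega
  have h2r : 2 * r ≤ n := by
    set M := (A : Matrix (Fin n) (Fin n) K) - 1
    have h2 : M * M = 0 := by rw [← pow_two]; exact hkey x hx
    have hle : LinearMap.range M.mulVecLin ≤ LinearMap.ker M.mulVecLin := by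
      rintro _ ⟨v, rfl⟩
      simp [Matrix.mulVec_mulVec, h2]
    have h3 := Submodule.finrank_mono hle
    have h4 := LinearMap.finrank_range_add_finrank_ker M.mulVecLin
    rw [Module.finrank_fin_fun] at h4
    have h5 : M.rank = r := hrA
    rw [Matrix.rank] at h5
    omega
  have hrank1 : ∀ (m : ℕ) (g h : GL (Fin m) K), ((g : Matrix (Fin m) (Fin m) K) - 1) ^ 2 = 0 →
      ((h : Matrix (Fin m) (Fin m) K) - 1) ^ 2 = 0 →
      ((g : Matrix (Fin m) (Fin m) K) - 1).rank = ((h : Matrix (Fin m) (Fin m) K) - 1).rank → IsConj g h := by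
    intro m g h hg hh hgh
    refine UnitaryUnipotent.isConj_of_rank g h ⟨2, hg⟩ ⟨2, hh⟩ fun k => ?_
    match k with
    | 0 => rw [pow_zero, pow_zero]
    | 1 => rwa [pow_one, pow_one]
    | k + 2 => rw [pow_add, pow_add, hg, hh, mul_zero, mul_zero]
  have hsq : ∀ (m s : ℕ), IsUnit (1 + pairs K m s) := fun m s =>
    IsNilpotent.isUnit_one_add ⟨2, by rw [pow_two, pairs_sq]⟩
  obtain ⟨⟨B₁, hB₁⟩, hB₁c⟩ := UnitaryUnipotent.exists_gu_conj hK (hsq 2 1).unit
    (by rw [IsUnit.unit_spec, add_sub_cancel_left]; exact ⟨2, by rw [pow_two, pairs_sq]⟩)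
  obtain ⟨⟨B₂, hB₂⟩, hB₂c⟩ := UnitaryUnipotent.exists_gu_conj hK (hsq (n - 2) (r - 1)).unit
    (by rw [IsUnit.unit_spec, add_sub_cancel_left]; exact ⟨2, by rw [pow_two, pairs_sq]⟩)
  have hdeg : 2 + (n - 2) = n := by omega
  let ι : GL (Fin 2) K × GL (Fin (n - 2)) K →* GL (Fin n) K :=
    (Units.map (blockPair 2 (n - 2) hdeg)).comp MulEquiv.prodUnits.symm.toMonoidHom
  have hιval : ∀ g h, (ι (g, h) : Matrix (Fin n) (Fin n) K) = blockPair 2 (n - 2) hdeg ((g : Matrix _ _ K), (h : Matrix _ _ K)) :=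
    fun g h => rfl
  have hι : ∀ g h, g ∈ Cfsg.GU 2 K q → h ∈ Cfsg.GU (n - 2) K q → ι (g, h) ∈ Cfsg.GU n K q := by
    intro g h hg hh
    rw [mem_gu_iff fr.σ fr.σ_eq fr.σσ] at hg hh ⊢
    apply Units.ext
    show adj fr.σ (ι (g, h) : Matrix (Fin n) (Fin n) K) * _ = 1
    rw [hιval, blockPair_adj, ← map_mul, Prod.mk_mul_mk]
    have hx' := congrArg Units.val hg
    have hy' := congrArg Units.val hh
    simp only [Units.val_mul, Units.val_one, adjU] at hx' hy'
    rw [hx', hy']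
    exact map_one _
  have hsame : ι ((hsq 2 1).unit, (hsq (n - 2) (r - 1)).unit) = (hsq n r).unit := by
    apply Units.ext
    rw [hιval, IsUnit.unit_spec, IsUnit.unit_spec, IsUnit.unit_spec]
    show (Matrix.fromBlocks (1 + pairs K 2 1) 0 0 (1 + pairs K (n - 2) (r - 1))).reindex _ _ = _
    ext i j
    obtain ⟨i, rfl⟩ := (finSumFinEquiv.trans (finCongr hdeg)).surjective i
    obtain ⟨j, rfl⟩ := (finSumFinEquiv.trans (finCongr hdeg)).surjective j
    rw [Matrix.reindex_apply, Matrix.submatrix_apply, Equiv.symm_apply_apply, Equiv.symm_apply_apply]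
    rcases i with i | i <;> rcases j with j | j <;>
      simp [pairs, Matrix.one_apply, Fin.ext_iff, finSumFinEquiv] <;> (try split_ifs) <;> first | rfl | omega | simp_all
  have hBA : IsConj (ι (B₁, B₂)) A := by
    have h1 : IsConj (hsq n r).unit (ι (B₁, B₂)) := by
      rw [← hsame]
      obtain ⟨c₁, hc₁⟩ := isConj_iff.mp hB₁c
      obtain ⟨c₂, hc₂⟩ := isConj_iff.mp hB₂c
      exact isConj_iff.mpr ⟨ι (c₁, c₂), by
        rw [← map_inv, ← map_mul, ← map_mul]
        exact congrArg ι (Prod.ext hc₁ hc₂)⟩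
    refine h1.symm.trans (hrank1 n _ _ ?_ (hkey x hx) ?_)
    · rw [IsUnit.unit_spec, add_sub_cancel_left, pow_two, pairs_sq]
    · rw [IsUnit.unit_spec, add_sub_cancel_left, pairs_rank h2r, hrA]
  have hAB : IsConj A (suIncl n K q y).1 := hrank1 n _ _ (hkey x hx) (hkey y hy) (hrA.trans hrB.symm)
  obtain ⟨g, hg⟩ := isConj_iff.mp ((gu_isConj_iff hK (suIncl n K q x) (suIncl n K q y)).mpr hAB)
  obtain ⟨X, hX⟩ := isConj_iff.mp ((gu_isConj_iff hK ⟨_, hι _ _ hB₁ hB₂⟩ (suIncl n K q x)).mpr hBA)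
  -- every determinant is the square of a norm one element
  set e := (detU fr n g).1
  have hq1 : Odd (q + 1) := by
    obtain ⟨k, hk⟩ := FiniteField.card K 2
    have h2 : Even q := by
      have : Even (q ^ 2) := by rw [← hK, hk.2]; exact Nat.even_pow.mpr ⟨even_two, k.ne_zero⟩
      exact (Nat.even_pow.mp this).1
    exact h2.add_one
  obtain ⟨j, hj⟩ := hq1
  have he : e ^ (q + 1) = 1 := (detU fr n g).2
  set c : Kˣ := e⁻¹ ^ (j + 1) with hc
  have hc2 : c * c = e⁻¹ := by
    rw [hc, ← pow_add, show j + 1 + (j + 1) = q + 1 + 1 by omega, pow_succ, inv_pow, he, inv_one, one_mul]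
  have hcn : fr.σ (c : K) * c = 1 := (norm_one_iff fr c).mp (by
    rw [MonoidHom.mem_ker, powMonoidHom_apply, hc, ← pow_mul, Nat.mul_comm, pow_mul, inv_pow, he, inv_one, one_pow])
  obtain ⟨y₁, hy₁, hy₁v⟩ := diag_mem fr (fun _ : Fin 2 => (c : K)) (fun _ => hcn)
  let Y : ↥(Cfsg.GU n K q) := ⟨ι (y₁, 1), hι _ _ hy₁ (one_mem _)⟩
  have hYc : Commute Y ⟨ι (B₁, B₂), hι _ _ hB₁ hB₂⟩ := by
    apply Subtype.ext
    refine (Commute.map (Prod.commute_iff.mpr ⟨?_, Commute.one_left _⟩) ι).eq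
    apply Units.ext
    show (y₁ : Matrix (Fin 2) (Fin 2) K) * (B₁ : Matrix (Fin 2) (Fin 2) K) = (B₁ : Matrix (Fin 2) (Fin 2) K) * (y₁ : Matrix (Fin 2) (Fin 2) K)
    rw [hy₁v]
    exact Matrix.scalar_commute (c : K) (fun r' => mul_comm _ r') _
  let g' := g * (X * Y * X⁻¹)
  have hdet : detU fr n g' = 1 := by
    have hY : (detU fr n Y).1 = c * c := by
      apply Units.ext
      show (ι (y₁, 1) : Matrix (Fin n) (Fin n) K).det = _
      rw [hιval, blockPair_det, hy₁v, Matrix.det_diagonal, Finset.prod_const, Finset.card_univ, Fintype.card_fin,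
        Units.val_one, Matrix.det_one, mul_one, pow_two]
      rfl
    have hdd : detU fr n g' = detU fr n g * detU fr n Y := by
      simp only [g', map_mul, map_inv]
      rw [mul_comm (detU fr n X) (detU fr n Y), mul_inv_cancel_right]
    rw [hdd]
    apply Subtype.ext
    show e * (detU fr n Y).1 = 1
    rw [hY, hc2, mul_inv_cancel]
  obtain ⟨s, hs⟩ := (detU_eq_one_iff fr g').mp hdet
  refine isConj_iff.mpr ⟨s, suIncl_injective ?_⟩
  rw [map_mul, map_mul, map_inv, hs]
  calc g' * suIncl n K q x * g'⁻¹ = g * (X * (Y * (X⁻¹ * suIncl n K q x * X) * Y⁻¹) * X⁻¹) * g⁻¹ := by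
        simp only [g']; group
    _ = g * suIncl n K q x * g⁻¹ := by
        rw [← hX]
        congr 2
        calc X * (Y * (X⁻¹ * (X * ⟨ι (B₁, B₂), hι _ _ hB₁ hB₂⟩ * X⁻¹) * X) * Y⁻¹) * X⁻¹
            = X * (Y * ⟨ι (B₁, B₂), hι _ _ hB₁ hB₂⟩ * Y⁻¹) * X⁻¹ := by group
          _ = _ := by rw [hYc.eq, mul_inv_cancel_right]
    _ = _ := hg

end CfsgLib.Classical.UnitaryDetClasses
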