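import Cfsg.Agent.Lib.Classical.SimilarUnitary
import Cfsg.Agent.Lib.Classical.SemisimpleClasses
import Cfsg.Agent.Lib.Classical.UnitaryTwistPoly

/-!
Semisimple elements and classes of the special unitary groups.
-/

set_option autoImplicit false
set_option linter.style.haveILetI false
set_option maxHeartbeats 400000

namespace CfsgLib.Classical.UnitarySemisimple

open Matrix Polynomial CfsgLib.Classical.RestrictScalars CfsgLib.Classical.UnitaryConj
open CfsgLib.Classical.UnitaryTwistPoly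
open scoped MatrixGroups

variable {K : Type*} [Field K] [Fintype K] {p : ℕ} [hp : Fact p.Prime] [CharP K p] {n : ℕ}
variable {F : Type*} [Field F] [Fintype F] {q : ℕ} {a b : F}

theorem charpoly_twist (σ : K →+* K) (g : GL (Fin n) K) :
    (((adjU σ g)⁻¹ : GL (Fin n) K) : Matrix (Fin n) (Fin n) K).charpoly =
      tw σ (g : Matrix (Fin n) (Fin n) K).charpoly := by
  set M := (g : Matrix (Fin n) (Fin n) K)
  set f := M.charpoly with hf
  have hdet : M.det ≠ 0 := g.det_ne_zero
  have hd : M.det = (-1) ^ n * f.coeff 0 := by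
    rw [hf, Matrix.det_eq_sign_charpoly_coeff, Fintype.card_fin]
  have hinv : M⁻¹.charpoly = C (f.coeff 0)⁻¹ * f.reverse := by
    rw [Matrix.charpoly_inv _ g.isUnit, ← Matrix.reverse_charpoly, Ring.inverse_eq_inv', hd, Fintype.card_fin]
    congr 1
    rw [show ((-1 : K[X]) ^ n) = C ((-1 : K) ^ n) by simp, ← C_mul, _root_.mul_inv, ← mul_assoc, mul_inv_cancel₀ (pow_ne_zero _ (neg_ne_zero.mpr one_ne_zero)), one_mul]
  rw [← adjU_inv]
  show ((((g⁻¹ : GL (Fin n) K) : Matrix (Fin n) (Fin n) K).map σ)ᵀ).charpoly = _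
  rw [Matrix.charpoly_transpose, Matrix.charpoly_map, Matrix.coe_units_inv, hinv, Polynomial.map_mul,
    Polynomial.map_C, map_inv₀, tw]
  congr 1
  ext i
  rw [coeff_map, coeff_reverse, coeff_reverse, natDegree_map_eq_of_injective σ.injective, coeff_map]

theorem adjU_pow (σ : K →+* K) (g : GL (Fin n) K) (k : ℕ) : adjU σ (g ^ k) = adjU σ g ^ k := by
  induction k with
  | zero => exact Units.ext (adj_one σ)
  | succ k ih => rw [pow_succ', adjU_mul, ih, pow_succ]

theorem orderOf_conj_eq {G : Type*} [Group G] {g h : G} (hgh : IsConj g h) : orderOf g = orderOf h := by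
  obtain ⟨c, hc⟩ := isConj_iff.mp hgh
  rw [← hc]
  exact (orderOf_injective (MulAut.conj c).toMonoidHom (MulAut.conj c).injective g).symm

theorem charpoly_conj_eq {g h : GL (Fin n) K} (hgh : IsConj g h) :
    (g : Matrix (Fin n) (Fin n) K).charpoly = (h : Matrix (Fin n) (Fin n) K).charpoly := by
  obtain ⟨c, hc⟩ := isConj_iff.mp hgh
  rw [← hc, Units.val_mul, Units.val_mul, Matrix.coe_units_inv, Matrix.charpoly_units_conj]

theorem twist_fixed_of_mem (fr : Frame F K q a b) {g : GL (Fin n) K} (hg : g ∈ Cfsg.GU n K q) :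
    tw fr.σ (g : Matrix (Fin n) (Fin n) K).charpoly = (g : Matrix (Fin n) (Fin n) K).charpoly := by
  rw [← charpoly_twist]
  have h := (mem_gu_iff fr.σ fr.σ_eq fr.σσ g).mp hg
  rw [eq_inv_of_mul_eq_one_left h, inv_inv]

theorem exists_gu_semisimple (hK : Fintype.card K = q ^ 2) (fr : Frame F K q a b) (f : K[X]) (hm : f.Monic)
    (hd : f.natDegree = n) (h0 : f.coeff 0 ≠ 0) (hf : tw fr.σ f = f) :
    ∃ B : GL (Fin n) K, B ∈ Cfsg.GU n K q ∧ (orderOf B).Coprime p ∧
      (B : Matrix (Fin n) (Fin n) K).charpoly = f := by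
  obtain ⟨g, hg, hgc⟩ := SemisimpleClasses.exists_semisimple (p := p) f hm hd h0
  have hg' : (orderOf (adjU fr.σ g)⁻¹).Coprime p := by
    rw [orderOf_inv]
    refine Nat.Coprime.coprime_dvd_left (orderOf_dvd_of_pow_eq_one ?_) hg
    rw [← adjU_pow, pow_orderOf_eq_one]
    exact Units.ext (adj_one fr.σ)
  have hconj := SemisimpleClasses.isConj_of_charpoly_eq g _ hg hg'
    (by rw [charpoly_twist, hgc, hf])
  obtain ⟨⟨B, hB⟩, hgB⟩ := (SimilarUnitary.similar_unitary_iff hK g).mpr (by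
    have e : (((g : Matrix (Fin n) (Fin n) K).map (fun x : K => x ^ q)).transpose)⁻¹ =
        (((adjU fr.σ g)⁻¹ : GL (Fin n) K) : Matrix (Fin n) (Fin n) K) := by
      rw [Matrix.coe_units_inv]
      congr 2
      ext i j
      exact (fr.σ_eq _).symm
    rw [e]
    exact (Units.coeHom (Matrix (Fin n) (Fin n) K)).map_isConj hconj)
  exact ⟨B, hB, by rw [← orderOf_conj_eq hgB]; exact hg, by rw [← charpoly_conj_eq hgB]; exact hgc⟩

theorem commute_of_squarefree (B : GL (Fin n) K) (hB : (orderOf B).Coprime p) {P : K[X]} (hm : P.Monic)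
    (hc : (B : Matrix (Fin n) (Fin n) K).charpoly = P) (hs : Squarefree P) (Y Z : GL (Fin n) K)
    (hY : Commute Y B) (hZ : Commute Z B) : Commute Y Z := by
  classical
  haveI : Module.Finite K (AdjoinRoot P) := (AdjoinRoot.powerBasis' hm).finite
  set T := Algebra.lmul K (AdjoinRoot P) (AdjoinRoot.root P)
  have hT : Module.End.IsSemisimple T := by
    refine Module.End.isSemisimple_of_squarefree_aeval_eq_zero hs ?_
    rw [aeval_algHom_apply, AdjoinRoot.aeval_eq, AdjoinRoot.mk_self, map_zero]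
  let pb := AdjoinRoot.powerBasis' hm
  have hTc : T.charpoly = P := by
    rw [← LinearMap.charpoly_toMatrix T pb.basis]
    refine (charpoly_leftMulMatrix pb).trans ?_
    refine (AdjoinRoot.minpoly_root hm.ne_zero).trans ?_
    rw [hm.leadingCoeff, inv_one, map_one, mul_one]
  have hn : P.natDegree = n := by
    rw [← hc, Matrix.charpoly_natDegree_eq_dim, Fintype.card_fin]
  obtain ⟨e, he⟩ := SemisimpleClasses.exists_conj_aux n (Fin n → K) (AdjoinRoot P) _ T (by simp)
    (SemisimpleClasses.isSemisimple_toLin' B hB) hT (by rw [Matrix.charpoly_toLin', hc, hTc])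
  let Φ : GL (Fin n) K → Module.End K (AdjoinRoot P) := fun U =>
    e.toLinearMap ∘ₗ Matrix.toLin' (U : Matrix (Fin n) (Fin n) K) ∘ₗ e.symm.toLinearMap
  have hlin : ∀ U : GL (Fin n) K, Commute U B → ∀ x, Φ U x = Φ U 1 * x := by
    intro U hU
    refine lmul_of_commute (Φ U) fun x => ?_
    have hT' : ∀ x, AdjoinRoot.root P * x = T x := fun x => rfl
    obtain ⟨v, rfl⟩ := e.surjective x
    rw [hT', ← he]
    show e (Matrix.toLin' _ (e.symm (e (Matrix.toLin' _ v)))) = AdjoinRoot.root P * e (Matrix.toLin' _ (e.symm (e v)))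
    rw [e.symm_apply_apply, e.symm_apply_apply, hT', ← he]
    simp only [Matrix.toLin'_apply, Matrix.mulVec_mulVec, ← Units.val_mul, hU.eq]
  apply Units.ext
  refine Matrix.toLin'.injective (LinearMap.ext fun v => e.injective ?_)
  have h1 : ∀ U V : GL (Fin n) K, e (Matrix.toLin' ((U * V : GL (Fin n) K) : Matrix (Fin n) (Fin n) K) v) =
      Φ U (Φ V (e v)) := fun U V => by
    simp [Φ, Matrix.toLin'_apply, Matrix.mulVec_mulVec]
  rw [h1, h1, hlin Y hY, hlin Z hZ, hlin Z hZ (Φ Y _), hlin Y hY (e v)]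
  ring

/-- Block diagonal matrices. -/
noncomputable def blockPair (d m : ℕ) (h : d + m = n) :
    Matrix (Fin d) (Fin d) K × Matrix (Fin m) (Fin m) K →* Matrix (Fin n) (Fin n) K where
  toFun z := (Matrix.fromBlocks z.1 0 0 z.2).reindex (finSumFinEquiv.trans (finCongr h))
    (finSumFinEquiv.trans (finCongr h))
  map_one' := by
    show (Matrix.fromBlocks (1 : Matrix (Fin d) (Fin d) K) 0 0 (1 : Matrix (Fin m) (Fin m) K)).reindex _ _ = 1
    rw [Matrix.fromBlocks_one, Matrix.reindex_apply, Matrix.submatrix_one_equiv]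
  map_mul' z w := by
    rw [Matrix.reindex_apply, Matrix.reindex_apply, Matrix.reindex_apply, Matrix.submatrix_mul_equiv,
      Matrix.fromBlocks_multiply]
    simp

theorem blockPair_adj (σ : K →+* K) (d m : ℕ) (h : d + m = n) (x : Matrix (Fin d) (Fin d) K)
    (y : Matrix (Fin m) (Fin m) K) :
    adj σ (blockPair d m h (x, y)) = blockPair d m h (adj σ x, adj σ y) := by
  show (((Matrix.fromBlocks x 0 0 y).reindex _ _).map σ)ᵀ = (Matrix.fromBlocks _ 0 0 _).reindex _ _
  rw [Matrix.reindex_apply, Matrix.reindex_apply, ← Matrix.submatrix_map, Matrix.transpose_submatrix,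
    Matrix.fromBlocks_map, Matrix.fromBlocks_transpose]
  simp [adj, Matrix.map_zero]

theorem blockPair_charpoly (d m : ℕ) (h : d + m = n) (x : Matrix (Fin d) (Fin d) K)
    (y : Matrix (Fin m) (Fin m) K) : (blockPair d m h (x, y)).charpoly = x.charpoly * y.charpoly := by
  show ((Matrix.fromBlocks x 0 0 y).reindex _ _).charpoly = _
  rw [Matrix.charpoly_reindex, Matrix.charpoly_fromBlocks_zero₂₁]

theorem blockPair_det (d m : ℕ) (h : d + m = n) (x : Matrix (Fin d) (Fin d) K)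
    (y : Matrix (Fin m) (Fin m) K) : (blockPair d m h (x, y)).det = x.det * y.det := by
  show ((Matrix.fromBlocks x 0 0 y).reindex _ _).det = _
  rw [Matrix.det_reindex_self, Matrix.det_fromBlocks_zero₂₁]

theorem exists_quotient_eq (fr : Frame F K q a b) {ε : K} (hε : fr.σ ε * ε = 1) :
    ∃ c : K, c ≠ 0 ∧ c / fr.σ c = ε := by
  by_cases h1 : 1 + ε = 0
  · have hd : fr.ω - fr.σ fr.ω ≠ 0 := sub_ne_zero.mpr (Ne.symm fr.ω_ne)
    refine ⟨_, hd, ?_⟩
    rw [map_sub, fr.σσ, show fr.σ fr.ω - fr.ω = -(fr.ω - fr.σ fr.ω) by ring, div_neg, div_self hd]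
    linear_combination -h1
  · refine ⟨1 + ε, h1, ?_⟩
    have h2 : fr.σ (1 + ε) ≠ 0 := (_root_.map_ne_zero _).mpr h1
    rw [div_eq_iff h2, map_add, map_one]
    linear_combination -hε

theorem exists_centralizer_det (hK : Fintype.card K = q ^ 2) (fr : Frame F K q a b) (hn : 1 ≤ n)
    {g : GL (Fin n) K} (hg : g ∈ Cfsg.GU n K q) (hgo : (orderOf g).Coprime p) {ε : K} (hε : fr.σ ε * ε = 1) :
    ∃ y : GL (Fin n) K, y ∈ Cfsg.GU n K q ∧ Commute y g ∧ (y : Matrix (Fin n) (Fin n) K).det = ε := by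
  classical
  set f := (g : Matrix (Fin n) (Fin n) K).charpoly with hf
  have hfm : f.Monic := Matrix.charpoly_monic _
  have hfd : f.natDegree = n := by rw [hf, Matrix.charpoly_natDegree_eq_dim, Fintype.card_fin]
  have hf0 : f.coeff 0 ≠ 0 := by
    intro h
    have := Matrix.det_eq_sign_charpoly_coeff (g : Matrix (Fin n) (Fin n) K)
    rw [← hf, h, mul_zero] at this
    exact g.det_ne_zero this
  obtain ⟨P, Q, hPQ, hPm, hQm, hPs, hPt, hQt, hpos⟩ :=
    exists_fixed_split fr.σ fr.σσ hfm hf0 (twist_fixed_of_mem fr hg)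
  have hdeg : P.natDegree + Q.natDegree = n := by rw [← hPm.natDegree_mul hQm, hPQ, hfd]
  obtain ⟨B₁, hB₁, hB₁o, hB₁c⟩ := exists_gu_semisimple (p := p) hK fr P hPm rfl
    (coeff_zero_ne_of_dvd ⟨Q, hPQ.symm⟩ hf0) hPt
  obtain ⟨B₂, hB₂, hB₂o, hB₂c⟩ := exists_gu_semisimple (p := p) hK fr Q hQm rfl
    (coeff_zero_ne_of_dvd (Dvd.intro_left P hPQ) hf0) hQt
  let ι : GL (Fin P.natDegree) K × GL (Fin Q.natDegree) K →* GL (Fin n) K :=
    (Units.map (blockPair P.natDegree Q.natDegree hdeg)).comp MulEquiv.prodUnits.symm.toMonoidHom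
  have hιval : ∀ x y, (ι (x, y) : Matrix (Fin n) (Fin n) K) = blockPair _ _ hdeg ((x : Matrix _ _ K), (y : Matrix _ _ K)) :=
    fun x y => rfl
  have hι : ∀ x y, x ∈ Cfsg.GU P.natDegree K q → y ∈ Cfsg.GU Q.natDegree K q → ι (x, y) ∈ Cfsg.GU n K q := by
    intro x y hx hy
    rw [mem_gu_iff fr.σ fr.σ_eq fr.σσ] at hx hy ⊢
    apply Units.ext
    show adj fr.σ (ι (x, y) : Matrix (Fin n) (Fin n) K) * _ = 1
    rw [hιval, blockPair_adj, ← map_mul, Prod.mk_mul_mk]
    have hx' := congrArg Units.val hx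
    have hy' := congrArg Units.val hy
    simp only [Units.val_mul, Units.val_one, adjU] at hx' hy'
    rw [hx', hy']
    exact map_one _
  have hBo : (orderOf (ι (B₁, B₂))).Coprime p := by
    refine Nat.Coprime.coprime_dvd_left (orderOf_map_dvd ι _) ?_
    rw [Prod.orderOf_mk]
    exact Nat.Coprime.coprime_dvd_left (Nat.lcm_dvd_mul _ _) (Nat.Coprime.mul_left hB₁o hB₂o)
  have hconj := SemisimpleClasses.isConj_of_charpoly_eq g (ι (B₁, B₂)) hgo hBo
    (by rw [hιval, blockPair_charpoly, hB₁c, hB₂c, hPQ])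
  obtain ⟨⟨X, hX⟩, hXg⟩ := isConj_iff.mp ((gu_isConj_iff hK ⟨g, hg⟩ ⟨_, hι _ _ hB₁ hB₂⟩).mpr hconj)
  replace hXg : X * g * X⁻¹ = ι (B₁, B₂) := congrArg Subtype.val hXg
  haveI : Nonempty (Fin P.natDegree) := Fin.pos_iff_nonempty.mp (hpos (by omega))
  haveI : Nontrivial (Fin P.natDegree → K) := inferInstance
  obtain ⟨c, hc0, hc⟩ := exists_quotient_eq fr hε
  obtain ⟨Z, hZ, hZd⟩ := CfsgLib.Classical.SemisimpleDet.exists_commute_det _
    (SemisimpleClasses.isSemisimple_toLin' B₁ hB₁o) c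
  rw [← LinearMap.det_toMatrix'] at hZd
  let Zu : GL (Fin P.natDegree) K := Matrix.GeneralLinearGroup.mkOfDetNeZero (LinearMap.toMatrix' Z) (by rw [hZd]; exact hc0)
  have hZu : Commute Zu B₁ := by
    apply Units.ext
    apply Matrix.toLin'.injective
    rw [Units.val_mul, Units.val_mul, Matrix.toLin'_mul, Matrix.toLin'_mul]
    show Matrix.toLin' (LinearMap.toMatrix' Z) ∘ₗ _ = _ ∘ₗ Matrix.toLin' (LinearMap.toMatrix' Z)
    rw [Matrix.toLin'_toMatrix']
    exact hZ.eq
  have hB₁' := (mem_gu_iff fr.σ fr.σ_eq fr.σσ _).mp hB₁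
  have hadZ : Commute (adjU fr.σ Zu) B₁ := by
    have h1 : Commute (adjU fr.σ Zu) (adjU fr.σ B₁) := by
      show _ * _ = _ * _
      rw [← adjU_mul, ← adjU_mul, hZu.eq]
    rw [eq_inv_of_mul_eq_one_left hB₁'] at h1
    simpa using h1.inv_right
  have hZZ : Commute Zu (adjU fr.σ Zu) := commute_of_squarefree B₁ hB₁o hPm hB₁c hPs _ _ hZu hadZ
  set y₁ := Zu * (adjU fr.σ Zu)⁻¹ with hy₁
  have hy₁m : y₁ ∈ Cfsg.GU P.natDegree K q := by
    rw [mem_gu_iff fr.σ fr.σ_eq fr.σσ, hy₁, adjU_mul, adjU_inv, adjU_adjU fr.σ fr.σσ]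
    calc Zu⁻¹ * adjU fr.σ Zu * (Zu * (adjU fr.σ Zu)⁻¹) = Zu⁻¹ * (adjU fr.σ Zu * Zu) * (adjU fr.σ Zu)⁻¹ := by group
      _ = 1 := by rw [← hZZ.eq]; group
  have hy₁c : Commute y₁ B₁ := hZu.mul_left hadZ.inv_left
  have hy₁d : (y₁ : Matrix (Fin P.natDegree) (Fin P.natDegree) K).det = ε := by
    rw [hy₁, Units.val_mul, Matrix.det_mul, Matrix.coe_units_inv, Matrix.det_nonsing_inv, Ring.inverse_eq_inv']
    have e : (adjU fr.σ Zu : Matrix (Fin P.natDegree) (Fin P.natDegree) K).det = fr.σ c := by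
      show ((LinearMap.toMatrix' Z).map fr.σ)ᵀ.det = _
      rw [Matrix.det_transpose, ← RingHom.mapMatrix_apply, ← RingHom.map_det, hZd]
    rw [e, show (Zu : Matrix (Fin P.natDegree) (Fin P.natDegree) K).det = c from hZd, ← div_eq_mul_inv, hc]
  refine ⟨X⁻¹ * ι (y₁, 1) * X, mul_mem (mul_mem (inv_mem hX) (hι _ _ hy₁m (one_mem _))) hX, ?_, ?_⟩
  · have h1 : Commute (ι (y₁, 1)) (X * g * X⁻¹) := by
      rw [hXg]
      exact Commute.map (Prod.commute_iff.mpr ⟨hy₁c, Commute.one_left _⟩) ι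
    show _ * g = g * _
    calc X⁻¹ * ι (y₁, 1) * X * g = X⁻¹ * (ι (y₁, 1) * (X * g * X⁻¹)) * X := by group
      _ = _ := by rw [h1.eq]; group
  · rw [Units.val_mul, Units.val_mul, Matrix.coe_units_inv, Matrix.det_mul, Matrix.det_mul,
      Matrix.det_nonsing_inv, Ring.inverse_eq_inv', hιval, blockPair_det, hy₁d, Units.val_one, Matrix.det_one,
      mul_one, mul_comm _ ε, mul_assoc, inv_mul_cancel₀ X.det_ne_zero, mul_one]

/-- The inclusion of `SU` in `GU`. -/
def suIncl (n : ℕ) (K : Type*) [Field K] (q : ℕ) : ↥(Cfsg.SU n K q) →* ↥(Cfsg.GU n K q) :=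
  ((Matrix.SpecialLinearGroup.toGL).comp (Cfsg.SU n K q).subtype).codRestrict _ fun g => g.2

theorem suIncl_injective : Function.Injective (suIncl n K q) := fun _ _ h =>
  Subtype.ext (Matrix.SpecialLinearGroup.toGL_injective (congrArg Subtype.val h))

theorem su_conj_of_charpoly_eq (hK : Fintype.card K = q ^ 2) (g h : ↥(Cfsg.SU n K q))
    (hg : (orderOf g).Coprime p) (hh : (orderOf h).Coprime p)
    (hc : ((g : Matrix.SpecialLinearGroup (Fin n) K) : Matrix (Fin n) (Fin n) K).charpoly =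
      ((h : Matrix.SpecialLinearGroup (Fin n) K) : Matrix (Fin n) (Fin n) K).charpoly) : IsConj g h := by
  classical
  rcases Nat.eq_zero_or_pos n with rfl | hn
  · exact (Subtype.ext (Subsingleton.elim _ _) : g = h) ▸ IsConj.refl g
  obtain ⟨F, _, _, hF⟩ := exists_field_of_card_sq hK
  obtain ⟨a, b, hab⟩ := exists_ab (F := F)
  obtain ⟨fr⟩ := exists_Frame hF hK a b hab
  set g' := suIncl n K q g with hg'
  set h' := suIncl n K q h with hh'
  have hgo : (orderOf (g' : GL (Fin n) K)).Coprime p := by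
    rwa [Subgroup.orderOf_coe, orderOf_injective _ suIncl_injective]
  have hho : (orderOf (h' : GL (Fin n) K)).Coprime p := by
    rwa [Subgroup.orderOf_coe, orderOf_injective _ suIncl_injective]
  obtain ⟨⟨X, hX⟩, hXg⟩ := isConj_iff.mp ((gu_isConj_iff hK g' h').mpr
    (SemisimpleClasses.isConj_of_charpoly_eq _ _ hgo hho hc))
  replace hXg : X * (g' : GL (Fin n) K) * X⁻¹ = h' := congrArg Subtype.val hXg
  have hXd : fr.σ (X : Matrix (Fin n) (Fin n) K).det * (X : Matrix (Fin n) (Fin n) K).det = 1 := by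
    have h1 := congrArg (fun z : GL (Fin n) K => (z : Matrix (Fin n) (Fin n) K).det)
      ((mem_gu_iff fr.σ fr.σ_eq fr.σσ X).mp hX)
    simp only [Units.val_mul, Units.val_one, Matrix.det_mul, Matrix.det_one] at h1
    rw [show ((adjU fr.σ X : GL (Fin n) K) : Matrix (Fin n) (Fin n) K) = ((X : Matrix (Fin n) (Fin n) K).map fr.σ)ᵀ from rfl,
      Matrix.det_transpose, ← RingHom.mapMatrix_apply, ← RingHom.map_det] at h1
    exact h1
  obtain ⟨y, hy, hyc, hyd⟩ := exists_centralizer_det (p := p) hK fr hn g'.2 hgo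
    (ε := ((X : Matrix (Fin n) (Fin n) K).det)⁻¹) (by rw [map_inv₀, ← _root_.mul_inv, hXd, inv_one])
  let s : Matrix.SpecialLinearGroup (Fin n) K := ⟨((X * y : GL (Fin n) K) : Matrix (Fin n) (Fin n) K), by
    rw [Units.val_mul, Matrix.det_mul, hyd, mul_inv_cancel₀ X.det_ne_zero]⟩
  have hs : Matrix.SpecialLinearGroup.toGL s = X * y := Units.ext rfl
  have hsm : s ∈ Cfsg.SU n K q := by
    have h1 : Matrix.SpecialLinearGroup.toGL s ∈ Cfsg.GU n K q := hs ▸ mul_mem hX hy
    exact h1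
  refine isConj_iff.mpr ⟨⟨s, hsm⟩, suIncl_injective (Subtype.ext ?_)⟩
  simp only [map_mul, map_inv, Subgroup.coe_mul, Subgroup.coe_inv]
  show Matrix.SpecialLinearGroup.toGL s * (g' : GL (Fin n) K) * (Matrix.SpecialLinearGroup.toGL s)⁻¹ = h'
  rw [hs, ← hXg]
  calc X * y * (g' : GL (Fin n) K) * (X * y)⁻¹ = X * (y * g' * y⁻¹) * X⁻¹ := by group
    _ = _ := by rw [hyc.eq, mul_inv_cancel_right]

theorem su_twist_fixed (fr : Frame F K q a b) (g : ↥(Cfsg.SU n K q)) :
    tw fr.σ g.1.1.charpoly = g.1.1.charpoly :=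
  by
  have h : Matrix.SpecialLinearGroup.toGL g.1 ∈ Cfsg.GU n K q := g.2
  have e : ((Matrix.SpecialLinearGroup.toGL g.1 : GL (Fin n) K) : Matrix (Fin n) (Fin n) K) = g.1.1 := rfl
  have h1 := twist_fixed_of_mem fr h
  rw [e] at h1
  exact h1


theorem su_charpoly_eq_of_isConj {g h : ↥(Cfsg.SU n K q)} (hgh : IsConj g h) :
    g.1.1.charpoly = h.1.1.charpoly := by
  obtain ⟨c, hc⟩ := isConj_iff.mp hgh
  have hc' : Matrix.SpecialLinearGroup.toGL c.1 * Matrix.SpecialLinearGroup.toGL g.1 *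
      (Matrix.SpecialLinearGroup.toGL c.1)⁻¹ = Matrix.SpecialLinearGroup.toGL h.1 := by
    rw [← map_inv, ← map_mul, ← map_mul, ← hc]
    rfl
  have e : ∀ x : Matrix.SpecialLinearGroup (Fin n) K,
      ((Matrix.SpecialLinearGroup.toGL x : GL (Fin n) K) : Matrix (Fin n) (Fin n) K) = x.1 := fun x => rfl
  have h1 := charpoly_conj_eq (isConj_iff.mpr ⟨_, hc'⟩)
  rw [e, e] at h1
  exact h1

/-- Fixed points of a semilinear involution. -/
theorem card_fixed_vec (fr : Frame F K q a b) (hF : Fintype.card F = q) (hK : Fintype.card K = q ^ 2)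
    (m : ℕ) (e : K) (he : e * fr.σ e = 1) :
    Nat.card {v : Fin m → K // ∀ i, v i = e * fr.σ (v i.rev)} = q ^ m := by
  classical
  set S := {v : Fin m → K // ∀ i, v i = e * fr.σ (v i.rev)}
  have hd : fr.ω - fr.σ fr.ω ≠ 0 := sub_ne_zero.mpr (Ne.symm fr.ω_ne)
  let ψ : (Fin m → K) → Fin m → K := fun v i => e * fr.σ (v i.rev)
  have hψψ : ∀ v, ψ (ψ v) = v := by
    intro v; funext i
    simp only [ψ, map_mul, fr.σσ, Fin.rev_rev, ← mul_assoc, he, one_mul]
  let φ : S × S → (Fin m → K) := fun z i => z.1.1 i + fr.ω * z.2.1 i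
  have hbij : Function.Bijective φ := by
    constructor
    · intro z w h
      have key : ∀ z : S × S, ∀ i, φ z i - ψ (φ z) i = (fr.ω - fr.σ fr.ω) * z.2.1 i := by
        intro z i
        simp only [φ, ψ, map_add, map_mul]
        have h1 := z.1.2 i
        have h2 := z.2.2 i
        linear_combination h1 + fr.σ fr.ω * h2
      have h2 : z.2 = w.2 := Subtype.ext (funext fun i => mul_left_cancel₀ hd (by rw [← key, ← key, h]))
      refine Prod.ext (Subtype.ext (funext fun i => ?_)) h2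
      have := congrFun h i
      simp only [φ, h2] at this
      exact add_right_cancel this
    · intro v
      let y : Fin m → K := fun i => (v i - ψ v i) / (fr.ω - fr.σ fr.ω)
      have hy : ∀ i, y i = e * fr.σ (y i.rev) := by
        intro i
        have h3 : ψ (ψ v) i = v i := congrFun (hψψ v) i
        show (v i - ψ v i) / (fr.ω - fr.σ fr.ω) = e * fr.σ ((v i.rev - ψ v i.rev) / (fr.ω - fr.σ fr.ω))
        rw [map_div₀, map_sub, map_sub, fr.σσ, ← mul_div_assoc, mul_sub,
          show e * fr.σ (ψ v i.rev) = ψ (ψ v) i from rfl, h3, show e * fr.σ (v i.rev) = ψ v i from rfl,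
          ← neg_sub fr.ω (fr.σ fr.ω), ← neg_sub (v i) (ψ v i), neg_div_neg_eq]
      let x : Fin m → K := fun i => v i - fr.ω * y i
      have hx : ∀ i, x i = e * fr.σ (x i.rev) := by
        intro i
        have h1 : (fr.ω - fr.σ fr.ω) * y i = v i - e * fr.σ (v i.rev) := by
          show (fr.ω - fr.σ fr.ω) * ((v i - ψ v i) / (fr.ω - fr.σ fr.ω)) = _
          rw [mul_div_cancel₀ _ hd]
        show v i - fr.ω * y i = e * fr.σ (v i.rev - fr.ω * y i.rev)
        rw [map_sub, map_mul]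
        linear_combination -h1 - fr.σ fr.ω * hy i
      exact ⟨(⟨x, hx⟩, ⟨y, hy⟩), funext fun i => sub_add_cancel _ _⟩
  have hc := Nat.card_eq_of_bijective φ hbij
  rw [Nat.card_prod, Nat.card_fun, Nat.card_eq_fintype_card (α := K), hK, Nat.card_eq_fintype_card (α := Fin m),
    Fintype.card_fin, ← pow_mul, Nat.mul_comm 2 m, pow_mul, pow_two] at hc
  exact Nat.mul_self_inj.mp hc

theorem card_su (hK : Fintype.card K = q ^ 2) (hn : 1 ≤ n) :
    Nat.card {c : ConjClasses ↥(Cfsg.SU n K q) // ∃ g : ↥(Cfsg.SU n K q), ConjClasses.mk g = c ∧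
      (orderOf g).Coprime p} = q ^ (n - 1) := by
  classical
  obtain ⟨F, _, _, hF⟩ := exists_field_of_card_sq hK
  obtain ⟨a, b, hab⟩ := exists_ab (F := F)
  obtain ⟨fr⟩ := exists_Frame hF hK a b hab
  obtain ⟨m, rfl⟩ : ∃ m, n = m + 1 := ⟨n - 1, by omega⟩
  set e : K := (-1) ^ (m + 1)
  have he : e * fr.σ e = 1 := by simp [e, map_pow, map_neg, ← mul_pow]
  have he0 : e ≠ 0 := left_ne_zero_of_mul_eq_one he
  have hσe : (fr.σ e)⁻¹ = e := inv_eq_of_mul_eq_one_left he
  set T := {f : K[X] // f.Monic ∧ f.natDegree = m + 1 ∧ f.coeff 0 = e ∧ tw fr.σ f = f}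
  have hT : Nat.card T = q ^ m := by
    rw [← card_fixed_vec fr hF hK m e he]
    let mk : (Fin m → K) → K[X] := fun v =>
      X ^ (m + 1) + ((degreeLTEquiv K (m + 1)).symm (Fin.cons e v) : degreeLT K (m + 1)).1
    have hmk : ∀ v, (mk v).Monic ∧ (mk v).natDegree = m + 1 ∧ ∀ i : Fin (m + 1), (mk v).coeff i = Fin.cons (α := fun _ => K) e v i := by
      intro v
      set r := (degreeLTEquiv K (m + 1)).symm (Fin.cons e v) with hr
      have hdeg := mem_degreeLT.mp r.2
      have hm : (mk v).Monic := monic_X_pow_add hdeg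
      refine ⟨hm, ?_, fun i => ?_⟩
      · refine natDegree_eq_of_degree_eq_some ?_
        show (X ^ (m + 1) + r.1).degree = _
        rw [degree_add_eq_left_of_degree_lt (by rwa [degree_X_pow]), degree_X_pow]
      · show (X ^ (m + 1) + r.1).coeff i = _
        rw [coeff_add, coeff_X_pow, if_neg (by omega), zero_add]
        exact congrFun ((degreeLTEquiv K (m + 1)).apply_symm_apply (Fin.cons e v)) i
    refine Nat.card_eq_of_bijective (fun f => (⟨fun i => f.1.coeff (i.val + 1), fun i => ?_⟩ :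
      {v : Fin m → K // ∀ i, v i = e * fr.σ (v i.rev)})) ⟨?_, ?_⟩
    · obtain ⟨f, hm, hd, h0, ht⟩ := f
      show f.coeff (i.val + 1) = e * fr.σ (f.coeff (i.rev.val + 1))
      conv_lhs => rw [← ht]
      rw [coeff_tw, hd, h0, hσe, revAt_le (by omega)]
      congr 3
      simp [Fin.val_rev]
      omega
    · rintro ⟨f, hm, hd, h0, ht⟩ ⟨f', hm', hd', h0', ht'⟩ h
      refine Subtype.ext (Polynomial.ext fun i => ?_)
      rcases Nat.lt_trichotomy i (m + 1) with hi | rfl | hi
      · rcases Nat.eq_zero_or_pos i with rfl | hpos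
        · rw [h0, h0']
        · have := congrFun (congrArg Subtype.val h) ⟨i - 1, by omega⟩
          simpa [Nat.sub_add_cancel hpos] using this
      · have e1 := hm.coeff_natDegree
        have e2 := hm'.coeff_natDegree
        rw [hd] at e1; rw [hd'] at e2
        exact e1.trans e2.symm
      · show f.coeff i = f'.coeff i
        rw [coeff_eq_zero_of_natDegree_lt (by omega), coeff_eq_zero_of_natDegree_lt (by omega)]
    · rintro ⟨v, hv⟩
      obtain ⟨hm, hd, hc⟩ := hmk v
      have h0 : (mk v).coeff 0 = e := by simpa using hc 0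
      have hci : ∀ i : Fin m, (mk v).coeff (i.val + 1) = v i := fun i => by simpa using hc i.succ
      refine ⟨⟨mk v, hm, hd, h0, ?_⟩, Subtype.ext (funext hci)⟩
      ext i
      rw [coeff_tw, hd, h0, hσe]
      rcases Nat.lt_trichotomy i (m + 1) with hi | rfl | hi
      · rw [revAt_le hi.le]
        rcases Nat.eq_zero_or_pos i with rfl | hpos
        · rw [Nat.sub_zero, h0]
          conv_lhs => rw [← hd, hm.coeff_natDegree, map_one, mul_one]
        · have h1 := hci ⟨i - 1, by omega⟩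
          have h2 := hci (Fin.rev ⟨i - 1, by omega⟩)
          simp only [Fin.val_rev, Nat.sub_add_cancel hpos] at h1 h2
          rw [h1, show m + 1 - i = m - i + 1 by omega, h2, hv ⟨i - 1, by omega⟩]
      · rw [revAt_le le_rfl, Nat.sub_self, h0, mul_comm, mul_comm (fr.σ e), he]
        rw [← hd, hm.coeff_natDegree]
      · rw [revAt_eq_self_of_lt hi, coeff_eq_zero_of_natDegree_lt (by omega), map_zero, mul_zero]
  show _ = q ^ m
  rw [← hT]
  have hcop : ∀ g : ↥(Cfsg.SU (m + 1) K q), (g.1.1).charpoly.coeff 0 = e := by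
    intro g
    have h := Matrix.det_eq_sign_charpoly_coeff g.1.1
    rw [g.1.2, Fintype.card_fin] at h
    calc g.1.1.charpoly.coeff 0 = (e * e) * g.1.1.charpoly.coeff 0 := by simp [e, ← mul_pow]
      _ = e := by rw [mul_assoc, ← h, mul_one]
  have hinv : ∀ c : ConjClasses ↥(Cfsg.SU (m + 1) K q), ∀ g h, ConjClasses.mk g = c → ConjClasses.mk h = c →
      (g.1.1).charpoly = (h.1.1).charpoly := by
    intro c g h hg hh
    have hgh : IsConj g h := ConjClasses.mk_eq_mk_iff_isConj.mp (hg.trans hh.symm)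
    exact su_charpoly_eq_of_isConj hgh
  refine Nat.card_eq_of_bijective (fun c => (⟨(c.2.choose.1.1).charpoly, Matrix.charpoly_monic _, by
      rw [Matrix.charpoly_natDegree_eq_dim, Fintype.card_fin], hcop _,
      su_twist_fixed fr _⟩ : T)) ⟨?_, ?_⟩
  · intro c d h
    apply Subtype.ext
    rw [← c.2.choose_spec.1, ← d.2.choose_spec.1]
    exact ConjClasses.mk_eq_mk_iff_isConj.mpr
      (su_conj_of_charpoly_eq hK _ _ c.2.choose_spec.2 d.2.choose_spec.2 (congrArg Subtype.val h))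
  · rintro ⟨f, hm, hd, h0, ht⟩
    obtain ⟨B, hB, hBo, hBc⟩ := exists_gu_semisimple (p := p) hK fr f hm hd (h0 ▸ he0) ht
    have hdet : (B : Matrix (Fin (m + 1)) (Fin (m + 1)) K).det = 1 := by
      rw [Matrix.det_eq_sign_charpoly_coeff, hBc, h0, Fintype.card_fin]
      simp [e, ← mul_pow]
    let s : Matrix.SpecialLinearGroup (Fin (m + 1)) K := ⟨B, hdet⟩
    have hsB : Matrix.SpecialLinearGroup.toGL s = B := Units.ext rfl
    have hsm : s ∈ Cfsg.SU (m + 1) K q := by
      have h1 : Matrix.SpecialLinearGroup.toGL s ∈ Cfsg.GU (m + 1) K q := hsB ▸ hB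
      exact h1
    let g : ↥(Cfsg.SU (m + 1) K q) := ⟨s, hsm⟩
    have hgo : (orderOf g).Coprime p := by
      rw [← orderOf_injective _ suIncl_injective g, ← Subgroup.orderOf_coe]
      show (orderOf (Matrix.SpecialLinearGroup.toGL s)).Coprime p
      rw [hsB]; exact hBo
    refine ⟨⟨ConjClasses.mk g, g, rfl, hgo⟩, Subtype.ext ?_⟩
    set cc : {c : ConjClasses ↥(Cfsg.SU (m + 1) K q) // ∃ g, ConjClasses.mk g = c ∧ (orderOf g).Coprime p} :=
      ⟨ConjClasses.mk g, g, rfl, hgo⟩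
    show (cc.2.choose.1.1).charpoly = f
    rw [hinv _ _ g cc.2.choose_spec.1 rfl, ← hBc]

end CfsgLib.Classical.UnitarySemisimple
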