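import Cfsg.Agent.Lib.Classical.ProjPrimeOrder
import Cfsg.Agent.Lib.Classical.TwistPairCount
import Cfsg.Agent.Lib.Classical.UnitarySemisimple
import Cfsg.Agent.Lib.Classical.UnitaryDetClasses
import Cfsg.Agent.Lib.Classical.GUQuotient

/-!
Classes of elements of prime order in the projective general linear and unitary groups, split case.
-/

set_option autoImplicit false
set_option linter.style.haveILetI false
set_option maxHeartbeats 800000

namespace CfsgLib.Classical.ProjPrimeOrderApps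

open Matrix Polynomial
open scoped MatrixGroups

theorem coeff_prod_ne {K : Type*} [Field K] (L : Multiset Kˣ) :
    ((L.map fun a : Kˣ => X - C (a : K)).prod).coeff 0 ≠ 0 := by
  rw [coeff_zero_multiset_prod]
  refine Multiset.prod_ne_zero fun h => ?_
  obtain ⟨P, hP, hP0⟩ := Multiset.mem_map.mp h
  obtain ⟨a, -, rfl⟩ := Multiset.mem_map.mp hP
  simp at hP0

theorem degree_prod {K : Type*} [Field K] (L : Multiset Kˣ) :
    ((L.map fun a : Kˣ => X - C (a : K)).prod).Monic ∧
      ((L.map fun a : Kˣ => X - C (a : K)).prod).natDegree = Multiset.card L := by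
  refine ⟨monic_multiset_prod_of_monic _ _ fun a _ => monic_X_sub_C _, ?_⟩
  rw [show (L.map fun a : Kˣ => X - C (a : K)) = (L.map Units.val).map fun a => X - C a by
    simp only [Multiset.map_map]; rfl, natDegree_multiset_prod_X_sub_C_eq_card, Multiset.card_map]

theorem power_facts {K : Type*} [Field K] (c : Kˣ) {r : ℕ} (hr : 0 < r) (m : ℕ) :
    ((X ^ r - C (c : K)) ^ m).Monic ∧ ((X ^ r - C (c : K)) ^ m).natDegree = r * m ∧
      ((X ^ r - C (c : K)) ^ m).coeff 0 ≠ 0 := by
  refine ⟨(monic_X_pow_sub_C _ hr.ne').pow _, by rw [natDegree_pow, natDegree_X_pow_sub_C, mul_comm], ?_⟩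
  rw [coeff_zero_eq_eval_zero, eval_pow]
  exact pow_ne_zero _ (by simp [hr.ne'])

theorem pgl_card {F : Type*} [Field F] [Fintype F] {q : ℕ} (hF : Fintype.card F = q) {n r : ℕ} (hn : 2 ≤ n)
    (hr : r.Prime) (hrq : r ∣ q - 1) :
    Nat.card {C : ConjClasses (GL (Fin n) F ⧸ Subgroup.center (GL (Fin n) F)) //
      ∃ g : GL (Fin n) F ⧸ Subgroup.center (GL (Fin n) F), ConjClasses.mk g = C ∧ orderOf g = r} =
      (Nat.choose (n + r - 1) (r - 1) - r - (if r ∣ n then 1 else 0)) / r + r * (if r ∣ n then 1 else 0) := by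
  obtain ⟨p, hpc⟩ := CharP.exists F
  haveI : Fact p.Prime := ⟨CharP.char_is_prime F p⟩
  refine ProjPrimeOrder.card_classes (p := p) hn hr (MonoidHom.id _) (fun _ _ h => h) ⊤ ?_ (fun a _ => trivial)
    (fun u _ => ⟨_, by rw [Matrix.GeneralLinearGroup.center_eq_range_scalar]; exact ⟨u, rfl⟩, rfl⟩)
    (fun z hz => by
      rw [Matrix.GeneralLinearGroup.center_eq_range_scalar] at hz
      obtain ⟨u, rfl⟩ := hz
      exact ⟨u, trivial, rfl⟩)
    (fun g h hg hh hc => SemisimpleClasses.isConj_of_charpoly_eq g h hg hh hc)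
    (fun L hL _ => SemisimpleClasses.exists_semisimple _ (degree_prod L).1 ((degree_prod L).2.trans hL) (coeff_prod_ne L))
    (fun c _ m hm => SemisimpleClasses.exists_semisimple _ (power_facts c hr.pos m).1
      ((power_facts c hr.pos m).2.1.trans hm) (power_facts c hr.pos m).2.2)
  rw [Subgroup.card_top, Nat.card_units, Nat.card_eq_fintype_card, hF]
  exact hrq

theorem pgu_card {K : Type*} [Field K] [Fintype K] {q n r : ℕ} (hK : Fintype.card K = q ^ 2) (hn : 2 ≤ n)
    (hr : r.Prime) (hr2 : r ≠ 2) (hrq : r ∣ q + 1) :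
    Nat.card {C : ConjClasses (↥(Cfsg.GU n K q) ⧸ Subgroup.center ↥(Cfsg.GU n K q)) //
      ∃ g : ↥(Cfsg.GU n K q) ⧸ Subgroup.center ↥(Cfsg.GU n K q), ConjClasses.mk g = C ∧ orderOf g = r} =
      (Nat.choose (n + r - 1) (r - 1) - r - (if r ∣ n then 1 else 0)) / r + r * (if r ∣ n then 1 else 0) := by
  classical
  obtain ⟨p, hpc⟩ := CharP.exists K
  haveI : Fact p.Prime := ⟨CharP.char_is_prime K p⟩
  obtain ⟨F, _, _, hF⟩ := UnitaryConj.exists_field_of_card_sq hK
  obtain ⟨a, b, hab⟩ := RestrictScalars.exists_ab (F := F)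
  obtain ⟨fr⟩ := RestrictScalars.exists_Frame hF hK a b hab
  set U := (powMonoidHom (q + 1) : Kˣ →* Kˣ).ker
  have hq2 : 2 ≤ q := hF ▸ Fintype.one_lt_card
  have hadj : ∀ u : Kˣ, UnitaryConj.adjU fr.σ (Matrix.GeneralLinearGroup.scalar (Fin n) u) *
      Matrix.GeneralLinearGroup.scalar (Fin n) u = Matrix.GeneralLinearGroup.scalar (Fin n) (u ^ (q + 1)) := fun u => by
    apply Units.ext
    show UnitaryConj.adj fr.σ (Matrix.scalar (Fin n) (u : K)) * Matrix.scalar (Fin n) (u : K) =
      Matrix.scalar (Fin n) (((u ^ (q + 1) : Kˣ)) : K)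
    simp only [Matrix.scalar_apply, ← Matrix.smul_one_eq_diagonal, UnitaryConj.adj_smul, UnitaryConj.adj_one,
      smul_mul_smul_comm, one_mul, fr.σ_eq, pow_succ, Units.val_mul, Units.val_pow_eq_pow_val]
  have hscal : ∀ u ∈ U, Matrix.GeneralLinearGroup.scalar (Fin n) u ∈ Cfsg.GU n K q := fun u hu => by
    rw [UnitaryConj.mem_gu_iff fr.σ fr.σ_eq fr.σσ, hadj, show u ^ (q + 1) = 1 from hu, map_one]
  have hfix1 : ∀ a : Kˣ, a ∈ U → UnitaryTwistPoly.tw fr.σ (X - C (a : K)) = X - C (a : K) := by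
    intro a ha
    have hσa : fr.σ (a : K) = (a : K)⁻¹ := by
      rw [fr.σ_eq]
      refine eq_inv_of_mul_eq_one_left ?_
      rw [← pow_succ, ← Units.val_pow_eq_pow_val, show a ^ (q + 1) = 1 from ha, Units.val_one]
    ext i
    rw [UnitaryTwistPoly.coeff_tw, natDegree_X_sub_C]
    rcases i with _ | _ | i
    · rw [revAt_le (Nat.zero_le _)]
      simp [coeff_X, coeff_C, hσa]
    · rw [revAt_le le_rfl]
      simp [coeff_X, coeff_C, hσa]
    · rw [revAt_eq_self_of_lt (by omega)]
      simp [coeff_X, coeff_C]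
  refine ProjPrimeOrder.card_classes (p := p) hn hr (Cfsg.GU n K q).subtype Subtype.val_injective U ?_ ?_
    (fun u hu => ⟨⟨_, hscal u hu⟩, Subgroup.mem_center_iff.mpr fun g => Subtype.ext (by
      have hm : Matrix.GeneralLinearGroup.scalar (Fin n) u ∈ Subgroup.center (GL (Fin n) K) := by
        rw [Matrix.GeneralLinearGroup.center_eq_range_scalar]; exact ⟨u, rfl⟩
      exact Subgroup.mem_center_iff.mp hm g), rfl⟩) ?_
    (fun g h hg hh hc => (UnitaryConj.gu_isConj_iff hK g h).mpr (SemisimpleClasses.isConj_of_charpoly_eq _ _ hg hh hc))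
    ?_ ?_
  · rw [UnitaryDetClasses.card_norm_one hK]; exact hrq
  · intro x hx
    have hxr : (x ^ (q + 1)) ^ r = 1 := by rw [← pow_mul, mul_comm, pow_mul]; exact hx
    have hxq : (x ^ (q + 1)) ^ (q - 1) = 1 := by
      rw [← pow_mul, show (q + 1) * (q - 1) = Fintype.card Kˣ by
        rw [Fintype.card_units, hK, ← Nat.sq_sub_sq, one_pow], pow_card_eq_one]
    have hcop : Nat.gcd r (q - 1) = 1 := (hr.coprime_iff_not_dvd).mpr fun h => hr2 (by
      have h2 : r ∣ 2 := by
        have h' := Nat.dvd_sub hrq h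
        rwa [show q + 1 - (q - 1) = 2 by omega] at h'
      exact (Nat.prime_dvd_prime_iff_eq hr Nat.prime_two).mp h2)
    have := Nat.dvd_gcd (orderOf_dvd_of_pow_eq_one hxr) (orderOf_dvd_of_pow_eq_one hxq)
    rw [hcop] at this
    exact orderOf_eq_one_iff.mp (Nat.dvd_one.mp this)
  · intro z hz
    obtain ⟨C'⟩ := CfsgLib.Classical.Herm.exists_conj_of_card (F := K) hK
    obtain ⟨c, hc⟩ := CfsgLib.Classical.Herm.gu_center_scalar C' (by omega) z hz
    have hc0 : c ≠ 0 := by
      rintro rfl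
      haveI : Nonempty (Fin n) := ⟨⟨0, by omega⟩⟩
      exact (z : GL (Fin n) K).ne_zero (by rw [hc, zero_smul])
    have he : (z : GL (Fin n) K) = Matrix.GeneralLinearGroup.scalar (Fin n) (Units.mk0 c hc0) := Units.ext (by
      rw [hc]
      show _ = Matrix.scalar (Fin n) c
      rw [Matrix.scalar_apply, Matrix.smul_one_eq_diagonal])
    refine ⟨Units.mk0 c hc0, ?_, he⟩
    have h1 := (UnitaryConj.mem_gu_iff fr.σ fr.σ_eq fr.σσ _).mp z.2
    rw [he, hadj] at h1
    rw [MonoidHom.mem_ker, powMonoidHom_apply]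
    have h2 := congrArg (fun A : GL (Fin n) K => (A : Matrix (Fin n) (Fin n) K) ⟨0, by omega⟩ ⟨0, by omega⟩) h1
    refine Units.ext ?_
    change Matrix.scalar (Fin n) _ _ _ = (1 : Matrix (Fin n) (Fin n) K) _ _ at h2
    simpa using h2
  · intro L hL hLU
    obtain ⟨B, hB, hBo, hBc⟩ := UnitarySemisimple.exists_gu_semisimple (p := p) hK fr
      ((L.map fun a : Kˣ => X - C (a : K)).prod) (degree_prod L).1 ((degree_prod L).2.trans hL) (coeff_prod_ne L) (by
        rw [TwistPairCount.tw_prod, Multiset.map_map]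
        exact congrArg Multiset.prod (Multiset.map_congr rfl fun a ha => hfix1 a (hLU a ha)))
    exact ⟨⟨B, hB⟩, hBo, hBc⟩
  · intro c hc m hm
    obtain ⟨B, hB, hBo, hBc⟩ := UnitarySemisimple.exists_gu_semisimple (p := p) hK fr
      ((X ^ r - C (c : K)) ^ m) (power_facts c hr.pos m).1 ((power_facts c hr.pos m).2.1.trans hm)
      (power_facts c hr.pos m).2.2 (by
        have h1 : UnitaryTwistPoly.tw fr.σ (X ^ r - C (c : K)) = X ^ r - C (c : K) := by
          have hσc : fr.σ (c : K) = (c : K)⁻¹ := by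
            rw [fr.σ_eq]
            refine eq_inv_of_mul_eq_one_left ?_
            rw [← pow_succ, ← Units.val_pow_eq_pow_val, show c ^ (q + 1) = 1 from hc, Units.val_one]
          ext i
          rw [UnitaryTwistPoly.coeff_tw, natDegree_X_pow_sub_C]
          rcases Nat.lt_or_ge r i with h | h
          · rw [revAt_eq_self_of_lt h]
            simp [coeff_X_pow, coeff_C, show i ≠ r by omega, show i ≠ 0 by omega, hr.ne_zero.symm]
          · rw [revAt_le h]
            rcases eq_or_ne i 0 with rfl | h0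
            · simp [coeff_X_pow, coeff_C, hσc, hr.ne_zero, hr.ne_zero.symm]
            rcases eq_or_ne i r with rfl | h1
            · simp [coeff_X_pow, coeff_C, hσc, hr.ne_zero, hr.ne_zero.symm]
            · simp [coeff_X_pow, coeff_C, h0, h1, show r - i ≠ r by omega, show r - i ≠ 0 by omega]
        exact (fun j => by
          induction j with
          | zero => rw [pow_zero]; exact TwistPairCount.tw_one fr.σ
          | succ j ihj => rw [pow_succ, UnitaryTwistPoly.tw_mul, ihj, h1] : ∀ j : ℕ,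
            UnitaryTwistPoly.tw fr.σ ((X ^ r - C (c : K)) ^ j) = (X ^ r - C (c : K)) ^ j) m)
    exact ⟨⟨B, hB⟩, hBo, hBc⟩

end CfsgLib.Classical.ProjPrimeOrderApps
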