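import Mathlib

set_option autoImplicit false

/-!
The generalized quaternion group of order `4n` has `n + 3` conjugacy classes.
-/

namespace CfsgLib.Classical

open QuaternionGroup

theorem zmod_two_mul_eq_zero {n : ℕ} [NeZero n] (i : ZMod (2 * n)) :
    i + i = 0 ↔ i = 0 ∨ i = (n : ZMod (2 * n)) := by
  constructor
  · intro h
    have hv : ((i.val + i.val : ℕ) : ZMod (2 * n)) = 0 := by
      push_cast; rw [ZMod.natCast_zmod_val]; exact h
    rw [ZMod.natCast_eq_zero_iff] at hv
    have hlt := i.val_lt
    obtain ⟨k, hk⟩ := hv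
    have h2 : i.val = 0 ∨ i.val = n := by
      match k, hk with
      | 0, hk => left; omega
      | 1, hk => right; omega
      | (k + 2), hk =>
        have : 2 * n * 2 ≤ 2 * n * (k + 2) := Nat.mul_le_mul_left _ (by omega)
        omega
    rcases h2 with h2 | h2
    · left; rw [← ZMod.natCast_zmod_val i, h2, Nat.cast_zero]
    · right; rw [← ZMod.natCast_zmod_val i, h2]
  · rintro (rfl | rfl)
    · simp
    · rw [← Nat.cast_add, ← two_mul]; exact ZMod.natCast_self _

variable {n : ℕ} [NeZero n]

omit [NeZero n] in
theorem commute_a_a (i j : ZMod (2 * n)) : Commute (a i) (a j) := by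
  rw [Commute, SemiconjBy, a_mul_a, a_mul_a, add_comm]

omit [NeZero n] in
theorem commute_a_xa_iff (i j : ZMod (2 * n)) : Commute (a i) (xa j) ↔ i + i = 0 := by
  rw [Commute, SemiconjBy, a_mul_xa, xa_mul_a]
  constructor
  · intro h
    injection h with h
    linear_combination -h
  · intro h
    congr 1
    linear_combination -h

omit [NeZero n] in
theorem commute_xa_xa_iff (i j : ZMod (2 * n)) :
    Commute (xa i) (xa j) ↔ (j - i) + (j - i) = 0 := by
  rw [Commute, SemiconjBy, xa_mul_xa, xa_mul_xa]
  constructor
  · intro h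
    injection h with h
    linear_combination h
  · intro h
    congr 1
    linear_combination h

theorem card_two_torsion : Nat.card {i : ZMod (2 * n) // i + i = 0} = 2 := by
  classical
  have hne : (0 : ZMod (2 * n)) ≠ (n : ZMod (2 * n)) := by
    intro h
    rw [eq_comm, ZMod.natCast_eq_zero_iff] at h
    have := Nat.le_of_dvd (Nat.pos_of_ne_zero (NeZero.ne n)) h
    have := NeZero.pos n
    omega
  rw [Nat.card_congr (Equiv.subtypeEquivRight zmod_two_mul_eq_zero)]
  exact (Nat.card_coe_set_eq {0, (n : ZMod (2 * n))}).trans (Set.ncard_pair hne)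

theorem card_conjClasses_quaternion : Nat.card (ConjClasses (QuaternionGroup n)) = n + 3 := by
  classical
  have hn := NeZero.pos n
  let e : ZMod (2 * n) ⊕ ZMod (2 * n) ≃ QuaternionGroup n :=
    { toFun := fun x => x.elim a xa
      invFun := fun x => match x with | .a i => .inl i | .xa i => .inr i
      left_inv := by rintro (i | i) <;> rfl
      right_inv := by rintro (i | i) <;> rfl }
  have ha : ∀ i : ZMod (2 * n), Nat.card {y // Commute (a i : QuaternionGroup n) y} =
      if i + i = 0 then 4 * n else 2 * n := by
    intro i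
    split_ifs with h
    · rw [Nat.card_congr (Equiv.subtypeUnivEquiv ?_), Nat.card_eq_fintype_card, QuaternionGroup.card]
      rintro (j | j)
      · exact commute_a_a i j
      · exact (commute_a_xa_iff i j).mpr h
    · refine (Nat.card_eq_of_bijective (fun j : ZMod (2 * n) =>
        (⟨a j, commute_a_a i j⟩ : {y // Commute (a i : QuaternionGroup n) y})) ⟨?_, ?_⟩).symm.trans
        (Nat.card_zmod _)
      · intro j k hjk
        injection congrArg Subtype.val hjk
      · rintro ⟨j | j, hj⟩
        · exact ⟨j, rfl⟩
        · exact absurd ((commute_a_xa_iff i j).mp hj) h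
  have hxa : ∀ i : ZMod (2 * n), Nat.card {y // Commute (xa i : QuaternionGroup n) y} = 4 := by
    intro i
    have h2 := card_two_torsion (n := n)
    refine (Nat.card_eq_of_bijective
      (fun x : {j : ZMod (2 * n) // j + j = 0} ⊕ {j : ZMod (2 * n) // j + j = 0} =>
        (x.elim (fun j => ⟨a j.1, ((commute_a_xa_iff j.1 i).mpr j.2).symm⟩)
          (fun j => ⟨xa (i + j.1), (commute_xa_xa_iff _ _).mpr (by rw [add_sub_cancel_left]; exact j.2)⟩) :
          {y // Commute (xa i : QuaternionGroup n) y})) ⟨?_, ?_⟩).symm.trans ?_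
    · rintro (j | j) (k | k) h
      · injection congrArg Subtype.val h with h
        exact congrArg _ (Subtype.ext h)
      · have h' := congrArg Subtype.val h
        simp at h'
      · have h' := congrArg Subtype.val h
        simp at h'
      · injection congrArg Subtype.val h with h
        exact congrArg _ (Subtype.ext (add_left_cancel h))
    · rintro ⟨j | j, hj⟩
      · exact ⟨.inl ⟨j, (commute_a_xa_iff j i).mp hj.symm⟩, rfl⟩
      · exact ⟨.inr ⟨j - i, (commute_xa_xa_iff i j).mp hj⟩,
          Subtype.ext (by show xa (i + (j - i)) = xa j; rw [add_sub_cancel])⟩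
    · rw [Nat.card_sum, h2]
  have htot : Nat.card {p : QuaternionGroup n × QuaternionGroup n // Commute p.1 p.2} =
      (n + 3) * (4 * n) := by
    rw [Nat.card_congr (Equiv.subtypeProdEquivSigmaSubtype
      (fun x y : QuaternionGroup n => Commute x y)), Nat.card_sigma, ← e.sum_comp, Fintype.sum_sum_type]
    show (∑ i, Nat.card {y // Commute (a i : QuaternionGroup n) y}) +
      ∑ i, Nat.card {y // Commute (xa i : QuaternionGroup n) y} = _
    simp only [ha, hxa, Finset.sum_ite, Finset.sum_const, Finset.card_univ, ZMod.card, smul_eq_mul]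
    have h2 : (Finset.univ.filter fun i : ZMod (2 * n) => i + i = 0).card = 2 := by
      refine Eq.trans ?_ (card_two_torsion (n := n))
      rw [Nat.card_eq_fintype_card, Fintype.card_subtype]
    have h3 := Finset.card_filter_add_card_filter_not (s := (Finset.univ : Finset (ZMod (2 * n))))
      (fun i => i + i = 0)
    rw [h2, Finset.card_univ, ZMod.card] at h3
    rw [h2, show (Finset.univ.filter fun i : ZMod (2 * n) => ¬ i + i = 0).card = 2 * n - 2 by omega]
    obtain ⟨m, rfl⟩ : ∃ m, n = m + 1 := ⟨n - 1, by omega⟩
    rw [show 2 * (m + 1) - 2 = 2 * m by omega]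
    ring
  rw [card_comm_eq_card_conjClasses_mul_card, Nat.card_eq_fintype_card (α := QuaternionGroup n),
    QuaternionGroup.card] at htot
  exact Nat.eq_of_mul_eq_mul_right (by omega) htot

end CfsgLib.Classical
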