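import Mathlib
import Cfsg.Agent.Lib.Classical.Transvection

set_option autoImplicit false

/-!
`SL_n` is generated by three conjugate regular unipotent elements.
-/

namespace CfsgLib.Classical.RegGen

open Matrix

variable {F : Type*} [Field F] {m : ℕ}


/-- The transvection `1 + v φ` lies in `H`. -/
def Mem (H : Subgroup (Matrix.SpecialLinearGroup (Fin (m + 1)) F)) (v φ : (Fin (m + 1) → F)) : Prop :=
  φ ⬝ᵥ v = 0 ∧ ∃ g ∈ H, (g : (Matrix.SpecialLinearGroup (Fin (m + 1)) F)).1 = 1 + vecMulVec v φ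

theorem mul_tv {v w φ : (Fin (m + 1) → F)} (hw : φ ⬝ᵥ w = 0) :
    (1 + vecMulVec v φ) * (1 + vecMulVec w φ) = 1 + vecMulVec (v + w) φ := by
  rw [add_mul, mul_add, mul_add, vecMulVec_mul_vecMulVec, hw]
  simp [add_vecMulVec, add_assoc, add_comm]

theorem exists_tv {v φ : (Fin (m + 1) → F)} (h : φ ⬝ᵥ v = 0) : ∃ g : (Matrix.SpecialLinearGroup (Fin (m + 1)) F), g.1 = 1 + vecMulVec v φ :=
  ⟨⟨1 + vecMulVec v φ, by
    rw [vecMulVec_eq (ι := Unit), det_one_add_replicateCol_mul_replicateRow, h, add_zero]⟩, rfl⟩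

theorem inv_val {g : (Matrix.SpecialLinearGroup (Fin (m + 1)) F)} {v φ : (Fin (m + 1) → F)} (h : φ ⬝ᵥ v = 0) (hg : g.1 = 1 + vecMulVec v φ) :
    (g⁻¹ : (Matrix.SpecialLinearGroup (Fin (m + 1)) F)).1 = 1 + vecMulVec (-v) φ := by
  obtain ⟨g', hg'⟩ := exists_tv (v := -v) (φ := φ) (by rw [dotProduct_neg, h, neg_zero])
  have : g * g' = 1 := Subtype.ext (by
    show g.1 * g'.1 = 1
    rw [hg, hg', mul_tv (by rw [dotProduct_neg, h, neg_zero]), add_neg_cancel]
    simp)
  rw [inv_eq_of_mul_eq_one_right this, hg']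

variable {H : Subgroup (Matrix.SpecialLinearGroup (Fin (m + 1)) F)}

theorem mem_add {v w φ : (Fin (m + 1) → F)} (hv : Mem H v φ) (hw : Mem H w φ) : Mem H (v + w) φ := by
  obtain ⟨h1, g, hg, hg'⟩ := hv
  obtain ⟨h2, k, hk, hk'⟩ := hw
  refine ⟨by rw [dotProduct_add, h1, h2, add_zero], g * k, mul_mem hg hk, ?_⟩
  show g.1 * k.1 = _
  rw [hg', hk', mul_tv h2]

theorem mem_neg {v φ : (Fin (m + 1) → F)} (hv : Mem H v φ) : Mem H (-v) φ := by
  obtain ⟨h1, g, hg, hg'⟩ := hv
  exact ⟨by rw [dotProduct_neg, h1, neg_zero], g⁻¹, inv_mem hg, inv_val h1 hg'⟩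

theorem mem_zero (φ : (Fin (m + 1) → F)) : Mem H 0 φ :=
  ⟨dotProduct_zero φ, 1, one_mem _, by simp⟩

theorem mem_sub {v w φ : (Fin (m + 1) → F)} (hv : Mem H v φ) (hw : Mem H w φ) : Mem H (v - w) φ := by
  rw [sub_eq_add_neg]; exact mem_add hv (mem_neg hw)

theorem mem_conj {g : (Matrix.SpecialLinearGroup (Fin (m + 1)) F)} (hg : g ∈ H) {v φ : (Fin (m + 1) → F)} (hv : Mem H v φ) :
    Mem H (g.1 *ᵥ v) (φ ᵥ* (g⁻¹ : (Matrix.SpecialLinearGroup (Fin (m + 1)) F)).1) := by
  obtain ⟨h1, k, hk, hk'⟩ := hv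
  have hig : (g⁻¹ : (Matrix.SpecialLinearGroup (Fin (m + 1)) F)).1 * g.1 = 1 := congrArg Subtype.val (inv_mul_cancel g)
  have hgi : g.1 * (g⁻¹ : (Matrix.SpecialLinearGroup (Fin (m + 1)) F)).1 = 1 := congrArg Subtype.val (mul_inv_cancel g)
  refine ⟨?_, g * k * g⁻¹, mul_mem (mul_mem hg hk) (inv_mem hg), ?_⟩
  · rw [← dotProduct_mulVec, mulVec_mulVec, hig, one_mulVec, h1]
  · show g.1 * k.1 * (g⁻¹ : (Matrix.SpecialLinearGroup (Fin (m + 1)) F)).1 = _
    rw [hk', mul_add, mul_one, add_mul, hgi, mul_vecMulVec, vecMulVec_mul]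

theorem mem_comm {v w φ ψ : (Fin (m + 1) → F)} (hv : Mem H v ψ) (hw : Mem H w φ) (h : ψ ⬝ᵥ w = 0) :
    Mem H (-(φ ⬝ᵥ v) • w) ψ := by
  obtain ⟨h1, g, hg, hg'⟩ := hv
  obtain ⟨h2, k, hk, hk'⟩ := hw
  refine ⟨by rw [dotProduct_smul, h, smul_zero], g * k * g⁻¹ * k⁻¹,
    mul_mem (mul_mem (mul_mem hg hk) (inv_mem hg)) (inv_mem hk), ?_⟩
  show g.1 * k.1 * (g⁻¹ : (Matrix.SpecialLinearGroup (Fin (m + 1)) F)).1 * (k⁻¹ : (Matrix.SpecialLinearGroup (Fin (m + 1)) F)).1 = _
  rw [hg', hk', inv_val h1 hg', inv_val h2 hk', neg_vecMulVec, neg_vecMulVec, smul_vecMulVec]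
  set A := vecMulVec v ψ with hA
  set B := vecMulVec w φ with hB
  have hAA : A * A = 0 := by rw [hA, vecMulVec_mul_vecMulVec, h1]; simp
  have hAB : A * B = 0 := by rw [hA, hB, vecMulVec_mul_vecMulVec, h]; simp
  have hBB : B * B = 0 := by rw [hB, vecMulVec_mul_vecMulVec, h2]; simp
  have hBA : B * A = (φ ⬝ᵥ v) • vecMulVec w ψ := by
    rw [hA, hB, vecMulVec_mul_vecMulVec, vecMulVec_smul]
  have hBAA : B * A * A = 0 := by rw [mul_assoc, hAA, mul_zero]
  have hBAB : B * A * B = 0 := by rw [mul_assoc, hAB, mul_zero]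
  have e1 : (1 + A) * (1 + B) = 1 + A + B := by rw [add_mul, one_mul, mul_add, mul_one, hAB, add_zero]; abel
  have e2 : (1 + A + B) * (1 + -A) = 1 + B - B * A := by
    simp only [add_mul, mul_add, mul_neg, one_mul, mul_one, hAA]; abel
  have e3 : (1 + B - B * A) * (1 + -B) = 1 - B * A := by
    simp only [sub_mul, add_mul, mul_add, mul_neg, one_mul, mul_one, hBB, hBAB]; abel
  rw [e1, e2, e3, hBA, neg_smul, sub_eq_add_neg]

/-- All transvections with functional `φ` lie in `H`. -/
def Col (H : Subgroup (Matrix.SpecialLinearGroup (Fin (m + 1)) F)) (φ : (Fin (m + 1) → F)) : Prop := ∀ v : (Fin (m + 1) → F), φ ⬝ᵥ v = 0 → Mem H v φ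

theorem col_conj {g : (Matrix.SpecialLinearGroup (Fin (m + 1)) F)} (hg : g ∈ H) {φ : (Fin (m + 1) → F)} (h : Col H φ) : Col H (φ ᵥ* (g⁻¹ : (Matrix.SpecialLinearGroup (Fin (m + 1)) F)).1) := by
  intro v hv
  have hgi : g.1 * (g⁻¹ : (Matrix.SpecialLinearGroup (Fin (m + 1)) F)).1 = 1 := congrArg Subtype.val (mul_inv_cancel g)
  have := mem_conj hg (h ((g⁻¹ : (Matrix.SpecialLinearGroup (Fin (m + 1)) F)).1 *ᵥ v) (by rw [dotProduct_mulVec]; exact hv))
  rwa [mulVec_mulVec, hgi, one_mulVec] at this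

theorem col_smul {a : F} (ha : a ≠ 0) {φ : (Fin (m + 1) → F)} (h : Col H φ) : Col H (a • φ) := by
  intro v hv
  rw [smul_dotProduct, smul_eq_mul] at hv
  have hv' : φ ⬝ᵥ v = 0 := (mul_eq_zero.1 hv).resolve_left ha
  obtain ⟨-, g, hg, hg'⟩ := h (a • v) (by rw [dotProduct_smul, hv', smul_zero])
  exact ⟨by rw [smul_dotProduct, hv', smul_zero], g, hg, by rw [hg', vecMulVec_smul, smul_vecMulVec]⟩

variable (F m)

/-- The regular unipotent element. -/
def uMat : Matrix (Fin (m + 1)) (Fin (m + 1)) F :=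
  fun i j => if j = i ∨ (j : ℕ) = i + 1 then 1 else 0

/-- The nilpotent part. -/
def nMat : Matrix (Fin (m + 1)) (Fin (m + 1)) F := fun i j => if (j : ℕ) = i + 1 then 1 else 0

variable {F m}

theorem uMat_eq : uMat F m = 1 + nMat F m := by
  refine Matrix.ext fun i j => ?_
  rw [uMat, Matrix.add_apply, Matrix.one_apply, nMat]
  rcases eq_or_ne j i with rfl | h
  · simp
  · simp [h, h.symm]

theorem nMat_pow : ∀ k : ℕ, ∀ i j, (nMat F m ^ k) i j = if (j : ℕ) = i + k then 1 else 0 := by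
  intro k
  induction k with
  | zero =>
    intro i j
    rw [pow_zero, Matrix.one_apply]
    simp [Fin.ext_iff, eq_comm]
  | succ k ih =>
    intro i j
    rw [pow_succ, Matrix.mul_apply]
    by_cases h : (i : ℕ) + k < m + 1
    · rw [Finset.sum_eq_single (⟨i + k, h⟩ : Fin (m + 1))]
      · simp [ih, nMat, add_assoc]
      · intro x _ hx
        rw [ih, if_neg (fun e => hx (Fin.ext e)), zero_mul]
      · simp
    · rw [if_neg (by omega), Finset.sum_eq_zero]
      intro x _
      rw [ih, if_neg (by omega), zero_mul]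

theorem uMat_det : (uMat F m).det = 1 := by
  rw [det_of_upperTriangular]
  · exact Finset.prod_eq_one fun i _ => by simp [uMat]
  · intro i j hij
    have : (j : ℕ) < i := hij
    simp [uMat, Fin.ext_iff]
    omega

theorem uMat_regular : IsNilpotent (uMat F m - 1) ∧ (uMat F m - 1) ^ (m + 1 - 1) ≠ 0 := by
  rw [uMat_eq, add_sub_cancel_left]
  refine ⟨⟨m + 1, ?_⟩, fun h => ?_⟩
  · refine Matrix.ext fun i j => ?_
    rw [nMat_pow, if_neg (by omega)]
    rfl
  · have := congrFun (congrFun h 0) (Fin.last m)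
    rw [nMat_pow] at this
    simp at this

theorem uMat_col_zero : uMat F m *ᵥ Pi.single 0 1 = Pi.single 0 1 := by
  funext i
  rw [mulVec_single_one]
  simp [uMat, Matrix.col_apply, Pi.single_apply, eq_comm]

theorem uMat_col_succ (i : Fin m) :
    uMat F m *ᵥ Pi.single i.succ 1 = Pi.single i.succ 1 + Pi.single i.castSucc 1 := by
  funext x
  rw [mulVec_single_one]
  simp only [uMat, Matrix.col_apply, Pi.add_apply, Pi.single_apply, Fin.ext_iff, Fin.val_succ,
    Fin.val_castSucc]
  split_ifs <;> simp_all <;> omega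

theorem last_vecMul {u : (Matrix.SpecialLinearGroup (Fin (m + 1)) F)} (hu : u.1 = uMat F m) :
    (Pi.single (Fin.last m) 1 : (Fin (m + 1) → F)) ᵥ* (u⁻¹ : (Matrix.SpecialLinearGroup (Fin (m + 1)) F)).1 = Pi.single (Fin.last m) 1 := by
  have h : (Pi.single (Fin.last m) 1 : (Fin (m + 1) → F)) ᵥ* u.1 = Pi.single (Fin.last m) 1 := by
    funext j
    rw [single_one_vecMul, hu, Matrix.row_apply]
    have hj := j.2
    simp only [uMat, Pi.single_apply, Fin.ext_iff, Fin.val_last]
    split_ifs <;> simp_all <;> omega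
  conv_lhs => rw [← h, vecMul_vecMul]
  rw [show u.1 * (u⁻¹ : (Matrix.SpecialLinearGroup (Fin (m + 1)) F)).1 = 1 from congrArg Subtype.val (mul_inv_cancel u), vecMul_one]

theorem phi_ne {M : (Matrix.SpecialLinearGroup (Fin (m + 1)) F)} (α : Fin m → F) (hα : ∀ i, α i ≠ 0)
    (hMcol : ∀ i : Fin m, M.1 *ᵥ Pi.single i.castSucc 1 =
      (Pi.single i.castSucc 1 : (Fin (m + 1) → F)) + α i • (Pi.single i.succ 1 : (Fin (m + 1) → F))) :
    ((Pi.single (Fin.last m) 1 : (Fin (m + 1) → F)) ᵥ* (M⁻¹ : (Matrix.SpecialLinearGroup (Fin (m + 1)) F)).1) 0 ≠ 0 := by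
  intro e
  set φ : (Fin (m + 1) → F) := (Pi.single (Fin.last m) 1 : (Fin (m + 1) → F)) ᵥ* (M⁻¹ : (Matrix.SpecialLinearGroup (Fin (m + 1)) F)).1 with hφ
  have hφM : φ ᵥ* M.1 = Pi.single (Fin.last m) 1 := by
    rw [hφ, vecMul_vecMul, show (M⁻¹ : (Matrix.SpecialLinearGroup (Fin (m + 1)) F)).1 * M.1 = 1 from congrArg Subtype.val (inv_mul_cancel M),
      vecMul_one]
  have hrec : ∀ i : Fin (m + 1), φ i = 0 := fun i => by
    induction i using Fin.induction with
    | zero => exact e
    | succ i hi =>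
      have hr : φ ⬝ᵥ (M.1 *ᵥ Pi.single i.castSucc 1) = (Pi.single (Fin.last m) 1 : (Fin (m + 1) → F)) i.castSucc := by
        rw [dotProduct_mulVec, hφM, dotProduct_single_one]
      rw [hMcol, dotProduct_add, dotProduct_smul, dotProduct_single_one, dotProduct_single_one, hi,
        zero_add, Pi.single_eq_of_ne (Fin.castSucc_lt_last i).ne, smul_eq_mul] at hr
      exact (mul_eq_zero.1 hr).resolve_left (hα i)
  have h1 := congrFun hφM (Fin.last m)
  simp [Matrix.vecMul, dotProduct, hrec] at h1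

variable [Finite F]

theorem eq_top_of {u M : (Matrix.SpecialLinearGroup (Fin (m + 1)) F)} (hu : u.1 = uMat F m) (hm : 2 ≤ m) (α : Fin m → F) (hα : ∀ i, α i ≠ 0)
    (hMcol : ∀ i : Fin m, M.1 *ᵥ Pi.single i.castSucc 1 =
      (Pi.single i.castSucc 1 : (Fin (m + 1) → F)) + α i • (Pi.single i.succ 1 : (Fin (m + 1) → F)))
    (hMrow : ∀ i : Fin m, (Pi.single i.succ 1 : (Fin (m + 1) → F)) ᵥ* M.1 =
      Pi.single i.succ 1 + α i • (Pi.single i.castSucc 1 : (Fin (m + 1) → F)))
    (c : F) (hc0 : c ≠ 0) (hc : ∀ z : F, z ≠ 0 → ∃ k : ℕ, z = (α ⟨0, by omega⟩ *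
      (((Pi.single (Fin.last m) 1 : (Fin (m + 1) → F)) ᵥ* (M⁻¹ : (Matrix.SpecialLinearGroup (Fin (m + 1)) F)).1) 0) * c) ^ k)
    (hu' : u ∈ H) (hM' : M ∈ H)
    (hx : Mem H (c • (Pi.single 0 1 : (Fin (m + 1) → F))) (Pi.single (Fin.last m) 1)) : H = ⊤ := by
  classical
  set εl : (Fin (m + 1) → F) := Pi.single (Fin.last m) 1 with hεl
  set φ : (Fin (m + 1) → F) := εl ᵥ* (M⁻¹ : (Matrix.SpecialLinearGroup (Fin (m + 1)) F)).1 with hφ
  set i0 : Fin m := ⟨0, by omega⟩ with hi0
  have h00 : i0.castSucc = (0 : Fin (m + 1)) := rfl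
  have hl0 : (0 : Fin (m + 1)) ≠ Fin.last m := fun e => by
    have := congrArg Fin.val e; simp at this; omega
  have hl1 : i0.succ ≠ Fin.last m := fun e => by
    have := congrArg Fin.val e; simp [i0] at this; omega
  have hperp0 : εl ⬝ᵥ (M.1 *ᵥ Pi.single 0 1) = 0 := by
    rw [← h00, hMcol, hεl, dotProduct_add, dotProduct_smul]
    simp [single_one_dotProduct, Pi.single_apply, h00, hl0.symm, hl1.symm]
  -- from `M e₀` to `e₀`
  have hdown : ∀ a : F, Mem H (a • (M.1 *ᵥ (Pi.single 0 1 : (Fin (m + 1) → F)))) εl →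
      Mem H ((a * α i0) • (Pi.single 0 1 : (Fin (m + 1) → F))) εl ∧
      Mem H (a • (Pi.single 0 1 : (Fin (m + 1) → F)) + (a * α i0) • (Pi.single i0.succ 1 : (Fin (m + 1) → F))) εl := fun a h => by
    rw [← h00, hMcol, h00, smul_add, smul_smul] at h
    refine ⟨?_, h⟩
    have h2 := mem_conj hu' h
    rw [hεl, last_vecMul hu, hu, mulVec_add, mulVec_smul, mulVec_smul, uMat_col_zero, uMat_col_succ,
      smul_add, h00, ← hεl] at h2
    have h3 := mem_sub h2 h
    convert h3 using 1
    abel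
  have hprod : ∀ a b : F, Mem H (a • (Pi.single 0 1 : (Fin (m + 1) → F))) εl → Mem H (b • (Pi.single 0 1 : (Fin (m + 1) → F))) εl →
      Mem H ((-(φ 0) * a * b * α i0) • (Pi.single 0 1 : (Fin (m + 1) → F))) εl ∧
      Mem H ((-(φ 0) * a * b) • (Pi.single 0 1 : (Fin (m + 1) → F)) +
        (-(φ 0) * a * b * α i0) • (Pi.single i0.succ 1 : (Fin (m + 1) → F))) εl := fun a b ha hb => by
    refine hdown _ ?_
    have := mem_comm ha (mem_conj hM' hb) (by rw [mulVec_smul, dotProduct_smul, hperp0, smul_zero])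
    rw [mulVec_smul, smul_smul, dotProduct_smul, dotProduct_single_one] at this
    convert this using 2
    simp only [hφ, smul_eq_mul]
    ring
  have hφ0 : φ 0 ≠ 0 := phi_ne α hα hMcol
  set K := α i0 * φ 0 with hK
  have hK0 : K ≠ 0 := mul_ne_zero (hα _) hφ0
  -- every scalar
  have hall : ∀ a : F, Mem H (a • (Pi.single 0 1 : (Fin (m + 1) → F))) εl := by
    have hpow : ∀ k : ℕ, Mem H (((K * c) ^ (k + 1) / K) • (Pi.single 0 1 : (Fin (m + 1) → F))) εl := by
      intro k
      induction k with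
      | zero => rw [zero_add, pow_one, mul_div_cancel_left₀ _ hK0]; exact hx
      | succ k ih =>
        have := mem_neg (hprod _ _ ih hx).1
        rw [← neg_smul] at this
        convert this using 2
        rw [pow_succ _ (k + 1), hK]
        field_simp
    intro a
    by_cases ha : a = 0
    · rw [ha, zero_smul]; exact mem_zero _
    obtain ⟨k, hk⟩ := hc (a * K) (mul_ne_zero ha hK0)
    have hKc : K * c ≠ 0 := mul_ne_zero hK0 hc0
    have hord : (K * c) ^ (Nat.card Fˣ) = 1 := by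
      have := congrArg Units.val (pow_card_eq_one' (x := Units.mk0 _ hKc))
      rwa [Units.val_pow_eq_pow_val, Units.val_mk0, Units.val_one] at this
    have hcp : 0 < Nat.card Fˣ := Nat.card_pos
    have h := hpow (k + Nat.card Fˣ - 1)
    rw [show k + Nat.card Fˣ - 1 + 1 = k + Nat.card Fˣ by omega, pow_add, hord, mul_one, ← hk,
      mul_div_cancel_right₀ _ hK0] at h
    exact h
  -- the second vector
  have hcol1 : ∀ i : Fin m, ∀ a : F, Mem H (a • (Pi.single i.castSucc 1 : (Fin (m + 1) → F))) εl := by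
    have key : ∀ k : ℕ, ∀ hk : k < m, ∀ a : F,
        Mem H (a • (Pi.single (⟨k, hk⟩ : Fin m).castSucc 1 : (Fin (m + 1) → F))) εl := by
      intro k
      induction k with
      | zero => exact fun hk a => hall a
      | succ k ih =>
        intro hk a
        set i : Fin m := ⟨k, by omega⟩ with hi
        have hsucc : i.succ = (⟨k + 1, hk⟩ : Fin m).castSucc := rfl
        have hne : i.succ ≠ Fin.last m := fun e => by
          have := congrArg Fin.val e; simp [i] at this; omega
        set b := a / α i with hb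
        have h1 := mem_conj hM' (ih (by omega) b)
        have h2 := mem_comm (hall ((-(φ 0))⁻¹)) h1 (by
          rw [mulVec_smul, hMcol, dotProduct_smul, dotProduct_add, dotProduct_smul, hεl]
          rw [single_one_dotProduct, single_one_dotProduct, Pi.single_eq_of_ne (Fin.castSucc_lt_last i).ne',
            Pi.single_eq_of_ne hne.symm, smul_zero, add_zero, smul_zero])
        rw [dotProduct_smul, dotProduct_single_one, ← hφ, smul_eq_mul, mulVec_smul, hMcol, smul_smul,
          smul_add, smul_smul] at h2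
        have hcoef : -((-(φ 0))⁻¹ * φ 0) * b = b := by field_simp
        rw [hcoef] at h2
        have h3 := mem_sub h2 (ih (by omega) b)
        rw [add_sub_cancel_left, hb, div_mul_cancel₀ _ (hα i), hsucc] at h3
        exact h3
    exact fun i a => key i.val i.2 a
  have hlast : Col H εl := by
    intro v hv
    have hsum : v = ∑ i : Fin m, v i.castSucc • (Pi.single i.castSucc 1 : (Fin (m + 1) → F)) := by
      have h0 : v (Fin.last m) = 0 := by
        rw [hεl, single_one_dotProduct] at hv; exact hv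
      funext x
      induction x using Fin.lastCases with
      | last => simp [h0, Pi.single_apply, (Fin.castSucc_lt_last _).ne']
      | cast x => simp [Pi.single_apply]
    rw [hsum]
    exact Finset.sum_induction _ (fun w => Mem H w εl) (fun _ _ => mem_add) (mem_zero _)
      fun i _ => hcol1 i _
  have hcols : ∀ j : Fin (m + 1), Col H (Pi.single j 1) := by
    intro j
    induction j using Fin.reverseInduction with
    | last => exact hlast
    | cast i ih =>
      have h1 := col_conj (inv_mem hM') ih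
      rw [inv_inv, hMrow] at h1
      obtain ⟨-, g, hg, hg'⟩ := ih ((-(α i)⁻¹) • (Pi.single i.castSucc 1 : (Fin (m + 1) → F))) (by
        rw [dotProduct_smul, single_one_dotProduct, Pi.single_eq_of_ne Fin.castSucc_lt_succ.ne', smul_zero])
      have h2 := col_conj (inv_mem hg) h1
      rw [inv_inv, hg', vecMul_add, vecMul_one, vecMul_vecMulVec] at h2
      have h3 := col_smul (inv_ne_zero (hα i)) h2
      convert h3 using 1
      rw [add_dotProduct, smul_dotProduct, dotProduct_smul, dotProduct_smul, single_one_dotProduct,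
        single_one_dotProduct, Pi.single_eq_same, Pi.single_eq_of_ne Fin.castSucc_lt_succ.ne']
      simp only [smul_eq_mul, mul_one, mul_zero, zero_add, mul_neg, mul_inv_cancel₀ (hα i), neg_one_smul,
        smul_zero, add_zero]
      rw [add_right_comm, add_neg_cancel, zero_add, smul_smul, inv_mul_cancel₀ (hα i), one_smul]
  haveI : Nontrivial (Fin (m + 1)) := Fin.nontrivial_iff_two_le.2 (by omega)
  refine eq_top_of_transvection_mem H fun i j hij a => ?_
  obtain ⟨-, g, hg, hg'⟩ := hcols j (a • (Pi.single i 1 : (Fin (m + 1) → F))) (by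
    rw [dotProduct_smul, single_one_dotProduct, Pi.single_eq_of_ne hij.symm, smul_zero])
  convert hg using 1
  refine Subtype.ext ?_
  rw [hg', Matrix.SpecialLinearGroup.transvection_coe]
  congr 1
  refine Matrix.ext fun x y => ?_
  simp only [vecMulVec_apply, Pi.smul_apply, Pi.single_apply, Matrix.single_apply, smul_eq_mul]
  by_cases hx : x = i <;> by_cases hy : y = j <;>
    simp [hx, hy, eq_comm (a := i), eq_comm (a := j)]

theorem generated_succ (hm : 2 ≤ m) :
    ∃ u g h : (Matrix.SpecialLinearGroup (Fin (m + 1)) F),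
      (IsNilpotent ((u : Matrix (Fin (m + 1)) (Fin (m + 1)) F) - 1) ∧
        ((u : Matrix (Fin (m + 1)) (Fin (m + 1)) F) - 1) ^ (m + 1 - 1) ≠ 0) ∧
      Subgroup.closure ({u, g * u * g⁻¹, h * u * h⁻¹} : Set (Matrix.SpecialLinearGroup (Fin (m + 1)) F)) = ⊤ := by
  classical
  let u : (Matrix.SpecialLinearGroup (Fin (m + 1)) F) := ⟨uMat F m, uMat_det⟩
  let P : Matrix (Fin (m + 1)) (Fin (m + 1)) F := Equiv.Perm.permMatrix F (Fin.revPerm)
  have hP : P.det ≠ 0 := by
    rw [det_permutation]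
    rcases Int.units_eq_one_or (Equiv.Perm.sign (Fin.revPerm : Equiv.Perm (Fin (m + 1)))) with e | e <;>
      simp [e]
  let d : Fin (m + 1) → F := fun i => if i = 0 then P.det⁻¹ else 1
  have hd : ∀ i, d i ≠ 0 := fun i => by
    simp only [d]; split_ifs <;> simp [hP]
  let w : (Matrix.SpecialLinearGroup (Fin (m + 1)) F) := ⟨Matrix.diagonal d * P, by
    rw [det_mul, det_diagonal, Finset.prod_eq_single 0]
    · simp only [d, if_pos]; exact inv_mul_cancel₀ hP
    · intro b _ hb; simp [d, hb]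
    · simp⟩
  let α : Fin m → F := fun i => d i.succ / d i.castSucc
  have hWu : ∀ i j, (w.1 * u.1) i j = d i * uMat F m i.rev j := fun i j => by
    show ((Matrix.diagonal d * P) * uMat F m) i j = _
    rw [Matrix.mul_assoc, Matrix.diagonal_mul, Matrix.mul_apply, Finset.sum_eq_single i.rev]
    · simp [P, Equiv.Perm.permMatrix, PEquiv.toMatrix_apply]
    · intro b _ hb
      simp [P, Equiv.Perm.permMatrix, PEquiv.toMatrix_apply, hb.symm]
    · simp
  let M : (Matrix.SpecialLinearGroup (Fin (m + 1)) F) := w * u * w⁻¹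
  let M0 : Matrix (Fin (m + 1)) (Fin (m + 1)) F := fun i j => d i * uMat F m i.rev j.rev / d j
  have hM0 : ∀ i j, M0 i j = if i = j ∨ (i : ℕ) = j + 1 then d i / d j else 0 := fun i j => by
    simp only [M0, uMat]
    have hi := i.2
    have hj := j.2
    by_cases h : i = j ∨ (i : ℕ) = j + 1
    · rw [if_pos h, if_pos, mul_one]
      rcases h with rfl | h
      · exact Or.inl rfl
      · exact Or.inr (by simp [Fin.val_rev]; omega)
    · rw [if_neg h, if_neg, mul_zero, zero_div]
      simp only [not_or, Fin.ext_iff, Fin.val_rev] at h ⊢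
      omega
  have h1 : M.1 = M0 := by
    have h0 : w.1 * u.1 = M0 * w.1 := by
      refine Matrix.ext fun x y => ?_
      rw [hWu]
      show _ = (M0 * (Matrix.diagonal d * P)) x y
      rw [← Matrix.mul_assoc, Matrix.mul_apply, Finset.sum_eq_single y.rev]
      · rw [Matrix.mul_diagonal]
        simp [P, M0, Equiv.Perm.permMatrix, PEquiv.toMatrix_apply, div_mul_cancel₀ _ (hd _)]
      · intro b _ hb
        have : b.rev ≠ y := fun e => hb (by rw [← e, Fin.rev_rev])
        simp [P, Equiv.Perm.permMatrix, PEquiv.toMatrix_apply, this]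
      · simp
    show w.1 * u.1 * (w⁻¹ : (Matrix.SpecialLinearGroup (Fin (m + 1)) F)).1 = M0
    rw [h0, Matrix.mul_assoc, show w.1 * (w⁻¹ : (Matrix.SpecialLinearGroup (Fin (m + 1)) F)).1 = 1 from congrArg Subtype.val (mul_inv_cancel w),
      Matrix.mul_one]
  have hMcol : ∀ i : Fin m, M.1 *ᵥ Pi.single i.castSucc 1 =
      (Pi.single i.castSucc 1 : Fin (m + 1) → F) + α i • (Pi.single i.succ 1 : Fin (m + 1) → F) :=
    fun i => by
    funext x
    rw [mulVec_single_one, Matrix.col_apply, h1, hM0]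
    rcases eq_or_ne x i.castSucc with rfl | hne
    · simp [hd, (Fin.castSucc_lt_succ (i := i)).ne]
    · rcases eq_or_ne x i.succ with rfl | hne'
      · simp [α, (Fin.castSucc_lt_succ (i := i)).ne']
      · have : (x : ℕ) ≠ i + 1 := fun e => hne' (Fin.ext (by simpa using e))
        simp [hne, hne', this]
  have hMrow : ∀ i : Fin m, (Pi.single i.succ 1 : Fin (m + 1) → F) ᵥ* M.1 =
      Pi.single i.succ 1 + α i • (Pi.single i.castSucc 1 : Fin (m + 1) → F) := fun i => by
    funext x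
    rw [single_one_vecMul, Matrix.row_apply, h1, hM0]
    rcases eq_or_ne x i.succ with rfl | hne
    · simp [hd, (Fin.castSucc_lt_succ (i := i)).ne']
    · rcases eq_or_ne x i.castSucc with rfl | hne'
      · simp [α, (Fin.castSucc_lt_succ (i := i)).ne]
      · have : (i : ℕ) ≠ x := fun e => hne' (Fin.ext (by simpa using e.symm))
        simp [hne, hne', hne.symm, this]
  set φ0 := ((Pi.single (Fin.last m) 1 : Fin (m + 1) → F) ᵥ* (M⁻¹ : (Matrix.SpecialLinearGroup (Fin (m + 1)) F)).1) 0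
  obtain ⟨g0, hg0⟩ := IsCyclic.exists_monoid_generator (α := Fˣ)
  let c : F := (g0 : F) / (α ⟨0, by omega⟩ * φ0)
  obtain ⟨k, hk⟩ := exists_tv (v := c • (Pi.single (⟨1, by omega⟩ : Fin (m + 1)) 1 : Fin (m + 1) → F))
    (φ := Pi.single (Fin.last m) 1) (by
      rw [dotProduct_smul, single_one_dotProduct, Pi.single_eq_of_ne, smul_zero]
      intro e; have := congrArg Fin.val e; simp at this; omega)
  refine ⟨u, k, w, uMat_regular, ?_⟩
  set H := Subgroup.closure ({u, k * u * k⁻¹, w * u * w⁻¹} : Set (Matrix.SpecialLinearGroup (Fin (m + 1)) F))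
  have hu' : u ∈ H := Subgroup.subset_closure (by simp)
  have hx : Mem H ((-c) • (Pi.single 0 1 : Fin (m + 1) → F)) (Pi.single (Fin.last m) 1) := by
    refine ⟨?_, u⁻¹ * (k * u * k⁻¹), mul_mem (inv_mem hu') (Subgroup.subset_closure (by simp)), ?_⟩
    · rw [dotProduct_smul, single_one_dotProduct, Pi.single_eq_of_ne, smul_zero]
      intro e; have := congrArg Fin.val e; simp at this; omega
    obtain ⟨X, hX⟩ := exists_tv (v := (-c) • (Pi.single 0 1 : Fin (m + 1) → F))
      (φ := Pi.single (Fin.last m) 1) (by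
        rw [dotProduct_smul, single_one_dotProduct, Pi.single_eq_of_ne, smul_zero]
        intro e; have := congrArg Fin.val e; simp at this; omega)
    have heq : k * u = u * (X * k) := by
      refine Subtype.ext ?_
      show k.1 * u.1 = u.1 * (X.1 * k.1)
      rw [hk, hX, mul_tv (by
        rw [dotProduct_smul, single_one_dotProduct, Pi.single_eq_of_ne, smul_zero]
        intro e; have := congrArg Fin.val e; simp at this; omega), add_mul, mul_add, one_mul, mul_one,
        vecMulVec_mul, mul_vecMulVec]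
      congr 1
      have hrow : (Pi.single (Fin.last m) 1 : Fin (m + 1) → F) ᵥ* u.1 = Pi.single (Fin.last m) 1 := by
        conv_lhs => rw [← last_vecMul (u := u) rfl, vecMul_vecMul,
          show (u⁻¹ : (Matrix.SpecialLinearGroup (Fin (m + 1)) F)).1 * u.1 = 1 from congrArg Subtype.val (inv_mul_cancel u), vecMul_one]
      rw [hrow, mulVec_add, mulVec_smul, mulVec_smul, show u.1 = uMat F m from rfl, uMat_col_zero,
        show (⟨1, by omega⟩ : Fin (m + 1)) = (⟨0, by omega⟩ : Fin m).succ from rfl, uMat_col_succ,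
        show (⟨0, by omega⟩ : Fin m).castSucc = (0 : Fin (m + 1)) from rfl, smul_add]
      congr 1
      module
    rw [show u⁻¹ * (k * u * k⁻¹) = X by rw [heq]; group]
    exact hX
  have hx' := mem_neg hx
  rw [← neg_smul, neg_neg] at hx'
  have hK : α ⟨0, by omega⟩ * φ0 ≠ 0 :=
    mul_ne_zero (div_ne_zero (hd _) (hd _)) (phi_ne α (fun i => div_ne_zero (hd _) (hd _)) hMcol)
  refine eq_top_of (u := u) (M := M) rfl (by omega) α (fun i => div_ne_zero (hd _) (hd _)) hMcol hMrow c
    (div_ne_zero g0.ne_zero hK) (fun z hz => ?_) hu' (Subgroup.subset_closure (by simp [M])) hx'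
  obtain ⟨j, hj⟩ := Submonoid.mem_powers_iff _ _ |>.1 (hg0 (Units.mk0 z hz))
  refine ⟨j, ?_⟩
  rw [show α ⟨0, by omega⟩ * φ0 * c = (g0 : F) from mul_div_cancel₀ _ hK]
  have := congrArg Units.val hj
  simpa using this.symm

theorem generated {n : ℕ} (hn : 3 ≤ n) :
    ∃ u g h : Matrix.SpecialLinearGroup (Fin n) F,
      (IsNilpotent ((u : Matrix (Fin n) (Fin n) F) - 1) ∧ ((u : Matrix (Fin n) (Fin n) F) - 1) ^ (n - 1) ≠ 0) ∧
      Subgroup.closure ({u, g * u * g⁻¹, h * u * h⁻¹} : Set (Matrix.SpecialLinearGroup (Fin n) F)) = ⊤ := by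
  obtain ⟨k, rfl⟩ : ∃ k, n = k + 1 := ⟨n - 1, by omega⟩
  exact generated_succ (by omega)

end CfsgLib.Classical.RegGen
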