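import Cfsg.Agent.Lib.Classical.SymmOrth
import Cfsg.Agent.Lib.Classical.OrthForms
import Cfsg.Prelude.Def_ClassicalGeometry

/-!
`SO_3(3) = S_4`, through the signed permutations of the hyperplane `Σ v = 0` of `F^4`.
-/

set_option autoImplicit false

namespace CfsgLib.Classical.SOThreeSymm

open Matrix

local notation "K" => ZMod 3
local notation "ι₃" => Unit ⊕ (Fin 1 ⊕ Fin 1)

/-- The basis of the hyperplane. -/
def bas : Fin 4 → ι₃ → K := ![Sum.elim (fun _ => 1) (Sum.elim (fun _ => 1) fun _ => -1),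
  Sum.elim (fun _ => -1) (Sum.elim (fun _ => 1) fun _ => -1),
  Sum.elim (fun _ => 0) (Sum.elim (fun _ => 1) fun _ => 0),
  Sum.elim (fun _ => 0) (Sum.elim (fun _ => 0) fun _ => -1)]

/-- The coordinates on the hyperplane. -/
def crd : ι₃ → Fin 4 → K := fun i k =>
  Sum.elim (fun _ => -bas k (.inl ())) (Sum.elim (fun _ => bas k (.inr (.inr 0))) fun _ => bas k (.inr (.inl 0))) i

/-- The matrix of a signed permutation. -/
def mat (σ : Equiv.Perm (Fin 4)) : Matrix ι₃ ι₃ K :=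
  Matrix.of fun i j => ((Equiv.Perm.sign σ : ℤ) : K) * ∑ k, crd i k * bas (σ⁻¹ k) j

theorem mat_mul : ∀ σ τ, mat (σ * τ) = mat σ * mat τ := by
  decide +kernel

theorem mat_one : mat 1 = 1 := by
  decide +kernel

theorem mat_det : ∀ σ, (mat σ).det = 1 := by
  decide +kernel

theorem mat_inj : ∀ σ, mat σ = 1 → σ = 1 := by
  decide +kernel

theorem mat_form : ∀ σ (a x y : K),
    Cfsg.quadFormOdd 1 K (mat σ *ᵥ Sum.elim (fun _ => a) (Sum.elim (fun _ => x) fun _ => y)) =
      Cfsg.quadFormOdd 1 K (Sum.elim (fun _ => a) (Sum.elim (fun _ => x) fun _ => y)) := by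
  decide +kernel

end CfsgLib.Classical.SOThreeSymm

namespace CfsgLib.Classical.SOThreeSymm

open Matrix CfsgLib.Orth

theorem specialIso_congr {F K' : Type*} [Field F] [Field K'] [Fintype F] [Fintype K']
    (φ : F ≃+* K') (ι : Type) [Fintype ι] [DecidableEq ι] (QF : (ι → F) → F) (QK : (ι → K') → K')
    (h : ∀ v, φ (QF v) = QK (φ ∘ v)) :
    Nonempty (↥(Cfsg.specialIsometryGroup F QF) ≃* ↥(Cfsg.specialIsometryGroup K' QK)) := by
  let Φ : GL ι F ≃* GL ι K' := Units.mapEquiv φ.mapMatrix.toMulEquiv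
  have hdet : ∀ g : GL ι F, φ ((g : Matrix ι ι F).det) = ((Φ g : GL ι K') : Matrix ι ι K').det := fun g =>
    φ.map_det _
  have hiff : ∀ g : GL ι F, g ∈ Cfsg.isometryGroup F QF ↔ Φ g ∈ Cfsg.isometryGroup K' QK := fun g => by
    have hΦ : ∀ u : ι → F, φ ∘ ((g : Matrix ι ι F) *ᵥ u) = (Φ g : Matrix ι ι K') *ᵥ (φ ∘ u) := fun u => by
      funext i
      simp [Φ, Matrix.mulVec, dotProduct, map_sum]
    constructor
    · intro hg u v
      show QK ((Φ g : Matrix ι ι K') *ᵥ u) = QK u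
      have e1 : φ ∘ (φ.symm ∘ u) = u := funext fun i => φ.apply_symm_apply _
      rw [← e1, ← hΦ, ← h, ← h]
      exact congrArg φ (hg (φ.symm ∘ u) (φ.symm ∘ v))
    · intro hg u v
      show QF ((g : Matrix ι ι F) *ᵥ u) = QF u
      apply φ.injective
      rw [h, h, hΦ]
      exact hg (φ ∘ u) (φ ∘ v)
  let e : ↥(Cfsg.isometryGroup F QF) ≃* ↥(Cfsg.isometryGroup K' QK) :=
    { toFun := fun g => ⟨Φ g.1, (hiff g.1).1 g.2⟩
      invFun := fun g => ⟨Φ.symm g.1, (hiff _).2 (by rw [Φ.apply_symm_apply]; exact g.2)⟩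
      left_inv := fun g => Subtype.ext (Φ.symm_apply_apply _)
      right_inv := fun g => Subtype.ext (Φ.apply_symm_apply _)
      map_mul' := fun a b => Subtype.ext (map_mul Φ _ _) }
  have he : (Cfsg.specialIsometryGroup F QF).map e.toMonoidHom = Cfsg.specialIsometryGroup K' QK := by
    ext g
    rw [Subgroup.mem_map_equiv]
    show Matrix.GeneralLinearGroup.det (e.symm g).1 = 1 ↔ Matrix.GeneralLinearGroup.det g.1 = 1
    have := hdet (e.symm g).1
    rw [show Φ (e.symm g).1 = g.1 from Φ.apply_symm_apply _] at this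
    rw [Units.ext_iff, Units.ext_iff]
    show ((e.symm g).1 : Matrix ι ι F).det = 1 ↔ (g.1 : Matrix ι ι K').det = 1
    rw [← this, map_eq_one_iff _ φ.injective]
  exact ⟨(Subgroup.equivMapOfInjective _ e.toMonoidHom e.injective).trans (MulEquiv.subgroupCongr he)⟩

local notation "K" => ZMod 3
local notation "ι₃" => Unit ⊕ (Fin 1 ⊕ Fin 1)

theorem so_three_three : Nonempty (↥(Cfsg.specialIsometryGroup K (Cfsg.quadFormOdd 1 K)) ≃* Equiv.Perm (Fin 4)) := by
  classical
  let hom : Equiv.Perm (Fin 4) →* Matrix ι₃ ι₃ K := { toFun := mat, map_one' := mat_one, map_mul' := mat_mul }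
  have hiso : ∀ σ, hom.toHomUnits σ ∈ Cfsg.isometryGroup K (Cfsg.quadFormOdd 1 K) := fun σ v _ => by
    show Cfsg.quadFormOdd 1 K (mat σ *ᵥ v) = Cfsg.quadFormOdd 1 K v
    have e : v = Sum.elim (fun _ => v (.inl ())) (Sum.elim (fun _ => v (.inr (.inl 0))) fun _ => v (.inr (.inr 0))) := by
      funext i
      rcases i with u | i | i
      · rfl
      · rw [Fin.fin_one_eq_zero i]; rfl
      · rw [Fin.fin_one_eq_zero i]; rfl
    rw [e]
    exact mat_form σ _ _ _
  let ρ₁ := hom.toHomUnits.codRestrict (Cfsg.isometryGroup K (Cfsg.quadFormOdd 1 K)) hiso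
  let ρ : Equiv.Perm (Fin 4) →* ↥(Cfsg.specialIsometryGroup K (Cfsg.quadFormOdd 1 K)) :=
    ρ₁.codRestrict _ fun σ => Units.ext (mat_det σ)
  have hinj : Function.Injective ρ := (injective_iff_map_eq_one ρ).2 fun σ hσ => mat_inj σ
    (congrArg (fun g : ↥(Cfsg.specialIsometryGroup K (Cfsg.quadFormOdd 1 K)) => ((g.1.1 : GL ι₃ K) : Matrix ι₃ ι₃ K)) hσ)
  obtain ⟨Q, hQ, hB⟩ := exists_quadForm_odd (show (2 : K) ≠ 0 by decide) 1
  have hc := card_orth_odd (show (2 : K) ≠ 0 by decide) 1 hQ hB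
  set χ := Matrix.GeneralLinearGroup.det.comp (Cfsg.isometryGroup K (Cfsg.quadFormOdd 1 K)).subtype
  have hneg : (-1 : GL ι₃ K) ∈ Cfsg.isometryGroup K (Cfsg.quadFormOdd 1 K) := fun v _ => by
    show Cfsg.quadFormOdd 1 K ((-1 : Matrix ι₃ ι₃ K) *ᵥ v) = Cfsg.quadFormOdd 1 K v
    simp [Cfsg.quadFormOdd, Matrix.neg_mulVec]
  have hrange : χ.range = ⊤ := eq_top_iff.2 fun u _ => by
    have hu : ∀ u : Kˣ, u = 1 ∨ u = -1 := by decide
    rcases hu u with rfl | rfl
    · exact one_mem _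
    · refine ⟨⟨-1, hneg⟩, Units.ext ?_⟩
      show ((-1 : GL ι₃ K) : Matrix ι₃ ι₃ K).det = _
      simp [Matrix.det_neg]
  have h1 := Subgroup.card_eq_card_quotient_mul_card_subgroup χ.ker
  rw [Nat.card_congr (QuotientGroup.quotientKerEquivRange χ).toEquiv, hrange, Subgroup.card_top] at h1
  have hunits : Nat.card Kˣ = 2 := by rw [Nat.card_eq_fintype_card]; rfl
  rw [hunits] at h1
  have hcard : Nat.card ↥(Cfsg.specialIsometryGroup K (Cfsg.quadFormOdd 1 K)) = 24 := by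
    show Nat.card χ.ker = 24
    have h2 : Nat.card ↥(Cfsg.isometryGroup K (Cfsg.quadFormOdd 1 K)) = 48 := by
      rw [← hQ]
      refine hc.trans ?_
      simp
    omega
  have hbij : Function.Bijective ρ := (Nat.bijective_iff_injective_and_card _).2 ⟨hinj, by
    rw [hcard, Nat.card_perm, Nat.card_eq_fintype_card, Fintype.card_fin]; rfl⟩
  exact ⟨(MulEquiv.ofBijective ρ hbij).symm⟩

/-- `SO_3(3) = S_4` over any field with three elements. -/
theorem so_three_of_card {F : Type*} [Field F] [Fintype F] (hF : Fintype.card F = 3) :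
    Nonempty (↥(Cfsg.specialIsometryGroup F (Cfsg.quadFormOdd 1 F)) ≃* Equiv.Perm (Fin 4)) := by
  obtain ⟨e1⟩ := so_three_three
  have h3 : Fintype.card F = Fintype.card K := by rw [hF]; rfl
  obtain ⟨e2⟩ := specialIso_congr (FiniteField.ringEquivOfCardEq h3) ι₃ (Cfsg.quadFormOdd 1 F)
    (Cfsg.quadFormOdd 1 K) fun v => by simp [Cfsg.quadFormOdd]
  exact ⟨e2.trans e1⟩

end CfsgLib.Classical.SOThreeSymm
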