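import Cfsg.Agent.Lib.Classical.UnitaryMax

set_option autoImplicit false

/-!
The stabiliser of a pair of complementary totally singular subspaces is a maximal subgroup of the
special unitary group.
-/

namespace CfsgLib.Classical.HermPair

open Matrix Cfsg Herm
open CfsgLib.ClassicalAut (Unitary.Conj Unitary.space Unitary.skewSurj)

variable {F : Type*} [Field F] [Finite F] {q : ℕ} (K : Unitary.Conj F q) {n k : ℕ}

local notation "H" => hermForm n F q
local notation "G" => SU n F q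

/-- A polarisation. -/
structure Pol (q k : ℕ) (U W : Submodule F (Fin n → F)) : Prop where
  compl : IsCompl U W
  u0 : ∀ x ∈ U, ∀ y ∈ U, hermForm n F q x y = 0
  w0 : ∀ x ∈ W, ∀ y ∈ W, hermForm n F q x y = 0
  dimU : Module.finrank F U = k
  dimW : Module.finrank F W = k

omit [Finite F] in
theorem Pol.symm {U W : Submodule F (Fin n → F)} (P : Pol q k U W) : Pol q k W U :=
  ⟨P.compl.symm, P.w0, P.u0, P.dimW, P.dimU⟩

/-- The elements preserving or interchanging `U` and `W`. -/
def pstab (U W : Submodule F (Fin n → F)) : Set G :=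
  {g | ((∀ x ∈ U, app g x ∈ U) ∧ ∀ x ∈ W, app g x ∈ W) ∨
    ((∀ x ∈ U, app g x ∈ W) ∧ ∀ x ∈ W, app g x ∈ U)}

omit [Finite F] in
theorem pstab_symm (U W : Submodule F (Fin n → F)) : (pstab W U : Set G) = pstab U W := by
  ext g
  exact ⟨fun h => h.imp And.symm And.symm, fun h => h.imp And.symm And.symm⟩

/-- `g` is the elation of the pair `a`, `b`. -/
def IsE (g : G) (a b : Fin n → F) : Prop :=
  ∀ x, app g x = x + hermForm n F q x b • a - hermForm n F q x a • b

include K

theorem exists_E (hn : 3 ≤ n) {a b : Fin n → F} (ha : H a a = 0) (hb : H b b = 0) (hab : H a b = 0) :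
    ∃ g : G, IsE g a b := by
  obtain ⟨g, hg⟩ := exists_siegel K hn (a := b) (b := a) (c := 0) hb hab
    (by rw [ha, map_zero, add_zero, add_zero])
  exact ⟨g, fun x => by rw [hg, zero_mul, zero_smul, add_zero]⟩

theorem isE_smul {g : G} {a b : Fin n → F} (c : F) :
    IsE g (c • a) b ↔ IsE g a (K.bar c • b) := by
  refine forall_congr' fun x => ?_
  rw [h_smul_right K, h_smul_right K, K.bar_bar, smul_smul, smul_smul,
    mul_comm (H x b) c, mul_comm (K.bar c) (H x a)]

theorem isE_conj {g e : G} {a b : Fin n → F} (he : IsE e a b) :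
    IsE (g * e * g⁻¹) (app g a) (app g b) := fun x => by
  have e1 : H (app g⁻¹ x) a = H x (app g a) := by conv_rhs => rw [← app_inv' g x, h_app]
  have e2 : H (app g⁻¹ x) b = H x (app g b) := by conv_rhs => rw [← app_inv' g x, h_app]
  have hsub : ∀ y z, app g (y - z) = app g y - app g z := fun y z => (lin g).map_sub y z
  rw [app_mul, app_mul, he, hsub, app_add, app_smul, app_smul, app_inv', e1, e2]

theorem isE_pstab {U W : Submodule F (Fin n → F)} (P : Pol q k U W) {g : G} {a b : Fin n → F}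
    (ha : a ∈ U) (hb : b ∈ W) (hg : IsE g a b) : g ∈ pstab U W := by
  refine Or.inl ⟨fun x hx => ?_, fun x hx => ?_⟩ <;> rw [hg]
  · rw [P.u0 x hx a ha, zero_smul, sub_zero]
    exact U.add_mem hx (U.smul_mem _ ha)
  · rw [P.w0 x hx b hb, zero_smul, add_zero]
    exact W.sub_mem hx (W.smul_mem _ hb)

/-- Products of elations sharing a vector. -/
theorem isE_mul_apply {g g' : G} {a a' b : Fin n → F} (hg : IsE g a b) (hg' : IsE g' a' b)
    (hb : H b b = 0) (hab : H a b = 0) (hab' : H a' b = 0) (x : Fin n → F) :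
    app (g * g') x = x + H x b • (a + a') - (H x (a + a') + H a' a * H x b) • b := by
  rw [app_mul, hg', hg]
  simp only [h_sub_left K, h_add_left K, h_add_right K, h_smul_left K, hb, hab',
    h_eq_zero_symm K hab, mul_zero, add_zero, sub_zero]
  module

theorem mem_centres_of_pairs {M : Subgroup G} {b y a' : Fin n → F} (hb : H b b = 0)
    (hy : ∀ l : F, ∃ g ∈ M, IsE g (l • y) b) (ha : ∃ g ∈ M, IsE g a' b) (hyb : H y b = 0)
    (hab : H a' b = 0) (h : H y a' ≠ 0) : b ∈ centres K M := by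
  refine ⟨hb, fun t c ht => ?_⟩
  obtain ⟨s, hs⟩ := Unitary.skewSurj (n := n) K c
    (show (1 : F) * c + K.bar c = 0 by rw [one_mul, ht.2.1])
  replace hs : s - 1 * K.bar s = c := hs
  set l := s / H y a' with hl
  obtain ⟨g, hgM, hg⟩ := hy l
  obtain ⟨g', hgM', hg'⟩ := ha
  have hlb : H (l • y) b = 0 := by rw [h_smul_left K, hyb, mul_zero]
  have key : g * g' = g' * g * t := by
    refine ext_app fun x => ?_
    rw [app_mul (g' * g), ht.2.2, isE_mul_apply K hg hg' hb hlb hab, app_add, app_smul,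
      isE_mul_apply K hg' hg hb hab hlb, isE_mul_apply K hg' hg hb hab hlb,
      h_add_right K b, h_eq_zero_symm K hlb, h_eq_zero_symm K hab, hb]
    have e1 : H (l • y) a' = s := by rw [h_smul_left K, hl, div_mul_cancel₀ _ h]
    have e2 : H a' (l • y) = K.bar s := by rw [h_swap K (l • y) a', e1]
    rw [e1, e2, h_add_right K x, h_add_right K x, ← hs]
    module
  have : t = (g' * g)⁻¹ * (g * g') := by rw [key, inv_mul_cancel_left]
  rw [this]
  exact M.mul_mem (M.inv_mem (M.mul_mem hgM' hgM)) (M.mul_mem hgM hgM')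

variable {U W : Submodule F (Fin n → F)}

omit K [Finite F] in
theorem exists_parts (P : Pol q k U W) (x : Fin n → F) : ∃ x1 ∈ U, ∃ x2 ∈ W, x = x1 + x2 := by
  obtain ⟨a, ha, b, hb, h⟩ := Submodule.mem_sup.1
    (show x ∈ U ⊔ W by rw [P.compl.sup_eq_top]; exact Submodule.mem_top)
  exact ⟨a, ha, b, hb, h.symm⟩

/-- Separation inside a member of a polarisation. -/
theorem exists_sep (P : Pol q k U W) {Q : Submodule F (Fin n → F)} {x : Fin n → F}
    (hQ : Q ≤ U) (hx : x ∈ U) (hxQ : x ∉ Q) :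
    ∃ c ∈ W, (∀ z ∈ Q, H z c = 0) ∧ H x c = 1 := by
  obtain ⟨z, hz, hz1⟩ := exists_orth_one K hxQ
  obtain ⟨z1, hz1', z2, hz2, rfl⟩ := exists_parts P z
  have e : ∀ q' ∈ U, H q' (z1 + z2) = H q' z2 := fun q' hq => by
    rw [h_add_right K, P.u0 q' hq z1 hz1', zero_add]
  exact ⟨z2, hz2, fun q' hq => by rw [← e q' (hQ hq)]; exact hz q' hq, by rwa [← e x hx]⟩

theorem centres_of_mem (hn : 3 ≤ n) (P : Pol q k U W) {M : Subgroup G}
    (hM : (pstab U W : Set G) ⊆ M) {x y : Fin n → F}
    (hxy : H x y = 0) (hp : ∀ l : F, ∃ g ∈ M, IsE g (l • x) y) (hy : y ∈ U) (hy0 : y ≠ 0)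
    (hx : x ∉ W) : ∃ v ∈ U, v ≠ 0 ∧ v ∈ centres K M := by
  refine ⟨y, hy, hy0, ?_⟩
  have hyy := P.u0 y hy y hy
  obtain ⟨x1, hx1, x2, hx2, rfl⟩ := exists_parts P x
  by_cases hxs : x1 ∈ Submodule.span F {y}
  · obtain ⟨μ, rfl⟩ := Submodule.mem_span_singleton.1 hxs
    have hμ : μ ≠ 0 := fun e => hx (by rw [e, zero_smul, zero_add]; exact hx2)
    have hyx2 : H x2 y = 0 := by
      rwa [h_add_left K, h_smul_left K, hyy, mul_zero, zero_add] at hxy
    refine ⟨hyy, fun t c ht => ?_⟩
    obtain ⟨s, hs⟩ := Unitary.skewSurj (n := n) K c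
      (show (1 : F) * c + K.bar c = 0 by rw [one_mul, ht.2.1])
    replace hs : s - 1 * K.bar s = c := hs
    set l := s / μ with hl
    obtain ⟨g, hgM, hg⟩ := hp l
    have hA : H ((-l) • x2) y = 0 := by rw [h_smul_left K, hyx2, mul_zero]
    have hx22 : H ((-l) • x2) ((-l) • x2) = 0 := P.w0 _ (W.smul_mem _ hx2) _ (W.smul_mem _ hx2)
    obtain ⟨e, he⟩ := exists_E K hn hyy hx22 (h_eq_zero_symm K hA)
    have he' : e⁻¹ ∈ M := M.inv_mem (hM (isE_pstab K P hy (W.smul_mem _ hx2) he))
    have hex : ∀ z, app e⁻¹ z = z + H z y • ((-l) • x2) - H z ((-l) • x2) • y := fun z => by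
      apply app_injective e
      rw [app_inv', he]
      simp only [h_add_left K, h_sub_left K, h_smul_left K _ ((-l) • x2), h_smul_left K _ y,
        hA, hx22, hyy, h_eq_zero_symm K hA, mul_zero, add_zero, sub_zero]
      module
    have key : t = g * e⁻¹ := by
      refine ext_app fun z => ?_
      rw [ht.2.2, isE_mul_apply K hg hex hyy (by rw [h_smul_left K, hxy, mul_zero]) hA,
        show H ((-l) • x2) (l • (μ • y + x2)) = 0 by
          rw [h_smul_left K, h_smul_right K, h_add_right K, h_smul_right K, hyx2,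
            P.w0 x2 hx2 x2 hx2]; ring,
        show l • (μ • y + x2) + (-l) • x2 = s • y by
          rw [show s = l * μ by rw [hl, div_mul_cancel₀ _ hμ]]; module,
        h_smul_right K, ← hs]
      module
    rw [key]
    exact M.mul_mem hgM he'
  · obtain ⟨c, hc, hcy, hcx⟩ :=
      exists_sep K P ((Submodule.span_singleton_le_iff_mem _ _).2 hy) hx1 hxs
    have hyc := hcy y (Submodule.mem_span_singleton_self y)
    obtain ⟨e, he⟩ := exists_E K hn hyy (P.w0 c hc c hc) hyc
    refine mem_centres_of_pairs K hyy hp ⟨e⁻¹, M.inv_mem (hM (isE_pstab K P hy hc he)), fun z => ?_⟩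
      hxy (h_eq_zero_symm K hyc) ?_
    · apply app_injective e
      rw [app_inv', he]
      simp only [h_add_left K, h_sub_left K, h_smul_left K, hyy, hyc, h_eq_zero_symm K hyc,
        P.w0 c hc c hc, mul_zero, add_zero, sub_zero]
      module
    · rw [h_add_left K, P.w0 x2 hx2 c hc, add_zero, hcx]
      exact one_ne_zero

/-- The commutator of an elation up to a transvection with another elation of the same axis. -/
theorem mem_centres_of_pairs' {M : Subgroup G} {b y a' : Fin n → F} (hb : H b b = 0)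
    (hy : ∀ l : F, ∃ g ∈ M, ∃ κ : F, ∀ z, app g z =
      z + H z b • (l • y) - H z (l • y) • b + (κ * H z b) • b)
    (ha : ∃ g ∈ M, IsE g a' b) (hyb : H y b = 0) (hab : H a' b = 0) (h : H y a' ≠ 0) :
    b ∈ centres K M := by
  refine ⟨hb, fun t c ht => ?_⟩
  obtain ⟨s, hs⟩ := Unitary.skewSurj (n := n) K c
    (show (1 : F) * c + K.bar c = 0 by rw [one_mul, ht.2.1])
  replace hs : s - 1 * K.bar s = c := hs
  set l := s / H y a' with hl
  obtain ⟨g, hgM, κ, hg⟩ := hy l
  obtain ⟨g', hgM', hg'⟩ := ha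
  have e1 : H (l • y) a' = s := by rw [h_smul_left K, hl, div_mul_cancel₀ _ h]
  have e2 : H a' (l • y) = K.bar s := by rw [h_swap K (l • y) a', e1]
  have hlb : H (l • y) b = 0 := by rw [h_smul_left K, hyb, mul_zero]
  have hbl : H b (l • y) = 0 := h_eq_zero_symm K hlb
  have hba : H b a' = 0 := h_eq_zero_symm K hab
  have key : g * g' = g' * g * t := by
    refine ext_app fun x => ?_
    rw [app_mul, app_mul, app_mul, ht.2.2, hg', hg, hg, hg']
    simp only [h_add_left K, h_sub_left K, h_smul_left K _ a', h_smul_left K _ b,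
      h_smul_left K _ (l • y), hb, hab, hlb, hbl, hba, e1, e2, mul_zero, add_zero, sub_zero, ← hs]
    module
  have : t = (g' * g)⁻¹ * (g * g') := by rw [key, inv_mul_cancel_left]
  rw [this]
  exact M.mul_mem (M.inv_mem (M.mul_mem hgM' hgM)) (M.mul_mem hgM hgM')

/-- Pairs are symmetric. -/
theorem pairs_symm {M : Subgroup G} {x y : Fin n → F} (hp : ∀ l : F, ∃ g ∈ M, IsE g (l • x) y) :
    ∀ l : F, ∃ g ∈ M, IsE g (l • y) x := fun l => by
  obtain ⟨g, hg, h⟩ := hp (-K.bar l)
  refine ⟨g, hg, fun z => ?_⟩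
  rw [h, h_smul_right K, h_smul_right K, map_neg, K.bar_bar]
  module

/-- From a centre outside both members, a centre in one. -/
theorem centre_of_centre (hn : 3 ≤ n) (hk : 3 ≤ k) (P : Pol q k U W) {M : Subgroup G}
    (hM : (pstab U W : Set G) ⊆ M) {y1 y2 : Fin n → F} (hy1 : y1 ∈ U) (hy2 : y2 ∈ W) (hy20 : y2 ≠ 0)
    (hC : y1 + y2 ∈ centres K M) : ∃ v, (v ∈ U ∨ v ∈ W) ∧ v ≠ 0 ∧ v ∈ centres K M := by
  let L : W →ₗ[F] F :=
    { toFun := fun w => H (w : _) y1
      map_add' := fun a b => h_add_left K _ _ _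
      map_smul' := fun c a => h_smul_left K c _ _ }
  obtain ⟨w, hw, hwy⟩ : ∃ w : W, w ∈ LinearMap.ker L ∧ (w : Fin n → F) ∉ Submodule.span F {y2} := by
    by_contra hc
    push Not at hc
    have h1 := L.finrank_range_add_finrank_ker
    have h3 : Module.finrank F (LinearMap.range L) ≤ 1 :=
      (Submodule.finrank_le _).trans_eq (Module.finrank_self F)
    have h4 : Module.finrank F (LinearMap.ker L) ≤ Module.finrank F (Submodule.span F {y2}) :=
      LinearMap.finrank_le_finrank_of_injective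
        (f := LinearMap.codRestrict (Submodule.span F {y2}) (W.subtype.comp (LinearMap.ker L).subtype)
          fun w => hc _ w.2)
        fun a b e => Subtype.ext (Subtype.ext (congrArg Subtype.val e : _))
    rw [finrank_span_singleton hy20] at h4
    rw [P.dimW] at h1
    omega
  have hw1 : H y1 (w : _) = 0 := h_eq_zero_symm K (LinearMap.mem_ker.1 hw)
  have hw0 : (w : Fin n → F) ≠ 0 := fun e => hwy (e ▸ zero_mem _)
  have hy2w : y2 ∉ Submodule.span F {(w : Fin n → F)} := fun h => by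
    obtain ⟨c, hc⟩ := Submodule.mem_span_singleton.1 h
    have hc0 : c ≠ 0 := fun e => hy20 (by rw [← hc, e, zero_smul])
    exact hwy (Submodule.mem_span_singleton.2 ⟨c⁻¹, by
      rw [← hc, smul_smul, inv_mul_cancel₀ hc0, one_smul]⟩)
  obtain ⟨u, hu, huw, huy⟩ := exists_sep K P.symm ((Submodule.span_singleton_le_iff_mem _ _).2 w.2) hy2 hy2w
  have hwu : H (w : _) u = 0 := huw _ (Submodule.mem_span_singleton_self _)
  have huu := P.u0 u hu u hu
  have hww := P.w0 _ w.2 _ w.2
  have hyw : H (y1 + y2) (w : _) = 0 := by rw [h_add_left K, hw1, P.w0 y2 hy2 _ w.2, add_zero]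
  have hyu : H (y1 + y2) u = 1 := by rw [h_add_left K, P.u0 y1 hy1 u hu, huy, zero_add]
  have huy' : H u (y1 + y2) = 1 := by rw [h_swap K (y1 + y2) u, hyu, map_one]
  obtain ⟨θ, hθ0, hθ⟩ := exists_skew K
  obtain ⟨T, hT⟩ := exists_T K hC.1 hθ
  have hTM : T ∈ M := hC.2 T θ hT
  obtain ⟨e₁, he₁⟩ := exists_E K hn huu hww (h_eq_zero_symm K hwu)
  refine ⟨w, Or.inr w.2, hw0, mem_centres_of_pairs' K hww (y := y1 + y2) (a' := u) (fun l => ?_)
    ⟨e₁, hM (isE_pstab K P hu w.2 he₁), he₁⟩ hyw (h_eq_zero_symm K hwu) (by rw [hyu]; exact one_ne_zero)⟩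
  set m := l / θ
  have hmu : H (m • u) (w : _) = 0 := by rw [h_smul_left K, h_eq_zero_symm K hwu, mul_zero]
  have hnu : H ((-m) • u) (w : _) = 0 := by rw [h_smul_left K, h_eq_zero_symm K hwu, mul_zero]
  have hmu0 : H (m • u) (m • u) = 0 := P.u0 _ (U.smul_mem _ hu) _ (U.smul_mem _ hu)
  obtain ⟨e, he⟩ := exists_E K hn hmu0 hww hmu
  obtain ⟨e', he'⟩ := exists_E K hn (P.u0 _ (U.smul_mem (-m) hu) _ (U.smul_mem (-m) hu)) hww hnu
  have hT1 : app T (w : _) = w := by
    rw [hT.2.2, h_eq_zero_symm K hyw, mul_zero, zero_smul, add_zero]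
  have hT2 : app T (m • u) = m • u + l • (y1 + y2) := by
    rw [hT.2.2, h_smul_left K, huy', mul_one, mul_div_cancel₀ _ hθ0]
  have hc := isE_conj K (g := T) he
  rw [hT1, hT2] at hc
  refine ⟨e' * (T * e * T⁻¹), M.mul_mem (hM (isE_pstab K P (U.smul_mem _ hu) w.2 he'))
    (M.mul_mem (M.mul_mem hTM (hM (isE_pstab K P (U.smul_mem _ hu) w.2 he))) (M.inv_mem hTM)),
    -H (m • u + l • (y1 + y2)) ((-m) • u), fun z => ?_⟩
  rw [isE_mul_apply K he' hc hww hnu (by rw [h_add_left K, hmu, h_smul_left K, hyw]; ring),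
    show (-m) • u + (m • u + l • (y1 + y2)) = l • (y1 + y2) by module]
  module

/-- A generic isotropic line with a partner. -/
theorem centre_of_plane (hn : 3 ≤ n) (hk : 3 ≤ k) (P : Pol q k U W) {M : Subgroup G}
    (hM : (pstab U W : Set G) ⊆ M)
    {x1 x2 y1 y2 : Fin n → F} (hx1 : x1 ∈ U) (hx2 : x2 ∈ W) (hy1 : y1 ∈ U) (hy2 : y2 ∈ W)
    (hxy : H (x1 + x2) (y1 + y2) = 0) (hyy : H (y1 + y2) (y1 + y2) = 0)
    (hxx : H (x1 + x2) (x1 + x2) = 0)
    (hp : ∀ l : F, ∃ g ∈ M, IsE g (l • (x1 + x2)) (y1 + y2))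
    (hi : x1 ∉ Submodule.span F {y1}) (hi' : x2 ∉ Submodule.span F {y2})
    (hne : k = 3 → ¬ (H y1 x2 = 0 ∧ H y1 y2 = 0)) : y1 + y2 ∈ centres K M := by
  obtain ⟨w₀, hw₀, hw₀y, hw₀x⟩ := exists_sep K P ((Submodule.span_singleton_le_iff_mem _ _).2 hy1) hx1 hi
  replace hw₀y : H y1 w₀ = 0 := hw₀y _ (Submodule.mem_span_singleton_self _)
  set S := Submodule.span F ({x2, y2} : Set (Fin n → F))
  obtain ⟨w, hw, hwy, hwx, hwS⟩ : ∃ w ∈ W, H y1 w = 0 ∧ H x1 w ≠ 0 ∧ w ∉ S := by
    by_cases hS : w₀ ∈ S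
    swap
    · exact ⟨w₀, hw₀, hw₀y, by rw [hw₀x]; exact one_ne_zero, hS⟩
    let L : W →ₗ[F] F :=
      { toFun := fun w => H (w : _) y1
        map_add' := fun a b => h_add_left K _ _ _
        map_smul' := fun c a => h_smul_left K c _ _ }
    obtain ⟨p, hp, hpS⟩ : ∃ p : W, p ∈ LinearMap.ker L ∧ (p : Fin n → F) ∉ S := by
      by_contra hc
      push Not at hc
      have h1 := L.finrank_range_add_finrank_ker
      have h3 : Module.finrank F (LinearMap.range L) ≤ 1 :=
        (Submodule.finrank_le _).trans_eq (Module.finrank_self F)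
      set Pm := (LinearMap.ker L).map W.subtype with hPm
      have hle : Pm ≤ S := by
        rw [hPm, Submodule.map_le_iff_le_comap]
        exact fun w hw => hc w hw
      have h4 : Module.finrank F Pm = Module.finrank F (LinearMap.ker L) :=
        ((LinearMap.ker L).equivMapOfInjective _ W.injective_subtype).finrank_eq.symm
      have h5 : Module.finrank F S ≤ 2 := by
        have := (finrank_range_le_card (R := F) ![x2, y2]).trans_eq (Fintype.card_fin 2)
        rwa [Matrix.range_cons, Matrix.range_cons, Matrix.range_empty, Set.union_empty,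
          Set.union_singleton, Set.pair_comm] at this
      rw [P.dimW] at h1
      have h6 := Submodule.finrank_mono hle
      have heq := Submodule.eq_of_le_of_finrank_le hle (by omega)
      have hmem : ∀ z ∈ S, H y1 z = 0 := fun z hz => by
        rw [← heq, hPm] at hz
        obtain ⟨w, hw, rfl⟩ := Submodule.mem_map.1 hz
        exact h_eq_zero_symm K (LinearMap.mem_ker.1 hw)
      exact hne (by omega) ⟨hmem _ (Submodule.subset_span (by simp)), hmem _ (Submodule.subset_span (by simp))⟩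
    have hpy : H y1 (p : _) = 0 := h_eq_zero_symm K (LinearMap.mem_ker.1 hp)
    by_cases hpx : H x1 (p : _) = 0
    · refine ⟨(p : _) + w₀, W.add_mem p.2 hw₀, ?_, ?_, fun h => hpS ((S.add_mem_iff_left hS).1 h)⟩
      · rw [h_add_right K, hpy, hw₀y, add_zero]
      · rw [h_add_right K, hpx, hw₀x, zero_add]; exact one_ne_zero
    · exact ⟨p, p.2, hpy, hpx, hpS⟩
  set Q := Submodule.span F ({w, y2} : Set (Fin n → F))
  have hx2Q : x2 ∉ Q := by
    intro h
    obtain ⟨α, β, hab⟩ := Submodule.mem_span_pair.1 h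
    by_cases hα : α = 0
    · exact hi' (Submodule.mem_span_singleton.2 ⟨β, by rw [← hab, hα, zero_smul, zero_add]⟩)
    · refine hwS (Submodule.mem_span_pair.2 ⟨α⁻¹, -(α⁻¹ * β), ?_⟩)
      rw [← hab, smul_add, smul_smul, smul_smul, inv_mul_cancel₀ hα]
      module
  have hQW : Q ≤ W := Submodule.span_le.2 fun z hz => by
    rcases hz with rfl | rfl
    · exact hw
    · exact hy2
  obtain ⟨u, hu, huQ, hux⟩ := exists_sep K P.symm hQW hx2 hx2Q
  have hwu : H w u = 0 := huQ _ (Submodule.subset_span (by simp))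
  have hyu : H y2 u = 0 := huQ _ (Submodule.subset_span (by simp))
  obtain ⟨ω, hω⟩ := K.exists_moved
  set c := K.bar (ω / H x1 w) with hcdef
  set w' := c • w
  have huw' : H u w' = 0 := by rw [h_smul_right K, h_eq_zero_symm K hwu, mul_zero]
  have hxw' : H x1 w' = ω := by rw [h_smul_right K, hcdef, K.bar_bar, div_mul_cancel₀ _ hwx]
  have hyw' : H y1 w' = 0 := by rw [h_smul_right K, hwy, mul_zero]
  have hwW : w' ∈ W := W.smul_mem _ hw
  clear_value w'
  obtain ⟨e, he⟩ := exists_E K hn (P.u0 u hu u hu) (P.w0 _ hwW _ hwW) huw'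
  have heM : e ∈ M := hM (isE_pstab K P hu hwW he)
  have hey : app e (y1 + y2) = y1 + y2 := by
    rw [he, h_add_left K, h_add_left K, hyw', P.w0 y2 hy2 _ hwW, P.u0 y1 hy1 u hu, hyu,
      add_zero, zero_smul, add_zero, zero_smul, sub_zero]
  obtain ⟨g, hgM, hg⟩ := hp 1
  rw [one_smul] at hg
  have hg' := isE_conj K (g := e) hg
  rw [hey] at hg'
  refine mem_centres_of_pairs K hyy hp ⟨_, M.mul_mem (M.mul_mem heM hgM) (M.inv_mem heM), hg'⟩ hxy ?_ ?_
  · rw [← hey, h_app]; exact hxy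
  have a1 : H (x1 + x2) w' = ω := by
    rw [h_add_left K, hxw', P.w0 x2 hx2 _ hwW, add_zero]
  have b1 : H (x1 + x2) u = 1 := by rw [h_add_left K, P.u0 x1 hx1 u hu, hux, zero_add]
  rw [he, h_sub_right K, h_add_right K, h_smul_right K, h_smul_right K, hxx, a1, b1, map_one]
  intro e0
  exact hω (by linear_combination e0)

theorem centres_of_generic (hn : 3 ≤ n) (hk : 3 ≤ k) (P : Pol q k U W) {M : Subgroup G}
    (hM : (pstab U W : Set G) ⊆ M) {x1 x2 y1 y2 : Fin n → F}
    (hx1 : x1 ∈ U) (hx2 : x2 ∈ W) (hy1 : y1 ∈ U) (hy2 : y2 ∈ W)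
    (hxy : H (x1 + x2) (y1 + y2) = 0) (hyy : H (y1 + y2) (y1 + y2) = 0)
    (hxx : H (x1 + x2) (x1 + x2) = 0)
    (hp : ∀ l : F, ∃ g ∈ M, IsE g (l • (x1 + x2)) (y1 + y2))
    (hx20 : x2 ≠ 0) (hy10 : y1 ≠ 0) (hy20 : y2 ≠ 0) (hi : x1 ∉ Submodule.span F {y1}) :
    ∃ v, (v ∈ U ∨ v ∈ W) ∧ v ≠ 0 ∧ v ∈ centres K M := by
  by_cases hi' : x2 ∈ Submodule.span F {y2}
  swap
  · by_cases hne : k = 3 ∧ H y1 x2 = 0 ∧ H y1 y2 = 0
    swap
    · exact centre_of_centre K hn hk P hM hy1 hy2 hy20
        (centre_of_plane K hn hk P hM hx1 hx2 hy1 hy2 hxy hyy hxx hp hi hi' fun e h => hne ⟨e, h⟩)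
    obtain ⟨rfl, hne⟩ := hne
    have flip : ∀ a b : Fin n → F, b ≠ 0 → a ∉ Submodule.span F {b} → b ∉ Submodule.span F {a} := by
      intro a b hb hab h
      obtain ⟨c, hc⟩ := Submodule.mem_span_singleton.1 h
      have hc0 : c ≠ 0 := fun e => hb (by rw [← hc, e, zero_smul])
      exact hab (Submodule.mem_span_singleton.2 ⟨c⁻¹, by
        rw [← hc, smul_smul, inv_mul_cancel₀ hc0, one_smul]⟩)
    refine centre_of_centre K hn le_rfl P hM hx1 hx2 hx20 (centre_of_plane K hn le_rfl P hM hy1 hy2 hx1 hx2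
      (h_eq_zero_symm K hxy) hxx hyy (pairs_symm K hp) (flip _ _ hy10 hi) (flip _ _ hy20 hi') ?_)
    rintro - ⟨h1, h2⟩
    -- `x2` and `y2` would both annihilate the plane of `x1`, `y1`
    let L : W →ₗ[F] (Fin 2 → F) :=
      { toFun := fun w => ![H (w : _) x1, H (w : _) y1]
        map_add' := fun a b => by ext i; fin_cases i <;> simp [h_add_left K]
        map_smul' := fun c a => by ext i; fin_cases i <;> simp [h_smul_left K] }
    obtain ⟨a, ha, hay, hax⟩ := exists_sep K P ((Submodule.span_singleton_le_iff_mem _ _).2 hy1) hx1 hi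
    obtain ⟨b, hb, hbx, hby⟩ := exists_sep K P ((Submodule.span_singleton_le_iff_mem _ _).2 hx1) hy1
      (flip _ _ hy10 hi)
    have hsurj : LinearMap.range L = ⊤ := by
      rw [eq_top_iff]
      intro v _
      refine ⟨v 0 • ⟨a, ha⟩ + v 1 • ⟨b, hb⟩, funext fun i => ?_⟩
      fin_cases i <;>
        simp [L, h_add_left K, h_smul_left K, h_eq_zero_symm K (hay _ (Submodule.mem_span_singleton_self _)),
          h_eq_zero_symm K (hbx _ (Submodule.mem_span_singleton_self _)), h_swap K x1 a, hax, h_swap K y1 b, hby]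
    have hrk := L.finrank_range_add_finrank_ker
    rw [hsurj, finrank_top, Module.finrank_fin_fun, P.dimW] at hrk
    have hker : ∀ z, ∀ hz : z ∈ W, H x1 z = 0 → H y1 z = 0 → (⟨z, hz⟩ : W) ∈ LinearMap.ker L :=
      fun z hz e1 e2 => by
        rw [LinearMap.mem_ker]
        ext i
        fin_cases i <;> simp [L, h_eq_zero_symm K e1, h_eq_zero_symm K e2]
    have hli : LinearIndependent F ![x2, y2] := by
      rw [LinearIndependent.pair_iff]
      intro s t e
      by_cases hs : s = 0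
      · subst hs
        rw [zero_smul, zero_add] at e
        exact ⟨rfl, (smul_eq_zero.1 e).resolve_right hy20⟩
      · refine absurd (Submodule.mem_span_singleton.2 ⟨-(s⁻¹ * t), ?_⟩) hi'
        have e' := congrArg (s⁻¹ • ·) e
        simp only [smul_add, smul_smul, inv_mul_cancel₀ hs, one_smul, smul_zero] at e'
        rw [neg_smul, neg_eq_iff_add_eq_zero, add_comm]
        exact e'
    have hsp : Submodule.span F (Set.range ![x2, y2]) ≤ (LinearMap.ker L).map W.subtype := by
      rw [Submodule.span_le]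
      rintro _ ⟨i, rfl⟩
      fin_cases i
      · exact ⟨⟨x2, hx2⟩, hker x2 hx2 h2 hne.1, rfl⟩
      · exact ⟨⟨y2, hy2⟩, hker y2 hy2 h1 hne.2, rfl⟩
    have h4 := Submodule.finrank_mono hsp
    rw [finrank_span_eq_card hli, Fintype.card_fin,
      ← ((LinearMap.ker L).equivMapOfInjective _ W.injective_subtype).finrank_eq] at h4
    omega
  obtain ⟨b, hb⟩ := Submodule.mem_span_singleton.1 hi'
  obtain ⟨u, hu, hu0, huy, hux⟩ : ∃ u ∈ U, u ≠ 0 ∧ H u y2 = 0 ∧ x1 ∉ Submodule.span F {y1, u} := by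
    let L : U →ₗ[F] F :=
      { toFun := fun u => H (u : _) y2
        map_add' := fun a b => h_add_left K _ _ _
        map_smul' := fun c a => h_smul_left K c _ _ }
    by_cases hy12 : H y1 y2 = 0
    · refine ⟨y1, hy1, hy10, hy12, ?_⟩
      rwa [Set.pair_eq_singleton]
    have h1 := L.finrank_range_add_finrank_ker
    have h3 : Module.finrank F (LinearMap.range L) ≤ 1 :=
      (Submodule.finrank_le _).trans_eq (Module.finrank_self F)
    rw [P.dimU] at h1
    obtain ⟨u, hu, hu'⟩ : ∃ u : U, u ∈ LinearMap.ker L ∧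
        (u : Fin n → F) ∉ Submodule.span F {x1 - (H x1 y2 / H y1 y2) • y1} := by
      by_contra hc
      push Not at hc
      have h4 := LinearMap.finrank_le_finrank_of_injective
        (f := LinearMap.codRestrict (Submodule.span F {x1 - (H x1 y2 / H y1 y2) • y1})
          (U.subtype.comp (LinearMap.ker L).subtype) fun w => hc _ w.2)
        fun a b e => Subtype.ext (Subtype.ext (congrArg Subtype.val e : _))
      have h5 := finrank_span_le_card (R := F) ({x1 - (H x1 y2 / H y1 y2) • y1} : Set (Fin n → F))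
      simp only [Set.toFinset_singleton, Finset.card_singleton] at h5
      omega
    have huy : H (u : _) y2 = 0 := LinearMap.mem_ker.1 hu
    refine ⟨u, u.2, fun e => hu' (e ▸ zero_mem _), huy, fun h => ?_⟩
    obtain ⟨α, β, hab⟩ := Submodule.mem_span_pair.1 h
    have hα : H x1 y2 = α * H y1 y2 := by
      rw [← hab, h_add_left K, h_smul_left K, h_smul_left K, huy, mul_zero, add_zero]
    have hβ : β ≠ 0 := fun e => hi (Submodule.mem_span_singleton.2 ⟨α, by
      rw [← hab, e, zero_smul, add_zero]⟩)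
    refine hu' (Submodule.mem_span_singleton.2 ⟨β⁻¹, ?_⟩)
    rw [hα, mul_div_cancel_right₀ _ hy12, ← hab, add_sub_cancel_left, smul_smul, inv_mul_cancel₀ hβ, one_smul]
  obtain ⟨w, hw, hwQ, hwx⟩ := exists_sep K P
    (Submodule.span_le.2 (Set.insert_subset hy1 (Set.singleton_subset_iff.2 hu))) hx1 hux
  have huw : H u w = 0 := hwQ _ (Submodule.subset_span (by simp))
  have hy1w : H y1 w = 0 := hwQ _ (Submodule.subset_span (by simp))
  have hy2u : H y2 u = 0 := h_eq_zero_symm K huy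
  have hyu : H (y1 + y2) u = 0 := by rw [h_add_left K, P.u0 y1 hy1 u hu, hy2u, add_zero]
  have hxu : H (x1 + x2) u = 0 := by
    rw [h_add_left K, P.u0 x1 hx1 u hu, ← hb, h_smul_left K, hy2u, mul_zero, add_zero]
  obtain ⟨e, he⟩ := exists_E K hn (P.u0 u hu u hu) (P.w0 w hw w hw) huw
  have heM : e ∈ M := hM (isE_pstab K P hu hw he)
  have hey : app e (y1 + y2) = y1 + y2 := by
    rw [he, hyu, h_add_left K, hy1w, P.w0 y2 hy2 w hw, add_zero, zero_smul, add_zero, zero_smul, sub_zero]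
  have hex : app e (x1 + x2) = x1 + x2 + u := by
    rw [he, hxu, h_add_left K, hwx, P.w0 x2 hx2 w hw, add_zero, one_smul, zero_smul, sub_zero]
  have hpairs : ∀ l : F, ∃ g ∈ M, IsE g (l • u) (y1 + y2) := fun l => by
    obtain ⟨g, hgM, hg⟩ := hp l
    obtain ⟨g', hgM', hg'⟩ := hp (-l)
    have hc := isE_conj K (g := e) hg
    rw [hey, app_smul, hex] at hc
    refine ⟨g' * (e * g * e⁻¹), M.mul_mem hgM' (M.mul_mem (M.mul_mem heM hgM) (M.inv_mem heM)), fun z => ?_⟩
    rw [isE_mul_apply K hg' hc hyy (by rw [h_smul_left K, hxy, mul_zero])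
      (by rw [h_smul_left K, h_add_left K, hxy, h_eq_zero_symm K hyu]; ring),
      show (-l) • (x1 + x2) + l • (x1 + x2 + u) = l • u by module,
      show H (l • (x1 + x2 + u)) ((-l) • (x1 + x2)) = 0 by
        rw [h_smul_left K, h_smul_right K, h_add_left K, hxx, h_eq_zero_symm K hxu]; ring,
      zero_mul, add_zero]
  obtain ⟨v, hv, hv0, hvC⟩ := centres_of_mem K hn P hM hyu (pairs_symm K hpairs) hu hu0
    (fun h => hy10 ((Submodule.eq_bot_iff _).1 P.compl.inf_eq_bot y1
      ⟨hy1, by simpa using W.sub_mem h hy2⟩))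
  exact ⟨v, Or.inl hv, hv0, hvC⟩

theorem exists_centre (hn : 3 ≤ n) (hnk : 2 * k = n) (hk : 3 ≤ k) (P : Pol q k U W) {M : Subgroup G}
    (hM : (pstab U W : Set G) ⊆ M) {g : G} (hg : g ∈ M) (hgs : g ∉ pstab U W) :
    ∃ v, (v ∈ U ∨ v ∈ W) ∧ v ≠ 0 ∧ v ∈ centres K M := by
  by_contra hc
  push Not at hc
  have hM' : (pstab W U : Set G) ⊆ M := (pstab_symm U W).le.trans hM
  have key : ∀ {A B : Submodule F (Fin n → F)}, Pol q k A B → (pstab A B : Set G) ⊆ M →
      ∀ u ∈ A, app g u ∈ U ∨ app g u ∈ W := by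
    intro A B PAB hAB u hu
    by_contra hor
    push Not at hor
    obtain ⟨hxU, hxW⟩ := hor
    obtain ⟨x1, hx1, x2, hx2, hx⟩ := exists_parts P (app g u)
    rw [hx] at hxU hxW
    have hx20 : x2 ≠ 0 := fun e => hxU (by rw [e, add_zero]; exact hx1)
    have hx10 : x1 ≠ 0 := fun e => hxW (by rw [e, zero_add]; exact hx2)
    let L : B →ₗ[F] F :=
      { toFun := fun w => H (w : _) u
        map_add' := fun a b => h_add_left K _ _ _
        map_smul' := fun c a => h_smul_left K c _ _ }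
    set S := Submodule.span F (Set.range ![x1, x2])
    have himg : ∀ w : B, w ∈ LinearMap.ker L → app g w ∈ S := by
      intro w hw
      by_cases hw0 : (w : Fin n → F) = 0
      · rw [hw0, show app g 0 = (0 : Fin n → F) from mulVec_zero _]
        exact S.zero_mem
      have huw : H u (w : _) = 0 := h_eq_zero_symm K (LinearMap.mem_ker.1 hw)
      have hxy : H (app g u) (app g w) = 0 := by rw [h_app, huw]
      have hp : ∀ l : F, ∃ e ∈ M, IsE e (l • app g u) (app g w) := fun l => by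
        have hl : H (l • u) (w : _) = 0 := by rw [h_smul_left K, huw, mul_zero]
        obtain ⟨e, he⟩ := exists_E K hn (PAB.u0 _ (A.smul_mem l hu) _ (A.smul_mem l hu))
          (PAB.w0 _ w.2 _ w.2) hl
        refine ⟨g * e * g⁻¹, M.mul_mem (M.mul_mem hg
          (hAB (isE_pstab K PAB (A.smul_mem l hu) w.2 he))) (M.inv_mem hg), ?_⟩
        rw [← app_smul]
        exact isE_conj K he
      have hgw0 : app g (w : Fin n → F) ≠ 0 := fun e => hw0 (app_injective g (e.trans
        (mulVec_zero _).symm))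
      rw [hx] at hxy hp
      by_cases h1 : app g w ∈ U
      · obtain ⟨v, hv, hv0, hvC⟩ := centres_of_mem K hn P hM hxy hp h1 hgw0 hxW
        exact absurd hvC (hc v (Or.inl hv) hv0)
      by_cases h3 : app g w ∈ W
      · obtain ⟨v, hv, hv0, hvC⟩ := centres_of_mem K hn P.symm hM' hxy hp h3 hgw0 hxU
        exact absurd hvC (hc v (Or.inr hv) hv0)
      obtain ⟨y1, hy1, y2, hy2, hy⟩ := exists_parts P (app g w)
      rw [hy] at hxy hp h1 h3 ⊢
      have hy20 : y2 ≠ 0 := fun e => h1 (by rw [e, add_zero]; exact hy1)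
      have hy10 : y1 ≠ 0 := fun e => h3 (by rw [e, zero_add]; exact hy2)
      have hyy : H (y1 + y2) (y1 + y2) = 0 := by
        rw [← hy, h_app]; exact PAB.w0 _ w.2 _ w.2
      have hxx : H (x1 + x2) (x1 + x2) = 0 := by
        rw [← hx, h_app]; exact PAB.u0 _ hu _ hu
      have hp' := hp
      have e2 : x2 ∈ Submodule.span F {y2} := by
        by_contra hind
        obtain ⟨v, hv, hv0, hvC⟩ := centres_of_generic K hn hk P.symm hM' hx2 hx1 hy2 hy1
          (by rwa [add_comm x2, add_comm y2]) (by rwa [add_comm y2]) (by rwa [add_comm x2])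
          (by rwa [add_comm x2, add_comm y2]) hx10 hy20 hy10 hind
        exact hc v hv.symm hv0 hvC
      have e1 : x1 ∈ Submodule.span F {y1} := by
        by_contra hind
        obtain ⟨v, hv, hv0, hvC⟩ := centres_of_generic K hn hk P hM hx1 hx2 hy1 hy2 hxy hyy hxx hp
          hx20 hy10 hy20 hind
        exact hc v hv hv0 hvC
      obtain ⟨a, ha⟩ := Submodule.mem_span_singleton.1 e1
      obtain ⟨b, hb⟩ := Submodule.mem_span_singleton.1 e2
      have ha0 : a ≠ 0 := fun e => hx10 (by rw [← ha, e, zero_smul])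
      have hb0 : b ≠ 0 := fun e => hx20 (by rw [← hb, e, zero_smul])
      rw [show y1 = a⁻¹ • x1 by rw [← ha, smul_smul, inv_mul_cancel₀ ha0, one_smul],
        show y2 = b⁻¹ • x2 by rw [← hb, smul_smul, inv_mul_cancel₀ hb0, one_smul]]
      exact S.add_mem (S.smul_mem _ (Submodule.subset_span ⟨0, rfl⟩))
        (S.smul_mem _ (Submodule.subset_span ⟨1, rfl⟩))
    have h1 := L.finrank_range_add_finrank_ker
    have h3 : Module.finrank F (LinearMap.range L) ≤ 1 :=
      (Submodule.finrank_le _).trans_eq (Module.finrank_self F)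
    set T := Submodule.span F {u} ⊔ (LinearMap.ker L).map B.subtype with hT
    have hu0 : u ≠ 0 := fun e => hxU (by
      rw [← hx, e, show app g 0 = (0 : Fin n → F) from mulVec_zero _]; exact U.zero_mem)
    have hinf : Submodule.span F {u} ⊓ (LinearMap.ker L).map B.subtype = ⊥ := by
      rw [eq_bot_iff, ← PAB.compl.inf_eq_bot]
      exact inf_le_inf ((Submodule.span_singleton_le_iff_mem _ _).2 hu) (Submodule.map_subtype_le _ _)
    have hTd : Module.finrank F T = 1 + Module.finrank F (LinearMap.ker L) := by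
      have := Submodule.finrank_sup_add_finrank_inf_eq (Submodule.span F {u}) ((LinearMap.ker L).map B.subtype)
      rw [hinf, finrank_bot, add_zero, finrank_span_singleton hu0] at this
      rw [hT, this]
      congr 1
      exact ((LinearMap.ker L).equivMapOfInjective _ B.injective_subtype).finrank_eq.symm
    have hTS : ∀ z ∈ T, lin g z ∈ S := by
      suffices T ≤ S.comap (lin g) from fun z hz => this hz
      refine sup_le ((Submodule.span_singleton_le_iff_mem _ _).2 ?_) (Submodule.map_le_iff_le_comap.2 ?_)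
      · show app g u ∈ S
        rw [hx]
        exact S.add_mem (Submodule.subset_span ⟨0, rfl⟩) (Submodule.subset_span ⟨1, rfl⟩)
      · exact fun w hw => himg w hw
    have h4 := LinearMap.finrank_le_finrank_of_injective (f := (lin g).restrict hTS)
      fun a b e => Subtype.ext (app_injective g (congrArg Subtype.val e))
    have h5 : Module.finrank F S ≤ 2 :=
      (finrank_range_le_card (R := F) ![x1, x2]).trans_eq (Fintype.card_fin 2)
    rw [PAB.dimW] at h1
    omega
  have one : ∀ {A B : Submodule F (Fin n → F)}, Pol q k A B → (pstab A B : Set G) ⊆ M →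
      (∀ x ∈ A, app g x ∈ U) ∨ ∀ x ∈ A, app g x ∈ W := by
    intro A B PAB hAB
    by_contra hcc
    push Not at hcc
    obtain ⟨⟨a, ha, hga⟩, b, hb, hgb⟩ := hcc
    have ga := (key PAB hAB a ha).resolve_left hga
    have gb := (key PAB hAB b hb).resolve_right hgb
    rcases key PAB hAB (a + b) (A.add_mem ha hb) with h | h <;> rw [app_add] at h
    · exact hga ((U.add_mem_iff_left gb).1 h)
    · exact hgb ((W.add_mem_iff_right ga).1 h)
  have both : ∀ {X : Submodule F (Fin n → F)}, Module.finrank F X = k →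
      ¬ ((∀ x ∈ U, app g x ∈ X) ∧ ∀ x ∈ W, app g x ∈ X) := by
    intro X hX ⟨h1, h3⟩
    have hall : ∀ z ∈ (⊤ : Submodule F (Fin n → F)), lin g z ∈ X := fun z _ => by
      obtain ⟨a, ha, b, hb, rfl⟩ := exists_parts P z
      show app g (a + b) ∈ X
      rw [app_add]
      exact X.add_mem (h1 a ha) (h3 b hb)
    have := LinearMap.finrank_le_finrank_of_injective (f := (lin g).restrict hall)
      fun a b e => Subtype.ext (app_injective g (congrArg Subtype.val e))
    rw [finrank_top, Module.finrank_fin_fun, hX] at this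
    omega
  apply hgs
  rcases one P hM with h1 | h1 <;> rcases one P.symm hM' with h3 | h3
  · exact absurd ⟨h1, h3⟩ (both P.dimU)
  · exact Or.inl ⟨h1, h3⟩
  · exact Or.inr ⟨h1, h3⟩
  · exact absurd ⟨h1, h3⟩ (both P.dimW)

/-- An element interchanging `U` and `W`. -/
theorem exists_swap (P : Pol q k U W) :
    ∃ s : G, (∀ x ∈ U, app s x ∈ W) ∧ ∀ x ∈ W, app s x ∈ U := by
  classical
  let e := Module.finBasis F U
  have hsep : ∀ i, ∃ f ∈ W, (∀ j, j ≠ i → H (e j : Fin n → F) f = 0) ∧ H (e i : Fin n → F) f = 1 := by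
    intro i
    have hnot : (e i : Fin n → F) ∉ Submodule.span F ((fun j => (e j : Fin n → F)) '' {j | j ≠ i}) :=
      (e.linearIndependent.map' U.subtype (Submodule.ker_subtype U)).notMem_span_image (by simp)
    obtain ⟨f, hf, hfQ, hf1⟩ := exists_sep K P
      (Submodule.span_le.2 (by rintro _ ⟨j, -, rfl⟩; exact (e j).2)) (e i).2 hnot
    exact ⟨f, hf, fun j hj => hfQ _ (Submodule.subset_span ⟨j, hj, rfl⟩), hf1⟩
  choose f hfW hf0 hf1 using hsep
  obtain ⟨θ, hθ0, hθ⟩ := exists_skew K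
  have hθ' : -θ⁻¹ + K.bar (-θ⁻¹) = 0 := by
    have hb : K.bar θ ≠ 0 := (map_ne_zero K.bar).2 hθ0
    rw [map_neg, map_inv₀]; field_simp; linear_combination -hθ
  choose Te hTe using fun i => exists_T K (P.u0 _ (e i).2 _ (e i).2) hθ
  choose Tf hTf using fun i => exists_T K (P.w0 _ (hfW i) _ (hfW i)) hθ'
  set w : Fin (Module.finrank F U) → G := fun i => Te i * Tf i * Te i
  have hfe : ∀ i, H (f i) (e i : Fin n → F) = 1 := fun i => by
    rw [h_swap K (e i : Fin n → F) (f i), hf1, map_one]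
  have hw1 : ∀ i, app (w i) (e i : Fin n → F) = (-θ⁻¹) • f i := fun i => by
    simp only [w, app_mul, (hTe i).2.2, (hTf i).2.2, h_add_left K, h_smul_left K,
      P.u0 _ (e i).2 _ (e i).2, P.w0 _ (hfW i) _ (hfW i), hf1, hfe, mul_zero, add_zero, zero_smul,
      mul_one, zero_add]
    rw [mul_neg, mul_inv_cancel₀ hθ0]
    module
  have hw2 : ∀ i, app (w i) (f i) = θ • (e i : Fin n → F) := fun i => by
    simp only [w, app_mul, (hTe i).2.2, (hTf i).2.2, h_add_left K, h_smul_left K,
      P.u0 _ (e i).2 _ (e i).2, P.w0 _ (hfW i) _ (hfW i), hf1, hfe, mul_zero, add_zero, zero_smul,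
      mul_one, zero_add]
    simp only [neg_mul, inv_mul_cancel₀ hθ0]
    module
  have hw0 : ∀ i x, H x (e i : Fin n → F) = 0 → H x (f i) = 0 → app (w i) x = x := by
    intro i x h1 h2
    simp only [w, app_mul, (hTe i).2.2, (hTf i).2.2, h1, h2, mul_zero, zero_smul, add_zero]
  have key : ∀ S : Finset (Fin (Module.finrank F U)), ∃ s : G,
      (∀ i ∈ S, app s (e i : Fin n → F) = (-θ⁻¹) • f i ∧ app s (f i) = θ • (e i : Fin n → F)) ∧
      ∀ i ∉ S, app s (e i : Fin n → F) = e i ∧ app s (f i) = f i := by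
    intro S
    induction S using Finset.induction_on with
    | empty => exact ⟨1, by simp, fun i _ => ⟨app_one _, app_one _⟩⟩
    | @insert a S ha ih =>
      obtain ⟨s, hs1, hs2⟩ := ih
      have fix : ∀ i, i ≠ a → app (w a) (e i : Fin n → F) = e i ∧ app (w a) (f i) = f i := by
        intro i hi
        refine ⟨hw0 a _ (P.u0 _ (e i).2 _ (e a).2) (hf0 a i hi), hw0 a _ ?_ (P.w0 _ (hfW i) _ (hfW a))⟩
        exact h_eq_zero_symm K (hf0 i a (Ne.symm hi))
      refine ⟨w a * s, fun i hi => ?_, fun i hi => ?_⟩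
      · rw [app_mul (w a) s, app_mul (w a) s]
        rcases eq_or_ne i a with rfl | hia
        · rw [(hs2 i ha).1, (hs2 i ha).2, hw1, hw2]; exact ⟨rfl, rfl⟩
        · have his : i ∈ S := (Finset.mem_insert.1 hi).resolve_left hia
          rw [(hs1 i his).1, (hs1 i his).2, app_smul, app_smul, (fix i hia).1, (fix i hia).2]
          exact ⟨rfl, rfl⟩
      · have hia : i ≠ a := fun e => hi (e ▸ Finset.mem_insert_self _ _)
        have his : i ∉ S := fun e => hi (Finset.mem_insert_of_mem e)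
        rw [app_mul (w a) s, app_mul (w a) s, (hs2 i his).1, (hs2 i his).2]
        exact fix i hia
  obtain ⟨s, hs, -⟩ := key Finset.univ
  have hspan : Submodule.span F (Set.range f) = W := by
    refine Submodule.eq_of_le_of_finrank_le
      (Submodule.span_le.2 (Set.range_subset_iff.2 hfW)) ?_
    rw [finrank_span_eq_card, P.dimW, Fintype.card_fin, P.dimU]
    rw [Fintype.linearIndependent_iff]
    intro g hg i
    have h0 := congrArg (fun v => H v (e i : Fin n → F)) hg
    simp only [h_zero_left K] at h0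
    rw [show H (∑ j, g j • f j) (e i : Fin n → F) = ∑ j, H (g j • f j) (e i : Fin n → F) from
      map_sum (AddMonoidHom.mk' (fun v => H v (e i : Fin n → F))
        fun a b => h_add_left K a b _) _ _] at h0
    rw [Finset.sum_eq_single i (fun j _ hj => by
      rw [h_smul_left K, h_eq_zero_symm K (hf0 j i (Ne.symm hj)), mul_zero]) (by simp),
      h_smul_left K, hfe, mul_one] at h0
    exact h0
  refine ⟨s, fun x hx => ?_, fun x hx => ?_⟩
  · have hx' : (⟨x, hx⟩ : U) ∈ Submodule.span F (Set.range e) := e.mem_span _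
    have : ∀ y : U, y ∈ Submodule.span F (Set.range e) → app s (y : Fin n → F) ∈ W := by
      intro y hy
      induction hy using Submodule.span_induction with
      | mem y hy =>
        obtain ⟨i, rfl⟩ := hy
        rw [(hs i (Finset.mem_univ i)).1]
        exact W.smul_mem _ (hfW i)
      | zero => rw [show app s ((0 : U) : Fin n → F) = 0 from mulVec_zero _]; exact W.zero_mem
      | add a b _ _ ha hb => rw [Submodule.coe_add, app_add]; exact W.add_mem ha hb
      | smul c a _ ha => rw [Submodule.coe_smul, app_smul]; exact W.smul_mem _ ha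
    exact this _ hx'
  · rw [← hspan] at hx
    induction hx using Submodule.span_induction with
    | mem y hy =>
      obtain ⟨i, rfl⟩ := hy
      rw [(hs i (Finset.mem_univ i)).2]
      exact U.smul_mem _ (e i).2
    | zero => rw [show app s 0 = (0 : Fin n → F) from mulVec_zero _]; exact U.zero_mem
    | add a b _ _ ha hb => rw [app_add]; exact U.add_mem ha hb
    | smul c a _ ha => rw [app_smul]; exact U.smul_mem _ ha

theorem centres_all_of_one (hn : 3 ≤ n) (P : Pol q k U W) {M : Subgroup G}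
    (hM : (pstab U W : Set G) ⊆ M) {v : Fin n → F} (hv : v ∈ U) (hv0 : v ≠ 0)
    (hvC : v ∈ centres K M) : ∀ u ∈ U, u ∈ centres K M := by
  intro u hu
  by_cases hui : u ∈ Submodule.span F {v}
  · obtain ⟨c, rfl⟩ := Submodule.mem_span_singleton.1 hui
    exact smul_mem_centres K c hvC
  have hai : v ∉ Submodule.span F {u - v} := by
    intro h
    obtain ⟨c, hc⟩ := Submodule.mem_span_singleton.1 h
    have hc0 : c ≠ 0 := fun e => hv0 (by rw [← hc, e, zero_smul])
    refine hui (Submodule.mem_span_singleton.2 ⟨c⁻¹ + 1, ?_⟩)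
    conv_lhs => rw [add_smul, one_smul]; arg 1; rw [← hc, smul_smul, inv_mul_cancel₀ hc0, one_smul]
    exact sub_add_cancel u v
  have hd := U.sub_mem hu hv
  obtain ⟨w, hw, hwQ, haw⟩ := exists_sep K P
    ((Submodule.span_singleton_le_iff_mem _ _).2 hd) hv hai
  obtain ⟨e, he⟩ := exists_E K hn (P.u0 _ hd _ hd) (P.w0 w hw w hw)
    (hwQ _ (Submodule.mem_span_singleton_self _))
  have := app_mem_centres K (hM (isE_pstab K P hd hw he)) hvC
  rwa [he, P.u0 v hv _ hd, zero_smul, sub_zero, haw, one_smul, add_sub_cancel] at this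

theorem pair_le_or_top (hnk : 2 * k = n) (hk : 3 ≤ k) (P : Pol q k U W) (M : Subgroup G)
    (hM : (pstab U W : Set G) ⊆ M) : M = ⊤ ∨ (M : Set G) ⊆ pstab U W := by
  by_cases hR : (M : Set G) ⊆ pstab U W
  · exact Or.inr hR
  left
  obtain ⟨g, hg, hgs⟩ := Set.not_subset.1 hR
  obtain ⟨v, hv, hv0, hvC⟩ := exists_centre K (by omega) hnk hk P hM hg hgs
  obtain ⟨s, hs1, hs2⟩ := exists_swap K P
  have hsM : s ∈ M := hM (Or.inr ⟨hs1, hs2⟩)
  have hM' : (pstab W U : Set G) ⊆ M := (pstab_symm U W).le.trans hM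
  have hsv := app_mem_centres K hsM hvC
  have hsv0 : app s v ≠ 0 := fun e => hv0 (app_injective s (e.trans (mulVec_zero _).symm))
  have hn : 3 ≤ n := by omega
  have hCU : (∀ u ∈ U, u ∈ centres K M) ∧ ∀ w ∈ W, w ∈ centres K M := by
    rcases hv with hv | hv
    · exact ⟨centres_all_of_one K hn P hM hv hv0 hvC,
        centres_all_of_one K hn P.symm hM' (hs1 v hv) hsv0 hsv⟩
    · exact ⟨centres_all_of_one K hn P hM (hs2 v hv) hsv0 hsv,
        centres_all_of_one K hn P.symm hM' hv hv0 hvC⟩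
  have hinv : ∀ {c : F}, c ≠ 0 → c + K.bar c = 0 → c⁻¹ + K.bar c⁻¹ = 0 := fun {c} h0 hc => by
    have : K.bar c ≠ 0 := (map_ne_zero K.bar).2 h0
    rw [map_inv₀]; field_simp; linear_combination hc
  have hne : ∀ a ∈ U, ∀ b ∈ W, H b a ≠ 0 → H b a + K.bar (H b a) = 0 → b + a ∈ centres K M := by
    intro a ha b hb h0 hh
    obtain ⟨T, hT⟩ := exists_T K (P.u0 a ha a ha) (hinv h0 hh)
    have := app_mem_centres K ((hCU.1 a ha).2 T _ hT) (hCU.2 b hb)
    rwa [hT.2.2, inv_mul_cancel₀ h0, one_smul] at this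
  refine eq_top_of_centres K (by omega) fun z hzz => ?_
  obtain ⟨a, ha, b, hb, rfl⟩ := exists_parts P z
  have hskew : H b a + K.bar (H b a) = 0 := by
    rw [h_add_left K, h_add_right K, h_add_right K, P.u0 a ha a ha, P.w0 b hb b hb, zero_add,
      add_zero, h_swap K b a] at hzz
    rw [add_comm]; exact hzz
  by_cases hb0 : b = 0
  · rw [hb0, add_zero]; exact hCU.1 a ha
  by_cases hba : H b a = 0
  swap
  · rw [add_comm]; exact hne a ha b hb hba hskew
  obtain ⟨c₀, hc₀, -, hbc₀⟩ := exists_sep K P.symm (bot_le : ⊥ ≤ W) hb (by rwa [Submodule.mem_bot])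
  obtain ⟨θ, hθ0, hθ⟩ := exists_skew K
  set c := K.bar θ • c₀
  have hc : c ∈ U := U.smul_mem _ hc₀
  have hbc : H b c = θ := by rw [h_smul_right K, hbc₀, mul_one, K.bar_bar]
  have hbac : H b (a - c) = -θ := by rw [h_sub_right K, hba, hbc, zero_sub]
  have h1 := hne (a - c) (U.sub_mem ha hc) b hb (by rw [hbac]; exact neg_ne_zero.2 hθ0)
    (by rw [hbac, map_neg]; linear_combination -hθ)
  obtain ⟨T, hT⟩ := exists_T K (P.u0 c hc c hc) (hinv hθ0 hθ)
  have h3 := app_mem_centres K ((hCU.1 c hc).2 T _ hT) h1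
  rw [hT.2.2, h_add_left K, P.u0 _ (U.sub_mem ha hc) c hc, hbc, add_zero, inv_mul_cancel₀ hθ0,
    one_smul, add_assoc, sub_add_cancel, add_comm] at h3
  exact h3

theorem exists_notMem_pstab (hk : 1 ≤ k) (P : Pol q k U W) : ∃ g : G, g ∉ pstab U W := by
  obtain ⟨a, ha, ha0⟩ := Submodule.exists_mem_ne_zero_of_ne_bot (p := U) fun e => by
    have := P.dimU
    rw [e, finrank_bot] at this
    omega
  obtain ⟨b, hb, -, hab⟩ := exists_sep K P (bot_le : ⊥ ≤ U) ha (by rwa [Submodule.mem_bot])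
  obtain ⟨θ, hθ0, hθ⟩ := exists_skew K
  obtain ⟨T, hT⟩ := exists_T K (P.w0 b hb b hb) hθ
  refine ⟨T, fun h => ?_⟩
  have hTa : app T a = a + θ • b := by rw [hT.2.2, hab, mul_one]
  have hb0 : θ • b ≠ 0 := smul_ne_zero hθ0 fun e => one_ne_zero (α := F) (by
    rw [← hab, e, h_zero_right K])
  rcases h with h | h
  · have h1 := h.1 a ha
    rw [hTa, U.add_mem_iff_right ha] at h1
    exact hb0 ((Submodule.eq_bot_iff _).1 P.compl.inf_eq_bot _ ⟨h1, W.smul_mem _ hb⟩)
  · have h1 := h.1 a ha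
    rw [hTa, W.add_mem_iff_left (W.smul_mem _ hb)] at h1
    exact ha0 ((Submodule.eq_bot_iff _).1 P.compl.inf_eq_bot a ⟨ha, h1⟩)

omit K in
theorem pol_of {D : Fin 2 → Submodule F (Fin n → F)} (hD : Cfsg.Geo.IsMDecomposition k D)
    (hts : ∀ i, Cfsg.Geo.IsTotallySingularFor (hermForm n F q) (D i)) : Pol q k (D 0) (D 1) := by
  refine ⟨IsCompl.of_eq ((hD.indep.pairwiseDisjoint (show (0 : Fin 2) ≠ 1 by decide)).eq_bot) ?_,
    hts 0, hts 1, hD.finrank_eq 0, hD.finrank_eq 1⟩
  rw [eq_top_iff, ← hD.iSup_eq_top]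
  refine iSup_le fun i => ?_
  fin_cases i
  · exact le_sup_left
  · exact le_sup_right

omit K in
theorem map_eq_iff {D : Fin 2 → Submodule F (Fin n → F)}
    (hD : Cfsg.Geo.IsMDecomposition k D) (g : G) :
    toGLHom g ∈ Cfsg.Geo.decompositionStabilizer D ↔ g ∈ pstab (D 0) (D 1) := by
  constructor
  · rintro ⟨σ, hσ⟩
    have h : ∀ i, ∀ x ∈ D i, app g x ∈ D (σ i) := fun i x hx => by
      rw [← hσ i]; exact ⟨x, hx, rfl⟩
    have hne : σ 0 ≠ σ 1 := fun e => absurd (σ.injective e) (by decide)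
    rcases Fin.exists_fin_two.1 ⟨σ 0, rfl⟩ with h0 | h0
    · have h1 : σ 1 = 1 := by omega
      exact Or.inl ⟨fun x hx => h0.symm ▸ h 0 x hx, fun x hx => h1 ▸ h 1 x hx⟩
    · have h1 : σ 1 = 0 := by omega
      exact Or.inr ⟨fun x hx => h0.symm ▸ h 0 x hx, fun x hx => h1 ▸ h 1 x hx⟩
  · intro hg
    obtain ⟨σ, hσ⟩ : ∃ σ : Equiv.Perm (Fin 2), ∀ i, ∀ x ∈ D i, app g x ∈ D (σ i) := by
      rcases hg with h | h
      · exact ⟨1, fun i => by fin_cases i; exacts [h.1, h.2]⟩
      · exact ⟨Equiv.swap 0 1, fun i => by fin_cases i <;> simp <;> [exact h.1; exact h.2]⟩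
    refine ⟨σ, fun i => Submodule.eq_of_le_of_finrank_le ?_ (le_of_eq ?_)⟩
    · rintro _ ⟨x, hx, rfl⟩
      exact hσ i x hx
    · exact ((hD.finrank_eq _).trans (hD.finrank_eq i).symm).trans
        (LinearEquiv.finrank_eq (Submodule.equivMapOfInjective _ (app_injective g) (D i)))

theorem isMaximalIn_of_three_le (hnk : 2 * k = n) (hk : 3 ≤ k) {D : Fin 2 → Submodule F (Fin n → F)}
    (hD : Cfsg.Geo.IsMDecomposition k D)
    (hts : ∀ i, Cfsg.Geo.IsTotallySingularFor (hermForm n F q) (D i)) :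
    Cfsg.Geo.IsMaximalIn (GU n F q ⊓ Cfsg.Geo.specialLinear (Fin n) F)
      (Cfsg.Geo.decompositionStabilizer D ⊓ (GU n F q ⊓ Cfsg.Geo.specialLinear (Fin n) F)) := by
  have P := pol_of hD hts
  refine ⟨lt_of_le_not_ge inf_le_right fun hle => ?_, fun M hM hM' => ?_⟩
  · obtain ⟨g, hg⟩ := exists_notMem_pstab K (by omega) P
    exact hg ((map_eq_iff hD g).1 (hle ((mem_range_iff _).2 ⟨g, rfl⟩)).1)
  rcases pair_le_or_top K hnk hk P (M.comap toGLHom) (fun g hg =>
      hM ⟨(map_eq_iff hD g).2 hg, (mem_range_iff _).2 ⟨g, rfl⟩⟩) with h | h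
  · refine Or.inr (le_antisymm hM' fun g hg => ?_)
    obtain ⟨s, rfl⟩ := (mem_range_iff g).1 hg
    have : s ∈ M.comap toGLHom := h ▸ Subgroup.mem_top s
    exact this
  · refine Or.inl (le_antisymm (fun g hg => ?_) hM)
    obtain ⟨s, rfl⟩ := (mem_range_iff g).1 (hM' hg)
    exact ⟨(map_eq_iff hD s).2 (h hg), (mem_range_iff _).2 ⟨s, rfl⟩⟩

theorem isMaximalIn' (hnk : 2 * k = n) (hk : k = 3 ∨ 5 ≤ k) {D : Fin 2 → Submodule F (Fin n → F)}
    (hD : Cfsg.Geo.IsMDecomposition k D)
    (hts : ∀ i, Cfsg.Geo.IsTotallySingularFor (hermForm n F q) (D i)) :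
    Cfsg.Geo.IsMaximalIn (GU n F q ⊓ Cfsg.Geo.specialLinear (Fin n) F)
      (Cfsg.Geo.decompositionStabilizer D ⊓ (GU n F q ⊓ Cfsg.Geo.specialLinear (Fin n) F)) :=
  isMaximalIn_of_three_le K hnk (by omega) hD hts

theorem isMaximalIn (hnk : 2 * k = n) (hk : 5 ≤ k) {D : Fin 2 → Submodule F (Fin n → F)}
    (hD : Cfsg.Geo.IsMDecomposition k D)
    (hts : ∀ i, Cfsg.Geo.IsTotallySingularFor (hermForm n F q) (D i)) :
    Cfsg.Geo.IsMaximalIn (GU n F q ⊓ Cfsg.Geo.specialLinear (Fin n) F)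
      (Cfsg.Geo.decompositionStabilizer D ⊓ (GU n F q ⊓ Cfsg.Geo.specialLinear (Fin n) F)) :=
  isMaximalIn_of_three_le K hnk (by omega) hD hts

end CfsgLib.Classical.HermPair
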