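import Cfsg.Agent.Lib.Classical.BinaryNorm
import Cfsg.Agent.Lib.Classical.RestrictScalars

/-!
Hermitian matrices are norms inside the algebra they generate; unitary matrices conjugate in the
linear group are conjugate in the unitary group.
-/

set_option autoImplicit false
set_option linter.style.haveILetI false

namespace CfsgLib.Classical.UnitaryConj

open Matrix Polynomial CfsgLib.Classical.RestrictScalars
open scoped MatrixGroups

variable {K : Type*} [Field K]

/-- The adjoint for the standard Hermitian form. -/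
def adj (σ : K →+* K) {n : ℕ} (M : Matrix (Fin n) (Fin n) K) : Matrix (Fin n) (Fin n) K := (M.map σ)ᵀ

variable (σ : K →+* K) {n : ℕ}

theorem adj_mul (M N : Matrix (Fin n) (Fin n) K) : adj σ (M * N) = adj σ N * adj σ M := by
  rw [adj, Matrix.map_mul, Matrix.transpose_mul]; rfl

theorem adj_one : adj σ (1 : Matrix (Fin n) (Fin n) K) = 1 := by
  simp [adj]

theorem adj_add (M N : Matrix (Fin n) (Fin n) K) : adj σ (M + N) = adj σ M + adj σ N := by
  ext i j; simp [adj]

theorem adj_smul (c : K) (M : Matrix (Fin n) (Fin n) K) : adj σ (c • M) = σ c • adj σ M := by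
  ext i j; simp [adj]

theorem adj_adj (hσ : ∀ x, σ (σ x) = x) (M : Matrix (Fin n) (Fin n) K) : adj σ (adj σ M) = M := by
  ext i j; simp [adj, hσ]

/-- The adjoint as a group antiautomorphism of units. -/
def adjU (g : GL (Fin n) K) : GL (Fin n) K where
  val := adj σ (g : Matrix (Fin n) (Fin n) K)
  inv := adj σ ((g⁻¹ : GL (Fin n) K) : Matrix (Fin n) (Fin n) K)
  val_inv := by rw [← adj_mul, ← Units.val_mul, inv_mul_cancel, Units.val_one, adj_one]
  inv_val := by rw [← adj_mul, ← Units.val_mul, mul_inv_cancel, Units.val_one, adj_one]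

theorem adjU_mul (g h : GL (Fin n) K) : adjU σ (g * h) = adjU σ h * adjU σ g := Units.ext (adj_mul σ _ _)

theorem adjU_inv (g : GL (Fin n) K) : adjU σ g⁻¹ = (adjU σ g)⁻¹ := Units.ext rfl

theorem adjU_adjU (hσ : ∀ x, σ (σ x) = x) (g : GL (Fin n) K) : adjU σ (adjU σ g) = g :=
  Units.ext (adj_adj σ hσ _)

theorem mem_gu_iff {q : ℕ} (hσq : ∀ x, σ x = x ^ q) (hσ : ∀ x, σ (σ x) = x) (g : GL (Fin n) K) :
    g ∈ Cfsg.GU n K q ↔ adjU σ g * g = 1 := by
  set A := (g : Matrix (Fin n) (Fin n) K)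
  have hform : ∀ u v : Fin n → K, Cfsg.hermForm n K q (A *ᵥ u) (A *ᵥ v) =
      u ⬝ᵥ (Aᵀ * A.map σ) *ᵥ (σ ∘ v) := by
    intro u v
    have h1 : Cfsg.hermForm n K q (A *ᵥ u) (A *ᵥ v) = (A *ᵥ u) ⬝ᵥ (σ ∘ (A *ᵥ v)) := by
      simp [Cfsg.hermForm, dotProduct, hσq]
    have h2 : σ ∘ (A *ᵥ v) = A.map σ *ᵥ (σ ∘ v) := funext fun i => RingHom.map_mulVec σ A v i
    rw [h1, h2, ← Matrix.mulVec_mulVec, Matrix.dotProduct_mulVec u, Matrix.vecMul_transpose]
  have h0 : ∀ u v : Fin n → K, Cfsg.hermForm n K q u v = u ⬝ᵥ (σ ∘ v) := fun u v => by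
    simp [Cfsg.hermForm, dotProduct, hσq]
  have key : adj σ A * A = (Aᵀ * A.map σ).map σ := by
    rw [Matrix.map_mul, adj, Matrix.map_map, ← Matrix.transpose_map]
    congr 1
    ext i j
    exact (hσ _).symm
  rw [gu_mem]
  constructor
  · intro h
    apply Units.ext
    show adj σ A * A = 1
    have h1 : Aᵀ * A.map σ = 1 := by
      ext i j
      have := h (Pi.single i 1) (Pi.single j 1)
      rw [hform, h0] at this
      have hs : σ ∘ (Pi.single j (1 : K) : Fin n → K) = Pi.single j 1 := by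
        funext k; by_cases hk : k = j <;> simp [hk]
      rw [hs, single_dotProduct, single_dotProduct, mulVec_single_one] at this
      simpa [Matrix.one_apply, Pi.single_apply] using this
    rw [key, h1, Matrix.map_one σ (map_zero σ) (map_one σ)]
  · intro h u v
    have h1 : Aᵀ * A.map σ = 1 := by
      have h' : adj σ A * A = 1 := congrArg Units.val h
      rw [key] at h'
      exact Matrix.map_injective σ.injective (h'.trans (Matrix.map_one σ (map_zero σ) (map_one σ)).symm)
    rw [hform, h1, one_mulVec, h0]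

section Norm

variable {F : Type*} [Field F] [Fintype F] [Fintype K] {q : ℕ} {a b : F} (fr : Frame F K q a b)

theorem exists_norm_root (hab : ∀ z₁ z₂ : F, z₁ ^ 2 + a * z₁ * z₂ + b * z₂ ^ 2 = 0 → z₁ = 0 ∧ z₂ = 0)
    (S : GL (Fin n) K) (hS : adjU fr.σ S = S) :
    ∃ Y : GL (Fin n) K, adjU fr.σ Y * Y = S ∧
      ∀ A : GL (Fin n) K, Commute A S → Commute A Y := by
  classical
  set M := (S : Matrix (Fin n) (Fin n) K)
  have hM : adj fr.σ M = M := congrArg Units.val hS
  have hfix : M.charpoly.map fr.σ = M.charpoly := by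
    have e : M.map fr.σ = Mᵀ := by
      conv_rhs => rw [← hM]
      rfl
    rw [← Matrix.charpoly_map, e, Matrix.charpoly_transpose]
  obtain ⟨f₀, hf₀⟩ : ∃ f₀ : F[X], f₀.map fr.emb = M.charpoly := by
    refine (Polynomial.mem_lifts _).mp ((Polynomial.lifts_iff_coeff_lifts _).mpr fun k => ?_)
    refine (fr.fixed _).mp ?_
    rw [← Polynomial.coeff_map, hfix]
  have hf0 : f₀ ≠ 0 := fun h => (Matrix.charpoly_monic M).ne_zero (by rw [← hf₀, h, Polynomial.map_zero])
  have hX : ¬ (X : F[X]) ∣ f₀ := by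
    intro h
    have h1 : (X : K[X]) ∣ M.charpoly := by
      rw [← hf₀, ← Polynomial.map_X (f := fr.emb)]
      exact Polynomial.map_dvd fr.emb h
    rw [Polynomial.X_dvd_iff] at h1
    have h2 : M.det ≠ 0 := (Matrix.GeneralLinearGroup.det S).ne_zero
    apply h2
    rw [Matrix.det_eq_sign_charpoly_coeff, h1, mul_zero]
  obtain ⟨u, v, r, hr⟩ := BinaryNorm.exists_rep a b hab hf0 (irreducible_X.coprime_iff_not_dvd.mpr hX).symm
  let ev : F[X] →+* Matrix (Fin n) (Fin n) K := (Polynomial.aeval M).toRingHom.comp (Polynomial.mapRingHom fr.emb)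
  have hev : ∀ w, ev w = Polynomial.aeval M (w.map fr.emb) := fun w => rfl
  have hadj : ∀ w, adj fr.σ (ev w) = ev w := by
    intro w
    induction w using Polynomial.induction_on' with
    | add x y hx hy => rw [map_add, adj_add, hx, hy]
    | monomial k c =>
      rw [hev, Polynomial.map_monomial, Polynomial.aeval_monomial, ← Algebra.smul_def, adj_smul, fr.σ_emb]
      congr 1
      induction k with
      | zero => rw [pow_zero, adj_one]
      | succ k ih => rw [pow_succ, adj_mul, hM, ih, ← pow_succ']; rfl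
  have hcomm : ∀ w w', Commute (ev w) (ev w') := fun w w' => by
    rw [Commute, SemiconjBy, ← map_mul, ← map_mul, mul_comm]
  set Y := ev u + fr.ω • ev v with hY
  have hYY : adj fr.σ Y * Y = M := by
    have h1 : adj fr.σ Y * Y = ev (BinaryNorm.bq (C a) (C b) u v) := by
      rw [hY, adj_add, adj_smul, hadj, hadj]
      simp only [add_mul, mul_add, smul_mul_assoc, mul_smul_comm, smul_smul, BinaryNorm.bq, map_add, map_mul, map_pow]
      rw [(hcomm v u).eq]
      have hC : ∀ c : F, ev (C c) = fr.emb c • (1 : Matrix (Fin n) (Fin n) K) := fun c => by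
        rw [hev, Polynomial.map_C, Polynomial.aeval_C, Algebra.algebraMap_eq_smul_one]
      rw [hC, hC, smul_mul_assoc, one_mul, smul_mul_assoc, smul_mul_assoc, one_mul, pow_two, pow_two]
      rw [← fr.sum_eq, ← fr.prod_eq, add_smul, smul_add, smul_smul]
      abel
    rw [h1]
    have h2 : ev f₀ = 0 := by rw [hev, hf₀, Matrix.aeval_self_charpoly]
    have h3 : BinaryNorm.bq (C a) (C b) u v = X + f₀ * r := by linear_combination hr
    rw [h3, map_add, map_mul, h2, zero_mul, add_zero, hev, Polynomial.map_X, Polynomial.aeval_X]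
  have hdet : Y.det ≠ 0 := by
    intro h
    have := congrArg Matrix.det hYY
    rw [Matrix.det_mul, h, mul_zero] at this
    exact (Matrix.GeneralLinearGroup.det S).ne_zero this.symm
  refine ⟨Matrix.GeneralLinearGroup.mkOfDetNeZero Y hdet, Units.ext hYY, fun A hA => ?_⟩
  apply Units.ext
  have hA' : Commute (A : Matrix (Fin n) (Fin n) K) M := congrArg Units.val hA
  have hc : ∀ w, Commute (A : Matrix (Fin n) (Fin n) K) (ev w) := fun w => by
    rw [hev]
    induction w.map fr.emb using Polynomial.induction_on' with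
    | add x y hx hy => rw [map_add]; exact hx.add_right hy
    | monomial k c =>
      rw [Polynomial.aeval_monomial]
      exact (Algebra.commute_algebraMap_right c _).mul_right (hA'.pow_right k)
  exact ((hc u).add_right ((hc v).smul_right fr.ω)).eq

end Norm

theorem exists_field_of_card_sq [Fintype K] {q : ℕ} (hK : Fintype.card K = q ^ 2) :
    ∃ (F : Type) (_ : Field F) (_ : Fintype F), Fintype.card F = q := by
  obtain ⟨p, hp⟩ := CharP.exists K
  obtain ⟨c, hpp, hc⟩ := FiniteField.card K p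
  obtain ⟨j, -, hj⟩ : ∃ j, j ≤ (c : ℕ) ∧ q = p ^ j :=
    (Nat.dvd_prime_pow hpp).1 (by rw [← hc, hK]; exact dvd_pow_self _ two_ne_zero)
  haveI : Fact p.Prime := ⟨hpp⟩
  have hj0 : j ≠ 0 := by
    rintro rfl
    have := Fintype.one_lt_card (α := K)
    simp [hK, hj] at this
  refine ⟨GaloisField p j, inferInstance, Fintype.ofFinite _, ?_⟩
  rw [Fintype.card_eq_nat_card, GaloisField.card p j hj0, hj]

theorem gu_isConj_iff [Fintype K] {q : ℕ} (hK : Fintype.card K = q ^ 2) (A B : ↥(Cfsg.GU n K q)) :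
    IsConj A B ↔ IsConj (A : GL (Fin n) K) (B : GL (Fin n) K) := by
  refine ⟨fun h => (Cfsg.GU n K q).subtype.map_isConj h, fun h => ?_⟩
  obtain ⟨F, _, _, hF⟩ := exists_field_of_card_sq hK
  obtain ⟨a, b, hab⟩ := exists_ab (F := F)
  obtain ⟨fr⟩ := exists_Frame hF hK a b hab
  obtain ⟨X, hX⟩ := isConj_iff.mp h
  have hA := (mem_gu_iff fr.σ fr.σ_eq fr.σσ _).mp A.2
  have hB := (mem_gu_iff fr.σ fr.σ_eq fr.σσ _).mp B.2
  set A' := (A : GL (Fin n) K)
  set B' := (B : GL (Fin n) K)
  set S := adjU fr.σ X * X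
  have hXA : X * A' = B' * X := by rw [← hX, inv_mul_cancel_right]
  have hS : adjU fr.σ S = S := by rw [adjU_mul, adjU_adjU _ fr.σσ]
  have hAS : Commute A' S := by
    have h1 : adjU fr.σ A' * adjU fr.σ X = adjU fr.σ X * adjU fr.σ B' := by
      rw [← adjU_mul, ← adjU_mul, hXA]
    rw [eq_inv_of_mul_eq_one_left hA, eq_inv_of_mul_eq_one_left hB, inv_mul_eq_iff_eq_mul] at h1
    show A' * (adjU fr.σ X * X) = adjU fr.σ X * X * A'
    calc A' * (adjU fr.σ X * X) = A' * (adjU fr.σ X * B'⁻¹) * (B' * X) := by group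
      _ = adjU fr.σ X * X * A' := by
        rw [← h1, ← hXA, mul_assoc]
  obtain ⟨Y, hY, hcomm⟩ := exists_norm_root fr hab S hS
  have hmem : X * Y⁻¹ ∈ Cfsg.GU n K q := by
    rw [mem_gu_iff fr.σ fr.σ_eq fr.σσ, adjU_mul, adjU_inv]
    calc (adjU fr.σ Y)⁻¹ * adjU fr.σ X * (X * Y⁻¹) = (adjU fr.σ Y)⁻¹ * S * Y⁻¹ := by simp only [S]; group
      _ = 1 := by rw [← hY]; group
  refine isConj_iff.mpr ⟨⟨_, hmem⟩, Subtype.ext ?_⟩
  show X * Y⁻¹ * A' * (X * Y⁻¹)⁻¹ = B'
  calc X * Y⁻¹ * A' * (X * Y⁻¹)⁻¹ = X * (Y⁻¹ * A' * Y) * X⁻¹ := by group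
    _ = B' := by rw [mul_assoc Y⁻¹, (hcomm A' hAS).eq, inv_mul_cancel_left, hX]

end CfsgLib.Classical.UnitaryConj
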