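import Cfsg.Agent.Lib.Classical.PSUThreeTwo

/-!
The derived group of `SU(3,2)` has order 54 and its own derived group contains a central element of
order 3.
-/

set_option autoImplicit false

namespace CfsgLib.Classical.SUThreeTwoDerived

open Matrix Cfsg CfsgLib.Classical.PSLThreeFour CfsgLib.Classical.PSUThreeTwo
open CfsgLib.ClassicalAut (Unitary.Conj)

/-- scalars of order dividing three -/
def sc : Fin 3 → M3 := ![smat u1, smat uw, smat uw2]

/-- the model elements -/
def chi (p : Fin 3 × (ZMod 3 × ZMod 3) × Bool) : M3 :=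
  mmul (mmul (sc p.1) (nmat p.2.1)) (if p.2.2 then mpow mI 2 else smat u1)

theorem good_sc : ∀ i, Good (sc i) := by decide +kernel
theorem good_one : Good (smat u1) := by decide +kernel
theorem good_AP : Good mA ∧ Good mP ∧ Good mI ∧ Good mJ ∧ Good (mmul mA mP) ∧ Good (mmul mI mJ) ∧
    Good (mpow mI 2) := by decide +kernel
theorem good_chi : ∀ p, Good (chi p) ∧ Good (mmul (sc p.1) (nmat p.2.1)) := by decide +kernel
theorem good_step : ∀ i k, Good (mmul (sc i) (mmul mA (nmat k))) ∧
    Good (mmul (sc i) (mmul mP (nmat k))) ∧ Good (mmul mA (nmat k)) ∧ Good (mmul mP (nmat k)) ∧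
    Good (mmul mI (nmat k)) ∧ Good (mmul (sc i) (mmul mP mA)) ∧ Good (mmul mP mA) ∧
    Good (mmul (mpow mI 2) (mmul mJ mI)) ∧ Good (mmul mJ mI) ∧
    Good (mmul (sc i) (mmul (mpow mI 2) (mmul mJ mI))) := by decide +kernel
theorem chi_inj : Function.Injective chi := by decide +kernel
theorem comm_AP : mmul mA mP = mmul (sc 1) (mmul mP mA) ∨ mmul mA mP = mmul (sc 2) (mmul mP mA) := by
  decide +kernel
theorem comm_A : ∃ i k, mmul mI (nmat k) = mmul (mmul (sc i) (mmul mA (nmat k))) mI := by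
  decide +kernel
theorem comm_P : ∃ i k, mmul mI (nmat k) = mmul (mmul (sc i) (mmul mP (nmat k))) mI := by
  decide +kernel
theorem comm_IJ : ∃ i k, mmul mI mJ = mmul (chi (i, k, true)) (mmul mJ mI) := by decide +kernel
theorem nmat_eq : ∀ k : ZMod 3 × ZMod 3, nmat k = mmul (mpow mA k.1.val) (mpow mP k.2.val) := fun _ => rfl
theorem good_pow : ∀ n < 3, Good (mpow mA n) ∧ Good (mpow mP n) := by decide +kernel
theorem sc_sq : mmul (sc 1) (sc 1) = sc 2 ∧ mmul (sc 2) (sc 2) = sc 1 := by decide +kernel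

theorem sc_cube : ∀ c : Fin 3,
    mmul (mmul (sc c) (sc c)) (sc c) = smat u1 ∧ Good (mmul (sc c) (sc c)) := by decide +kernel

open scoped commutatorElement

variable {F : Type*} [Field F] [Fintype F]

theorem quaternion_commutator : Nat.card (commutator (QuaternionGroup 2)) ≤ 2 := by
  have h : ∀ i j : Fin 8, gEl i * gEl j * (gEl i)⁻¹ * (gEl j)⁻¹ = .a 0 ∨
      gEl i * gEl j * (gEl i)⁻¹ * (gEl j)⁻¹ = .a 2 := by decide
  have hle : commutator (QuaternionGroup 2) ≤ Subgroup.zpowers (.a 2) := by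
    rw [commutator_eq_closure, Subgroup.closure_le]
    rintro _ ⟨x, y, rfl⟩
    obtain ⟨i, rfl⟩ := gEl_surjective x
    obtain ⟨j, rfl⟩ := gEl_surjective y
    rw [commutatorElement_def]
    rcases h i j with h1 | h1 <;> rw [h1]
    · rw [show (QuaternionGroup.a 0 : QuaternionGroup 2) = 1 from rfl]; exact one_mem _
    · exact Subgroup.mem_zpowers _
  refine le_trans (Nat.le_of_dvd Nat.card_pos (Subgroup.card_dvd_of_le hle)) ?_
  rw [Nat.card_zpowers]
  exact Nat.le_of_dvd two_pos (orderOf_dvd_of_pow_eq_one (by decide))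

theorem card_center_SU (hF : Fintype.card F = 4) : Nat.card (Subgroup.center (SU 3 F 2)) = 3 := by
  obtain ⟨K⟩ := Herm.exists_conj_of_card (q := 2) hF
  rw [Herm.card_center (n := 3) K (by norm_num)]
  norm_num

/-- The derived group of `SU(3,2)`: order 54, with a central element of order 3 inside its derived
group. -/
theorem derived_SU (hF : Fintype.card F = 4) :
    Nat.card (commutator (SU 3 F 2)) = 54 ∧
      ∃ z : commutator (SU 3 F 2), orderOf z = 3 ∧ z ∈ Subgroup.center _ ∧ z ∈ commutator _ := by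
  classical
  obtain ⟨K⟩ := Herm.exists_conj_of_card (q := 2) hF
  obtain ⟨w, hw⟩ := exists_w hF
  have h2 := two_eq_zero hF
  have v1 : val w u1 = 1 := by simp [val, u1]
  have v0 : val w o = 0 := by simp [val, o]
  have vinj : Function.Injective (val w) :=
    ((Fintype.bijective_iff_surjective_and_card _).2 ⟨val_surjective hF hw, by simp [hF]⟩).1
  have tmul : ∀ X Y, toF w (mmul X Y) = toF w X * toF w Y := fun X Y => by
    ext i j
    simp [toF, mmul, Matrix.mul_apply, Fin.sum_univ_three, val_add h2, val_mul h2 hw]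
  have tinj : Function.Injective (toF w) := fun X Y h => funext fun i => funext fun j =>
    vinj (congrFun (congrFun h i) j)
  have tsm : ∀ s, toF w (smat s) = val w s • (1 : Matrix (Fin 3) (Fin 3) F) := fun s => by
    ext i j
    by_cases h : i = j <;> simp [toF, smat, h, v0]
  have ex : ∀ X, Good X → ∃ g : SU 3 F 2, g.1.1 = toF w X := by
    intro X hX
    have hd : (toF w X).det = 1 := by
      have := congrArg (val w) hX.2
      simp only [val_add h2, val_mul h2 hw, v1] at this
      rw [Matrix.det_fin_three]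
      simp only [toF, Matrix.of_apply]
      linear_combination this - (val w (X 0 0) * val w (X 1 2) * val w (X 2 1) +
        val w (X 0 1) * val w (X 1 0) * val w (X 2 2) + val w (X 0 2) * val w (X 1 1) * val w (X 2 0)) * h2
    let g : GL (Fin 3) F := Matrix.GeneralLinearGroup.mkOfDetNeZero (toF w X) (by rw [hd]; exact one_ne_zero)
    have hg : g ∈ GU 3 F 2 := by
      rw [ClassicalAut.Unitary.mem_GU_iff K]
      refine Matrix.ext fun i j => ?_
      have h := congrArg (val w) (hX.1 i j)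
      simp only [val_add h2, val_mul h2 hw] at h
      have h1 : (1 : Matrix (Fin 3) (Fin 3) F) i j = val w (smat u1 i j) := by
        by_cases hij : i = j <;> simp [smat, hij, v0, v1, Matrix.one_apply]
      rw [h1, ← h]
      simp [g, toF, Matrix.mul_apply, Fin.sum_univ_three, K.bar_apply, sq]
    exact ⟨⟨⟨toF w X, hd⟩, fun u v => hg u v⟩, rfl⟩
  let E : M3 → SU 3 F 2 := fun X => if h : Good X then (ex X h).choose else 1
  have hE : ∀ X, Good X → (E X).1.1 = toF w X := fun X h => by
    simp only [E, dif_pos h]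
    exact (ex X h).choose_spec
  have Emul : ∀ X Y, Good X → Good Y → Good (mmul X Y) → E (mmul X Y) = E X * E Y := by
    intro X Y hX hY hZ
    refine Subtype.ext (Subtype.ext ?_)
    show (E (mmul X Y)).1.1 = (E X).1.1 * (E Y).1.1
    rw [hE _ hZ, hE X hX, hE Y hY, tmul]
  have Einj : ∀ X Y, Good X → Good Y → E X = E Y → X = Y := fun X Y hX hY h =>
    tinj (by rw [← hE X hX, ← hE Y hY, h])
  have E1 : E (smat u1) = 1 := by
    refine Subtype.ext (Subtype.ext ?_)
    show (E (smat u1)).1.1 = 1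
    rw [hE _ good_one, tsm, v1, one_smul]
  have Ec : ∀ i, E (sc i) ∈ Subgroup.center (SU 3 F 2) := by
    intro i
    rw [Herm.center_iff K (by norm_num)]
    obtain ⟨s, hs⟩ : ∃ s, sc i = smat s := by fin_cases i <;> exact ⟨_, rfl⟩
    exact ⟨val w s, by rw [hE _ (good_sc i), hs, tsm]⟩
  set Q := commutator (SU 3 F 2) with hQ
  have hcomm : ∀ x y : SU 3 F 2, x * y * x⁻¹ * y⁻¹ ∈ Q := fun x y =>
    Subgroup.commutator_mem_commutator (Subgroup.mem_top x) (Subgroup.mem_top y)
  obtain ⟨gA, gP, gI, gJ, gAP, gIJ, gI2⟩ := good_AP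
  -- the scalar
  obtain ⟨c, hc0, hc⟩ : ∃ c : Fin 3, c ≠ 0 ∧ mmul mA mP = mmul (sc c) (mmul mP mA) := by
    rcases comm_AP with h | h <;> exact ⟨_, by decide, h⟩
  have hz : E (sc c) = E mA * E mP * (E mA)⁻¹ * (E mP)⁻¹ := by
    have h := congrArg E hc
    rw [Emul _ _ gA gP gAP, Emul _ _ (good_sc c) (good_step c 0).2.2.2.2.2.2.1 (good_step c 0).2.2.2.2.2.1,
      Emul _ _ gP gA (good_step c 0).2.2.2.2.2.2.1] at h
    rw [h]; group
  have hscQ : ∀ i, E (sc i) ∈ Q := by
    have hcQ : E (sc c) ∈ Q := hz ▸ hcomm _ _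
    intro i
    obtain rfl | rfl | rfl : i = 0 ∨ i = 1 ∨ i = 2 := by revert i; decide
    · rw [show sc 0 = smat u1 from rfl, E1]; exact one_mem _
    · obtain rfl | rfl := (by decide : ∀ j : Fin 3, j ≠ 0 → j = 1 ∨ j = 2) c hc0
      · exact hcQ
      · rw [← sc_sq.2, Emul _ _ (good_sc 2) (good_sc 2) (sc_sq.2.symm ▸ good_sc 1)]
        exact mul_mem hcQ hcQ
    · obtain rfl | rfl := (by decide : ∀ j : Fin 3, j ≠ 0 → j = 1 ∨ j = 2) c hc0
      · rw [← sc_sq.1, Emul _ _ (good_sc 1) (good_sc 1) (sc_sq.1.symm ▸ good_sc 2)]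
        exact mul_mem hcQ hcQ
      · exact hcQ
  have hstep : ∀ T i k, Good T → Good (mmul T (nmat k)) → Good (mmul (sc i) (mmul T (nmat k))) →
      mmul mI (nmat k) = mmul (mmul (sc i) (mmul T (nmat k))) mI → E T ∈ Q := by
    intro T i k hT hTk hsTk h
    have hg := (good_step i k).2.2.2.2.1
    have h' := congrArg E h
    rw [Emul _ _ gI (good_n k) hg, Emul _ _ hsTk gI (h ▸ hg), Emul _ _ (good_sc i) hTk hsTk,
      Emul _ _ hT (good_n k) hTk] at h'
    have e : E (sc i) * E T = E mI * E (nmat k) * (E mI)⁻¹ * (E (nmat k))⁻¹ := by rw [h']; group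
    have h3 : E (sc i) * E T ∈ Q := e ▸ hcomm _ _
    exact (mul_mem_cancel_left (hscQ i)).1 h3
  have hA : E mA ∈ Q := by
    obtain ⟨i, k, h⟩ := comm_A
    exact hstep mA i k gA (good_step i k).2.2.1 (good_step i k).1 h
  have hP : E mP ∈ Q := by
    obtain ⟨i, k, h⟩ := comm_P
    exact hstep mP i k gP (good_step i k).2.2.2.1 (good_step i k).2.1 h
  have hpow : ∀ n < 3, E (mpow mA n) ∈ Q ∧ E (mpow mP n) ∈ Q := by
    intro n hn
    induction n with
    | zero => exact ⟨E1 ▸ one_mem _, E1 ▸ one_mem _⟩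
    | succ n ih =>
      obtain ⟨h1, h2⟩ := ih (by omega)
      obtain ⟨g1, g2⟩ := good_pow n (by omega)
      obtain ⟨g1', g2'⟩ := good_pow (n + 1) hn
      refine ⟨?_, ?_⟩
      · show E (mmul (mpow mA n) mA) ∈ Q
        rw [Emul _ _ g1 gA g1']; exact mul_mem h1 hA
      · show E (mmul (mpow mP n) mP) ∈ Q
        rw [Emul _ _ g2 gP g2']; exact mul_mem h2 hP
  have hn : ∀ k, E (nmat k) ∈ Q := fun k => by
    have hv : k.1.val < 3 ∧ k.2.val < 3 := ⟨ZMod.val_lt _, ZMod.val_lt _⟩
    rw [nmat_eq, Emul _ _ (good_pow _ hv.1).1 (good_pow _ hv.2).2 (good_n k)]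
    exact mul_mem (hpow _ hv.1).1 (hpow _ hv.2).2
  have hI2 : E (mpow mI 2) ∈ Q := by
    obtain ⟨i, k, h⟩ := comm_IJ
    obtain ⟨-, -, -, -, -, -, -, -, g2, -⟩ := good_step i 0
    obtain ⟨g1, g12⟩ := good_chi (i, k, true)
    have h' := congrArg E h
    rw [Emul _ _ gI gJ gIJ, Emul _ _ g1 g2 (h ▸ gIJ), Emul _ _ gJ gI g2] at h'
    have h3 : E (chi (i, k, true)) ∈ Q := by
      have e : E (chi (i, k, true)) = E mI * E mJ * (E mI)⁻¹ * (E mJ)⁻¹ := by rw [h']; group
      exact e ▸ hcomm _ _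
    simp only [chi, if_true] at h3 g1
    rw [Emul _ _ g12 gI2 g1, Emul _ _ (good_sc i) (good_n k) g12] at h3
    exact (mul_mem_cancel_left (mul_mem (hscQ i) (hn k))).1 h3
  have hchi : ∀ p, E (chi p) ∈ Q := by
    rintro ⟨i, k, b⟩
    obtain ⟨g1, g2⟩ := good_chi (i, k, b)
    cases b
    · simp only [chi, Bool.false_eq_true, if_false] at g1 g2 ⊢
      rw [Emul _ _ g2 good_one g1, Emul _ _ (good_sc i) (good_n k) g2]
      rw [E1, mul_one]
      exact mul_mem (hscQ i) (hn k)
    · simp only [chi, if_true] at g1 g2 ⊢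
      rw [Emul _ _ g2 gI2 g1, Emul _ _ (good_sc i) (good_n k) g2]
      exact mul_mem (mul_mem (hscQ i) (hn k)) hI2
  have hge : 54 ≤ Nat.card Q := by
    have := Nat.card_le_card_of_injective (fun p => (⟨E (chi p), hchi p⟩ : Q)) fun p q h =>
      chi_inj (Einj _ _ (good_chi p).1 (good_chi q).1 (congrArg Subtype.val h))
    simpa [Nat.card_eq_fintype_card] using this
  have hle : Nat.card Q ≤ 54 := by
    obtain ⟨-, -, N, hNn, hN9, -, ⟨e⟩⟩ := structure_psu (F := F) hF
    let f : SU 3 F 2 →* PSU 3 F 2 ⧸ N := (QuotientGroup.mk' N).comp (QuotientGroup.mk' _)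
    have hf : Function.Surjective f :=
      (QuotientGroup.mk'_surjective N).comp (QuotientGroup.mk'_surjective _)
    have hker : Nat.card f.ker = 27 := by
      have h1 := Subgroup.card_eq_card_quotient_mul_card_subgroup f.ker
      rw [Nat.card_congr (QuotientGroup.quotientKerEquivOfSurjective f hf).toEquiv,
        Nat.card_congr e.toEquiv] at h1
      have h2 := Subgroup.card_eq_card_quotient_mul_card_subgroup (Subgroup.center (SU 3 F 2))
      rw [card_center_SU hF] at h2
      have h3 : Nat.card (SU 3 F 2 ⧸ Subgroup.center (SU 3 F 2)) = 72 := card_PSU_three_two K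
      have h4 : Nat.card (QuaternionGroup 2) = 8 := by
        simp [QuaternionGroup.card, Nat.card_eq_fintype_card]
      rw [h3] at h2; rw [h4] at h1
      omega
    let g : Q →* QuaternionGroup 2 := (e.toMonoidHom.comp f).comp Q.subtype
    have h1 : Nat.card g.range ≤ 2 := by
      refine le_trans (Nat.le_of_dvd Nat.card_pos (Subgroup.card_dvd_of_le ?_)) quaternion_commutator
      rintro _ ⟨x, rfl⟩
      have hx : (x : SU 3 F 2) ∈ commutator _ := x.2
      have h5 : (commutator (SU 3 F 2)).map (e.toMonoidHom.comp f) ≤ commutator (QuaternionGroup 2) := by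
        rw [commutator_def, Subgroup.map_commutator]
        exact Subgroup.commutator_mono le_top le_top
      exact h5 ⟨x, hx, rfl⟩
    have h2 : Nat.card g.ker ≤ 27 := by
      rw [← hker]
      refine Nat.card_le_card_of_injective (fun x => (⟨(x.1 : SU 3 F 2), ?_⟩ : f.ker)) fun x y h => ?_
      · exact e.injective ((MonoidHom.mem_ker.1 x.2).trans e.map_one.symm)
      · exact Subtype.ext (Subtype.ext (congrArg (fun z : f.ker => (z : SU 3 F 2)) h))
    have h3 := Subgroup.card_eq_card_quotient_mul_card_subgroup g.ker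
    rw [Nat.card_congr (QuotientGroup.quotientKerEquivRange g).toEquiv] at h3
    rw [h3]
    calc Nat.card g.range * Nat.card g.ker ≤ 2 * 27 := Nat.mul_le_mul h1 h2
      _ = 54 := rfl
  refine ⟨le_antisymm hle hge, ⟨E (sc c), hscQ c⟩, ?_, ?_, ?_⟩
  · rw [← Subgroup.orderOf_coe]
    refine orderOf_eq_prime ?_ fun h1 => hc0 ?_
    · have h3 : mmul (mmul (sc c) (sc c)) (sc c) = smat u1 ∧ Good (mmul (sc c) (sc c)) := by
        exact sc_cube c
      rw [pow_succ, sq, ← Emul _ _ (good_sc c) (good_sc c) h3.2,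
        ← Emul _ _ h3.2 (good_sc c) (h3.1.symm ▸ good_one), h3.1, E1]
    · exact (by decide : ∀ i : Fin 3, sc i = smat u1 → i = 0) c
        (Einj _ _ (good_sc c) good_one (h1.trans E1.symm))
  · rw [Subgroup.mem_center_iff]
    exact fun y => Subtype.ext (Subgroup.mem_center_iff.1 (Ec c) y)
  · have : (⟨E (sc c), hscQ c⟩ : Q) = ⁅(⟨E mA, hA⟩ : Q), ⟨E mP, hP⟩⁆ := Subtype.ext (by
      rw [commutatorElement_def]; exact hz)
    rw [this]
    exact Subgroup.commutator_mem_commutator (Subgroup.mem_top _) (Subgroup.mem_top _)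

end CfsgLib.Classical.SUThreeTwoDerived
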