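import Cfsg.Agent.Lib.Classical.UnitaryConj

/-!
A matrix similar to its twisted inverse transpose is similar to a unitary matrix.
-/

set_option autoImplicit false
set_option linter.style.haveILetI false

namespace CfsgLib.Classical.SimilarUnitary

open Matrix CfsgLib.Classical.RestrictScalars CfsgLib.Classical.UnitaryConj
open scoped MatrixGroups

/-- Additive Hilbert 90 for an involution of a finite commutative ring. -/
theorem exists_unit_twist {R : Type*} [CommRing R] [Finite R] (τ : R →+* R) (hτ : ∀ z, τ (τ z) = z)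
    (c : R) (hc : IsUnit (c - τ c)) (s : R) (hs : IsUnit s) :
    ∃ z : R, IsUnit (z + s * τ z) := by
  classical
  let Mx := {m : Ideal R // m.IsMaximal}
  haveI : Finite (Ideal R) := Finite.of_injective (fun m : Ideal R => (m : Set R)) SetLike.coe_injective
  have hbij : Function.Bijective τ := ⟨fun x y h => by rw [← hτ x, h, hτ], fun y => ⟨τ y, hτ y⟩⟩
  let tw : Mx → Mx := fun m => ⟨Ideal.comap τ m.1, haveI := m.2; Ideal.comap_isMaximal_of_surjective τ hbij.2⟩
  have htw : ∀ m, tw (tw m) = m := fun m => Subtype.ext (Ideal.ext fun x => by simp [tw, Ideal.mem_comap, hτ])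
  obtain ⟨k, ⟨e⟩⟩ := Finite.exists_equiv_fin Mx
  have hnot : ∀ (m : Mx) (u : R), IsUnit u → u ∉ m.1 := fun m u hu h =>
    m.2.ne_top (Ideal.eq_top_of_isUnit_mem _ h hu)
  have hchoice : ∀ m : Mx, ∃ t : R, tw m = m → t + s * τ t ∉ m.1 := by
    intro m
    by_cases h1 : 1 + s ∈ m.1
    · refine ⟨c, fun _ h2 => hnot m _ hc ?_⟩
      have h3 := Ideal.sub_mem _ h2 (Ideal.mul_mem_right (τ c) _ h1)
      convert h3 using 1
      ring
    · exact ⟨1, fun _ => by rwa [map_one, mul_one]⟩
  choose t ht using hchoice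
  let T : Mx → R := fun m => if tw m = m then t m else if e m < e (tw m) then 1 else 0
  obtain ⟨z, hz⟩ := Ideal.exists_forall_sub_mem_ideal (I := fun m : Mx => m.1) (fun m m' h =>
    Ideal.isCoprime_iff_sup_eq.mpr (m.2.coprime_of_ne m'.2 fun e => h (Subtype.ext e))) T
  refine ⟨z, ?_⟩
  by_contra hu
  obtain ⟨m, hm, hmem⟩ := exists_max_ideal_of_mem_nonunits hu
  set μ : Mx := ⟨m, hm⟩
  have h1 : z - T μ ∈ m := hz μ
  have h2 : τ z - τ (T (tw μ)) ∈ m := by
    rw [← map_sub]
    exact hz (tw μ)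
  have h3 : T μ + s * τ (T (tw μ)) ∈ m := by
    have := Ideal.sub_mem _ (Ideal.sub_mem _ hmem h1) (Ideal.mul_mem_left m s h2)
    convert this using 1
    ring
  by_cases hfix : tw μ = μ
  · simp only [T, hfix, if_pos] at h3
    exact ht μ hfix h3
  · have hfix' : ¬ tw (tw μ) = tw μ := by rw [htw]; exact Ne.symm hfix
    rcases lt_trichotomy (e μ) (e (tw μ)) with hlt | heq | hgt
    · simp only [T, if_neg hfix, if_pos hlt, if_neg hfix', htw, if_neg (not_lt.mpr hlt.le), map_zero, mul_zero, add_zero] at h3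
      exact hnot μ 1 isUnit_one h3
    · exact hfix (e.injective heq.symm)
    · simp only [T, if_neg hfix, if_neg (not_lt.mpr hgt.le), if_neg hfix', htw, if_pos hgt, map_one, mul_one, zero_add] at h3
      exact hnot μ s hs h3

variable {K : Type*} [Field K] [Fintype K] {n : ℕ}

theorem similar_unitary_iff {q : ℕ} (hK : Fintype.card K = q ^ 2) (A : GL (Fin n) K) :
    (∃ B : ↥(Cfsg.GU n K q), IsConj A (B : GL (Fin n) K)) ↔
      IsConj (A : Matrix (Fin n) (Fin n) K)
        (((A : Matrix (Fin n) (Fin n) K).map (fun x : K => x ^ q)).transpose)⁻¹ := by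
  classical
  obtain ⟨F, _, _, hF⟩ := exists_field_of_card_sq hK
  obtain ⟨a, b, hab⟩ := exists_ab (F := F)
  obtain ⟨fr⟩ := exists_Frame hF hK a b hab
  have hrhs : (((A : Matrix (Fin n) (Fin n) K).map (fun x : K => x ^ q)).transpose)⁻¹ =
      (((adjU fr.σ A)⁻¹ : GL (Fin n) K) : Matrix (Fin n) (Fin n) K) := by
    rw [Matrix.coe_units_inv]
    congr 2
    ext i j
    exact (fr.σ_eq _).symm
  rw [hrhs]
  constructor
  · rintro ⟨⟨B, hB⟩, hAB⟩
    have hB' := (mem_gu_iff fr.σ fr.σ_eq fr.σσ _).mp hB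
    have hB'' : (adjU fr.σ B)⁻¹ = B := by rw [eq_inv_of_mul_eq_one_left hB', inv_inv]
    obtain ⟨X, hX⟩ := isConj_iff.mp hAB
    change X * A * X⁻¹ = B at hX
    have h1 : IsConj A ((adjU fr.σ A)⁻¹) := by
      refine hAB.trans (IsConj.symm (isConj_iff.mpr ⟨(adjU fr.σ X)⁻¹, ?_⟩))
      show _ = B
      rw [← hB'', ← hX, adjU_mul, adjU_mul, adjU_inv]
      group
    exact (Units.coeHom (Matrix (Fin n) (Fin n) K)).map_isConj h1
  · rintro ⟨U, hU⟩
    set X : GL (Fin n) K := U
    have hXA : X * A = (adjU fr.σ A)⁻¹ * X := Units.ext hU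
    have hAXA : adjU fr.σ A * X * A = X := by rw [mul_assoc, hXA, mul_inv_cancel_left]
    set S := X⁻¹ * adjU fr.σ X with hSdef
    have hAXA' : adjU fr.σ A * adjU fr.σ X * A = adjU fr.σ X := by
      have := congrArg (adjU fr.σ) hAXA
      rw [adjU_mul, adjU_mul, adjU_adjU _ fr.σσ, ← mul_assoc] at this
      exact this
    have hAS : Commute A S := by
      have : S = A⁻¹ * S * A := by
        calc S = (adjU fr.σ A * X * A)⁻¹ * (adjU fr.σ A * adjU fr.σ X * A) := by rw [hAXA, hAXA']
          _ = A⁻¹ * S * A := by rw [hSdef]; group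
      show A * S = S * A
      conv_lhs => rw [this]
      group
    set R := Algebra.adjoin K {(S : Matrix (Fin n) (Fin n) K)}
    letI : CommRing R := Algebra.adjoinCommRingOfComm K (fun x hx y hy => by
      rw [Set.mem_singleton_iff.mp hx, Set.mem_singleton_iff.mp hy])
    haveI : Finite R := Finite.of_injective (fun z : R => (z : Matrix (Fin n) (Fin n) K)) Subtype.val_injective
    let θ : Matrix (Fin n) (Fin n) K → Matrix (Fin n) (Fin n) K := fun z =>
      ((X⁻¹ : GL (Fin n) K) : Matrix (Fin n) (Fin n) K) * adj fr.σ z * (X : Matrix (Fin n) (Fin n) K)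
    have hθmul : ∀ y z, θ (y * z) = θ z * θ y := fun y z => by
      simp only [θ, adj_mul, mul_assoc, Units.mul_inv_cancel_left]
    have hθsc : ∀ r : K, θ (algebraMap K _ r) = algebraMap K _ (fr.σ r) := fun r => by
      simp only [θ, Algebra.algebraMap_eq_smul_one, adj_smul, adj_one, mul_smul_comm, smul_mul_assoc,
        mul_one, Units.inv_mul]
    have hθadd : ∀ y z, θ (y + z) = θ y + θ z := fun y z => by simp only [θ, adj_add, mul_add, add_mul]
    have hθS : θ S = ((S⁻¹ : GL (Fin n) K) : Matrix (Fin n) (Fin n) K) := by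
      have : X⁻¹ * adjU fr.σ S * X = S⁻¹ := by
        rw [hSdef, adjU_mul, adjU_adjU _ fr.σσ, adjU_inv]; group
      exact congrArg Units.val this
    have hinvmem : ((S⁻¹ : GL (Fin n) K) : Matrix (Fin n) (Fin n) K) ∈ R := by
      have hpow : (S ^ (orderOf S - 1) : GL (Fin n) K) = S⁻¹ := by
        rw [eq_inv_iff_mul_eq_one, ← pow_succ, Nat.sub_add_cancel (orderOf_pos S), pow_orderOf_eq_one]
      rw [← hpow, Units.val_pow_eq_pow_val]
      exact pow_mem (Algebra.subset_adjoin (Set.mem_singleton _)) _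
    have hθmem : ∀ z ∈ R, θ z ∈ R := by
      intro z hz
      induction hz using Algebra.adjoin_induction with
      | mem x hx => rw [Set.mem_singleton_iff.mp hx, hθS]; exact hinvmem
      | algebraMap r => rw [hθsc]; exact R.algebraMap_mem _
      | add x y _ _ hx hy => rw [hθadd]; exact add_mem hx hy
      | mul x y _ _ hx hy => rw [hθmul]; exact mul_mem hy hx
    let τ : R →+* R :=
      { toFun := fun z => ⟨θ z.1, hθmem z.1 z.2⟩
        map_one' := Subtype.ext (by simpa using hθsc 1)
        map_mul' := fun y z => by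
          apply Subtype.ext
          show θ (y.1 * z.1) = θ y.1 * θ z.1
          rw [hθmul]
          exact congrArg Subtype.val (mul_comm (⟨θ z.1, hθmem z.1 z.2⟩ : R) ⟨θ y.1, hθmem y.1 y.2⟩)
        map_zero' := Subtype.ext (by simpa using hθsc 0)
        map_add' := fun y z => Subtype.ext (hθadd y.1 z.1) }
    let sR : R := ⟨S, Algebra.subset_adjoin (Set.mem_singleton _)⟩
    let sI : R := ⟨_, hinvmem⟩
    have hsu : sR * sI = 1 := Subtype.ext (Units.mul_inv S)
    have hττ : ∀ z, τ (τ z) = z := by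
      intro z
      apply Subtype.ext
      show θ (θ z.1) = z.1
      have e : θ (θ z.1) = (S : Matrix (Fin n) (Fin n) K) * z.1 *
          ((S⁻¹ : GL (Fin n) K) : Matrix (Fin n) (Fin n) K) := by
        simp only [θ, hSdef, adj_mul, adj_adj fr.σ fr.σσ, _root_.mul_inv_rev, inv_inv, Units.val_mul, mul_assoc]
        rfl
      rw [e]
      have h' : ((sR * z * sI : R) : Matrix (Fin n) (Fin n) K) = z.1 := by
        rw [mul_right_comm, hsu, one_mul]
      exact h'
    have hcu : IsUnit (algebraMap K R fr.ω - τ (algebraMap K R fr.ω)) := by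
      have : τ (algebraMap K R fr.ω) = algebraMap K R (fr.σ fr.ω) := Subtype.ext (hθsc fr.ω)
      rw [this, ← map_sub]
      exact (IsUnit.mk0 _ (sub_ne_zero.mpr (Ne.symm fr.ω_ne))).map _
    obtain ⟨z, hz⟩ := exists_unit_twist τ hττ _ hcu sR (IsUnit.of_mul_eq_one _ hsu)
    set w := z + sR * τ z with hw
    have hwfix : sR * τ w = w := by
      have h' : τ sR = sI := Subtype.ext hθS
      rw [hw, map_add, map_mul, hττ, h', mul_add, ← mul_assoc, hsu, one_mul, add_comm]
    obtain ⟨g, hg⟩ := hz.map R.val.toRingHom.toMonoidHom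
    have hg' : (g : Matrix (Fin n) (Fin n) K) = w.1 := hg
    set H := X * g with hH
    have hHH : adjU fr.σ H = H := by
      have hτg : S * (X⁻¹ * adjU fr.σ g * X) = g := Units.ext (by
        simp only [Units.val_mul, hg']
        exact (congrArg (fun y => (S : Matrix (Fin n) (Fin n) K) * y)
          (show _ = θ w.1 by rw [← hg']; rfl)).trans (congrArg Subtype.val hwfix))
      have hτg' : X⁻¹ * adjU fr.σ g * X = S⁻¹ * g := eq_inv_mul_of_mul_eq hτg
      have hSg : Commute S g := Units.ext (by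
        simp only [Units.val_mul, hg']
        exact congrArg Subtype.val (mul_comm sR w))
      have : adjU fr.σ g = X * S⁻¹ * g * X⁻¹ := by
        rw [mul_assoc X, ← hτg']; group
      rw [hH, adjU_mul, this]
      calc X * S⁻¹ * g * X⁻¹ * adjU fr.σ X = X * S⁻¹ * (g * S) := by rw [hSdef]; group
        _ = X * g := by rw [← hSg.eq]; group
    have hAg : Commute A g := by
      apply Units.ext
      simp only [Units.val_mul, hg']
      have hAS' : Commute (A : Matrix (Fin n) (Fin n) K) (S : Matrix (Fin n) (Fin n) K) := congrArg Units.val hAS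
      have : ∀ y ∈ R, Commute (A : Matrix (Fin n) (Fin n) K) y := by
        intro y hy
        induction hy using Algebra.adjoin_induction with
        | mem x hx => rw [Set.mem_singleton_iff.mp hx]; exact hAS'
        | algebraMap r => exact Algebra.commute_algebraMap_right r _
        | add x y _ _ hx hy => exact hx.add_right hy
        | mul x y _ _ hx hy => exact hx.mul_right hy
      exact (this w.1 w.2).eq
    have hAHA : adjU fr.σ A * H * A = H := by
      rw [hH, mul_assoc, mul_assoc X, ← hAg.eq, ← mul_assoc, ← mul_assoc, hAXA]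
    obtain ⟨Y, hY, -⟩ := exists_norm_root fr hab H hHH
    have hmem : Y * A * Y⁻¹ ∈ Cfsg.GU n K q := by
      rw [mem_gu_iff fr.σ fr.σ_eq fr.σσ, adjU_mul, adjU_mul, adjU_inv]
      calc (adjU fr.σ Y)⁻¹ * (adjU fr.σ A * adjU fr.σ Y) * (Y * A * Y⁻¹)
          = (adjU fr.σ Y)⁻¹ * (adjU fr.σ A * H * A) * Y⁻¹ := by rw [← hY]; group
        _ = 1 := by rw [hAHA, ← hY]; group
    exact ⟨⟨_, hmem⟩, isConj_iff.mpr ⟨Y, rfl⟩⟩

end CfsgLib.Classical.SimilarUnitary
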