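import Mathlib

/-!
# Explicit elements of `Sp₆(3)` of projective orders 6, 10, 13, 14, 15
-/

set_option autoImplicit false
set_option maxRecDepth 8000

namespace CfsgLib.SpSixThree

open Matrix

/-- Matrices over the field with three elements. -/
abbrev Z6 := Matrix (Fin 3 ⊕ Fin 3) (Fin 3 ⊕ Fin 3) (ZMod 3)

/-- Not a scalar matrix. -/
abbrev NotScalar (M : Z6) : Prop := ∀ c : ZMod 3, M ≠ c • 1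

theorem pow_chain {A B C D : Z6} {i j t : ℕ} (hB : A ^ i = B) (hC : A ^ j = C) (h : B * C = D)
    (ht : t = i + j := by rfl) : A ^ t = D := by
  rw [ht, pow_add, hB, hC, h]

def A6 : Z6 :=
  (Matrix.fromBlocks (!![2, 0, 0; 0, 1, 0; 0, 0, 1]) (!![1, 0, 0; 0, 0, 0; 0, 0, 0]) (!![0, 0, 0; 0, 0, 0; 0, 0, 0]) (!![2, 0, 0; 0, 1, 0; 0, 0, 1]))
theorem A6_spec : A6 * Matrix.J (Fin 3) (ZMod 3) * A6ᵀ = Matrix.J (Fin 3) (ZMod 3) ∧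
    A6 ^ 6 = 1 ∧ NotScalar (A6 ^ 2) ∧ NotScalar (A6 ^ 3) := by
  have e1 : A6 ^ 1 = A6 := pow_one _
  have e2 : A6 ^ 2 = (Matrix.fromBlocks (!![1, 0, 0; 0, 1, 0; 0, 0, 1]) (!![1, 0, 0; 0, 0, 0; 0, 0, 0]) (!![0, 0, 0; 0, 0, 0; 0, 0, 0]) (!![1, 0, 0; 0, 1, 0; 0, 0, 1])) :=
    pow_chain e1 e1 (by decide +kernel)
  have e3 : A6 ^ 3 = (Matrix.fromBlocks (!![2, 0, 0; 0, 1, 0; 0, 0, 1]) (!![0, 0, 0; 0, 0, 0; 0, 0, 0]) (!![0, 0, 0; 0, 0, 0; 0, 0, 0]) (!![2, 0, 0; 0, 1, 0; 0, 0, 1])) :=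
    pow_chain e2 e1 (by decide +kernel)
  have e6 : A6 ^ 6 = 1 :=
    pow_chain e3 e3 (by decide +kernel)
  refine ⟨by decide +kernel, e6, ?_, ?_⟩
  · rw [e2]; decide +kernel
  · rw [e3]; decide +kernel

def A10 : Z6 :=
  (Matrix.fromBlocks (!![1, 2, 0; 2, 0, 0; 0, 0, 1]) (!![2, 0, 0; 0, 2, 0; 0, 0, 0]) (!![1, 0, 0; 0, 1, 0; 0, 0, 0]) (!![0, 0, 0; 0, 0, 0; 0, 0, 1]))
theorem A10_spec : A10 * Matrix.J (Fin 3) (ZMod 3) * A10ᵀ = Matrix.J (Fin 3) (ZMod 3) ∧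
    A10 ^ 10 = 1 ∧ NotScalar (A10 ^ 2) ∧ NotScalar (A10 ^ 5) := by
  have e1 : A10 ^ 1 = A10 := pow_one _
  have e2 : A10 ^ 2 = (Matrix.fromBlocks (!![1, 2, 0; 2, 0, 0; 0, 0, 1]) (!![2, 1, 0; 1, 0, 0; 0, 0, 0]) (!![1, 2, 0; 2, 0, 0; 0, 0, 0]) (!![2, 0, 0; 0, 2, 0; 0, 0, 1])) :=
    pow_chain e1 e1 (by decide +kernel)
  have e4 : A10 ^ 4 = (Matrix.fromBlocks (!![0, 0, 0; 0, 0, 0; 0, 0, 1]) (!![2, 0, 0; 0, 2, 0; 0, 0, 0]) (!![1, 0, 0; 0, 1, 0; 0, 0, 0]) (!![2, 1, 0; 1, 0, 0; 0, 0, 1])) :=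
    pow_chain e2 e2 (by decide +kernel)
  have e5 : A10 ^ 5 = (Matrix.fromBlocks (!![2, 0, 0; 0, 2, 0; 0, 0, 1]) (!![0, 0, 0; 0, 0, 0; 0, 0, 0]) (!![0, 0, 0; 0, 0, 0; 0, 0, 0]) (!![2, 0, 0; 0, 2, 0; 0, 0, 1])) :=
    pow_chain e4 e1 (by decide +kernel)
  have e10 : A10 ^ 10 = 1 :=
    pow_chain e5 e5 (by decide +kernel)
  refine ⟨by decide +kernel, e10, ?_, ?_⟩
  · rw [e2]; decide +kernel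
  · rw [e5]; decide +kernel

def A13 : Z6 :=
  (Matrix.fromBlocks (!![1, 0, 2; 0, 0, 0; 1, 0, 0]) (!![2, 1, 0; 0, 2, 0; 0, 0, 1]) (!![1, 0, 0; 0, 1, 0; 0, 0, 2]) (!![0, 0, 0; 0, 0, 2; 0, 1, 0]))
theorem A13_spec : A13 * Matrix.J (Fin 3) (ZMod 3) * A13ᵀ = Matrix.J (Fin 3) (ZMod 3) ∧
    A13 ^ 13 = (-1) ∧ NotScalar (A13 ^ 1) := by
  have e1 : A13 ^ 1 = A13 := pow_one _
  have e2 : A13 ^ 2 = (Matrix.fromBlocks (!![2, 1, 2; 0, 2, 0; 1, 0, 1]) (!![2, 1, 1; 0, 0, 1; 2, 2, 0]) (!![1, 0, 2; 0, 0, 1; 2, 1, 0]) (!![2, 1, 0; 0, 1, 0; 0, 0, 1])) :=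
    pow_chain e1 e1 (by decide +kernel)
  have e4 : A13 ^ 4 = (Matrix.fromBlocks (!![1, 2, 2; 2, 2, 0; 2, 1, 0]) (!![0, 0, 1; 0, 0, 0; 2, 1, 1]) (!![0, 1, 0; 1, 0, 2; 0, 2, 1]) (!![1, 2, 1; 2, 0, 0; 1, 2, 1])) :=
    pow_chain e2 e2 (by decide +kernel)
  have e8 : A13 ^ 8 = (Matrix.fromBlocks (!![0, 1, 0; 0, 2, 1; 2, 1, 1]) (!![2, 1, 1; 0, 0, 2; 2, 0, 2]) (!![1, 2, 2; 2, 0, 2; 2, 2, 2]) (!![0, 1, 2; 0, 0, 2; 2, 2, 0])) :=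
    pow_chain e4 e4 (by decide +kernel)
  have e12 : A13 ^ 12 = (Matrix.fromBlocks (!![0, 0, 0; 0, 0, 2; 0, 1, 0]) (!![2, 0, 0; 1, 2, 0; 0, 0, 1]) (!![1, 0, 0; 0, 1, 0; 0, 0, 2]) (!![2, 0, 2; 0, 0, 0; 1, 0, 0])) :=
    pow_chain e8 e4 (by decide +kernel)
  have e13 : A13 ^ 13 = (-1) :=
    pow_chain e12 e1 (by decide +kernel)
  refine ⟨by decide +kernel, e13, ?_⟩
  · rw [e1]; decide +kernel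

def A14 : Z6 :=
  (Matrix.fromBlocks (!![1, 0, 2; 1, 1, 2; 0, 0, 0]) (!![0, 0, 2; 0, 2, 2; 2, 0, 2]) (!![0, 2, 0; 0, 1, 0; 1, 0, 0]) (!![0, 0, 2; 0, 0, 0; 0, 0, 0]))
theorem A14_spec : A14 * Matrix.J (Fin 3) (ZMod 3) * A14ᵀ = Matrix.J (Fin 3) (ZMod 3) ∧
    A14 ^ 14 = (-1) ∧ NotScalar (A14 ^ 2) ∧ NotScalar (A14 ^ 7) := by
  have e1 : A14 ^ 1 = A14 := pow_one _
  have e2 : A14 ^ 2 = (Matrix.fromBlocks (!![0, 0, 2; 1, 0, 1; 2, 1, 0]) (!![1, 0, 0; 1, 2, 2; 0, 0, 1]) (!![1, 2, 1; 1, 1, 2; 1, 0, 2]) (!![0, 1, 1; 0, 2, 2; 0, 0, 2])) :=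
    pow_chain e1 e1 (by decide +kernel)
  have e4 : A14 ^ 4 = (Matrix.fromBlocks (!![2, 1, 1; 1, 2, 2; 2, 0, 1]) (!![0, 1, 0; 1, 2, 1; 0, 2, 1]) (!![0, 2, 2; 0, 1, 2; 0, 2, 0]) (!![0, 0, 0; 2, 0, 0; 1, 0, 0])) :=
    pow_chain e2 e2 (by decide +kernel)
  have e6 : A14 ^ 6 = (Matrix.fromBlocks (!![1, 2, 1; 1, 0, 2; 2, 0, 1]) (!![0, 1, 2; 0, 0, 1; 2, 1, 1]) (!![0, 2, 2; 1, 0, 0; 0, 2, 0]) (!![2, 1, 0; 1, 1, 0; 2, 2, 2])) :=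
    pow_chain e4 e2 (by decide +kernel)
  have e7 : A14 ^ 7 = (Matrix.fromBlocks (!![2, 0, 0; 2, 0, 2; 0, 2, 1]) (!![2, 1, 2; 1, 0, 0; 2, 0, 1]) (!![2, 1, 1; 1, 0, 2; 1, 2, 1]) (!![1, 1, 0; 0, 0, 1; 0, 1, 2])) :=
    pow_chain e6 e1 (by decide +kernel)
  have e14 : A14 ^ 14 = (-1) :=
    pow_chain e7 e7 (by decide +kernel)
  refine ⟨by decide +kernel, e14, ?_, ?_⟩
  · rw [e2]; decide +kernel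
  · rw [e7]; decide +kernel

def A15 : Z6 :=
  (Matrix.fromBlocks (!![1, 0, 0; 0, 2, 1; 0, 1, 0]) (!![2, 0, 0; 0, 1, 0; 0, 0, 1]) (!![0, 0, 0; 0, 0, 0; 0, 2, 0]) (!![1, 0, 0; 0, 0, 1; 0, 1, 0]))
theorem A15_spec : A15 * Matrix.J (Fin 3) (ZMod 3) * A15ᵀ = Matrix.J (Fin 3) (ZMod 3) ∧
    A15 ^ 15 = 1 ∧ NotScalar (A15 ^ 3) ∧ NotScalar (A15 ^ 5) := by
  have e1 : A15 ^ 1 = A15 := pow_one _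
  have e2 : A15 ^ 2 = (Matrix.fromBlocks (!![1, 0, 0; 0, 2, 2; 0, 1, 1]) (!![1, 0, 0; 0, 2, 2; 0, 2, 0]) (!![0, 0, 0; 0, 2, 0; 0, 1, 2]) (!![1, 0, 0; 0, 1, 0; 0, 2, 1])) :=
    pow_chain e1 e1 (by decide +kernel)
  have e3 : A15 ^ 3 = (Matrix.fromBlocks (!![1, 0, 0; 0, 1, 2; 0, 0, 1]) (!![0, 0, 0; 0, 1, 1; 0, 1, 0]) (!![0, 0, 0; 0, 1, 2; 0, 0, 1]) (!![1, 0, 0; 0, 2, 1; 0, 2, 1])) :=
    pow_chain e2 e1 (by decide +kernel)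
  have e5 : A15 ^ 5 = (Matrix.fromBlocks (!![1, 0, 0; 0, 1, 0; 0, 0, 1]) (!![1, 0, 0; 0, 0, 0; 0, 0, 0]) (!![0, 0, 0; 0, 0, 0; 0, 0, 0]) (!![1, 0, 0; 0, 1, 0; 0, 0, 1])) :=
    pow_chain e3 e2 (by decide +kernel)
  have e10 : A15 ^ 10 = (Matrix.fromBlocks (!![1, 0, 0; 0, 1, 0; 0, 0, 1]) (!![2, 0, 0; 0, 0, 0; 0, 0, 0]) (!![0, 0, 0; 0, 0, 0; 0, 0, 0]) (!![1, 0, 0; 0, 1, 0; 0, 0, 1])) :=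
    pow_chain e5 e5 (by decide +kernel)
  have e15 : A15 ^ 15 = 1 :=
    pow_chain e10 e5 (by decide +kernel)
  refine ⟨by decide +kernel, e15, ?_, ?_⟩
  · rw [e3]; decide +kernel
  · rw [e5]; decide +kernel

end CfsgLib.SpSixThree
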