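import Mathlib
import Cfsg.Prelude.Def_Classical
import Cfsg.Agent.Lib.FormRep.Symplectic
import Cfsg.Agent.Lib.Classical.InvolutionCentralizerSymp

/-!
# The prime graph of `PSp₆(3)`: centralizers of elements of orders 7 and 13 in `Sp₆(3)`
-/

set_option autoImplicit false
set_option linter.unusedSectionVars false
set_option linter.style.haveILetI false

namespace CfsgLib.SpSixThree

open Matrix Polynomial

universe u

variable {F : Type u} [Field F] [Fintype F]

local notation "Sp6" => Matrix.symplecticGroup (Fin 3) F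
local notation "M6" => Matrix (Fin 3 ⊕ Fin 3) (Fin 3 ⊕ Fin 3) F
local notation "V6" => (Fin 3 ⊕ Fin 3 → F)

theorem charP_three (hF : Fintype.card F = 3) : CharP F 3 := by
  haveI := Fact.mk Nat.prime_three
  exact charP_of_card_eq_prime_pow (f := 1) (by rw [hF]; norm_num)

theorem fix_frob (hF : Fintype.card F = 3) (a : F) : a ^ 3 = a := hF ▸ FiniteField.pow_card a

theorem card_mod_of_fixed {α : Type*} [Finite α] {p : ℕ} (hp : p.Prime) (σ : Equiv.Perm α) (hσ : σ ^ p = 1)
    (z : α) (hz : σ z = z) (huniq : ∀ a, σ a = a → a = z) : Nat.card α ≡ 1 [MOD p] := by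
  classical
  haveI := Fact.mk hp
  haveI := Fintype.ofFinite α
  have h := Equiv.Perm.card_compl_support_modEq (n := 1) (σ := σ) (by rwa [pow_one])
  have e : (σ.supportᶜ : Finset α) = {z} := by
    ext a
    simp only [Finset.mem_compl, Equiv.Perm.mem_support, not_not, Finset.mem_singleton]
    exact ⟨huniq a, fun e => e ▸ hz⟩
  rw [e, Finset.card_singleton] at h
  rw [Nat.card_eq_fintype_card]
  exact h.symm

/-- The matrix of a symplectic element. -/
def mt (g : Sp6) : M6 := (g : M6)

theorem mt_mul (g h : Sp6) : mt (g * h) = mt g * mt h := rfl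

theorem mt_one : mt (1 : Sp6) = 1 := rfl

theorem mt_pow (g : Sp6) : ∀ n : ℕ, mt (g ^ n) = mt g ^ n
  | 0 => by rw [pow_zero, pow_zero, mt_one]
  | n + 1 => by rw [pow_succ, pow_succ, mt_mul, mt_pow g n]

theorem mt_injective : Function.Injective (mt (F := F)) := Subtype.coe_injective

theorem mt_inv_mul (g : Sp6) : mt g⁻¹ * mt g = 1 := by rw [← mt_mul, inv_mul_cancel, mt_one]

/-- An invariant subspace without fixed vectors has dimension divisible by the order. -/
theorem finrank_invariant (hF : Fintype.card F = 3) {x : Sp6} {p : ℕ} (hp : p.Prime) (hx : x ^ p = 1)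
    (W : Submodule F V6) (hW : ∀ v ∈ W, mt x *ᵥ v ∈ W) (h0 : ∀ v ∈ W, mt x *ᵥ v = v → v = 0) :
    3 ^ Module.finrank F W % p = 1 % p := by
  have hinj : Function.Injective fun v : W => (⟨mt x *ᵥ (v : V6), hW v v.2⟩ : W) := by
    intro a b h
    have h' := congrArg (fun s : W => mt x⁻¹ *ᵥ (s : V6)) h
    simp only [mulVec_mulVec, mt_inv_mul, one_mulVec] at h'
    exact Subtype.ext h'
  let σ : Equiv.Perm W := Equiv.ofBijective _ ((Finite.injective_iff_bijective).1 hinj)
  have hσ : ∀ (n : ℕ) (v : W), (((σ ^ n) v : W) : V6) = (mt x ^ n) *ᵥ v := by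
    intro n
    induction n with
    | zero => intro v; simp
    | succ n ih =>
      intro v
      rw [pow_succ', Equiv.Perm.mul_apply, pow_succ', ← mulVec_mulVec, ← ih v]
      rfl
  have h := card_mod_of_fixed hp σ (Equiv.ext fun v => Subtype.ext (by
      rw [hσ, ← mt_pow, hx, mt_one, one_mulVec]; rfl))
    0 (Subtype.ext (by show mt x *ᵥ (0 : V6) = 0; rw [mulVec_zero]))
    (fun a ha => Subtype.ext (h0 a a.2 (congrArg Subtype.val ha)))
  rwa [Module.natCard_eq_pow_finrank (K := F), Nat.card_eq_fintype_card, hF] at h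

theorem finrank_le_six (W : Submodule F V6) : Module.finrank F W ≤ 6 := by
  have := Submodule.finrank_le W
  simpa using this

theorem finrank_V6 : Module.finrank F V6 = 6 := by simp

variable (F) in
/-- The alternating form. -/
def bil : LinearMap.BilinForm F V6 := Matrix.toLinearMap₂' F (Matrix.J (Fin 3) F)

theorem bil_apply (u v : V6) : bil F u v = u ⬝ᵥ (Matrix.J (Fin 3) F *ᵥ v) :=
  Matrix.toLinearMap₂'_apply' _ _ _

theorem bil_skew (u v : V6) : bil F v u = - bil F u v := by
  rw [bil_apply, bil_apply, Matrix.dotProduct_mulVec, ← Matrix.mulVec_transpose, Matrix.J_transpose,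
    dotProduct_comm, Matrix.neg_mulVec, dotProduct_neg]

theorem bil_nondeg {u : V6} (h : ∀ v, bil F u v = 0) : u = 0 := by
  have h1 : u ᵥ* Matrix.J (Fin 3) F = 0 := by
    refine funext fun i => ?_
    have := h (Pi.single i 1)
    rw [bil_apply, Matrix.dotProduct_mulVec, dotProduct_single_one] at this
    exact this
  have h2 := congrArg (· ᵥ* Matrix.J (Fin 3) F) h1
  simp only [Matrix.vecMul_vecMul, Matrix.J_squared, Matrix.zero_vecMul] at h2
  rwa [Matrix.vecMul_neg, Matrix.vecMul_one, neg_eq_zero] at h2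

theorem bil_mt (g : Sp6) (u v : V6) : bil F (mt g *ᵥ u) (mt g *ᵥ v) = bil F u v := by
  have h : (mt g)ᵀ * Matrix.J (Fin 3) F * mt g = Matrix.J (Fin 3) F :=
    SymplecticGroup.mem_iff'.1 g.2
  rw [bil_apply, bil_apply, Matrix.dotProduct_mulVec, Matrix.vecMul_mulVec, Matrix.dotProduct_mulVec _ _ v,
    Matrix.dotProduct_mulVec, Matrix.vecMul_vecMul, ← Matrix.dotProduct_mulVec u, h, Matrix.dotProduct_mulVec]

/-- A three-dimensional subspace with an orthogonal supplement does not exist. -/
theorem no_odd_split (hF : Fintype.card F = 3) (W E : Submodule F V6) (hW : Module.finrank F W = 3)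
    (hsup : W ⊔ E = ⊤) (horth : ∀ w ∈ W, ∀ e ∈ E, bil F w e = 0) : False := by
  haveI := charP_three hF
  have h2 : (2 : F) ≠ 0 := fun h => by
    have := (CharP.cast_eq_zero_iff F 3 2).1 (by exact_mod_cast h)
    omega
  let b := Module.finBasisOfFinrankEq F W hW
  set A : Matrix (Fin 3) (Fin 3) F := Matrix.of fun i j => bil F (b i : V6) (b j : V6) with hA
  have hAt : Aᵀ = -A := by
    ext i j
    exact bil_skew _ _
  have hdet : A.det = 0 := by
    have h := congrArg Matrix.det hAt
    rw [Matrix.det_transpose, Matrix.det_neg, Fintype.card_fin] at h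
    have h' : (2 : F) * A.det = 0 := by linear_combination h
    exact (mul_eq_zero.1 h').resolve_left h2
  obtain ⟨c, hc0, hc⟩ := Matrix.exists_vecMul_eq_zero_iff.2 hdet
  set w : W := ∑ i, c i • b i with hw
  have hwb : ∀ j, bil F (w : V6) (b j : V6) = 0 := fun j => by
    have h := congrFun hc j
    rw [hw]
    simp only [AddSubmonoidClass.coe_finset_sum, Submodule.coe_smul, map_sum, map_smul,
      LinearMap.sum_apply, LinearMap.smul_apply, smul_eq_mul]
    exact h
  have hw0 : (w : V6) = 0 := by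
    refine bil_nondeg fun v => ?_
    obtain ⟨y, hy, e, he, rfl⟩ := Submodule.mem_sup.1 (hsup ▸ Submodule.mem_top : v ∈ W ⊔ E)
    rw [map_add, horth _ w.2 e he, add_zero]
    calc bil F (w : V6) y = bil F (w : V6) ((∑ i, b.repr ⟨y, hy⟩ i • b i : W) : V6) := by rw [b.sum_repr]
      _ = 0 := by
        simp only [AddSubmonoidClass.coe_finset_sum, Submodule.coe_smul, map_sum, map_smul, hwb, smul_zero,
          Finset.sum_const_zero]
  have h1 : ∑ i, c i • b i = 0 := Subtype.ext hw0
  exact hc0 (funext fun i => Fintype.linearIndependent_iff.1 b.linearIndependent c h1 i)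

theorem exp_cases {p d : ℕ} (hp : p = 7 ∨ p = 13) (hd : d ≤ 6) (h : 3 ^ d % p = 1 % p) :
    d = 0 ∨ d = 6 ∨ (p = 13 ∧ d = 3) := by
  rcases hp with rfl | rfl <;> interval_cases d <;> first | omega | (norm_num at h)

theorem cast_order_ne_zero (hF : Fintype.card F = 3) {p : ℕ} (hp : p.Prime) (hp3 : p ≠ 3) : (p : F) ≠ 0 := by
  haveI := charP_three hF
  intro h
  exact hp3 ((Nat.prime_dvd_prime_iff_eq Nat.prime_three hp).1 ((CharP.cast_eq_zero_iff F 3 p).1 h)).symm

/-- Elements of order 7 or 13 fix no nonzero vector. -/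
theorem fixed_zero (hF : Fintype.card F = 3) {x : Sp6} {p : ℕ} (hp : p = 7 ∨ p = 13) (hx : orderOf x = p)
    {v : V6} (hv : mt x *ᵥ v = v) : v = 0 := by
  have hp' : p.Prime := by rcases hp with rfl | rfl <;> norm_num
  have hxp : x ^ p = 1 := hx ▸ pow_orderOf_eq_one x
  set D := Matrix.toLin' (mt x - 1) with hD
  have hDa : ∀ u, D u = mt x *ᵥ u - u := fun u => by rw [hD, toLin'_apply, sub_mulVec, one_mulVec]
  set W := LinearMap.range D with hWdef
  set E := LinearMap.ker D with hEdef
  have hdisj : ∀ w ∈ W, w ∈ E → w = 0 := by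
    rintro _ ⟨u, rfl⟩ hE
    rw [hEdef, LinearMap.mem_ker, hDa (D u), sub_eq_zero] at hE
    have hpow : ∀ n : ℕ, (mt x ^ n) *ᵥ u = u + (n : F) • D u := by
      intro n
      induction n with
      | zero => simp
      | succ n ih =>
        rw [pow_succ', ← mulVec_mulVec, ih, mulVec_add, mulVec_smul, hE, Nat.cast_succ, add_smul, one_smul,
          ← add_assoc, add_right_comm, show mt x *ᵥ u = u + D u by rw [hDa]; abel]
    have h := hpow p
    rw [← mt_pow, hxp, mt_one, one_mulVec, left_eq_add, smul_eq_zero] at h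
    exact h.resolve_left (cast_order_ne_zero hF hp' (by rcases hp with rfl | rfl <;> norm_num))
  have hinv : ∀ w ∈ W, mt x *ᵥ w ∈ W := by
    rintro _ ⟨u, rfl⟩
    exact ⟨mt x *ᵥ u, by rw [hDa, hDa, mulVec_sub]⟩
  have hd := finrank_invariant hF hp' hxp W hinv fun w hw hf =>
    hdisj w hw (by rw [hEdef, LinearMap.mem_ker, hDa, hf, sub_self])
  have hle := finrank_le_six W
  have hsum := D.finrank_range_add_finrank_ker
  rw [finrank_V6, ← hWdef, ← hEdef] at hsum
  have hW0 : Module.finrank F W ≠ 0 := fun h => by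
    rw [Submodule.finrank_eq_zero, hWdef, LinearMap.range_eq_bot, hD, LinearEquiv.map_eq_zero_iff,
      sub_eq_zero] at h
    have hx1 : x = 1 := mt_injective h
    rw [hx1, orderOf_one] at hx
    exact hp'.ne_one hx.symm
  suffices h6 : Module.finrank F W = 6 by
    have hE0 : E = ⊥ := Submodule.finrank_eq_zero.1 (by omega)
    have : v ∈ E := by rw [hEdef, LinearMap.mem_ker, hDa, hv, sub_self]
    rw [hE0] at this
    exact (Submodule.mem_bot F).1 this
  by_contra h6
  have h3 : Module.finrank F W = 3 := by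
    rcases exp_cases hp hle hd with h | h | h
    · exact absurd h hW0
    · exact absurd h h6
    · exact h.2
  refine no_odd_split hF W E h3 ?_ ?_
  · refine Submodule.eq_top_of_disjoint W E (by rw [finrank_V6]; omega) ?_
    exact Submodule.disjoint_def.2 hdisj
  · rintro _ ⟨u, rfl⟩ e he
    rw [hEdef, LinearMap.mem_ker, hDa, sub_eq_zero] at he
    rw [hDa, map_sub, LinearMap.sub_apply, sub_eq_zero]
    conv_lhs => rw [← he]
    exact bil_mt x u e

/-! ### The orbit map of a vector -/

/-- `q ↦ q(x) v`. -/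
noncomputable def orbMap (x : Sp6) (v : V6) : F[X] →ₗ[F] V6 where
  toFun q := aeval (mt x) q *ᵥ v
  map_add' q r := by rw [map_add, add_mulVec]
  map_smul' a q := by rw [map_smul, smul_mulVec]; rfl

theorem orbMap_apply (x : Sp6) (v : V6) (q : F[X]) : orbMap x v q = aeval (mt x) q *ᵥ v := rfl

theorem mem_range_self (x : Sp6) (v : V6) : v ∈ LinearMap.range (orbMap x v) :=
  ⟨1, by rw [orbMap_apply, map_one, one_mulVec]⟩

theorem range_invariant (x : Sp6) (v : V6) :
    ∀ w ∈ LinearMap.range (orbMap x v), mt x *ᵥ w ∈ LinearMap.range (orbMap x v) := by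
  rintro _ ⟨q, rfl⟩
  exact ⟨X * q, by rw [orbMap_apply, orbMap_apply, map_mul, aeval_X, mulVec_mulVec]⟩

theorem range_le_of_mem (x : Sp6) {v u : V6} (h : u ∈ LinearMap.range (orbMap x v)) :
    LinearMap.range (orbMap x u) ≤ LinearMap.range (orbMap x v) := by
  obtain ⟨r, rfl⟩ := h
  rintro _ ⟨q, rfl⟩
  exact ⟨q * r, by rw [orbMap_apply, orbMap_apply, orbMap_apply, map_mul, mulVec_mulVec]⟩

theorem finrank_range_le (x : Sp6) {v : V6} {q : F[X]} (hq : q ≠ 0) (h : aeval (mt x) q *ᵥ v = 0) :
    Module.finrank F (LinearMap.range (orbMap x v)) ≤ q.natDegree := by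
  have hle : LinearMap.range (orbMap x v) ≤ (degreeLT F q.natDegree).map (orbMap x v) := by
    rintro _ ⟨r, rfl⟩
    refine ⟨r % q, ?_, ?_⟩
    · rw [SetLike.mem_coe, mem_degreeLT, ← degree_eq_natDegree hq]
      exact EuclideanDomain.mod_lt r hq
    · conv_rhs => rw [← EuclideanDomain.div_add_mod r q]
      rw [map_add, orbMap_apply x v (q * (r / q)), mul_comm q, map_mul, ← mulVec_mulVec, h, mulVec_zero,
        zero_add]
  haveI : Module.Finite F (degreeLT F q.natDegree) := Module.Finite.equiv (degreeLTEquiv F q.natDegree).symm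
  refine (Submodule.finrank_mono hle).trans ((Submodule.finrank_map_le _ _).trans (le_of_eq ?_))
  rw [LinearEquiv.finrank_eq (degreeLTEquiv F q.natDegree), Module.finrank_fin_fun]

theorem finrank_range (hF : Fintype.card F = 3) {x : Sp6} {p : ℕ} (hp : p = 7 ∨ p = 13) (hx : orderOf x = p)
    {v : V6} (hv : v ≠ 0) :
    Module.finrank F (LinearMap.range (orbMap x v)) = 6 ∨
      (p = 13 ∧ Module.finrank F (LinearMap.range (orbMap x v)) = 3) := by
  have hp' : p.Prime := by rcases hp with rfl | rfl <;> norm_num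
  have hd := finrank_invariant hF hp' (hx ▸ pow_orderOf_eq_one x) _ (range_invariant x v)
    fun w _ hf => fixed_zero hF hp hx hf
  have hle := finrank_le_six (LinearMap.range (orbMap x v))
  have h0 : Module.finrank F (LinearMap.range (orbMap x v)) ≠ 0 := fun h => by
    rw [Submodule.finrank_eq_zero] at h
    exact hv ((Submodule.mem_bot F).1 (h ▸ mem_range_self x v))
  rcases exp_cases hp hle hd with h | h | h
  · exact absurd h h0
  · exact Or.inl h
  · exact Or.inr h

/-- The adjoint of a polynomial in `x` is that polynomial in `x⁻¹`. -/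
theorem adjoint_aeval (x : Sp6) (q : F[X]) :
    (-Matrix.J (Fin 3) F) * (aeval (mt x) q)ᵀ * Matrix.J (Fin 3) F = aeval (mt x⁻¹) q := by
  have hi : ∀ g : Sp6, (-Matrix.J (Fin 3) F) * (mt g)ᵀ * Matrix.J (Fin 3) F = mt g⁻¹ := fun g =>
    (SymplecticGroup.coe_inv g).symm
  induction q using Polynomial.induction_on' with
  | add q r hq hr => rw [map_add, map_add, transpose_add, mul_add, add_mul, hq, hr]
  | monomial n a =>
    rw [aeval_monomial, aeval_monomial, ← Algebra.smul_def, ← Algebra.smul_def, transpose_smul,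
      Matrix.mul_smul, Matrix.smul_mul, ← mt_pow, ← mt_pow, hi, inv_pow]

theorem aeval_pow_27 (hF : Fintype.card F = 3) (x : Sp6) (q : F[X]) :
    (aeval (mt x) q) ^ 27 = aeval (mt (x ^ 27)) q := by
  have h : ∀ f : F[X], f ^ 3 = expand F 3 f := fun f => by
    rw [← hF, FiniteField.expand_card]
  rw [← map_pow, show (27 : ℕ) = 3 * 3 * 3 by norm_num, pow_mul, pow_mul, h, h, h, ← expand_mul, ← expand_mul,
    expand_aeval, mt_pow]

/-- The centralizer of an element with a cyclic vector consists of polynomials. -/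
theorem exists_aeval {x c : Sp6} (hc : Commute c x) {v : V6} (hv : LinearMap.range (orbMap x v) = ⊤) :
    ∃ q : F[X], mt c = aeval (mt x) q := by
  obtain ⟨q, hq⟩ := (hv ▸ Submodule.mem_top : mt c *ᵥ v ∈ LinearMap.range (orbMap x v))
  rw [orbMap_apply] at hq
  refine ⟨q, Matrix.toLin'.injective (LinearMap.ext fun w => ?_)⟩
  obtain ⟨r, rfl⟩ := (hv ▸ Submodule.mem_top : w ∈ LinearMap.range (orbMap x v))
  have hcm : Commute (mt c) (aeval (mt x) r) := by
    have h : Commute (mt c) (mt x) := by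
      show mt c * mt x = mt x * mt c
      rw [← mt_mul, ← mt_mul, hc.eq]
    induction r using Polynomial.induction_on' with
    | add f g hf hg => rw [map_add]; exact hf.add_right hg
    | monomial n a =>
      rw [aeval_monomial, ← Algebra.smul_def]
      exact (h.pow_right n).smul_right a
  rw [toLin'_apply, toLin'_apply, orbMap_apply, mulVec_mulVec, hcm.eq, ← mulVec_mulVec, ← hq, mulVec_mulVec,
    mulVec_mulVec, ← map_mul, ← map_mul, mul_comm]

theorem cent_seven (hF : Fintype.card F = 3) {x c : Sp6} (hx : orderOf x = 7) (hc : Commute c x) :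
    c ^ 28 = 1 := by
  obtain ⟨v, hv⟩ := exists_ne (0 : V6)
  have hd := (finrank_range hF (Or.inl rfl) hx hv).resolve_right (by omega)
  obtain ⟨q, hq⟩ := exists_aeval hc (Submodule.eq_top_of_finrank_eq (hd.trans finrank_V6.symm))
  have h1 : mt (c ^ 27) = mt c⁻¹ := by
    rw [mt_pow, hq, aeval_pow_27 hF, show mt c⁻¹ = (-Matrix.J (Fin 3) F) * (mt c)ᵀ * Matrix.J (Fin 3) F from
      SymplecticGroup.coe_inv c, hq, adjoint_aeval]
    congr 3
    rw [eq_inv_iff_mul_eq_one, ← pow_succ, show 27 + 1 = 7 * 4 by norm_num, pow_mul, ← hx, pow_orderOf_eq_one,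
      one_pow]
  rw [pow_succ, mt_injective h1, inv_mul_cancel]

/-- Multiplication by the class of `X` in `(ZMod 3)[X] / (X³ - a X² - b X - c)`. -/
def stepC (a b c : ZMod 3) (w : ZMod 3 × ZMod 3 × ZMod 3) : ZMod 3 × ZMod 3 × ZMod 3 :=
  (c * w.2.2, w.1 + b * w.2.2, w.2.1 + a * w.2.2)

theorem no_inverse_closed_cubic : ∀ a b c : ZMod 3, (stepC a b c)^[13] (1, 0, 0) = (1, 0, 0) →
    (stepC a b c)^[1] (1, 0, 0) ≠ (1, 0, 0) →
    (stepC a b c)^[10] (1, 0, 0) ≠
      (a • (stepC a b c)^[11] (1, 0, 0) + b • (stepC a b c)^[12] (1, 0, 0) + c • (1, 0, 0)) := by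
  decide +kernel

/-- No cubic annihilates an element of order 13. -/
theorem no_cubic (hF : Fintype.card F = 3) {x : Sp6} (hx : orderOf x = 13) (P : F[X]) (hm : P.Monic)
    (hd : P.natDegree = 3) : aeval (mt x) P ≠ 0 := by
  intro hP
  haveI := charP_three hF
  haveI := Fact.mk Nat.prime_three
  let ι : ZMod 3 →+* F := ZMod.castHom (dvd_refl 3) F
  have hbij : Function.Bijective ι := (Fintype.bijective_iff_injective_and_card _).2
    ⟨ι.injective, by rw [ZMod.card, hF]⟩
  obtain ⟨a, ha⟩ := hbij.2 (-P.coeff 2)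
  obtain ⟨b, hb⟩ := hbij.2 (-P.coeff 1)
  obtain ⟨c, hc⟩ := hbij.2 (-P.coeff 0)
  let ev : ZMod 3 × ZMod 3 × ZMod 3 → M6 := fun w => ι w.1 • 1 + ι w.2.1 • mt x + ι w.2.2 • mt x ^ 2
  have hx3 : mt x ^ 3 = ι a • mt x ^ 2 + ι b • mt x + ι c • (1 : M6) := by
    rw [aeval_eq_sum_range, hd] at hP
    simp only [Finset.sum_range_succ, Finset.sum_range_zero, zero_add, pow_zero, pow_one] at hP
    rw [show P.coeff 3 = 1 from hd ▸ hm, one_smul] at hP
    rw [ha, hb, hc]
    simp only [neg_smul]
    rw [eq_neg_of_add_eq_zero_right hP]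
    abel
  have hstep : ∀ w, mt x * ev w = ev (stepC a b c w) := fun w => by
    simp only [ev, stepC, map_mul, map_add, mul_add, Matrix.mul_smul, mul_one, ← pow_succ']
    rw [hx3, ← sq]
    simp only [smul_add, smul_smul, add_smul]
    ring_nf
    module
  have hev : ∀ n, mt x ^ n = ev ((stepC a b c)^[n] (1, 0, 0)) := by
    intro n
    induction n with
    | zero => simp [ev]
    | succ n ih => rw [pow_succ', ih, hstep, Function.iterate_succ_apply']
  -- the powers `1`, `x`, `x²` are independent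
  have hev0 : ∀ w, ev w = 0 → w = 0 := by
    intro w hw
    obtain ⟨v, hv⟩ := exists_ne (0 : V6)
    set q : F[X] := C (ι w.1) + C (ι w.2.1) * X + C (ι w.2.2) * X ^ 2 with hqdef
    have hq : aeval (mt x) q = 0 := by
      rw [hqdef]
      simpa [Algebra.algebraMap_eq_smul_one] using hw
    have hq0 : q = 0 := by
      by_contra h
      have hle := finrank_range_le x h (v := v) (by rw [hq, zero_mulVec])
      have hdeg : q.natDegree ≤ 2 := by rw [hqdef]; compute_degree
      rcases finrank_range hF (Or.inr rfl) hx hv with h' | ⟨-, h'⟩ <;> omega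
    have h0 : q.coeff 0 = 0 := by rw [hq0, coeff_zero]
    have h1 : q.coeff 1 = 0 := by rw [hq0, coeff_zero]
    have h2 : q.coeff 2 = 0 := by rw [hq0, coeff_zero]
    simp only [hqdef, coeff_add, coeff_C, coeff_C_mul, coeff_X, coeff_X_pow] at h0 h1 h2
    norm_num at h0 h1 h2
    exact Prod.ext h0 (Prod.ext h1 h2)
  have hevsub : ∀ w w', ev w = ev w' → w = w' := fun w w' h => by
    refine sub_eq_zero.1 (hev0 _ ?_)
    simp only [ev, Prod.fst_sub, Prod.snd_sub, map_sub, sub_smul]
    simp only [ev] at h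
    linear_combination (norm := module) h
  have h13 : (stepC a b c)^[13] (1, 0, 0) = (1, 0, 0) := by
    refine hevsub _ _ ?_
    rw [← hev, ← mt_pow, ← hx, pow_orderOf_eq_one, mt_one]
    simp [ev]
  have h1 : (stepC a b c)^[1] (1, 0, 0) ≠ (1, 0, 0) := fun h => by
    have h' := congrArg ev h
    rw [← hev, pow_one, show ev (1, 0, 0) = mt (1 : Sp6) by simp [ev, mt_one]] at h'
    rw [mt_injective h', orderOf_one] at hx
    omega
  refine no_inverse_closed_cubic a b c h13 h1 (hevsub _ _ ?_)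
  -- `x⁻¹` satisfies the same cubic
  have hinv : aeval (mt x⁻¹) P = 0 := by rw [← adjoint_aeval, hP, transpose_zero, mul_zero, zero_mul]
  rw [aeval_eq_sum_range, hd] at hinv
  simp only [Finset.sum_range_succ, Finset.sum_range_zero, zero_add, pow_zero, pow_one] at hinv
  rw [show P.coeff 3 = 1 from hd ▸ hm, one_smul] at hinv
  have hi : ∀ n, n ≤ 13 → mt x⁻¹ ^ n = mt x ^ (13 - n) := fun n hn => by
    rw [← mt_pow, ← mt_pow, inv_pow]
    congr 1
    refine inv_eq_of_mul_eq_one_right ?_
    rw [← pow_add, Nat.add_sub_cancel' hn, ← hx, pow_orderOf_eq_one]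
  rw [hi 3 (by norm_num), hi 2 (by norm_num), ← pow_one (mt x⁻¹), hi 1 (by norm_num)] at hinv
  norm_num at hinv
  have e : ev (a • (stepC a b c)^[11] (1, 0, 0) + b • (stepC a b c)^[12] (1, 0, 0) + c • (1, 0, 0)) =
      ι a • mt x ^ 11 + ι b • mt x ^ 12 + ι c • (1 : M6) := by
    rw [hev 11, hev 12]
    simp only [ev, Prod.fst_add, Prod.snd_add, Prod.smul_fst, Prod.smul_snd, smul_eq_mul, map_add, map_mul]
    simp
    module
  rw [e, ← hev, ha, hb, hc]
  simp only [neg_smul]
  rw [eq_neg_of_add_eq_zero_right hinv]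
  abel

theorem exists_cyclic (hF : Fintype.card F = 3) {x : Sp6} (hx : orderOf x = 13) :
    ∃ v : V6, LinearMap.range (orbMap x v) = ⊤ := by
  by_contra hno
  push Not at hno
  have hd : ∀ v : V6, v ≠ 0 → Module.finrank F (LinearMap.range (orbMap x v)) = 3 := fun v hv =>
    ((finrank_range hF (Or.inr rfl) hx hv).resolve_left fun h =>
      hno v (Submodule.eq_top_of_finrank_eq (h.trans finrank_V6.symm))).2
  have hkill : ∀ v : V6, v ≠ 0 → ∃ P : F[X], P.Monic ∧ P.natDegree = 3 ∧ aeval (mt x) P *ᵥ v = 0 := by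
    intro v hv
    set W := LinearMap.range (orbMap x v)
    let f : Module.End F W := (Matrix.toLin' (mt x)).restrict fun w hw => by
      rw [toLin'_apply]; exact range_invariant x v w hw
    refine ⟨f.charpoly, f.charpoly_monic, f.charpoly_natDegree.trans (hd v hv), ?_⟩
    have h := congrArg Subtype.val (LinearMap.congr_fun f.aeval_self_charpoly ⟨v, mem_range_self x v⟩)
    simp only [LinearMap.zero_apply, ZeroMemClass.coe_zero] at h
    rw [← h]
    have hgen : ∀ (q : F[X]) (w : W), ((aeval f q w : W) : V6) = aeval (mt x) q *ᵥ (w : V6) := by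
      intro q
      induction q using Polynomial.induction_on' with
      | add a b ha hb =>
        intro w
        rw [map_add, map_add, LinearMap.add_apply, Submodule.coe_add, ha, hb, add_mulVec]
      | monomial n a =>
        intro w
        rw [aeval_monomial, aeval_monomial, ← Algebra.smul_def, ← Algebra.smul_def, LinearMap.smul_apply,
          Submodule.coe_smul, smul_mulVec]
        congr 1
        induction n with
        | zero => simp
        | succ n ih =>
          rw [pow_succ', pow_succ', Module.End.mul_apply, ← mulVec_mulVec, ← ih]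
          rfl
    exact (hgen f.charpoly ⟨v, mem_range_self x v⟩).symm
  obtain ⟨v, hv⟩ := exists_ne (0 : V6)
  obtain ⟨u, hu⟩ : ∃ u : V6, u ∉ LinearMap.range (orbMap x v) := by
    by_contra! h
    exact hno v (Submodule.eq_top_iff'.2 h)
  have hu0 : u ≠ 0 := fun h => hu (h ▸ zero_mem _)
  set W₁ := LinearMap.range (orbMap x v)
  set W₂ := LinearMap.range (orbMap x u)
  have hdisj : ∀ w ∈ W₁, w ∈ W₂ → w = 0 := by
    intro w hw1 hw2
    by_contra hw
    have e1 : LinearMap.range (orbMap x w) = W₁ := Submodule.eq_of_le_of_finrank_eq (range_le_of_mem x hw1)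
      ((hd w hw).trans (hd v hv).symm)
    have e2 : LinearMap.range (orbMap x w) = W₂ := Submodule.eq_of_le_of_finrank_eq (range_le_of_mem x hw2)
      ((hd w hw).trans (hd u hu0).symm)
    exact hu (e1 ▸ e2 ▸ mem_range_self x u)
  obtain ⟨P₁, hm1, hd1, hk1⟩ := hkill v hv
  obtain ⟨P₂, hm2, hd2, hk2⟩ := hkill u hu0
  have hvu : v + u ≠ 0 := fun h => hu (by
    rw [show u = -v from (neg_eq_of_add_eq_zero_right h).symm]
    exact neg_mem (mem_range_self x v))
  obtain ⟨P₃, hm3, hd3, hk3⟩ := hkill _ hvu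
  rw [mulVec_add] at hk3
  have h3v : aeval (mt x) P₃ *ᵥ v = 0 := hdisj _ ⟨P₃, rfl⟩
    ⟨-P₃, by rw [orbMap_apply, map_neg, neg_mulVec, eq_comm, ← add_eq_zero_iff_eq_neg]; exact hk3⟩
  have h3u : aeval (mt x) P₃ *ᵥ u = 0 := by rwa [h3v, zero_add] at hk3
  refine no_cubic hF hx P₃ hm3 hd3 (Matrix.toLin'.injective (LinearMap.ext fun w => ?_))
  rw [map_zero, LinearMap.zero_apply, toLin'_apply]
  have htop : W₁ ⊔ W₂ = ⊤ := Submodule.eq_top_of_disjoint W₁ W₂
    (by rw [finrank_V6, hd v hv, hd u hu0]) (Submodule.disjoint_def.2 hdisj)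
  obtain ⟨_, ⟨q, rfl⟩, _, ⟨r, rfl⟩, rfl⟩ := Submodule.mem_sup.1 (htop ▸ Submodule.mem_top : w ∈ W₁ ⊔ W₂)
  rw [mulVec_add, orbMap_apply, orbMap_apply, mulVec_mulVec, mulVec_mulVec, ← map_mul, ← map_mul, mul_comm _ q,
    mul_comm _ r, map_mul, map_mul, ← mulVec_mulVec, ← mulVec_mulVec, h3v, h3u, mulVec_zero, mulVec_zero,
    add_zero]

theorem cent_thirteen (hF : Fintype.card F = 3) {x c : Sp6} (hx : orderOf x = 13) (hc : Commute c x) :
    mt (c ^ 13) = 1 ∨ mt (c ^ 13) = -1 := by
  haveI := charP_three hF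
  obtain ⟨v, hv⟩ := exists_cyclic hF hx
  obtain ⟨q, hq⟩ := exists_aeval hc hv
  have h27 : c ^ 27 = c := mt_injective (by
    rw [mt_pow, hq, aeval_pow_27 hF, show x ^ 27 = x by
      rw [show 27 = 13 * 2 + 1 by norm_num, pow_succ, pow_mul, ← hx, pow_orderOf_eq_one, one_pow, one_mul]])
  have h26 : c ^ 26 = 1 := mul_right_cancel (b := c) (by rw [← pow_succ, one_mul]; exact h27)
  set s := c ^ 13 with hs
  have hss : mt s * mt s = 1 := by rw [← mt_mul, hs, ← pow_add, h26, mt_one]
  have hsx : Commute s x := hc.pow_left 13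
  set Wp := LinearMap.ker (Matrix.toLin' (mt s - 1))
  set Wm := LinearMap.ker (Matrix.toLin' (mt s + 1))
  have hp : ∀ w, w ∈ Wp ↔ mt s *ᵥ w = w := fun w => by
    rw [LinearMap.mem_ker, toLin'_apply, sub_mulVec, one_mulVec, sub_eq_zero]
  have hm : ∀ w, w ∈ Wm ↔ mt s *ᵥ w = -w := fun w => by
    rw [LinearMap.mem_ker, toLin'_apply, add_mulVec, one_mulVec, add_eq_zero_iff_eq_neg]
  have h2 : (2 : F) ≠ 0 := fun h => by
    have := (CharP.cast_eq_zero_iff F 3 2).1 (by exact_mod_cast h)
    omega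
  have hsup : Wp ⊔ Wm = ⊤ := by
    refine Submodule.eq_top_iff'.2 fun w => ?_
    refine Submodule.mem_sup.2 ⟨(2 : F)⁻¹ • (w + mt s *ᵥ w), ?_, (2 : F)⁻¹ • (w - mt s *ᵥ w), ?_, ?_⟩
    · rw [hp, mulVec_smul, mulVec_add, mulVec_mulVec, hss, one_mulVec, add_comm]
    · rw [hm, mulVec_smul, mulVec_sub, mulVec_mulVec, hss, one_mulVec, ← smul_neg, neg_sub]
    · rw [← smul_add, add_add_sub_cancel, ← two_smul F w, smul_smul, inv_mul_cancel₀ h2, one_smul]
  have horth : ∀ w ∈ Wp, ∀ e ∈ Wm, bil F w e = 0 := fun w hw e he => by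
    have h := bil_mt s w e
    rw [(hp w).1 hw, (hm e).1 he, map_neg] at h
    have h' : (2 : F) * bil F w e = 0 := by linear_combination -h
    exact (mul_eq_zero.1 h').resolve_left h2
  have hinv : ∀ w ∈ Wp, mt x *ᵥ w ∈ Wp := fun w hw => by
    rw [hp, mulVec_mulVec, ← mt_mul, hsx.eq, mt_mul, ← mulVec_mulVec, (hp w).1 hw]
  have hd := finrank_invariant hF (by norm_num) (hx ▸ pow_orderOf_eq_one x) Wp hinv
    fun w _ hf => fixed_zero hF (Or.inr rfl) hx hf
  have hle := finrank_le_six Wp
  obtain h | h | h : Module.finrank F Wp = 0 ∨ Module.finrank F Wp = 3 ∨ Module.finrank F Wp = 6 := by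
    rcases exp_cases (Or.inr rfl) hle hd with h | h | h
    exacts [Or.inl h, Or.inr (Or.inr h), Or.inr (Or.inl h.2)]
  · right
    rw [Submodule.finrank_eq_zero] at h
    rw [h, bot_sup_eq] at hsup
    rw [LinearMap.ker_eq_top, LinearEquiv.map_eq_zero_iff, add_eq_zero_iff_eq_neg] at hsup
    exact hsup
  · exact (no_odd_split hF Wp Wm h hsup horth).elim
  · left
    have : Wp = ⊤ := Submodule.eq_top_of_finrank_eq (h.trans finrank_V6.symm)
    rw [LinearMap.ker_eq_top, LinearEquiv.map_eq_zero_iff, sub_eq_zero] at this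
    exact this

end CfsgLib.SpSixThree
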