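import Mathlib
import Cfsg.Agent.Lib.Classical.SylowLargePrime
import Cfsg.Agent.Lib.Classical.SympOrder

/-!
Sylow `r`-subgroups of `Sp_{2n}(q)` for an odd prime `r > n` not dividing `q`.
-/

set_option autoImplicit false

namespace CfsgLib.Classical.SylowLargePrimeSymp

open CfsgLib.Classical.SylowLargePrime Matrix

variable {F : Type*} [Field F] [Fintype F] {q r n : ℕ} [hr : Fact r.Prime]

theorem factorization_card (hq : Fintype.card F = q) (hr2 : r ≠ 2) (hrn : n < r) (hrq : ¬ r ∣ q) :
    (Nat.card (Matrix.symplecticGroup (Fin n) F)).factorization r =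
      ((Finset.Icc 1 n).filter (fun i => orderOf (q : ZMod r) ∣ 2 * i)).card *
        (q ^ orderOf (q : ZMod r) - 1).factorization r := by
  classical
  have hq2 : 2 ≤ q := hq ▸ Fintype.one_lt_card
  have hne : ∀ i ∈ Finset.range n, q ^ (2 * (i + 1)) - 1 ≠ 0 := fun i _ => by
    have : 1 < q ^ (2 * (i + 1)) := Nat.one_lt_pow (by omega) (by omega)
    omega
  have hterm : ∀ i ∈ Finset.range n, (q ^ (2 * (i + 1)) - 1).factorization r =
      if orderOf (q : ZMod r) ∣ 2 * (i + 1) then (q ^ orderOf (q : ZMod r) - 1).factorization r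
      else 0 := by
    intro i hi
    refine factorization_q_pow_sub_one (by omega) (by omega) fun m hm hdvd => ?_
    have h1 : r ∣ 2 * (i + 1) := hm ▸ hdvd.mul_left _
    rcases hr.out.dvd_mul.mp h1 with h | h
    · exact hr2 ((Nat.prime_dvd_prime_iff_eq hr.out Nat.prime_two).mp h)
    · have := Nat.le_of_dvd (by omega) h
      have := Finset.mem_range.mp hi
      omega
  rw [CfsgLib.Classical.SympTrans.card_symplectic, Nat.card_eq_fintype_card (α := F), hq,
    Nat.factorization_mul (pow_ne_zero _ (by omega)) (Finset.prod_ne_zero_iff.mpr hne),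
    Finsupp.add_apply, Nat.factorization_eq_zero_of_not_dvd fun h => hrq (hr.out.dvd_of_dvd_pow h),
    zero_add, Nat.factorization_prod hne, Finsupp.finsetSum_apply, Finset.sum_congr rfl hterm,
    Finset.sum_ite, Finset.sum_const_zero, add_zero, Finset.sum_const, smul_eq_mul]
  congr 1
  refine Finset.card_nbij' (fun i => i + 1) (fun i => i - 1) ?_ ?_ ?_ ?_
  · intro i hi
    simp only [Finset.mem_coe, Finset.mem_filter, Finset.mem_range, Finset.mem_Icc] at hi ⊢
    exact ⟨by omega, hi.2⟩
  · intro i hi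
    simp only [Finset.mem_coe, Finset.mem_filter, Finset.mem_range, Finset.mem_Icc] at hi ⊢
    exact ⟨by omega, by rw [Nat.sub_add_cancel hi.1.1]; exact hi.2⟩
  · intro i _; simp
  · intro i hi
    simp only [Finset.mem_coe, Finset.mem_filter, Finset.mem_Icc] at hi
    show i - 1 + 1 = i
    omega

omit hr in
/-- The degrees divisible by `d`, for `d` even and for `d` odd. -/
theorem filter_card {d : ℕ} (hd : 0 < d) :
    ((Finset.Icc 1 n).filter (fun i => d ∣ 2 * i)).card =
      if Even d then (n + n) / d else n / d := by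
  split_ifs with h
  · obtain ⟨e, rfl⟩ := h
    rw [← two_mul n, ← two_mul e, Nat.mul_div_mul_left _ _ two_pos,
      ← Nat.Ioc_filter_dvd_card_eq_div n e]
    congr 1
    ext i
    simp only [Finset.mem_filter, Finset.mem_Icc, Finset.mem_Ioc,
      Nat.mul_dvd_mul_iff_left two_pos, Nat.lt_iff_add_one_le, zero_add]
  · rw [← Nat.Ioc_filter_dvd_card_eq_div n d]
    congr 1
    ext i
    have hc : d.Coprime 2 := Nat.coprime_two_right.mpr (Nat.not_even_iff_odd.mp h)
    simp only [Finset.mem_filter, Finset.mem_Icc, Finset.mem_Ioc, Nat.lt_iff_add_one_le, zero_add]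
    exact and_congr_right fun _ => ⟨fun h => hc.dvd_of_dvd_mul_left h, fun h => h.mul_left 2⟩

/-- The Levi subgroup `GL_n`. -/
def levi : GL (Fin n) F →* Matrix.symplecticGroup (Fin n) F :=
  MonoidHom.mk' (fun A => ⟨fromBlocks (A : Matrix (Fin n) (Fin n) F) 0 0
      ((A⁻¹ : GL (Fin n) F) : Matrix (Fin n) (Fin n) F)ᵀ, by
    rw [SymplecticGroup.mem_iff]
    simp [Matrix.J, fromBlocks_transpose, fromBlocks_multiply, ← Matrix.transpose_mul]⟩)
    fun A B => Subtype.ext (by
      show fromBlocks _ _ _ _ = fromBlocks _ _ _ _ * fromBlocks _ _ _ _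
      rw [fromBlocks_multiply]
      simp [_root_.mul_inv_rev, Matrix.transpose_mul])

omit [Fintype F] in
theorem levi_injective : Function.Injective (levi (F := F) (n := n)) := fun A B h => by
  refine Units.ext ?_
  have h1 : fromBlocks (A : Matrix (Fin n) (Fin n) F) 0 0 _ = fromBlocks _ 0 0 _ := congrArg Subtype.val h
  exact (fromBlocks_inj.mp h1).1

/-- The natural embedding into `GL_{2n}`. -/
noncomputable def toGL : Matrix.symplecticGroup (Fin n) F →* GL (Fin (n + n)) F :=
  (((Matrix.reindexAlgEquiv F F finSumFinEquiv).toMulEquiv.toMonoidHom).comp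
    (Matrix.symplecticGroup (Fin n) F).subtype).toHomUnits

omit [Fintype F] in
theorem toGL_injective : Function.Injective (toGL (F := F) (n := n)) := fun A B h =>
  Subtype.ext ((Matrix.reindexAlgEquiv F F finSumFinEquiv).injective (congrArg Units.val h))

theorem sylow (hq : Fintype.card F = q) (hr2 : r ≠ 2) (hrn : n < r) (hrq : ¬ r ∣ q)
    (P : Sylow r (Matrix.symplecticGroup (Fin n) F)) :
    Nonempty (↥(P : Subgroup (Matrix.symplecticGroup (Fin n) F)) ≃*
      (Fin ((Finset.Icc 1 n).filter (fun i => orderOf (q : ZMod r) ∣ 2 * i)).card →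
        Multiplicative (ZMod (r ^ (q ^ orderOf (q : ZMod r) - 1).factorization r)))) := by
  have hd := order_pos (r := r) hrq
  have hf := factorization_card (F := F) hq hr2 hrn hrq
  rw [filter_card hd] at hf ⊢
  by_cases h : Even (orderOf (q : ZMod r))
  · rw [if_pos h] at hf ⊢
    obtain ⟨ψ, hψ⟩ := exists_GL_hom (F := F) (n := n + n) hq hrq
    have hdiv : (n + n) / orderOf (q : ZMod r) < r := by
      have h2 : 2 ≤ orderOf (q : ZMod r) := Nat.le_of_dvd hd h.two_dvd
      calc (n + n) / orderOf (q : ZMod r) ≤ (n + n) / 2 := Nat.div_le_div_left h2 two_pos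
        _ = n := by omega
        _ < r := hrn
    have hg := factorization_card_GL_of_div (F := F) (n := n + n) hq hdiv hrq
    let S : Sylow r (GL (Fin (n + n)) F) := default
    obtain ⟨e1⟩ := sylow_iso ψ hψ (by rw [hg, Nat.card_fun]; simp [← pow_mul, mul_comm]) S
    obtain ⟨e2⟩ := sylow_iso ((toGL (F := F) (n := n)).comp (P : Subgroup _).subtype)
      (toGL_injective.comp Subtype.val_injective) (by
        rw [hg, ← hf]; exact P.card_eq_multiplicity) S
    exact ⟨e2.symm.trans e1⟩
  · rw [if_neg h] at hf ⊢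
    obtain ⟨ψ, hψ⟩ := exists_GL_hom (F := F) (n := n) hq hrq
    refine sylow_iso (levi.comp ψ) (levi_injective.comp hψ) ?_ P
    rw [hf, Nat.card_fun]
    simp [← pow_mul, mul_comm]

end CfsgLib.Classical.SylowLargePrimeSymp
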