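import Cfsg.Agent.Lib.Classical.SymmOrth
import Cfsg.Agent.Lib.Classical.WittBasis
import Cfsg.Agent.Lib.BinForms.Basic

set_option autoImplicit false

/-!
`S_(4k+4)` embeds in `O^±_(4k+2)(2)`.
-/

namespace CfsgLib.Classical.SymmOrthGen

open SymmSymp SymmOrth Matrix

/-- The weight. -/
def wt {N : ℕ} (y : Fin N → ZMod 2) : ℕ := (Finset.univ.filter fun i => y i = 1).card

theorem qw_eq {N : ℕ} (y : Fin N → ZMod 2) : qw y = ((wt y / 2 : ℕ) : ZMod 2) := rfl

theorem cast_wt {N : ℕ} (y : Fin N → ZMod 2) : (wt y : ZMod 2) = ∑ i, y i := by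
  rw [wt, ← Finset.sum_boole]
  refine Finset.sum_congr rfl fun i _ => ?_
  exact (by decide : ∀ a : ZMod 2, (if a = 1 then (1 : ZMod 2) else 0) = a) (y i)

theorem even_wt {N : ℕ} {y : Fin N → ZMod 2} (h : ∑ i, y i = 0) : Even (wt y) := by
  rw [← cast_wt, ZMod.natCast_eq_zero_iff_even] at h
  exact h

theorem wt_add {N : ℕ} (a b : Fin N → ZMod 2) :
    wt (a + b) + 2 * wt (a * b) = wt a + wt b := by
  simp only [wt, Finset.card_filter, Finset.mul_sum, ← Finset.sum_add_distrib]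
  refine Finset.sum_congr rfl fun i _ => ?_
  exact (by decide : ∀ u v : ZMod 2, (if u + v = 1 then 1 else 0 : ℕ) + 2 * (if u * v = 1 then 1 else 0) =
    (if u = 1 then 1 else 0) + (if v = 1 then 1 else 0)) (a i) (b i)

theorem qw_add {N : ℕ} (a b : Fin N → ZMod 2) (ha : ∑ i, a i = 0) (hb : ∑ i, b i = 0) :
    qw (a + b) = qw a + qw b + ∑ i, a i * b i := by
  have h := wt_add a b
  obtain ⟨ka, hka⟩ := even_wt ha
  obtain ⟨kb, hkb⟩ := even_wt hb
  rw [qw_eq, qw_eq, qw_eq, show ∑ i, a i * b i = ∑ i, (a * b) i from rfl, ← cast_wt, hka, hkb,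
    show wt (a + b) / 2 = ka + kb - wt (a * b) by omega, Nat.cast_sub (by omega), Nat.cast_add,
    show (ka + ka) / 2 = ka by omega, show (kb + kb) / 2 = kb by omega]
  exact CharTwo.sub_eq_add _ _

theorem qw_const {k : ℕ} (y : Fin (2 * (2 * k + 2)) → ZMod 2) (hy : ∑ i, y i = 0) (c : ZMod 2) :
    qw (fun i => y i + c) = qw y := by
  rcases (by decide : ∀ a : ZMod 2, a = 0 ∨ a = 1) c with rfl | rfl
  · simp
  obtain ⟨j, hj⟩ := even_wt hy
  have h : wt (fun i => y i + 1) + wt y = 2 * (2 * k + 2) := by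
    simp only [wt, Finset.card_filter, ← Finset.sum_add_distrib]
    rw [Finset.sum_congr rfl fun i _ => (by decide : ∀ u : ZMod 2,
      (if u + 1 = 1 then 1 else 0 : ℕ) + (if u = 1 then 1 else 0) = 1) (y i)]
    simp
  rw [qw_eq, qw_eq, show wt (fun i => y i + 1) / 2 = 2 * (k + 1) - j by omega,
    show wt y / 2 = j by omega, Nat.cast_sub (by omega), Nat.cast_mul,
    show ((2 : ℕ) : ZMod 2) = 0 from rfl, zero_mul, zero_sub, CharTwo.neg_eq]

variable {k : ℕ} (L : Fin (2 * (2 * k + 2)))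

theorem mem_cut (x : LinearMap.ker (cut L)) : ∑ i, x.1 i = 0 ∧ x.1 L = 0 := by
  simpa [cut] using x.2

/-- Half the weight, as a quadratic form. -/
noncomputable def qf : QuadraticForm (ZMod 2) (LinearMap.ker (cut L)) :=
  QuadraticMap.ofPolar (fun x => qw x.1)
    (fun a x => by
      rcases (by decide : ∀ a : ZMod 2, a = 0 ∨ a = 1) a with rfl | rfl
      · simp [qw]
      · simp)
    (fun x x' y => by
      simp only [QuadraticMap.polar, Submodule.coe_add]
      rw [qw_add (x.1 + x'.1) y.1 (mem_cut L (x + x')).1 (mem_cut L y).1, qw_add _ _ (mem_cut L x).1 (mem_cut L y).1,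
        qw_add _ _ (mem_cut L x').1 (mem_cut L y).1]
      simp only [Submodule.coe_add, Pi.add_apply, add_mul, Finset.sum_add_distrib]
      ring)
    (fun a x y => by
      rcases (by decide : ∀ a : ZMod 2, a = 0 ∨ a = 1) a with rfl | rfl
      · simp [QuadraticMap.polar, qw]
      · simp)

theorem qf_apply (x : LinearMap.ker (cut L)) : qf L x = qw x.1 := rfl

theorem polar_qf (x y : LinearMap.ker (cut L)) : QuadraticMap.polar ⇑(qf L) x y = form L x y := by
  simp only [QuadraticMap.polar, qf_apply, Submodule.coe_add]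
  rw [qw_add _ _ (mem_cut L x).1 (mem_cut L y).1, form_apply]
  ring

theorem qf_nondeg : (QuadraticMap.polarBilin (qf L)).Nondegenerate := by
  refine ⟨fun v h => form_sep L (by omega) v fun w => ?_, fun v h => form_sep L (by omega) v fun w => ?_⟩
  · rw [← polar_qf]; exact h w
  · rw [← polar_qf, QuadraticMap.polar_comm]; exact h w

theorem qf_act (s : Equiv.Perm (Fin (2 * (2 * k + 2)))) (x : LinearMap.ker (cut L)) :
    qw (act L s x.1) = qw x.1 := by
  have e : act L s x.1 = fun i => (x.1 ∘ s.symm) i + x.1 (s.symm L) := rfl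
  rw [e, qw_const (x.1 ∘ s.symm) ((Equiv.sum_comp s.symm x.1).trans (mem_cut L x).1), qw_perm]

/-- The permutations as isometries. -/
theorem exists_hom (hk : 1 ≤ k) {ι : Type} [Fintype ι] [DecidableEq ι]
    (b : Module.Basis ι (ZMod 2) (LinearMap.ker (cut L))) (Qs : (ι → ZMod 2) → ZMod 2)
    (hQ : ∀ c : ι → ZMod 2, qf L (∑ i, c i • b i) = Qs c) :
    ∃ φ : Equiv.Perm (Fin (2 * (2 * k + 2))) →* ↥(Cfsg.isometryGroup (ZMod 2) Qs),
      Function.Injective φ := by
  let T : Equiv.Perm (Fin (2 * (2 * k + 2))) → Module.End (ZMod 2) (LinearMap.ker (cut L)) :=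
    fun s => (act L s).restrict (act_mem L s)
  let T' : Equiv.Perm (Fin (2 * (2 * k + 2))) →* Module.End (ZMod 2) (LinearMap.ker (cut L)) :=
    { toFun := T
      map_one' := LinearMap.ext fun x => Subtype.ext (act_one L _ x.2)
      map_mul' := fun s t => LinearMap.ext fun x => Subtype.ext (act_mul L s t x.1) }
  let M := (LinearMap.toMatrixAlgEquiv b).toMonoidHom.comp T'
  have hM : ∀ s, M.toHomUnits s ∈ Cfsg.isometryGroup (ZMod 2) Qs := fun s c _ => by
    show Qs (LinearMap.toMatrix b b (T s) *ᵥ c) = Qs c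
    rw [← hQ, ← hQ]
    have e : T s (∑ i, c i • b i) = ∑ i, (LinearMap.toMatrix b b (T s) *ᵥ c) i • b i := by
      conv_lhs => rw [← b.sum_repr (T s (∑ i, c i • b i))]
      refine Finset.sum_congr rfl fun i _ => ?_
      rw [← LinearMap.toMatrix_mulVec_repr b b (T s), b.repr_sum_self]
    rw [← e, qf_apply, qf_apply]
    exact qf_act L s _
  refine ⟨M.toHomUnits.codRestrict _ hM, (injective_iff_map_eq_one _).2 fun s hs => ?_⟩
  have h1 : M s = 1 := congrArg (fun g : Cfsg.isometryGroup (ZMod 2) Qs =>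
    ((g.1 : GL ι (ZMod 2)) : Matrix ι ι (ZMod 2))) hs
  have h2 : T s = 1 := (LinearMap.toMatrixAlgEquiv b).injective (h1.trans (map_one _).symm)
  refine eq_one_of_act L (by omega) s fun x hx => ?_
  exact congrArg Subtype.val (LinearMap.congr_fun h2 ⟨x, hx⟩)

/-! ### The type of the form -/

open BinForms in
theorem sgn_sum {α : Type*} (s : Finset α) (f : α → ZMod 2) :
    sgn (∑ i ∈ s, f i) = ∏ i ∈ s, sgn (f i) := by
  classical
  induction s using Finset.induction with
  | empty => rfl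
  | insert j t hj ih => rw [Finset.sum_insert hj, Finset.prod_insert hj, sgn_add, ih]

theorem sum_plus (m : ℕ) :
    ∑ v : Fin m ⊕ Fin m → ZMod 2, BinForms.sgn (Cfsg.quadFormPlus m (ZMod 2) v) = 2 ^ m := by
  let e : (Fin m → ZMod 2 × ZMod 2) ≃ (Fin m ⊕ Fin m → ZMod 2) :=
    (Equiv.arrowProdEquivProdArrow _ _ _).trans (Equiv.sumArrowEquivProdArrow _ _ _).symm
  rw [← e.sum_comp]
  have h : ∀ w, BinForms.sgn (Cfsg.quadFormPlus m (ZMod 2) (e w)) =
      ∏ i, BinForms.sgn ((w i).1 * (w i).2) := fun w => sgn_sum _ _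
  simp only [h]
  rw [← Fintype.prod_sum (fun (_ : Fin m) (p : ZMod 2 × ZMod 2) => BinForms.sgn (p.1 * p.2)),
    Finset.prod_const, Finset.card_univ, Fintype.card_fin,
    show ∑ p : ZMod 2 × ZMod 2, BinForms.sgn (p.1 * p.2) = 2 from by decide]

theorem sum_minus (m : ℕ) :
    ∑ v : (Fin m ⊕ Fin m) ⊕ Fin 2 → ZMod 2, BinForms.sgn (Cfsg.quadFormMinus m (ZMod 2) 1 1 v) =
      -(2 ^ (m + 1)) := by
  rw [← (Equiv.sumArrowEquivProdArrow _ _ _).symm.sum_comp, Fintype.sum_prod_type]
  have h : ∀ (x : Fin m ⊕ Fin m → ZMod 2) (z : Fin 2 → ZMod 2),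
      BinForms.sgn (Cfsg.quadFormMinus m (ZMod 2) 1 1 ((Equiv.sumArrowEquivProdArrow _ _ _).symm (x, z))) =
        BinForms.sgn (Cfsg.quadFormPlus m (ZMod 2) x) *
          BinForms.sgn (z 0 ^ 2 + 1 * z 0 * z 1 + 1 * z 1 ^ 2) := fun x z => BinForms.sgn_add _ _
  simp only [h, ← Finset.mul_sum, ← Finset.sum_mul]
  rw [sum_plus, show (∑ z : Fin 2 → ZMod 2, BinForms.sgn (z 0 ^ 2 + 1 * z 0 * z 1 + 1 * z 1 ^ 2)) = -2
    from by decide]
  ring

/-- The Gaussian sum of half the weights. -/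
theorem sum_qf [Fintype (LinearMap.ker (cut L))] : ∑ x : LinearMap.ker (cut L), BinForms.sgn (qf L x) = (-1) ^ (k + 1) * 2 ^ (2 * k + 1) := by
  classical
  let I : GaussianInt := ⟨0, 1⟩
  have hI : I ^ 2 = -1 := by decide
  -- sum over all vectors
  have h1 : ∑ y : Fin (2 * (2 * k + 2)) → ZMod 2, I ^ wt y = (-4) ^ (k + 1) := by
    have : ∀ y : Fin (2 * (2 * k + 2)) → ZMod 2, I ^ wt y = ∏ i, if y i = 1 then I else 1 := fun y => by
      rw [Finset.prod_ite, Finset.prod_const, Finset.prod_const_one, mul_one]; rfl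
    simp only [this]
    rw [← Fintype.prod_sum (fun (_ : Fin (2 * (2 * k + 2))) (a : ZMod 2) => if a = 1 then I else 1),
      Finset.prod_const, Finset.card_univ, Fintype.card_fin,
      show (∑ a : ZMod 2, if a = 1 then I else 1) = 1 + I from by decide,
      show 2 * (2 * k + 2) = 4 * (k + 1) by ring, pow_mul, show (1 + I) ^ 4 = -4 from by decide]
  have hre : ∀ y : Fin (2 * (2 * k + 2)) → ZMod 2, (I ^ wt y).re =
      if ∑ i, y i = 0 then BinForms.sgn (qw y) else 0 := by
    intro y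
    rcases Nat.even_or_odd (wt y) with ⟨j, hj⟩ | ⟨j, hj⟩
    · rw [if_pos (by rw [← cast_wt, ZMod.natCast_eq_zero_iff_even]; exact ⟨j, hj⟩), qw_eq, hj,
        show (j + j) / 2 = j by omega, ← two_mul, pow_mul, hI]
      rcases Nat.even_or_odd j with he | ho
      · rw [he.neg_one_pow, (ZMod.natCast_eq_zero_iff_even).2 he]; rfl
      · rw [ho.neg_one_pow, (ZMod.natCast_eq_one_iff_odd).2 ho]; rfl
    · rw [if_neg (by rw [← cast_wt, ZMod.natCast_eq_zero_iff_even, Nat.not_even_iff_odd]; exact ⟨j, hj⟩),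
        hj, pow_succ, pow_mul, hI]
      rcases Nat.even_or_odd j with he | ho
      · rw [he.neg_one_pow]; rfl
      · rw [ho.neg_one_pow]; rfl
  have h2 : ∑ y : Fin (2 * (2 * k + 2)) → ZMod 2, (if ∑ i, y i = 0 then BinForms.sgn (qw y) else 0) =
      (-4) ^ (k + 1) := by
    simp only [← hre]
    have hcast : ((-4 : GaussianInt) ^ (k + 1)) = (((-4 : ℤ) ^ (k + 1) : ℤ) : GaussianInt) := by push_cast; rfl
    have := congrArg Zsqrtd.re (h1.trans hcast)
    simp only [Zsqrtd.re_intCast] at this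
    rw [← this]
    exact (map_sum ({ toFun := Zsqrtd.re, map_zero' := rfl, map_add' := fun _ _ => rfl } :
      GaussianInt →+ ℤ) _ _).symm
  -- normalise at `L`
  let e : LinearMap.ker (cut L) × ZMod 2 ≃ {y : Fin (2 * (2 * k + 2)) → ZMod 2 // ∑ i, y i = 0} :=
    { toFun := fun p => ⟨fun i => p.1.1 i + p.2, by
        rw [Finset.sum_add_distrib, (mem_cut L p.1).1, Finset.sum_const, Finset.card_univ, Fintype.card_fin,
          nsmul_eq_mul, cast_two_mul, zero_mul, add_zero]⟩
      invFun := fun y => (⟨proj L y.1, by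
        simp only [LinearMap.mem_ker, cut, proj, LinearMap.coe_mk, AddHom.coe_mk, Prod.mk_eq_zero,
          Finset.sum_add_distrib, Finset.sum_const, Finset.card_univ, Fintype.card_fin, nsmul_eq_mul,
          cast_two_mul, zero_mul, add_zero]
        exact ⟨y.2, CharTwo.add_self_eq_zero _⟩⟩, y.1 L)
      left_inv := fun p => by
        refine Prod.ext (Subtype.ext (funext fun i => ?_)) ?_
        · show (p.1.1 i + p.2) + (p.1.1 L + p.2) = p.1.1 i
          rw [(mem_cut L p.1).2]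
          linear_combination (CharTwo.add_self_eq_zero p.2)
        · show p.1.1 L + p.2 = p.2
          rw [(mem_cut L p.1).2, zero_add]
      right_inv := fun y => Subtype.ext (funext fun i => by
        show (y.1 i + y.1 L) + y.1 L = y.1 i
        linear_combination (CharTwo.add_self_eq_zero (y.1 L))) }
  rw [← Finset.sum_filter, Finset.sum_subtype (p := fun y : Fin (2 * (2 * k + 2)) → ZMod 2 => ∑ i, y i = 0)
    _ (fun y => by simp), ← e.sum_comp, Fintype.sum_prod_type] at h2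
  have h3 : ∀ (x : LinearMap.ker (cut L)) (c : ZMod 2), BinForms.sgn (qw (e (x, c)).1) = BinForms.sgn (qf L x) :=
    fun x c => by rw [qf_apply, ← qw_const x.1 (mem_cut L x).1 c]; rfl
  simp only [h3, Finset.sum_const, Finset.card_univ, ZMod.card, nsmul_eq_mul, ← Finset.mul_sum] at h2
  have e4 : ((-4 : ℤ)) ^ (k + 1) = 2 * ((-1) ^ (k + 1) * 2 ^ (2 * k + 1)) := by
    rw [show (-4 : ℤ) = (-1) * 2 ^ 2 by norm_num, mul_pow, ← pow_mul]
    ring
  rw [e4] at h2
  exact mul_left_cancel₀ two_ne_zero h2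

/-- The embeddings. -/
theorem embeds (hk : 1 ≤ k) :
    (Odd k → ∃ φ : Equiv.Perm (Fin (2 * (2 * k + 2))) →*
      ↥(Cfsg.isometryGroup (ZMod 2) (Cfsg.quadFormPlus (2 * k + 1) (ZMod 2))), Function.Injective φ) ∧
    (Even k → ∃ φ : Equiv.Perm (Fin (2 * (2 * k + 2))) →*
      ↥(Cfsg.isometryGroup (ZMod 2) (Cfsg.quadFormMinus (2 * k) (ZMod 2) 1 1)), Function.Injective φ) := by
  classical
  let L : Fin (2 * (2 * k + 2)) := ⟨0, by omega⟩
  have hdim : Module.finrank (ZMod 2) (LinearMap.ker (cut L)) = 2 * (2 * k + 1) := by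
    rw [finrank_cut L (by omega)]; omega
  cases nonempty_fintype (LinearMap.ker (cut L))
  have hs := sum_qf L
  rcases WittBasis.even_basis (qf L) (qf_nondeg L) hdim with
    ⟨e, f, h, b, hb⟩ | ⟨e, f, a, c, h, ha, hc, hqa, hac, hni, b, hb⟩
  · have hQ : ∀ v, qf L (∑ i, v i • b i) = Cfsg.quadFormPlus (2 * k + 1) (ZMod 2) v := fun v => by
      rw [Fintype.sum_sum_type]
      simp only [hb, Sum.elim_inl, Sum.elim_inr]
      rw [← add_zero (∑ _, _ + ∑ _, _), WittBasis.q_hyp (qf L) h _ _ (Submodule.zero_mem _),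
        QuadraticMap.map_zero, add_zero]
      rfl
    refine ⟨fun _ => exists_hom L hk b _ hQ, fun hev => absurd hs ?_⟩
    rw [← b.equivFun.symm.toEquiv.sum_comp]
    simp only [LinearEquiv.coe_toEquiv, Module.Basis.equivFun_symm_apply, hQ, sum_plus,
      (Even.add_one hev).neg_one_pow]
    have := pow_pos (show (0 : ℤ) < 2 by norm_num) (2 * k + 1)
    omega
  · have hc1 : qf L c = 1 := (by decide : ∀ z : ZMod 2, z ≠ 0 → z = 1) _ (by simpa using hni 0)
    have hQ : ∀ v, qf L (∑ i, v i • b i) = Cfsg.quadFormMinus (2 * k) (ZMod 2) 1 1 v := fun v => by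
      rw [Fintype.sum_sum_type, Fintype.sum_sum_type, Fin.sum_univ_two]
      simp only [hb, Sum.elim_inl, Sum.elim_inr, Matrix.cons_val_zero, Matrix.cons_val_one]
      rw [WittBasis.q_hyp (qf L) h _ _ (add_mem (Submodule.smul_mem _ _ ha) (Submodule.smul_mem _ _ hc)),
        QuadraticMap.map_add (⇑(qf L)), QuadraticMap.map_smul, QuadraticMap.map_smul, hqa, hc1,
        QuadraticMap.polar_smul_left, QuadraticMap.polar_smul_right, hac]
      simp only [Cfsg.quadFormMinus, smul_eq_mul]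
      ring
    refine ⟨fun ho => absurd hs ?_, fun _ => exists_hom L hk b _ hQ⟩
    rw [← b.equivFun.symm.toEquiv.sum_comp]
    simp only [LinearEquiv.coe_toEquiv, Module.Basis.equivFun_symm_apply, hQ, sum_minus,
      (Odd.add_one ho).neg_one_pow, one_mul]
    have := pow_pos (show (0 : ℤ) < 2 by norm_num) (2 * k + 1)
    omega

end CfsgLib.Classical.SymmOrthGen
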