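import Cfsg.Agent.Lib.Classical.IsoProd

set_option autoImplicit false

/-!
`S_2n` embeds in `Sp_(2n-2)(2)`.
-/

namespace CfsgLib.Classical.SymmSymp

open IsoProd

abbrev Vec (n : ℕ) := Fin (2 * n) → ZMod 2

variable {n : ℕ} (L : Fin (2 * n))

/-- Normalise the value at `L` to zero. -/
def proj : Vec n →ₗ[ZMod 2] Vec n where
  toFun y := fun i => y i + y L
  map_add' a b := funext fun i => by simp only [Pi.add_apply]; abel
  map_smul' c a := funext fun i => by simp [mul_add]

/-- Sum and value at `L`. -/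
def cut : Vec n →ₗ[ZMod 2] ZMod 2 × ZMod 2 where
  toFun y := (∑ i, y i, y L)
  map_add' a b := by simp [Finset.sum_add_distrib]
  map_smul' c a := by simp [Finset.mul_sum]

/-- The permutation action. -/
def act (s : Equiv.Perm (Fin (2 * n))) : Vec n →ₗ[ZMod 2] Vec n :=
  (proj L) ∘ₗ LinearMap.funLeft (ZMod 2) (ZMod 2) s.symm

theorem cast_two_mul : ((2 * n : ℕ) : ZMod 2) = 0 := by
  rw [Nat.cast_mul, show ((2 : ℕ) : ZMod 2) = 0 from rfl, zero_mul]

theorem act_mem (s : Equiv.Perm (Fin (2 * n))) (x : Vec n) (hx : x ∈ LinearMap.ker (cut L)) :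
    act L s x ∈ LinearMap.ker (cut L) := by
  simp only [LinearMap.mem_ker, cut, LinearMap.coe_mk, AddHom.coe_mk, Prod.mk_eq_zero] at hx ⊢
  refine ⟨?_, ?_⟩
  · simp only [act, proj, LinearMap.comp_apply, LinearMap.coe_mk, AddHom.coe_mk, LinearMap.funLeft_apply,
      Finset.sum_add_distrib, Finset.sum_const, Finset.card_univ, Fintype.card_fin, nsmul_eq_mul,
      cast_two_mul, zero_mul, add_zero]
    rw [Equiv.sum_comp s.symm x]
    exact hx.1
  · exact CharTwo.add_self_eq_zero _

theorem act_mul (s t : Equiv.Perm (Fin (2 * n))) (x : Vec n) :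
    act L (s * t) x = act L s (act L t x) := by
  funext i
  simp only [act, proj, LinearMap.comp_apply, LinearMap.coe_mk, AddHom.coe_mk, LinearMap.funLeft_apply]
  have h2 : x (t.symm L) + x (t.symm L) = 0 := CharTwo.add_self_eq_zero _
  show x (t.symm (s.symm i)) + x (t.symm (s.symm L)) = _
  linear_combination -h2

theorem act_one (x : Vec n) (hx : x ∈ LinearMap.ker (cut L)) : act L 1 x = x := by
  simp only [LinearMap.mem_ker, cut, LinearMap.coe_mk, AddHom.coe_mk, Prod.mk_eq_zero] at hx
  funext i
  simp only [act, proj, LinearMap.comp_apply, LinearMap.coe_mk, AddHom.coe_mk, LinearMap.funLeft_apply]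
  show x i + x L = x i
  rw [hx.2, add_zero]

/-- The form. -/
noncomputable def form : LinearMap.BilinForm (ZMod 2) (LinearMap.ker (cut L)) :=
  LinearMap.mk₂ (ZMod 2) (fun x y => ∑ i, x.1 i * y.1 i)
    (fun a b y => by simp [add_mul, Finset.sum_add_distrib])
    (fun c a y => by simp [Finset.mul_sum, mul_assoc])
    (fun a b y => by simp [mul_add, Finset.sum_add_distrib])
    (fun c a y => by simp [Finset.mul_sum, mul_left_comm])

theorem form_apply (x y : LinearMap.ker (cut L)) : form L x y = ∑ i, x.1 i * y.1 i := rfl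

theorem pair_mem {a b : Fin (2 * n)} (ha : a ≠ L) (hb : b ≠ L) :
    (Pi.single a 1 + Pi.single b 1 : Vec n) ∈ LinearMap.ker (cut L) := by
  simp only [LinearMap.mem_ker, cut, LinearMap.coe_mk, AddHom.coe_mk, Prod.mk_eq_zero]
  refine ⟨?_, ?_⟩
  · simp [Finset.sum_add_distrib]
    rfl
  · simp [ha.symm, hb.symm]

/-- Only the identity fixes all the pairs. -/
theorem eq_one_of_act (hn : 3 ≤ n) (s : Equiv.Perm (Fin (2 * n)))
    (hs : ∀ x ∈ LinearMap.ker (cut L), act L s x = x) : s = 1 := by
  classical
  have hfix : ∀ a b, a ≠ L → b ≠ L → a ≠ b →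
      ∀ i, (Pi.single a 1 + Pi.single b 1 : Vec n) (s.symm i) +
        (Pi.single a 1 + Pi.single b 1 : Vec n) (s.symm L) =
        (Pi.single a 1 + Pi.single b 1 : Vec n) i := by
    intro a b ha hb _ i
    exact congrFun (hs _ (pair_mem L ha hb)) i
  obtain ⟨hn'⟩ : Nonempty (5 < 2 * n) := ⟨by omega⟩
  have key : ∀ a b, a ≠ L → b ≠ L → a ≠ b → (s a = a ∨ s a = b) ∧ (s b = a ∨ s b = b) := by
    intro a b ha hb hab
    obtain ⟨y, hy⟩ : ∃ y, y ∉ ({a, b, s a, s b} : Finset (Fin (2 * n))) := by
      obtain ⟨y, -, hy⟩ := Finset.exists_mem_notMem_of_card_lt_card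
        (t := (Finset.univ : Finset (Fin (2 * n)))) (s := {a, b, s a, s b}) (by
          have : ({a, b, s a, s b} : Finset (Fin (2 * n))).card ≤ 4 := Finset.card_le_four
          rw [Finset.card_univ, Fintype.card_fin]; omega)
      exact ⟨y, hy⟩
    simp only [Finset.mem_insert, Finset.mem_singleton, not_or] at hy
    have hy1 : s.symm y ≠ a := fun h => hy.2.2.1 (by rw [← h, s.apply_symm_apply])
    have hy2 : s.symm y ≠ b := fun h => hy.2.2.2 (by rw [← h, s.apply_symm_apply])
    have h0 : (Pi.single a 1 + Pi.single b 1 : Vec n) (s.symm L) = 0 := by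
      have h := hfix a b ha hb hab y
      rw [Pi.add_apply, Pi.add_apply, Pi.add_apply, Pi.single_eq_of_ne hy1, Pi.single_eq_of_ne hy2,
        Pi.single_eq_of_ne hy.1, Pi.single_eq_of_ne hy.2.1, zero_add, zero_add] at h
      exact h
    constructor <;> by_contra hcon <;> push Not at hcon
    · have h := hfix a b ha hb hab (s a)
      rw [h0, add_zero, s.symm_apply_apply, Pi.add_apply, Pi.add_apply, Pi.single_eq_same,
        Pi.single_eq_of_ne hab, Pi.single_eq_of_ne hcon.1, Pi.single_eq_of_ne hcon.2, add_zero, add_zero] at h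
      exact one_ne_zero h
    · have h := hfix a b ha hb hab (s b)
      rw [h0, add_zero, s.symm_apply_apply, Pi.add_apply, Pi.add_apply, Pi.single_eq_same,
        Pi.single_eq_of_ne hab.symm, Pi.single_eq_of_ne hcon.1, Pi.single_eq_of_ne hcon.2, add_zero, zero_add] at h
      exact one_ne_zero h
  have hpt : ∀ a, a ≠ L → s a = a := by
    intro a ha
    obtain ⟨b, -, hb⟩ := Finset.exists_mem_notMem_of_card_lt_card
      (t := (Finset.univ : Finset (Fin (2 * n)))) (s := {L, a}) (by
        rw [Finset.card_univ, Fintype.card_fin]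
        exact lt_of_le_of_lt Finset.card_le_two (by omega))
    simp only [Finset.mem_insert, Finset.mem_singleton, not_or] at hb
    obtain ⟨c, -, hc⟩ := Finset.exists_mem_notMem_of_card_lt_card
      (t := (Finset.univ : Finset (Fin (2 * n)))) (s := {L, a, b}) (by
        rw [Finset.card_univ, Fintype.card_fin]
        exact lt_of_le_of_lt Finset.card_le_three (by omega))
    simp only [Finset.mem_insert, Finset.mem_singleton, not_or] at hc
    rcases (key a b ha hb.1 (Ne.symm hb.2)).1 with h | h
    · exact h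
    · rcases (key a c ha hc.1 (Ne.symm hc.2.1)).1 with h' | h'
      · exact h'
      · exact absurd (h'.symm.trans h) hc.2.2
  refine Equiv.ext fun a => ?_
  rcases eq_or_ne a L with rfl | ha
  · by_contra hne
    exact hne (s.injective (hpt _ hne))
  · exact hpt a ha


/-- The form is nondegenerate. -/
theorem form_sep (hn : 1 ≤ n) (v : LinearMap.ker (cut L)) (h : ∀ w, form L v w = 0) : v = 0 := by
  classical
  have hcut : ∀ x : LinearMap.ker (cut L), ∑ i, x.1 i = 0 ∧ x.1 L = 0 := fun x => by
    simpa [cut] using x.2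
  have hpair : ∀ a b, a ≠ L → b ≠ L → v.1 a = v.1 b := fun a b ha hb => by
    have := h ⟨_, pair_mem L ha hb⟩
    simp [form_apply, mul_add, Finset.sum_add_distrib, Pi.single_apply] at this
    exact CharTwo.add_eq_zero.1 this
  have : Nontrivial (Fin (2 * n)) := Fin.nontrivial_iff_two_le.2 (by omega)
  obtain ⟨A, hAL⟩ := exists_ne L
  have hsum := (hcut v).1
  rw [← Finset.add_sum_erase _ _ (Finset.mem_univ L), (hcut v).2, zero_add,
    Finset.sum_congr rfl (fun i hi => hpair i A (Finset.ne_of_mem_erase hi) hAL),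
    Finset.sum_const, Finset.card_erase_of_mem (Finset.mem_univ L), Finset.card_univ, Fintype.card_fin,
    nsmul_eq_mul] at hsum
  have h1 : ((2 * n - 1 : ℕ) : ZMod 2) = 1 := by
    rw [Nat.cast_sub (by omega), cast_two_mul, Nat.cast_one]
    rfl
  rw [h1, one_mul] at hsum
  refine Subtype.ext (funext fun i => ?_)
  rcases eq_or_ne i L with rfl | hi
  · exact (hcut v).2
  · rw [hpair i A hi hAL, hsum]; rfl

theorem finrank_cut (hn : 1 ≤ n) :
    Module.finrank (ZMod 2) (LinearMap.ker (cut L)) = 2 * (n - 1) := by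
  classical
  have h := (cut L).finrank_range_add_finrank_ker
  have : Nontrivial (Fin (2 * n)) := Fin.nontrivial_iff_two_le.2 (by omega)
  obtain ⟨A, hA⟩ := exists_ne L
  have hr : LinearMap.range (cut L) = ⊤ := by
    rw [LinearMap.range_eq_top]
    rintro ⟨a, b⟩
    refine ⟨Pi.single L b + Pi.single A (a + b), ?_⟩
    simp [cut, hA.symm, Finset.sum_add_distrib, Pi.single_apply]
    linear_combination (CharTwo.add_self_eq_zero b)
  rw [hr, finrank_top, Module.finrank_prod, Module.finrank_self, Module.finrank_fin_fun] at h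
  omega

theorem embeds (hn : 3 ≤ n) :
    ∃ f : Equiv.Perm (Fin (2 * n)) →* Matrix.symplecticGroup (Fin (n - 1)) (ZMod 2),
      Function.Injective f := by
  classical
  let L : Fin (2 * n) := ⟨0, by omega⟩
  let U := LinearMap.ker (cut L)
  have hcut : ∀ x : U, ∑ i, x.1 i = 0 ∧ x.1 L = 0 := fun x => by
    simpa [U, cut] using x.2
  have hA : (form L).IsAlt := fun x => by
    rw [form_apply]
    rw [← (hcut x).1]
    exact Finset.sum_congr rfl fun i _ => by
      have : ∀ a : ZMod 2, a * a = a := by decide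
      exact this _
  have hB : ∀ v, (∀ w, form L v w = 0) → v = 0 := form_sep L (by omega)
  have hdim : Module.finrank (ZMod 2) U = 2 * (n - 1) := finrank_cut L (by omega)
  obtain ⟨E⟩ := sp_part (form L) hA hB (n - 1) hdim
  let g : Equiv.Perm (Fin (2 * n)) → (U ≃ₗ[ZMod 2] U) := fun s =>
    LinearEquiv.ofLinear ((act L s).restrict (act_mem L s)) ((act L s.symm).restrict (act_mem L s.symm))
      (LinearMap.ext fun x => Subtype.ext (by
        show act L s (act L s.symm x.1) = x.1
        rw [← act_mul, show s * s.symm = 1 from Equiv.ext fun i => s.apply_symm_apply i, act_one L _ x.2]))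
      (LinearMap.ext fun x => Subtype.ext (by
        show act L s.symm (act L s x.1) = x.1
        rw [← act_mul, show s.symm * s = 1 from Equiv.ext fun i => s.symm_apply_apply i, act_one L _ x.2]))
  have hgv : ∀ s (x : U), (g s x).1 = act L s x.1 := fun s x => rfl
  have hg : ∀ s, g s ∈ Iso (fun a b : U => form L a b) := by
    intro s u v
    simp only [form_apply, hgv]
    simp only [act, proj, LinearMap.comp_apply, LinearMap.coe_mk, AddHom.coe_mk, LinearMap.funLeft_apply,
      add_mul, mul_add, Finset.sum_add_distrib, ← Finset.mul_sum, ← Finset.sum_mul, Finset.sum_const,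
      Finset.card_univ, Fintype.card_fin, nsmul_eq_mul, cast_two_mul, zero_mul, add_zero]
    rw [Equiv.sum_comp s.symm u.1, Equiv.sum_comp s.symm v.1, (hcut u).1, (hcut v).1,
      Equiv.sum_comp s.symm (fun i => u.1 i * v.1 i)]
    simp
  let ρ : Equiv.Perm (Fin (2 * n)) →* Iso (fun a b : U => form L a b) :=
    MonoidHom.mk' (fun s => ⟨g s, hg s⟩) fun s t => Subtype.ext (LinearEquiv.ext fun x => Subtype.ext
      (act_mul L s t x.1))
  refine ⟨E.toMonoidHom.comp ρ, E.injective.comp ((injective_iff_map_eq_one ρ).2 fun s hs => ?_)⟩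
  refine eq_one_of_act L hn s fun x hx => ?_
  exact congrArg (fun f : Iso (fun a b : U => form L a b) => (f.1 ⟨x, hx⟩).1) hs

end CfsgLib.Classical.SymmSymp
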