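import Mathlib

set_option autoImplicit false
set_option linter.unusedSectionVars false

/-!
Overgroups of the symplectic group over a field extension of prime degree.

`K` is an extension of `F` acting on `V` by self-adjoint maps of an alternating form `B`.
A group containing the transvections over `K` either permutes the lines over `K` or contains all
transvections over `F`: one lowers the rank of the pairing of two images of lines down to one and
reads a transvection off the commutator of their root groups.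
-/

namespace CfsgLib.SympExt

open Module

variable {F K V : Type*} [Field F] [Field K] [Algebra F K] [AddCommGroup V] [Module F V]
  [Module K V] [IsScalarTower F K V]

variable {B : V →ₗ[F] V →ₗ[F] F} {R : (K →ₗ[F] F) →ₗ[F] K} {t : K →ₗ[F] F}

/-- An extension of prime degree acting by self-adjoint maps. -/
structure Setup (B : V →ₗ[F] V →ₗ[F] F) (t : K →ₗ[F] F) (R : (K →ₗ[F] F) →ₗ[F] K) : Prop where
  alt : ∀ x, B x x = 0
  nd : ∀ x, (∀ y, B x y = 0) → x = 0
  self : ∀ (k : K) x y, B (k • x) y = B x (k • y)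
  alt_k : ∀ (k : K) x, B (k • x) x = 0
  rep : ∀ (ℓ : K →ₗ[F] F) (μ : K), t (μ * R ℓ) = ℓ μ
  t_ne : t ≠ 0

/-- The line of `a` over `K`, parametrised. -/
def line (a : V) : K →ₗ[F] V := (LinearMap.toSpanSingleton K V a).restrictScalars F

theorem line_apply (a : V) (μ : K) : line (F := F) a μ = μ • a := rfl

/-- The coordinate dual to a parametrised subspace. -/
def zeta (B : V →ₗ[F] V →ₗ[F] F) (R : (K →ₗ[F] F) →ₗ[F] K) (φ : K →ₗ[F] V) : V →ₗ[F] K :=
  R.comp (B.compl₂ φ)

/-- The root element of a parametrised subspace. -/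
def op (B : V →ₗ[F] V →ₗ[F] F) (R : (K →ₗ[F] F) →ₗ[F] K) (φ : K →ₗ[F] V) (lam : K) :
    V →ₗ[F] V :=
  φ.comp ((LinearMap.mulLeft F lam).comp (zeta B R φ))

theorem op_apply (φ : K →ₗ[F] V) (lam : K) (x : V) :
    op B R φ lam x = φ (lam * zeta B R φ x) := rfl

/-- The nilpotent part of a transvection. -/
def tt (B : V →ₗ[F] V →ₗ[F] F) (c : F) (v : V) : V →ₗ[F] V := c • (B.flip v).smulRight v

theorem tt_apply (c : F) (v x : V) : tt B c v x = c • B x v • v := rfl

/-- The symmetrised product of two vectors. -/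
def sy (B : V →ₗ[F] V →ₗ[F] F) (a b : V) : V →ₗ[F] V :=
  (B.flip a).smulRight b + (B.flip b).smulRight a

theorem sy_apply (a b x : V) : sy B a b x = B x a • b + B x b • a := rfl

/-- `1 + N` lies in `M`. -/
def InM (M : Subgroup (V ≃ₗ[F] V)) (N : V →ₗ[F] V) : Prop := ∃ g ∈ M, ∀ x, g x = x + N x

variable {M : Subgroup (V ≃ₗ[F] V)}

theorem InM.congr {N N' : V →ₗ[F] V} (h : InM M N) (e : ∀ x, N x = N' x) : InM M N' := by
  obtain ⟨g, hg, hx⟩ := h
  exact ⟨g, hg, fun x => by rw [hx, e]⟩

theorem inM_zero : InM M (0 : V →ₗ[F] V) := ⟨1, M.one_mem, fun x => by simp⟩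

theorem InM.add {N N' : V →ₗ[F] V} (h : InM M N) (h' : InM M N') (h0 : ∀ x, N (N' x) = 0) :
    InM M (N + N') := by
  obtain ⟨g, hg, hx⟩ := h
  obtain ⟨g', hg', hx'⟩ := h'
  refine ⟨g * g', M.mul_mem hg hg', fun x => ?_⟩
  rw [LinearEquiv.mul_apply, hx, hx', map_add, h0, LinearMap.add_apply]
  abel

theorem InM.mul {N N' : V →ₗ[F] V} (h : InM M N) (h' : InM M N') :
    InM M (N + N' + N.comp N') := by
  obtain ⟨g, hg, hx⟩ := h
  obtain ⟨g', hg', hx'⟩ := h'
  refine ⟨g * g', M.mul_mem hg hg', fun x => ?_⟩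
  rw [LinearEquiv.mul_apply, hx, hx', map_add, LinearMap.add_apply, LinearMap.add_apply,
    LinearMap.comp_apply]
  abel

theorem InM.conj {N : V →ₗ[F] V} (h : InM M N) {g : V ≃ₗ[F] V} (hg : g ∈ M) :
    InM M (g.toLinearMap ∘ₗ N ∘ₗ g.symm.toLinearMap) := by
  obtain ⟨s, hs, hx⟩ := h
  refine ⟨g * s * g⁻¹, M.mul_mem (M.mul_mem hg hs) (M.inv_mem hg), fun x => ?_⟩
  rw [LinearEquiv.mul_apply, LinearEquiv.mul_apply, show g⁻¹ x = g.symm x from rfl, hx, map_add,
    g.apply_symm_apply]
  rfl

/-- A parametrised image of a line over `K` under an element of `M`. -/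
def Im (M : Subgroup (V ≃ₗ[F] V)) (φ : K →ₗ[F] V) : Prop :=
  ∃ g ∈ M, ∃ a : V, a ≠ 0 ∧ ∀ μ : K, φ μ = g (μ • a)

theorem Im.comp {φ : K →ₗ[F] V} (h : Im M φ) {g : V ≃ₗ[F] V} (hg : g ∈ M) :
    Im M (g.toLinearMap ∘ₗ φ) := by
  obtain ⟨g0, hg0, a, ha, e⟩ := h
  exact ⟨g * g0, M.mul_mem hg hg0, a, ha, fun μ => by
    rw [LinearMap.comp_apply, e]; rfl⟩

theorem im_line {a : V} (ha : a ≠ 0) : Im M (line (F := F) (K := K) a) :=
  ⟨1, M.one_mem, a, ha, fun _ => rfl⟩

variable (hS : Setup B t R)
include hS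

theorem antisymm (x y : V) : B y x = -B x y := by
  have h := hS.alt (x + y)
  simp only [map_add, LinearMap.add_apply, hS.alt, zero_add, add_zero] at h
  linear_combination h

theorem t_ext {z w : K} (h : ∀ μ : K, t (μ * z) = t (μ * w)) : z = w := by
  by_contra hne
  refine hS.t_ne (LinearMap.ext fun k => ?_)
  have := h (k * (z - w)⁻¹)
  have e : k * (z - w)⁻¹ * z - k * (z - w)⁻¹ * w = k := by
    rw [← mul_sub, inv_mul_cancel_right₀ (sub_ne_zero.2 hne)]
  rw [← e, map_sub, this, sub_self, LinearMap.zero_apply]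

theorem zeta_spec (φ : K →ₗ[F] V) (x : V) (μ : K) : t (μ * zeta B R φ x) = B x (φ μ) :=
  hS.rep _ μ

theorem zeta_eq {φ : K →ₗ[F] V} {x : V} {z : K} (h : ∀ μ : K, t (μ * z) = B x (φ μ)) :
    zeta B R φ x = z :=
  t_ext hS fun μ => by rw [zeta_spec hS, h]

theorem zeta_line_smul (a : V) (k : K) (x : V) :
    zeta B R (line a) (k • x) = k * zeta B R (line a) x :=
  zeta_eq hS fun μ => by
    rw [← mul_assoc, zeta_spec hS, line_apply, line_apply, hS.self, smul_smul, mul_comm k μ]

theorem b_line (a : V) (μ ν : K) : B (μ • a) (ν • a) = 0 := by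
  rw [← hS.self, smul_smul]
  exact hS.alt_k _ a

theorem zeta_line_self (a : V) (μ : K) : zeta B R (line a) (μ • a) = 0 :=
  zeta_eq hS fun ν => by rw [mul_zero, map_zero, line_apply, b_line hS]

/-- A transvection over `K` is an isometry. -/
theorem op_line_iso (a : V) (lam : K) (x y : V) :
    B (x + op B R (line a) lam x) (y + op B R (line a) lam y) = B x y := by
  simp only [op_apply, map_add, LinearMap.add_apply, line_apply, b_line hS, add_zero]
  rw [antisymm hS y ((lam * zeta B R (line a) x) • a), ← line_apply (F := F) a,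
    ← line_apply (F := F) a, ← zeta_spec hS, ← zeta_spec hS,
    mul_right_comm lam _ (zeta B R (line a) x)]
  ring

theorem op_line_sq (a : V) (lam : K) (x : V) :
    op B R (line a) lam (op B R (line a) lam x) = 0 := by
  rw [op_apply, op_apply, line_apply, line_apply, zeta_line_self hS, mul_zero, zero_smul]

theorem op_line_smul (a : V) (lam k : K) (x : V) :
    op B R (line a) lam (k • x) = k • op B R (line a) lam x := by
  rw [op_apply, op_apply, zeta_line_smul hS, line_apply, line_apply, smul_smul, mul_left_comm]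

/-- A transvection over `K` as a linear equivalence. -/
noncomputable def tvK (a : V) (lam : K) : V ≃ₗ[F] V :=
  LinearEquiv.ofLinearMap (LinearMap.id + op B R (line a) lam)
    (LinearMap.id - op B R (line a) lam)
    (LinearMap.ext fun x => by simp [op_line_sq hS a lam, map_sub])
    (LinearMap.ext fun x => by simp [op_line_sq hS a lam, map_add])

theorem tvK_apply (a : V) (lam : K) (x : V) :
    tvK hS a lam x = x + op B R (line a) lam x := rfl

omit hS in
/-- The hypotheses on the overgroup. -/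
structure Over (B : V →ₗ[F] V →ₗ[F] F) (R : (K →ₗ[F] F) →ₗ[F] K) (M : Subgroup (V ≃ₗ[F] V)) :
    Prop where
  iso : ∀ g ∈ M, ∀ x y, B (g x) (g y) = B x y
  base : ∀ (a : V) (lam : K), InM M (op B R (line a) lam)

variable (hM : Over B R M)
include hM

theorem Im.iso {φ : K →ₗ[F] V} (h : Im M φ) (μ ν : K) : B (φ μ) (φ ν) = 0 := by
  obtain ⟨g, hg, a, -, e⟩ := h
  rw [e, e, hM.iso g hg, b_line hS]

theorem Im.inM {φ : K →ₗ[F] V} (h : Im M φ) (lam : K) : InM M (op B R φ lam) := by
  obtain ⟨g, hg, a, -, e⟩ := h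
  refine ((hM.base a lam).conj hg).congr fun x => ?_
  rw [LinearMap.comp_apply, LinearMap.comp_apply]
  show g (op B R (line a) lam (g.symm x)) = _
  rw [op_apply, op_apply, e, line_apply]
  have : zeta B R φ x = zeta B R (line a) (g.symm x) := zeta_eq hS fun μ => by
    rw [zeta_spec hS, e, line_apply, ← hM.iso g hg (g.symm x) (μ • a), g.apply_symm_apply]
  rw [this]

theorem sy_conj {g : V ≃ₗ[F] V} (hg : g ∈ M) (a b x : V) :
    g (sy B a b (g.symm x)) = sy B (g a) (g b) x := by
  rw [sy_apply, sy_apply, map_add, map_smul, map_smul, ← hM.iso g hg (g.symm x) a,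
    ← hM.iso g hg (g.symm x) b, g.apply_symm_apply]

theorem tt_conj {g : V ≃ₗ[F] V} (hg : g ∈ M) (c : F) (v x : V) :
    g (tt B c v (g.symm x)) = tt B c (g v) x := by
  rw [tt_apply, tt_apply, map_smul, map_smul, ← hM.iso g hg (g.symm x) v, g.apply_symm_apply]

theorem exists_linear_step {v w : V} (h : B v w ≠ 0) :
    ∃ g ∈ M, (∀ (k : K) x, g (k • x) = k • g x) ∧ g v = w := by
  have hz : zeta B R (line (w - v)) v ≠ 0 := by
    intro e
    have h1 := zeta_spec hS (line (w - v)) v 1
    rw [e, mul_zero, map_zero, line_apply, one_smul, map_sub, hS.alt, sub_zero] at h1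
    exact h h1.symm
  obtain ⟨g, hg, hx⟩ := hM.base (w - v) (zeta B R (line (w - v)) v)⁻¹
  refine ⟨g, hg, fun k x => ?_, ?_⟩
  · rw [hx, hx, op_line_smul hS, smul_add]
  · rw [hx, op_apply, inv_mul_cancel₀ hz, line_apply, one_smul, add_sub_cancel]

/-- The transvections over `K` are transitive on non-zero vectors. -/
theorem exists_linear {v w : V} (hv : v ≠ 0) (hw : w ≠ 0) :
    ∃ g ∈ M, (∀ (k : K) x, g (k • x) = k • g x) ∧ g v = w := by
  obtain ⟨u, h1, h2⟩ : ∃ u, B v u ≠ 0 ∧ B u w ≠ 0 := by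
    have hne : ∀ x : V, x ≠ 0 → ∃ y, B x y ≠ 0 := fun x hx => by
      by_contra hc
      push Not at hc
      exact hx (hS.nd x hc)
    obtain ⟨y, hy⟩ := hne v hv
    obtain ⟨y', hy'⟩ := hne w hw
    by_cases h : B w y = 0
    · by_cases h' : B v y' = 0
      · refine ⟨y + y', by rw [map_add, h', add_zero]; exact hy, ?_⟩
        rw [antisymm hS, map_add, h, zero_add]
        exact neg_ne_zero.2 hy'
      · exact ⟨y', h', by rw [antisymm hS]; exact neg_ne_zero.2 hy'⟩
    · exact ⟨y, hy, by rw [antisymm hS]; exact neg_ne_zero.2 h⟩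
  obtain ⟨g, hg, hl, e⟩ := exists_linear_step hS hM h1
  obtain ⟨g', hg', hl', e'⟩ := exists_linear_step hS hM h2
  refine ⟨g' * g, M.mul_mem hg' hg, fun k x => ?_, ?_⟩
  · rw [LinearEquiv.mul_apply, LinearEquiv.mul_apply, hl, hl']
  · rw [LinearEquiv.mul_apply, e, e']

omit hM in
/-- A vector orthogonal to one line over `K` and not to a vector outside it. -/
theorem exists_perp_line {p q : V} (hp : p ≠ 0) (hq : ∀ k : K, q ≠ k • p) :
    ∃ c, zeta B R (line p) c = 0 ∧ B c q ≠ 0 := by
  by_contra hc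
  push Not at hc
  obtain ⟨y, hy⟩ : ∃ y, zeta B R (line p) y ≠ 0 := by
    by_contra h
    push Not at h
    refine hp (hS.nd p fun y => ?_)
    have h1 := zeta_spec hS (line p) y 1
    rw [h y, mul_zero, map_zero, line_apply, one_smul] at h1
    rw [antisymm hS, ← h1, neg_zero]
  set x0 := (zeta B R (line p) y)⁻¹ • y with hx0
  have h0 : zeta B R (line p) x0 = 1 := by rw [hx0, zeta_line_smul hS, inv_mul_cancel₀ hy]
  set k0 := R ((B.flip q).comp (line x0)) with hk0
  refine hq k0 (sub_eq_zero.1 (hS.nd _ fun x => ?_))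
  have h1 := hc (x - zeta B R (line p) x • x0) (by
    rw [map_sub, zeta_line_smul hS, h0, mul_one, sub_self])
  rw [map_sub, LinearMap.sub_apply, sub_eq_zero] at h1
  have h2 : B (zeta B R (line p) x • x0) q = t (zeta B R (line p) x * k0) := by
    rw [hk0, hS.rep]; rfl
  rw [mul_comm, zeta_spec hS, line_apply] at h2
  rw [antisymm hS, map_sub, h1, h2, sub_self, neg_zero]

omit hM in
/-- The pairing of two parametrised images. -/
theorem pair_spec (φ ψ : K →ₗ[F] V) (μ ν : K) :
    t (ν * (zeta B R φ ∘ₗ ψ) μ) = B (ψ μ) (φ ν) := zeta_spec hS φ (ψ μ) ν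

/-- The rank of a pairing can be lowered to one. -/
theorem exists_rank_one [FiniteDimensional F K] (hr : (finrank F K).Prime)
    {φ ψ : K →ₗ[F] V} (hφ : Im M φ) (hψ : Im M ψ) (h0 : zeta B R φ ∘ₗ ψ ≠ 0)
    (hlt : finrank F (LinearMap.range (zeta B R φ ∘ₗ ψ)) < finrank F K) :
    ∃ φ ψ : K →ₗ[F] V, Im M φ ∧ Im M ψ ∧
      finrank F (LinearMap.range (zeta B R φ ∘ₗ ψ)) = 1 := by
  induction he : finrank F (LinearMap.range (zeta B R φ ∘ₗ ψ)) using Nat.strong_induction_on
    generalizing φ ψ with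
  | h e ih => ?_
  set P := zeta B R φ ∘ₗ ψ with hP
  have hbot : LinearMap.range P ≠ ⊥ := fun e => h0 (LinearMap.range_eq_bot.1 e)
  have hpos : 0 < e := by
    rw [← he]; exact Submodule.one_le_finrank_iff.2 hbot
  by_cases h1 : e = 1
  · exact ⟨φ, ψ, hφ, hψ, he.trans h1⟩
  obtain ⟨z0, hz0, hz00⟩ := Submodule.exists_mem_ne_zero_of_ne_bot hbot
  set L := (LinearMap.range P).map (LinearMap.mulLeft F z0) with hL
  by_cases hcl : ∀ z ∈ LinearMap.range P, ∀ z' ∈ LinearMap.range P, z * z' ∈ L
  · exfalso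
    set W := (LinearMap.range P).comap (LinearMap.mulLeft F z0) with hW
    have h1W : (1 : K) ∈ W := by simpa [hW] using hz0
    have hmul : ∀ a b, a ∈ W → b ∈ W → a * b ∈ W := by
      intro a b ha hb
      obtain ⟨w, hw, e1⟩ := hcl _ ha _ hb
      have : w = z0 * (a * b) := mul_left_cancel₀ hz00 (by
        simp only [LinearMap.mulLeft_apply] at e1
        rw [e1]; ring)
      show z0 * (a * b) ∈ LinearMap.range P
      exact this ▸ hw
    have hdim : finrank F W = finrank F (LinearMap.range P) := by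
      have e1 := (Submodule.equivMapOfInjective (LinearMap.mulLeft F z0) (mul_right_injective₀ hz00) W).finrank_eq
      rw [e1, hW, Submodule.map_comap_eq_of_surjective]
      intro k
      exact ⟨z0⁻¹ * k, by rw [LinearMap.mulLeft_apply, mul_inv_cancel_left₀ hz00]⟩
    have hfd : finrank F (W.toSubalgebra h1W hmul) = finrank F W := rfl
    haveI := Subalgebra.isSimpleOrder_of_finrank_prime F K hr
    rcases eq_bot_or_eq_top (W.toSubalgebra h1W hmul) with h | h <;> rw [h] at hfd
    · rw [Subalgebra.finrank_bot] at hfd; omega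
    · have : finrank F (⊤ : Subalgebra F K) = finrank F K :=
        (Subalgebra.topEquiv (R := F) (A := K)).toLinearEquiv.finrank_eq
      omega
  push Not at hcl
  obtain ⟨z1, hz1, z2, hz2, hzn⟩ := hcl
  obtain ⟨ℓ, hℓ, hker⟩ := Submodule.exists_le_ker_of_notMem hzn
  set lam := R ℓ with hlam
  obtain ⟨g, hg, hgx⟩ := Im.inM hS hM hφ lam
  have hψ' := hψ.comp hg
  set ψ' := g.toLinearMap ∘ₗ ψ with hψ'd
  have hQ : ∀ μ ν, t (ν * (zeta B R ψ ∘ₗ ψ') μ) = -t (lam * (P μ * P ν)) := by
    intro μ ν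
    rw [pair_spec hS, hψ'd, LinearMap.comp_apply]
    show B (g (ψ μ)) (ψ ν) = _
    rw [hgx, map_add, LinearMap.add_apply, Im.iso hS hM hψ, zero_add, op_apply, antisymm hS,
      ← zeta_spec hS, mul_assoc]
    rfl
  have hQ0 : zeta B R ψ ∘ₗ ψ' ≠ 0 := by
    intro e0
    obtain ⟨μ, rfl⟩ := hz1
    obtain ⟨ν, rfl⟩ := hz2
    have h2 := hQ μ ν
    rw [e0, LinearMap.zero_apply, mul_zero, map_zero, hlam, mul_comm, hS.rep] at h2
    exact hℓ (neg_eq_zero.1 h2.symm)
  obtain ⟨μ0, hμ0⟩ := hz0
  have hker' : LinearMap.ker P < LinearMap.ker (zeta B R ψ ∘ₗ ψ') := by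
    refine lt_of_le_of_ne (fun μ hμ => ?_) fun e1 => ?_
    · rw [LinearMap.mem_ker] at hμ ⊢
      refine t_ext hS fun ν => ?_
      rw [hQ, hμ, zero_mul, mul_zero, map_zero, neg_zero, mul_zero, map_zero]
    · have h2 : μ0 ∈ LinearMap.ker (zeta B R ψ ∘ₗ ψ') := by
        rw [LinearMap.mem_ker]
        refine t_ext hS fun ν => ?_
        rw [hQ, mul_zero, map_zero, hμ0, hlam, mul_comm, hS.rep, neg_eq_zero]
        exact hker ⟨P ν, LinearMap.mem_range_self _ _, rfl⟩
      rw [← e1, LinearMap.mem_ker, hμ0] at h2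
      exact hz00 h2
  have hlt' : finrank F (LinearMap.range (zeta B R ψ ∘ₗ ψ')) < e := by
    have a1 := LinearMap.finrank_range_add_finrank_ker P
    have a2 := LinearMap.finrank_range_add_finrank_ker (zeta B R ψ ∘ₗ ψ')
    have a3 := Submodule.finrank_lt_finrank_of_lt hker'
    omega
  exact ih _ hlt' hψ hψ' hQ0 (by omega) rfl

/-- The commutator of two root groups with a pairing of rank one. -/
theorem rank_one_commutator {φ ψ : K →ₗ[F] V} (hφ : Im M φ) (hψ : Im M ψ) {z0 : K} (hz0 : z0 ≠ 0)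
    {p : K →ₗ[F] F} (hp : ∀ μ, zeta B R φ (ψ μ) = p μ • z0) (hp0 : p ≠ 0) {ν : K}
    (hν : t (ν * z0) = 0) :
    (∀ μ, B (ψ μ) (φ ν) = 0) ∧ ∀ η : K, InM M (sy B (φ ν) (ψ η) + tt B (p η) (φ ν)) := by
  set a := φ ν with ha
  have hψa : ∀ μ, B (ψ μ) a = 0 := fun μ => by
    rw [ha, ← zeta_spec hS, hp, mul_smul_comm, map_smul, hν, smul_zero]
  refine ⟨hψa, fun η => ?_⟩
  set π := R p with hπ
  have hπ0 : π ≠ 0 := fun e => hp0 (LinearMap.ext fun μ => by
    rw [← hS.rep p μ, ← hπ, e, mul_zero, map_zero, LinearMap.zero_apply])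
  obtain ⟨g, hg, hgx⟩ := Im.inM hS hM hφ (ν * z0⁻¹)
  set ψ' := g.toLinearMap ∘ₗ ψ with hψ'd
  have hψ' : ∀ μ, ψ' μ = ψ μ + p μ • a := fun μ => by
    rw [hψ'd, LinearMap.comp_apply]
    show g (ψ μ) = _
    rw [hgx, op_apply, hp, mul_smul_comm, inv_mul_cancel_right₀ hz0, map_smul]
  have hz : ∀ x, zeta B R ψ' x = zeta B R ψ x + B x a • π := fun x => zeta_eq hS fun μ => by
    rw [mul_add, map_add, zeta_spec hS, mul_smul_comm, map_smul, hπ, hS.rep, hψ', map_add,
      map_smul, smul_eq_mul, smul_eq_mul, mul_comm (p μ)]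
  have hκ : η * π⁻¹ * π = η := inv_mul_cancel_right₀ hπ0 η
  refine ((Im.inM hS hM (hψ.comp hg) (η * π⁻¹)).add (Im.inM hS hM hψ (-(η * π⁻¹)))
    fun x => ?_).congr fun x => ?_
  · have h0 : zeta B R ψ' (ψ (-(η * π⁻¹) * zeta B R ψ x)) = 0 := by
      rw [hz, hψa, zero_smul, add_zero]
      exact zeta_eq hS fun μ => by rw [mul_zero, map_zero, Im.iso hS hM hψ]
    rw [op_apply ψ, op_apply, ← hψ'd, h0, mul_zero, map_zero]
  · rw [LinearMap.add_apply, LinearMap.add_apply, op_apply, op_apply, ← hψ'd, hψ', hz, mul_add,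
      mul_smul_comm, hκ, map_add, map_smul, neg_mul, map_neg, sy_apply, tt_apply, map_add p,
      map_smul p]
    have e : p (η * π⁻¹ * zeta B R ψ x) = B x (ψ η) := by
      rw [← hS.rep p, ← hπ, mul_right_comm (η * π⁻¹), hκ, zeta_spec hS]
    rw [e, smul_eq_mul]
    module

theorem sy_smul_left (c : F) (a b x : V) : sy B (c • a) b x = c • sy B a b x := by
  rw [sy_apply, sy_apply, map_smul]
  simp only [smul_eq_mul]
  module

/-- In odd characteristic a pairing of rank one gives a transvection. -/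
theorem transvection_of_odd (h2 : (2 : F) ≠ 0) {a u : V} (hau : B u a = 0)
    (hD : ∀ s : F, InM M (sy B a (s • u) + tt B s a) ∧ InM M (sy B (-a) (s • u) + tt B s (-a))) :
    ∀ c : F, InM M (tt B c a) := by
  intro c
  obtain ⟨h1, h3⟩ := hD (c / 2)
  have ha : B a u = 0 := by rw [antisymm hS, hau, neg_zero]
  refine (h1.add h3 fun x => ?_).congr fun x => ?_
  · simp only [LinearMap.add_apply, sy_apply, tt_apply, map_add, map_smul, map_neg,
      LinearMap.neg_apply, LinearMap.smul_apply, hau, hS.alt, ha]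
    simp
  · simp only [LinearMap.add_apply, sy_apply, tt_apply, map_smul, map_neg, smul_eq_mul, neg_smul,
      smul_neg, neg_neg]
    rw [smul_smul, smul_smul]
    linear_combination (norm := match_scalars) (0 : F) • u
    all_goals field_simp
    all_goals ring

/-- A pairing of rank one and a scalar other than `0` and `1` give a transvection. -/
theorem transvection_of_scale {d : F} (hd0 : d ≠ 0) (hd1 : d ≠ 1) {a u : V} (hau : B u a = 0)
    (hD : ∀ s : F, InM M (sy B a (s • u) + tt B s a) ∧ InM M (sy B (d • a) (s • u) + tt B s (d • a))) :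
    ∀ c : F, InM M (tt B c a) := by
  intro c
  have h1 : d - 1 ≠ 0 := sub_ne_zero.2 hd1
  set s := c / (d - 1) with hs
  have h2 := (hD (-s)).1
  have h3 := (hD (s / d)).2
  have ha : B a u = 0 := by rw [antisymm hS, hau, neg_zero]
  refine (h2.add h3 fun x => ?_).congr fun x => ?_
  · simp only [LinearMap.add_apply, sy_apply, tt_apply, map_add, map_smul, map_neg,
      LinearMap.neg_apply, LinearMap.smul_apply, hau, hS.alt, ha]
    simp
  · simp only [LinearMap.add_apply, sy_apply, tt_apply, map_smul, smul_eq_mul, smul_smul]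
    match_scalars
    · field_simp; ring
    · rw [hs]; field_simp; ring

/-- Transvections at one centre spread to all centres. -/
theorem transvection_spread {a : V} (ha : a ≠ 0) {c : F} (h : InM M (tt B c a)) {v : V} (hv : v ≠ 0) :
    InM M (tt B c v) := by
  obtain ⟨g, hg, -, rfl⟩ := exists_linear hS hM ha hv
  exact (h.conj hg).congr fun x => tt_conj hS hM hg c a x

omit hM in
/-- Two elements of the symmetrised product at one point. -/
theorem sy_comp {b x y : V} (hbx : B b x = 0) (hby : B b y = 0) (z : V) :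
    sy B b x (sy B b y z) = tt B (B y x) b z := by
  have hxb : B x b = 0 := by rw [antisymm hS, hbx, neg_zero]
  have hyb : B y b = 0 := by rw [antisymm hS, hby, neg_zero]
  rw [sy_apply, sy_apply, tt_apply, map_add, map_smul, map_smul]
  simp only [LinearMap.add_apply, LinearMap.smul_apply, hbx, hyb, hS.alt, smul_eq_mul]
  module

/-- In characteristic 2 and degree 2: the products on one line. -/
theorem sy_line_of_two {a b : V} (hb : b ≠ 0) (hab : zeta B R (line b) a = 0)
    (ha : ∀ k : K, a ≠ k • b) (h : ∀ s : F, InM M (s • sy B b a)) (k : K) :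
    InM M (sy B b (k • b)) := by
  obtain ⟨c2, hc2, hc2a⟩ := exists_perp_line hS hb ha
  have horth : ∀ {y : V}, zeta B R (line (F := F) b) y = 0 → ∀ μ : K, B (μ • b) y = 0 := by
    intro y hy μ
    rw [antisymm hS, ← line_apply (F := F), ← zeta_spec hS, hy, mul_zero, map_zero, neg_zero]
  have hbb : zeta B R (line (F := F) b) b = 0 := by
    simpa using zeta_line_self hS b (1 : K)
  have hba : B b a = 0 := by simpa using horth hab 1
  have key : ∀ c : V, zeta B R (line b) c = 0 → zeta B R (line c) a ≠ 0 → ∀ δ : K,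
      InM M (sy B b (δ • c) + tt B (B (δ • c) a) b) := by
    intro c hc hz δ
    obtain ⟨g, hg, hgx⟩ := hM.base c (δ / zeta B R (line c) a)
    have hgb : g b = b := by
      have h0 : zeta B R (line c) b = 0 := zeta_eq hS fun μ => by
        rw [mul_zero, map_zero, line_apply, ← hS.self, horth hc]
      rw [hgx, op_apply, h0, mul_zero, map_zero, add_zero]
    have hga : g a = a + δ • c := by
      rw [hgx, op_apply, div_mul_cancel₀ _ hz, line_apply]
    have h1 := ((h 1).conj hg).congr (N' := sy B b (a + δ • c)) fun x => by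
      rw [one_smul, LinearMap.comp_apply, LinearMap.comp_apply]
      show g (sy B b a (g.symm x)) = _
      rw [sy_conj hS hM hg, hgb, hga]
    have hbc : B b (δ • c) = 0 := by rw [← hS.self, horth hc]
    refine (h1.mul (h (-1))).congr fun x => ?_
    rw [LinearMap.add_apply, LinearMap.add_apply, LinearMap.add_apply, LinearMap.comp_apply,
      LinearMap.smul_apply, map_smul, sy_comp hS (by rw [map_add, hba, hbc, add_zero]) hba]
    simp only [sy_apply, tt_apply, map_add, hS.alt, neg_smul, one_smul, zero_add]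
    rw [antisymm hS (δ • c) a]
    module
  have hz2 : zeta B R (line (F := F) c2) a ≠ 0 := fun e => hc2a (by
    have := zeta_spec hS (line c2) a 1
    rw [e, mul_zero, map_zero, line_apply, one_smul] at this
    rw [antisymm hS, ← this, neg_zero])
  have hc1 : zeta B R (line (F := F) b) (c2 + b) = 0 := by rw [map_add, hc2, hbb, add_zero]
  have hz1 : zeta B R (line (F := F) (c2 + b)) a ≠ 0 := by
    have : zeta B R (line (F := F) (c2 + b)) a = zeta B R (line c2) a := zeta_eq hS fun μ => by
      rw [zeta_spec hS, line_apply, line_apply, smul_add, map_add, ← hS.self μ a b,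
        antisymm hS b (μ • a), ← hS.self μ b a, horth hab, neg_zero, add_zero]
    rwa [this]
  have hbk : ∀ {y : V}, zeta B R (line b) y = 0 → ∀ δ : K, B b (δ • y) = 0 := fun hy δ => by
    rw [← hS.self, horth hy]
  refine ((key _ hc1 hz1 k).mul (key c2 hc2 hz2 (-k))).congr fun x => ?_
  have hk0 : B ((-k) • c2) (k • (c2 + b)) = 0 := by
    rw [neg_smul, map_neg, LinearMap.neg_apply, smul_add, map_add, b_line hS, zero_add,
      hS.self, smul_smul, antisymm hS, horth hc2, neg_zero, neg_zero]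
  have hbka : B (k • b) a = 0 := horth hab k
  have hbkb : B b (k • b) = 0 := by rw [← hS.self, hS.alt_k]
  have hkc2b : B (k • c2) b = 0 := by rw [antisymm hS, hbk hc2, neg_zero]
  rw [LinearMap.add_apply, LinearMap.add_apply, LinearMap.comp_apply]
  simp only [LinearMap.add_apply, map_add]
  rw [sy_comp hS (hbk hc1 k) (hbk hc2 (-k)), hk0]
  simp only [sy_apply, tt_apply, map_add, map_smul, hS.alt, smul_add, neg_smul, map_neg,
    LinearMap.add_apply, LinearMap.neg_apply, hbka, LinearMap.smul_apply, hbk hc1, hbk hc2,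
    hbkb, hkc2b, smul_eq_mul]
  module

omit hM in
/-- The root element of a line in one coordinate. -/
theorem sy_line_apply (a : V) (γ δ : K) (x : V) :
    sy B (γ • a) (δ • a) x = (t (γ * zeta B R (line a) x) • δ + t (δ * zeta B R (line a) x) • γ) • a := by
  rw [sy_apply, add_smul, smul_assoc, smul_assoc, zeta_spec hS, zeta_spec hS, line_apply, line_apply]

/-- In characteristic 2 the products on one line give all alternating maps of the line. -/
theorem alternating_line [FiniteDimensional F K] (h2 : (2 : F) = 0) {a : V}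
    (h : ∀ γ δ : K, InM M (sy B (γ • a) (δ • a))) (L : K →ₗ[F] K)
    (hsym : ∀ x y, t (x * L y) = t (y * L x)) (halt : ∀ x, t (x * L x) = 0) :
    InM M (line a ∘ₗ L ∘ₗ zeta B R (line a)) := by
  induction he : finrank F (LinearMap.range L) using Nat.strong_induction_on generalizing L with
  | h e ih => ?_
  by_cases h0 : L = 0
  · rw [h0, LinearMap.zero_comp, LinearMap.comp_zero]; exact inM_zero
  obtain ⟨x0, hx0⟩ : ∃ x, L x ≠ 0 := by
    by_contra hc
    push Not at hc
    exact h0 (LinearMap.ext hc)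
  obtain ⟨y0, hy0⟩ : ∃ y, t (y * L x0) = 1 := by
    obtain ⟨w, hw⟩ : ∃ w, t w ≠ 0 := by
      by_contra hc
      push Not at hc
      exact hS.t_ne (LinearMap.ext hc)
    exact ⟨(t w)⁻¹ • (w * (L x0)⁻¹), by
      rw [smul_mul_assoc, inv_mul_cancel_right₀ hx0, map_smul, smul_eq_mul, inv_mul_cancel₀ hw]⟩
  set γ := L x0 with hγ
  set δ := L y0 with hδ
  set T : K →ₗ[F] K := (t ∘ₗ LinearMap.mulLeft F γ).smulRight δ + (t ∘ₗ LinearMap.mulLeft F δ).smulRight γ
    with hT
  have hTa : ∀ ζ, T ζ = t (γ * ζ) • δ + t (δ * ζ) • γ := fun ζ => rfl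
  have hγγ : t (γ * x0) = 0 := by rw [mul_comm, hγ]; exact halt x0
  have hδx : t (δ * x0) = 1 := by rw [mul_comm, hδ, hsym, ← hγ, hy0]
  have htwo : ∀ k : K, k + k = 0 := fun k => by rw [← two_smul F, h2, zero_smul]
  have hker : LinearMap.ker L < LinearMap.ker (L + T) := by
    refine lt_of_le_of_ne (fun ζ hζ => ?_) fun e1 => ?_
    · rw [LinearMap.mem_ker] at hζ ⊢
      rw [LinearMap.add_apply, hTa, hζ, mul_comm γ, mul_comm δ, hγ, hδ, hsym, hζ, mul_zero,
        map_zero, zero_smul, hsym ζ y0, hζ, mul_zero, map_zero, zero_smul, add_zero, add_zero]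
    · have hx : x0 ∈ LinearMap.ker (L + T) := by
        rw [LinearMap.mem_ker, LinearMap.add_apply, hTa, hγγ, hδx, zero_smul, zero_add, one_smul,
          ← hγ, htwo]
      rw [← e1] at hx
      exact hx0 hx
  have hlt : finrank F (LinearMap.range (L + T)) < e := by
    have a1 := LinearMap.finrank_range_add_finrank_ker L
    have a2 := LinearMap.finrank_range_add_finrank_ker (L + T)
    have a3 := Submodule.finrank_lt_finrank_of_lt hker
    omega
  have hsymT : ∀ x y, t (x * (L + T) y) = t (y * (L + T) x) := fun x y => by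
    simp only [LinearMap.add_apply, mul_add, map_add, hTa, mul_smul_comm, map_smul, smul_eq_mul]
    rw [hsym x y, mul_comm γ y, mul_comm δ y, mul_comm γ x, mul_comm δ x]
    ring
  have haltT : ∀ x, t (x * (L + T) x) = 0 := fun x => by
    simp only [LinearMap.add_apply, mul_add, map_add, hTa, mul_smul_comm, map_smul, smul_eq_mul]
    rw [halt, zero_add, mul_comm γ x, mul_comm δ x, mul_comm (t (x * δ)), ← two_mul, h2, zero_mul]
  refine ((ih _ hlt (L + T) hsymT haltT rfl).add (h γ δ) fun x => ?_).congr fun x => ?_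
  · rw [sy_line_apply hS, LinearMap.comp_apply, LinearMap.comp_apply, zeta_line_self hS, map_zero,
      map_zero]
  · rw [LinearMap.add_apply, sy_line_apply hS, ← hTa]
    simp only [LinearMap.comp_apply, LinearMap.add_apply, line_apply]
    rw [← add_smul, add_assoc, htwo, add_zero]

/-- In characteristic 2 the products on one line give a transvection. -/
theorem transvection_of_line [Finite K] [FiniteDimensional F K] [Finite F] (h2 : (2 : F) = 0)
    {a : V} (ha : a ≠ 0) (h : ∀ γ δ : K, InM M (sy B (γ • a) (δ • a))) (c : F) {v : V} (hv : v ≠ 0) :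
    InM M (tt B c v) := by
  haveI : CharP F 2 := CharTwo.of_one_ne_zero_of_two_eq_zero one_ne_zero h2
  haveI : CharP K 2 := charP_of_injective_algebraMap (algebraMap F K).injective 2
  have hring : ringChar F = 2 := ringChar.eq F 2
  choose r hr using fun ζ : K => FiniteField.isSquare_of_char_two hring (t (ζ * ζ))
  have sq_inj : ∀ x y : F, x * x = y * y → x = y := fun x y e => by
    have : (x - y) * (x - y) = 0 := by linear_combination e + (y * y - x * y) * h2
    exact sub_eq_zero.1 (mul_self_eq_zero.1 this)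
  let f : K →ₗ[F] F :=
    { toFun := r
      map_add' := fun x y => sq_inj _ _ (by
        rw [← hr, show (x + y) * (x + y) = x * x + y * y from CharTwo.add_mul_self x y, map_add, hr,
          hr]
        linear_combination -(r x * r y) * h2)
      map_smul' := fun d x => sq_inj _ _ (by
        rw [← hr, smul_mul_smul_comm, map_smul, hr, RingHom.id_apply, smul_eq_mul, smul_eq_mul]
        ring) }
  set γ := R f with hγ
  have hf : ∀ ζ, t (γ * ζ) = r ζ := fun ζ => by rw [mul_comm, hγ, hS.rep]; rfl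
  have hγ0 : γ ≠ 0 := by
    intro e
    refine hS.t_ne (LinearMap.ext fun k => ?_)
    obtain ⟨s, rfl⟩ := FiniteField.isSquare_of_char_two (ringChar.eq K 2) k
    rw [hr, ← hf, e, zero_mul, map_zero, mul_zero, LinearMap.zero_apply]
  set L : K →ₗ[F] K := LinearMap.id + (t ∘ₗ LinearMap.mulLeft F γ).smulRight γ with hL
  have hLa : ∀ ζ, L ζ = ζ + t (γ * ζ) • γ := fun ζ => rfl
  have hLM : InM M (line a ∘ₗ L ∘ₗ zeta B R (line a)) := by
    refine alternating_line hS hM h2 h L (fun x y => ?_) fun x => ?_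
    · simp only [hLa, mul_add, map_add, mul_smul_comm, map_smul, smul_eq_mul]
      rw [mul_comm γ y, mul_comm γ x, mul_comm x y, mul_comm (t (y * γ))]
    · rw [hLa, mul_add, map_add, mul_smul_comm, map_smul, smul_eq_mul, mul_comm x γ, hf, hr,
        ← two_mul, h2, zero_mul]
  have h1 : InM M (tt B 1 (γ • a)) := by
    refine (hLM.add (hM.base a 1) fun x => ?_).congr fun x => ?_
    · rw [op_apply, line_apply, LinearMap.comp_apply, LinearMap.comp_apply, zeta_line_self hS,
        map_zero, map_zero]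
    · rw [LinearMap.add_apply, op_apply, LinearMap.comp_apply, LinearMap.comp_apply, one_mul,
        tt_apply, one_smul, line_apply, line_apply, hLa, ← add_smul, add_right_comm,
        CharTwo.add_self_eq_zero, zero_add, smul_assoc, zeta_spec hS, line_apply]
  obtain ⟨s, rfl⟩ := FiniteField.isSquare_of_char_two hring c
  by_cases hs : s = 0
  · exact (inM_zero (M := M)).congr fun x => by
      rw [LinearMap.zero_apply, tt_apply, hs, mul_zero, zero_smul]
  refine (transvection_spread hS hM (smul_ne_zero hγ0 ha) h1 (smul_ne_zero hs hv)).congr fun x => ?_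
  rw [tt_apply, tt_apply, one_smul, map_smul, smul_eq_mul, smul_smul, smul_smul]
  ring_nf

omit hM in
/-- A non-zero vector of `K` killed by two functionals. -/
theorem exists_kappa [FiniteDimensional F K] (x y : K) (hr : 3 ≤ finrank F K) :
    ∃ κ : K, κ ≠ 0 ∧ t (κ * x) = 0 ∧ t (κ * y) = 0 := by
  set f : K →ₗ[F] F × F :=
    (t ∘ₗ LinearMap.mulRight F x).prod (t ∘ₗ LinearMap.mulRight F y)
  have hne : LinearMap.ker f ≠ ⊥ := by
    intro e
    have h1 := LinearMap.finrank_le_finrank_of_injective (LinearMap.ker_eq_bot.1 e)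
    rw [Module.finrank_prod, Module.finrank_self] at h1
    omega
  obtain ⟨κ, hκ, hκ0⟩ := Submodule.exists_mem_ne_zero_of_ne_bot hne
  rw [LinearMap.mem_ker] at hκ
  exact ⟨κ, hκ0, congrArg Prod.fst hκ, congrArg Prod.snd hκ⟩

omit hM in
/-- A point pairing of rank one gives a factorisation. -/
theorem exists_factor [FiniteDimensional F K] {P : K →ₗ[F] K}
    (h : finrank F (LinearMap.range P) = 1) :
    ∃ (z0 : K) (p : K →ₗ[F] F), z0 ≠ 0 ∧ p ≠ 0 ∧ ∀ μ, P μ = p μ • z0 := by
  obtain ⟨⟨z0, hz0⟩, hne, hall⟩ := finrank_eq_one_iff'.1 h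
  have hne' : z0 ≠ 0 := fun e => hne (Subtype.ext e)
  obtain ⟨ℓ, hℓ, -⟩ := Submodule.exists_le_ker_of_notMem
    (show z0 ∉ (⊥ : Submodule F K) by simpa using hne')
  have hspec : ∀ μ, P μ = (ℓ (P μ) / ℓ z0) • z0 := fun μ => by
    obtain ⟨c, hc⟩ := hall ⟨P μ, LinearMap.mem_range_self _ _⟩
    have hc' : c • z0 = P μ := congrArg Subtype.val hc
    rw [← hc', map_smul, smul_eq_mul, mul_div_cancel_right₀ _ hℓ]
  refine ⟨z0, (ℓ z0)⁻¹ • (ℓ ∘ₗ P), hne', fun e => ?_, fun μ => ?_⟩
  · obtain ⟨μ, hμ⟩ := hz0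
    have := LinearMap.congr_fun e μ
    rw [LinearMap.smul_apply, LinearMap.comp_apply, hμ, LinearMap.zero_apply, smul_eq_mul,
      inv_mul_cancel₀ hℓ] at this
    exact one_ne_zero this
  · rw [hspec μ, LinearMap.smul_apply, LinearMap.comp_apply, smul_eq_mul, ← hspec μ, mul_comm,
      ← div_eq_mul_inv, ← hspec μ]

/-- The moved line and a shift of it pair with rank less than the degree; hence some pairing has rank one. -/
theorem exists_pair [FiniteDimensional F K] (hr : (finrank F K).Prime) {φ : K →ₗ[F] V}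
    (hφ : Im M φ) {c0 p q : V} {μ0 : K} (hc0 : zeta B R (line p) c0 = 0) (hcq : B c0 q ≠ 0)
    (hp : p = φ 1) (hq : q = φ μ0) :
    ∃ φ ψ : K →ₗ[F] V, Im M φ ∧ Im M ψ ∧
      finrank F (LinearMap.range (zeta B R φ ∘ₗ ψ)) = 1 := by
  have hp' : zeta B R (line c0) p = 0 := zeta_eq hS fun μ => by
    have h1 := zeta_spec hS (line p) c0 μ
    rw [hc0, mul_zero, map_zero, line_apply, ← hS.self] at h1
    rw [mul_zero, map_zero, line_apply, antisymm hS, ← h1, neg_zero]
  have hz : zeta B R (line c0) q ≠ 0 := fun e => hcq (by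
    have := zeta_spec hS (line c0) q 1
    rw [e, mul_zero, map_zero, line_apply, one_smul] at this
    rw [antisymm hS, ← this, neg_zero])
  obtain ⟨g, hg, hgx⟩ := hM.base c0 (zeta B R (line c0) q)⁻¹
  have hiso : ∀ μ ν, B (φ μ) (φ ν) = 0 := Im.iso hS hM hφ
  set P := zeta B R φ ∘ₗ (g.toLinearMap ∘ₗ φ) with hP
  have hP1 : P 1 = 0 := zeta_eq hS fun ν => by
    show _ = B (g (φ 1)) (φ ν)
    rw [← hp, hgx, op_apply, hp']
    simp [hp, hiso]
  have hPne : P ≠ 0 := by
    intro e
    have h1 := pair_spec hS φ (g.toLinearMap ∘ₗ φ) μ0 μ0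
    rw [← hP, e, LinearMap.zero_apply, mul_zero, map_zero] at h1
    change 0 = B (g (φ μ0)) (φ μ0) at h1
    rw [← hq, hgx, op_apply, inv_mul_cancel₀ hz, line_apply, one_smul, map_add,
      LinearMap.add_apply, hS.alt, zero_add] at h1
    exact hcq h1.symm
  refine exists_rank_one hS hM hr hφ (hφ.comp hg) hPne ?_
  show finrank F (LinearMap.range P) < _
  have b1 := LinearMap.finrank_range_add_finrank_ker P
  have b2 : 1 ≤ finrank F (LinearMap.ker P) := Submodule.one_le_finrank_iff.2 fun e =>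
    one_ne_zero ((Submodule.eq_bot_iff _).1 e 1 hP1)
  omega

/-- An overgroup moving a line over `K` contains all transvections. -/
theorem all_transvections [Finite F] [Finite K] [FiniteDimensional F V] [FiniteDimensional F K]
    (hr : (finrank F K).Prime) (hdim : 6 ≤ finrank F V ∨ 3 ≤ Nat.card F) {g : V ≃ₗ[F] V} (hg : g ∈ M) {a0 : V}
    {μ0 : K} (hmove : ∀ k : K, g (μ0 • a0) ≠ k • g a0) (c : F) {v : V} (hv : v ≠ 0) :
    InM M (tt B c v) := by
  have ha0 : a0 ≠ 0 := fun e => hmove 0 (by rw [e, smul_zero, map_zero, smul_zero])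
  set φ : K →ₗ[F] V := g.toLinearMap ∘ₗ line a0 with hφd
  have hφ : Im M φ := (im_line ha0).comp hg
  have hφ1 : φ 1 = g a0 := by rw [hφd, LinearMap.comp_apply, line_apply, one_smul]; rfl
  set p := φ 1 with hp
  set q := φ μ0 with hq
  have hp0 : p ≠ 0 := by rw [hφ1]; simpa using ha0
  have hqp : ∀ k : K, q ≠ k • p := fun k => by
    rw [hq, hφ1, hφd, LinearMap.comp_apply, line_apply]; exact hmove k
  obtain ⟨c0, hc0, hcq⟩ := exists_perp_line hS hp0 hqp
  have hcp : ∀ c1 : V, zeta B R (line p) c1 = 0 → zeta B R (line c1) p = 0 := fun c1 h => by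
    refine zeta_eq hS fun μ => ?_
    have h1 := zeta_spec hS (line p) c1 μ
    rw [h, mul_zero, map_zero, line_apply, ← hS.self] at h1
    rw [mul_zero, map_zero, line_apply, antisymm hS, ← h1, neg_zero]
  have hzq : ∀ c1 : V, B c1 q ≠ 0 → zeta B R (line c1) q ≠ 0 := fun c1 h e => h (by
    have := zeta_spec hS (line c1) q 1
    rw [e, mul_zero, map_zero, line_apply, one_smul] at this
    rw [antisymm hS, ← this, neg_zero])
  have hpos : 1 < finrank F K := hr.one_lt
  by_cases hbig : ∀ d : F, d = 0 ∨ d = 1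
  · have hle : Nat.card F ≤ 2 := by
      have := Nat.card_le_card_of_surjective (fun b : Fin 2 => ((b : ℕ) : F)) fun d => by
        rcases hbig d with h | h
        · exact ⟨0, by simp [h]⟩
        · exact ⟨1, by simp [h]⟩
      simpa using this
    have hdim' := hdim.resolve_right (by omega)
    have h2 : (2 : F) = 0 := by
      rcases hbig (2 : F) with h | h
      · exact h
      · exact absurd (show (1 : F) = 0 by linear_combination h) one_ne_zero
    by_cases hr2 : finrank F K = 2
    · -- degree two in characteristic two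
      obtain ⟨c1, hc1, hc1q, hc1p⟩ : ∃ c1, zeta B R (line p) c1 = 0 ∧ B c1 q ≠ 0 ∧
          ∀ k : K, c1 ≠ k • p := by
        by_cases hk : ∀ k : K, c0 ≠ k • p
        · exact ⟨c0, hc0, hcq, hk⟩
        push Not at hk
        obtain ⟨k, hk⟩ := hk
        obtain ⟨d, hd, hdl⟩ : ∃ d, d ∈ LinearMap.ker ((zeta B R (line p)).prod (B.flip q)) ∧
            d ∉ LinearMap.range (line (F := F) (K := K) p) := by
          refine SetLike.not_le_iff_exists.1 fun hle => ?_
          have a1 := Submodule.finrank_mono hle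
          have a2 := LinearMap.finrank_range_le (line (F := F) (K := K) p)
          have a3 := LinearMap.finrank_range_add_finrank_ker
            ((zeta B R (line p)).prod (B.flip q))
          have a4 := Submodule.finrank_le (LinearMap.range ((zeta B R (line p)).prod (B.flip q)))
          rw [Module.finrank_prod, Module.finrank_self] at a4
          omega
        rw [LinearMap.mem_ker] at hd
        refine ⟨c0 + d, ?_, ?_, fun k' e => hdl ⟨k' - k, ?_⟩⟩
        · rw [map_add, hc0, zero_add]; exact congrArg Prod.fst hd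
        · rw [map_add, LinearMap.add_apply, show B d q = 0 from congrArg Prod.snd hd, add_zero]
          exact hcq
        · rw [line_apply, sub_smul, ← e, ← hk, add_sub_cancel_left]
      have hc10 : c1 ≠ 0 := fun e => hc1q (by rw [e, map_zero, LinearMap.zero_apply])
      set P := zeta B R (line c1) ∘ₗ φ with hP
      have hP1 : P 1 = 0 := hcp c1 hc1
      have hPne : P ≠ 0 := fun e => hzq c1 hc1q (LinearMap.congr_fun e μ0)
      have hrk : finrank F (LinearMap.range P) = 1 := by
        have b1 := LinearMap.finrank_range_add_finrank_ker P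
        have b2 : 1 ≤ finrank F (LinearMap.ker P) := Submodule.one_le_finrank_iff.2 fun e =>
          one_ne_zero ((Submodule.eq_bot_iff _).1 e 1 hP1)
        have b3 : 1 ≤ finrank F (LinearMap.range P) :=
          Submodule.one_le_finrank_iff.2 fun e => hPne (LinearMap.range_eq_bot.1 e)
        omega
      obtain ⟨z0, π, hz0, hπ, hfac⟩ := exists_factor hS hrk
      obtain ⟨ν, hν, hν0⟩ : ∃ ν, t (ν * z0) = 0 ∧ ν ≠ 0 := by
        have hne : LinearMap.ker (t ∘ₗ LinearMap.mulRight F z0) ≠ ⊥ := by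
          intro e
          have h1 := LinearMap.finrank_le_finrank_of_injective (LinearMap.ker_eq_bot.1 e)
          rw [Module.finrank_self] at h1
          omega
        obtain ⟨ν, h1, h3⟩ := Submodule.exists_mem_ne_zero_of_ne_bot hne
        exact ⟨ν, h1, h3⟩
      obtain ⟨-, hD⟩ := rank_one_commutator hS hM (im_line hc10) hφ hz0 hfac hπ hν
      have hπ1 : π 1 = 0 := by
        have := hfac 1
        rw [hP1] at this
        exact (smul_eq_zero.1 this.symm).resolve_right hz0
      have hsy : ∀ s : F, InM M (s • sy B p (ν • c1)) := fun s => by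
        refine (hD (s • (1 : K))).congr fun x => ?_
        rw [map_smul, map_smul, hπ1, smul_zero, line_apply, ← hp, LinearMap.add_apply, tt_apply,
          zero_smul, add_zero, LinearMap.smul_apply, ← sy_smul_left hS hM s, sy_apply, sy_apply,
          add_comm]
      have hline := sy_line_of_two hS hM hp0 (a := ν • c1)
        (by rw [zeta_line_smul hS, hc1, mul_zero])
        (fun k e => hc1p (ν⁻¹ * k) (by rw [mul_smul, ← e, inv_smul_smul₀ hν0])) hsy
      refine transvection_of_line hS hM h2 hp0 (fun γ δ => ?_) c hv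
      by_cases hγ : γ = 0
      · exact (inM_zero (M := M)).congr fun x => by rw [hγ, zero_smul, sy_apply]; simp
      obtain ⟨h, hh, hl, he⟩ := exists_linear hS hM hp0 (smul_ne_zero hγ hp0)
      refine ((hline (δ / γ)).conj hh).congr fun x => ?_
      show h (sy B p ((δ / γ) • p) (h.symm x)) = _
      rw [sy_conj hS hM hh, hl, he, smul_smul, div_mul_cancel₀ _ hγ]
    · -- degree at least three
      have h3 : 3 ≤ finrank F K := by omega
      obtain ⟨φ', ψ', hφ', hψ', hone⟩ := exists_pair hS hM hr hφ hc0 hcq hp hq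
      obtain ⟨z0, π, hz0, hπ, hfac⟩ := exists_factor hS hone
      obtain ⟨η, hη⟩ : ∃ η, π η ≠ 0 := by
        by_contra hc
        push Not at hc
        exact hπ (LinearMap.ext hc)
      obtain ⟨g', hg', a, ha, hφ'e⟩ := hφ'
      have hφ'' : Im M φ' := ⟨g', hg', a, ha, hφ'e⟩
      have hpair : ∀ ν1 ν2 : K, t (ν1 * z0) = 0 → t (ν2 * z0) = 0 → ∀ s : F,
          InM M (s • sy B (φ' ν1) (φ' ν2)) := by
        intro ν1 ν2 h1 h4 s
        set η' := (s / π η) • η with hη'
        have hπη : π η' = s := by rw [hη', map_smul, smul_eq_mul, div_mul_cancel₀ _ hη]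
        obtain ⟨o1, D1⟩ := rank_one_commutator hS hM hφ'' hψ' hz0 hfac hπ h1
        obtain ⟨o2, D2⟩ := rank_one_commutator hS hM hφ'' hψ' hz0 hfac hπ h4
        obtain ⟨o3, D3⟩ := rank_one_commutator hS hM hφ'' hψ' hz0 hfac hπ (ν := ν1 + ν2)
          (by rw [add_mul, map_add, h1, h4, add_zero])
        have e : ∀ μ ν, B (φ' μ) (φ' ν) = 0 := Im.iso hS hM hφ''
        have o1' : ∀ μ, B (φ' ν1) (ψ' μ) = 0 := fun μ => by rw [antisymm hS, o1, neg_zero]
        have o2' : ∀ μ, B (φ' ν2) (ψ' μ) = 0 := fun μ => by rw [antisymm hS, o2, neg_zero]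
        refine (((D3 η').add (D1 η') fun x => ?_).add (D2 η') fun x => ?_).congr fun x => ?_
        · simp [sy_apply, tt_apply, e, o1, o2, o1', o2', hS.alt]
        · simp [sy_apply, tt_apply, e, o1, o2, o1', o2', hS.alt]
        · simp only [LinearMap.add_apply, LinearMap.smul_apply, sy_apply, tt_apply, map_add, hπη]
          linear_combination (norm := module) (congrArg (fun d : F => d • (B x (ψ' η') • φ' ν1 +
            B x (ψ' η') • φ' ν2 + B x (φ' ν1) • ψ' η' + B x (φ' ν2) • ψ' η' +
            (s * B x (φ' ν1)) • φ' ν1 + (s * B x (φ' ν2)) • φ' ν2)) h2)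
      have hline : ∀ ν1 ν2 : K, t (ν1 * z0) = 0 → t (ν2 * z0) = 0 → ∀ s : F,
          InM M (s • sy B (ν1 • a) (ν2 • a)) := fun ν1 ν2 h1 h4 s => by
        refine ((hpair ν1 ν2 h1 h4 s).conj (M.inv_mem hg')).congr fun x => ?_
        show g'⁻¹ (s • sy B (φ' ν1) (φ' ν2) (g'⁻¹.symm x)) = _
        rw [map_smul, sy_conj hS hM (M.inv_mem hg'), hφ'e, hφ'e, LinearMap.smul_apply]
        simp
      refine transvection_of_line hS hM h2 ha (fun γ δ => ?_) c hv
      obtain ⟨κ, hκ0, hκx, hκy⟩ := exists_kappa hS γ δ h3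
      set μ := z0 / κ with hμ
      have hμ0 : μ ≠ 0 := div_ne_zero hz0 hκ0
      obtain ⟨h, hh, hl, he⟩ := exists_linear hS hM ha (smul_ne_zero hμ0 ha)
      have hdiv : ∀ x : K, t (κ * x) = 0 → t (x / μ * z0) = 0 := fun x hx => by
        rwa [hμ, div_div_eq_mul_div, div_mul_cancel₀ _ hz0, mul_comm]
      refine ((hline (γ / μ) (δ / μ) (hdiv γ hκx) (hdiv δ hκy) 1).conj hh).congr fun x => ?_
      show h ((1 : F) • sy B ((γ / μ) • a) ((δ / μ) • a) (h.symm x)) = _
      rw [one_smul, sy_conj hS hM hh, hl, hl, he, smul_smul, smul_smul, div_mul_cancel₀ _ hμ0,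
        div_mul_cancel₀ _ hμ0]
  · push Not at hbig
    obtain ⟨d, hd0, hd1⟩ := hbig
    obtain ⟨φ', ψ', hφ', hψ', hone⟩ := exists_pair hS hM hr hφ hc0 hcq hp hq
    obtain ⟨z0, π, hz0, hπ, hfac⟩ := exists_factor hS hone
    obtain ⟨η, hη⟩ : ∃ η, π η ≠ 0 := by
      by_contra hc
      push Not at hc
      exact hπ (LinearMap.ext hc)
    obtain ⟨ν, hν, hν0⟩ : ∃ ν, t (ν * z0) = 0 ∧ ν ≠ 0 := by
      have hne : LinearMap.ker (t ∘ₗ LinearMap.mulRight F z0) ≠ ⊥ := by
        intro e
        have h1 := LinearMap.finrank_le_finrank_of_injective (LinearMap.ker_eq_bot.1 e)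
        rw [Module.finrank_self] at h1
        omega
      obtain ⟨ν, h1, h3⟩ := Submodule.exists_mem_ne_zero_of_ne_bot hne
      exact ⟨ν, h1, h3⟩
    set u := ψ' ((π η)⁻¹ • η) with hu
    obtain ⟨o1, D1⟩ := rank_one_commutator hS hM hφ' hψ' hz0 hfac hπ hν
    obtain ⟨-, D2⟩ := rank_one_commutator hS hM hφ' hψ' hz0 hfac hπ (ν := d • ν)
      (by rw [smul_mul_assoc, map_smul, hν, smul_zero])
    have ha' : φ' ν ≠ 0 := by
      obtain ⟨g', -, a, ha, e⟩ := hφ'
      rw [e]; simpa using smul_ne_zero hν0 ha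
    have hπs : ∀ s : F, π (s • (π η)⁻¹ • η) = s := fun s => by
      rw [map_smul, map_smul, smul_eq_mul, smul_eq_mul, inv_mul_cancel₀ hη, mul_one]
    refine transvection_spread hS hM ha' (transvection_of_scale hS hM hd0 hd1 (u := u) (o1 _)
      (fun s => ⟨?_, ?_⟩) c) hv
    · have := D1 (s • (π η)⁻¹ • η)
      rwa [hπs, map_smul] at this
    · have := D2 (s • (π η)⁻¹ • η)
      rwa [hπs, map_smul, map_smul] at this

/-- An element preserving all lines over `K` up to their image normalises `K`. -/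
theorem normalizes {g : V ≃ₗ[F] V} (hl : ∀ a (μ : K), ∃ k : K, g (μ • a) = k • g a) (k : K) :
    ∃ k' : K, ∀ x, g (k • x) = k' • g x := by
  choose ν hν using fun x => hl x k
  have indep : ∀ {x y : V}, g x ≠ 0 → (∀ d : K, g y ≠ d • g x) → ν x = ν y := by
    intro x y hx hy
    have h := hν (x + y)
    rw [smul_add, map_add, map_add, hν, hν, smul_add] at h
    have h' : (ν x - ν (x + y)) • g x + (ν y - ν (x + y)) • g y = 0 := by
      rw [sub_smul, sub_smul]
      linear_combination (norm := module) h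
    by_cases hc : ν y - ν (x + y) = 0
    · rw [hc, zero_smul, add_zero, smul_eq_zero] at h'
      exact (sub_eq_zero.1 (h'.resolve_right hx)).trans (sub_eq_zero.1 hc).symm
    · exfalso
      refine hy (-(ν x - ν (x + y)) / (ν y - ν (x + y))) ?_
      rw [div_eq_inv_mul, mul_smul, neg_smul, ← eq_neg_iff_add_eq_zero.2 (by rwa [add_comm] at h'),
        inv_smul_smul₀ hc]
  by_cases hV : ∀ x : V, x = 0
  · exact ⟨0, fun x => by rw [hV x, hν 0, map_zero, smul_zero, smul_zero]⟩
  push Not at hV
  obtain ⟨x0, hx0⟩ := hV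
  have hgne : ∀ {x : V}, x ≠ 0 → g x ≠ 0 := fun hx e => hx (g.injective (by rw [e, map_zero]))
  obtain ⟨y0, hy0⟩ : ∃ y0, ∀ d : K, g y0 ≠ d • g x0 := by
    by_contra hc
    push Not at hc
    refine hgne hx0 (hS.nd _ fun y => ?_)
    obtain ⟨d, hd⟩ := hc (g.symm y)
    rw [g.apply_symm_apply] at hd
    rw [hd, ← one_smul K (g x0), smul_smul, b_line hS]
  refine ⟨ν x0, fun x => ?_⟩
  by_cases hx : x = 0
  · rw [hx, smul_zero, map_zero, smul_zero]
  rw [hν]
  congr 1
  have hy00 : g y0 ≠ 0 := fun e => hy0 0 (by rw [e, zero_smul])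
  by_cases hc : ∀ d : K, g x ≠ d • g x0
  · exact (indep (hgne hx0) hc).symm
  · push Not at hc
    obtain ⟨d, hd⟩ := hc
    have h1 := indep (hgne hx0) hy0
    have hd0 : d ≠ 0 := fun e => hgne hx (by rw [hd, e, zero_smul])
    rw [h1]
    refine (indep (hgne hx) fun d' e => hy0 (d' * d) ?_)
    rw [e, hd, smul_smul]

end CfsgLib.SympExt
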