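import Cfsg.Agent.Lib.Classical.SympFitting

/-!
The stratum of `f` with `f (f + 1)` nilpotent: a pair of complementary totally isotropic subspaces.
-/

set_option autoImplicit false

namespace CfsgLib.SympCount

open Module Polynomial
open scoped Matrix

universe u

variable {F : Type u} [Field F]

/-- The hyperbolic form on `W × W`. -/
noncomputable def lagForm (F : Type u) [Field F] (j : ℕ) :
    LinearMap.BilinForm F ((Fin j → F) × (Fin j → F)) :=
  LinearMap.mk₂ F (fun z w => z.1 ⬝ᵥ w.2 - z.2 ⬝ᵥ w.1)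
    (fun z z' w => by simp [add_dotProduct]; ring)
    (fun c z w => by simp [smul_dotProduct]; ring)
    (fun z w w' => by simp [dotProduct_add]; ring)
    (fun c z w => by simp [dotProduct_smul]; ring)

@[simp] theorem lagForm_apply (j : ℕ) (z w : (Fin j → F) × (Fin j → F)) :
    lagForm F j z w = z.1 ⬝ᵥ w.2 - z.2 ⬝ᵥ w.1 := rfl

theorem lagForm_symp (j : ℕ) : Symp (lagForm F j) where
  alt z := by simp [dotProduct_comm]
  nd z hz := Prod.ext (dotProduct_eq_zero _ fun y => by simpa using hz (0, y))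
    (dotProduct_eq_zero _ fun x => by simpa using hz (x, 0))

/-- Vectors killed by powers of such an `f` are orthogonal. -/
theorem isotropic {V : Type u} [AddCommGroup V] [Module F V] {B : LinearMap.BilinForm F V}
    {f : End F V} {c : F} (hc : c ≠ 0) (h : ∀ x y, B (f x) y + B x (f y) + c * B x y = 0) :
    ∀ (n a b : ℕ) (x y : V), a + b = n → (f ^ a) x = 0 → (f ^ b) y = 0 → B x y = 0 := by
  intro n
  induction n with
  | zero =>
    intro a b x y hab hx _
    obtain ⟨rfl, rfl⟩ : a = 0 ∧ b = 0 := by omega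
    rw [show x = 0 from hx, map_zero, LinearMap.zero_apply]
  | succ n ih =>
    intro a b x y hab hx hy
    rcases Nat.eq_zero_or_pos a with ha | ha
    · subst ha; rw [show x = 0 from hx, map_zero, LinearMap.zero_apply]
    rcases Nat.eq_zero_or_pos b with hb | hb
    · subst hb; rw [show y = 0 from hy, map_zero]
    obtain ⟨a, rfl⟩ : ∃ a', a = a' + 1 := ⟨a - 1, by omega⟩
    obtain ⟨b, rfl⟩ : ∃ b', b = b' + 1 := ⟨b - 1, by omega⟩
    have hx' : (f ^ a) (f x) = 0 := by rw [← End.mul_apply, ← pow_succ]; exact hx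
    have hy' : (f ^ b) (f y) = 0 := by rw [← End.mul_apply, ← pow_succ]; exact hy
    have h1 := h x y
    rw [ih a (b + 1) (f x) y (by omega) hx' hy, ih (a + 1) b x (f y) (by omega) hx hy', add_zero,
      zero_add] at h1
    exact (mul_eq_zero.1 h1).resolve_left hc

/-- Complementary totally isotropic subspaces are dual. -/
theorem dual_le {V : Type u} [AddCommGroup V] [Module F V] [FiniteDimensional F V]
    {B : LinearMap.BilinForm F V} (hB : Symp B) {K L : Submodule F V} (hc : IsCompl K L)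
    (hL : ∀ x ∈ L, ∀ y ∈ L, B x y = 0) {ι : Type} [Fintype ι] (a : Basis ι F K) (k : L)
    (hk : ∀ i, B (a i : V) k = 0) : k = 0 := by
  refine Subtype.ext (hB.nd _ fun w => ?_)
  obtain ⟨u, hu, v, hv, rfl⟩ := Submodule.mem_sup.1 (hc.sup_eq_top ▸ Submodule.mem_top (x := w))
  rw [map_add, hL _ k.2 v hv, add_zero, ← hB.alt.neg_eq u (k : V), neg_eq_zero]
  have h0 : (B.flip (k : V)).domRestrict K = 0 := a.ext fun i => hk i
  exact LinearMap.congr_fun h0 ⟨u, hu⟩

variable [Finite F]

/-- The hyperbolic stratum. -/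
theorem card_lag (j : ℕ) :
    cntNil (0 : F) 1 1 (X ^ 2 + X) (lagForm F j) * Nat.card (GL (Fin j) F) =
      Nat.card (isoGrp (lagForm F j)) *
        Nat.card {N : Matrix (Fin j) (Fin j) F // IsNilpotent N} := by
  classical
  let _ : Fintype F := Fintype.ofFinite F
  set B := lagForm F j with hB
  have hsymp : Symp B := lagForm_symp j
  have hdot : ∀ (N : Matrix (Fin j) (Fin j) F) x y, x ⬝ᵥ (Nᵀ *ᵥ y) = (N *ᵥ x) ⬝ᵥ y := fun N x y => by
    rw [Matrix.dotProduct_mulVec, Matrix.vecMul_transpose]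
  let mk : Matrix (Fin j) (Fin j) F → End F ((Fin j → F) × (Fin j → F)) := fun N =>
    LinearMap.prodMap (Matrix.toLin' N) (Matrix.toLin' (-1 - Nᵀ))
  let X' : Set (End F ((Fin j → F) × (Fin j → F))) :=
    {f | Cond (0 : F) 1 1 B f ∧ IsNilpotent (aeval f (X ^ 2 + X : F[X]))}
  let S : Set (End F ((Fin j → F) × (Fin j → F))) :=
    Set.range fun N : {N : Matrix (Fin j) (Fin j) F // IsNilpotent N} => mk N.1
  have hScard : Nat.card S = Nat.card {N : Matrix (Fin j) (Fin j) F // IsNilpotent N} := by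
    refine Nat.card_range_of_injective fun N N' e => Subtype.ext (Matrix.toLin'.injective (LinearMap.ext fun x => ?_))
    simpa [mk] using congrArg Prod.fst (LinearMap.congr_fun e (x, 0))
  have hcond : ∀ (f : End F ((Fin j → F) × (Fin j → F))), Cond (0 : F) 1 1 B f ↔
      ∀ z w, B (f z) w + B z (f w) + 1 * B z w = 0 := fun f =>
    forall₂_congr fun z w => by rw [zero_mul, zero_add, one_mul, one_mul]
  have hmkS : ∀ (f₁ f₂ : End F (Fin j → F)), Cond (0 : F) 1 1 B (LinearMap.prodMap f₁ f₂) →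
      IsNilpotent f₁ → LinearMap.prodMap f₁ f₂ ∈ S := by
    intro f₁ f₂ hc hn
    refine ⟨⟨LinearMap.toMatrix' f₁, hn.map LinearMap.toMatrixAlgEquiv'⟩, ?_⟩
    show LinearMap.prodMap _ _ = LinearMap.prodMap f₁ f₂
    rw [Matrix.toLin'_toMatrix']
    congr 1
    refine LinearMap.ext fun y => (sub_eq_zero.1 (dotProduct_eq_zero _ fun x => ?_)).symm
    have h := (hcond _).1 hc (x, 0) (0, y)
    simp only [hB, lagForm_apply, LinearMap.prodMap_apply, map_zero,
      dotProduct_zero, sub_zero, one_mul] at h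
    rw [← LinearMap.toMatrix'_mulVec f₁ x, ← hdot] at h
    rw [dotProduct_comm, Matrix.toLin'_apply, Matrix.sub_mulVec, Matrix.neg_mulVec,
      Matrix.one_mulVec, dotProduct_sub, dotProduct_sub, dotProduct_neg]
    linear_combination h
  let tr : GL (Fin j) F → ((Fin j → F) × (Fin j → F)) ≃ₗ[F] ((Fin j → F) × (Fin j → F)) :=
    fun a => LinearEquiv.prodCongr
      (Matrix.toLin'OfInv (M := ((a⁻¹ : GL (Fin j) F) : Matrix (Fin j) (Fin j) F)) (M' := (a : Matrix (Fin j) (Fin j) F))
        (Units.inv_mul a) (Units.mul_inv a))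
      (Matrix.toLin'OfInv (M := (a : Matrix (Fin j) (Fin j) F)ᵀ) (M' := ((a⁻¹ : GL (Fin j) F) : Matrix (Fin j) (Fin j) F)ᵀ)
        (by rw [← Matrix.transpose_mul, Units.inv_mul, Matrix.transpose_one])
        (by rw [← Matrix.transpose_mul, Units.mul_inv, Matrix.transpose_one]))
  have htr : ∀ a z, tr a z = ((a : Matrix (Fin j) (Fin j) F) *ᵥ z.1,
      ((a⁻¹ : GL (Fin j) F) : Matrix (Fin j) (Fin j) F)ᵀ *ᵥ z.2) := fun a z => by
    simp [tr, Matrix.toLin'OfInv]
  let H : Subgroup (isoGrp B) :=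
    { carrier := {g | ∃ a, g.1 = tr a}
      mul_mem' := fun {g g'} ⟨a, ha⟩ ⟨b, hb⟩ => ⟨a * b, LinearEquiv.ext fun z => by
        show g.1 (g'.1 z) = _
        rw [ha, hb, htr, htr, htr, Matrix.mulVec_mulVec, Matrix.mulVec_mulVec, ← Matrix.transpose_mul,
          ← Units.val_mul, ← Units.val_mul, _root_.mul_inv_rev]⟩
      one_mem' := ⟨1, LinearEquiv.ext fun z => by rw [htr, inv_one]; simp⟩
      inv_mem' := fun {g} ⟨a, ha⟩ => ⟨a⁻¹, by
        refine LinearEquiv.ext fun z => g.1.injective ?_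
        show g.1 (g.1.symm z) = g.1 (tr a⁻¹ z)
        rw [LinearEquiv.apply_symm_apply, ha, htr, htr, inv_inv, Matrix.mulVec_mulVec,
          Matrix.mulVec_mulVec, ← Matrix.transpose_mul, ← Units.val_mul,
          mul_inv_cancel, Units.val_one, Matrix.transpose_one, Matrix.one_mulVec, Matrix.one_mulVec]⟩ }
  have htrB : ∀ a z w, B (tr a z) (tr a w) = B z w := fun a z w => by
    simp only [hB, lagForm_apply, htr]
    rw [hdot, dotProduct_comm (((a⁻¹ : GL (Fin j) F) : Matrix (Fin j) (Fin j) F)ᵀ *ᵥ z.2), hdot,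
      Matrix.mulVec_mulVec, Matrix.mulVec_mulVec, Units.inv_mul, Matrix.one_mulVec,
      Matrix.one_mulVec, dotProduct_comm w.1]
  have hHcard : Nat.card H = Nat.card (GL (Fin j) F) := by
    refine (Nat.card_eq_of_bijective (fun a => (⟨⟨tr a, htrB a⟩, a, rfl⟩ : H)) ⟨?_, ?_⟩).symm
    · intro a b e
      refine Units.ext (Matrix.toLin'.injective (LinearMap.ext fun x => ?_))
      have := congrArg (fun g : H => (g.1.1 (x, 0)).1) e
      simpa [htr] using this
    · rintro ⟨⟨g, hg⟩, a, ha⟩
      exact ⟨a, Subtype.ext (Subtype.ext ha.symm)⟩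
  have hHblock : ∀ g : isoGrp B, (∀ x, (g.1 (x, 0)).2 = 0) → (∀ y, (g.1 (0, y)).1 = 0) → g ∈ H := by
    intro g hl hr
    let g₁ : End F (Fin j → F) :=
      LinearMap.fst F _ _ ∘ₗ (g.1 : End F ((Fin j → F) × (Fin j → F))) ∘ₗ LinearMap.inl F _ _
    let g₂ : End F (Fin j → F) :=
      LinearMap.snd F _ _ ∘ₗ (g.1 : End F ((Fin j → F) × (Fin j → F))) ∘ₗ LinearMap.inr F _ _
    have e₁ : ∀ x, g.1 (x, 0) = (g₁ x, 0) := fun x => Prod.ext rfl (hl x)
    have e₂ : ∀ y, g.1 (0, y) = (0, g₂ y) := fun y => Prod.ext (hr y) rfl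
    have hp : ∀ x y, (LinearMap.toMatrix' g₁ *ᵥ x) ⬝ᵥ g₂ y = x ⬝ᵥ y := fun x y => by
      have := g.2 (x, 0) (0, y)
      rw [e₁, e₂] at this
      simpa [hB, LinearMap.toMatrix'_mulVec] using this
    have h12 : (LinearMap.toMatrix' g₁)ᵀ * LinearMap.toMatrix' g₂ = 1 := by
      refine Matrix.toLin'.injective (LinearMap.ext fun y => ?_)
      rw [Matrix.toLin'_apply, Matrix.toLin'_apply, Matrix.one_mulVec, ← Matrix.mulVec_mulVec,
        LinearMap.toMatrix'_mulVec g₂]
      refine sub_eq_zero.1 (dotProduct_eq_zero _ fun x => ?_)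
      rw [dotProduct_comm, dotProduct_sub, hdot, hp, sub_self]
    have h21 : LinearMap.toMatrix' g₂ * (LinearMap.toMatrix' g₁)ᵀ = 1 := mul_eq_one_comm.1 h12
    have h3 : LinearMap.toMatrix' g₁ * (LinearMap.toMatrix' g₂)ᵀ = 1 := by
      rw [← Matrix.transpose_transpose (LinearMap.toMatrix' g₁), ← Matrix.transpose_mul, h21,
        Matrix.transpose_one]
    let a : GL (Fin j) F := ⟨LinearMap.toMatrix' g₁, (LinearMap.toMatrix' g₂)ᵀ, h3, mul_eq_one_comm.1 h3⟩
    refine ⟨a, LinearEquiv.ext fun z => ?_⟩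
    rw [htr]
    show g.1 z = (LinearMap.toMatrix' g₁ *ᵥ z.1, (LinearMap.toMatrix' g₂)ᵀᵀ *ᵥ z.2)
    rw [Matrix.transpose_transpose, LinearMap.toMatrix'_mulVec, LinearMap.toMatrix'_mulVec]
    conv_lhs => rw [show z = (z.1, 0) + (0, z.2) by simp, map_add, e₁, e₂]
    simp
  have hpi : ∀ f : End F ((Fin j → F) × (Fin j → F)),
      aeval f (X ^ 2 + X : F[X]) = f * (f + 1) := fun f => by
    rw [map_add, map_pow, aeval_X, mul_add, mul_one, sq]
  show Nat.card X' * _ = _
  rw [← hScard, ← hHcard]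
  refine card_slice (fun g f => g.1.conj f) (fun f => LinearMap.ext fun z => rfl)
    (fun g g' f => conj_mul' g.1 g'.1 f) X' S H ?_ ?_ ?_ ?_ ?_
  · rintro _ ⟨⟨N, hN⟩, rfl⟩
    refine ⟨(hcond _).2 fun z w => ?_, ?_⟩
    · simp only [hB, lagForm_apply, mk, LinearMap.prodMap_apply, Matrix.toLin'_apply,
        Matrix.sub_mulVec, Matrix.neg_mulVec, Matrix.one_mulVec, dotProduct_sub, sub_dotProduct,
        dotProduct_neg, neg_dotProduct, hdot]
      rw [dotProduct_comm (Nᵀ *ᵥ z.2), hdot, dotProduct_comm (N *ᵥ w.1)]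
      ring
    · show IsNilpotent (aeval (mk N) (X ^ 2 + X : F[X]))
      rw [prodMap_aeval]
      have h1 : ∀ M : Matrix (Fin j) (Fin j) F,
          aeval (Matrix.toLin' M) (X ^ 2 + X : F[X]) = Matrix.toLinAlgEquiv' (M * (M + 1)) := fun M => by
        rw [show Matrix.toLin' M = Matrix.toLinAlgEquiv' M from rfl, map_add, map_pow, aeval_X, sq,
          mul_add, mul_one, map_add, map_mul]
      have n1 : IsNilpotent (N * (N + 1)) :=
        ((Commute.refl N).add_right (Commute.one_right N)).isNilpotent_mul_right hN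
      have n2 : IsNilpotent ((-1 - Nᵀ) * (-1 - Nᵀ + 1)) := by
        have hNt : IsNilpotent Nᵀ := hN.imp fun k hk => by rw [← Matrix.transpose_pow, hk, Matrix.transpose_zero]
        rw [show (-1 - Nᵀ) * (-1 - Nᵀ + 1) = Nᵀ * (Nᵀ + 1) by noncomm_ring]
        exact ((Commute.refl Nᵀ).add_right (Commute.one_right Nᵀ)).isNilpotent_mul_right hNt
      rw [h1, h1]
      exact (show IsNilpotent ((Matrix.toLinAlgEquiv' (N * (N + 1)),
        Matrix.toLinAlgEquiv' ((-1 - Nᵀ) * (-1 - Nᵀ + 1))) :
          End F (Fin j → F) × End F (Fin j → F)) from by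
        obtain ⟨a, ha⟩ := n1.map Matrix.toLinAlgEquiv'
        obtain ⟨b, hb⟩ := n2.map Matrix.toLinAlgEquiv'
        exact ⟨a + b, Prod.ext (pow_eq_zero_of_le (Nat.le_add_right _ _) ha)
          (pow_eq_zero_of_le (Nat.le_add_left _ _) hb)⟩).map
        (LinearMap.prodMapAlgHom F (Fin j → F) (Fin j → F))
  · rintro g f ⟨hc, hn⟩
    refine ⟨(Cond.conj_iff (fun x y => g.2 x y) f).2 hc, ?_⟩
    rw [conj_aeval]
    exact hn.map (g.1.conjAlgEquiv F)
  · rintro f ⟨hc, hn⟩
    rw [hpi] at hn
    set n := finrank F ((Fin j → F) × (Fin j → F)) with hndef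
    have hdim : n = j + j := by simp [hndef]
    set K := LinearMap.ker (f ^ n) with hKdef
    set L := LinearMap.range (f ^ n) with hLdef
    have hKL : IsCompl K L := fitting f
    have hrel := (hcond f).1 hc
    have hKiso : ∀ x ∈ K, ∀ y ∈ K, B x y = 0 := fun x hx y hy =>
      isotropic one_ne_zero hrel (n + n) n n x y rfl hx hy
    have hLker : ∀ x ∈ L, ((f + 1) ^ n) x = 0 := by
      rintro _ ⟨w, rfl⟩
      obtain ⟨k, hk⟩ := hn
      have h0 : (f * (f + 1)) ^ n = 0 := by
        have h := (LinearMap.charpoly_nilpotent_tfae (f * (f + 1))).out 0 1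
        rw [← LinearMap.aeval_self_charpoly (f * (f + 1)), h.1 ⟨k, hk⟩, map_pow, aeval_X]
      rw [((Commute.refl f).add_right (Commute.one_right f)).mul_pow,
        (((Commute.refl f).add_right (Commute.one_right f)).pow_pow n n).eq] at h0
      exact LinearMap.congr_fun h0 w
    have hrel' : ∀ x y, B ((f + 1) x) y + B x ((f + 1) y) + (-1) * B x y = 0 := fun x y => by
      have := hrel x y
      simp only [LinearMap.add_apply, End.one_apply, map_add]
      linear_combination this
    have hLiso : ∀ x ∈ L, ∀ y ∈ L, B x y = 0 := fun x hx y hy =>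
      isotropic (neg_ne_zero.2 one_ne_zero) hrel' (n + n) n n x y rfl (hLker x hx) (hLker y hy)
    have hle1 : finrank F L ≤ finrank F K := by
      let a := finBasis F K
      let D : L →ₗ[F] (Fin (finrank F K) → F) :=
        LinearMap.pi fun i => (B (a i : (Fin j → F) × (Fin j → F))).comp L.subtype
      have hD : Function.Injective D := (injective_iff_map_eq_zero D).2 fun k hk =>
        dual_le hsymp hKL hLiso a k fun i => congrFun hk i
      simpa using LinearMap.finrank_le_finrank_of_injective hD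
    have hle2 : finrank F K ≤ finrank F L := by
      let a := finBasis F L
      let D : K →ₗ[F] (Fin (finrank F L) → F) :=
        LinearMap.pi fun i => (B (a i : (Fin j → F) × (Fin j → F))).comp K.subtype
      have hD : Function.Injective D := (injective_iff_map_eq_zero D).2 fun k hk =>
        dual_le hsymp hKL.symm hKiso a k fun i => congrFun hk i
      simpa using LinearMap.finrank_le_finrank_of_injective hD
    have hsum := LinearMap.finrank_range_add_finrank_ker (f ^ n)
    rw [← hKdef, ← hLdef, ← hndef] at hsum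
    have hKj : finrank F K = j := by omega
    have hLj : finrank F L = j := by omega
    let a := finBasisOfFinrankEq F K hKj
    let D : L →ₗ[F] (Fin j → F) :=
      LinearMap.pi fun i => (B (a i : (Fin j → F) × (Fin j → F))).comp L.subtype
    have hD : Function.Injective D := (injective_iff_map_eq_zero D).2 fun k hk =>
      dual_le hsymp hKL hLiso a k fun i => congrFun hk i
    let De : L ≃ₗ[F] (Fin j → F) :=
      LinearMap.linearEquivOfInjective D hD (by rw [hLj, finrank_fin_fun])
    let e : ((Fin j → F) × (Fin j → F)) ≃ₗ[F] ((Fin j → F) × (Fin j → F)) :=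
      (a.equivFun.symm.prodCongr De.symm).trans (Submodule.prodEquivOfIsCompl K L hKL)
    have hev : ∀ x y, e (x, y) = (a.equivFun.symm x : (Fin j → F) × (Fin j → F)) + De.symm y :=
      fun x y => by simp [e]
    have hpair : ∀ x y, B (a.equivFun.symm x : (Fin j → F) × (Fin j → F)) (De.symm y : (Fin j → F) × (Fin j → F)) = x ⬝ᵥ y := by
      intro x y
      rw [a.equivFun_symm_apply, Submodule.coe_sum, map_sum, LinearMap.sum_apply]
      refine Finset.sum_congr rfl fun i _ => ?_
      rw [Submodule.coe_smul, map_smul, LinearMap.smul_apply, smul_eq_mul]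
      congr 1
      exact congrFun (De.apply_symm_apply y) i
    have he : ∀ z w, B (e z) (e w) = B z w := by
      rintro ⟨x, y⟩ ⟨x', y'⟩
      rw [hev, hev, map_add, map_add, LinearMap.add_apply, LinearMap.add_apply,
        hKiso _ (a.equivFun.symm x).2 _ (a.equivFun.symm x').2,
        hLiso _ (De.symm y).2 _ (De.symm y').2,
        ← hsymp.alt.neg_eq (a.equivFun.symm x' : (Fin j → F) × (Fin j → F)) (De.symm y : (Fin j → F) × (Fin j → F)),
        hpair, hpair]
      simp only [hB, lagForm_apply]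
      rw [dotProduct_comm y x']
      ring
    have hfK : ∀ z ∈ K, f z ∈ K := fun z hz => by
      rw [hKdef, LinearMap.mem_ker] at hz ⊢
      rw [← End.mul_apply, (Commute.pow_self f n).eq, End.mul_apply, hz, map_zero]
    have hfL : ∀ z ∈ L, f z ∈ L := by
      rintro _ ⟨w, rfl⟩
      exact ⟨f w, by rw [← End.mul_apply, (Commute.pow_self f n).eq, End.mul_apply]⟩
    set f' := e.symm.conj f with hf'
    have hinl : ∀ z ∈ K, (e.symm z).2 = 0 := fun z hz => by
      have hzz : e (a.equivFun ⟨z, hz⟩, 0) = z := by rw [hev]; simp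
      conv_lhs => rw [← hzz, LinearEquiv.symm_apply_apply]
    have hinr : ∀ z ∈ L, (e.symm z).1 = 0 := fun z hz => by
      have hzz : e (0, De ⟨z, hz⟩) = z := by rw [hev]; simp
      conv_lhs => rw [← hzz, LinearEquiv.symm_apply_apply]
    let f₁ : End F (Fin j → F) := LinearMap.fst F _ _ ∘ₗ f' ∘ₗ LinearMap.inl F _ _
    let f₂ : End F (Fin j → F) := LinearMap.snd F _ _ ∘ₗ f' ∘ₗ LinearMap.inr F _ _
    have hsplit : f' = LinearMap.prodMap f₁ f₂ := by
      refine LinearMap.prod_ext (LinearMap.ext fun x => ?_) (LinearMap.ext fun y => ?_)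
      · show f' (x, 0) = (f₁ x, f₂ 0)
        rw [map_zero]
        refine Prod.ext rfl ?_
        exact hinl _ (hfK _ (by show e (x, 0) ∈ K; rw [hev, map_zero, Submodule.coe_zero, add_zero]; exact SetLike.coe_mem _))
      · show f' (0, y) = (f₁ 0, f₂ y)
        rw [map_zero]
        refine Prod.ext ?_ rfl
        exact hinr _ (hfL _ (by show e (0, y) ∈ L; rw [hev, map_zero, Submodule.coe_zero, zero_add]; exact SetLike.coe_mem _))
    refine ⟨⟨e, he⟩, f', ?_, ?_⟩
    · rw [hsplit]
      refine hmkS _ _ ?_ ⟨n, LinearMap.ext fun x => ?_⟩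
      · rw [← hsplit, hf', Cond.conj_iff (B₁ := B)]
        · exact hc
        · intro z w; rw [← he (e.symm z) (e.symm w), e.apply_symm_apply, e.apply_symm_apply]
      · have h1 : ((f' ^ n) (x, 0)).1 = ((LinearMap.prodMap f₁ f₂ ^ n) (x, 0)).1 := by rw [hsplit]
        rw [prodMap_pow', hf', conj_pow'] at h1
        simp only [LinearMap.prodMap_apply, LinearEquiv.conj_apply_apply] at h1
        rw [show e.symm.symm (x, 0) = e (x, 0) from rfl, hev, map_zero, Submodule.coe_zero, add_zero,
          LinearMap.mem_ker.1 (a.equivFun.symm x).2, map_zero] at h1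
        exact h1.symm
    · show e.conj (e.symm.conj f) = f
      exact LinearMap.ext fun z => by simp [LinearEquiv.conj_apply]
  · rintro g ⟨a, ha⟩ _ ⟨⟨N, hN⟩, rfl⟩
    have h1 : g.1.conj (mk N) = mk ((a : Matrix (Fin j) (Fin j) F) * N *
        ((a⁻¹ : GL (Fin j) F) : Matrix (Fin j) (Fin j) F)) := by
      refine LinearMap.ext fun z => ?_
      obtain ⟨w, rfl⟩ := g.1.surjective z
      rw [LinearEquiv.conj_apply_apply, LinearEquiv.symm_apply_apply, ha]
      simp only [mk, LinearMap.prodMap_apply, htr, Matrix.toLin'_apply, Matrix.mulVec_mulVec,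
        Matrix.transpose_mul, Matrix.mul_sub, Matrix.sub_mul, Matrix.mul_neg, Matrix.neg_mul,
        Matrix.mul_one, Matrix.one_mul, Matrix.mul_assoc, Units.inv_mul]
      congr 3
      rw [← Matrix.transpose_mul ((a⁻¹ : GL (Fin j) F) : Matrix (Fin j) (Fin j) F), Units.inv_mul]
      simp
    show g.1.conj (mk N) ∈ S
    rw [h1]
    exact ⟨⟨_, hN.imp fun k hk => by rw [Units.conj_pow, hk, mul_zero, zero_mul]⟩, rfl⟩
  · rintro g _ ⟨⟨N, hN⟩, rfl⟩ ⟨⟨N', hN'⟩, he⟩
    have hpow : ∀ M : Matrix (Fin j) (Fin j) F, IsNilpotent M → Matrix.toLin' M ^ j = 0 := fun M hM => by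
      have h := (LinearMap.charpoly_nilpotent_tfae (Matrix.toLin' M)).out 0 1
      have h2 := h.1 (hM.map Matrix.toLinAlgEquiv')
      rw [finrank_fin_fun] at h2
      rw [← LinearMap.aeval_self_charpoly (Matrix.toLin' M), h2, map_pow, aeval_X]
    have hinj : ∀ M : Matrix (Fin j) (Fin j) F, IsNilpotent M →
        Function.Injective (Matrix.toLin' (-1 - Mᵀ)) := fun M hM => by
      rw [Matrix.toLin'_apply', Matrix.coe_mulVecLin, Matrix.mulVec_injective_iff_isUnit,
        show -1 - Mᵀ = -(1 + Mᵀ) by abel]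
      exact (IsNilpotent.isUnit_one_add (hM.imp fun k hk => by
        rw [← Matrix.transpose_pow, hk, Matrix.transpose_zero])).neg
    obtain ⟨hl, hr⟩ := intertwine_split (hpow N hN) (hpow N' hN') (hinj N hN) (hinj N' hN')
      (g.1 : End F ((Fin j → F) × (Fin j → F))) (by
        have he' : g.1.conj (mk N) = mk N' := he.symm
        show _ = mk N' * _
        rw [← he']
        exact LinearMap.ext fun z => by simp [LinearEquiv.conj_apply, End.mul_apply, mk])
    exact hHblock g hl hr

end CfsgLib.SympCount
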