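import Mathlib

/-!
Lower bound on the degree of a faithful representation of a symplectic group in natural
characteristic, from the permutations and sign changes of a torus.
-/

set_option autoImplicit false

namespace CfsgLib.Classical.SympMinDegree

section Weights

variable {K V : Type*} [Field K] [AddCommGroup V] [Module K V] {n : ℕ}

/-- Joint eigenvalues. -/
def IsWeight (A : Fin n → Module.End K V) (μ : Fin n → K) : Prop :=
  ∃ v, v ≠ 0 ∧ ∀ i, A i v = μ i • v

theorem linearIndependent_weights {ι : Type*} (A : Fin n → Module.End K V) (μ : ι → Fin n → K)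
    (hμ : Function.Injective μ) (v : ι → V) (hv : ∀ j, v j ≠ 0)
    (hA : ∀ j i, A i (v j) = μ j i • v j) : LinearIndependent K v := by
  classical
  let χ : ι → (FreeMonoid (Fin n) →* K) := fun j => FreeMonoid.lift (μ j)
  have hχ : Function.Injective χ := fun a b h => hμ (funext fun i => by
    simpa [χ] using DFunLike.congr_fun h (FreeMonoid.of i))
  have hop : ∀ (s : FreeMonoid (Fin n)) (j : ι), FreeMonoid.lift A s (v j) = χ j s • v j := by
    intro s j
    induction s using FreeMonoid.recOn with
    | one => simp [χ]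
    | of_mul i s hs =>
      rw [map_mul, Module.End.mul_apply, hs, map_smul, map_mul, mul_comm (χ j (FreeMonoid.of i)), mul_smul]
      congr 1
      simp [χ, hA j i]
  rw [linearIndependent_iff']
  intro t a ha j hj
  have key : a j • v j = 0 := by
    refine (Module.forall_dual_apply_eq_zero_iff K _).mp fun f => ?_
    have h0 : ∑ k ∈ t, (a k * f (v k)) • (χ k : FreeMonoid (Fin n) → K) = 0 := by
      funext s
      have h1 := congrArg f (congrArg (FreeMonoid.lift A s) ha)
      simp only [map_sum, map_smul, hop, map_zero, smul_eq_mul] at h1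
      rw [Finset.sum_apply, Pi.zero_apply, ← h1]
      refine Finset.sum_congr rfl fun k _ => ?_
      simp only [Pi.smul_apply, smul_eq_mul]
      ring
    have h2 := linearIndependent_iff'.mp
      ((linearIndependent_monoidHom (FreeMonoid (Fin n)) K).comp χ hχ) t (fun k => a k * f (v k)) h0 j hj
    simpa using h2
  exact (smul_eq_zero.mp key).resolve_right (hv j)

theorem card_le_finrank [FiniteDimensional K V] {ι : Type*} [Fintype ι] (A : Fin n → Module.End K V)
    (μ : ι → Fin n → K) (hμ : Function.Injective μ) (hA : ∀ j, IsWeight A (μ j)) :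
    Fintype.card ι ≤ Module.finrank K V := by
  choose v hv hvA using hA
  exact (linearIndependent_weights A μ hμ v hv hvA).fintype_card_le_finrank

theorem choose_ge : ∀ n k : ℕ, 1 ≤ k → k < n → n ≤ n.choose k := by
  intro n
  induction n with
  | zero => omega
  | succ n ih =>
    intro k hk hkn
    obtain ⟨k, rfl⟩ := Nat.exists_eq_add_of_le' hk
    rw [Nat.choose_succ_succ]
    by_cases h : k + 1 = n
    · subst h
      rw [Nat.choose_succ_self_right, Nat.choose_self]
    · have h1 := ih (k + 1) (by omega) (by omega)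
      have h2 := Nat.choose_pos (show k ≤ n by omega)
      show n + 1 ≤ n.choose k + n.choose (k + 1)
      omega

theorem two_mul_le_finrank [FiniteDimensional K V] (A : Fin n → Module.End K V)
    (hperm : ∀ μ, IsWeight A μ → ∀ π : Equiv.Perm (Fin n), IsWeight A (μ ∘ π))
    (hflip : ∀ μ, IsWeight A μ → ∀ i, IsWeight A (Function.update μ i (μ i)⁻¹))
    {μ : Fin n → K} (hμ : IsWeight A μ) {i₀ : Fin n} (hi₀ : μ i₀ ≠ (μ i₀)⁻¹) :
    2 * n ≤ Module.finrank K V := by
  classical
  let fl : Finset (Fin n) → (Fin n → K) → Fin n → K := fun s ν i => if i ∈ s then (ν i)⁻¹ else ν i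
  have hfl : ∀ s ν, IsWeight A ν → IsWeight A (fl s ν) := by
    intro s ν hν
    induction s using Finset.induction_on with
    | empty => simpa [fl] using hν
    | insert a s ha ih =>
      have := hflip _ ih a
      convert this using 1
      funext i
      by_cases hi : i = a
      · subst hi; simp [fl, ha]
      · simp [fl, hi, Function.update_of_ne hi]
  set S := Finset.univ.filter fun i => μ i ≠ (μ i)⁻¹ with hS
  have hk1 : 1 ≤ S.card := Finset.card_pos.mpr ⟨i₀, by simp [hS, hi₀]⟩
  have hSn : S.card ≤ n := by simpa using S.card_le_univ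
  by_cases hk : S.card = n
  · have hall : ∀ i, μ i ≠ (μ i)⁻¹ := by
      intro i
      have : S = Finset.univ := Finset.eq_univ_of_card S (by simpa using hk)
      have hi := Finset.mem_univ i
      rw [← this] at hi
      simpa [hS] using hi
    have hinj : Function.Injective fun s => fl s μ := by
      intro s t h
      ext i
      have := congrFun h i
      by_cases h1 : i ∈ s <;> by_cases h2 : i ∈ t <;> simp [fl, h1, h2] at this ⊢
      · exact hall i this.symm
      · exact hall i this
    have := card_le_finrank A _ hinj fun s => hfl s μ hμ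
    rw [Fintype.card_finset, Fintype.card_fin] at this
    refine le_trans ?_ this
    obtain ⟨m, hm⟩ : ∃ m, n = m + 1 := ⟨n - 1, by omega⟩
    have := Nat.lt_two_pow_self (n := m)
    rw [hm, pow_succ]
    omega
  · have hperms : ∀ B : {B : Finset (Fin n) // B.card = S.card}, ∃ π : Equiv.Perm (Fin n),
        ∀ i, i ∈ B.1 ↔ π i ∈ S := by
      intro B
      let e : {i // i ∈ B.1} ≃ {i // i ∈ S} := Fintype.equivOfCardEq (by simp [B.2])
      refine ⟨e.extendSubtype, fun i => ⟨fun h => e.extendSubtype_mem i h, fun h => ?_⟩⟩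
      by_contra h'
      exact e.extendSubtype_not_mem i h' h
    choose π hπ using hperms
    have hne : ∀ B : {B : Finset (Fin n) // B.card = S.card}, B.1.Nonempty := fun B =>
      Finset.card_pos.mp (by rw [B.2]; omega)
    let W : {B : Finset (Fin n) // B.card = S.card} × Bool → Fin n → K := fun x =>
      fl (if x.2 then {(hne x.1).choose} else ∅) (μ ∘ π x.1)
    have hsupp : ∀ x i, i ∈ x.1.1 ↔ W x i ≠ (W x i)⁻¹ := by
      intro x i
      rw [hπ x.1 i]
      have : ∀ y : K, y⁻¹ ≠ y ↔ y ≠ y⁻¹ := fun y => ne_comm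
      simp only [W, fl, hS, Finset.mem_filter, Finset.mem_univ, true_and, Function.comp_apply]
      split_ifs <;> simp [this]
    have hinj : Function.Injective W := by
      intro x y h
      have h1 : x.1 = y.1 := Subtype.ext (Finset.ext fun i => by rw [hsupp, hsupp, h])
      refine Prod.ext h1 ?_
      obtain ⟨B, a⟩ := x
      obtain ⟨C, b⟩ := y
      simp only at h1
      subst h1
      have hmem := (hne B).choose_spec
      have h2 := congrFun h (hne B).choose
      have h3 : μ (π B (hne B).choose) ≠ (μ (π B (hne B).choose))⁻¹ := by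
        simpa [hS] using (hπ B _).mp hmem
      rcases a <;> rcases b <;> simp [W, fl] at h2 ⊢
      · exact h3 h2
      · exact h3 h2.symm
    have := card_le_finrank A W hinj fun x => hfl _ _ (hperm μ hμ _)
    rw [Fintype.card_prod, Fintype.card_bool, Fintype.card_finset_len, Fintype.card_fin] at this
    have := choose_ge n S.card hk1 (by omega)
    omega

theorem exists_weight [IsAlgClosed K] [FiniteDimensional K V] (A : Fin n → Module.End K V)
    (hA : ∀ i j, Commute (A i) (A j)) (i₀ : Fin n) (c : K) {w : V} (hw : w ≠ 0)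
    (hc : A i₀ w = c • w) : ∃ μ, IsWeight A μ ∧ μ i₀ = c := by
  classical
  suffices h : ∀ s : Finset (Fin n), ∃ v, v ≠ 0 ∧ A i₀ v = c • v ∧ ∃ μ : Fin n → K, ∀ i ∈ s, A i v = μ i • v by
    obtain ⟨v, hv, hvc, μ, hμ⟩ := h Finset.univ
    refine ⟨μ, ⟨v, hv, fun i => hμ i (Finset.mem_univ i)⟩, ?_⟩
    have := (hμ i₀ (Finset.mem_univ _)).symm.trans hvc
    exact smul_left_injective K hv this
  intro s
  induction s using Finset.induction_on with
  | empty => exact ⟨w, hw, hc, 0, by simp⟩
  | insert a s ha ih =>
    obtain ⟨v, hv, hvc, μ, hμ⟩ := ih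
    let E : Submodule K V := Module.End.eigenspace (A i₀) c ⊓ ⨅ i ∈ s, Module.End.eigenspace (A i) (μ i)
    have hE : ∀ x, x ∈ E ↔ A i₀ x = c • x ∧ ∀ i ∈ s, A i x = μ i • x := by
      intro x
      simp [E, Submodule.mem_iInf, Module.End.mem_eigenspace_iff]
    have hinv : ∀ x ∈ E, A a x ∈ E := by
      intro x hx
      rw [hE] at hx ⊢
      constructor
      · rw [← Module.End.mul_apply, (hA i₀ a).eq, Module.End.mul_apply, hx.1, map_smul]
      · intro i hi
        rw [← Module.End.mul_apply, (hA i a).eq, Module.End.mul_apply, hx.2 i hi, map_smul]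
    haveI : Nontrivial E := Submodule.nontrivial_iff_ne_bot.mpr fun h => hv (by
      have : v ∈ E := (hE v).mpr ⟨hvc, hμ⟩
      rw [h] at this
      exact (Submodule.mem_bot K).mp this)
    obtain ⟨l, hl⟩ := Module.End.exists_eigenvalue ((A a).restrict hinv)
    obtain ⟨x, hx⟩ := hl.exists_hasEigenvector
    refine ⟨x, fun h => hx.2 (Subtype.ext h), ((hE _).mp x.2).1, Function.update μ a l, fun i hi => ?_⟩
    rcases Finset.mem_insert.mp hi with rfl | hi'
    · rw [Function.update_self]
      exact congrArg Subtype.val hx.apply_eq_smul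
    · rw [Function.update_of_ne (by rintro rfl; exact ha hi')]
      exact ((hE _).mp x.2).2 i hi'

theorem sq_one_of_eq_inv {r : K} (hr : r ≠ 0) (h : r = r⁻¹) : r * r = 1 := by
  nth_rewrite 2 [h]
  exact mul_inv_cancel₀ hr

theorem exists_eigen (T : Module.End K V) (a b : K) {v : V} (hv : v ≠ 0)
    (h : T (T v) - (a + b) • T v + (a * b) • v = 0) :
    ∃ c, (c = a ∨ c = b) ∧ ∃ w, w ≠ 0 ∧ T w = c • w := by
  by_cases h0 : T v - a • v = 0
  · exact ⟨a, Or.inl rfl, v, hv, sub_eq_zero.mp h0⟩
  · refine ⟨b, Or.inr rfl, _, h0, ?_⟩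
    rw [← sub_eq_zero, map_sub, map_smul, ← h]
    module

end Weights

section Symplectic

open Matrix

variable {F : Type*} [Field F] {n : ℕ}

/-- Direct sum of `n` copies of `SL₂`. -/
def blk (g : Fin n → Matrix.SpecialLinearGroup (Fin 2) F) : Matrix (Fin n ⊕ Fin n) (Fin n ⊕ Fin n) F :=
  fromBlocks (diagonal fun i => g i 0 0) (diagonal fun i => g i 0 1)
    (diagonal fun i => g i 1 0) (diagonal fun i => g i 1 1)

theorem blk_mem (g : Fin n → Matrix.SpecialLinearGroup (Fin 2) F) : blk g ∈ symplecticGroup (Fin n) F := by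
  have hd : ∀ i, g i 0 0 * g i 1 1 - g i 0 1 * g i 1 0 = 1 := fun i => by
    rw [← Matrix.det_fin_two]
    exact (g i).2
  rw [SymplecticGroup.mem_iff, blk, J, fromBlocks_transpose, fromBlocks_multiply, fromBlocks_multiply]
  simp only [Matrix.mul_zero, Matrix.mul_one, Matrix.mul_neg, zero_add, add_zero, diagonal_transpose,
    diagonal_mul_diagonal, diagonal_neg, diagonal_add, Matrix.neg_mul]
  rw [← diagonal_one, ← diagonal_zero, diagonal_neg]
  congr 1 <;> congr 1 <;> funext i <;>
    first
      | linear_combination hd i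
      | linear_combination -(hd i)
      | (simp; linear_combination hd i)
      | (simp; linear_combination -(hd i))
      | (simp; linear_combination (0 : F))
      | linear_combination (0 : F)

/-- Direct sum of `n` copies of `SL₂`, as a homomorphism. -/
def blkHom : (Fin n → Matrix.SpecialLinearGroup (Fin 2) F) →* symplecticGroup (Fin n) F where
  toFun g := ⟨blk g, blk_mem g⟩
  map_one' := by
    apply Subtype.ext
    show blk 1 = 1
    simp [blk]
  map_mul' g h := by
    apply Subtype.ext
    show blk (g * h) = blk g * blk h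
    simp only [blk, fromBlocks_multiply, diagonal_mul_diagonal, diagonal_add]
    congr 1 <;> congr 1 <;> funext i <;>
      simp [Matrix.mul_apply, Fin.sum_univ_two]

/-- A permutation of the hyperbolic planes. -/
def perm (π : Equiv.Perm (Fin n)) : Matrix (Fin n ⊕ Fin n) (Fin n ⊕ Fin n) F :=
  fromBlocks (Matrix.of fun i j => if π i = j then (1 : F) else 0) 0 0
    (Matrix.of fun i j => if π i = j then (1 : F) else 0)

theorem perm_mem (π : Equiv.Perm (Fin n)) : perm π ∈ symplecticGroup (Fin n) F := by
  have h : (Matrix.of fun i j => if π i = j then (1 : F) else 0) *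
      (Matrix.of fun i j => if π i = j then (1 : F) else 0)ᵀ = 1 := by
    ext i j
    simp [Matrix.mul_apply, Matrix.one_apply, eq_comm]
  rw [SymplecticGroup.mem_iff, perm, J, fromBlocks_transpose, fromBlocks_multiply, fromBlocks_multiply]
  simp only [Matrix.mul_zero, Matrix.mul_one, Matrix.mul_neg, Matrix.neg_mul, zero_add, add_zero,
    Matrix.transpose_zero, Matrix.zero_mul, neg_zero, h]

theorem perm_blk (π : Equiv.Perm (Fin n)) (g : Fin n → Matrix.SpecialLinearGroup (Fin 2) F) :
    perm π * blk g = blk (g ∘ π) * perm π := by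
  have h : ∀ a : Fin n → F, (Matrix.of fun i j => if π i = j then (1 : F) else 0) * diagonal a =
      diagonal (a ∘ π) * (Matrix.of fun i j => if π i = j then (1 : F) else 0) := by
    intro a
    ext i j
    rw [Matrix.mul_diagonal, Matrix.diagonal_mul]
    by_cases hij : π i = j
    · subst hij; simp
    · simp [hij]
  simp only [perm, blk, fromBlocks_multiply, Matrix.zero_mul, Matrix.mul_zero, add_zero, zero_add, h]
  rfl

theorem conj_eq_inv {G : Type*} [Group G] {t w : G} (h : t * w * t = w) : w * t * w⁻¹ = t⁻¹ := by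
  rw [mul_inv_eq_iff_eq_mul, eq_inv_mul_iff_mul_eq, ← mul_assoc]
  exact h

theorem exists_torus [Fintype F] : ∃ t w : Matrix.SpecialLinearGroup (Fin 2) F,
    w * t * w⁻¹ = t⁻¹ ∧ ((ringChar F ≠ 2 ∧ t ^ 4 = 1 ∧ t ^ 2 ≠ 1) ∨ (ringChar F = 2 ∧ t ^ 3 = 1 ∧ t ≠ 1)) := by
  classical
  by_cases h2 : ringChar F = 2
  · have h20 : (2 : F) = 0 := by
      haveI := ringChar.of_eq h2
      exact_mod_cast CharP.cast_eq_zero F 2
    obtain ⟨t, t0⟩ : ∃ x : Matrix.SpecialLinearGroup (Fin 2) F, (x : Matrix (Fin 2) (Fin 2) F) = !![0, 1; 1, 1] :=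
      ⟨⟨!![0, 1; 1, 1], by rw [det_fin_two_of]; linear_combination -h20⟩, rfl⟩
    obtain ⟨w, w0⟩ : ∃ x : Matrix.SpecialLinearGroup (Fin 2) F, (x : Matrix (Fin 2) (Fin 2) F) = !![0, 1; 1, 0] :=
      ⟨⟨!![0, 1; 1, 0], by rw [det_fin_two_of]; linear_combination -h20⟩, rfl⟩
    refine ⟨t, w, conj_eq_inv ?_, Or.inr ⟨h2, ?_, ?_⟩⟩
    · apply Subtype.ext
      simp only [Matrix.SpecialLinearGroup.coe_mul, t0, w0]
      ext i j
      fin_cases i <;> fin_cases j <;> simp [Matrix.mul_apply, Fin.sum_univ_two] <;> linear_combination h20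
    · apply Subtype.ext
      simp only [Matrix.SpecialLinearGroup.coe_pow, Matrix.SpecialLinearGroup.coe_one, t0]
      ext i j
      fin_cases i <;> fin_cases j <;> simp [pow_succ, Matrix.mul_apply, Fin.sum_univ_two] <;>
        linear_combination h20
    · intro h
      have h' := congrFun (congrFun (congrArg Subtype.val h) 0) 1
      simp [t0] at h'
  · obtain ⟨a, b, hab⟩ : ∃ a b : F, a ^ 2 + b ^ 2 = -1 := by
      obtain ⟨a, b, h⟩ := FiniteField.exists_root_sum_quadratic (R := F) (f := Polynomial.X ^ 2)
        (g := Polynomial.X ^ 2 + Polynomial.C 1) (Polynomial.degree_X_pow 2) (Polynomial.degree_X_pow_add_C (by norm_num) 1)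
        (FiniteField.odd_card_of_char_ne_two h2)
      simp at h
      exact ⟨a, b, by linear_combination h⟩
    obtain ⟨t, t0⟩ : ∃ x : Matrix.SpecialLinearGroup (Fin 2) F, (x : Matrix (Fin 2) (Fin 2) F) = !![0, -1; 1, 0] :=
      ⟨⟨!![0, -1; 1, 0], by rw [det_fin_two_of]; ring⟩, rfl⟩
    obtain ⟨w, w0⟩ : ∃ x : Matrix.SpecialLinearGroup (Fin 2) F, (x : Matrix (Fin 2) (Fin 2) F) = !![a, b; b, -a] :=
      ⟨⟨!![a, b; b, -a], by rw [det_fin_two_of]; linear_combination -hab⟩, rfl⟩
    refine ⟨t, w, conj_eq_inv ?_, Or.inl ⟨h2, ?_, ?_⟩⟩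
    · apply Subtype.ext
      simp only [Matrix.SpecialLinearGroup.coe_mul, t0, w0]
      ext i j
      fin_cases i <;> fin_cases j <;> simp [Matrix.mul_apply, Fin.sum_univ_two]
    · apply Subtype.ext
      simp only [Matrix.SpecialLinearGroup.coe_pow, Matrix.SpecialLinearGroup.coe_one, t0]
      ext i j
      fin_cases i <;> fin_cases j <;> simp [pow_succ, Matrix.mul_apply, Fin.sum_univ_two]
    · intro h
      have h' := congrFun (congrFun (congrArg Subtype.val h) 0) 0
      simp only [Matrix.SpecialLinearGroup.coe_pow, Matrix.SpecialLinearGroup.coe_one, t0] at h'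
      simp [pow_succ, Matrix.mul_apply, Fin.sum_univ_two] at h'
      exact Ring.two_ne_zero h2 (by linear_combination -h')

theorem two_mul_le [Fintype F] {d : ℕ} (ρ : symplecticGroup (Fin n) F →* GL (Fin d) F)
    (hρ : Function.Injective ρ) : 2 * n ≤ d := by
  classical
  rcases Nat.eq_zero_or_pos n with rfl | hn
  · exact Nat.zero_le _
  set K := AlgebraicClosure F
  let R : symplecticGroup (Fin n) F →* Module.End K (Fin d → K) :=
    (Matrix.toLinAlgEquiv' (R := K) (n := Fin d)).toRingEquiv.toMonoidHom.comp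
      ((algebraMap F K).mapMatrix.toMonoidHom.comp ((Units.coeHom _).comp ρ))
  have hR : Function.Injective R :=
    (Matrix.toLinAlgEquiv' (R := K) (n := Fin d)).injective.comp
      ((Matrix.map_injective (algebraMap F K).injective).comp (Units.val_injective.comp hρ))
  obtain ⟨t, w, hwt, ht⟩ := exists_torus (F := F)
  let e : Fin n → symplecticGroup (Fin n) F := fun i => blkHom (Pi.mulSingle i t)
  let A : Fin n → Module.End K (Fin d → K) := fun i => R (e i)
  have hconj : ∀ (x : symplecticGroup (Fin n) F) (i : Fin n) (y : symplecticGroup (Fin n) F) (v : Fin d → K),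
      e i * x = x * y → A i (R x v) = R x (R y v) := by
    intro x i y v h
    rw [← Module.End.mul_apply, ← Module.End.mul_apply, ← map_mul, ← map_mul, h]
  have hblkinj : Function.Injective (blkHom (F := F) (n := n)) := by
    intro g h hgh
    have h' : blk g = blk h := congrArg Subtype.val hgh
    rw [blk, blk, fromBlocks_inj] at h'
    funext i
    apply Subtype.ext
    ext a b
    fin_cases a <;> fin_cases b
    · exact congrFun (diagonal_injective h'.1) i
    · exact congrFun (diagonal_injective h'.2.1) i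
    · exact congrFun (diagonal_injective h'.2.2.1) i
    · exact congrFun (diagonal_injective h'.2.2.2) i
  have hperm : ∀ μ, IsWeight A μ → ∀ π : Equiv.Perm (Fin n), IsWeight A (μ ∘ π) := by
    rintro μ ⟨v, hv, hA⟩ π
    set P : symplecticGroup (Fin n) F := ⟨perm π, perm_mem π⟩
    refine ⟨R P v, fun h => hv ?_, fun i => ?_⟩
    · have := congrArg (R P⁻¹) h
      rwa [← Module.End.mul_apply, ← map_mul, inv_mul_cancel, map_one, Module.End.one_apply, map_zero] at this
    · rw [hconj P i (e (π i)) v ?_]
      · rw [show R (e (π i)) v = μ (π i) • v from hA (π i), map_smul]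
        rfl
      · apply Subtype.ext
        show blk (Pi.mulSingle i t) * perm π = perm π * blk (Pi.mulSingle (π i) t)
        rw [perm_blk]
        congr 2
        funext j
        simp [Pi.mulSingle_apply]
  have hflip : ∀ μ, IsWeight A μ → ∀ i, IsWeight A (Function.update μ i (μ i)⁻¹) := by
    rintro μ ⟨v, hv, hA⟩ i
    set P : symplecticGroup (Fin n) F := blkHom (Pi.mulSingle i w)
    refine ⟨R P v, fun h => hv ?_, fun j => ?_⟩
    · have := congrArg (R P⁻¹) h
      rwa [← Module.End.mul_apply, ← map_mul, inv_mul_cancel, map_one, Module.End.one_apply, map_zero] at this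
    · by_cases hj : j = i
      · subst hj
        rw [hconj P j (e j)⁻¹ v ?_, Function.update_self]
        · have h1 : R (e j)⁻¹ (R (e j) v) = v := by
            rw [← Module.End.mul_apply, ← map_mul, inv_mul_cancel, map_one, Module.End.one_apply]
          rw [show R (e j) v = μ j • v from hA j, map_smul] at h1
          have hμ : μ j ≠ 0 := fun h => hv (by rw [← h1, h, zero_smul])
          rw [show R (e j)⁻¹ v = (μ j)⁻¹ • v from (eq_inv_smul_iff₀ hμ).mpr h1, map_smul]
        · simp only [e, P, ← map_inv, ← map_mul]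
          congr 1
          rw [← Pi.mulSingle_inv, ← Pi.mulSingle_mul, ← Pi.mulSingle_mul]
          congr 1
          have hwt' : w * t⁻¹ * w⁻¹ = t := by
            have := congrArg (·⁻¹) hwt
            simpa [mul_assoc] using this
          calc t * w = w * t⁻¹ * w⁻¹ * w := by rw [hwt']
            _ = w * t⁻¹ := by group
      · rw [hconj P j (e j) v ?_, Function.update_of_ne hj]
        · rw [show R (e j) v = μ j • v from hA j, map_smul]
        · simp only [e, P, ← map_mul]
          congr 1
          exact (Pi.mulSingle_commute (f := fun _ : Fin n => Matrix.SpecialLinearGroup (Fin 2) F) hj t w).eq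
  have hcomm : ∀ i j, Commute (A i) (A j) := fun i j => by
    by_cases h : i = j
    · subst h; exact Commute.refl _
    · exact ((Pi.mulSingle_commute (f := fun _ : Fin n => Matrix.SpecialLinearGroup (Fin 2) F) h t t).map blkHom).map R
  let i₀ : Fin n := ⟨0, hn⟩
  have hinj0 : ∀ s : Matrix.SpecialLinearGroup (Fin 2) F, R (blkHom (Pi.mulSingle i₀ s)) = 1 → s = 1 := by
    intro s hs
    have h1 : Pi.mulSingle i₀ s = 1 := hblkinj (hR (by rw [hs, map_one, map_one]))
    exact (Pi.mulSingle_eq_one_iff (M := fun _ : Fin n => Matrix.SpecialLinearGroup (Fin 2) F)).mp h1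
  have hpow : ∀ k, A i₀ ^ k = R (blkHom (Pi.mulSingle i₀ (t ^ k))) := fun k => by
    rw [Pi.mulSingle_pow, map_pow, map_pow]
  obtain ⟨a, b, v, hv, hab, ha, hb⟩ : ∃ (a b : K) (v : Fin d → K), v ≠ 0 ∧
      A i₀ (A i₀ v) - (a + b) • A i₀ v + (a * b) • v = 0 ∧ a ≠ a⁻¹ ∧ b ≠ b⁻¹ := by
    have hne : ∀ f : Module.End K (Fin d → K), f ≠ 0 → ∃ x, f x ≠ 0 := fun f hf => by
      by_contra h
      push Not at h
      exact hf (LinearMap.ext h)
    rcases ht with ⟨h2, h4, h4'⟩ | ⟨h2, h3, h3'⟩
    · have h2K : (2 : K) ≠ 0 := by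
        have := (map_ne_zero (algebraMap F K)).mpr (Ring.two_ne_zero h2)
        rwa [map_ofNat] at this
      obtain ⟨r, hr⟩ := IsAlgClosed.exists_pow_nat_eq (-1 : K) two_pos
      obtain ⟨x, hx⟩ := hne (A i₀ ^ 2 - 1) (sub_ne_zero.mpr fun h => h4' (hinj0 _ ((hpow 2).symm.trans h)))
      refine ⟨r, -r, (A i₀ ^ 2 - 1 : Module.End K (Fin d → K)) x, hx, ?_, ?_, ?_⟩
      · have h4A : A i₀ ^ 4 = 1 := by rw [hpow, h4, Pi.mulSingle_one, map_one, map_one]
        rw [add_neg_cancel, zero_smul, sub_zero, mul_neg, ← pow_two, hr, neg_neg, one_smul,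
          ← Module.End.mul_apply, ← pow_two]
        have : (A i₀ ^ 2) ((A i₀ ^ 2 - 1 : Module.End K (Fin d → K)) x) + (A i₀ ^ 2 - 1 : Module.End K (Fin d → K)) x = (A i₀ ^ 4 - 1 : Module.End K (Fin d → K)) x := by
          simp only [LinearMap.sub_apply, Module.End.one_apply, map_sub]
          rw [show A i₀ ^ 4 = A i₀ ^ 2 * A i₀ ^ 2 by rw [← pow_add], Module.End.mul_apply]
          abel
        rw [this, h4A, sub_self, LinearMap.zero_apply]
      all_goals
        intro h
        have hr0 : r ≠ 0 := fun h0 => by simp [h0] at hr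
        have h' := sq_one_of_eq_inv (by simpa using hr0) h
        exact h2K (by linear_combination hr - h')
    · have h20 : (2 : K) = 0 := by
        haveI := ringChar.of_eq h2
        have h20 : (2 : F) = 0 := by exact_mod_cast CharP.cast_eq_zero F 2
        simpa [map_ofNat] using congrArg (algebraMap F K) h20
      obtain ⟨r, hr⟩ : ∃ r : K, r ^ 2 + r + 1 = 0 := by
        obtain ⟨r, hr⟩ := IsAlgClosed.exists_root
          (Polynomial.X ^ 2 + Polynomial.X + 1 : Polynomial K) (by
            rw [show (Polynomial.X ^ 2 + Polynomial.X + 1 : Polynomial K) =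
              Polynomial.C 1 * Polynomial.X ^ 2 + Polynomial.C 1 * Polynomial.X + Polynomial.C 1 by simp,
              Polynomial.degree_quadratic one_ne_zero]
            norm_num)
        exact ⟨r, by simpa using hr⟩
      obtain ⟨x, hx⟩ := hne (A i₀ - 1) (sub_ne_zero.mpr fun h => h3' (hinj0 _ (by
        have := hpow 1
        rw [pow_one, pow_one] at this
        exact this.symm.trans h)))
      refine ⟨r, -1 - r, (A i₀ - 1 : Module.End K (Fin d → K)) x, hx, ?_, ?_, ?_⟩
      · have h3A : A i₀ ^ 3 = 1 := by rw [hpow, h3, Pi.mulSingle_one, map_one, map_one]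
        have : A i₀ (A i₀ ((A i₀ - 1 : Module.End K (Fin d → K)) x)) + A i₀ ((A i₀ - 1 : Module.End K (Fin d → K)) x) + (A i₀ - 1 : Module.End K (Fin d → K)) x = (A i₀ ^ 3 - 1 : Module.End K (Fin d → K)) x := by
          simp only [LinearMap.sub_apply, Module.End.one_apply, map_sub, pow_succ, pow_zero, one_mul,
            Module.End.mul_apply]
          abel
        rw [add_sub_cancel, neg_one_smul, sub_neg_eq_add,
          show r * (-1 - r) = 1 by linear_combination -hr, one_smul, this, h3A, sub_self, LinearMap.zero_apply]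
      · intro h
        have hr0 : r ≠ 0 := fun h0 => by simp [h0] at hr
        have h' := sq_one_of_eq_inv hr0 h
        exact hr0 (by linear_combination hr - h' - h20)
      · intro h
        have hr' : (-1 - r) ^ 2 + (-1 - r) + 1 = 0 := by linear_combination hr
        have hr0 : -1 - r ≠ 0 := fun h0 => by simp [h0] at hr'
        have h' := sq_one_of_eq_inv hr0 h
        exact hr0 (by linear_combination hr' - h' - h20)
  obtain ⟨c, hc, u, hu, hcu⟩ := exists_eigen (A i₀) a b hv hab
  obtain ⟨μ, hμ, hμ0⟩ := exists_weight A hcomm i₀ c hu hcu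
  have := two_mul_le_finrank A hperm hflip hμ (i₀ := i₀) (by rcases hc with rfl | rfl <;> rw [hμ0] <;> assumption)
  simpa using this

end Symplectic

end CfsgLib.Classical.SympMinDegree
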