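import Cfsg.Agent.Lib.Classical.SympClasses
import Cfsg.Agent.Lib.Classical.RestrictScalars
import Cfsg.Agent.Lib.Classical.UnitaryOrder

/-!
The centralizer of a fixed point free element of order three of a symplectic group over a field
with `q % 3 = 2` is a unitary group.
-/

set_option autoImplicit false
set_option linter.style.haveILetI false
set_option maxHeartbeats 800000

namespace CfsgLib.Classical.SympOrderThree

open Matrix Polynomial CfsgLib.Classical.RestrictScalars CfsgLib.Classical.SympTrans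
open scoped MatrixGroups

theorem exists_quadratic_extension {F : Type*} [Field F] [Fintype F] {q : ℕ} (hF : Fintype.card F = q) :
    ∃ (K : Type) (_ : Field K) (_ : Fintype K), Fintype.card K = q ^ 2 := by
  obtain ⟨k, hpr, hk⟩ := FiniteField.card F (ringChar F)
  haveI := Fact.mk hpr
  haveI := Fintype.ofFinite (GaloisField (ringChar F) (k * 2))
  refine ⟨GaloisField (ringChar F) (k * 2), inferInstance, inferInstance, ?_⟩
  rw [← Nat.card_eq_fintype_card, GaloisField.card _ _ (by have := k.pos; omega), pow_mul, ← hk, hF]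

theorem card_centralizer_conj {G : Type*} [Group G] {a b : G} (h : IsConj a b) :
    Nat.card ↥(Subgroup.centralizer ({a} : Set G)) = Nat.card ↥(Subgroup.centralizer ({b} : Set G)) := by
  obtain ⟨c, hc⟩ := isConj_iff.mp h
  refine Nat.card_congr ((MulAut.conj c).toEquiv.subtypeEquiv fun z => ?_)
  rw [Subgroup.mem_centralizer_singleton_iff, Subgroup.mem_centralizer_singleton_iff, ← hc]
  show _ ↔ (MulAut.conj c) z * (MulAut.conj c) a = (MulAut.conj c) a * (MulAut.conj c) z
  rw [← map_mul, ← map_mul, (MulAut.conj c).injective.eq_iff]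

variable {F : Type*} [Field F] [Fintype F]

theorem charpoly_eq_pow {m : ℕ} {q : ℕ} (hF : Fintype.card F = q) (hq : q % 3 = 2)
    (A : Matrix (Fin m ⊕ Fin m) (Fin m ⊕ Fin m) F) (hA : A * A + A + 1 = 0) :
    A.charpoly = (X ^ 2 + X + 1) ^ m := by
  classical
  set P : F[X] := X ^ 2 + X + 1 with hP
  have hPm : P.Monic := by rw [hP]; monicity!
  have hPd : P.natDegree = 2 := by rw [hP]; compute_degree!
  have hPi : Irreducible P := by
    rw [hPm.irreducible_iff_roots_eq_zero_of_degree_le_three (by omega) (by omega)]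
    refine Multiset.eq_zero_of_forall_notMem fun c hc => ?_
    rw [mem_roots hPm.ne_zero] at hc
    simp only [hP, IsRoot, eval_add, eval_pow, eval_X, eval_one] at hc
    have hc3 : c ^ 3 = 1 := by linear_combination (c - 1) * hc
    have hc0 : c ≠ 0 := fun h => by simp [h] at hc3
    have hcop : (3 : ℕ).Coprime (q - 1) := (Nat.Prime.coprime_iff_not_dvd Nat.prime_three).mpr (by omega)
    have h1 : c = 1 := by
      have := Nat.dvd_gcd (orderOf_dvd_of_pow_eq_one hc3)
        (orderOf_dvd_of_pow_eq_one (show c ^ (q - 1) = 1 from hF ▸ FiniteField.pow_card_sub_one_eq_one c hc0))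
      rw [hcop] at this
      exact orderOf_eq_one_iff.mp (Nat.dvd_one.mp this)
    subst h1
    have h3 : ((3 : ℕ) : F) = 0 := by push_cast; linear_combination hc
    obtain ⟨p, hp⟩ := CharP.exists F
    obtain ⟨k, hpp, hk⟩ := FiniteField.card F p
    rw [(CharP.cast_eq_zero_iff F p 3)] at h3
    have h4 : p ∣ q := by rw [← hF, hk]; exact dvd_pow_self p k.ne_zero
    rw [(Nat.prime_dvd_prime_iff_eq hpp Nat.prime_three).mp h3] at h4
    omega
  have hfac : ∀ R ∈ UniqueFactorizationMonoid.normalizedFactors A.charpoly, R = P := by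
    intro R hR
    have hRi := UniqueFactorizationMonoid.irreducible_of_normalized_factor R hR
    haveI := Fact.mk hRi
    have hd : R ∣ P := SemisimpleClasses.dvd_of_dvd_charpoly A
      (UniqueFactorizationMonoid.dvd_of_mem_normalizedFactors hR) (by
        rw [hP, map_add, map_add, map_pow, aeval_X, map_one, sq, hA])
    exact eq_of_monic_of_associated
      (((UniqueFactorizationMonoid.mem_normalizedFactors_iff' A.charpoly_monic.ne_zero).mp hR).2.1 ▸
        monic_normalize hRi.ne_zero) hPm (hRi.associated_of_dvd hPi hd)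
  have h := UniqueFactorizationMonoid.prod_normalizedFactors_eq (a := A.charpoly) A.charpoly_monic.ne_zero
  rw [A.charpoly_monic.normalize_eq_self, Multiset.eq_replicate_card.mpr hfac, Multiset.prod_replicate] at h
  have h2 := congrArg natDegree h
  rw [natDegree_pow, hPd, Matrix.charpoly_natDegree_eq_dim, Fintype.card_sum, Fintype.card_fin] at h2
  rw [← h]
  congr 1
  omega

theorem card_centralizer {q : ℕ} (hF : Fintype.card F = q) (hq : q % 3 = 2) {m : ℕ}
    (x : Matrix.symplecticGroup (Fin m) F) (hx3 : x ^ 3 = 1)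
    (hfpf : IsUnit ((x : Matrix (Fin m ⊕ Fin m) (Fin m ⊕ Fin m) F) - 1)) :
    Nat.card ↥(Subgroup.centralizer ({x} : Set ↥(Matrix.symplecticGroup (Fin m) F))) =
      q ^ (m * (m - 1) / 2) * ∏ i ∈ Finset.range m, (if Even i then q ^ (i + 1) + 1 else q ^ (i + 1) - 1) := by
  classical
  obtain ⟨p, hpc⟩ := CharP.exists F
  obtain ⟨k, hpp, hk⟩ := FiniteField.card F p
  haveI := Fact.mk hpp
  have hp3 : p ≠ 3 := by
    rintro rfl
    have : 3 ∣ q := hF ▸ hk ▸ dvd_pow_self 3 k.ne_zero
    omega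
  have hcop : ∀ y : Matrix.symplecticGroup (Fin m) F, y ^ 3 = 1 → (orderOf y).Coprime p := fun y hy =>
    Nat.Coprime.coprime_dvd_left (orderOf_dvd_of_pow_eq_one hy) ((Nat.coprime_primes Nat.prime_three hpp).mpr hp3.symm)
  set A := (x : Matrix (Fin m ⊕ Fin m) (Fin m ⊕ Fin m) F) with hAdef
  have hA : A * A + A + 1 = 0 := by
    have h3 : A ^ 3 = 1 := by rw [hAdef, ← SubmonoidClass.coe_pow, hx3, Submonoid.coe_one]
    refine hfpf.mul_right_eq_zero.mp ?_
    calc (A - 1) * (A * A + A + 1) = A ^ 3 - 1 := by noncomm_ring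
      _ = 0 := by rw [h3, sub_self]
  obtain ⟨K, _, _, hK⟩ := exists_quadratic_extension hF
  obtain ⟨a, b, hab⟩ := exists_ab (F := F)
  obtain ⟨fr⟩ := exists_Frame hF hK a b hab
  obtain ⟨ζu, hζ⟩ := exists_prime_orderOf_dvd_card (G := Kˣ) 3 (by
    rw [Fintype.card_units, hK]
    have : q ^ 2 % 3 = 1 := by rw [Nat.pow_mod, hq]
    omega)
  have hζq : (ζu : K) ^ (q + 1) = 1 := by
    obtain ⟨c, hc⟩ : 3 ∣ q + 1 := by omega
    rw [hc, pow_mul, ← hζ, ← Units.val_pow_eq_pow_val, pow_orderOf_eq_one, Units.val_one, one_pow]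
  have hζ3 : (ζu : K) ^ 3 = 1 := by
    rw [← hζ, ← Units.val_pow_eq_pow_val, pow_orderOf_eq_one, Units.val_one]
  have hζ1 : (ζu : K) ≠ 1 := fun h => by
    rw [← orderOf_units, h, orderOf_one] at hζ; omega
  have hζ2 : (ζu : K) * ζu + ζu + 1 = 0 := by
    refine (mul_eq_zero.mp (show ((ζu : K) - 1) * (ζu * ζu + ζu + 1) = 0 by linear_combination hζ3)).resolve_left
      (sub_ne_zero.mpr hζ1)
  have hζF : (fr.co (ζu : K)).2 ≠ 0 := by
    intro h
    have hs := fr.co_spec (ζu : K)
    rw [h, map_zero, mul_zero, add_zero] at hs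
    have h1 : fr.σ (ζu : K) = ζu := by rw [← hs, fr.σ_emb]
    have h2 : (ζu : K) ^ (q + 1) = (ζu : K) * ζu := by rw [pow_succ, ← fr.σ_eq, h1]
    rw [hζq] at h2
    exact hζ1 (by linear_combination hζ3 + (ζu : K) * h2)
  letI := fr.emb.toAlgebra
  obtain ⟨L, hL⟩ := exists_equiv (ι := Fin m) (κ := Fin m ⊕ Fin m) (F := F) (K := K)
    (fun v => Sum.elim (fun i => (fr.co (v i)).1) (fun i => (fr.co (v i)).2))
    (fun u v => by funext s; rcases s with i | i <;> simp [Frame.co_add])
    (fun c u => by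
      funext s
      rcases s with i | i <;> simp [show algebraMap F K = fr.emb from rfl, Frame.co_smul])
    (fun u h => funext fun i => fr.co_eq_zero (Prod.ext (congrFun h (Sum.inl i)) (congrFun h (Sum.inr i))))
    (by rw [hK, hF, ← pow_mul, Fintype.card_sum, Fintype.card_fin, two_mul])
  have key : ∀ u v, Cfsg.sympForm m F (L u) (L v) = fr.φ (Cfsg.hermForm m K q u v) := by
    intro u v
    rw [f_apply]
    simp only [hL, Sum.elim_inl, Sum.elim_inr, Cfsg.hermForm, fr.φ_sum, ← fr.σ_eq, fr.φ_herm]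
  let Φ : ↥(Cfsg.GU m K q) →* ↥(Matrix.symplecticGroup (Fin m) F) :=
    ((Units.coeHom _).comp ((tGL L).comp (Cfsg.GU m K q).subtype)).codRestrict _ fun g => by
      rw [mem_iff_f]
      intro u v
      obtain ⟨u, rfl⟩ := L.surjective u
      obtain ⟨v, rfl⟩ := L.surjective v
      show Cfsg.sympForm m F (Units.val (tGL L g.1) *ᵥ L u) (Units.val (tGL L g.1) *ᵥ L v) = _
      rw [tGL_mulVec, tGL_mulVec, key, key, gu_mem.mp g.2]
  have happ : ∀ (g : ↥(Cfsg.GU m K q)) v, app (Φ g) (L v) = L ((g : GL (Fin m) K).val *ᵥ v) := fun g v =>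
    tGL_mulVec L g.1 v
  have hsm : ∀ (c : K) (v : Fin m → K), (Matrix.scalar (Fin m) c) *ᵥ v = c • v := fun c v => by
    rw [Matrix.scalar_apply]; ext i; simp [Matrix.mulVec_diagonal]
  let z : ↥(Cfsg.GU m K q) := ⟨Matrix.GeneralLinearGroup.scalar (Fin m) ζu, by
    rw [gu_mem]
    intro u v
    show Cfsg.hermForm m K q (Matrix.scalar (Fin m) (ζu : K) *ᵥ u) (Matrix.scalar (Fin m) (ζu : K) *ᵥ v) = _
    rw [hsm, hsm]
    simp only [Cfsg.hermForm, Pi.smul_apply, smul_eq_mul, mul_pow]
    refine Finset.sum_congr rfl fun i _ => ?_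
    calc (ζu : K) * u i * ((ζu : K) ^ q * v i ^ q) = (ζu : K) ^ (q + 1) * (u i * v i ^ q) := by ring
      _ = _ := by rw [hζq, one_mul]⟩
  set x₀ := Φ z
  have hx₀ : ∀ v, app x₀ (L v) = L ((ζu : K) • v) := fun v => by
    rw [happ]
    show L (Matrix.scalar (Fin m) (ζu : K) *ᵥ v) = _
    rw [hsm]
  have hx₀3 : x₀ ^ 3 = 1 := by
    refine ext_app fun w => ?_
    obtain ⟨v, rfl⟩ := L.surjective w
    rw [pow_succ, pow_succ, pow_one, app_mul, app_mul, hx₀, hx₀, hx₀, app_one, smul_smul, smul_smul,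
      show (ζu : K) * ζu * ζu = 1 by linear_combination hζ3, one_smul]
  have hA₀ : (x₀ : Matrix (Fin m ⊕ Fin m) (Fin m ⊕ Fin m) F) * x₀ + x₀ + 1 = 0 := by
    refine Matrix.toLin'.injective (LinearMap.ext fun w => ?_)
    obtain ⟨v, rfl⟩ := L.surjective w
    rw [map_zero, LinearMap.zero_apply, Matrix.toLin'_apply, Matrix.add_mulVec, Matrix.add_mulVec,
      ← Matrix.mulVec_mulVec, Matrix.one_mulVec]
    show app x₀ (app x₀ (L v)) + app x₀ (L v) + L v = 0
    rw [hx₀, hx₀, smul_smul, ← map_add, ← map_add, ← add_smul]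
    conv_lhs => rw [show L (((ζu : K) * ζu + ζu) • v + v) = L (((ζu : K) * ζu + ζu + 1) • v) by rw [add_smul _ (1 : K), one_smul]]
    rw [hζ2, zero_smul, map_zero]
  rw [card_centralizer_conj (SympClasses.isConj_of_charpoly_eq (p := p) x x₀ (hcop x hx3) (hcop x₀ hx₀3)
    ((charpoly_eq_pow hF hq A hA).trans (charpoly_eq_pow hF hq _ hA₀).symm))]
  obtain ⟨C⟩ := CfsgLib.Classical.Herm.exists_conj_of_card (F := K) hK
  rw [← CfsgLib.Classical.Herm.card_GU C (n := m)]
  have hzc : ∀ g, Φ g * x₀ = x₀ * Φ g := fun g => by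
    rw [← map_mul, ← map_mul]
    congr 1
    exact Subtype.ext (Units.ext ((Matrix.scalar_commute (ζu : K) (fun r => Commute.all _ _) _).symm.eq))
  refine (Nat.card_eq_of_bijective (fun g => (⟨Φ g, Subgroup.mem_centralizer_singleton_iff.mpr (hzc g)⟩ :
    ↥(Subgroup.centralizer ({x₀} : Set ↥(Matrix.symplecticGroup (Fin m) F))))) ⟨fun g h e => ?_, ?_⟩).symm
  · exact Subtype.ext (tGL_injective L (Units.ext (congrArg (fun y => (y.1.1 : Matrix _ _ F)) e)))
  · rintro ⟨g, hg⟩
    rw [Subgroup.mem_centralizer_singleton_iff] at hg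
    let h : (Fin m → K) →ₗ[F] (Fin m → K) :=
      L.symm.toLinearMap ∘ₗ Matrix.toLin' (g : Matrix (Fin m ⊕ Fin m) (Fin m ⊕ Fin m) F) ∘ₗ L.toLinearMap
    have hh : ∀ v, h v = L.symm (app g (L v)) := fun _ => rfl
    have hζc : ∀ v, h ((ζu : K) • v) = (ζu : K) • h v := fun v => L.injective (by
      rw [hh, L.apply_symm_apply, ← hx₀, ← app_mul, hg, app_mul, hh, ← hx₀, L.apply_symm_apply])
    have hK' : ∀ (c : K) v, h (c • v) = c • h v := by
      intro c v
      set ε := (fr.co (ζu : K)).2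
      obtain ⟨u₁, u₂, hc⟩ : ∃ u₁ u₂ : F, c = algebraMap F K u₁ + algebraMap F K u₂ * ζu := by
        refine ⟨(fr.co c).1 - (fr.co c).2 / ε * (fr.co (ζu : K)).1, (fr.co c).2 / ε, ?_⟩
        show c = fr.emb _ + fr.emb _ * _
        have e : fr.emb ((fr.co c).2 / ε) * fr.emb ε = fr.emb (fr.co c).2 := by
          rw [← map_mul, div_mul_cancel₀ _ hζF]
        rw [map_sub, map_mul]
        linear_combination -(fr.co_spec c) + fr.emb ((fr.co c).2 / ε) * fr.co_spec (ζu : K) - fr.ω * e
      rw [hc, add_smul, mul_smul, algebraMap_smul, algebraMap_smul, map_add, map_smul, map_smul, hζc, add_smul,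
        mul_smul, algebraMap_smul, algebraMap_smul]
    let hlin : (Fin m → K) →ₗ[K] (Fin m → K) := { toFun := h, map_add' := map_add h, map_smul' := hK' }
    set M := LinearMap.toMatrix' hlin
    have hM : ∀ v, M *ᵥ v = h v := fun v => by
      rw [← Matrix.toLin'_apply, Matrix.toLin'_toMatrix']; rfl
    have hdet : IsUnit M := by
      rw [← Matrix.mulVec_injective_iff_isUnit]
      intro v w e
      rw [hM, hM, hh, hh, L.symm.injective.eq_iff] at e
      refine L.injective ?_
      rw [← app_inv g (L v), e, app_inv]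
    have hform : ∀ u v, fr.φ (Cfsg.hermForm m K q (h u) (h v)) = fr.φ (Cfsg.hermForm m K q u v) := fun u v => by
      rw [← key, ← key, hh, hh, L.apply_symm_apply, L.apply_symm_apply, f_app]
    have hmem : hdet.unit ∈ Cfsg.GU m K q := by
      rw [gu_mem]
      intro u v
      show Cfsg.hermForm m K q (M *ᵥ u) (M *ᵥ v) = _
      rw [hM, hM, ← sub_eq_zero]
      have e0 := hform u v
      have e1 := hform (fr.ω • u) v
      rw [hK', show ∀ u v : Fin m → K, Cfsg.hermForm m K q (fr.ω • u) v = fr.ω * Cfsg.hermForm m K q u v from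
        fun u v => by simp [Cfsg.hermForm, Finset.mul_sum, mul_assoc],
        show ∀ u v : Fin m → K, Cfsg.hermForm m K q (fr.ω • u) v = fr.ω * Cfsg.hermForm m K q u v from
        fun u v => by simp [Cfsg.hermForm, Finset.mul_sum, mul_assoc]] at e1
      set w := Cfsg.hermForm m K q (h u) (h v) - Cfsg.hermForm m K q u v
      have f0 : fr.φ w = 0 := by rw [fr.φ_sub, e0, sub_self]
      have f1 : fr.φ (fr.ω * w) = 0 := by rw [mul_sub, fr.φ_sub, e1, sub_self]
      have hw : w = fr.emb (fr.co w).1 := by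
        conv_lhs => rw [← fr.co_spec w, show (fr.co w).2 = 0 from f0, map_zero, mul_zero, add_zero]
      rw [hw] at f1 ⊢
      rw [show fr.φ (fr.ω * fr.emb (fr.co w).1) = (fr.co w).1 from
        congrArg Prod.snd (fr.co_unique (u := 0) (v := (fr.co w).1) (by simp))] at f1
      rw [f1, map_zero]
    refine ⟨⟨hdet.unit, hmem⟩, Subtype.ext (ext_app fun w => ?_)⟩
    obtain ⟨v, rfl⟩ := L.surjective w
    show app (Φ _) (L v) = app g (L v)
    rw [happ]
    show L (M *ᵥ v) = _
    rw [hM, hh, L.apply_symm_apply]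

end CfsgLib.Classical.SympOrderThree
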