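import Cfsg.Agent.Lib.Classical.OrthOverfieldU
import Cfsg.Agent.Lib.Classical.SympExtField

set_option autoImplicit false
set_option linter.unusedSectionVars false

/-!
Overgroups in a symplectic group of the unitary group over a quadratic extension, odd characteristic.

`J` squares to the non-square `d` and is skew for the alternating form.  The conjugate of a unitary
transvection at a moved line, shifted by two unitary elements, gives a symplectic transvection.
-/

namespace CfsgLib.SympU

open CfsgLib.SympExt (InM tt sy tt_apply sy_apply)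
open CfsgLib.Orth (orth Nondeg)

variable {F : Type*} [Field F] [Finite F] {ι : Type} [Fintype ι] [DecidableEq ι]
variable {B : (ι → F) →ₗ[F] (ι → F) →ₗ[F] F} {J : (ι → F) →ₗ[F] ι → F} {d : F}
variable {M : Subgroup ((ι → F) ≃ₗ[F] (ι → F))}

/-- A quadratic extension acting by similitudes, through a skew square root of a non-square. -/
structure Setup (B : (ι → F) →ₗ[F] (ι → F) →ₗ[F] F) (J : (ι → F) →ₗ[F] ι → F) (d : F) : Prop where
  two : (2 : F) ≠ 0
  alt : ∀ x, B x x = 0
  nd : ∀ x, (∀ y, B x y = 0) → x = 0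
  skew : ∀ x y, B (J x) y = -B x (J y)
  sq : ∀ x, J (J x) = d • x
  nonsq : ∀ c : F, c * c ≠ d
  dim : 10 ≤ Module.finrank F (ι → F)

/-- The quadratic form whose singular vectors span totally isotropic lines over the extension. -/
noncomputable def herm (B : (ι → F) →ₗ[F] (ι → F) →ₗ[F] F) (J : (ι → F) →ₗ[F] ι → F) :
    QuadraticForm F (ι → F) :=
  LinearMap.BilinMap.toQuadraticMap (B.comp J)

theorem herm_apply (x : ι → F) : herm B J x = B (J x) x := rfl

/-- The nilpotent part of a unitary transvection. -/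
def utv (B : (ι → F) →ₗ[F] (ι → F) →ₗ[F] F) (J : (ι → F) →ₗ[F] ι → F) (d s : F) (a : ι → F) :
    (ι → F) →ₗ[F] ι → F :=
  tt B (-(d * s)) a + tt B s (J a)

/-- The nilpotent part of a unitary shift. -/
def shift (B : (ι → F) →ₗ[F] (ι → F) →ₗ[F] F) (J : (ι → F) →ₗ[F] ι → F) (d : F) (c w : ι → F) :
    (ι → F) →ₗ[F] ι → F :=
  (-d) • sy B c w + sy B (J c) (J w)

/-- The vectors of a shift span a totally isotropic plane over the extension. -/
def Good (B : (ι → F) →ₗ[F] (ι → F) →ₗ[F] F) (J : (ι → F) →ₗ[F] ι → F) (c w : ι → F) : Prop :=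
  B c w = 0 ∧ B (J c) w = 0 ∧ B (J c) c = 0 ∧ B (J w) w = 0

/-- The hypotheses on the overgroup. -/
structure Over (B : (ι → F) →ₗ[F] (ι → F) →ₗ[F] F) (J : (ι → F) →ₗ[F] ι → F) (d : F)
    (M : Subgroup ((ι → F) ≃ₗ[F] (ι → F))) : Prop where
  iso : ∀ g ∈ M, ∀ x y, B (g x) (g y) = B x y
  base : ∀ (a : ι → F) (s : F), B (J a) a = 0 → InM M (utv B J d s a)
  shifts : ∀ c w, Good B J c w → InM M (shift B J d c w)

variable (hS : Setup B J d)
include hS

theorem antisymm (x y : ι → F) : B y x = -B x y := by
  have h := hS.alt (x + y)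
  simp only [map_add, LinearMap.add_apply, hS.alt, zero_add, add_zero] at h
  linear_combination h

theorem d_ne : d ≠ 0 := fun e => hS.nonsq 0 (by rw [e, mul_zero])

theorem jj (x y : ι → F) : B (J x) (J y) = -(d * B x y) := by
  rw [hS.skew, hS.sq, map_smul, smul_eq_mul]

theorem b_j_comm (x y : ι → F) : B (J x) y = B (J y) x := by
  rw [hS.skew, antisymm hS (J y) x, neg_neg]

theorem polar_herm (x y : ι → F) :
    QuadraticMap.polar ⇑(herm B J) x y = 2 * B (J x) y := by
  rw [herm, LinearMap.BilinMap.polar_toQuadraticMap, LinearMap.comp_apply, LinearMap.comp_apply,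
    b_j_comm hS y x, two_mul]

theorem j_ne {x : ι → F} (hx : x ≠ 0) : J x ≠ 0 := fun e => hx (by
  have := hS.sq x
  rw [e, map_zero] at this
  exact (smul_eq_zero.1 this.symm).resolve_left (d_ne hS))

theorem herm_nondeg : Nondeg (herm B J) := fun x h => by
  by_contra hx
  refine j_ne hS hx (hS.nd _ fun y => ?_)
  have := h y
  rw [polar_herm hS] at this
  exact (mul_eq_zero.1 this).resolve_left hS.two

theorem orth_of_mem {l : List (ι → F)} {z : ι → F}
    (h : z ∈ orth (herm B J) (Submodule.span F {x | x ∈ l.map J})) {x : ι → F} (hx : x ∈ l) :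
    B x z = 0 := by
  have h1 := Orth.Overfield.mem_orth_list h (List.mem_map_of_mem hx)
  rw [polar_herm hS, hS.sq, map_smul, LinearMap.smul_apply, smul_eq_mul] at h1
  exact ((mul_eq_zero.1 h1).resolve_left hS.two |> mul_eq_zero.1).resolve_left (d_ne hS)

/-- A singular vector orthogonal to a few vectors and outside the span of a few others. -/
theorem exists_avoid (l T : List (ι → F)) (h : l.length + T.length + 3 ≤ 10) :
    ∃ z, B (J z) z = 0 ∧ (∀ x ∈ l, B x z = 0) ∧ z ∉ Submodule.span F {x | x ∈ T} := by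
  have h1 := Orth.Overfield.finrank_span_list (F := F) (l.map J)
  have h2 := Orth.Overfield.finrank_span_list (F := F) T
  have h3 := hS.dim
  rw [List.length_map] at h1
  obtain ⟨z, hz, hQ, hzT⟩ := Orth.Overfield.exists_singular_avoid (herm_nondeg hS)
    (Submodule.span F {x | x ∈ l.map J}) (Submodule.span F {x | x ∈ T}) (by omega)
  exact ⟨z, hQ, fun x hx => orth_of_mem hS hz hx, hzT⟩

/-- A non-zero singular vector orthogonal to a few vectors. -/
theorem exists_perp (l : List (ι → F)) (h : l.length + 3 ≤ 10) :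
    ∃ z, z ≠ 0 ∧ B (J z) z = 0 ∧ ∀ x ∈ l, B x z = 0 := by
  obtain ⟨z, hz, hzo, hzT⟩ := exists_avoid hS l [] (by simpa using h)
  exact ⟨z, fun e => hzT (by rw [e]; exact zero_mem _), hz, hzo⟩

/-- A singular vector orthogonal to a few vectors and not to one outside their span. -/
theorem exists_sep (l : List (ι → F)) {x : ι → F} (hx : x ∉ Submodule.span F {y | y ∈ l})
    (h : 2 * l.length + 3 ≤ 10) :
    ∃ z, B (J z) z = 0 ∧ (∀ y ∈ l, B y z = 0) ∧ B x z ≠ 0 := by
  have h1 := Orth.Overfield.finrank_span_list (F := F) (l.map J)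
  have h3 := hS.dim
  rw [List.length_map] at h1
  have hJx : J x ∉ Submodule.span F {y | y ∈ l.map J} := by
    intro hm
    have h4 := Submodule.apply_mem_span_image_of_mem_span J hm
    rw [hS.sq] at h4
    refine hx ((Submodule.smul_mem_iff _ (d_ne hS)).1 (Submodule.span_le.2 ?_ h4))
    rintro _ ⟨_, hy0, rfl⟩
    obtain ⟨y, hy, rfl⟩ := List.mem_map.1 hy0
    rw [hS.sq]
    exact Submodule.smul_mem _ _ (Submodule.subset_span hy)
  obtain ⟨z, hz, hQ, hne⟩ := Orth.Overfield.exists_singular_pair (herm_nondeg hS) _ hJx (by omega)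
  refine ⟨z, hQ, fun y hy => orth_of_mem hS hz hy, fun e => hne ?_⟩
  rw [polar_herm hS, hS.sq, map_smul, LinearMap.smul_apply, e, smul_zero, mul_zero]

theorem span_singular (x : ι → F) :
    x ∈ Submodule.span F {y | B (J y) y = 0} := by
  have h := hS.dim
  refine Submodule.span_mono (fun y hy => hy.1) (Orth.Overfield.span_singular_orth (herm_nondeg hS) ⊥
    (by rw [finrank_bot]; omega) (x := x) fun w hw => ?_)
  rw [(Submodule.mem_bot F).1 hw]
  exact LinearMap.map_zero₂ _ _

/-- Two stable conditions: a combination lies in a stable subspace only when the vector does. -/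
theorem mem_of_comb {T : Submodule F (ι → F)} (hT : ∀ x ∈ T, J x ∈ T) {x : ι → F} {p q : F}
    (h : p • x + q • J x ∈ T) (hpq : p ≠ 0 ∨ q ≠ 0) : x ∈ T := by
  have h1 : p • J x + (q * d) • x ∈ T := by
    have h2 := hT _ h
    rwa [map_add, map_smul, map_smul, hS.sq, smul_smul] at h2
  have hne : p * p - q * q * d ≠ 0 := by
    intro e
    by_cases hq : q = 0
    · exact (hpq.resolve_right (fun h => h hq)) (mul_self_eq_zero.1 (by rw [hq] at e; linear_combination e))
    · exact hS.nonsq (p / q) (by field_simp; linear_combination e)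
  refine (Submodule.smul_mem_iff _ hne).1 ?_
  have h3 := T.sub_mem (T.smul_mem p h) (T.smul_mem q h1)
  convert h3 using 1
  module

theorem span_kl_stable (x : ι → F) : ∀ y ∈ Submodule.span F {z | z ∈ [x, J x]},
    J y ∈ Submodule.span F {z | z ∈ [x, J x]} := fun y hy => by
  refine Submodule.span_le.2 ?_ (Submodule.apply_mem_span_image_of_mem_span J hy)
  rintro _ ⟨z, hz, rfl⟩
  rcases List.mem_cons.1 hz with rfl | hz
  · exact Submodule.subset_span (by simp)
  · rw [List.mem_singleton.1 hz, hS.sq]
    exact Submodule.smul_mem _ _ (Submodule.subset_span (by simp))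

theorem Good.eqs {c w : ι → F} (h : Good B J c w) :
    B w c = 0 ∧ B c (J w) = 0 ∧ B (J w) c = 0 ∧ B w (J c) = 0 ∧ B (J c) (J w) = 0 ∧
      B (J w) (J c) = 0 ∧ B c (J c) = 0 ∧ B w (J w) = 0 := by
  obtain ⟨h1, h2, h3, h4⟩ := h
  have e1 : B w c = 0 := by rw [antisymm hS, h1, neg_zero]
  have e2 : B (J w) c = 0 := by rw [b_j_comm hS, h2]
  refine ⟨e1, ?_, e2, ?_, ?_, ?_, ?_, ?_⟩
  · rw [antisymm hS, e2, neg_zero]
  · rw [antisymm hS, h2, neg_zero]
  · rw [jj hS, h1, mul_zero, neg_zero]
  · rw [jj hS, e1, mul_zero, neg_zero]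
  · rw [antisymm hS, h3, neg_zero]
  · rw [antisymm hS, h4, neg_zero]

theorem shift_sq {c w : ι → F} (h : Good B J c w) (x : ι → F) :
    shift B J d c w (shift B J d c w x) = 0 := by
  obtain ⟨e1, e2, e3, e4, e5, e6, e7, e8⟩ := Good.eqs hS h
  obtain ⟨h1, h2, h3, h4⟩ := h
  simp [shift, sy_apply, e1, e2, e3, e4, e5, e6, e7, e8, h1, h2, h3, h4, hS.alt]

theorem shift_skew (c w x y : ι → F) :
    B (shift B J d c w x) y + B x (shift B J d c w y) = 0 := by
  simp only [shift, LinearMap.add_apply, LinearMap.smul_apply, sy_apply, map_add, map_smul,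
    smul_eq_mul]
  rw [antisymm hS y c, antisymm hS y w, antisymm hS y (J c), antisymm hS y (J w)]
  ring

theorem shift_j (c w x : ι → F) : shift B J d c w (J x) = J (shift B J d c w x) := by
  have e : ∀ z, B (J x) z = -B x (J z) := hS.skew x
  simp only [shift, LinearMap.add_apply, LinearMap.smul_apply, sy_apply, map_add, map_smul, hS.sq,
    e, smul_eq_mul]
  module

theorem utv_sq {a : ι → F} (ha : B (J a) a = 0) (s : F) (x : ι → F) :
    utv B J d s a (utv B J d s a x) = 0 := by
  have h2 : B a (J a) = 0 := by rw [antisymm hS, ha, neg_zero]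
  simp [utv, tt_apply, ha, h2, hS.alt]

theorem utv_skew (a : ι → F) (s : F) (x y : ι → F) :
    B (utv B J d s a x) y + B x (utv B J d s a y) = 0 := by
  simp only [utv, LinearMap.add_apply, tt_apply, map_add, map_smul, LinearMap.smul_apply,
    smul_eq_mul]
  rw [antisymm hS y a, antisymm hS y (J a)]
  ring

theorem utv_j (a : ι → F) (s : F) (x : ι → F) : utv B J d s a (J x) = J (utv B J d s a x) := by
  have e : ∀ z, B (J x) z = -B x (J z) := hS.skew x
  simp only [utv, LinearMap.add_apply, tt_apply, map_add, map_smul, hS.sq, e, smul_eq_mul]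
  module

variable (hM : Over B J d M)
include hM

theorem tt_conj {g : (ι → F) ≃ₗ[F] (ι → F)} (hg : g ∈ M) {s : F} {v : ι → F}
    (h : InM M (tt B s v)) : InM M (tt B s (g v)) := by
  refine (h.conj hg).congr fun x => ?_
  show g (tt B s v (g.symm x)) = _
  rw [tt_apply, tt_apply, map_smul, map_smul, ← hM.iso g hg (g.symm x) v, g.apply_symm_apply]

/-- All transvections at `v` lie in `M`. -/
def Cen (B : (ι → F) →ₗ[F] (ι → F) →ₗ[F] F) (M : Subgroup ((ι → F) ≃ₗ[F] (ι → F))) (v : ι → F) :
    Prop := ∀ s, InM M (tt B s v)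

/-- Moving a singular vector by a singular vector of its orthogonal. -/
theorem cen_add {a y : ι → F} (ha : Cen B M a) (ha1 : B (J a) a = 0) (hy : B (J y) y = 0)
    (h1 : B y a = 0) (h2 : B (J y) a = 0)
    (hn : a ∉ Submodule.span F {z | z ∈ [y, J y]}) :
    Cen B M (a + y) := by
  have hn' : a ∉ Submodule.span F {z | z ∈ [y, J y, J a]} := by
    intro hm
    have hst := span_kl_stable hS y
    rw [show {z | z ∈ [y, J y, J a]} = insert (J a) {z | z ∈ [y, J y]} from Set.ext fun z => by
      simp; tauto] at hm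
    obtain ⟨r, z, hz, e⟩ := Submodule.mem_span_insert.1 hm
    refine hn (mem_of_comb hS hst (p := 1) (q := -r) ?_ (Or.inl one_ne_zero))
    rw [one_smul]
    convert hz using 1
    linear_combination (norm := module) e
  obtain ⟨c, hc, hco, hca⟩ := exists_sep hS [y, J y, J a] hn' (by simp)
  have hyc : B y c = 0 := hco y (by simp)
  have hjyc : B (J y) c = 0 := hco _ (by simp)
  have hjac : B (J a) c = 0 := hco _ (by simp)
  set k := -(d * B a c)⁻¹ with hk
  have hG : Good B J c (k • y) := by
    refine ⟨?_, ?_, hc, ?_⟩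
    · rw [map_smul, antisymm hS, hyc, neg_zero, smul_zero]
    · rw [map_smul, b_j_comm hS, hjyc, smul_zero]
    · simp [hy]
  obtain ⟨g, hg, hgx⟩ := hM.shifts c _ hG
  have e : g a = a + y := by
    rw [hgx, shift, LinearMap.add_apply, LinearMap.smul_apply, sy_apply, sy_apply]
    have a1 : B a (J c) = 0 := by rw [antisymm hS, b_j_comm hS, hjac, neg_zero]
    have a2 : B a y = 0 := by rw [antisymm hS, h1, neg_zero]
    have a3 : B a (J y) = 0 := by rw [antisymm hS, h2, neg_zero]
    simp only [map_smul, smul_eq_mul, a1, a2, a3, mul_zero, zero_mul, zero_smul, add_zero, smul_smul]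
    rw [hk, show -d * (B a c * -(d * B a c)⁻¹) = (d * B a c) * (d * B a c)⁻¹ by ring,
      mul_inv_cancel₀ (mul_ne_zero (d_ne hS) hca), one_smul]
  exact fun s => e ▸ tt_conj hS hM hg (ha s)

theorem cen_step {a z : ι → F} (ha0 : a ≠ 0) (ha : Cen B M a) (ha1 : B (J a) a = 0) (hz : B (J z) z = 0)
    (h1 : B z a = 0) (h2 : B (J z) a = 0) (hn : z ∉ Submodule.span F {x | x ∈ [a, J a]}) :
    Cen B M z := by
  have h2' : B (J a) z = 0 := by rw [b_j_comm hS, h2]
  have e : a + (z - a) = z := by abel
  rw [← e]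
  refine cen_add hS hM ha ha1 ?_ ?_ ?_ ?_
  · simp only [map_sub, LinearMap.sub_apply, hz, ha1, h2, h2', sub_zero]
  · simp [h1, hS.alt]
  · simp [h2, ha1]
  · intro hm
    obtain ⟨p, q, hpq⟩ := Submodule.mem_span_pair.1
      (show a ∈ Submodule.span F ({z - a, J (z - a)} : Set (ι → F)) by
        convert hm using 3
        ext; simp)
    refine hn (mem_of_comb hS (span_kl_stable hS a) (p := p) (q := q) ?_ ?_)
    · have : p • z + q • J z = (1 + p) • a + q • J a := by
        rw [map_sub] at hpq
        linear_combination (norm := module) hpq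
      rw [this]
      exact add_mem (Submodule.smul_mem _ _ (Submodule.subset_span (by simp)))
        (Submodule.smul_mem _ _ (Submodule.subset_span (by simp)))
    · by_contra h
      push Not at h
      rw [h.1, h.2, zero_smul, zero_smul, add_zero] at hpq
      exact ha0 hpq.symm

theorem cen_singular {w b : ι → F} (hw : Cen B M w) (hw1 : B (J w) w = 0) (hw0 : w ≠ 0)
    (hb : B (J b) b = 0) : Cen B M b := by
  by_cases hb0 : b = 0
  · exact fun s => SympExt.inM_zero.congr fun x => by simp [tt_apply, hb0]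
  obtain ⟨z, hz, hzo, hzT⟩ := exists_avoid hS [w, J w, b, J b] [w, J w] (by simp)
  have o : ∀ u ∈ [w, J w, b, J b], B z u = 0 := fun u hu => by
    rw [antisymm hS, hzo u hu, neg_zero]
  have o' : ∀ u ∈ [w, b], B (J z) u = 0 := fun u hu => by
    rw [hS.skew, o (J u) (by rcases List.mem_pair.1 hu with rfl | rfl <;> simp), neg_zero]
  have h1 : Cen B M z := cen_step hS hM hw0 hw hw1 hz (o w (by simp)) (o' w (by simp)) hzT
  by_cases hzb : z ∈ Submodule.span F {x | x ∈ [b, J b]}
  · obtain ⟨p, q, hpq⟩ := Submodule.mem_span_pair.1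
      (show z ∈ Submodule.span F ({b, J b} : Set (ι → F)) by convert hzb using 3; ext; simp)
    have hpq' : p ≠ 0 ∨ q ≠ 0 := by
      by_contra h'
      push Not at h'
      rw [h'.1, h'.2, zero_smul, zero_smul, add_zero] at hpq
      exact hzT (hpq ▸ zero_mem _)
    have e1 : p * B b w + q * B (J b) w = 0 := by
      have := o w (by simp)
      rwa [← hpq, LinearMap.map_add₂, LinearMap.map_smul₂, LinearMap.map_smul₂] at this
    have e2 : p * B (J b) w + q * (d * B b w) = 0 := by
      have := o' w (by simp)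
      rwa [← hpq, map_add, map_smul, map_smul, hS.sq, LinearMap.map_add₂, LinearMap.map_smul₂, LinearMap.map_smul₂,
        LinearMap.map_smul₂] at this
    have hdet : p * p - d * (q * q) ≠ 0 := fun e => by
      by_cases hq : q = 0
      · subst hq
        exact hpq'.elim (fun h => h (mul_self_eq_zero.1 (by linear_combination e))) (fun h => h rfl)
      · refine hS.nonsq (p / q) ?_
        field_simp
        linear_combination e
    have f1 : B b w = 0 := (mul_eq_zero.1 (show (p * p - d * (q * q)) * B b w = 0 by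
      linear_combination p * e1 - q * e2)).resolve_left hdet
    have f2 : B (J b) w = 0 := (mul_eq_zero.1 (show (p * p - d * (q * q)) * B (J b) w = 0 by
      linear_combination p * e2 - d * q * e1)).resolve_left hdet
    refine cen_step hS hM hw0 hw hw1 hb f1 f2 fun hbw => hzT ?_
    rw [← hpq]
    exact add_mem (Submodule.smul_mem _ _ hbw) (Submodule.smul_mem _ _ (span_kl_stable hS w b hbw))
  refine cen_step hS hM (fun e => hzT (by rw [e]; exact zero_mem _)) h1 hz hb (hzo b (by simp)) (hzo (J b) (by simp)) fun h => hzb ?_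
  obtain ⟨p, q, hpq⟩ := Submodule.mem_span_pair.1
    (show b ∈ Submodule.span F ({z, J z} : Set (ι → F)) by convert h using 3; ext; simp)
  refine mem_of_comb hS (span_kl_stable hS b) (p := p) (q := q) (by rw [hpq]; exact Submodule.subset_span (by simp)) ?_
  by_contra h'
  push Not at h'
  rw [h'.1, h'.2, zero_smul, zero_smul, add_zero] at hpq
  exact hb0 hpq.symm

theorem cen_all (hall : ∀ b, B (J b) b = 0 → Cen B M b) (v : ι → F) : Cen B M v := by
  by_cases hv : v = 0
  · exact fun s => SympExt.inM_zero.congr fun x => by simp [tt_apply, hv]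
  obtain ⟨a, ha, -, hav⟩ := exists_sep hS [] (x := v) (by
    simpa using hv) (by simp)
  -- a multiple over the extension orthogonal to neither `v` nor `J v`
  obtain ⟨a', ha', h1, h2⟩ : ∃ a', B (J a') a' = 0 ∧ B v a' ≠ 0 ∧ B (J v) a' ≠ 0 := by
    by_cases hb : B (J v) a = 0
    · refine ⟨a + J a, ?_, ?_, ?_⟩
      · have h3 : B a (J a) = 0 := by rw [antisymm hS, ha, neg_zero]
        simp [hS.sq, ha, h3, hS.alt]
      · rw [map_add, show B v (J a) = -B (J v) a by rw [hS.skew, neg_neg], hb, neg_zero, add_zero]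
        exact hav
      · rw [map_add, hb, jj hS, zero_add, neg_ne_zero]
        exact mul_ne_zero (d_ne hS) hav
    · exact ⟨a, ha, hav, hb⟩
  set s := -(B (J v) v) / (2 * B (J v) a') with hs
  have hb : B (J (v + s • a')) (v + s • a') = 0 := by
    simp only [map_add, map_smul, LinearMap.add_apply, LinearMap.smul_apply, smul_eq_mul, ha',
      mul_zero, add_zero]
    rw [b_j_comm hS a' v, hs]
    field_simp [hS.two]
    ring
  by_cases hs0 : s = 0
  · rw [hs0, zero_smul, add_zero] at hb
    exact hall v hb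
  intro r
  have hBb : B (v + s • a') a' ≠ 0 := by
    rw [LinearMap.map_add₂, LinearMap.map_smul₂, hS.alt, smul_zero, add_zero]; exact h1
  obtain ⟨g, hg, hgx⟩ := hall a' ha' (-s / B (v + s • a') a')
  have e : g (v + s • a') = v := by
    rw [hgx, tt_apply, smul_smul, div_mul_cancel₀ _ hBb]
    module
  exact e ▸ tt_conj hS hM hg (hall _ hb r)

/-- A moved line over the extension gives all transvections. -/
theorem all_transvections {g0 : (ι → F) ≃ₗ[F] (ι → F)} (hg0 : g0 ∈ M) {a : ι → F}
    (ha : B (J a) a = 0) (hmove : g0 (J a) ∉ Submodule.span F {x | x ∈ [g0 a, J (g0 a)]})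
    (v : ι → F) (s : F) : InM M (tt B s v) := by
  set p := g0 a with hp
  set p' := g0 (J a) with hp'
  have hpp : B p p' = 0 := by rw [hp, hp', hM.iso g0 hg0, antisymm hS, ha, neg_zero]
  have hpp' : B p' p = 0 := by rw [antisymm hS, hpp, neg_zero]
  have hp'0 : p' ≠ 0 := fun e => hmove (by rw [e]; exact zero_mem _)
  have hpn : p ∉ Submodule.span F {x | x ∈ [p', J p', J p]} := by
    intro hz2
    rw [show {x | x ∈ [p', J p', J p]} = insert (J p) {x | x ∈ [p', J p']} from
      Set.ext fun x => by simp; tauto] at hz2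
    obtain ⟨r3, z3, hz3, e3⟩ := Submodule.mem_span_insert.1 hz2
    have hpm : p ∈ Submodule.span F {x | x ∈ [p', J p']} := by
      refine mem_of_comb hS (span_kl_stable hS p') (p := 1) (q := -r3) ?_ (Or.inl one_ne_zero)
      rw [one_smul]
      convert hz3 using 1
      linear_combination (norm := module) e3
    obtain ⟨u1, u2, hu⟩ := Submodule.mem_span_pair.1
      (show p ∈ Submodule.span F ({p', J p'} : Set (ι → F)) by convert hpm using 3; ext; simp)
    refine hmove (mem_of_comb hS (span_kl_stable hS p) (p := u1) (q := u2) ?_ ?_)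
    · rw [hu]; exact Submodule.subset_span (by simp)
    · by_contra h'
      push Not at h'
      rw [h'.1, h'.2, zero_smul, zero_smul, add_zero] at hu
      exact hp'0 (by
        have : a = 0 := g0.injective (by rw [← hp, ← hu, map_zero])
        rw [hp', this, map_zero, map_zero])
  obtain ⟨c, hc, hco, hpc⟩ := exists_sep hS _ hpn (by simp)
  obtain ⟨w, hw0, hw, hwo⟩ := exists_perp hS [p, J p, p', J p', c, J c] (by simp)
  have a1 : B p (J c) = 0 := by
    rw [antisymm hS, b_j_comm hS, hco (J p) (by simp), neg_zero]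
  have a2 : B p' c = 0 := hco p' (by simp)
  have a3 : B p' (J c) = 0 := by
    rw [antisymm hS, b_j_comm hS, hco (J p') (by simp), neg_zero]
  have a4 : B p w = 0 := hwo p (by simp)
  have a5 : B p (J w) = 0 := by rw [antisymm hS, b_j_comm hS, hwo (J p) (by simp), neg_zero]
  have a6 : B p' w = 0 := hwo p' (by simp)
  have a7 : B p' (J w) = 0 := by rw [antisymm hS, b_j_comm hS, hwo (J p') (by simp), neg_zero]
  have a8 : B w p = 0 := by rw [antisymm hS, a4, neg_zero]
  have a9 : B w p' = 0 := by rw [antisymm hS, a6, neg_zero]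
  have b1 : B c w = 0 := hwo c (by simp)
  have b2 : B (J c) w = 0 := hwo (J c) (by simp)
  have hk : ∀ k : F, Good B J c (k • w) := fun k => by
    refine ⟨?_, ?_, hc, ?_⟩ <;> simp [b1, b2, hw]
  set k := -(d * B p c)⁻¹ with hkd
  have hmap : ∀ r : F, ∃ u ∈ M, u p = p + r • w ∧ u p' = p' := by
    intro r
    obtain ⟨u, hu, hux⟩ := hM.shifts c _ (hk (r * k))
    refine ⟨u, hu, ?_, ?_⟩
    · rw [hux, shift, LinearMap.add_apply, LinearMap.smul_apply, sy_apply, sy_apply]
      simp only [map_smul, smul_eq_mul, a1, a4, a5, mul_zero, zero_mul, zero_smul, add_zero, smul_smul]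
      rw [hkd, show -d * (B p c * (r * -(d * B p c)⁻¹)) = r * ((d * B p c) * (d * B p c)⁻¹) by ring,
        mul_inv_cancel₀ (mul_ne_zero (d_ne hS) hpc), mul_one]
    · rw [hux, shift, LinearMap.add_apply, LinearMap.smul_apply, sy_apply, sy_apply]
      simp [a2, a3, a6, a7]
  have hE : ∀ (t r : F), InM M (tt B (-(d * t)) (p + r • w) + tt B t p') := by
    intro t r
    obtain ⟨u, hu, hup, hup'⟩ := hmap r
    refine (((hM.base a t ha).conj hg0).conj hu).congr fun x => ?_
    show u (g0 (utv B J d t a (g0.symm (u.symm x)))) = _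
    rw [utv, LinearMap.add_apply, tt_apply, tt_apply, LinearMap.add_apply, tt_apply, tt_apply]
    simp only [map_add, map_smul, ← hp, ← hp', hup, hup']
    have i1 : ∀ z, B (g0.symm (u.symm x)) z = B x (u (g0 z)) := fun z => by
      rw [← hM.iso g0 hg0, g0.apply_symm_apply, ← hM.iso u hu, u.apply_symm_apply]
    rw [i1, i1, ← hp, ← hp', hup, hup', map_add, map_smul]
  have hw' : ∀ r : F, InM M (tt B r w) := by
    intro r
    set t := -(r / (2 * d)) with ht
    refine (((hE t 1).add (hE t (-1)) fun x => ?_).add (hE (-2 * t) 0) fun x => ?_).congr fun x => ?_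
    · simp [tt_apply, hS.alt, hpp, hpp', a4, a6, a8, a9]
    · simp [tt_apply, hS.alt, hpp, hpp', a4, a6, a8, a9]
    · simp only [LinearMap.add_apply, tt_apply, map_add, map_smul, smul_eq_mul, one_smul, one_mul,
        neg_smul, zero_smul, add_zero, map_neg]
      have hr : r = -(2 * (d * t)) := by
        rw [ht]
        field_simp [hS.two, d_ne hS]
      rw [hr]
      module
  exact cen_all hS hM (fun b hb => cen_singular hS hM hw' hw hw0 hb) v s

omit hM in
/-- An element keeping the singular lines over the extension normalises it. -/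
theorem conj_mem_span {g : (ι → F) ≃ₗ[F] (ι → F)}
    (hl : ∀ a, B (J a) a = 0 → g (J a) ∈ Submodule.span F {x | x ∈ [g a, J (g a)]}) :
    ∃ α β : F, ∀ x, g (J x) = α • g x + β • J (g x) := by
  have hc : ∀ y, B (J y) y = 0 → ∃ α β : F, g (J y) = α • g y + β • J (g y) := fun y hy => by
    obtain ⟨α, β, e⟩ := Submodule.mem_span_pair.1
      (show g (J y) ∈ Submodule.span F ({g y, J (g y)} : Set (ι → F)) by
        convert hl y hy using 3; ext; simp)
    exact ⟨α, β, e.symm⟩
  choose! α β hαβ using hc
  have heq : ∀ y z, B (J y) y = 0 → B (J z) z = 0 → B (J y) z = 0 → g y ≠ 0 →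
      g z ∉ Submodule.span F {x | x ∈ [g y, J (g y)]} → α y = α z ∧ β y = β z := by
    intro y z hy hz hyz hy0 hzy
    have hsum : B (J (y + z)) (y + z) = 0 := by
      simp only [map_add, LinearMap.add_apply, hy, hz, hyz, b_j_comm hS z y, add_zero]
    have e := hαβ (y + z) hsum
    simp only [map_add, hαβ y hy, hαβ z hz] at e
    have h1 : (α z - α (y + z)) • g z + (β z - β (y + z)) • J (g z) ∈
        Submodule.span F {x | x ∈ [g y, J (g y)]} := by
      have : (α z - α (y + z)) • g z + (β z - β (y + z)) • J (g z) =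
          -((α y - α (y + z)) • g y + (β y - β (y + z)) • J (g y)) := by
        linear_combination (norm := module) e
      rw [this]
      exact neg_mem (add_mem (Submodule.smul_mem _ _ (Submodule.subset_span (by simp)))
        (Submodule.smul_mem _ _ (Submodule.subset_span (by simp))))
    obtain ⟨hA, hB⟩ : α z - α (y + z) = 0 ∧ β z - β (y + z) = 0 := by
      by_contra h
      exact hzy (mem_of_comb hS (span_kl_stable hS (g y)) h1 (not_and_or.1 h))
    obtain ⟨hA', hB'⟩ : α y - α (y + z) = 0 ∧ β y - β (y + z) = 0 := by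
      by_contra h
      refine hy0 ((Submodule.mem_bot F).1 (mem_of_comb hS (T := ⊥)
        (fun x hx => by rw [(Submodule.mem_bot F).1 hx, map_zero]; exact zero_mem _)
        ?_ (not_and_or.1 h)))
      rw [Submodule.mem_bot]
      linear_combination (norm := module) e - (hA • g z) - (hB • J (g z))
    exact ⟨(sub_eq_zero.1 hA').trans (sub_eq_zero.1 hA).symm,
      (sub_eq_zero.1 hB').trans (sub_eq_zero.1 hB).symm⟩
  obtain ⟨y0, hy0, -, hy0T⟩ := exists_avoid hS [] [] (by simp)
  have hy00 : y0 ≠ 0 := fun e => hy0T (by rw [e]; exact zero_mem _)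
  refine ⟨α y0, β y0, fun x => ?_⟩
  have hall : ∀ y, B (J y) y = 0 → g (J y) = α y0 • g y + β y0 • J (g y) := by
    intro y hy
    by_cases hy' : y = 0
    · simp [hy']
    obtain ⟨z, hz, hzo, hzT⟩ := exists_avoid hS [J y, J y0]
      [g.symm (g y), g.symm (J (g y)), g.symm (g y0), g.symm (J (g y0))] (by simp)
    have hout : ∀ u ∈ [y, y0], g z ∉ Submodule.span F {x | x ∈ [g u, J (g u)]} := by
      intro u hu hm
      refine hzT ?_
      have h2 := Submodule.apply_mem_span_image_of_mem_span g.symm.toLinearMap hm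
      rw [LinearEquiv.coe_coe, g.symm_apply_apply] at h2
      refine Submodule.span_mono ?_ h2
      rintro _ ⟨x, hx, rfl⟩
      rcases List.mem_pair.1 hu with rfl | rfl <;> rcases List.mem_pair.1 hx with rfl | rfl <;> simp
    obtain ⟨e1, e2⟩ := heq y z hy hz (hzo _ (by simp)) (by simpa using hy') (hout y (by simp))
    obtain ⟨e3, e4⟩ := heq y0 z hy0 hz (hzo _ (by simp)) (by simpa using hy00) (hout y0 (by simp))
    rw [hαβ y hy, e1, e2, e3, e4]
  induction span_singular hS x using Submodule.span_induction with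
  | mem y hy => exact hall y hy
  | zero => simp
  | add u v _ _ hu hv => simp only [map_add, hu, hv]; module
  | smul c u _ hu => simp only [map_smul, hu]; module

omit hM in
/-- Some transvection does not keep a singular line over the extension. -/
theorem exists_moving : ∃ (a x : ι → F), B (J a) a = 0 ∧ B a x = 0 ∧ B (J a) x ≠ 0 := by
  obtain ⟨a, ha, -, haT⟩ := exists_avoid hS [] [] (by simp)
  have ha0 : a ≠ 0 := fun e => haT (by rw [e]; exact zero_mem _)
  obtain ⟨x, -, hxo, hx⟩ := exists_sep hS [a] (x := J a) (fun h => by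
    obtain ⟨r, hr⟩ := Submodule.mem_span_singleton.1
      (show J a ∈ Submodule.span F ({a} : Set (ι → F)) by convert h using 3; ext; simp)
    refine hS.nonsq r ?_
    have h1 := hS.sq a
    rw [← hr, map_smul, ← hr, smul_smul] at h1
    exact smul_left_injective F ha0 h1) (by simp)
  exact ⟨a, x, ha, hxo a (by simp), hx⟩

end CfsgLib.SympU
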