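import Cfsg.Agent.Lib.Classical.SympOrder
import Cfsg.Agent.Lib.Classical.WittExtension
import Cfsg.Agent.Lib.Classical.IsoProd

set_option autoImplicit false

/-!
Orders of the stabilisers of totally isotropic subspaces and flags in the symplectic group.
-/

namespace CfsgLib.Classical.SympParabolic

open Matrix Cfsg CfsgLib.Classical.SympTrans

variable {F : Type*} [Field F] {m k : ℕ}

local notation "V" => (Fin m ⊕ Fin m → F)
local notation "G" => Matrix.symplecticGroup (Fin m) F
local notation "ω" => sympForm m F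

variable (hk : k ≤ m)

/-- The `j`-th isotropic basis vector. -/
def eV (j : Fin k) : V := Pi.single (.inl (Fin.castLE hk j)) 1

/-- The span of the first `k` of the `e`'s. -/
def E (k : ℕ) : Submodule F V where
  carrier := {v | (∀ i, v (.inr i) = 0) ∧ ∀ i : Fin m, k ≤ (i : ℕ) → v (.inl i) = 0}
  zero_mem' := ⟨fun _ => rfl, fun _ _ => rfl⟩
  add_mem' {a b} ha hb := ⟨fun i => by simp [ha.1 i, hb.1 i], fun i hi => by simp [ha.2 i hi, hb.2 i hi]⟩
  smul_mem' c a ha := ⟨fun i => by simp [ha.1 i], fun i hi => by simp [ha.2 i hi]⟩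

theorem eV_mem (j : Fin k) : eV (F := F) hk j ∈ E (F := F) (m := m) k :=
  ⟨fun i => by simp [eV], fun i hi => by
    have : i ≠ Fin.castLE hk j := fun e => by subst e; have := j.isLt; simp at hi; omega
    simp [eV, this]⟩

theorem expand {v : V} (hv : v ∈ E (F := F) (m := m) k) :
    v = ∑ j : Fin k, v (.inl (Fin.castLE hk j)) • eV hk j := by
  funext s
  rw [Finset.sum_apply]
  rcases s with i | i
  · by_cases hi : (i : ℕ) < k
    · rw [Finset.sum_eq_single (⟨i, hi⟩ : Fin k)]
      · simp [eV, Fin.castLE]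
      · intro b _ hb
        have : i ≠ Fin.castLE hk b := fun e => hb (Fin.ext (by subst e; rfl))
        simp [eV, this]
      · simp
    · rw [hv.2 i (not_lt.1 hi), Finset.sum_eq_zero]
      intro b _
      have : i ≠ Fin.castLE hk b := fun e => hi (by rw [e]; exact b.isLt)
      simp [eV, this]
  · simp [hv.1 i, eV]

/-- Linear combinations of the first `k` of the `e`'s. -/
def comb : (Fin k → F) →ₗ[F] V where
  toFun x := ∑ j, x j • eV hk j
  map_add' x y := by simp [add_smul, Finset.sum_add_distrib]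
  map_smul' c x := by simp [Finset.smul_sum, smul_smul]

theorem comb_inl (x : Fin k → F) (i : Fin k) : comb hk x (.inl (Fin.castLE hk i)) = x i := by
  simp [comb, eV, Pi.single_apply]

theorem comb_mem (x : Fin k → F) : comb hk x ∈ E (F := F) (m := m) k := by
  show ∑ j, x j • eV hk j ∈ _
  exact Submodule.sum_mem _ fun j _ => Submodule.smul_mem _ _ (eV_mem hk j)

/-- Coordinates of `E k`. -/
noncomputable def coord : E (F := F) (m := m) k ≃ₗ[F] (Fin k → F) :=
  LinearEquiv.ofLinear
    { toFun := fun v i => (v : V) (.inl (Fin.castLE hk i))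
      map_add' := fun a b => rfl
      map_smul' := fun c a => rfl }
    ((comb hk).codRestrict _ (comb_mem hk))
    (LinearMap.ext fun x => funext fun i => comb_inl hk x i)
    (LinearMap.ext fun v => Subtype.ext (expand hk v.2).symm)

include hk in
theorem finrank_E : Module.finrank F (E (F := F) (m := m) k) = k := by
  rw [(coord hk).finrank_eq, Module.finrank_fin_fun]

theorem iso_E {u v : V} (hu : u ∈ E (F := F) (m := m) k) (hv : v ∈ E (F := F) (m := m) k) : ω u v = 0 := by
  rw [f_apply]
  exact Finset.sum_eq_zero fun i _ => by simp [hu.1 i, hv.1 i]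

/-- Witt's theorem for the symplectic group. -/
theorem exists_extend (X : Submodule F V) (f : X →ₗ[F] V) (hf : Function.Injective f)
    (hI : ∀ a b : X, ω (f a) (f b) = ω (a : V) (b : V)) : ∃ g : G, ∀ a : X, app g (a : V) = f a := by
  have hB : (IsoProd.sympBilin (F := F) m).Nondegenerate := by
    have hs : ∀ v, (∀ w, IsoProd.sympBilin (F := F) m v w = 0) → v = 0 := fun v h =>
      eq_zero_of_f v fun w => by rw [← IsoProd.sympBilin_apply]; exact h w
    exact ⟨hs, fun v h => hs v fun w => (IsoProd.sympBilin_alt m).isRefl _ _ (h w)⟩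
  obtain ⟨g, hg, hgX⟩ := Witt.witt_alternating (IsoProd.sympBilin (F := F) m) hB (IsoProd.sympBilin_alt m)
    X (LinearMap.range f) (LinearEquiv.ofInjective f hf) (fun x x' => by
      simp only [LinearEquiv.ofInjective_apply, IsoProd.sympBilin_apply]
      exact hI x x')
  obtain ⟨e, he⟩ := IsoProd.sp_equiv (F := F) m
  refine ⟨e.symm ⟨g, fun u v => by
    rw [← IsoProd.sympBilin_apply, ← IsoProd.sympBilin_apply]; exact hg u v⟩, fun a => ?_⟩
  have h := he (e.symm ⟨g, fun u v => by
    rw [← IsoProd.sympBilin_apply, ← IsoProd.sympBilin_apply]; exact hg u v⟩) (a : V)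
  rw [MulEquiv.apply_symm_apply] at h
  exact h.symm.trans (hgX a)

/-- The pointwise fixer of the `e`'s. -/
def P : Subgroup G where
  carrier := {g | ∀ j : Fin k, app g (eV hk j) = eV hk j}
  one_mem' _ := app_one _
  mul_mem' {a b} ha hb j := by rw [app_mul, hb j, ha j]
  inv_mem' {a} ha j := by conv_lhs => rw [← ha j, app_inv]

/-- The possible images of the `f`'s. -/
def T : Type _ :=
  {f : Fin k → V // (∀ i j : Fin k, f j (.inr (Fin.castLE hk i)) = if i = j then 1 else 0) ∧
    ∀ i j : Fin k, ω (f i) (f j) = 0}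

theorem pair_expand {f g : V} {a b : Fin k}
    (hf : ∀ l : Fin k, f (.inr (Fin.castLE hk l)) = if l = a then 1 else 0)
    (hg : ∀ l : Fin k, g (.inr (Fin.castLE hk l)) = if l = b then 1 else 0) :
    ω f g = g (.inl (Fin.castLE hk a)) - f (.inl (Fin.castLE hk b)) + ω (cut k f) (cut k g) := by
  have h1 : ∀ l : Fin m, f (.inr l) * g (.inl l) - f (.inl l) * g (.inr l) =
      (if (l : ℕ) < k then f (.inr l) * g (.inl l) - f (.inl l) * g (.inr l) else 0) +
      (cut k f (.inr l) * cut k g (.inl l) - cut k f (.inl l) * cut k g (.inr l)) := fun l => by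
    by_cases hl : (l : ℕ) < k <;> simp [cut, hl]
  rw [f_apply, f_apply, Finset.sum_congr rfl (fun l _ => h1 l), Finset.sum_add_distrib]
  congr 1
  rw [← Finset.sum_filter]
  have h2 : (Finset.univ.filter fun l : Fin m => (l : ℕ) < k) = Finset.univ.map (Fin.castLEEmb hk) := by
    ext l
    simp only [Finset.mem_filter, Finset.mem_univ, true_and, Finset.mem_map, Fin.castLEEmb_apply]
    exact ⟨fun h => ⟨⟨l, h⟩, Fin.ext rfl⟩, by rintro ⟨a, rfl⟩; exact a.isLt⟩
  rw [h2, Finset.sum_map]
  simp only [Fin.castLEEmb_apply, hf, hg]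
  simp [Finset.sum_sub_distrib]

/-- The free parameters of `T`. -/
def Idx (k : ℕ) : Type := Σ j : Fin k, Fin (j.val + 1)

/-- Assemble an element of `T`. -/
def mk (A : Idx k → F) (w : Fin k → (W k : Submodule F V)) (j : Fin k) : V :=
  Sum.elim
    (fun l => if hl : (l : ℕ) < k then
        (if h : (l : ℕ) ≤ (j : ℕ) then A ⟨j, ⟨l, Nat.lt_succ_of_le h⟩⟩
          else A ⟨⟨l, hl⟩, ⟨j, by simp; omega⟩⟩ - ω (w ⟨l, hl⟩ : V) (w j : V))
      else (w j : V) (.inl l))
    (fun l => if (l : ℕ) < k then (if (l : ℕ) = (j : ℕ) then 1 else 0) else (w j : V) (.inr l))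

theorem cut_mk (A : Idx k → F) (w : Fin k → (W k : Submodule F V)) (j : Fin k) :
    cut k (mk A w j) = (w j : V) := by
  funext s
  rcases s with l | l <;> by_cases hl : (l : ℕ) < k
  · simp [cut, hl, ((w j).2 l hl).1]
  · simp [cut, mk, hl]
  · simp [cut, hl, ((w j).2 l hl).2]
  · simp [cut, mk, hl]

theorem mk_inr (A : Idx k → F) (w : Fin k → (W k : Submodule F V)) (j i : Fin k) :
    mk A w j (.inr (Fin.castLE hk i)) = if i = j then 1 else 0 := by
  simp [mk, Fin.ext_iff]

theorem mk_inl (A : Idx k → F) (w : Fin k → (W k : Submodule F V)) (j i : Fin k) :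
    mk A w j (.inl (Fin.castLE hk i)) = if h : (i : ℕ) ≤ (j : ℕ) then A ⟨j, ⟨i, Nat.lt_succ_of_le h⟩⟩
      else A ⟨i, ⟨j, by omega⟩⟩ - ω (w i : V) (w j : V) := by
  simp [mk]

/-- `T` is an affine space. -/
noncomputable def equivT : T (F := F) hk ≃ (Idx k → F) × (Fin k → (W k : Submodule F V)) where
  toFun f := (fun p => f.1 p.1 (.inl (Fin.castLE hk ⟨p.2, lt_of_lt_of_le p.2.isLt p.1.isLt⟩)),
    fun j => ⟨cut k (f.1 j), cut_mem k _⟩)
  invFun x := ⟨mk x.1 x.2, fun i j => mk_inr hk _ _ j i, fun i j => by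
    rw [pair_expand hk (fun l => mk_inr hk _ _ i l) (fun l => mk_inr hk _ _ j l), cut_mk, cut_mk,
      mk_inl, mk_inl]
    rcases lt_trichotomy (i : ℕ) (j : ℕ) with h | h | h
    · rw [dif_pos h.le, dif_neg (not_le.2 h), f_swap (x.2 i : V) (x.2 j : V)]
      ring
    · obtain rfl : i = j := Fin.ext h
      rw [f_self]; ring
    · rw [dif_neg (not_le.2 h), dif_pos h.le]
      ring⟩
  left_inv f := Subtype.ext (funext fun j => funext fun s => by
    rcases s with l | l <;> by_cases hl : (l : ℕ) < k
    · obtain ⟨i, rfl⟩ : ∃ i, Fin.castLE hk i = l := ⟨⟨l, hl⟩, rfl⟩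
      simp only [mk_inl]
      split_ifs with h
      · rfl
      · have := f.2.2 i j
        rw [pair_expand hk (fun l => f.2.1 l i) (fun l => f.2.1 l j)] at this
        show f.1 i (.inl (Fin.castLE hk ⟨(j : ℕ), _⟩)) - _ = _
        linear_combination -this
    · simp [mk, cut, hl]
    · obtain ⟨i, rfl⟩ : ∃ i, Fin.castLE hk i = l := ⟨⟨l, hl⟩, rfl⟩
      simp only [mk_inr]
      exact (f.2.1 i j).symm
    · simp [mk, cut, hl])
  right_inv x := by
    refine Prod.ext (funext fun p => ?_) (funext fun j => Subtype.ext (cut_mk x.1 x.2 j))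
    obtain ⟨j, i⟩ := p
    simp only [mk_inl]
    rw [dif_pos (Nat.le_of_lt_succ i.isLt)]

theorem card_T [Finite F] : Nat.card (T (F := F) hk) =
    Nat.card F ^ (k * (k + 1) / 2 + 2 * k * (m - k)) := by
  classical
  have : Finite (Idx k) := by unfold Idx; infer_instance
  have hI : Nat.card (Idx k) = k * (k + 1) / 2 := by
    unfold Idx
    rw [Nat.card_sigma]
    simp only [Nat.card_fin]
    rw [Fin.sum_univ_eq_sum_range (fun i => i + 1) k]
    have h := Finset.sum_range_id (k + 1)
    rw [Finset.sum_range_succ', add_zero, Nat.add_sub_cancel, mul_comm] at h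
    exact h
  rw [Nat.card_congr (equivT hk), Nat.card_prod, Nat.card_fun, Nat.card_fun, card_W hk, hI, Nat.card_fin,
    ← pow_mul, ← pow_add]
  congr 1
  ring

theorem extend_exists (f : T (F := F) hk) :
    ∃ g : G, g ∈ P hk ∧ ∀ j : Fin k, app g (Pi.single (.inr (Fin.castLE hk j)) 1) = f.1 j := by
  classical
  let X : Submodule F V :=
    { carrier := {v | ∀ i : Fin m, k ≤ (i : ℕ) → v (.inl i) = 0 ∧ v (.inr i) = 0}
      zero_mem' := fun _ _ => ⟨rfl, rfl⟩
      add_mem' := fun {a b} ha hb i hi => by simp [(ha i hi).1, (ha i hi).2, (hb i hi).1, (hb i hi).2]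
      smul_mem' := fun c a ha i hi => by simp [(ha i hi).1, (ha i hi).2] }
  let L : V →ₗ[F] V :=
    { toFun := fun v => comb hk (fun j => v (.inl (Fin.castLE hk j))) + ∑ j, v (.inr (Fin.castLE hk j)) • f.1 j
      map_add' := fun a b => by
        rw [show (fun j => (a + b) (.inl (Fin.castLE hk j))) =
          (fun j => a (.inl (Fin.castLE hk j))) + fun j => b (.inl (Fin.castLE hk j)) from rfl, map_add]
        simp only [Pi.add_apply, add_smul, Finset.sum_add_distrib]
        abel
      map_smul' := fun c a => by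
        rw [show (fun j => (c • a) (.inl (Fin.castLE hk j))) =
          c • fun j => a (.inl (Fin.castLE hk j)) from rfl, map_smul]
        simp only [Pi.smul_apply, smul_eq_mul, ← smul_smul, ← Finset.smul_sum, smul_add, RingHom.id_apply] }
  have hLr : ∀ (v : V) (i : Fin k), L v (.inr (Fin.castLE hk i)) = (v : V) (.inr (Fin.castLE hk i)) := fun v i => by
    show comb (F := F) hk _ (.inr _) + _ = _
    rw [(comb_mem hk _).1, zero_add, Finset.sum_apply]
    simp [f.2.1]
  have hinj : Function.Injective (L ∘ₗ X.subtype) := by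
    refine (injective_iff_map_eq_zero _).2 fun v hv => ?_
    have hr : ∀ i : Fin k, (v : V) (.inr (Fin.castLE hk i)) = 0 := fun i => by
      exact (hLr _ _).symm.trans (congrFun hv _)
    have hl : ∀ i : Fin k, (v : V) (.inl (Fin.castLE hk i)) = 0 := fun i => by
      have := congrFun hv (.inl (Fin.castLE hk i))
      simpa [L, comb_inl, hr] using this
    refine Subtype.ext (funext fun s => ?_)
    rcases s with i | i <;> by_cases hi : (i : ℕ) < k
    · exact hl ⟨i, hi⟩
    · exact (v.2 i (not_lt.1 hi)).1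
    · exact hr ⟨i, hi⟩
    · exact (v.2 i (not_lt.1 hi)).2
  have he : ∀ i : Fin k, ∀ u : V, ω u (eV hk i) = u (.inr (Fin.castLE hk i)) := fun i u => f_inl u _
  have hiso : ∀ a b : X, ω (L a) (L b) = ω (a : V) (b : V) := by
    intro a b
    let B := IsoProd.sympBilin (F := F) m
    have h1 : ∀ x : Fin k → F, ∀ y : V, ω (comb hk x) y = -∑ i, x i * y (.inr (Fin.castLE hk i)) := by
      intro x y
      show ω (∑ i, x i • eV hk i) y = _
      rw [← IsoProd.sympBilin_apply, map_sum, LinearMap.coe_sum, Finset.sum_apply, ← Finset.sum_neg_distrib]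
      refine Finset.sum_congr rfl fun i _ => ?_
      rw [map_smul, LinearMap.smul_apply, IsoProd.sympBilin_apply, f_swap, he, smul_eq_mul]
      ring
    have h2 : ω (∑ i, (a : V) (.inr (Fin.castLE hk i)) • f.1 i)
        (∑ i, (b : V) (.inr (Fin.castLE hk i)) • f.1 i) = 0 := by
      rw [← IsoProd.sympBilin_apply]
      simp [map_sum, IsoProd.sympBilin_apply, f.2.2]
    show ω (comb hk _ + _) (comb hk _ + _) = _
    rw [f_add_left, f_add_right, h1, f_add_right (∑ i, _), h2, add_zero]
    have h3 : ∀ x : Fin k → F, ω (∑ i, (a : V) (.inr (Fin.castLE hk i)) • f.1 i) (comb hk x) =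
        ∑ i, x i * (a : V) (.inr (Fin.castLE hk i)) := by
      intro x
      rw [f_swap, h1, neg_neg]
      refine Finset.sum_congr rfl fun i _ => ?_
      simp [f.2.1]
    rw [h3, h1]
    have h4 : ω (a : V) (b : V) = ∑ i : Fin k, ((a : V) (.inr (Fin.castLE hk i)) * (b : V) (.inl (Fin.castLE hk i))
        - (a : V) (.inl (Fin.castLE hk i)) * (b : V) (.inr (Fin.castLE hk i))) := by
      rw [f_apply]
      symm
      refine Finset.sum_of_injOn (Fin.castLE hk) (Fin.castLE_injective hk).injOn (by simp) (fun l _ hl => ?_)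
        (fun i _ => rfl)
      have hlk : k ≤ (l : ℕ) := not_lt.1 fun h => hl ⟨⟨l, h⟩, by simp, rfl⟩
      simp [(a.2 l hlk).1, (a.2 l hlk).2]
    rw [h4, Finset.sum_sub_distrib]
    simp [comb, eV, f.2.1, mul_comm]
    ring
  obtain ⟨g, hg⟩ := exists_extend X (L ∘ₗ X.subtype) hinj hiso
  have hmem : ∀ s : Fin k, (eV hk s : V) ∈ X ∧ (Pi.single (.inr (Fin.castLE hk s)) 1 : V) ∈ X := fun s => by
    refine ⟨fun i hi => ?_, fun i hi => ?_⟩ <;>
    · have : i ≠ Fin.castLE hk s := fun e => by subst e; have := s.isLt; simp at hi; omega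
      constructor <;> simp [eV, this]
  refine ⟨g, fun j => ?_, fun j => ?_⟩
  · rw [hg ⟨_, (hmem j).1⟩]
    show L (eV hk j) = eV hk j
    simp only [L, LinearMap.coe_mk, AddHom.coe_mk]
    rw [Finset.sum_eq_zero (fun i _ => by simp [eV]), add_zero]
    exact (expand hk (eV_mem hk j)).symm
  · rw [hg ⟨_, (hmem j).2⟩]
    show L (Pi.single (.inr (Fin.castLE hk j)) 1) = f.1 j
    simp only [L, LinearMap.coe_mk, AddHom.coe_mk]
    have : (fun i => (Pi.single (.inr (Fin.castLE hk j)) 1 : V) (.inl (Fin.castLE hk i))) = 0 :=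
      funext fun i => by simp
    rw [this, map_zero, zero_add]
    simp [Pi.single_apply]

theorem fixer_le : fixer (F := F) (m := m) k ≤ P hk := fun g hg j =>
  (hg (Fin.castLE hk j) j.isLt).1

theorem card_P [Finite F] :
    Nat.card (P (F := F) hk) = Nat.card (T (F := F) hk) * Nat.card (fixer (F := F) (m := m) k) := by
  classical
  let φ : P (F := F) hk → T (F := F) hk := fun g =>
    ⟨fun j => app (g : G) (Pi.single (.inr (Fin.castLE hk j)) 1), fun i j => by
      have h := f_app (g : G) (Pi.single (.inr (Fin.castLE hk j)) 1) (eV hk i)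
      rw [g.2 i] at h
      simp only [eV, f_inl] at h
      show app (g : G) _ _ = _
      rw [h]
      simp [Pi.single_apply, eq_comm], fun i j => by
      rw [f_app, f_inr]
      simp⟩
  have hex : ∀ t, ∃ g, φ g = t := fun t => by
    obtain ⟨g, hg, hgf⟩ := extend_exists hk t
    exact ⟨⟨g, hg⟩, Subtype.ext (funext hgf)⟩
  choose s hs using hex
  have hfib : ∀ a b : P (F := F) hk, φ a = φ b → (a⁻¹ * b : P (F := F) hk).1 ∈ fixer (F := F) (m := m) k := by
    intro a b h i hi
    have h1 : app (a : G) (Pi.single (.inr (Fin.castLE hk ⟨i, hi⟩)) 1) =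
        app (b : G) (Pi.single (.inr (Fin.castLE hk ⟨i, hi⟩)) 1) :=
      congrFun (congrArg Subtype.val h) ⟨i, hi⟩
    refine ⟨(a⁻¹ * b : P (F := F) hk).2 ⟨i, hi⟩, ?_⟩
    rw [Subgroup.coe_mul, app_mul]
    show app _ (app _ (Pi.single (.inr (Fin.castLE hk ⟨i, hi⟩)) 1)) = _
    rw [← h1, Subgroup.coe_inv, app_inv]
    rfl
  have hback : ∀ t (h : fixer (F := F) (m := m) k), φ (s t * ⟨h, fixer_le hk h.2⟩) = t := fun t h => by
    conv_rhs => rw [← hs t]
    refine Subtype.ext (funext fun j => ?_)
    show app ((s t * ⟨h, fixer_le hk h.2⟩ : P hk) : G) _ = app _ _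
    rw [Subgroup.coe_mul, app_mul]
    exact congrArg _ (h.2 (Fin.castLE hk j) j.isLt).2
  rw [← Nat.card_prod]
  exact Nat.card_congr
    { toFun := fun g => (φ g, ⟨_, hfib (s (φ g)) g (hs _)⟩)
      invFun := fun p => s p.1 * ⟨p.2, fixer_le hk p.2.2⟩
      left_inv := fun g => Subtype.ext (by simp)
      right_inv := fun p => by
        refine Prod.ext (hback _ _) (Subtype.ext ?_)
        show ((s (φ (s p.1 * ⟨p.2, fixer_le hk p.2.2⟩)))⁻¹ * (s p.1 * ⟨p.2, fixer_le hk p.2.2⟩) : P hk).1 = _
        rw [hback, inv_mul_cancel_left] }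

/-- The setwise stabiliser of `E k`. -/
def stabE : Subgroup G := stabilizing (spToMat m F) ((E (F := F) (m := m) k : Submodule F V) : Set V)

theorem app_E {g : G} (hg : g ∈ stabE (F := F) (m := m) (k := k)) {v : V} (hv : v ∈ E (F := F) (m := m) k) :
    app g v ∈ E (F := F) (m := m) k := (hg v).1 hv

/-- The action on `E k` as a matrix. -/
def res (g : G) : Matrix (Fin k) (Fin k) F :=
  Matrix.of fun i j => app g (eV hk j) (.inl (Fin.castLE hk i))

theorem app_comb {g : G} (hg : g ∈ stabE (F := F) (m := m) (k := k)) (x : Fin k → F) :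
    app g (comb hk x) = comb hk (res hk g *ᵥ x) := by
  have hm := app_E hg (comb_mem hk x)
  rw [expand hk hm]
  refine Finset.sum_congr rfl fun i _ => ?_
  congr 1
  show app g (∑ j, x j • eV hk j) _ = _
  rw [show app g (∑ j, x j • eV hk j) = ∑ j, x j • app g (eV hk j) from by
    simp only [app, Matrix.mulVec_sum, Matrix.mulVec_smul]]
  simp [res, Matrix.mulVec, dotProduct, mul_comm]

/-- Restriction to `E k`. -/
noncomputable def resHom : stabE (F := F) (m := m) (k := k) →* GL (Fin k) F :=
  MonoidHom.toHomUnits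
    { toFun := fun g => res hk (g : G)
      map_one' := Matrix.ext_of_mulVec_single fun i => funext fun l => by
        have h := app_comb hk (one_mem (stabE (F := F) (m := m) (k := k))) (Pi.single i 1)
        rw [app_one] at h
        have := congrFun h (.inl (Fin.castLE hk l))
        rw [comb_inl, comb_inl] at this
        rw [Matrix.one_mulVec]
        exact this.symm
      map_mul' := fun a b => Matrix.ext_of_mulVec_single fun i => funext fun l => by
        have h := app_comb hk (a * b).2 (Pi.single i 1)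
        rw [Subgroup.coe_mul, app_mul, app_comb hk b.2, app_comb hk a.2] at h
        have := congrFun h (.inl (Fin.castLE hk l))
        rw [comb_inl, comb_inl] at this
        rw [← Matrix.mulVec_mulVec]
        exact this.symm }

theorem resHom_val (g : stabE (F := F) (m := m) (k := k)) :
    ((resHom hk g : GL (Fin k) F) : Matrix (Fin k) (Fin k) F) = res hk (g : G) := rfl

theorem mem_stab_of_map {g : G} {U U' : Submodule F V} (h : ∀ v ∈ U, app g v ∈ U')
    (hd : Module.finrank F U = Module.finrank F U') (v : V) : v ∈ U ↔ app g v ∈ U' := by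
  refine ⟨h v, fun hv => ?_⟩
  let L : U →ₗ[F] U' :=
    { toFun := fun x => ⟨app g x, h x x.2⟩
      map_add' := fun a b => Subtype.ext (app_add g _ _)
      map_smul' := fun c a => Subtype.ext (app_smul g c _) }
  have hi : Function.Injective L := fun a b e => Subtype.ext <| by
    rw [← app_inv g (a : V), show app g (a : V) = app g b from congrArg Subtype.val e, app_inv]
  obtain ⟨x, hx⟩ := (LinearMap.injective_iff_surjective_of_finrank_eq_finrank hd).1 hi ⟨_, hv⟩
  have e : app g (x : V) = app g v := congrArg Subtype.val hx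
  rw [← app_inv g v, ← e, app_inv]
  exact x.2

theorem resHom_surjective : Function.Surjective (resHom (F := F) hk) := by
  intro A
  let M : V →ₗ[F] V := comb hk ∘ₗ Matrix.mulVecLin (A : Matrix (Fin k) (Fin k) F) ∘ₗ
    { toFun := fun v i => v (.inl (Fin.castLE hk i))
      map_add' := fun a b => rfl
      map_smul' := fun c a => rfl }
  let f : E (F := F) (m := m) k →ₗ[F] V := M ∘ₗ (E (F := F) (m := m) k).subtype
  have hM : ∀ x : Fin k → F, M (comb hk x) = comb hk ((A : Matrix (Fin k) (Fin k) F) *ᵥ x) := fun x => by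
    show comb hk ((A : Matrix (Fin k) (Fin k) F) *ᵥ fun i => comb hk x (.inl (Fin.castLE hk i))) = _
    simp only [comb_inl]
  have hinj : Function.Injective f := by
    intro a b h
    have h' : (fun i => (a : V) (.inl (Fin.castLE hk i))) = fun i => (b : V) (.inl (Fin.castLE hk i)) := by
      refine Matrix.mulVec_injective_of_isUnit A.isUnit (funext fun i => ?_)
      have := congrFun h (.inl (Fin.castLE hk i))
      simpa [f, M, comb_inl] using this
    exact (coord hk).injective h'
  obtain ⟨g, hg⟩ := exists_extend _ f hinj fun a b => by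
    show ω (comb hk _) (comb hk _) = _
    rw [iso_E (comb_mem hk _) (comb_mem hk _), iso_E a.2 b.2]
  have hgE : g ∈ stabE (F := F) (m := m) (k := k) := fun v => mem_stab_of_map (fun w hw => by
    rw [hg ⟨w, hw⟩]; exact comb_mem hk _) rfl v
  refine ⟨⟨g, hgE⟩, Units.ext (Matrix.ext_of_mulVec_single fun i => funext fun l => ?_)⟩
  rw [resHom_val]
  have h := app_comb hk hgE (Pi.single i 1)
  rw [hg ⟨_, comb_mem hk _⟩] at h
  have := congrFun h (.inl (Fin.castLE hk l))
  simp only [f, LinearMap.comp_apply, Submodule.subtype_apply, hM, comb_inl] at this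
  exact this.symm

theorem card_fiber [Finite F] (P' : Matrix (Fin k) (Fin k) F → Prop) :
    Nat.card {g : stabE (F := F) (m := m) (k := k) // P' (res hk (g : G))} =
      Nat.card {A : GL (Fin k) F // P' (A : Matrix (Fin k) (Fin k) F)} * Nat.card (P (F := F) hk) := by
  classical
  have hk' : ∀ g : stabE (F := F) (m := m) (k := k), g ∈ (resHom hk).ker ↔ (g : G) ∈ P hk := by
    intro g
    constructor
    · intro h j
      have e : res hk (g : G) = 1 := by
        rw [← resHom_val]; exact congrArg Units.val h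
      have h1 := app_comb hk g.2 (Pi.single j 1)
      rw [e, Matrix.one_mulVec] at h1
      have e2 : comb hk (Pi.single j 1 : Fin k → F) = eV hk j := by
        simp [comb, Pi.single_apply]
      rwa [e2] at h1
    · intro h
      refine Units.ext (Matrix.ext fun i j => ?_)
      rw [resHom_val]
      simp only [res, Matrix.of_apply, h j]
      simp [eV, Pi.single_apply, Matrix.one_apply]
  have hPle : ∀ g : G, g ∈ P (F := F) hk → g ∈ stabE (F := F) (m := m) (k := k) := fun g hg v =>
    mem_stab_of_map (fun w hw => by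
      rw [expand hk hw]
      simp only [app, Matrix.mulVec_sum, Matrix.mulVec_smul]
      refine Submodule.sum_mem _ fun j _ => Submodule.smul_mem _ _ ?_
      rw [show g.1 *ᵥ eV hk j = eV hk j from hg j]
      exact eV_mem hk j) rfl v
  have eker : (resHom (F := F) (m := m) hk).ker ≃ P (F := F) hk :=
    { toFun := fun g => ⟨g.1.1, (hk' _).1 g.2⟩
      invFun := fun g => ⟨⟨g.1, hPle _ g.2⟩, (hk' _).2 g.2⟩
      left_inv := fun g => rfl
      right_inv := fun g => rfl }
  choose s hs using resHom_surjective (F := F) (m := m) hk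
  rw [← Nat.card_congr eker, ← Nat.card_prod]
  refine Nat.card_congr
    { toFun := fun g => (⟨resHom hk g.1, g.2⟩, ⟨(s (resHom hk g.1))⁻¹ * g.1, by
        rw [MonoidHom.mem_ker, map_mul, map_inv, hs, inv_mul_cancel]⟩)
      invFun := fun p => ⟨s p.1.1 * p.2.1, by
        have e : resHom hk (s p.1.1 * p.2.1) = p.1.1 := by rw [map_mul, hs, p.2.2, mul_one]
        rw [← resHom_val, e]; exact p.1.2⟩
      left_inv := fun g => Subtype.ext (mul_inv_cancel_left _ _)
      right_inv := fun p => ?_ }
  have e : resHom hk (s p.1.1 * p.2.1) = p.1.1 := by rw [map_mul, hs, p.2.2, mul_one]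
  refine Prod.ext (Subtype.ext e) (Subtype.ext ?_)
  show (s (resHom hk (s p.1.1 * p.2.1)))⁻¹ * (s p.1.1 * p.2.1) = _
  rw [e, inv_mul_cancel_left]

theorem card_P' [Finite F] : Nat.card (P (F := F) hk) =
    Nat.card F ^ (k * (k + 1) / 2 + 2 * k * (m - k)) *
      (Nat.card F ^ ((m - k) ^ 2) * ∏ i ∈ Finset.range (m - k), (Nat.card F ^ (2 * (i + 1)) - 1)) := by
  rw [card_P, card_T, ← card_fixer (F := F) (m := m) (m - k) (by omega), Nat.sub_sub_self hk]

theorem card_stabilizer [Fintype F] {q : ℕ} (hF : Fintype.card F = q) (hk : k ≤ m)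
    (U : Submodule F V) (hUk : Module.finrank F U = k) (hU : ∀ u ∈ U, ∀ v ∈ U, ω u v = 0) :
    Nat.card ↥(stabilizing (spToMat m F) (U : Set V)) =
      q ^ (k * (k + 1) / 2 + 2 * k * (m - k)) * (q ^ ((m - k) ^ 2) *
        ∏ i ∈ Finset.range (m - k), (q ^ (2 * (i + 1)) - 1)) * ∏ i : Fin k, (q ^ k - q ^ (i : ℕ)) := by
  subst hF
  let φ : E (F := F) (m := m) k ≃ₗ[F] U := (coord hk).trans (Module.finBasisOfFinrankEq F U hUk).equivFun.symm
  obtain ⟨g, hg⟩ := exists_extend _ (U.subtype ∘ₗ φ.toLinearMap)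
    (U.injective_subtype.comp φ.injective) fun a b => by
      show ω (φ a : V) (φ b : V) = _
      rw [hU _ (φ a).2 _ (φ b).2, iso_E a.2 b.2]
  have hmap : ∀ v, v ∈ E (F := F) (m := m) k ↔ app g v ∈ U :=
    mem_stab_of_map (fun v hv => by rw [hg ⟨v, hv⟩]; exact (φ _).2) (by rw [finrank_E hk, hUk])
  have e : ↥(stabilizing (spToMat m F) (U : Set V)) ≃ stabE (F := F) (m := m) (k := k) :=
    { toFun := fun x => ⟨g⁻¹ * x.1 * g, fun v => by
        show v ∈ E k ↔ app (g⁻¹ * x.1 * g) v ∈ E k
        rw [hmap v, hmap (app (g⁻¹ * x.1 * g) v), app_mul, app_mul, app_inv']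
        exact x.2 _⟩
      invFun := fun x => ⟨g * x.1 * g⁻¹, fun v => by
        show v ∈ U ↔ app (g * x.1 * g⁻¹) v ∈ U
        rw [app_mul, app_mul, ← hmap, show v ∈ U ↔ app g⁻¹ v ∈ E k by rw [hmap, app_inv']]
        exact x.2 _⟩
      left_inv := fun x => Subtype.ext (by group)
      right_inv := fun x => Subtype.ext (by group) }
  rw [Nat.card_congr e]
  have h := card_fiber (F := F) (m := m) hk (fun _ => True)
  rw [Nat.card_congr (Equiv.subtypeUnivEquiv fun _ => trivial),
    Nat.card_congr (Equiv.subtypeUnivEquiv fun _ => trivial), Matrix.card_GL_field, card_P' hk,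
    Nat.card_eq_fintype_card (α := F)] at h
  rw [h]
  ring

theorem card_upper [Fintype F] :
    Nat.card {A : GL (Fin k) F // ∀ i j : Fin k, j < i → (A : Matrix (Fin k) (Fin k) F) i j = 0} =
      (Fintype.card F - 1) ^ k * Fintype.card F ^ (k * (k - 1) / 2) := by
  classical
  have hdet : ∀ A : Matrix (Fin k) (Fin k) F, (∀ i j, j < i → A i j = 0) → A.det = ∏ i, A i i :=
    fun A h => Matrix.det_of_upperTriangular fun i j hij => h i j hij
  let e : {A : GL (Fin k) F // ∀ i j : Fin k, j < i → (A : Matrix (Fin k) (Fin k) F) i j = 0} ≃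
      (Fin k → Fˣ) × ((Σ j : Fin k, Fin j.val) → F) :=
    { toFun := fun A => (fun i => Units.mk0 ((A.1 : Matrix (Fin k) (Fin k) F) i i) fun h => A.1.det_ne_zero (by
          rw [hdet _ A.2]
          exact Finset.prod_eq_zero (Finset.mem_univ i) h),
        fun p => (A.1 : Matrix (Fin k) (Fin k) F) ⟨p.2, p.2.isLt.trans p.1.isLt⟩ p.1)
      invFun := fun x =>
        ⟨Matrix.GeneralLinearGroup.mkOfDetNeZero (Matrix.of fun i j =>
          if h : i < j then x.2 ⟨j, ⟨i, h⟩⟩ else if i = j then (x.1 i : F) else 0) (by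
            rw [hdet _ fun i j hij => by simp [not_lt.2 hij.le, hij.ne']]
            simp [Finset.prod_ne_zero_iff]),
          fun i j hij => by simp [not_lt.2 hij.le, hij.ne']⟩
      left_inv := fun A => Subtype.ext (Units.ext (Matrix.ext fun i j => by
        rcases lt_trichotomy i j with h | rfl | h
        · simp [h]
        · simp
        · simp [not_lt.2 h.le, h.ne', A.2 i j h]))
      right_inv := fun x => Prod.ext (funext fun i => Units.ext (by simp))
        (funext fun p => by
          simp only [Matrix.GeneralLinearGroup.val_mkOfDetNeZero, Matrix.of_apply]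
          exact dif_pos p.2.isLt) }
  rw [Nat.card_congr e, Nat.card_prod, Nat.card_fun, Nat.card_fun, Nat.card_units, Nat.card_fin,
    Nat.card_eq_fintype_card (α := F), Nat.card_sigma]
  simp only [Nat.card_fin]
  rw [Fin.sum_univ_eq_sum_range (fun i => i) k, Finset.sum_range_id]

theorem card_flag [Fintype F] {q : ℕ} (hF : Fintype.card F = q) (m : ℕ) :
    Nat.card ↥(⨅ k : Fin m, stabilizing (spToMat m F)
      {v : Fin m ⊕ Fin m → F | (∀ i : Fin m, (k : ℕ) < (i : ℕ) → v (Sum.inl i) = 0) ∧
        ∀ i : Fin m, v (Sum.inr i) = 0}) = q ^ (m ^ 2) * (q - 1) ^ m := by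
  subst hF
  have hS : ∀ (j : Fin m) (g : Matrix.symplecticGroup (Fin m) F),
      g ∈ stabilizing (spToMat m F) {v : Fin m ⊕ Fin m → F | (∀ i : Fin m, (j : ℕ) < (i : ℕ) → v (Sum.inl i) = 0) ∧
        ∀ i : Fin m, v (Sum.inr i) = 0} ↔
      ∀ v, v ∈ E (F := F) (m := m) ((j : ℕ) + 1) ↔ app g v ∈ E (F := F) (m := m) ((j : ℕ) + 1) := by
    intro j g
    have e : ∀ v : Fin m ⊕ Fin m → F, ((∀ i : Fin m, (j : ℕ) < (i : ℕ) → v (Sum.inl i) = 0) ∧
        ∀ i : Fin m, v (Sum.inr i) = 0) ↔ v ∈ E (F := F) (m := m) ((j : ℕ) + 1) := fun v =>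
      ⟨fun h => ⟨h.2, fun i hi => h.1 i hi⟩, fun h => ⟨fun i hi => h.2 i hi, h.1⟩⟩
    exact forall_congr' fun v => iff_congr (e v) (e _)
  have key : ∀ g : Matrix.symplecticGroup (Fin m) F,
      g ∈ (⨅ k : Fin m, stabilizing (spToMat m F)
        {v : Fin m ⊕ Fin m → F | (∀ i : Fin m, (k : ℕ) < (i : ℕ) → v (Sum.inl i) = 0) ∧
          ∀ i : Fin m, v (Sum.inr i) = 0}) ↔
      g ∈ stabE (F := F) (m := m) (k := m) ∧ ∀ i j : Fin m, j < i → res le_rfl g i j = 0 := by
    intro g
    rw [Subgroup.mem_iInf]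
    simp only [hS]
    constructor
    · intro h
      refine ⟨fun v => ?_, fun i j hij => ?_⟩
      · rcases Nat.eq_zero_or_pos m with rfl | hm
        · have : ∀ w : Fin 0 ⊕ Fin 0 → F, w ∈ E (F := F) (m := 0) 0 := fun w =>
            ⟨fun i => i.elim0, fun i => i.elim0⟩
          exact iff_of_true (this v) (this _)
        · have := h ⟨m - 1, by omega⟩ v
          rw [show ((⟨m - 1, by omega⟩ : Fin m) : ℕ) + 1 = m by simp; omega] at this
          exact this
      · refine ((h j (eV le_rfl j)).1 ⟨fun l => by simp [eV], fun l hl => ?_⟩).2 _ hij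
        have : l ≠ j := fun e => by subst e; simp at hl
        simp [eV, this]
    · rintro ⟨hst, hup⟩ j v
      refine mem_stab_of_map (fun w hw => ?_) rfl v
      have hwm : w ∈ E (F := F) (m := m) m := ⟨hw.1, fun i hi => absurd i.isLt (not_lt.2 hi)⟩
      rw [expand le_rfl hwm]
      simp only [app, Matrix.mulVec_sum, Matrix.mulVec_smul]
      refine Submodule.sum_mem _ fun l _ => ?_
      rcases le_or_gt (l : ℕ) (j : ℕ) with hlj | hlj
      · refine Submodule.smul_mem _ _ ⟨(app_E hst (eV_mem le_rfl l)).1, fun i hi => ?_⟩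
        exact hup i l (by rw [Fin.lt_def]; omega)
      · rw [hw.2 (Fin.castLE le_rfl l) (by simp; omega), zero_smul]
        exact Submodule.zero_mem _
  rw [Nat.card_congr (Equiv.subtypeEquivRight key),
    ← Nat.card_congr (Equiv.subtypeSubtypeEquivSubtypeInter (fun g => g ∈ stabE (F := F) (m := m) (k := m))
      (fun g => ∀ i j : Fin m, j < i → res le_rfl g i j = 0))]
  have h := card_fiber (F := F) (m := m) le_rfl (fun A => ∀ i j : Fin m, j < i → A i j = 0)
  refine h.trans ?_
  rw [card_upper, card_P' le_rfl, Nat.sub_self, Nat.card_eq_fintype_card (α := F)]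
  simp only [Nat.zero_pow two_pos, pow_zero, Finset.range_zero, Finset.prod_empty, mul_one, mul_zero, add_zero]
  have e : m * (m - 1) / 2 + m * (m + 1) / 2 = m ^ 2 := by
    rcases m with _ | n
    · rfl
    · have e1 : (n + 1) * (n + 1 + 1) = (n + 1) * n + 2 * (n + 1) := by ring
      obtain ⟨t, ht⟩ := Nat.even_mul_succ_self n
      have e2 : (n + 1) * n = 2 * t := by rw [mul_comm]; omega
      have e3 : (n + 1) ^ 2 = (n + 1) * n + (n + 1) := by ring
      rw [e1, e2, Nat.add_sub_cancel, e2, e3, e2, Nat.mul_div_cancel_left _ two_pos, ← Nat.mul_add,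
        Nat.mul_div_cancel_left _ two_pos]
      omega
  rw [← e, pow_add]
  ring

end CfsgLib.Classical.SympParabolic
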