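import Mathlib
import Cfsg.Agent.Lib.Classical.SympTrans

set_option autoImplicit false

/-!
`Sp_2n` is generated by three conjugate regular unipotent elements.
-/

namespace CfsgLib.Classical.SympRegGen

open Matrix Cfsg CfsgLib.Classical.SympTrans

variable {F : Type*} [Field F] {m : ℕ}

/-- The basis vector `e_k`, zero out of range. -/
def E (k : ℕ) : (Fin m ⊕ Fin m → F) := if h : k < m then Pi.single (.inl ⟨k, h⟩) 1 else 0

/-- The basis vector `f_k`, zero out of range. -/
def Fv (k : ℕ) : (Fin m ⊕ Fin m → F) := if h : k < m then Pi.single (.inr ⟨k, h⟩) 1 else 0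

theorem E_inl (k : ℕ) (j : Fin m) : (E k : (Fin m ⊕ Fin m → F)) (.inl j) = if (j : ℕ) = k then 1 else 0 := by
  unfold E
  split_ifs with h h' h'
  · subst h'; simp
  · exact Pi.single_eq_of_ne (by simpa [Fin.ext_iff] using h') _
  · exact absurd (h' ▸ j.2) h
  · rfl

theorem E_inr (k : ℕ) (j : Fin m) : (E k : (Fin m ⊕ Fin m → F)) (.inr j) = 0 := by
  unfold E; split_ifs <;> simp

theorem Fv_inr (k : ℕ) (j : Fin m) : (Fv k : (Fin m ⊕ Fin m → F)) (.inr j) = if (j : ℕ) = k then 1 else 0 := by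
  unfold Fv
  split_ifs with h h' h'
  · subst h'; simp
  · exact Pi.single_eq_of_ne (by simpa [Fin.ext_iff] using h') _
  · exact absurd (h' ▸ j.2) h
  · rfl

theorem Fv_inl (k : ℕ) (j : Fin m) : (Fv k : (Fin m ⊕ Fin m → F)) (.inl j) = 0 := by
  unfold Fv; split_ifs <;> simp

theorem f_E {k : ℕ} (h : k < m) (u : Fin m ⊕ Fin m → F) : sympForm m F u (E k) = u (.inr ⟨k, h⟩) := by
  rw [E, dif_pos h, f_inl]

theorem f_Fv {k : ℕ} (h : k < m) (u : Fin m ⊕ Fin m → F) : sympForm m F u (Fv k) = -u (.inl ⟨k, h⟩) := by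
  rw [Fv, dif_pos h, f_inr]

theorem f_EE (i j : ℕ) : sympForm m F (E i) (E j) = 0 := by
  by_cases h : j < m
  · rw [f_E h, E_inr]
  · conv_lhs => arg 4; rw [E, dif_neg h]
    exact f_zero_right _

theorem f_FF (i j : ℕ) : sympForm m F (Fv i) (Fv j) = 0 := by
  by_cases h : j < m
  · rw [f_Fv h, Fv_inl, neg_zero]
  · conv_lhs => arg 4; rw [Fv, dif_neg h]
    exact f_zero_right _

theorem f_FE (i j : ℕ) (h : j < m) : sympForm m F (Fv i) (E j) = if j = i then 1 else 0 := by
  rw [f_E h, Fv_inr]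

theorem f_EF (i j : ℕ) (h : j < m) : sympForm m F (E i) (Fv j) = if j = i then -1 else 0 := by
  rw [f_Fv h, E_inl]; split_ifs <;> simp

theorem T_inv (v : Fin m ⊕ Fin m → F) (c : F) : (T v c)⁻¹ = T v (-c) :=
  inv_eq_of_mul_eq_one_right (by rw [T_mul, add_neg_cancel, T_zero])

theorem T_comm {x y : Fin m ⊕ Fin m → F} (h : sympForm m F x y = 0) (c d : F) :
    T x c * T y d = T y d * T x c := by
  have h1 := conj_T (T x c) y d
  rw [app_T, f_swap x y, h, neg_zero, mul_zero, zero_smul, add_zero] at h1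
  exact mul_inv_eq_iff_eq_mul.1 h1

/-- The Siegel element of the symmetric product of `x` and `y`. -/
def P (x y : Fin m ⊕ Fin m → F) (c : F) : Matrix.symplecticGroup (Fin m) F :=
  T (x + y) c * T x (-c) * T y (-c)

theorem app_P {x y : Fin m ⊕ Fin m → F} (h : sympForm m F x y = 0) (c : F) (z : Fin m ⊕ Fin m → F) :
    app (P x y c) z = z + ((c * sympForm m F z x) • y + (c * sympForm m F z y) • x) := by
  simp only [P, app_mul, app_T, f_add_left, f_add_right, f_smul_left, f_self, h, f_swap x y,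
    neg_zero, mul_zero, add_zero]
  module

theorem conj_P (g : Matrix.symplecticGroup (Fin m) F) (x y : Fin m ⊕ Fin m → F) (c : F) :
    g * P x y c * g⁻¹ = P (app g x) (app g y) c := by
  rw [P, P, conj_mul.symm, conj_mul.symm, conj_T, conj_T, conj_T, app_add]

theorem T_add {x y : Fin m ⊕ Fin m → F} (h : sympForm m F x y = 0) (c : F) :
    T (x + y) c = T x c * T y c * P x y c := by
  refine ext_app fun z => ?_
  rw [app_mul, app_mul, app_P h]
  simp only [app_T, f_add_left, f_add_right, f_smul_left, f_self, h, f_swap x y, neg_zero,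
    mul_zero, add_zero]
  module

theorem P_add {x x' y : Fin m ⊕ Fin m → F} (h : sympForm m F x y = 0) (h' : sympForm m F x' y = 0)
    (hx : sympForm m F x x' = 0) (c : F) : P (x + x') y c = P x y c * P x' y c := by
  refine ext_app fun z => ?_
  rw [app_mul, app_P h, app_P h', app_P (by rw [f_add_left, h, h', add_zero])]
  simp only [f_add_left, f_add_right, f_smul_left, f_self, h, h', hx, f_swap x x', f_swap x y,
    f_swap x' y, neg_zero, mul_zero, add_zero]
  module

theorem P_swap {x y : Fin m ⊕ Fin m → F} (h : sympForm m F x y = 0) (c : F) : P x y c = P y x c := by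
  refine ext_app fun z => ?_
  rw [app_P h, app_P (by rw [f_swap, h, neg_zero])]
  module

theorem P_smul {x y : Fin m ⊕ Fin m → F} (h : sympForm m F x y = 0) (a b c : F) :
    P (a • x) (b • y) c = P x y (a * b * c) := by
  refine ext_app fun z => ?_
  rw [app_P h, app_P (by rw [f_smul_left, f_smul_right, h, mul_zero, mul_zero]), f_smul_right,
    f_smul_right]
  module

/-! ### Transvection groups inside a subgroup -/

/-- All transvections at `v` lie in `H`. -/
def SV (H : Subgroup (Matrix.symplecticGroup (Fin m) F)) (v : Fin m ⊕ Fin m → F) : Prop :=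
  ∀ c, T v c ∈ H

/-- The Siegel elements of `x` and `y` lie in `H`. -/
def SP (H : Subgroup (Matrix.symplecticGroup (Fin m) F)) (x y : Fin m ⊕ Fin m → F) : Prop :=
  ∀ c, P x y c ∈ H

variable {H : Subgroup (Matrix.symplecticGroup (Fin m) F)}

theorem conj_mem {g x : Matrix.symplecticGroup (Fin m) F} (hg : g ∈ H) (hx : x ∈ H) :
    g * x * g⁻¹ ∈ H := mul_mem (mul_mem hg hx) (inv_mem hg)

theorem sv_conj {g : Matrix.symplecticGroup (Fin m) F} (hg : g ∈ H) {v : Fin m ⊕ Fin m → F}
    (hv : SV H v) : SV H (app g v) := fun c => conj_T g v c ▸ conj_mem hg (hv c)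

theorem sv_back {g : Matrix.symplecticGroup (Fin m) F} (hg : g ∈ H) {v : Fin m ⊕ Fin m → F}
    (hv : SV H (app g v)) : SV H v := by
  have := sv_conj (inv_mem hg) hv
  rwa [app_inv] at this

theorem sv_smul {v : Fin m ⊕ Fin m → F} (hv : SV H v) (a : F) : SV H (a • v) := fun c => by
  rw [T_smul]; exact hv _

theorem sv_zero : SV H (0 : Fin m ⊕ Fin m → F) := fun c => by rw [T_zero']; exact one_mem _

theorem sp_of {x y : Fin m ⊕ Fin m → F} (h1 : SV H (x + y)) (h2 : SV H x) (h3 : SV H y) :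
    SP H x y := fun c => mul_mem (mul_mem (h1 c) (h2 _)) (h3 _)

theorem sv_add {x y : Fin m ⊕ Fin m → F} (h : sympForm m F x y = 0) (h1 : SV H x) (h2 : SV H y)
    (h3 : SP H x y) : SV H (x + y) := fun c => by
  rw [T_add h]; exact mul_mem (mul_mem (h1 c) (h2 c)) (h3 c)

theorem sp_smul {x y : Fin m ⊕ Fin m → F} (h : sympForm m F x y = 0) (h1 : SP H x y) (a b : F) :
    SP H (a • x) (b • y) := fun c => by
  rw [P_smul h]; exact h1 _

/-- Supported on `e_j`, `j < k`. -/
def WE (k : ℕ) (x : Fin m ⊕ Fin m → F) : Prop :=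
  ∀ j : Fin m, x (.inr j) = 0 ∧ (k ≤ (j : ℕ) → x (.inl j) = 0)

theorem f_WE {k l : ℕ} {x y : Fin m ⊕ Fin m → F} (hx : WE k x) (hy : WE l y) :
    sympForm m F x y = 0 := by
  rw [f_apply]
  exact Finset.sum_eq_zero fun i _ => by rw [(hx i).1, (hy i).1]; ring

theorem WE_E (k : ℕ) {l : ℕ} (h : k < l) : WE l (E k : Fin m ⊕ Fin m → F) := fun j =>
  ⟨E_inr k j, fun hj => by rw [E_inl, if_neg (by omega)]⟩

theorem WE_zero (k : ℕ) : WE k (0 : Fin m ⊕ Fin m → F) := fun _ => ⟨rfl, fun _ => rfl⟩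

theorem WE_add {k : ℕ} {x y : Fin m ⊕ Fin m → F} (hx : WE k x) (hy : WE k y) : WE k (x + y) :=
  fun j => ⟨by simp [(hx j).1, (hy j).1], fun h => by simp [(hx j).2 h, (hy j).2 h]⟩

theorem WE_smul {k : ℕ} {x : Fin m ⊕ Fin m → F} (hx : WE k x) (a : F) : WE k (a • x) :=
  fun j => ⟨by simp [(hx j).1], fun h => by simp [(hx j).2 h]⟩

theorem WE_mono {k l : ℕ} {x : Fin m ⊕ Fin m → F} (hx : WE k x) (h : k ≤ l) : WE l x :=
  fun j => ⟨(hx j).1, fun h' => (hx j).2 (h.trans h')⟩

theorem WE_split {k : ℕ} {x : Fin m ⊕ Fin m → F} (hx : WE (k + 1) x) (hk : k < m) :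
    ∃ (a : F) (x' : Fin m ⊕ Fin m → F), WE k x' ∧ x = x' + a • E k := by
  refine ⟨x (.inl ⟨k, hk⟩), x - x (.inl ⟨k, hk⟩) • E k, fun j => ⟨?_, fun hj => ?_⟩, by simp⟩
  · simp [(hx j).1, E_inr]
  · rcases hj.eq_or_lt with hj | hj
    · subst hj; simp [E_inl]
    · simp [(hx j).2 (by omega), E_inl, show (j : ℕ) ≠ k by omega]

theorem sp_add {k l : ℕ} {x x' y : Fin m ⊕ Fin m → F} (hx : WE k x) (hx' : WE k x') (hy : WE l y)
    (h1 : SP H x y) (h2 : SP H x' y) : SP H (x + x') y := fun c => by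
  rw [P_add (f_WE hx hy) (f_WE hx' hy) (f_WE hx hx')]; exact mul_mem (h1 c) (h2 c)

/-- `u e_k - e_k`. -/
def pr (k : ℕ) : Fin m ⊕ Fin m → F := if k = 0 then 0 else E (k - 1)

theorem WE_pr {k l : ℕ} (h : k ≤ l) : WE l (pr k : Fin m ⊕ Fin m → F) := by
  unfold pr
  split_ifs with h'
  · exact WE_zero _
  · exact WE_E _ (by omega)

/-- The transvections of the Lagrangian subspace. -/
theorem lagrangian {u K : Matrix.symplecticGroup (Fin m) F} (hu : u ∈ H) (hK : K ∈ H) (β : ℕ → F)
    (hβ : ∀ k, k + 1 < m → β k ≠ 0) (hu0 : app u (E 0) = E 0)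
    (hus : ∀ k, k + 1 < m → app u (E (k + 1)) = E (k + 1) + E k)
    (hKe : ∀ k, k + 1 < m → app K (E k + β k • E (k + 1)) = E k) (h0 : SV H (E 0)) :
    ∀ k, k ≤ m → ∀ x, WE k x → SV H x := by
  have hup : ∀ j, j < m → app u (E j) = E j + pr j := by
    intro j hj
    rcases j with _ | j
    · simp [hu0, pr]
    · simp [hus j hj, pr]
  intro k
  induction k with
  | zero =>
    intro _ x hx
    have : x = 0 := by
      funext j
      rcases j with j | j
      · exact (hx j).2 (Nat.zero_le _)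
      · exact (hx j).1
    exact this ▸ sv_zero
  | succ i ih =>
    intro hi x hx
    have hA := ih (by omega)
    suffices h : SV H (E i) ∧ ∀ y, WE i y → SP H y (E i) by
      obtain ⟨a, x', hx', rfl⟩ := WE_split hx (by omega)
      refine sv_add (f_WE hx' (WE_smul (WE_E i (Nat.lt_succ_self i)) a)) (hA _ hx') (sv_smul h.1 a) ?_
      simpa using sp_smul (f_WE hx' (WE_E i (Nat.lt_succ_self i))) (h.2 _ hx') 1 a
    rcases i with _ | i
    · refine ⟨h0, fun y hy c => ?_⟩
      have : y = 0 := by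
        funext j
        rcases j with j | j
        · exact (hy j).2 (Nat.zero_le _)
        · exact (hy j).1
      subst this
      simp [P, T_zero', T_mul, T_zero]
    -- `e = e_i`, `e' = e_{i+1}`
    have hb := hβ i (by omega)
    set e : Fin m ⊕ Fin m → F := E i with he
    set e' : Fin m ⊕ Fin m → F := E (i + 1) with he'
    have We : WE (i + 1) e := WE_E i (by omega)
    have We' : WE (i + 2) e' := WE_E _ (by omega)
    have hey : SV H (e + β i • e') := sv_back hK (by rw [hKe i (by omega)]; exact hA _ We)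
    set e₂ : Fin m ⊕ Fin m → F := e + pr i + β i • e with he₂
    have We₂ : WE (i + 1) e₂ := WE_add (WE_add We (WE_pr (by omega))) (WE_smul We _)
    have hey₂ : SV H (e₂ + β i • e') := by
      have := sv_conj hu hey
      rw [app_add, app_smul, hup i (by omega), hus i (by omega)] at this
      rwa [show e₂ + β i • e' = e + pr i + β i • (e' + e) by rw [he₂]; module]
    set d : Fin m ⊕ Fin m → F := β i • e + pr i with hd
    have Wd : WE (i + 1) d := WE_add (WE_smul We _) (WE_pr (by omega))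
    have hde : SP H d e' := by
      intro c
      have y0 : sympForm m F e (β i • e') = 0 := f_WE We (WE_smul We' _)
      have y2 : sympForm m F e₂ (β i • e') = 0 := f_WE We₂ (WE_smul We' _)
      have a1 : T (β i • e') (c / β i) * P e (β i • e') (c / β i) ∈ H := by
        have := mul_mem (inv_mem (hA _ We (c / β i))) (hey (c / β i))
        rwa [T_add y0, mul_assoc, inv_mul_cancel_left] at this
      have a2 : T (β i • e') (c / β i) * P e₂ (β i • e') (c / β i) ∈ H := by
        have := mul_mem (inv_mem (hA _ We₂ (c / β i))) (hey₂ (c / β i))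
        rwa [T_add y2, mul_assoc, inv_mul_cancel_left] at this
      have a3 := mul_mem (inv_mem a1) a2
      rw [show e₂ = e + d by rw [he₂, hd]; module,
        P_add y0 (f_WE Wd (WE_smul We' _)) (f_WE We Wd), ← mul_assoc, ← mul_assoc,
        mul_assoc _ (T _ _) (P e _ _), inv_mul_cancel, one_mul] at a3
      rw [show β i • e' = β i • e' from rfl, ← one_smul F d, P_smul (f_WE Wd We')] at a3
      simp only [one_smul, one_mul, mul_one, mul_div_cancel₀ c hb] at a3
      exact a3
    have hstep : ∀ y, WE (i + 1) y → WE (i + 1) (app u y) → SP H y e' → SP H (app u y) e' := by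
      intro y hy huy hye c
      have a1 := conj_P u y e' c ▸ conj_mem hu (hye c)
      rw [hus i (by omega), P_swap (f_WE huy (WE_add We' (WE_mono We (by omega)))),
        P_add (f_WE We' huy) (f_WE We huy) (f_WE We' We),
        P_swap (f_WE We' huy), P_swap (f_WE We huy)] at a1
      have a2 : P (app u y) e c ∈ H := sp_of (hA _ (WE_add huy We)) (hA _ huy) (hA _ We) c
      exact (H.mul_mem_cancel_right a2).1 a1
    have hxj : ∀ t, t ≤ i → SP H (β i • E (i - t) + pr (i - t)) e' := by
      intro t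
      induction t with
      | zero => exact fun _ => hde
      | succ t iht =>
        intro ht
        obtain ⟨j, hj⟩ : ∃ j, i - t = j + 1 := ⟨i - t - 1, by omega⟩
        have h1 := iht (by omega)
        rw [hj] at h1
        rw [show i - (t + 1) = j by omega]
        have W1 : WE (i + 1) (β i • E (j + 1) + pr (j + 1) : Fin m ⊕ Fin m → F) :=
          WE_add (WE_smul (WE_E _ (by omega)) _) (WE_pr (by omega))
        have W2 : WE (i + 1) (β i • E j + pr j : Fin m ⊕ Fin m → F) :=
          WE_add (WE_smul (WE_E _ (by omega)) _) (WE_pr (by omega))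
        have e1 : app u (β i • E (j + 1) + pr (j + 1)) =
            (β i • E (j + 1) + pr (j + 1)) + (β i • E j + pr j) := by
          rw [app_add, app_smul, hus j (by omega),
            show (pr (j + 1) : Fin m ⊕ Fin m → F) = E j by simp [pr], hup j (by omega)]
          module
        have h2 := hstep _ W1 (e1 ▸ WE_add W1 W2) h1
        rw [e1] at h2
        intro c
        have h3 := h2 c
        rw [P_add (f_WE W1 We') (f_WE W2 We') (f_WE W1 W2)] at h3
        exact (H.mul_mem_cancel_left (h1 c)).1 h3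
    have hEj : ∀ j, j ≤ i → SP H (E j) e' := by
      intro j
      induction j with
      | zero =>
        intro _ c
        have h1 := hxj i le_rfl (c / β i)
        rw [Nat.sub_self, show (pr 0 : Fin m ⊕ Fin m → F) = 0 by simp [pr], add_zero] at h1
        rw [← one_smul F e', P_smul (f_WE (WE_E (m := m) 0 (Nat.zero_lt_succ i)) We')] at h1
        simpa only [one_smul, one_mul, mul_one, mul_div_cancel₀ c hb] using h1
      | succ j ihj =>
        intro hj c
        have h1 := hxj (i - (j + 1)) (by omega) (c / β i)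
        rw [Nat.sub_sub_self hj, show (pr (j + 1) : Fin m ⊕ Fin m → F) = E j by simp [pr],
          P_add (f_WE (WE_smul (WE_E (j + 1) (show j + 1 < i + 1 by omega)) _) We')
            (f_WE (WE_E j (show j < i + 1 by omega)) We')
            (f_WE (WE_smul (WE_E (j + 1) (show j + 1 < i + 1 by omega)) _)
              (WE_E j (show j < i + 1 by omega)))] at h1
        have h2 := (H.mul_mem_cancel_right (ihj (by omega) (c / β i))).1 h1
        rw [← one_smul F e', P_smul (f_WE (WE_E (m := m) (j + 1)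
          (show j + 1 < i + 1 by omega)) We')] at h2
        simpa only [one_smul, one_mul, mul_one, mul_div_cancel₀ c hb] using h2
    have hall : ∀ k, k ≤ i + 1 → ∀ y, WE k y → SP H y e' := by
      intro k
      induction k with
      | zero =>
        intro _ y hy c
        have : y = 0 := by
          funext j
          rcases j with j | j
          · exact (hy j).2 (Nat.zero_le _)
          · exact (hy j).1
        subst this
        simp [P, T_zero', T_mul, T_zero]
      | succ k ihk =>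
        intro hk y hy
        obtain ⟨a, y', hy', rfl⟩ := WE_split hy (by omega)
        refine sp_add (WE_mono hy' (Nat.le_succ k)) (WE_smul (WE_E k (Nat.lt_succ_self k)) a) We'
          (ihk (by omega) _ hy') ?_
        simpa using sp_smul (f_WE (WE_E (m := m) k (Nat.lt_succ_self k)) We') (hEj k (by omega)) a 1
    refine ⟨?_, hall (i + 1) le_rfl⟩
    -- cancel the product part
    intro c
    have h1 := hey (c / (β i * β i))
    rw [T_add (f_WE We (WE_smul We' _))] at h1
    have h2 : P e (β i • e') (c / (β i * β i)) ∈ H := by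
      rw [← one_smul F e, P_smul (f_WE We We')]; exact hEj i le_rfl _
    have h3 := (H.mul_mem_cancel_left (hA _ We _)).1 ((H.mul_mem_cancel_right h2).1 h1)
    rwa [T_smul, mul_div_cancel₀ c (mul_ne_zero hb hb)] at h3

/-- Supported on the first `k` hyperbolic planes. -/
def WP (k : ℕ) (x : Fin m ⊕ Fin m → F) : Prop :=
  ∀ j : Fin m, k ≤ (j : ℕ) → x (.inl j) = 0 ∧ x (.inr j) = 0

/-- Transitivity inside one plane, fixing the others. -/
theorem plane {k : ℕ} (hk : k < m) (hE : SV H (E k)) (hF : SV H (Fv k)) {a b : F}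
    (h : a ≠ 0 ∨ b ≠ 0) :
    ∃ g ∈ H, app g (E k) = a • E k + b • Fv k ∧
      ∀ v : Fin m ⊕ Fin m → F, v (.inl ⟨k, hk⟩) = 0 → v (.inr ⟨k, hk⟩) = 0 → app g v = v := by
  have fix : ∀ (c : F) (v : Fin m ⊕ Fin m → F), v (.inl ⟨k, hk⟩) = 0 → v (.inr ⟨k, hk⟩) = 0 →
      app (T (E k) c) v = v ∧ app (T (Fv k) c) v = v := fun c v h1 h2 => by
    constructor
    · rw [app_T, f_E hk, h2, mul_zero, zero_smul, add_zero]
    · rw [app_T, f_Fv hk, h1, neg_zero, mul_zero, zero_smul, add_zero]
  have ee : sympForm m F (E k) (Fv k) = -1 := by rw [f_EF _ _ hk, if_pos rfl]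
  have fe : sympForm m F (Fv k) (E k) = 1 := by rw [f_FE _ _ hk, if_pos rfl]
  by_cases hb : b = 0
  · have ha : a ≠ 0 := h.resolve_right (not_not_intro hb)
    refine ⟨T (Fv k) a⁻¹ * (T (E k) (a - 1) * T (Fv k) (-1)),
      mul_mem (hF _) (mul_mem (hE _) (hF _)), ?_, fun v h1 h2 => by
        rw [app_mul, app_mul, (fix _ v h1 h2).2, (fix _ v h1 h2).1, (fix _ v h1 h2).2]⟩
    rw [app_mul, app_mul, app_T _ _ (E k), app_T, app_T]
    simp only [f_add_left, f_smul_left, f_EE, f_FF, ee, fe, hb]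
    match_scalars <;> field_simp <;> ring
  · refine ⟨T (E k) ((a - 1) / b) * T (Fv k) (-b), mul_mem (hE _) (hF _), ?_, fun v h1 h2 => by
        rw [app_mul, (fix _ v h1 h2).2, (fix _ v h1 h2).1]⟩
    rw [app_mul, app_T _ _ (E k), app_T]
    simp only [f_add_left, f_smul_left, f_EE, f_FF, ee, fe]
    match_scalars <;> field_simp <;> ring

/-- All transvections, from those at the basis vectors and at the adjacent sums. -/
theorem eq_top_of_basis (hE : ∀ k, k < m → SV H (E k)) (hF : ∀ k, k < m → SV H (Fv k))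
    (hEE : ∀ k, k + 1 < m → SV H (E k + E (k + 1))) : H = ⊤ := by
  have hplane : ∀ k, k < m → ∀ a b : F, SV H (a • E k + b • Fv k) := by
    intro k hk a b
    by_cases h : a = 0 ∧ b = 0
    · simp [h.1, h.2, sv_zero]
    · obtain ⟨g, hg, hge, -⟩ := plane hk (hE k hk) (hF k hk) (not_and_or.1 h)
      exact hge ▸ sv_conj hg (hE k hk)
  have hpair : ∀ k, k + 1 < m → ∀ a b c d : F, (a ≠ 0 ∨ b ≠ 0) → (c ≠ 0 ∨ d ≠ 0) →
      SV H ((a • E k + b • Fv k) + (c • E (k + 1) + d • Fv (k + 1))) := by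
    intro k hk a b c d h1 h2
    obtain ⟨g, hg, hge, hgf⟩ := plane (show k < m by omega) (hE k (by omega)) (hF k (by omega)) h1
    obtain ⟨g', hg', hge', hgf'⟩ := plane hk (hE _ hk) (hF _ hk) h2
    have h3 := sv_conj hg' (sv_conj hg (hEE k hk))
    rwa [app_add g, hge, hgf _ (by simp [E_inl]) (by simp [E_inr]),
      app_add g', hge', hgf' _ (by simp [E_inl, Fv_inl]) (by simp [E_inr, Fv_inr])] at h3
  have main : ∀ k, k ≤ m → ∀ v, WP k v → SV H v := by
    intro k
    induction k with
    | zero =>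
      intro _ v hv
      have : v = 0 := by
        funext j
        rcases j with j | j
        · exact (hv j (Nat.zero_le _)).1
        · exact (hv j (Nat.zero_le _)).2
      exact this ▸ sv_zero
    | succ k ih =>
      intro hk v hv
      by_cases h0 : v (.inl ⟨k, hk⟩) = 0 ∧ v (.inr ⟨k, hk⟩) = 0
      · refine ih (by omega) v fun j hj => ?_
        rcases hj.eq_or_lt with hj | hj
        · subst hj; exact h0
        · exact hv j hj
      rcases k with _ | k
      · convert hplane 0 hk (v (.inl ⟨0, hk⟩)) (v (.inr ⟨0, hk⟩)) using 1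
        funext j
        rcases j with j | j
        · by_cases hj : (j : ℕ) = 0
          · obtain rfl : j = ⟨0, hk⟩ := Fin.ext hj
            simp [E_inl, Fv_inl]
          · simp [E_inl, Fv_inl, hj, (hv j (by omega)).1]
        · by_cases hj : (j : ℕ) = 0
          · obtain rfl : j = ⟨0, hk⟩ := Fin.ext hj
            simp [E_inr, Fv_inr]
          · simp [E_inr, Fv_inr, hj, (hv j (by omega)).2]
      have hk' : k < m := by omega
      -- kill the top plane, when the one below is occupied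
      have hA : ∀ v : Fin m ⊕ Fin m → F, WP (k + 2) v →
          (v (.inl ⟨k, hk'⟩) ≠ 0 ∨ v (.inr ⟨k, hk'⟩) ≠ 0) → SV H v := by
        intro v hv hlow
        set c := v (.inl ⟨k + 1, hk⟩) with hc
        set d := v (.inr ⟨k + 1, hk⟩) with hd
        by_cases hcd : c = 0 ∧ d = 0
        · refine ih (by omega) v fun j hj => ?_
          rcases hj.eq_or_lt with hj | hj
          · obtain rfl : j = ⟨k + 1, hk⟩ := Fin.ext hj.symm
            exact hcd
          · exact hv j hj
        obtain ⟨a, b, hab, hne⟩ : ∃ a b : F, (a ≠ 0 ∨ b ≠ 0) ∧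
            sympForm m F v (a • E k + b • Fv k) ≠ 0 := by
          rcases hlow with h | h
          · exact ⟨0, 1, Or.inr one_ne_zero, by simpa [f_Fv hk'] using h⟩
          · exact ⟨1, 0, Or.inl one_ne_zero, by simpa [f_E hk'] using h⟩
        set z := a • (E k : Fin m ⊕ Fin m → F) + b • Fv k with hz
        set y := c • (E (k + 1) : Fin m ⊕ Fin m → F) + d • Fv (k + 1) with hy
        have hvy : sympForm m F v y = 0 := by
          rw [hy, f_add_right, f_smul_right, f_smul_right, f_E hk, f_Fv hk, ← hc, ← hd]; ring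
        have hmem := hpair k hk a b c d hab (not_and_or.1 hcd) (-(sympForm m F v z)⁻¹)
        refine sv_back hmem (ih (by omega) _ fun j hj => ?_)
        rw [app_T, show sympForm m F v (z + y) = sympForm m F v z by rw [f_add_right, hvy, add_zero],
          neg_mul, inv_mul_cancel₀ hne]
        rcases hj.eq_or_lt with hj | hj
        · obtain rfl : j = ⟨k + 1, hk⟩ := Fin.ext hj.symm
          simp [hz, hy, hc, hd, E_inl, E_inr, Fv_inl, Fv_inr]
        · simp [hz, hy, hc, hd, E_inl, E_inr, Fv_inl, Fv_inr, (hv j hj).1, (hv j hj).2,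
            show (j : ℕ) ≠ k by omega, show (j : ℕ) ≠ k + 1 by omega]
      by_cases hlow : v (.inl ⟨k, hk'⟩) = 0 ∧ v (.inr ⟨k, hk'⟩) = 0
      swap
      · exact hA v hv (not_and_or.1 hlow)
      obtain ⟨c, d, hcd, hne⟩ : ∃ c d : F, (c ≠ 0 ∨ d ≠ 0) ∧
          sympForm m F v (c • E (k + 1) + d • Fv (k + 1)) ≠ 0 := by
        rcases not_and_or.1 h0 with h | h
        · exact ⟨0, 1, Or.inr one_ne_zero, by simpa [f_Fv hk] using h⟩
        · exact ⟨1, 0, Or.inl one_ne_zero, by simpa [f_E hk] using h⟩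
      set y := c • (E (k + 1) : Fin m ⊕ Fin m → F) + d • Fv (k + 1) with hy
      have hmem := hpair k hk 1 0 c d (Or.inl one_ne_zero) hcd 1
      have hvz : sympForm m F v ((1 : F) • E k + (0 : F) • Fv k) = 0 := by
        simp [f_E hk', hlow.2]
      refine sv_back hmem (hA _ (fun j hj => ?_) ?_)
      · simp [app_T, hy, E_inl, E_inr, Fv_inl, Fv_inr, (hv j hj).1, (hv j hj).2,
          show (j : ℕ) ≠ k by omega, show (j : ℕ) ≠ k + 1 by omega]
      · left
        rw [app_T, f_add_right, hvz, zero_add, one_mul]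
        simpa [hy, hlow.1, E_inl, Fv_inl] using hne
  rw [eq_top_iff, ← gen_univ, gen, Subgroup.closure_le]
  rintro _ ⟨v, -, c, rfl⟩
  exact main m le_rfl v (fun j hj => absurd j.2 (not_lt.2 hj)) c

/-- All transvections at the basis vectors, from those at `e_0`. -/
theorem eq_top_of {u K : Matrix.symplecticGroup (Fin m) F} (hm : 0 < m) (hu : u ∈ H) (hK : K ∈ H)
    (β : ℕ → F) (hβ : ∀ k, k + 1 < m → β k ≠ 0) (b : F) (hb : b ≠ 0) (hu0 : app u (E 0) = E 0)
    (hus : ∀ k, k + 1 < m → app u (E (k + 1)) = E (k + 1) + E k)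
    (hKe : ∀ k, k + 1 < m → app K (E k + β k • E (k + 1)) = E k)
    (hKl : app K (E (m - 1)) = E (m - 1) - b • Fv (m - 1))
    (hKf : ∀ k, k + 1 < m → app K (Fv (k + 1)) = Fv (k + 1) + β k • Fv k)
    (h0 : SV H (E 0)) : H = ⊤ := by
  have hL := lagrangian hu hK β hβ hu0 hus hKe h0 m le_rfl
  have hE : ∀ k, k < m → SV H (E k) := fun k hk => hL _ (WE_E k hk)
  have hl : SV H (Fv (m - 1)) := by
    have h1 : SV H (E (m - 1) - b • Fv (m - 1)) := hKl ▸ sv_conj hK (hE _ (by omega))
    have h2 := sv_smul (sv_conj (hE (m - 1) (by omega) b⁻¹) h1) (-b⁻¹)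
    rw [app_T, f_sub_left, f_smul_left, f_EE, f_FE _ _ (by omega), if_pos rfl] at h2
    convert h2 using 1
    match_scalars <;> field_simp <;> ring
  have hdown : ∀ t, t < m → SV H (Fv (m - 1 - t)) := by
    intro t
    induction t with
    | zero => exact fun _ => hl
    | succ t ih =>
      intro ht
      obtain ⟨k, hk⟩ : ∃ k, m - 1 - t = k + 1 := ⟨m - 2 - t, by omega⟩
      have h1 := ih (by omega)
      rw [hk] at h1
      rw [show m - 1 - (t + 1) = k by omega]
      have hkm : k + 1 < m := by omega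
      have hb' := hβ k hkm
      have h2 : SV H (Fv (k + 1) + β k • Fv k) := hKf k hkm ▸ sv_conj hK h1
      have h3 := sv_conj (h1 1) (sv_conj (hE (k + 1) hkm 1) h2)
      have h3' : SV H (β k • Fv k + E (k + 1)) := by
        convert h3 using 1
        simp only [app_T, f_add_left, f_smul_left, f_EE, f_FF, f_FE _ _ hkm, f_EF _ _ hkm,
          if_neg (show k + 1 ≠ k by omega), if_pos]
        module
      have h4 := sv_conj (hE k (by omega) (β k)⁻¹)
        (sv_conj (hL _ (WE_add (WE_E k (show k < m by omega)) (WE_E (k + 1) hkm)) (-(β k)⁻¹)) h3')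
      convert sv_smul h4 (β k)⁻¹ using 1
      simp only [app_T, f_add_left, f_add_right, f_smul_left, f_EE, f_FF,
        f_FE _ _ hkm, f_FE _ _ (show k < m by omega), if_neg (show k + 1 ≠ k by omega),
        if_neg (show k ≠ k + 1 by omega), if_pos]
      match_scalars <;> field_simp <;> ring
  refine eq_top_of_basis hE (fun k hk => ?_) fun k hk => hL _ ?_
  · have := hdown (m - 1 - k) (by omega)
    rwa [show m - 1 - (m - 1 - k) = k by omega] at this
  · exact WE_add (WE_E k (by omega)) (WE_E _ hk)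

/-! ### The regular unipotent shape -/

theorem nilpotent_shape {u : Matrix.symplecticGroup (Fin m) F} (hm : 0 < m) (θ : F) (hθ : θ ≠ 0)
    (hu0 : app u (E 0) = E 0)
    (hus : ∀ k, k + 1 < m → app u (E (k + 1)) = E (k + 1) + E k)
    (huf : ∀ k, k + 1 < m → app u (Fv k + Fv (k + 1)) = Fv k)
    (hul : app u (Fv (m - 1)) = Fv (m - 1) + θ • E (m - 1)) :
    IsNilpotent ((u : Matrix (Fin m ⊕ Fin m) (Fin m ⊕ Fin m) F) - 1) ∧
      ((u : Matrix (Fin m ⊕ Fin m) (Fin m ⊕ Fin m) F) - 1) ^ (2 * m - 1) ≠ 0 := by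
  set N := (u : Matrix (Fin m ⊕ Fin m) (Fin m ⊕ Fin m) F) - 1
  have hN : ∀ x, N *ᵥ x = app u x - x := fun x => by rw [sub_mulVec, one_mulVec]; rfl
  have hs : ∀ (j : ℕ) (x : Fin m ⊕ Fin m → F), (N ^ (j + 1)) *ᵥ x = (N ^ j) *ᵥ (N *ᵥ x) :=
    fun j x => by rw [pow_succ, mulVec_mulVec]
  have hEk : ∀ i, i < m → (N ^ i) *ᵥ (E i : Fin m ⊕ Fin m → F) = E 0 ∧
      ∀ j, i < j → (N ^ j) *ᵥ (E i : Fin m ⊕ Fin m → F) = 0 := by
    intro i
    induction i with
    | zero =>
      refine fun _ => ⟨by simp, fun j hj => ?_⟩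
      obtain ⟨j, rfl⟩ := Nat.exists_eq_add_of_lt hj
      rw [show 0 + j + 1 = j + 1 by omega, hs, hN, hu0, sub_self, mulVec_zero]
    | succ i ih =>
      intro hi
      have e : N *ᵥ (E (i + 1) : Fin m ⊕ Fin m → F) = E i := by rw [hN, hus i hi]; simp
      refine ⟨by rw [hs, e]; exact (ih (by omega)).1, fun j hj => ?_⟩
      obtain ⟨j, rfl⟩ : ∃ j', j = j' + 1 := ⟨j - 1, by omega⟩
      rw [hs, e]; exact (ih (by omega)).2 j (by omega)
  have hFk : ∀ t, t < m → (N ^ (m + t)) *ᵥ (Fv (m - 1 - t) : Fin m ⊕ Fin m → F) =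
        ((-1) ^ t * θ) • E 0 ∧
      ∀ j, m + t < j → (N ^ j) *ᵥ (Fv (m - 1 - t) : Fin m ⊕ Fin m → F) = 0 := by
    intro t
    induction t with
    | zero =>
      intro _
      have e : N *ᵥ (Fv (m - 1) : Fin m ⊕ Fin m → F) = θ • E (m - 1) := by rw [hN, hul]; simp
      refine ⟨?_, fun j hj => ?_⟩
      · have he := (hEk (m - 1) (by omega)).1
        calc (N ^ (m + 0)) *ᵥ (Fv (m - 1 - 0) : Fin m ⊕ Fin m → F)
            = (N ^ (m - 1)) *ᵥ (N *ᵥ Fv (m - 1)) := by
              rw [Nat.sub_zero, ← hs, show m - 1 + 1 = m + 0 by omega]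
          _ = _ := by rw [e, mulVec_smul, he]; simp
      · obtain ⟨j, rfl⟩ : ∃ j', j = j' + 1 := ⟨j - 1, by omega⟩
        rw [Nat.sub_zero, hs, e, mulVec_smul, (hEk (m - 1) (by omega)).2 j (by omega), smul_zero]
    | succ t ih =>
      intro ht
      obtain ⟨ih1, ih2⟩ := ih (by omega)
      obtain ⟨k, hk⟩ : ∃ k, m - 1 - t = k + 1 := ⟨m - 2 - t, by omega⟩
      rw [hk] at ih1 ih2
      rw [show m - 1 - (t + 1) = k by omega]
      have e : N *ᵥ (Fv k : Fin m ⊕ Fin m → F) = -Fv (k + 1) - N *ᵥ Fv (k + 1) := by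
        rw [hN, hN]
        linear_combination (norm := module) huf k (by omega) - app_add u (Fv k) (Fv (k + 1))
      refine ⟨?_, fun j hj => ?_⟩
      · rw [show m + (t + 1) = (m + t) + 1 by omega, hs, e, mulVec_sub, mulVec_neg, ih1, ← hs,
          ih2 _ (by omega)]
        module
      · obtain ⟨j, rfl⟩ : ∃ j', j = j' + 1 := ⟨j - 1, by omega⟩
        rw [hs, e, mulVec_sub, mulVec_neg, ih2 _ (by omega), ← hs, ih2 _ (by omega)]
        simp
  refine ⟨⟨2 * m, Matrix.ext_of_mulVec_single fun j => ?_⟩, fun h => ?_⟩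
  · rw [zero_mulVec]
    rcases j with i | i
    · have := (hEk i i.2).2 (2 * m) (by omega)
      rwa [E, dif_pos i.2] at this
    · have := (hFk (m - 1 - i) (by omega)).2 (2 * m) (by omega)
      rwa [show m - 1 - (m - 1 - (i : ℕ)) = i by omega, Fv, dif_pos i.2] at this
  · have := (hFk (m - 1) (by omega)).1
    rw [show m + (m - 1) = 2 * m - 1 by omega, h, zero_mulVec] at this
    have := congrFun this (.inl ⟨0, hm⟩)
    simp [E_inl, hθ] at this

/-- `e_i ↦ a_i f_i`, `f_i ↦ -e_i / a_i`. -/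
theorem exists_w (a : ℕ → F) (ha : ∀ k, k < m → a k ≠ 0) :
    ∃ w : Matrix.symplecticGroup (Fin m) F, ∀ k, k < m →
      app w (E k) = a k • Fv k ∧ app w (Fv k) = -(a k)⁻¹ • E k := by
  set M : Matrix (Fin m ⊕ Fin m) (Fin m ⊕ Fin m) F :=
    fromBlocks 0 (diagonal fun i : Fin m => -(a i)⁻¹) (diagonal fun i : Fin m => a i) 0 with hM
  have hl : ∀ x i, (M *ᵥ x) (.inl i) = -(a i)⁻¹ * x (.inr i) := fun x i => by
    rw [hM, fromBlocks_mulVec]; simp [mulVec_diagonal]
  have hr : ∀ x i, (M *ᵥ x) (.inr i) = a i * x (.inl i) := fun x i => by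
    rw [hM, fromBlocks_mulVec]; simp [mulVec_diagonal]
  refine ⟨⟨M, mem_iff_f.2 fun x y => ?_⟩, fun k hk => ⟨?_, ?_⟩⟩
  · rw [f_apply, f_apply]
    refine Finset.sum_congr rfl fun i _ => ?_
    have := ha i i.2
    simp only [hl, hr]
    field_simp
    ring
  all_goals
    funext j
    show (M *ᵥ _) j = _
    rcases j with i | i
    · rw [hl]
      by_cases h : (i : ℕ) = k <;> simp [E_inl, E_inr, Fv_inl, Fv_inr, h]
    · rw [hr]
      by_cases h : (i : ℕ) = k <;> simp [E_inl, E_inr, Fv_inl, Fv_inr, h]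

/-- The assembly: it suffices to reach the transvections at `e_0`. -/
theorem three_gen (hm : 0 < m) (u k : Matrix.symplecticGroup (Fin m) F) (θ : F) (hθ : θ ≠ 0)
    (a : ℕ → F) (ha : ∀ j, j < m → a j ≠ 0) (hu0 : app u (E 0) = E 0)
    (hus : ∀ j, j + 1 < m → app u (E (j + 1)) = E (j + 1) + E j)
    (huf : ∀ j, j + 1 < m → app u (Fv j + Fv (j + 1)) = Fv j)
    (hul : app u (Fv (m - 1)) = Fv (m - 1) + θ • E (m - 1))
    (hinit : ∀ (H : Subgroup (Matrix.symplecticGroup (Fin m) F))
      (K : Matrix.symplecticGroup (Fin m) F), u ∈ H → k * u * k⁻¹ ∈ H → K ∈ H →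
      (∀ j, j + 1 < m → app K (E j + (a j / a (j + 1)) • E (j + 1)) = E j) →
      app K (E (m - 1)) = E (m - 1) - (θ * (a (m - 1) * a (m - 1))) • Fv (m - 1) →
      (∀ j, j + 1 < m → app K (Fv (j + 1)) = Fv (j + 1) + (a j / a (j + 1)) • Fv j) →
      SV H (E 0)) :
    ∃ v g h : Matrix.symplecticGroup (Fin m) F,
      IsNilpotent ((v : Matrix (Fin m ⊕ Fin m) (Fin m ⊕ Fin m) F) - 1) ∧
      ((v : Matrix (Fin m ⊕ Fin m) (Fin m ⊕ Fin m) F) - 1) ^ (2 * m - 1) ≠ 0 ∧
      Subgroup.closure ({v, g * v * g⁻¹, h * v * h⁻¹} :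
        Set (Matrix.symplecticGroup (Fin m) F)) = ⊤ := by
  obtain ⟨w, hw⟩ := exists_w a ha
  obtain ⟨hn1, hn2⟩ := nilpotent_shape hm θ hθ hu0 hus huf hul
  refine ⟨u, k, w, hn1, hn2, ?_⟩
  have hKw : ∀ x, app (w * u * w⁻¹) (app w x) = app w (app u x) := fun x => by
    rw [app_mul, app_mul, app_inv]
  have h1 : ∀ j, j + 1 < m →
      app (w * u * w⁻¹) (E j + (a j / a (j + 1)) • E (j + 1)) = E j := by
    intro j hj
    have := ha j (by omega)
    have e : E j + (a j / a (j + 1)) • E (j + 1) = (-a j) • app w (Fv j + Fv (j + 1)) := by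
      rw [app_add, (hw j (by omega)).2, (hw _ hj).2]
      match_scalars <;> field_simp
    rw [e, app_smul, hKw, huf j hj, (hw j (by omega)).2]
    match_scalars
    field_simp
  have h2 : app (w * u * w⁻¹) (E (m - 1)) =
      E (m - 1) - (θ * (a (m - 1) * a (m - 1))) • Fv (m - 1) := by
    have := ha (m - 1) (by omega)
    have e : (E (m - 1) : Fin m ⊕ Fin m → F) = (-a (m - 1)) • app w (Fv (m - 1)) := by
      rw [(hw _ (by omega)).2]
      match_scalars
      field_simp
    conv_lhs => rw [e, app_smul, hKw, hul, app_add, app_smul, (hw _ (by omega)).1,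
      (hw _ (by omega)).2]
    match_scalars <;> field_simp
  have h3 : ∀ j, j + 1 < m →
      app (w * u * w⁻¹) (Fv (j + 1)) = Fv (j + 1) + (a j / a (j + 1)) • Fv j := by
    intro j hj
    have := ha (j + 1) hj
    have e : (Fv (j + 1) : Fin m ⊕ Fin m → F) = (a (j + 1))⁻¹ • app w (E (j + 1)) := by
      rw [(hw _ hj).1, smul_smul, inv_mul_cancel₀ this, one_smul]
    conv_lhs => rw [e, app_smul, hKw, hus j hj, app_add, (hw _ hj).1, (hw j (by omega)).1]
    match_scalars <;> field_simp
  have mu : ∀ x ∈ ({u, k * u * k⁻¹, w * u * w⁻¹} : Set (Matrix.symplecticGroup (Fin m) F)),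
      x ∈ Subgroup.closure ({u, k * u * k⁻¹, w * u * w⁻¹} :
        Set (Matrix.symplecticGroup (Fin m) F)) := fun x hx => Subgroup.subset_closure hx
  refine eq_top_of hm (mu u (by simp)) (mu (w * u * w⁻¹) (by simp))
    (fun j => a j / a (j + 1)) (fun j hj => div_ne_zero (ha j (by omega)) (ha _ hj))
    (θ * (a (m - 1) * a (m - 1)))
    (mul_ne_zero hθ (mul_ne_zero (ha _ (by omega)) (ha _ (by omega)))) hu0 hus h1 h2 h3 ?_
  exact hinit _ _ (mu u (by simp)) (mu (k * u * k⁻¹) (by simp)) (mu (w * u * w⁻¹) (by simp)) h1 h2 h3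

end CfsgLib.Classical.SympRegGen
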