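import Mathlib
import Cfsg.Agent.Lib.Classical.SympRegGen

set_option autoImplicit false

/-!
The transvections at `e_0` in the subgroup generated by three conjugate regular unipotents.
-/

namespace CfsgLib.Classical.SympRegGen

open Matrix Cfsg CfsgLib.Classical.SympTrans

variable {F : Type*} [Field F] {m : ℕ}

/-- The Siegel elements on three isotropic vectors. -/
def R (x y z : Fin m ⊕ Fin m → F) (r s t p q : F) : Matrix.symplecticGroup (Fin m) F :=
  T x r * P x y s * T y t * P x z p * P y z q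

theorem app_R {x y z : Fin m ⊕ Fin m → F} (hxy : sympForm m F x y = 0)
    (hxz : sympForm m F x z = 0) (hyz : sympForm m F y z = 0) (r s t p q : F)
    (w : Fin m ⊕ Fin m → F) :
    app (R x y z r s t p q) w = w +
      ((r * sympForm m F w x + s * sympForm m F w y + p * sympForm m F w z) • x +
        (s * sympForm m F w x + t * sympForm m F w y + q * sympForm m F w z) • y +
        (p * sympForm m F w x + q * sympForm m F w y) • z) := by
  simp only [R, app_mul, app_P hxy, app_P hxz, app_P hyz, app_T, f_add_left, f_add_right,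
    f_smul_left, f_self, hxy, hxz, hyz, f_swap x y, f_swap x z, f_swap y z, neg_zero, mul_zero,
    add_zero]
  module

theorem conj_R (g : Matrix.symplecticGroup (Fin m) F) (x y z : Fin m ⊕ Fin m → F)
    (r s t p q : F) : g * R x y z r s t p q * g⁻¹ = R (app g x) (app g y) (app g z) r s t p q := by
  simp only [R, ← conj_mul, conj_T, conj_P]

theorem R_mul {x y z : Fin m ⊕ Fin m → F} (hxy : sympForm m F x y = 0)
    (hxz : sympForm m F x z = 0) (hyz : sympForm m F y z = 0) (r s t p q r' s' t' p' q' : F) :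
    R x y z r s t p q * R x y z r' s' t' p' q' =
      R x y z (r + r') (s + s') (t + t') (p + p') (q + q') := by
  refine ext_app fun w => ?_
  simp only [app_mul, app_R hxy hxz hyz, f_add_left, f_smul_left, f_self, hxy, hxz, hyz,
    f_swap x y, f_swap x z, f_swap y z, neg_zero, mul_zero, add_zero]
  module

theorem R_u {x y z : Fin m ⊕ Fin m → F} (hxy : sympForm m F x y = 0)
    (hxz : sympForm m F x z = 0) (hyz : sympForm m F y z = 0) (r s t p q : F) :
    R x (y + x) (z + y) r s t p q =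
      R x y z (r + 2 * s + t) (s + t + p + q) (t + 2 * q) (p + q) q := by
  refine ext_app fun w => ?_
  rw [app_R hxy hxz hyz, app_R (by simp [f_add_right, hxy, f_self])
    (by simp [f_add_right, hxy, hxz]) (by
      simp [f_add_left, f_add_right, hxy, hxz, hyz, f_self])]
  simp only [f_add_right]
  module

theorem R_u₀ {x y z : Fin m ⊕ Fin m → F} (hxy : sympForm m F x y = 0)
    (hxz : sympForm m F x z = 0) (hyz : sympForm m F y z = 0) (z' : Fin m ⊕ Fin m → F)
    (hxz' : sympForm m F x z' = 0) (hyz' : sympForm m F y z' = 0) (r s t : F) :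
    R x (y + x) z' r s t 0 0 = R x y z (r + 2 * s + t) (s + t) t 0 0 := by
  refine ext_app fun w => ?_
  rw [app_R hxy hxz hyz, app_R (by simp [f_add_right, hxy, f_self]) hxz'
    (by simp [f_add_left, hxz', hyz'])]
  simp only [f_add_right]
  module

theorem R_K {x y z : Fin m ⊕ Fin m → F} (hxy : sympForm m F x y = 0)
    (hxz : sympForm m F x z = 0) (hyz : sympForm m F y z = 0) (g r s : F) :
    R (x + g • y) (y + z) z r s 0 0 0 =
      R x y z r (g * r + s) (g * g * r + 2 * (g * s)) s (g * s) := by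
  refine ext_app fun w => ?_
  rw [app_R hxy hxz hyz, app_R (by
      simp [f_add_left, f_add_right, f_smul_left, hxy, hxz, hyz, f_self])
    (by simp [f_add_left, f_smul_left, hxz, hyz]) (by simp [f_add_left, hyz, f_self])]
  simp only [f_add_right, f_smul_right]
  module

theorem T_eq_R {x y z : Fin m ⊕ Fin m → F} (hxy : sympForm m F x y = 0)
    (hxz : sympForm m F x z = 0) (hyz : sympForm m F y z = 0) (a b c : F) :
    T (a • x + b • y) c = R x y z (a * a * c) (a * b * c) (b * b * c) 0 0 := by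
  refine ext_app fun w => ?_
  rw [app_R hxy hxz hyz, app_T, f_add_right, f_smul_right, f_smul_right]
  module

theorem R_inv {x y z : Fin m ⊕ Fin m → F} (hxy : sympForm m F x y = 0)
    (hxz : sympForm m F x z = 0) (hyz : sympForm m F y z = 0) (r s t p q : F) :
    (R x y z r s t p q)⁻¹ = R x y z (-r) (-s) (-t) (-p) (-q) := by
  refine inv_eq_of_mul_eq_one_right (ext_app fun w => ?_)
  rw [R_mul hxy hxz hyz, app_R hxy hxz hyz, app_one]
  module

variable {H : Subgroup (Matrix.symplecticGroup (Fin m) F)}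

/-- An additive subgroup containing the powers of a generator is everything. -/
theorem eq_univ_of_pow [Finite F] (A : AddSubgroup F) (g : Fˣ) (hg : ∀ x, x ∈ Submonoid.powers g)
    (h : ∀ k : ℕ, (g : F) ^ k ∈ A) (x : F) : x ∈ A := by
  by_cases hx : x = 0
  · exact hx ▸ A.zero_mem
  · obtain ⟨k, hk⟩ := hg (Units.mk0 x hx)
    have : (g : F) ^ k = x := by simpa using congrArg Units.val hk
    exact this ▸ h k

theorem eq_univ_of_sq [Finite F] (A : AddSubgroup F) (g : Fˣ) (hg : ∀ x, x ∈ Submonoid.powers g)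
    (h : ∀ k : ℕ, ((g : F) ^ k) * (g : F) ^ k ∈ A) (x : F) : x ∈ A := by
  have hsq : ∀ y : F, y * y ∈ A := fun y => by
    by_cases hy : y = 0
    · simp [hy]
    · obtain ⟨k, hk⟩ := hg (Units.mk0 y hy)
      have : (g : F) ^ k = y := by simpa using congrArg Units.val hk
      exact this ▸ h k
  obtain ⟨a, b, hab⟩ : ∃ a b : F, a * a + b * b = x := by
    by_cases h2 : ringChar F = 2
    · obtain ⟨a, ha⟩ := FiniteField.isSquare_of_char_two h2 x
      exact ⟨a, 0, by simp [ha]⟩
    cases nonempty_fintype F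
    classical
    obtain ⟨a, b, hab⟩ := FiniteField.exists_root_sum_quadratic
      (f := (Polynomial.X : Polynomial F) ^ 2) (g := Polynomial.X ^ 2 - Polynomial.C x)
      (Polynomial.degree_X_pow 2) (Polynomial.degree_X_pow_sub_C (by norm_num) x)
      (FiniteField.odd_card_of_char_ne_two h2)
    simp at hab
    exact ⟨a, b, by linear_combination hab⟩
  exact hab ▸ A.add_mem (hsq a) (hsq b)

/-- The parameters at `e_0`. -/
def A0 (H : Subgroup (Matrix.symplecticGroup (Fin m) F)) (v : Fin m ⊕ Fin m → F) :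
    AddSubgroup F where
  carrier := {c | T v c ∈ H}
  add_mem' {a b} ha hb := by
    show T v (a + b) ∈ H
    rw [← T_mul]; exact mul_mem ha hb
  zero_mem' := by
    show T v 0 ∈ H
    rw [T_zero]; exact one_mem _
  neg_mem' {a} ha := by
    show T v (-a) ∈ H
    rw [← T_inv]; exact inv_mem ha

theorem u_main (hm : 0 < m) :
    ∃ u : Matrix.symplecticGroup (Fin m) F, app u (E 0) = E 0 ∧
      (∀ j, j + 1 < m → app u (E (j + 1)) = E (j + 1) + E j) ∧
      (∀ j, j + 1 < m → app u (Fv j + Fv (j + 1)) = Fv j) ∧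
      app u (Fv (m - 1)) = Fv (m - 1) + (1 : F) • E (m - 1) := by
  set B : Matrix (Fin m) (Fin m) F :=
    of fun i j => if i = j then 1 else if (i : ℕ) + 1 = j then 1 else 0 with hB
  have hdet : B.det = 1 := by
    rw [det_of_upperTriangular (fun i j hij => by
      simp only [id_eq] at hij
      simp [hB, hij.ne', show ¬ ((i : ℕ) + 1 = j) by have : (j : ℕ) < i := hij; omega])]
    simp [hB]
  set C := (B⁻¹)ᵀ with hC
  have hBu : IsUnit B.det := by rw [hdet]; exact isUnit_one
  have hCB : C * Bᵀ = 1 := by rw [hC, ← transpose_mul, mul_nonsing_inv _ hBu, transpose_one]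
  have hBC : B * Cᵀ = 1 := by rw [hC, transpose_transpose, mul_nonsing_inv _ hBu]
  have mem : (fromBlocks B 0 0 C) ∈ Matrix.symplecticGroup (Fin m) F := by
    rw [SymplecticGroup.mem_iff, J, fromBlocks_transpose, fromBlocks_multiply, fromBlocks_multiply]
    simp [hCB, hBC]
  set M : Matrix.symplecticGroup (Fin m) F := ⟨_, mem⟩ with hM
  have cB : ∀ k (hk : k < m), (B *ᵥ Pi.single ⟨k, hk⟩ (1 : F)) =
      fun i : Fin m => if (i : ℕ) = k then 1 else if (i : ℕ) + 1 = k then 1 else 0 := fun k hk => by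
    funext i; simp [hB, Fin.ext_iff]
  have cT : ∀ k (hk : k < m), (Bᵀ *ᵥ Pi.single ⟨k, hk⟩ (1 : F)) =
      fun i : Fin m => if k = (i : ℕ) then 1 else if k + 1 = (i : ℕ) then 1 else 0 := fun k hk => by
    funext i; simp [hB, Fin.ext_iff]
  have pullE : ∀ k (hk : k < m), ∀ i : Fin m,
      app M (E k) (.inl i) = (if (i : ℕ) = k then 1 else if (i : ℕ) + 1 = k then 1 else 0) ∧
        app M (E k) (.inr i) = 0 := fun k hk i => by
    have e1 : ((E k : Fin m ⊕ Fin m → F) ∘ Sum.inl) = Pi.single ⟨k, hk⟩ 1 := by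
      funext j; simp [E_inl, Pi.single_apply, Fin.ext_iff]
    have e2 : ((E k : Fin m ⊕ Fin m → F) ∘ Sum.inr) = 0 := by funext j; simp [E_inr]
    simp only [app, hM, fromBlocks_mulVec, e1, e2, cB k hk]
    simp
  have e0 : app M (E 0) = E 0 := by
    funext j
    rcases j with i | i
    · rw [(pullE 0 hm i).1, E_inl]; simp
    · rw [(pullE 0 hm i).2, E_inr]
  have es : ∀ k, k + 1 < m → app M (E (k + 1)) = E (k + 1) + E k := fun k hk => by
    funext j
    rcases j with i | i
    · rw [(pullE _ hk i).1, Pi.add_apply, E_inl, E_inl]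
      by_cases h1 : (i : ℕ) = k + 1
      · simp [h1]
      · by_cases h2 : (i : ℕ) = k <;> simp [h1, h2]
    · rw [(pullE _ hk i).2, Pi.add_apply, E_inr, E_inr, add_zero]
  -- the dual side, through the transpose
  have pullF : ∀ (k : ℕ) (hk : k < m) (x : Fin m ⊕ Fin m → F),
      (∀ i, x (.inl i) = 0) → (x ∘ Sum.inr) = Bᵀ *ᵥ Pi.single ⟨k, hk⟩ (1 : F) →
      app M x = Fv k := fun k hk x h1 h2 => by
    have e1 : x ∘ Sum.inl = 0 := funext h1
    simp only [app, hM, fromBlocks_mulVec, e1, h2, mulVec_mulVec, hCB, one_mulVec]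
    funext j
    rcases j with i | i
    · simp [Fv_inl]
    · simp [Fv_inr, Pi.single_apply, Fin.ext_iff]
  have ef : ∀ k, k + 1 < m → app M (Fv k + Fv (k + 1)) = Fv k := fun k hk => by
    refine pullF k (by omega) _ (fun i => by simp [Fv_inl]) ?_
    rw [cT]
    funext i
    simp only [Function.comp_apply, Pi.add_apply, Fv_inr]
    by_cases h1 : (i : ℕ) = k
    · simp [h1]
    · by_cases h2 : (i : ℕ) = k + 1 <;> simp [h1, h2, Ne.symm h1, Ne.symm]
  have el : app M (Fv (m - 1)) = Fv (m - 1) := by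
    refine pullF (m - 1) (by omega) _ (fun i => by simp [Fv_inl]) ?_
    rw [cT]
    funext i
    simp only [Function.comp_apply, Fv_inr]
    by_cases h1 : (i : ℕ) = m - 1
    · simp [h1]
    · simp [h1, Ne.symm h1, show ¬ (m - 1 + 1 = (i : ℕ)) by omega]
  refine ⟨T (E (m - 1)) 1 * M, ?_, fun j hj => ?_, fun j hj => ?_, ?_⟩
  · rw [app_mul, e0, app_T, f_EE, mul_zero, zero_smul, add_zero]
  · rw [app_mul, es j hj, app_T, f_add_left, f_EE, f_EE, add_zero, mul_zero, zero_smul, add_zero]
  · rw [app_mul, ef j hj, app_T, f_FE _ _ (by omega), if_neg (by omega), mul_zero, zero_smul,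
      add_zero]
  · rw [app_mul, el, app_T, f_FE _ _ (by omega), if_pos rfl, mul_one]

/-- The main case. -/
theorem main_case [Finite F] (hm : 2 ≤ m) (h : (2 : F) ≠ 0 ∨ 3 ≤ m) :
    ∃ v g h : Matrix.symplecticGroup (Fin m) F,
      IsNilpotent ((v : Matrix (Fin m ⊕ Fin m) (Fin m ⊕ Fin m) F) - 1) ∧
      ((v : Matrix (Fin m ⊕ Fin m) (Fin m ⊕ Fin m) F) - 1) ^ (2 * m - 1) ≠ 0 ∧
      Subgroup.closure ({v, g * v * g⁻¹, h * v * h⁻¹} :
        Set (Matrix.symplecticGroup (Fin m) F)) = ⊤ := by
  obtain ⟨g, hg⟩ := IsCyclic.exists_monoid_generator (α := Fˣ)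
  obtain ⟨u, hu0, hus, huf, hul⟩ := u_main (F := F) (m := m) (by omega)
  set a : ℕ → F := fun j => if j = 0 then (g : F) else 1 with ha
  refine three_gen (by omega) u (T (E 1) 1) 1 one_ne_zero a
    (fun j _ => by simp only [ha]; split_ifs <;> simp) hu0 hus huf hul ?_
  intro H K hu hk hK hKe hKl hKf
  set x : Fin m ⊕ Fin m → F := E 0 with hx
  set y : Fin m ⊕ Fin m → F := E 1 with hy
  set z : Fin m ⊕ Fin m → F := E 2 with hz
  have hxy : sympForm m F x y = 0 := f_EE _ _
  have hxz : sympForm m F x z = 0 := f_EE _ _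
  have hyz : sympForm m F y z = 0 := f_EE _ _
  have huy : app u y = y + x := hus 0 (by omega)
  have hKx : app K⁻¹ x = x + (g : F) • y := by
    have := congrArg (app K⁻¹) (hKe 0 (by omega))
    rw [app_inv] at this
    simpa [ha] using this.symm
  -- `T(e_0) P(e_0, e_1)` from the first conjugate
  have hD : R x y z 1 1 0 0 0 ∈ H := by
    have h1 := inv_mem (mul_mem hk (inv_mem hu))
    have e1 : T y 1 * u * (T y 1)⁻¹ * u⁻¹ = T y 1 * T (y + x) (-1) := by
      rw [T_inv, ← huy, ← conj_T]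
      simp only [mul_assoc]
    rw [e1] at h1
    have e2 : T y (1 : F) * T (y + x) (-1) = R x y z (-1) (-1) 0 0 0 := by
      rw [show T y (1 : F) = R x y z 0 0 1 0 0 by
          simpa using T_eq_R hxy hxz hyz (0 : F) 1 1,
        show T (y + x) (-1 : F) = R x y z (-1) (-1) (-1) 0 0 by
          simpa [add_comm] using T_eq_R hxy hxz hyz (1 : F) 1 (-1), R_mul hxy hxz hyz]
      simp
    rw [e2, R_inv hxy hxz hyz] at h1
    simpa using h1
  have hadd : ∀ {r s t p q r' s' t' p' q' : F}, R x y z r s t p q ∈ H →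
      R x y z r' s' t' p' q' ∈ H →
      R x y z (r + r') (s + s') (t + t') (p + p') (q + q') ∈ H := by
    intro r s t p q r' s' t' p' q' a b
    rw [← R_mul hxy hxz hyz]; exact mul_mem a b
  have hT : ∀ c, R x y z c 0 0 0 0 = T x c := fun c => by
    simpa using (T_eq_R hxy hxz hyz (1 : F) 0 c).symm
  -- conjugation by `u`, without the third vector
  have hΔ₀ : ∀ {r s t : F}, R x y z r s t 0 0 ∈ H → R x y z (2 * s + t) t 0 0 0 ∈ H := by
    intro r s t h
    have h1 := conj_mem hu h
    rw [conj_R, huy, hu0, R_u₀ hxy hxz hyz _ (by rw [← hu0, f_app, hxz]) (by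
      have := f_app u (y - x) z
      rw [app_sub, huy, hu0, add_sub_cancel_right, f_sub_left, hxz, hyz, sub_zero] at this
      exact this)] at h1
    have h2 := hadd h1 (R_inv hxy hxz hyz r s t 0 0 ▸ inv_mem h)
    convert h2 using 2 <;> ring
  have hKT : ∀ c, T x c ∈ H → R x y z c ((g : F) * c) ((g : F) * g * c) 0 0 ∈ H := fun c hc => by
    have h1 := conj_mem (inv_mem hK) hc
    rw [conj_T, hKx, ← one_smul F x, T_eq_R hxy hxz hyz] at h1
    simpa using h1
  intro c
  show c ∈ A0 H x
  by_cases h2 : (2 : F) = 0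
  · -- characteristic two, `3 ≤ m`
    have hm3 : 3 ≤ m := h.resolve_left (not_not_intro h2)
    have h2' : ∀ v : F, v + v = 0 := fun v => by rw [← two_mul, h2, zero_mul]
    have huz : app u z = z + y := hus 1 (by omega)
    have hKy : app K⁻¹ y = y + z := by
      have := congrArg (app K⁻¹) (hKe 1 (by omega))
      rw [app_inv] at this
      simpa [ha] using this.symm
    have hΔ : ∀ {r s t p q : F}, R x y z r s t p q ∈ H →
        R x y z (2 * s + t) (t + p + q) (2 * q) q 0 ∈ H := by
      intro r s t p q h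
      have h1 := conj_mem hu h
      rw [conj_R, huy, hu0, huz, R_u hxy hxz hyz] at h1
      have h2 := hadd h1 (R_inv hxy hxz hyz r s t p q ▸ inv_mem h)
      convert h2 using 2 <;> ring
    have hΔ2 : ∀ {r s t p q : F}, R x y z r s t p q ∈ H → R x y z 0 q 0 0 0 ∈ H := by
      intro r s t p q h
      convert hΔ (hΔ h) using 2 <;> simp [h2]
    have hKR : ∀ r s, R x y z r s 0 0 0 ∈ H → R x y z 0 ((g : F) * s) 0 0 0 ∈ H := by
      intro r s h
      have h1 := conj_mem (inv_mem hK) h
      have e : R (app K⁻¹ x) (app K⁻¹ y) (app K⁻¹ z) r s 0 0 0 =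
          R (x + (g : F) • y) (y + z) z r s 0 0 0 := by
        rw [hKx, hKy]
        have a1 : sympForm m F (x + (g : F) • y) (app K⁻¹ z) = 0 := by rw [← hKx, f_app, hxz]
        have a2 : sympForm m F (y + z) (app K⁻¹ z) = 0 := by rw [← hKy, f_app, hyz]
        refine ext_app fun w => ?_
        rw [app_R (by rw [← hKx, ← hKy, f_app, hxy]) a1 a2,
          app_R (by rw [← hKx, ← hKy, f_app, hxy])
            (by simp [f_add_left, f_smul_left, hxz, hyz])
            (by simp [f_add_left, hyz, f_self])]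
        simp
      rw [conj_R, e, R_K hxy hxz hyz] at h1
      exact hΔ2 h1
    let S : AddSubgroup F :=
      { carrier := {s | R x y z 0 s 0 0 0 ∈ H}
        add_mem' := fun {a b} ha hb => by
          have := hadd ha hb; simp only [add_zero] at this; exact this
        zero_mem' := by
          show R x y z 0 0 0 0 0 ∈ H
          rw [hT, T_zero]; exact one_mem _
        neg_mem' := fun {a} ha => by
          show R x y z 0 (-a) 0 0 0 ∈ H
          have := R_inv hxy hxz hyz 0 a 0 0 0 ▸
            inv_mem (show R x y z 0 a 0 0 0 ∈ H from ha)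
          simpa using this }
    have hpow : ∀ k : ℕ, (g : F) ^ (k + 1) ∈ S := by
      intro k
      induction k with
      | zero =>
        show R x y z 0 _ 0 0 0 ∈ H
        simpa using hKR 1 1 hD
      | succ k ih => rw [pow_succ']; exact hKR 0 _ ih
    have hS : ∀ s, R x y z 0 s 0 0 0 ∈ H := fun s => by
      refine eq_univ_of_pow S g hg (fun k => ?_) s
      rcases k with _ | k
      · obtain ⟨n, hn⟩ : ∃ n, (g : Fˣ) ^ (n + 1) = 1 := ⟨orderOf g - 1, by
          rw [Nat.sub_add_cancel (orderOf_pos g)]; exact pow_orderOf_eq_one g⟩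
        have := hpow n
        rw [← Units.val_pow_eq_pow_val, hn] at this
        simpa using this
      · exact hpow k
    have h1 : T x 1 ∈ H := by
      rw [← hT]; simpa using hadd hD (hS (-1))
    refine eq_univ_of_sq (A0 H x) g hg (fun k => ?_) c
    show T x _ ∈ H
    induction k with
    | zero => simpa using h1
    | succ k ih =>
      have h3 := hadd (hΔ₀ (hKT _ ih)) (hS (-((g : F) * g * ((g : F) ^ k * (g : F) ^ k))))
      rw [← hT]
      convert h3 using 2 <;> simp [pow_succ', h2] <;> ring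
  · -- odd characteristic
    obtain ⟨p, hp⟩ := CharP.exists F
    have hpp : p.Prime := CharP.char_is_prime F p
    have hp2 : p ≠ 2 := fun e => by subst e; exact h2 (CharTwo.two_eq_zero)
    obtain ⟨n, hn⟩ := hpp.odd_of_ne_two hp2
    have half : ∀ v : F, 2 * v ∈ A0 H x → v ∈ A0 H x := fun v hv => by
      have := (A0 H x).nsmul_mem hv (n + 1)
      have e : (n + 1) • (2 * v) = v := by
        have h0 : (p : F) = 0 := CharP.cast_eq_zero F p
        rw [hn] at h0
        push_cast at h0
        rw [nsmul_eq_mul]; push_cast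
        linear_combination v * h0
      rwa [e] at this
    refine eq_univ_of_sq (A0 H x) g hg (fun k => ?_) c
    induction k with
    | zero =>
      simp only [pow_zero, mul_one]
      refine half 1 ?_
      show T x _ ∈ H
      rw [← hT]; simpa using hΔ₀ hD
    | succ k ih =>
      refine half _ ?_
      show T x _ ∈ H
      rw [← hT]
      convert hΔ₀ (hΔ₀ (hKT _ ih)) using 2 <;> ring

/-- `n = 2` in characteristic two. -/
theorem two_case [Finite F] (hm : m = 2) (h2 : (2 : F) = 0) (hq : ∃ t : F, t ≠ 0 ∧ t ≠ 1) :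
    ∃ v g h : Matrix.symplecticGroup (Fin m) F,
      IsNilpotent ((v : Matrix (Fin m ⊕ Fin m) (Fin m ⊕ Fin m) F) - 1) ∧
      ((v : Matrix (Fin m ⊕ Fin m) (Fin m ⊕ Fin m) F) - 1) ^ (2 * m - 1) ≠ 0 ∧
      Subgroup.closure ({v, g * v * g⁻¹, h * v * h⁻¹} :
        Set (Matrix.symplecticGroup (Fin m) F)) = ⊤ := by
  subst hm
  obtain ⟨g₀, hg₀⟩ := IsCyclic.exists_monoid_generator (α := Fˣ)
  obtain ⟨θ, hθ⟩ : ∃ θ : F, θ = (g₀ : F) := ⟨_, rfl⟩
  have hneg : ∀ v : F, -v = v := fun v => by linear_combination (-v) * h2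
  have h2' : ∀ v : Fin 2 ⊕ Fin 2 → F, v + v = 0 := fun v => by rw [← two_smul F, h2, zero_smul]
  have hθ0 : θ ≠ 0 := hθ ▸ g₀.ne_zero
  have hθ1 : θ ≠ 1 := fun e => by
    obtain ⟨t, ht0, ht1⟩ := hq
    obtain ⟨k, hk⟩ := hg₀ (Units.mk0 t ht0)
    apply ht1
    have : θ ^ k = t := by simpa [hθ] using congrArg Units.val hk
    rw [← this, e, one_pow]
  have hc2 : ringChar F = 2 := by
    have := Fact.mk (CharP.char_is_prime F (ringChar F))
    exact (Nat.prime_dvd_prime_iff_eq Fact.out Nat.prime_two).1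
      ((ringChar.spec F 2).1 (by simpa using h2))
  obtain ⟨t, ht⟩ := FiniteField.isSquare_of_char_two hc2 (1 + θ⁻¹)
  obtain ⟨a, hθa⟩ := FiniteField.isSquare_of_char_two hc2 θ⁻¹
  have ha : a ≠ 0 := fun e => by simp [e, hθ0] at hθa
  have ht0 : t ≠ 0 := fun e => by
    rw [e, mul_zero] at ht
    have h3 : θ⁻¹ = 1 := by linear_combination ht - h2
    exact hθ1 (inv_eq_one.1 h3)
  have hxf : sympForm 2 F (E 0) (Fv 1) = 0 := by rw [f_EF _ _ (by omega)]; simp
  set u : Matrix.symplecticGroup (Fin 2) F := T (E 1) θ * P (E 0) (Fv 1) 1 with hu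
  have p1 : app (P (E 0) (Fv 1 : Fin 2 ⊕ Fin 2 → F) 1) (E 0) = E 0 := by
    rw [app_P hxf, f_EE, hxf]; simp
  have p2 : app (P (E 0) (Fv 1 : Fin 2 ⊕ Fin 2 → F) 1) (E 1) = E 1 + E 0 := by
    rw [app_P hxf, f_EE, f_EF _ _ (by omega), if_pos rfl]; simp [hneg]
  have p3 : app (P (E 0) (Fv 1 : Fin 2 ⊕ Fin 2 → F) 1) (Fv 0) = Fv 0 + Fv 1 := by
    rw [app_P hxf, f_FF, f_FE _ _ (by omega), if_pos rfl]; simp
  have p4 : app (P (E 0) (Fv 1 : Fin 2 ⊕ Fin 2 → F) 1) (Fv 1) = Fv 1 := by
    rw [app_P hxf, f_FF, f_FE _ _ (by omega)]; simp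
  have hu0 : app u (E 0) = E 0 := by rw [hu, app_mul, p1, app_T, f_EE]; simp
  have hu1 : app u (E 1) = E 1 + E 0 := by
    rw [hu, app_mul, p2, app_T, f_add_left, f_EE, f_EE]; simp
  have huf : app u (Fv 0 + Fv 1) = Fv 0 := by
    rw [hu, app_mul, app_add (P _ _ _), p3, p4,
      show Fv 0 + Fv 1 + Fv 1 = (Fv 0 : Fin 2 ⊕ Fin 2 → F) by rw [add_assoc, h2', add_zero],
      app_T, f_FE _ _ (by omega)]
    simp
  have hul : app u (Fv 1) = Fv 1 + θ • E 1 := by
    rw [hu, app_mul, p4, app_T, f_FE _ _ (by omega), if_pos rfl, mul_one]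
  obtain ⟨k, hk⟩ : ∃ k : Matrix.symplecticGroup (Fin 2) F,
      app k (E 0) = t • E 0 ∧ app k (E 1) = t • E 1 ∧ app k (Fv 1) = t⁻¹ • Fv 1 := by
    set M : Matrix (Fin 2 ⊕ Fin 2) (Fin 2 ⊕ Fin 2) F :=
      fromBlocks (diagonal fun _ => t) 0 0 (diagonal fun _ => t⁻¹) with hM
    have hl : ∀ x i, (M *ᵥ x) (.inl i) = t * x (.inl i) := fun x i => by
      rw [hM, fromBlocks_mulVec]; simp [mulVec_diagonal]
    have hr : ∀ x i, (M *ᵥ x) (.inr i) = t⁻¹ * x (.inr i) := fun x i => by
      rw [hM, fromBlocks_mulVec]; simp [mulVec_diagonal]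
    refine ⟨⟨M, mem_iff_f.2 fun x y => ?_⟩, ?_, ?_, ?_⟩
    · rw [f_apply, f_apply]
      refine Finset.sum_congr rfl fun i _ => ?_
      simp only [hl, hr]
      field_simp
    all_goals
      funext j
      show (M *ᵥ _) j = _
      rcases j with i | i <;> simp [hl, hr, E_inr, Fv_inl]
  refine three_gen (by omega) u k θ hθ0 (fun _ => a) (fun _ _ => ha) hu0
    (fun j hj => ?_) (fun j hj => ?_) hul ?_
  · obtain rfl : j = 0 := by omega
    exact hu1
  · obtain rfl : j = 0 := by omega
    exact huf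
  intro H K huH hkH hK hKe hKl hKf
  have hK0 : app K (E 0 + E 1) = E 0 := by simpa [ha] using hKe 0 (by omega)
  have hK1 : app K (E 1) = E 1 + Fv 1 := by
    have e := hKl
    rw [← hθa, mul_inv_cancel₀ hθ0, one_smul, sub_eq_add_neg,
      ← neg_one_smul F (Fv (2 - 1) : Fin 2 ⊕ Fin 2 → F), hneg, one_smul] at e
    exact e
  set x : Fin 2 ⊕ Fin 2 → F := E 0 with hx
  set y : Fin 2 ⊕ Fin 2 → F := E 1 with hy
  set f : Fin 2 ⊕ Fin 2 → F := Fv 1 with hf
  have hxy : sympForm 2 F x y = 0 := f_EE _ _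
  have cj : ∀ {g : Matrix.symplecticGroup (Fin 2) F} {v : Fin 2 ⊕ Fin 2 → F} {c : F},
      g ∈ H → T v c ∈ H → T (app g v) c ∈ H := fun {g v c} hg hv =>
    conj_T g v c ▸ conj_mem hg hv
  have cb : ∀ {g : Matrix.symplecticGroup (Fin 2) F} {v : Fin 2 ⊕ Fin 2 → F} {c : F},
      g ∈ H → T (app g v) c ∈ H → T v c ∈ H := fun {g v c} hg hv => by
    have := cj (inv_mem hg) hv
    rwa [app_inv] at this
  -- unit parameters
  have y1 : T y 1 ∈ H := by
    have h1 := mul_mem hkH (inv_mem huH)
    have e : k * u * k⁻¹ = T y (θ + 1) * P x f 1 := by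
      rw [hu, ← conj_mul, conj_T, conj_P, hk.1, hk.2.1, hk.2.2, T_smul, P_smul hxf,
        mul_inv_cancel₀ ht0, one_mul, ← ht]
      congr 2
      rw [add_mul, inv_mul_cancel₀ hθ0, one_mul]
    rw [e, hu, _root_.mul_inv_rev, mul_assoc, mul_inv_cancel_left, T_inv, T_mul, add_neg_cancel_comm] at h1
    exact h1
  have s1 : T (x + y) 1 ∈ H := by
    have := cj huH y1
    rwa [hu1, add_comm] at this
  have x1 : T x 1 ∈ H := by have := cj hK s1; rwa [hK0] at this
  have f1 : T f 1 ∈ H := by
    have := cj y1 (cj hK y1)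
    rw [hK1, app_T, f_add_left, f_self, f_FE _ _ (by omega), if_pos rfl, zero_add, mul_one,
      one_smul] at this
    rwa [show y + f + y = f by rw [add_comm y f, add_assoc, h2', add_zero]] at this
  have P1 : P x y 1 ∈ H := mul_mem (mul_mem s1 (by rwa [hneg])) (by rwa [hneg])
  -- the rotation of the second plane
  set σ := T y 1 * T f 1 * T y (1 : F) with hσ
  have hσH : σ ∈ H := mul_mem (mul_mem y1 f1) y1
  have σx : app σ x = x := by
    simp only [hσ, app_mul, app_T]
    simp [hxy, hxf]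
  have σy : app σ y = f := by
    simp only [hσ, app_mul, app_T]
    simp only [f_add_left, f_smul_left, f_self, hy, hf, f_EE, f_FE _ _ (show 1 < 2 by omega),
      f_EF _ _ (show 1 < 2 by omega), if_pos, hneg]
    simp only [mul_zero, zero_smul, add_zero, zero_add, one_mul, mul_one, one_smul]
    rw [add_comm (E 1) (Fv 1), add_assoc, h2', add_zero]
  have hPf : P x f 1 ∈ H := by
    have := conj_P σ x y 1 ▸ conj_mem hσH P1
    rwa [σx, σy] at this
  have hτ : K * P x f 1 ∈ H := mul_mem hK hPf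
  have τy : app (K * P x f 1) y = x := by rw [app_mul, p2, add_comm]; exact hK0
  -- the common parameters
  have hx_of : ∀ c, T y c ∈ H → T x c ∈ H := fun c h => τy ▸ cj hτ h
  have hy_of : ∀ c, T x c ∈ H → T y c ∈ H := fun c h => cb hτ (by rw [τy]; exact h)
  have hxy_of : ∀ c, T y c ∈ H → T (x + y) c ∈ H := fun c h => by
    have := cj hPf h
    rwa [p2, add_comm] at this
  have hP_of : ∀ c, T y c ∈ H → P x f c ∈ H := fun c h => by
    have hc : T y (-c) ∈ H := by rw [hneg]; exact h
    have h1 : P x y c ∈ H := mul_mem (mul_mem (hxy_of c h) (hx_of _ hc)) hc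
    have := conj_P σ x y c ▸ conj_mem hσH h1
    rwa [σx, σy] at this
  have hθy : T y θ ∈ H := by
    have := mul_mem huH (inv_mem hPf)
    rwa [hu, mul_inv_cancel_right] at this
  have hrec : ∀ d c, T y d ∈ H → T y c ∈ H → T y (d * c) ∈ H → T y (d * d * c) ∈ H := by
    intro d c hd hc hdc
    have h1 := cj (hP_of d hd) hc
    have e : app (P x f d) y = d • x + y := by
      rw [app_P hxf, show sympForm 2 F y x = 0 from f_EE _ _,
        show sympForm 2 F y f = 1 by rw [hy, hf, f_EF _ _ (by omega), if_pos rfl, hneg]]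
      simp [add_comm]
    have hdx : sympForm 2 F (d • x) y = 0 := by rw [f_smul_left, hxy, mul_zero]
    rw [e, T_add hdx, T_smul] at h1
    have h3 : P (d • x) y c ∈ H := by
      rw [← one_smul F y, P_smul hxy, mul_one]
      exact mul_mem (mul_mem (hxy_of _ hdc) (hx_of _ (by rw [hneg]; exact hdc)))
        (by rw [hneg]; exact hdc)
    exact hy_of _ ((H.mul_mem_cancel_right hc).1 ((H.mul_mem_cancel_right h3).1 h1))
  have hpow : ∀ n : ℕ, T y (θ ^ n) ∈ H ∧ T y (θ ^ (n + 1)) ∈ H := by
    intro n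
    induction n with
    | zero => simpa using ⟨y1, hθy⟩
    | succ n ih =>
      refine ⟨ih.2, ?_⟩
      convert hrec θ (θ ^ n) hθy ih.1 (by rw [← pow_succ']; exact ih.2) using 2
      ring
  exact fun c => hx_of c (eq_univ_of_pow (A0 H y) g₀ hg₀ (fun n => hθ ▸ (hpow n).1) c)

end CfsgLib.Classical.SympRegGen
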