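import Cfsg.Agent.Lib.Classical.SympFitting
import Cfsg.Agent.Lib.Classical.SimilarUnitary

/-!
Semisimple isometries of two alternating forms: the forms are equivalent through the centralizer.
-/

set_option autoImplicit false
set_option linter.style.haveILetI false
set_option maxHeartbeats 800000

namespace CfsgLib.Classical.SympSemisimple

open Module CfsgLib.SympCount

/-- Norms of a finite commutative ring with an unramified involution fill the fixed units. -/
theorem exists_norm {R : Type*} [CommRing R] [Finite R] (τ : R →+* R) (hτ : ∀ z, τ (τ z) = z)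
    (c : R) (hc : IsUnit (c - τ c)) (s : Rˣ) (hs : τ s = s) : ∃ y : Rˣ, τ y * y = (s : R) := by
  classical
  let T : Rˣ →* Rˣ := Units.map (τ : R →* R)
  have hTT : ∀ z, T (T z) = z := fun z => Units.ext (hτ z)
  let ψ : Rˣ →* Rˣ := MonoidHom.id Rˣ / T
  let N : Rˣ →* Rˣ := T * MonoidHom.id Rˣ
  have hψN : ψ.range = N.ker := by
    refine le_antisymm ?_ fun w hw => ?_
    · rintro _ ⟨z, rfl⟩
      show T (z / T z) * (z / T z) = 1
      rw [map_div, hTT, div_mul_div_comm, mul_comm (T z) z, div_self']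
    · change T w * w = 1 at hw
      obtain ⟨z, hz⟩ := SimilarUnitary.exists_unit_twist τ hτ c hc w w.isUnit
      refine ⟨hz.unit, ?_⟩
      show hz.unit / T hz.unit = w
      rw [div_eq_iff_eq_mul]
      apply Units.ext
      show z + w * τ z = w * τ (z + w * τ z)
      have h1 : τ (w : R) * w = 1 := congrArg Units.val hw
      rw [map_add, map_mul, hτ]
      linear_combination (-z) * h1
  have hψk : ∀ z, z ∈ ψ.ker ↔ T z = z := fun z => by
    rw [MonoidHom.mem_ker]
    show z / T z = 1 ↔ _
    rw [div_eq_one, eq_comm]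
  have hNle : N.range ≤ ψ.ker := by
    rintro _ ⟨z, rfl⟩
    rw [hψk]
    show T (T z * z) = T z * z
    rw [map_mul, hTT, mul_comm]
  have e1 := ψ.ker.index_mul_card
  have e2 := N.ker.index_mul_card
  rw [Subgroup.index_ker, hψN] at e1
  rw [Subgroup.index_ker, ← e1, mul_comm (Nat.card N.ker)] at e2
  have e3 := Nat.eq_of_mul_eq_mul_right Nat.card_pos e2
  have hmem : s ∈ N.range := by
    rw [Subgroup.eq_of_le_of_card_ge hNle e3.ge, hψk]
    exact Units.ext hs
  obtain ⟨y, hy⟩ := hmem
  exact ⟨y, congrArg Units.val hy⟩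

universe u

variable {F : Type u} [Field F] {V : Type u} [AddCommGroup V] [Module F V] [FiniteDimensional F V]

/-- The adjoint with respect to a nondegenerate form. -/
theorem exists_adjoint (B : LinearMap.BilinForm F V) (hB : ∀ v, (∀ w, B v w = 0) → v = 0)
    (z : End F V) : ∃ z' : End F V, ∀ u v, B (z' u) v = B u (z v) := by
  have hinj : Function.Injective B := (injective_iff_map_eq_zero B).2 fun v hv => hB v fun w => by rw [hv]; rfl
  let e := LinearMap.linearEquivOfInjective B hinj Subspace.dual_finrank_eq.symm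
  refine ⟨e.symm.toLinearMap ∘ₗ B.compl₂ z, fun u v => ?_⟩
  show e (e.symm (B.compl₂ z u)) v = _
  rw [e.apply_symm_apply]
  rfl

/-- The case without eigenvalues `1` and `-1`; the forms may be alternating or symmetric. -/
theorem exists_centralizer_equiv_of_injective [Finite F] (ε : F) (B B' : LinearMap.BilinForm F V)
    (hs : ∀ u v, B u v = ε * B v u) (hs' : ∀ u v, B' u v = ε * B' v u)
    (hB : ∀ v, (∀ w, B v w = 0) → v = 0) (hB' : ∀ v, (∀ w, B' v w = 0) → v = 0)
    (f : End F V) (hf : ∀ x y, B (f x) (f y) = B x y) (hf' : ∀ x y, B' (f x) (f y) = B' x y)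
    {N : ℕ} (hN : 0 < N) (hfN : f ^ N = 1) (hi : Function.Injective ⇑(f * f - 1)) :
    ∃ y : V ≃ₗ[F] V, (∀ x, y (f x) = f (y x)) ∧ ∀ u v, B (y u) (y v) = B' u v := by
  classical
  choose θ hθ using exists_adjoint B hB
  have huniq : ∀ {a b : End F V}, (∀ u v, B (a u) v = B (b u) v) → a = b := fun {a b} h =>
    LinearMap.ext fun u => sub_eq_zero.1 (hB _ fun v => by
      rw [map_sub, LinearMap.sub_apply, h, sub_self])
  obtain ⟨s, hsB⟩ : ∃ s : End F V, ∀ u v, B (s u) v = B' u v := by
    have hinj : Function.Injective B := (injective_iff_map_eq_zero B).2 fun v hv => hB v fun w => by rw [hv]; rfl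
    let e := LinearMap.linearEquivOfInjective B hinj Subspace.dual_finrank_eq.symm
    refine ⟨e.symm.toLinearMap ∘ₗ B', fun u v => ?_⟩
    show e (e.symm (B' u)) v = _
    rw [e.apply_symm_apply]
  set g := f ^ (N - 1) with hg
  have hfg : f * g = 1 := by rw [hg, ← pow_succ', Nat.sub_add_cancel hN, hfN]
  have hgf : g * f = 1 := by rw [hg, ← pow_succ, Nat.sub_add_cancel hN, hfN]
  have hfg' : ∀ x, f (g x) = x := fun x => LinearMap.congr_fun hfg x
  have hgf' : ∀ x, g (f x) = x := fun x => LinearMap.congr_fun hgf x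
  have hθf : θ f = g := huniq fun u v => by rw [hθ, ← hf (g u) v, hfg']
  have hθs : θ s = s := huniq fun u v => by rw [hθ, hsB, hs u, hsB, ← hs']
  have hcomm : s * f = f * s := huniq fun u v => by
    show B (s (f u)) v = B (f (s u)) v
    conv_rhs => rw [← hfg' v, hf, hsB, ← hf', hfg']
    rw [hsB]
  have hθmul : ∀ a b, θ (a * b) = θ b * θ a := fun a b => huniq fun u v => by
    show _ = B (θ b (θ a u)) v
    rw [hθ, hθ, hθ]; rfl
  have hθadd : ∀ a b, θ (a + b) = θ a + θ b := fun a b => huniq fun u v => by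
    rw [hθ, LinearMap.add_apply, map_add, LinearMap.add_apply, map_add, LinearMap.add_apply, hθ, hθ]
  have hθsc : ∀ r : F, θ (algebraMap F _ r) = algebraMap F _ r := fun r => huniq fun u v => by
    rw [hθ]; simp [Module.algebraMap_end_apply]
  have hθθ : ∀ a, θ (θ a) = a := fun a => huniq fun u v => by
    rw [hθ, hs u, hθ, ← hs]
  haveI : Finite (End F V) := Module.finite_of_finite F
  set R := Algebra.adjoin F ({f, s} : Set (End F V))
  letI : CommRing R := Algebra.adjoinCommRingOfComm F (by
    rintro a (rfl | rfl) b (rfl | rfl) <;> first | rfl | exact hcomm | exact hcomm.symm)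
  have hfR : f ∈ R := Algebra.subset_adjoin (by simp)
  have hsR : s ∈ R := Algebra.subset_adjoin (by simp)
  have hgR : g ∈ R := pow_mem hfR _
  have hθmem : ∀ z ∈ R, θ z ∈ R := by
    intro z hz
    induction hz using Algebra.adjoin_induction with
    | mem x hx =>
      rcases hx with rfl | rfl
      · rw [hθf]; exact hgR
      · rw [hθs]; exact hsR
    | algebraMap r => rw [hθsc]; exact R.algebraMap_mem _
    | add x y _ _ hx hy => rw [hθadd]; exact add_mem hx hy
    | mul x y _ _ hx hy => rw [hθmul]; exact mul_mem hy hx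
  let τ : R →+* R :=
    { toFun := fun z => ⟨θ z.1, hθmem z.1 z.2⟩
      map_one' := Subtype.ext (by simpa using hθsc 1)
      map_mul' := fun y z => by
        apply Subtype.ext
        show θ (y.1 * z.1) = θ y.1 * θ z.1
        rw [hθmul]
        exact congrArg Subtype.val (mul_comm (⟨θ z.1, hθmem z.1 z.2⟩ : R) ⟨θ y.1, hθmem y.1 y.2⟩)
      map_zero' := Subtype.ext (by simpa using hθsc 0)
      map_add' := fun y z => Subtype.ext (hθadd y.1 z.1) }
  have hunit : ∀ z : R, Function.Injective ⇑(z.1) → IsUnit z := fun z hz => by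
    have hb : Function.Bijective fun w : R => z * w := Finite.injective_iff_bijective.1 fun a b h =>
      Subtype.ext (LinearMap.ext fun x => hz (LinearMap.congr_fun (congrArg Subtype.val h) x))
    obtain ⟨w, hw⟩ := hb.2 1
    exact IsUnit.of_mul_eq_one _ hw
  have hsu : IsUnit (⟨s, hsR⟩ : R) := hunit _ ((injective_iff_map_eq_zero s).2 fun v hv =>
    hB' v fun w => by rw [← hsB, hv, map_zero, LinearMap.zero_apply])
  have hcu : IsUnit ((⟨f, hfR⟩ : R) - τ ⟨f, hfR⟩) := hunit _ (by
    show Function.Injective ⇑(f - θ f)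
    rw [hθf]
    have e : f - g = g * (f * f - 1) := by rw [mul_sub, ← mul_assoc, hgf, one_mul, mul_one]
    rw [e]
    exact (Function.LeftInverse.injective hfg').comp hi)
  obtain ⟨y, hy⟩ := exists_norm τ (fun z => Subtype.ext (hθθ z.1)) _ hcu hsu.unit (Subtype.ext hθs)
  have hy' : θ (y : R).1 * (y : R).1 = s := congrArg Subtype.val hy
  have hyinj : Function.Injective ⇑((y : R).1) := fun a b h => by
    have hm : ((↑y⁻¹ : R).1) * (y : R).1 = 1 := congrArg Subtype.val y.inv_mul
    exact (LinearMap.congr_fun hm a).symm.trans ((congrArg _ h).trans (LinearMap.congr_fun hm b))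
  refine ⟨LinearEquiv.ofInjectiveEndo _ hyinj, fun x => ?_, fun u v => ?_⟩
  · exact LinearMap.congr_fun (congrArg Subtype.val (mul_comm (y : R) ⟨f, hfR⟩)) x
  · show B ((y : R).1 u) ((y : R).1 v) = _
    rw [← hθ, ← hsB, ← hy']
    rfl

omit [FiniteDimensional F V] in
theorem eq_zero_of_sq {g : End F V} {M : ℕ} (h : g ^ M = 1) (hM : (M : F) ≠ 0) {x : V}
    (hx : g (g x - x) = g x - x) : g x = x := by
  have key : ∀ k : ℕ, (g ^ k) x = x + (k : F) • (g x - x) := by
    intro k
    induction k with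
    | zero => simp
    | succ k ih =>
      rw [pow_succ', End.mul_apply, ih, map_add, map_smul, hx, Nat.cast_succ, add_smul, one_smul]
      abel
  have := key M
  rw [h, End.one_apply, left_eq_add, smul_eq_zero, or_iff_right hM] at this
  exact sub_eq_zero.1 this

/-- Splitting off one eigenvalue `ε = ±1`. -/
theorem exists_centralizer_equiv_split (B B' : LinearMap.BilinForm F V) (hB : Symp B) (hB' : Symp B')
    (f : End F V) (hf : ∀ x y, B (f x) (f y) = B x y) (hf' : ∀ x y, B' (f x) (f y) = B' x y)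
    (ε : F) (hε : ε * ε = 1) {M : ℕ} (hM : (ε • f) ^ M = 1) (hM0 : (M : F) ≠ 0)
    (hrest : ∀ (I : Submodule F V) (hI : ∀ x ∈ I, f x ∈ I), (∀ x ∈ I, f x = ε • x → x = 0) →
      Symp (B.restrict I) → Symp (B'.restrict I) →
      ∃ y : I ≃ₗ[F] I, (∀ x, y (f.restrict hI x) = f.restrict hI (y x)) ∧
        ∀ u v, B.restrict I (y u) (y v) = B'.restrict I u v) :
    ∃ y : V ≃ₗ[F] V, (∀ x, y (f x) = f (y x)) ∧ ∀ u v, B (y u) (y v) = B' u v := by
  classical
  set t : End F V := f - ε • 1 with ht
  set K := LinearMap.ker t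
  set I := LinearMap.range t
  have hK : ∀ x, x ∈ K ↔ f x = ε • x := fun x => by simp [K, t, sub_eq_zero]
  have hdisj : K ⊓ I = ⊥ := by
    rw [eq_bot_iff]
    rintro x ⟨hx, z, rfl⟩
    rw [Submodule.mem_bot]
    have h1 : f (t z) = ε • t z := (hK _).1 hx
    have h2 : (ε • f) z - z = ε • t z := by simp [t, smul_sub, smul_smul, hε]
    have h3 := eq_zero_of_sq hM hM0 (x := z) (by
      rw [h2, map_smul, LinearMap.smul_apply, h1, smul_smul ε ε, hε, one_smul])
    rw [h3, sub_self, eq_comm, smul_eq_zero] at h2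
    exact h2.resolve_left fun h => by rw [h, zero_mul] at hε; exact zero_ne_one hε
  have hC : IsCompl K I := by
    refine ⟨disjoint_iff.2 hdisj, codisjoint_iff.2 (Submodule.eq_top_of_finrank_eq ?_)⟩
    have := Submodule.finrank_sup_add_finrank_inf_eq K I
    rw [hdisj, finrank_bot] at this
    have := LinearMap.finrank_range_add_finrank_ker t
    change finrank F I + finrank F K = _ at this
    omega
  have horth : ∀ C : LinearMap.BilinForm F V, (∀ x y, C (f x) (f y) = C x y) →
      ∀ k ∈ K, ∀ i ∈ I, C i k = 0 := by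
    rintro C hCf k hk _ ⟨z, rfl⟩
    have h1 : f k = ε • k := (hK k).1 hk
    have h2 := hCf z k
    rw [h1, map_smul, smul_eq_mul] at h2
    simp only [t, LinearMap.sub_apply, LinearMap.smul_apply, End.one_apply, map_sub, map_smul, smul_eq_mul]
    linear_combination ε * h2 - C (f z) k * hε
  obtain ⟨hBK, hBI⟩ := hB.restrict hC (horth B hf)
  obtain ⟨hBK', hBI'⟩ := hB'.restrict hC (horth B' hf')
  have hfI : ∀ x ∈ I, f x ∈ I := by
    rintro _ ⟨z, rfl⟩
    exact ⟨f z, by simp [t, map_sub, map_smul]⟩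
  obtain ⟨yI, hyI, hyIB⟩ := hrest I hfI (fun x hx h => by
    have : x ∈ K ⊓ I := ⟨(hK x).2 h, hx⟩
    rwa [hdisj, Submodule.mem_bot] at this) hBI hBI'
  obtain ⟨yK, hyK⟩ := exists_isometry hBK hBK' rfl
  let e := Submodule.prodEquivOfIsCompl K I hC
  refine ⟨e.symm.trans ((yK.prodCongr yI).trans e), fun x => ?_, fun u v => ?_⟩
  · obtain ⟨⟨k, i⟩, rfl⟩ := e.surjective x
    have h1 : f (e (k, i)) = e (ε • k, f.restrict hfI i) := by
      simp [e, (hK k.1).1 k.2]
    rw [h1]
    simp only [LinearEquiv.trans_apply, LinearEquiv.symm_apply_apply, LinearEquiv.prodCongr_apply, hyI]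
    simp [e, (hK (yK k).1).1 (yK k).2]
  · obtain ⟨⟨k, i⟩, rfl⟩ := e.surjective u
    obtain ⟨⟨k', i'⟩, rfl⟩ := e.surjective v
    simp only [LinearEquiv.trans_apply, LinearEquiv.symm_apply_apply, LinearEquiv.prodCongr_apply]
    have sk : ∀ (C : LinearMap.BilinForm F V), (∀ x y, C (f x) (f y) = C x y) → C.IsAlt →
        ∀ (a a' : K) (b b' : I), C (e (a, b)) (e (a', b')) = C.restrict K a a' + C.restrict I b b' := by
      intro C hCf hCa a a' b b'
      have o1 : C (b : V) (a' : V) = 0 := horth C hCf _ a'.2 _ b.2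
      have o2 : C (a : V) (b' : V) = 0 := by rw [← hCa.neg_eq, horth C hCf _ a.2 _ b'.2, neg_zero]
      simp [e, o1, o2]
    rw [sk B hf hB.alt, sk B' hf' hB'.alt, hyK, hyIB]

/-- Two alternating forms preserved by a semisimple map are equivalent through its centralizer. -/
theorem exists_centralizer_equiv [Finite F] (B B' : LinearMap.BilinForm F V) (hB : Symp B)
    (hB' : Symp B') (f : End F V) (hf : ∀ x y, B (f x) (f y) = B x y)
    (hf' : ∀ x y, B' (f x) (f y) = B' x y) {N : ℕ} (hN : f ^ N = 1) (hN0 : (N : F) ≠ 0) :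
    ∃ y : V ≃ₗ[F] V, (∀ x, y (f x) = f (y x)) ∧ ∀ u v, B (y u) (y v) = B' u v := by
  have hNpos : 0 < N := Nat.pos_of_ne_zero fun h => hN0 (by rw [h, Nat.cast_zero])
  refine exists_centralizer_equiv_split B B' hB hB' f hf hf' 1 (one_mul 1)
    (by rw [one_smul]; exact hN) hN0 fun I hI h1 hBI hBI' => ?_
  have hpow : ∀ (W : Submodule F V) (hW : ∀ x ∈ W, f x ∈ W), f.restrict hW ^ N = 1 := fun W hW => by
    rw [Module.End.pow_restrict N hW]
    exact LinearMap.ext fun x => Subtype.ext (LinearMap.congr_fun hN x.1)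
  have skew : ∀ {W : Type u} [AddCommGroup W] [Module F W] {C : LinearMap.BilinForm F W},
      C.IsAlt → ∀ u v, C u v = (-1) * C v u := fun hC u v => by rw [neg_one_mul, hC.neg_eq]
  by_cases h2 : (2 : F) = 0
  · refine exists_centralizer_equiv_of_injective (-1) _ _ (skew hBI.alt) (skew hBI'.alt) hBI.nd hBI'.nd _
      (fun x y => hf x y) (fun x y => hf' x y) hNpos (hpow I hI) ((injective_iff_map_eq_zero _).2 fun x hx => ?_)
    have h3 : f (f x.1) = x.1 := by
      simpa [sub_eq_zero] using congrArg Subtype.val hx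
    have h4 : f (f x.1 - x.1) = f x.1 - x.1 := by
      have h5 : (2 : F) • (f x.1 - x.1) = 0 := by rw [h2, zero_smul]
      rw [two_smul] at h5
      rw [map_sub, h3, ← neg_sub, neg_eq_iff_add_eq_zero]
      exact h5
    exact Subtype.ext (h1 x.1 x.2 (by rw [one_smul]; exact eq_zero_of_sq hN hN0 h4))
  · refine exists_centralizer_equiv_split _ _ hBI hBI' _ (fun x y => hf x y) (fun x y => hf' x y) (-1)
      (neg_one_mul (-1) |>.trans (neg_neg 1)) (M := 2 * N) ?_ (by push_cast; exact mul_ne_zero h2 hN0)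
      fun J hJ h1' hBJ hBJ' => ?_
    · rw [smul_pow, pow_mul (-1 : F), neg_one_sq, one_pow, one_smul, mul_comm, pow_mul, hpow, one_pow]
    · refine exists_centralizer_equiv_of_injective (-1) _ _ (skew hBJ.alt) (skew hBJ'.alt) hBJ.nd hBJ'.nd _
        (fun x y => hf x.1 y.1) (fun x y => hf' x.1 y.1) hNpos ?_ ((injective_iff_map_eq_zero _).2 fun x hx => ?_)
      · rw [Module.End.pow_restrict N hJ]
        exact LinearMap.ext fun x => Subtype.ext (LinearMap.congr_fun (hpow I hI) x.1)
      · set w : V := x.1.1 with hw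
        have h3 : f (f w) = w := by
          simpa [sub_eq_zero, w] using congrArg (fun z : J => z.1.1) hx
        have h4 : f w + w = 0 := by
          refine h1 _ (add_mem (hI _ x.1.2) x.1.2) ?_
          rw [one_smul, map_add, h3, add_comm]
        refine Subtype.ext (h1' x.1 x.2 (Subtype.ext ?_))
        simpa [w, neg_one_smul] using eq_neg_of_add_eq_zero_left h4

end CfsgLib.Classical.SympSemisimple
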