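import Cfsg.Agent.Lib.Classical.SympTrans
import Cfsg.Agent.Lib.Classical.IsoProd

set_option autoImplicit false

/-!
The normaliser of the diagonal torus of the symplectic group.
-/

namespace CfsgLib.Classical.SympTorus

open Matrix Cfsg CfsgLib.Classical.SympTrans

variable {F : Type*} [Field F] {m : ℕ}

local notation "V" => (Fin m ⊕ Fin m → F)
local notation "G" => Matrix.symplecticGroup (Fin m) F
local notation "ω" => sympForm m F

/-- The basis vector. -/
abbrev e (s : Fin m ⊕ Fin m) : V := Pi.single s 1

theorem w_lr (i j : Fin m) : ω (e (.inl i)) (e (.inr j)) = -if i = j then 1 else 0 := by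
  rw [f_inr]; simp [Pi.single_apply, eq_comm]

theorem w_rl (i j : Fin m) : ω (e (.inr i)) (e (.inl j)) = if i = j then 1 else 0 := by
  rw [f_inl]; simp [Pi.single_apply, eq_comm]

theorem w_ll (i j : Fin m) : ω (e (F := F) (.inl i)) (e (.inl j)) = 0 := by
  rw [f_inl]; simp

theorem w_rr (i j : Fin m) : ω (e (F := F) (.inr i)) (e (.inr j)) = 0 := by
  rw [f_inr]; simp

theorem exists_of_cols (col : Fin m ⊕ Fin m → V) (h : ∀ s t, ω (col s) (col t) = ω (e s) (e t)) :
    ∃ g : G, ∀ s, app g (e s) = col s := by
  let M : Matrix (Fin m ⊕ Fin m) (Fin m ⊕ Fin m) F := Matrix.of fun r s => col s r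
  have hM : ∀ s, M *ᵥ e s = col s := fun s => by funext r; simp [M, e, Matrix.mulVec_single]
  have hbil : (IsoProd.sympBilin (F := F) m).compl₁₂ M.mulVecLin M.mulVecLin = IsoProd.sympBilin m := by
    refine LinearMap.ext_basis (Pi.basisFun F _) (Pi.basisFun F _) fun s t => ?_
    simp only [LinearMap.compl₁₂_apply, Pi.basisFun_apply, Matrix.mulVecLin_apply, IsoProd.sympBilin_apply]
    exact (by rw [hM, hM]; exact h s t)
  refine ⟨⟨M, mem_iff_f.2 fun u v => ?_⟩, hM⟩
  rw [← IsoProd.sympBilin_apply, ← IsoProd.sympBilin_apply]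
  exact LinearMap.congr_fun₂ hbil u v

theorem ext_basis {g h : G} (H : ∀ s, app g (e s) = app h (e s)) : g = h :=
  Subtype.ext (Matrix.ext_of_mulVec_single H)

variable (F m) in
/-- The diagonal torus. -/
def torus : Subgroup G :=
  ⨅ i : Fin m ⊕ Fin m, stabilizing (spToMat m F)
    ((Submodule.span F {(Pi.single i (1 : F) : V)} : Submodule F V) : Set V)

theorem mem_torus {g : G} : g ∈ torus F m ↔ ∀ s, ∃ c : F, app g (e s) = c • e s := by
  rw [torus, Subgroup.mem_iInf]
  constructor
  · intro h s
    obtain ⟨c, hc⟩ := Submodule.mem_span_singleton.1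
      (((h s) (e s)).1 (Submodule.mem_span_singleton_self (e s)))
    exact ⟨c, hc.symm⟩
  · intro h s v
    obtain ⟨c, hc⟩ := h s
    have hc0 : c ≠ 0 := fun h0 => app_ne_zero g (x := e (F := F) s) (by simp [e]) (by rw [hc, h0, zero_smul])
    constructor
    · intro hv
      obtain ⟨a, rfl⟩ := Submodule.mem_span_singleton.1 hv
      refine Submodule.mem_span_singleton.2 ⟨a * c, ?_⟩
      show _ = app g _
      rw [app_smul, hc, smul_smul]
    · intro hv
      obtain ⟨a, ha⟩ := Submodule.mem_span_singleton.1 hv
      refine Submodule.mem_span_singleton.2 ⟨a * c⁻¹, ?_⟩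
      rw [← app_inv g v, show app g v = a • e s from ha.symm, app_smul, ← mul_smul_comm_app g s c hc hc0,
        smul_smul]
where
  mul_smul_comm_app (g : G) (s : Fin m ⊕ Fin m) (c : F) (hc : app g (e s) = c • e s) (hc0 : c ≠ 0) :
      c⁻¹ • e s = app g⁻¹ (e s) := by
    conv_rhs => rw [← inv_smul_smul₀ hc0 (e (F := F) s), ← hc, app_smul, app_inv]

theorem exists_diag (a : Fin m → Fˣ) : ∃ g : G, g ∈ torus F m ∧
    ∀ i, app g (e (.inl i)) = (a i : F) • e (.inl i) ∧ app g (e (.inr i)) = ((a i)⁻¹ : Fˣ) • e (.inr i) := by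
  obtain ⟨g, hg⟩ := exists_of_cols (F := F) (m := m)
    (Sum.elim (fun i => (a i : F) • e (.inl i)) fun i => (((a i)⁻¹ : Fˣ) : F) • e (.inr i)) fun s t => by
      rcases s with i | i <;> rcases t with j | j <;>
        simp only [Sum.elim_inl, Sum.elim_inr, f_smul_left, f_smul_right, w_ll, w_rr, w_lr, w_rl, mul_zero] <;>
        split_ifs with h <;> simp [h]
  refine ⟨g, mem_torus.2 fun s => ?_, fun i => ⟨hg _, hg _⟩⟩
  rcases s with i | i <;> exact ⟨_, hg _⟩

theorem exists_sep [Fintype F] (hq : 4 ≤ Fintype.card F) {r r' : Fin m ⊕ Fin m} (h : r ≠ r') :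
    ∃ (g : G) (c c' : F), g ∈ torus F m ∧ app g (e r) = c • e r ∧ app g (e r') = c' • e r' ∧ c ≠ c' := by
  classical
  obtain ⟨u, -, hu⟩ := Finset.exists_mem_notMem_of_card_lt_card (t := (Finset.univ : Finset F))
    (s := {0, 1, -1}) (lt_of_le_of_lt Finset.card_le_three (by rw [Finset.card_univ]; omega))
  simp only [Finset.mem_insert, Finset.mem_singleton, not_or] at hu
  have hu2 : u ≠ u⁻¹ := fun e => by
    have hh : (u - 1) * (u + 1) = 0 := by
      have := mul_inv_cancel₀ hu.1
      rw [← e] at this
      linear_combination this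
    rcases mul_eq_zero.1 hh with h | h
    · exact hu.2.1 (sub_eq_zero.1 h)
    · exact hu.2.2 (eq_neg_of_add_eq_zero_left h)
  obtain ⟨i, hi⟩ : ∃ i, r = .inl i ∨ r = .inr i := by cases r <;> simp
  obtain ⟨g, hg, hgv⟩ := exists_diag (F := F) (fun j => if j = i then Units.mk0 u hu.1 else 1)
  have key : ∀ s, app g (e s) = (Sum.elim (fun j => if j = i then u else 1)
      (fun j => if j = i then u⁻¹ else 1) s : F) • e s := fun s => by
    rcases s with j | j
    · rw [(hgv j).1]; by_cases hj : j = i <;> simp [hj]
    · rw [(hgv j).2]; by_cases hj : j = i <;> simp [hj, Units.smul_def]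
  refine ⟨g, _, _, hg, key r, key r', ?_⟩
  have hu1' : u⁻¹ ≠ 1 := fun e => hu.2.1 (inv_eq_one.1 e)
  rcases r with a | a <;> rcases r' with b | b <;> rcases hi with hi | hi <;>
    first
      | (exfalso; simp at hi; done)
      | (cases hi
         by_cases hb : b = i <;>
           first
             | (subst hb; exact absurd rfl h)
             | simp [hb, hu.2.1, hu1', hu2, Ne.symm hu2, Ne.symm hu.2.1])

/-- Monomial matrices. -/
def IsMon (g : G) : Prop := ∀ s, ∃ t, ∃ c : F, app g (e s) = c • e t

theorem mem_normalizer_iff [Fintype F] (hq : 4 ≤ Fintype.card F) (g : G) :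
    g ∈ Subgroup.normalizer (torus F m : Set G) ↔ IsMon g := by
  constructor
  · intro hg s
    by_contra hcon
    push Not at hcon
    set v := app g (e (F := F) s)
    have hv0 : v ≠ 0 := app_ne_zero g (by simp [e])
    obtain ⟨r, hr⟩ := Function.ne_iff.1 hv0
    obtain ⟨r', hrr', hr'⟩ : ∃ r', r' ≠ r ∧ v r' ≠ 0 := by
      by_contra hh
      push Not at hh
      refine hcon r (v r) (funext fun x => ?_)
      by_cases hx : x = r <;> simp [hx, e, hh x]
    obtain ⟨h, c, c', hT, hc, hc', hne⟩ := exists_sep hq hrr'.symm
    have hconj : g⁻¹ * h * g ∈ torus F m := by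
      have := (Subgroup.mem_normalizer_iff.1 ((Subgroup.normalizer _).inv_mem hg) h).1 hT
      rwa [inv_inv] at this
    obtain ⟨d, hd⟩ := mem_torus.1 hconj s
    have h1 : app h v = d • v := by
      have : app g (app (g⁻¹ * h * g) (e s)) = d • v := by rw [hd, app_smul]
      rwa [app_mul, app_mul, app_inv'] at this
    have hcoord : ∀ x (cx : F), app h (e x) = cx • e x → app h v x = cx * v x := by
      intro x cx hx
      obtain ⟨D, hD⟩ : ∃ D : Fin m ⊕ Fin m → F, ∀ y, app h (e y) = D y • e y := by
        choose D hD using fun y => mem_torus.1 hT y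
        exact ⟨D, hD⟩
      have hx' : D x = cx := by
        have := congrFun ((hD x).symm.trans hx) x
        simpa [e] using this
      have hexp : v = ∑ y, v y • e (F := F) y := by
        funext z; simp [e, Pi.single_apply]
      conv_lhs => rw [hexp]
      simp only [app, Matrix.mulVec_sum, Matrix.mulVec_smul]
      rw [Finset.sum_apply, Finset.sum_eq_single x]
      · have := congrFun (hD x) x
        simp only [app, Pi.smul_apply, smul_eq_mul, e, Pi.single_eq_same, mul_one] at this
        simp [Matrix.mulVec_single] at this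
        simp [e, Matrix.mulVec_single, this, hx', mul_comm]
      · intro y _ hy
        have := congrFun (hD y) x
        simp only [app, Pi.smul_apply, smul_eq_mul, e, Pi.single_eq_of_ne hy.symm, mul_zero] at this
        simp [Matrix.mulVec_single] at this
        simp [e, Matrix.mulVec_single, this]
      · simp
    have e1 := hcoord r c hc
    have e2 := hcoord r' c' hc'
    rw [h1, Pi.smul_apply, smul_eq_mul] at e1 e2
    exact hne ((mul_right_cancel₀ hr e1).symm.trans (mul_right_cancel₀ hr' e2))
  · intro hg
    have key : ∀ x : G, x ∈ torus F m → g⁻¹ * x * g ∈ torus F m := by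
      intro x hx
      refine mem_torus.2 fun s => ?_
      obtain ⟨t, c, hc⟩ := hg s
      obtain ⟨d, hd⟩ := mem_torus.1 hx t
      refine ⟨d, ?_⟩
      rw [app_mul, app_mul, hc, app_smul, hd, smul_comm, ← hc, app_smul, app_inv]
    have : Finite ↥(torus F m : Set G) := inferInstance
    rw [← Subgroup.inv_mem_iff]
    exact Subgroup.mem_normalizer_fintype fun x hx => by
      rw [inv_inv]; exact key x hx

/-- The image of a basis vector in a signed permutation. -/
def dest (π : Equiv.Perm (Fin m)) (ε : Fin m → Bool) : Fin m ⊕ Fin m → Fin m ⊕ Fin m :=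
  Sum.elim (fun i => if ε i then .inr (π i) else .inl (π i)) fun i => if ε i then .inl (π i) else .inr (π i)

/-- The scalars in a signed permutation. -/
def scal (ε : Fin m → Bool) (a : Fin m → Fˣ) : Fin m ⊕ Fin m → F :=
  Sum.elim (fun i => (a i : F)) fun i => if ε i then -((a i)⁻¹ : F) else ((a i : F))⁻¹

theorem exists_monomial (π : Equiv.Perm (Fin m)) (ε : Fin m → Bool) (a : Fin m → Fˣ) :
    ∃ g : G, ∀ s, app g (e s) = scal ε a s • e (dest π ε s) := by
  refine exists_of_cols _ fun s t => ?_
  rw [f_smul_left, f_smul_right]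
  rcases s with i | i <;> rcases t with j | j <;>
    by_cases hij : i = j
  all_goals first
    | (subst hij; cases hε : ε i <;> simp [scal, dest, hε, w_ll, w_rr, w_lr, w_rl])
    | (have hπ : π i ≠ π j := fun h => hij (π.injective h)
       cases hε : ε i <;> cases hε' : ε j <;> simp [scal, dest, hε, hε', w_ll, w_rr, w_lr, w_rl, hij, hπ])

theorem card_normalizer [Fintype F] {q : ℕ} (hF : Fintype.card F = q) (hq : 4 ≤ q) (m : ℕ) :
    Nat.card ↥(Subgroup.normalizer (⨅ i : Fin m ⊕ Fin m, stabilizing (spToMat m F)
      ((Submodule.span F {(Pi.single i (1 : F) : Fin m ⊕ Fin m → F)} :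
        Submodule F (Fin m ⊕ Fin m → F)) : Set (Fin m ⊕ Fin m → F)) : Set (Matrix.symplecticGroup (Fin m) F))) =
      2 ^ m * Nat.factorial m * (q - 1) ^ m := by
  classical
  subst hF
  choose mk hmk using fun x : (Equiv.Perm (Fin m) × (Fin m → Bool)) × (Fin m → Fˣ) =>
    exists_monomial (F := F) x.1.1 x.1.2 x.2
  have hmem : ∀ x, mk x ∈ Subgroup.normalizer (torus F m : Set (Matrix.symplecticGroup (Fin m) F)) :=
    fun x => (mem_normalizer_iff hq _).2 fun s => ⟨_, _, hmk x s⟩
  have hinj : ∀ (r r' : Fin m ⊕ Fin m) (c c' : F), c ≠ 0 →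
      c • e (F := F) r = c' • e r' → r = r' ∧ c = c' := by
    intro r r' c c' hc h
    have h1 := congrFun h r
    by_cases hr : r = r'
    · subst hr; exact ⟨rfl, by simpa [e] using h1⟩
    · simp [e, hr, hc] at h1
  let φ : (Equiv.Perm (Fin m) × (Fin m → Bool)) × (Fin m → Fˣ) →
      Subgroup.normalizer (torus F m : Set (Matrix.symplecticGroup (Fin m) F)) := fun x => ⟨mk x, hmem x⟩
  have hbij : Function.Bijective φ := by
    constructor
    · rintro ⟨⟨π, ε⟩, a⟩ ⟨⟨π', ε'⟩, a'⟩ h
      have h' : mk ((π, ε), a) = mk ((π', ε'), a') := congrArg Subtype.val h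
      have hl : ∀ i, dest π ε (.inl i) = dest π' ε' (.inl i) ∧ (a i : F) = a' i := fun i => by
        have e1 := hmk ((π, ε), a) (.inl i)
        rw [h', hmk ((π', ε'), a') (.inl i)] at e1
        exact hinj _ _ _ _ (a i).ne_zero e1.symm
      have hε : ε = ε' := funext fun i => by
        have := (hl i).1
        cases h1 : ε i <;> cases h2 : ε' i <;> simp [dest, h1, h2] at this ⊢
      subst hε
      have hπ : π = π' := Equiv.ext fun i => by
        have := (hl i).1
        cases h1 : ε i <;> simpa [dest, h1] using this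
      subst hπ
      rw [show a = a' from funext fun i => Units.ext (hl i).2]
    · rintro ⟨g, hg⟩
      choose t c ht using (mem_normalizer_iff hq g).1 hg
      have hc : ∀ s, c s ≠ 0 := fun s h => app_ne_zero g (x := e (F := F) s) (by simp [e])
        (by rw [ht, h, zero_smul])
      let p : Fin m → Fin m := fun i => Sum.elim id id (t (.inl i))
      let ε : Fin m → Bool := fun i => (t (.inl i)).isRight
      have hw : ∀ s s', c s * c s' * sympForm m F (e (t s)) (e (t s')) = sympForm m F (e s) (e s') := fun s s' => by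
        rw [← f_app g (e s) (e s'), ht, ht, f_smul_left, f_smul_right, mul_assoc]
      have htinj : Function.Injective t := fun s s' h => by
        by_contra hne
        have e1 : app g ((c s') • e s - (c s) • e s') = 0 := by
          rw [app_sub, app_smul, app_smul, ht, ht, h, smul_smul, smul_smul, mul_comm, sub_self]
        have e2 : (c s') • e (F := F) s - (c s) • e s' = 0 := by
          by_contra h0
          exact app_ne_zero g h0 e1
        have := congrFun e2 s
        simp [e, hne, hc s'] at this
      have hsw : ∀ i, t (.inr i) = (t (.inl i)).swap := fun i => by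
        have h1 := hw (.inl i) (.inr i)
        rw [w_lr, if_pos rfl] at h1
        rcases h2 : t (.inl i) with a | a <;> rcases h3 : t (.inr i) with b | b <;>
          simp only [h2, h3, w_ll, w_rr, w_lr, w_rl, mul_zero] at h1
        · simp at h1
        · by_cases hab : a = b
          · simp [hab]
          · simp [hab] at h1
        · by_cases hab : a = b
          · simp [hab]
          · simp [hab] at h1
        · simp at h1
      have hp : Function.Injective p := fun i i' h => by
        by_contra hne
        rcases h2 : t (.inl i) with a | a <;> rcases h3 : t (.inl i') with b | b <;>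
          simp [p, h2, h3] at h <;> subst h
        · exact hne (Sum.inl_injective (htinj (h2.trans h3.symm)))
        · have : t (.inr i) = t (.inl i') := by rw [hsw, h2, h3]; rfl
          simpa using htinj this
        · have : t (.inr i) = t (.inl i') := by rw [hsw, h2, h3]; rfl
          simpa using htinj this
        · exact hne (Sum.inl_injective (htinj (h2.trans h3.symm)))
      let π : Equiv.Perm (Fin m) := Equiv.ofBijective p (Finite.injective_iff_bijective.1 hp)
      refine ⟨((π, ε), fun i => Units.mk0 (c (.inl i)) (hc _)), Subtype.ext (ext_basis fun s => ?_)⟩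
      show app (mk _) (e s) = _
      rw [hmk, ht]
      rcases s with i | i
      · rcases h2 : t (.inl i) with a | a <;> simp [scal, dest, ε, π, p, h2]
      · have h1 := hw (.inl i) (.inr i)
        rw [w_lr, if_pos rfl, hsw] at h1
        rcases h2 : t (.inl i) with a | a <;> simp [h2, w_lr, w_rl] at h1
        · have hcr : c (.inr i) = (c (.inl i))⁻¹ := by
            field_simp [hc (.inl i)]
            linear_combination h1
          simp [scal, dest, ε, π, p, h2, hsw, hcr]
        · have hcr : c (.inr i) = -(c (.inl i))⁻¹ := by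
            field_simp [hc (.inl i)]
            linear_combination h1
          simp [scal, dest, ε, π, p, h2, hsw, hcr]
  rw [show (⨅ i : Fin m ⊕ Fin m, (stabilizing (spToMat m F)
      ((Submodule.span F {(Pi.single i (1 : F) : Fin m ⊕ Fin m → F)} :
        Submodule F (Fin m ⊕ Fin m → F)) : Set (Fin m ⊕ Fin m → F)) : Set (Matrix.symplecticGroup (Fin m) F))) =
      (torus F m : Set (Matrix.symplecticGroup (Fin m) F)) from (Subgroup.coe_iInf).symm]
  rw [← Nat.card_congr (Equiv.ofBijective φ hbij), Nat.card_prod, Nat.card_prod, Nat.card_perm,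
    Nat.card_fun, Nat.card_fun, Nat.card_fin, Nat.card_units, Nat.card_eq_fintype_card (α := F),
    Nat.card_eq_fintype_card (α := Bool), Fintype.card_bool]
  ring

end CfsgLib.Classical.SympTorus
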