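import Cfsg.Agent.Lib.Classical.SympUnitarySixMax

set_option autoImplicit false
set_option linter.unusedSectionVars false

/-!
Root elements alone satisfy the hypotheses on an overgroup of a general unitary group of degree at least four inside
the symplectic group: they are transitive on vectors of given norm beside an anisotropic vector.
-/

namespace CfsgLib.SympUSix

open Module
open CfsgLib.SympExt (InM tt tt_apply)

variable {F V : Type*} [Field F] [Finite F] [AddCommGroup V] [Module F V] [FiniteDimensional F V]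
variable {B : V →ₗ[F] V →ₗ[F] F} {J : V →ₗ[F] V} {d : F}
variable {M : Subgroup (V ≃ₗ[F] V)}
variable (hS : Setup B J d)
include hS

/-- An element orthogonal to one anisotropic vector has a component orthogonal to it and to another. -/
theorem exists_proj' {c e : V} (he : B (J e) e ≠ 0) (hec : Perp B J e c) {z : V} (hz : Perp B J z c) :
    ∃ w, Perp B J w c ∧ Perp B J w e ∧ (∀ v, Perp B J v e → B v w = B v z) ∧
      ∃ a b : F, z = w + (a • e + b • J e) := by
  obtain ⟨w, hw, hwz, a, b, e0⟩ := exists_proj hS he z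
  refine ⟨w, ?_, hw, hwz, a, b, e0⟩
  have h := perp_comb hz (perp_comb hec (perp_j hS hec) a b) 1 (-1)
  rwa [one_smul, neg_one_smul, ← sub_eq_add_neg, e0, add_sub_cancel_right] at h

/-- An anisotropic vector orthogonal to at most three given ones, in dimension at least eight. -/
theorem exists_anis_perp₃ (hdim : 8 ≤ Module.finrank F V) {c e f : V} (hc : c = 0 ∨ B (J c) c ≠ 0)
    (he : B (J e) e ≠ 0) (hf : B (J f) f ≠ 0) (hec : Perp B J e c) (hfc : Perp B J f c) (hfe : Perp B J f e) :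
    ∃ n, Perp B J n c ∧ Perp B J n e ∧ Perp B J n f ∧ B (J n) n ≠ 0 := by
  have hproj : ∀ z, ∃ w, (Perp B J w c ∧ Perp B J w e ∧ Perp B J w f) ∧
      (∀ v, Perp B J v c ∧ Perp B J v e ∧ Perp B J v f → B v w = B v z) ∧
      z - w ∈ Submodule.span F {y | y ∈ [c, J c, e, J e, f, J f]} := by
    intro z
    obtain ⟨w1, hw1, hwz1, h1⟩ : ∃ w1, Perp B J w1 c ∧ (∀ v, Perp B J v c → B v w1 = B v z) ∧
        ∃ a b : F, z = w1 + (a • c + b • J c) := by
      rcases hc with rfl | hc
      · exact ⟨z, perp_zero hS z, fun _ _ => rfl, 0, 0, by simp⟩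
      · exact exists_proj hS hc z
    obtain ⟨w2, hw2, hw2e, hwz2, h2⟩ := exists_proj' hS he hec hw1
    obtain ⟨w, hw, hwf, hwz, h3⟩ := exists_proj' hS hf hfc hw2
    refine ⟨w, ⟨hw, ?_, hwf⟩, fun v hv => (hwz v hv.2.2).trans ((hwz2 v hv.2.1).trans (hwz1 v hv.1)), ?_⟩
    · obtain ⟨a, b, e0⟩ := h3
      have h := perp_comb hw2e (perp_comb hfe (perp_j hS hfe) a b) 1 (-1)
      rwa [one_smul, neg_one_smul, ← sub_eq_add_neg, e0, add_sub_cancel_right] at h
    · obtain ⟨a, b, e1⟩ := h1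
      obtain ⟨a', b', e2⟩ := h2
      obtain ⟨a'', b'', e3⟩ := h3
      rw [show z - w = (a • c + b • J c) + (a' • e + b' • J e) + (a'' • f + b'' • J f) by rw [e1, e2, e3]; abel]
      refine add_mem (add_mem (add_mem ?_ ?_) (add_mem ?_ ?_)) (add_mem ?_ ?_) <;>
        exact Submodule.smul_mem _ _ (Submodule.subset_span (by simp))
  obtain ⟨n, ⟨h1, h2, h3⟩, hn⟩ := exists_anis_of hS
    (fun x => Perp B J x c ∧ Perp B J x e ∧ Perp B J x f)
    (fun x y hx hy => by
      have h1 := perp_comb hx.1 hy.1 1 1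
      have h2 := perp_comb hx.2.1 hy.2.1 1 1
      have h3 := perp_comb hx.2.2 hy.2.2 1 1
      rw [one_smul, one_smul] at h1 h2 h3
      exact ⟨h1, h2, h3⟩) (fun x hx => ⟨perp_j hS hx.1, perp_j hS hx.2.1, perp_j hS hx.2.2⟩)
    (fun z => by obtain ⟨w, hw, hwz, -⟩ := hproj z; exact ⟨w, hw, hwz⟩) (by
      by_contra hcon
      push Not at hcon
      have h := finrank_le_of_list (l := [c, J c, e, J e, f, J f]) fun z => by
        obtain ⟨w, hw, -, h⟩ := hproj z
        rwa [hcon w hw, sub_zero] at h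
      simp at h
      omega)
  exact ⟨n, h1, h2, h3, hn⟩

/-- A vector with prescribed values against two orthogonal anisotropic vectors and prescribed norm. -/
theorem exists_point (hdim : 8 ≤ Module.finrank F V) {c e f : V} (hc : c = 0 ∨ B (J c) c ≠ 0)
    (he : B (J e) e ≠ 0) (hf : B (J f) f ≠ 0) (hec : Perp B J e c) (hfc : Perp B J f c) (hfe : Perp B J f e)
    (h x₁ y₁ x₂ y₂ : F) :
    ∃ z, Perp B J z c ∧ B (J z) z = h ∧ B (J e) z = x₁ ∧ B e z = y₁ ∧ B (J f) z = x₂ ∧ B f z = y₂ := by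
  obtain ⟨n, hnc, hne, hnf, hn⟩ := exists_anis_perp₃ hS hdim hc he hf hec hfc hfe
  obtain ⟨P, hP⟩ : ∃ P, P = ((x₁ / B (J e) e) • e + (-y₁ / B (J e) e) • J e) +
      ((x₂ / B (J f) f) • f + (-y₂ / B (J f) f) • J f) := ⟨_, rfl⟩
  obtain ⟨α, β, hab⟩ := exists_scale hS hn (h - B (J P) P)
  obtain ⟨n', hn'⟩ : ∃ n', n' = α • n + β • J n := ⟨_, rfl⟩
  have hn'c : Perp B J n' c := hn' ▸ perp_comb hnc (perp_j hS hnc) α β
  have hen : Perp B J e n' := perp_symm hS (hn' ▸ perp_comb hne (perp_j hS hne) α β)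
  have hfn : Perp B J f n' := perp_symm hS (hn' ▸ perp_comb hnf (perp_j hS hnf) α β)
  have hef : Perp B J e f := perp_symm hS hfe
  have hPc : Perp B J P c := by
    rw [hP]
    have := perp_comb (perp_comb hec (perp_j hS hec) (x₁ / B (J e) e) (-y₁ / B (J e) e))
      (perp_comb hfc (perp_j hS hfc) (x₂ / B (J f) f) (-y₂ / B (J f) f)) 1 1
    rwa [one_smul, one_smul] at this
  have hPn : B (J P) n' = 0 := by
    rw [hP]
    simp [hS.sq, hen.1, hen.2, hfn.1, hfn.2]
  refine ⟨P + n', ?_, ?_, ?_, ?_, ?_, ?_⟩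
  · have := perp_comb hPc hn'c 1 1
    rwa [one_smul, one_smul] at this
  · rw [h_add hS, hPn, hn', hab]
    ring
  · rw [map_add, hen.2, hP]
    simp only [map_add, map_smul, smul_eq_mul, jj hS, hS.alt, hef.1, hef.2]
    field_simp
    ring
  · rw [map_add, hen.1, hP]
    simp only [map_add, map_smul, smul_eq_mul, jr hS, hS.alt, hef.1, hef.2]
    field_simp
    ring
  · rw [map_add, hfn.2, hP]
    simp only [map_add, map_smul, smul_eq_mul, jj hS, hS.alt, hfe.1, hfe.2]
    field_simp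
    ring
  · rw [map_add, hfn.1, hP]
    simp only [map_add, map_smul, smul_eq_mul, jr hS, hS.alt, hfe.1, hfe.2]
    field_simp
    ring

variable (hroot : ∀ (a : V) (t : F), B (J a) a = 0 → InM M (tt B (-(d * t)) a + tt B t (J a)))
include hroot

/-- An element moving along a singular difference. -/
theorem root_slide {v v' : V} (hh : B (J v') v' = B (J v) v) (ha : B (J v) v' = B (J v) v) (hb : B v v' ≠ 0) :
    ∃ e ∈ M, e v = v' ∧ ∀ x, Perp B J x v → Perp B J x v' → e x = x := by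
  obtain ⟨u, hu⟩ : ∃ u, u = v' - v := ⟨_, rfl⟩
  have huu : B (J u) u = 0 := by
    rw [hu]
    simp only [map_sub, LinearMap.sub_apply, hswap hS v v', hh, ha, sub_self]
  obtain ⟨e, he, hex⟩ := hroot u (-(d * B v v')⁻¹) huu
  refine ⟨e, he, ?_, fun x h1 h2 => ?_⟩
  · have e1 : B v u = B v v' := by rw [hu, map_sub, hS.alt, sub_zero]
    have e2 : B v (J u) = 0 := by rw [jr hS, hu, map_sub, ha, sub_self, neg_zero]
    rw [hex, LinearMap.add_apply, tt_apply, tt_apply, e1, e2, zero_smul, smul_zero, add_zero, smul_smul,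
      show -(d * -(d * B v v')⁻¹) * B v v' = (d * B v v') * (d * B v v')⁻¹ by ring,
      mul_inv_cancel₀ (mul_ne_zero (d_ne hS) hb), one_smul, hu, add_sub_cancel]
  · have e1 : B x u = 0 := by rw [hu, map_sub, h1.1, h2.1, sub_zero]
    have e2 : B x (J u) = 0 := by rw [jr hS, hu, map_sub, h1.2, h2.2, sub_zero, neg_zero]
    rw [hex, LinearMap.add_apply, tt_apply, tt_apply, e1, e2, zero_smul, zero_smul, smul_zero, smul_zero, add_zero,
      add_zero]

/-- Two slides join a pair spanning a non-degenerate plane over the extension. -/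
theorem nd_move (hdim : 8 ≤ Module.finrank F V) {c v v' : V} (hc : c = 0 ∨ B (J c) c ≠ 0) (hv : Perp B J v c)
    (hv' : Perp B J v' c) (hh : B (J v') v' = B (J v) v)
    (hnd : B (J v) v' * B (J v) v' - d * (B v v' * B v v') ≠ B (J v) v * B (J v) v) :
    ∃ e ∈ M, e v = v' ∧ e c = c := by
  obtain ⟨h0, hh0⟩ : ∃ h0, h0 = B (J v) v := ⟨_, rfl⟩
  obtain ⟨a, ha⟩ : ∃ a, a = B (J v) v' := ⟨_, rfl⟩
  obtain ⟨b, hb⟩ : ∃ b, b = B v v' := ⟨_, rfl⟩
  rw [← ha, ← hb, ← hh0] at hnd
  rw [← hh0] at hh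
  have hvv : B (J v') v = a := by rw [ha, hswap hS v v']
  have hvb : B v' v = -b := by rw [hb, bswap hS v v']
  by_cases hsl : a = h0 ∧ b ≠ 0
  · obtain ⟨e, he, he1, he2⟩ := root_slide hS hroot (hh.trans hh0) ((ha.symm.trans hsl.1).trans hh0) (hb ▸ hsl.2)
    exact ⟨e, he, he1, he2 c (perp_symm hS hv) (perp_symm hS hv')⟩
  suffices h : ∃ z, Perp B J z c ∧ B (J z) z = h0 ∧ B (J v) z = h0 ∧ B v z ≠ 0 ∧ B (J v') z = h0 ∧ B v' z ≠ 0 by
    obtain ⟨z, hz, hzh, z1, z2, z3, z4⟩ := h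
    obtain ⟨e, he, he1, he2⟩ := root_slide hS hroot (hzh.trans hh0) (z1.trans hh0) z2
    obtain ⟨e', he', he1', he2'⟩ := root_slide hS hroot (v := z) (v' := v') (hh.trans hzh.symm)
      (by rw [hswap hS v' z, z3, hzh]) (by rw [bswap hS v' z]; exact neg_ne_zero.2 z4)
    exact ⟨e' * e, M.mul_mem he' he, by rw [LinearEquiv.mul_apply, he1, he1'],
      by rw [LinearEquiv.mul_apply, he2 c (perp_symm hS hv) (perp_symm hS hz),
        he2' c (perp_symm hS hz) (perp_symm hS hv')]⟩
  by_cases hs : h0 = 0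
  · have ha0 : a ≠ 0 := fun e => hsl ⟨e.trans hs.symm, fun e' => hnd (by rw [e, e', hs]; ring)⟩
    have hab : a * a - d * (b * b) ≠ 0 := norm_ne hS (Or.inl ha0)
    obtain ⟨e, hedef⟩ : ∃ e, e = v + v' := ⟨_, rfl⟩
    obtain ⟨f, hfdef⟩ : ∃ f, f = (v - v') + (-(b / a)) • J e := ⟨_, rfl⟩
    have hee : B (J e) e = 2 * a := by
      rw [hedef, h_add hS, ← hh0, hh, hs, ← ha]; ring
    have hec : Perp B J e c := by
      have := perp_comb hv hv' 1 1
      rwa [one_smul, one_smul, ← hedef] at this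
    have hfc : Perp B J f c := by
      have := perp_comb (perp_comb hv hv' 1 (-1)) (perp_j hS hec) 1 (-(b / a))
      rwa [one_smul, one_smul, neg_one_smul, ← sub_eq_add_neg, ← hfdef] at this
    have hJee : B (J e) e = B (J v) v + B (J v') v + (B (J v) v' + B (J v') v') := by
      rw [hedef]; simp only [map_add, LinearMap.add_apply]
    have hfe : Perp B J f e := by
      constructor
      · rw [hfdef, LinearMap.map_add₂, LinearMap.map_smul₂, hee, hedef, LinearMap.map_sub₂, map_add, map_add,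
          hS.alt, hS.alt, ← hb, hvb, smul_eq_mul]
        field_simp
        ring
      · rw [hfdef, map_add, map_smul, LinearMap.map_add₂, LinearMap.map_smul₂, jsq_left hS, hS.alt, hedef, map_sub,
          LinearMap.map_sub₂, map_add, map_add, ← hh0, hh, hs, ← ha, hvv, smul_eq_mul]
        ring
    have hff : B (J f) f = -2 * (a * a - d * (b * b)) / a := by
      rw [hfdef, h_add hS]
      simp only [map_smul, LinearMap.smul_apply, smul_eq_mul, jj hS, jsq_left hS, hS.alt]
      rw [hee, hedef]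
      simp only [map_add, map_sub, LinearMap.add_apply, LinearMap.sub_apply, hS.alt, ← hh0, hh, hs, ← ha, ← hb, hvv,
        hvb]
      field_simp
      ring
    obtain ⟨z, hzc, hzh, z1, z2, z3, z4⟩ := exists_point hS hdim hc (e := e) (f := f)
      (by rw [hee]; exact mul_ne_zero hS.two ha0)
      (by rw [hff]; exact div_ne_zero (mul_ne_zero (neg_ne_zero.2 hS.two) hab) ha0) hec hfc hfe
      h0 0 2 (-(b / a) * d * 2) 0
    have k1 : B v z + B v' z = 2 := by rw [← z2, hedef, LinearMap.map_add₂]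
    have k2 : B (J v) z + B (J v') z = 0 := by rw [← z1, hedef, map_add, LinearMap.map_add₂]
    have k3 : B v z - B v' z = 0 := by
      have := z4
      rwa [hfdef, LinearMap.map_add₂, LinearMap.map_sub₂, LinearMap.map_smul₂, z1, smul_zero, add_zero] at this
    have k4 : B (J v) z - B (J v') z = 0 := by
      have := z3
      rw [hfdef, map_add, map_smul, LinearMap.map_add₂, map_sub, LinearMap.map_sub₂, LinearMap.map_smul₂,
        jsq_left hS, z2, smul_eq_mul] at this
      linear_combination this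
    have w1 : B (J v) z = 0 := (mul_eq_zero.1 (show (2 : F) * B (J v) z = 0 by
      linear_combination k2 + k4)).resolve_left hS.two
    have w2 : B v z = 1 := mul_left_cancel₀ hS.two (by linear_combination k1 + k3)
    exact ⟨z, hzc, hzh, w1.trans hs.symm, by rw [w2]; exact one_ne_zero,
      (show B (J v') z = 0 by linear_combination k2 - w1).trans hs.symm,
      by rw [show B v' z = 1 by linear_combination k1 - w2]; exact one_ne_zero⟩
  · obtain ⟨α, hα⟩ : ∃ α, α = a / h0 := ⟨_, rfl⟩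
    obtain ⟨β, hβ⟩ : ∃ β, β = -b / h0 := ⟨_, rfl⟩
    obtain ⟨f, hfdef⟩ : ∃ f, f = v' - (α • v + β • J v) := ⟨_, rfl⟩
    have hfc : Perp B J f c := by
      have := perp_comb hv' (perp_comb hv (perp_j hS hv) α β) 1 (-1)
      rwa [one_smul, neg_one_smul, ← sub_eq_add_neg, ← hfdef] at this
    have hfv : Perp B J f v := by
      constructor
      · rw [hfdef]
        simp only [LinearMap.map_sub₂, LinearMap.map_add₂, LinearMap.map_smul₂, hS.alt, hvb, ← hh0, smul_eq_mul, hβ]
        field_simp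
        ring
      · rw [hfdef]
        simp only [map_sub, map_add, map_smul, LinearMap.sub_apply, LinearMap.add_apply, LinearMap.smul_apply, hS.sq,
          hS.alt, hvv, ← hh0, smul_eq_mul, hα]
        field_simp
        ring
    have hff : B (J f) f = (h0 * h0 - (a * a - d * (b * b))) / h0 := by
      rw [hfdef]
      simp only [map_sub, map_add, map_smul, LinearMap.sub_apply, LinearMap.add_apply, LinearMap.smul_apply, hS.sq,
        hS.alt, jj hS, jr hS v v, jr hS v' v, ← hh0, hh, hvv, hvb, ← ha, ← hb, smul_eq_mul, hα, hβ]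
      field_simp
      ring
    obtain ⟨z, hzc, hzh, z1, z2, z3, z4⟩ := exists_point hS hdim hc (e := v) (f := f) (by rw [← hh0]; exact hs)
      (by rw [hff]; exact div_ne_zero (sub_ne_zero.2 (Ne.symm hnd)) hs) hv hfc hfv
      h0 h0 1 (h0 - (α * h0 + β * d * 1)) (1 - (α * 1 + β * h0))
    have ev : v' = f + (α • v + β • J v) := by rw [hfdef, sub_add_cancel]
    refine ⟨z, hzc, hzh, z1, by rw [z2]; exact one_ne_zero, ?_, ?_⟩
    · rw [ev]
      simp only [map_add, map_smul, LinearMap.add_apply, LinearMap.smul_apply, smul_eq_mul, hS.sq, z1, z2, z3]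
      ring
    · rw [ev, LinearMap.map_add₂, LinearMap.map_add₂, LinearMap.map_smul₂, LinearMap.map_smul₂, z4, z2, z1,
        smul_eq_mul, smul_eq_mul, show (1 - (α * 1 + β * h0) + (α * 1 + β * h0)) = 1 by ring]
      exact one_ne_zero

/-- Root elements are transitive on vectors of given norm orthogonal to a given one. -/
theorem root_move (hdim : 8 ≤ Module.finrank F V) {c v v' : V} (hc : c = 0 ∨ B (J c) c ≠ 0) (hv : Perp B J v c)
    (hv' : Perp B J v' c) (hv0 : v ≠ 0) (hv'0 : v' ≠ 0) (hh : B (J v') v' = B (J v) v) :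
    ∃ e ∈ M, e v = v' ∧ e c = c := by
  by_cases hnd : B (J v) v' * B (J v) v' - d * (B v v' * B v v') = B (J v) v * B (J v) v
  swap
  · exact nd_move hS hroot hdim hc hv hv' hh hnd
  suffices h : ∃ z, Perp B J z c ∧ B (J z) z = B (J v) v ∧
      B (J v) z * B (J v) z - d * (B v z * B v z) ≠ B (J v) v * B (J v) v ∧
      B (J z) v' * B (J z) v' - d * (B z v' * B z v') ≠ B (J z) z * B (J z) z by
    obtain ⟨z, hz, hzh, h1, h2⟩ := h
    obtain ⟨e, he, he1, he2⟩ := nd_move hS hroot hdim hc hv hz hzh h1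
    obtain ⟨e', he', he1', he2'⟩ := nd_move hS hroot hdim hc hz hv' (hh.trans hzh.symm) h2
    exact ⟨e' * e, M.mul_mem he' he, by rw [LinearEquiv.mul_apply, he1, he1'],
      by rw [LinearEquiv.mul_apply, he2, he2']⟩
  by_cases hs : B (J v) v = 0
  · rw [hs, mul_zero] at hnd
    have hb : B v v' = 0 := by
      by_contra hb
      exact norm_ne hS (Or.inr hb) hnd
    rw [hb] at hnd
    have ha : B (J v) v' = 0 := mul_self_eq_zero.1 (by linear_combination hnd)
    obtain ⟨z, hz, hzs, h1, h2⟩ := exists_singular_two hS hc hv hv' hv0 hv'0 hs (perp_symm hS ⟨hb, ha⟩)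
    refine ⟨z, hz, hzs.trans hs.symm, ?_, ?_⟩
    · rw [hs, mul_zero]
      exact norm_ne hS (Or.inr h1)
    · rw [hzs, mul_zero]
      exact norm_ne hS (Or.inr (by rw [bswap hS v' z]; exact neg_ne_zero.2 h2))
  obtain ⟨h0, hh0⟩ : ∃ h0, h0 = B (J v) v := ⟨_, rfl⟩
  rw [← hh0] at hs hh hnd ⊢
  obtain ⟨f0, hf0c, hf0v, hf0⟩ : ∃ f0, Perp B J f0 c ∧ Perp B J f0 v ∧ B (J f0) f0 ≠ 0 := by
    rcases hc with rfl | hc
    · obtain ⟨w, hw, hw'⟩ := exists_anis_perp₁ hS (c := v) (hh0 ▸ hs)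
      exact ⟨w, perp_zero hS w, hw, hw'⟩
    · exact exists_anis_perp₂ hS hc (hh0 ▸ hs) hv
  obtain ⟨g0, hg0c, hg0v, hg0f, hg0⟩ := exists_anis_perp₃ hS hdim hc (hh0 ▸ hs) hf0 hv hf0c hf0v
  obtain ⟨p, q, hf⟩ := exists_scale hS hf0 h0
  obtain ⟨p', q', hg⟩ := exists_scale hS hg0 h0
  obtain ⟨f, hfdef⟩ : ∃ f, f = p • f0 + q • J f0 := ⟨_, rfl⟩
  obtain ⟨g, hgdef⟩ : ∃ g, g = p' • g0 + q' • J g0 := ⟨_, rfl⟩
  rw [← hfdef] at hf
  rw [← hgdef] at hg
  have hfc : Perp B J f c := hfdef ▸ perp_comb hf0c (perp_j hS hf0c) p q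
  have hfv : Perp B J f v := hfdef ▸ perp_comb hf0v (perp_j hS hf0v) p q
  have hgc : Perp B J g c := hgdef ▸ perp_comb hg0c (perp_j hS hg0c) p' q'
  have hgv : Perp B J g v := hgdef ▸ perp_comb hg0v (perp_j hS hg0v) p' q'
  have hgf : Perp B J g f := by
    have h : Perp B J g f0 := hgdef ▸ perp_comb hg0f (perp_j hS hg0f) p' q'
    exact perp_symm hS (hfdef ▸ perp_comb (perp_symm hS h) (perp_j hS (perp_symm hS h)) p q)
  have key : ∀ z, Perp B J z v → B (J z) z = h0 → B (J v) z * B (J v) z - d * (B v z * B v z) ≠ h0 * h0 := by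
    intro z hz _
    have hz' := perp_symm hS hz
    rw [hz'.1, hz'.2, mul_zero, mul_zero, sub_zero]
    exact (mul_ne_zero hs hs).symm
  by_cases hf' : B (J f) v' * B (J f) v' - d * (B f v' * B f v') = h0 * h0
  swap
  · exact ⟨f, hfc, hf, key f hfv hf, by rw [hf]; exact hf'⟩
  by_cases hg' : B (J g) v' * B (J g) v' - d * (B g v' * B g v') = h0 * h0
  swap
  · exact ⟨g, hgc, hg, key g hgv hg, by rw [hg]; exact hg'⟩
  have rot : ∀ x, B (J x) x = h0 → B (J x) v' * B (J x) v' - d * (B x v' * B x v') = h0 * h0 →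
      B (J ((B (J x) v' / h0) • x + (-B x v' / h0) • J x)) ((B (J x) v' / h0) • x + (-B x v' / h0) • J x) = h0 ∧
      B (J ((B (J x) v' / h0) • x + (-B x v' / h0) • J x)) v' = h0 ∧
      B ((B (J x) v' / h0) • x + (-B x v' / h0) • J x) v' = 0 := by
    intro x hx hx'
    refine ⟨?_, ?_, ?_⟩
    · rw [h_comb hS, hx]
      field_simp
      linear_combination hx'
    · simp only [map_add, map_smul, LinearMap.add_apply, LinearMap.smul_apply, hS.sq, smul_eq_mul]
      field_simp
      linear_combination hx'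
    · simp only [LinearMap.map_add₂, LinearMap.map_smul₂, smul_eq_mul]
      field_simp
      ring
  obtain ⟨f1, hf1c, hf1v, hf1g, hf1, hf1a, hf1b⟩ : ∃ f1, Perp B J f1 c ∧ Perp B J f1 v ∧ Perp B J g f1 ∧
      B (J f1) f1 = h0 ∧ B (J f1) v' = h0 ∧ B f1 v' = 0 :=
    ⟨_, perp_comb hfc (perp_j hS hfc) _ _, perp_comb hfv (perp_j hS hfv) _ _,
      perp_symm hS (perp_comb (perp_symm hS hgf) (perp_j hS (perp_symm hS hgf)) _ _), rot f hf hf'⟩
  obtain ⟨g1, hg1c, hg1v, hg1f, hg1, hg1a, hg1b⟩ : ∃ g1, Perp B J g1 c ∧ Perp B J g1 v ∧ Perp B J g1 f1 ∧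
      B (J g1) g1 = h0 ∧ B (J g1) v' = h0 ∧ B g1 v' = 0 :=
    ⟨_, perp_comb hgc (perp_j hS hgc) _ _, perp_comb hgv (perp_j hS hgv) _ _,
      perp_comb hf1g (perp_j hS hf1g) _ _, rot g hg hg'⟩
  obtain ⟨s, t, hst⟩ := norm_surj hS (1 / 2)
  obtain ⟨w, hw⟩ : ∃ w, w = (1 : F) • f1 + (1 : F) • g1 := ⟨_, rfl⟩
  have hwc : Perp B J w c := hw ▸ perp_comb hf1c hg1c 1 1
  have hwv : Perp B J w v := hw ▸ perp_comb hf1v hg1v 1 1
  have hwa : B (J w) v' = 2 * h0 := by
    rw [hw, one_smul, one_smul, map_add, LinearMap.map_add₂, hf1a, hg1a]; ring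
  have hwb : B w v' = 0 := by rw [hw, one_smul, one_smul, LinearMap.map_add₂, hf1b, hg1b, add_zero]
  have hww : B (J w) w = 2 * h0 := by
    rw [hw, one_smul, one_smul, h_add hS, hf1, hg1, (perp_symm hS hg1f).2]; ring
  have hz : B (J (s • w + t • J w)) (s • w + t • J w) = h0 := by
    rw [h_comb hS, hst, hww]
    field_simp [hS.two]
  refine ⟨_, perp_comb hwc (perp_j hS hwc) s t, hz, key _ (perp_comb hwv (perp_j hS hwv) s t) hz, ?_⟩
  rw [hz]
  simp only [map_add, map_smul, LinearMap.add_apply, LinearMap.smul_apply, hS.sq, hwa, hwb, smul_eq_mul]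
  intro e
  refine hs (mul_self_eq_zero.1 ?_)
  linear_combination e - 4 * (h0 * h0) * hst - 2 * (h0 * h0) * (mul_div_cancel₀ (1 : F) hS.two)

/-- Root elements satisfy the hypotheses on the overgroup. -/
theorem Over.of_root (hdim : 8 ≤ Module.finrank F V) (hiso : ∀ g ∈ M, ∀ x y, B (g x) (g y) = B x y) :
    Over B J d M :=
  ⟨hiso, hroot, fun _ _ _ hc hv hv' hv0 hv'0 hh => root_move hS hroot hdim hc hv hv' hv0 hv'0 hh⟩

end CfsgLib.SympUSix
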