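import Cfsg.Agent.Lib.Classical.SympExtField

set_option autoImplicit false
set_option linter.unusedSectionVars false

/-!
Overgroups of a general unitary group of degree three inside the symplectic group of degree six,
odd characteristic.

`J` squares to the non-square `d` and is skew for the alternating form.  A conjugate root element at
a moved singular line is a difference of two transvections; two unitary conjugates of it differ by
a symmetrical product of two vectors, and two of those with a common vector give a transvection.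
-/

namespace CfsgLib.SympUSix

open Module
open CfsgLib.SympExt (InM tt sy tt_apply sy_apply)

variable {F V : Type*} [Field F] [Finite F] [AddCommGroup V] [Module F V] [FiniteDimensional F V]
variable {B : V →ₗ[F] V →ₗ[F] F} {J : V →ₗ[F] V} {d : F}
variable {M : Subgroup (V ≃ₗ[F] V)}

/-- A quadratic extension acting by similitudes on a space of dimension six. -/
structure Setup (B : V →ₗ[F] V →ₗ[F] F) (J : V →ₗ[F] V) (d : F) : Prop where
  two : (2 : F) ≠ 0
  alt : ∀ x, B x x = 0
  nd : ∀ x, (∀ y, B x y = 0) → x = 0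
  skew : ∀ x y, B (J x) y = -B x (J y)
  sq : ∀ x, J (J x) = d • x
  nonsq : ∀ c : F, c * c ≠ d
  dim : 6 ≤ Module.finrank F V

/-- Orthogonality over the extension. -/
def Perp (B : V →ₗ[F] V →ₗ[F] F) (J : V →ₗ[F] V) (x y : V) : Prop := B x y = 0 ∧ B (J x) y = 0

/-- The hypotheses on the overgroup: root elements and transitivity beside an anisotropic vector. -/
structure Over (B : V →ₗ[F] V →ₗ[F] F) (J : V →ₗ[F] V) (d : F) (M : Subgroup (V ≃ₗ[F] V)) : Prop where
  iso : ∀ g ∈ M, ∀ x y, B (g x) (g y) = B x y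
  root : ∀ (a : V) (t : F), B (J a) a = 0 → InM M (tt B (-(d * t)) a + tt B t (J a))
  move : ∀ c v v' : V, c = 0 ∨ B (J c) c ≠ 0 → Perp B J v c → Perp B J v' c → v ≠ 0 → v' ≠ 0 →
    B (J v') v' = B (J v) v → ∃ e ∈ M, e v = v' ∧ e c = c

/-- All transvections at `v` lie in `M`. -/
def Cen (B : V →ₗ[F] V →ₗ[F] F) (M : Subgroup (V ≃ₗ[F] V)) (v : V) : Prop :=
  ∀ s, InM M (tt B s v)

variable (hS : Setup B J d)
include hS

theorem bswap (x y : V) : B y x = -B x y := by
  have h := hS.alt (x + y)
  simp only [map_add, LinearMap.add_apply, hS.alt, zero_add, add_zero] at h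
  linear_combination h

theorem hswap (x y : V) : B (J y) x = B (J x) y := by
  rw [hS.skew, bswap hS (J x) y, neg_neg]

theorem jr (x y : V) : B x (J y) = -B (J x) y := by rw [hS.skew, neg_neg]

theorem jj (x y : V) : B (J x) (J y) = -(d * B x y) := by
  rw [hS.skew, hS.sq, map_smul, smul_eq_mul]

theorem d_ne : d ≠ 0 := fun e => hS.nonsq 0 (by rw [e, mul_zero])

theorem jsq_left (x y : V) : B (J (J x)) y = d * B x y := by
  rw [hS.sq, LinearMap.map_smul₂, smul_eq_mul]

theorem norm_ne {a b : F} (h : a ≠ 0 ∨ b ≠ 0) : a * a - d * (b * b) ≠ 0 := by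
  intro e
  by_cases hb : b = 0
  · subst hb
    exact (h.resolve_right (fun h => h rfl)) (mul_self_eq_zero.1 (by linear_combination e))
  · exact hS.nonsq (a / b) (by field_simp; linear_combination e)

theorem norm_surj (c : F) : ∃ a b : F, a * a - d * (b * b) = c := by
  classical
  haveI := Fintype.ofFinite F
  have hodd : Fintype.card F % 2 = 1 := FiniteField.odd_card_of_char_ne_two fun h => hS.two (by
    haveI := ringChar.of_eq h
    exact CharTwo.two_eq_zero)
  obtain ⟨a, b, h⟩ := FiniteField.exists_root_sum_quadratic (f := Polynomial.X ^ 2)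
    (g := Polynomial.C (-d) * Polynomial.X ^ 2 + Polynomial.C (-c))
    (by simp [Polynomial.degree_X_pow])
    (by
      rw [Polynomial.degree_add_C (by
        rw [Polynomial.degree_C_mul_X_pow _ (neg_ne_zero.2 (d_ne hS))]; decide)]
      exact Polynomial.degree_C_mul_X_pow _ (neg_ne_zero.2 (d_ne hS)))
    hodd
  simp only [Polynomial.eval_pow, Polynomial.eval_X, Polynomial.eval_add, Polynomial.eval_mul,
    Polynomial.eval_C] at h
  exact ⟨a, b, by linear_combination h⟩

theorem h_comb (u : V) (a b : F) :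
    B (J (a • u + b • J u)) (a • u + b • J u) = (a * a - d * (b * b)) * B (J u) u := by
  simp only [map_add, map_smul, LinearMap.add_apply, LinearMap.smul_apply, smul_eq_mul, hS.sq,
    hS.alt, jr hS u u, jj hS u u]
  ring

theorem h_add (x y : V) : B (J (x + y)) (x + y) = B (J x) x + B (J y) y + 2 * B (J x) y := by
  simp only [map_add, LinearMap.add_apply, hswap hS x y]
  ring

theorem exists_scale {u : V} (hu : B (J u) u ≠ 0) (c : F) :
    ∃ a b : F, B (J (a • u + b • J u)) (a • u + b • J u) = c := by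
  obtain ⟨a, b, h⟩ := norm_surj hS (c / B (J u) u)
  exact ⟨a, b, by rw [h_comb hS, h, div_mul_cancel₀ _ hu]⟩

theorem perp_symm {x y : V} (h : Perp B J x y) : Perp B J y x :=
  ⟨by rw [bswap hS x y, h.1, neg_zero], by rw [hswap hS x y, h.2]⟩

theorem perp_j {x y : V} (h : Perp B J x y) : Perp B J (J x) y :=
  ⟨h.2, by rw [jsq_left hS, h.1, mul_zero]⟩

theorem perp_zero (x : V) : Perp B J x 0 := ⟨map_zero _, map_zero _⟩

omit hS in
theorem perp_comb {x y z : V} (h : Perp B J x z) (h' : Perp B J y z) (a b : F) :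
    Perp B J (a • x + b • y) z := by
  constructor
  · rw [LinearMap.map_add₂, LinearMap.map_smul₂, LinearMap.map_smul₂, h.1, h'.1, smul_zero,
      smul_zero, add_zero]
  · rw [map_add, map_smul, map_smul, LinearMap.map_add₂, LinearMap.map_smul₂, LinearMap.map_smul₂,
      h.2, h'.2, smul_zero, smul_zero, add_zero]

/-- The component orthogonal to an anisotropic vector. -/
theorem exists_proj {c : V} (hc : B (J c) c ≠ 0) (z : V) :
    ∃ w, Perp B J w c ∧ (∀ v, Perp B J v c → B v w = B v z) ∧
      ∃ a b : F, z = w + (a • c + b • J c) := by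
  set a := B (J z) c / B (J c) c with ha
  set b := B z c / B (J c) c with hb
  refine ⟨z - (a • c + b • J c), ⟨?_, ?_⟩, fun v hv => ?_, a, b, (sub_add_cancel _ _).symm⟩
  · simp only [map_sub, map_add, map_smul, LinearMap.sub_apply, LinearMap.add_apply,
      LinearMap.smul_apply, smul_eq_mul, hS.alt, hb]
    field_simp
    ring
  · simp only [map_sub, map_add, map_smul, LinearMap.sub_apply, LinearMap.add_apply,
      LinearMap.smul_apply, smul_eq_mul, hS.sq, hS.alt, ha]
    field_simp
    ring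
  · rw [map_sub, map_add, map_smul, map_smul, hv.1, jr hS, hv.2]
    simp

omit hS in
theorem finrank_le_of_list {l : List V} (h : ∀ x, x ∈ Submodule.span F {y | y ∈ l}) :
    Module.finrank F V ≤ l.length := by
  classical
  have h1 := finrank_span_finset_le_card (R := F) l.toFinset
  rw [Set.finrank, List.coe_toFinset, show Submodule.span F {y | y ∈ l} = ⊤ from
    eq_top_iff.2 fun x _ => h x, finrank_top] at h1
  exact h1.trans (List.toFinset_card_le l)

/-- A stable subspace with a projection and a non-zero member has an anisotropic member. -/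
theorem exists_anis_of (P : V → Prop) (hadd : ∀ x y, P x → P y → P (x + y)) (hj : ∀ x, P x → P (J x))
    (hproj : ∀ z, ∃ w, P w ∧ ∀ v, P v → B v w = B v z) (hne : ∃ x, P x ∧ x ≠ 0) :
    ∃ w, P w ∧ B (J w) w ≠ 0 := by
  by_contra hc
  push Not at hc
  have hH : ∀ x y, P x → P y → B (J x) y = 0 := fun x y hx hy => by
    have := hc _ (hadd x y hx hy)
    rw [h_add hS, hc x hx, hc y hy, zero_add, zero_add] at this
    exact (mul_eq_zero.1 this).resolve_left hS.two
  obtain ⟨x, hx, hx0⟩ := hne
  refine hx0 (hS.nd x fun z => ?_)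
  obtain ⟨w, hw, hwz⟩ := hproj z
  rw [← hwz x hx]
  have := hH (J x) w (hj x hx) hw
  rw [jsq_left hS] at this
  exact (mul_eq_zero.1 this).resolve_left (d_ne hS)

theorem exists_anis : ∃ c, B (J c) c ≠ 0 := by
  obtain ⟨x, hx⟩ : ∃ x : V, x ≠ 0 := by
    by_contra hc
    push Not at hc
    have h := finrank_le_of_list (F := F) (l := ([] : List V)) fun x => by rw [hc x]; exact zero_mem _
    have := hS.dim
    simp at h
    omega
  obtain ⟨w, -, hw⟩ := exists_anis_of hS (fun _ => True) (fun _ _ _ _ => trivial)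
    (fun _ _ => trivial) (fun z => ⟨z, trivial, fun _ _ => rfl⟩) ⟨x, trivial, hx⟩
  exact ⟨w, hw⟩

theorem exists_anis_perp₁ {c : V} (hc : B (J c) c ≠ 0) :
    ∃ w, Perp B J w c ∧ B (J w) w ≠ 0 := by
  refine exists_anis_of hS (fun x => Perp B J x c) (fun x y hx hy => by
    have := perp_comb hx hy 1 1
    rwa [one_smul, one_smul] at this) (fun x hx => perp_j hS hx) (fun z => ?_) ?_
  · obtain ⟨w, hw, hwz, -⟩ := exists_proj hS hc z
    exact ⟨w, hw, hwz⟩
  · by_contra hcon
    push Not at hcon
    have h := finrank_le_of_list (l := [c, J c]) fun z => by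
      obtain ⟨w, hw, -, a, b, e⟩ := exists_proj hS hc z
      rw [e, hcon w hw, zero_add]
      exact add_mem (Submodule.smul_mem _ _ (Submodule.subset_span (by simp)))
        (Submodule.smul_mem _ _ (Submodule.subset_span (by simp)))
    have := hS.dim
    simp at h
    omega

theorem exists_anis_perp₂ {c c' : V} (hc : B (J c) c ≠ 0) (hc' : B (J c') c' ≠ 0)
    (h : Perp B J c' c) : ∃ w, Perp B J w c ∧ Perp B J w c' ∧ B (J w) w ≠ 0 := by
  have hproj : ∀ z, ∃ w, (Perp B J w c ∧ Perp B J w c') ∧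
      (∀ v, Perp B J v c ∧ Perp B J v c' → B v w = B v z) ∧
      ∃ a b a' b' : F, z = w + (a • c + b • J c) + (a' • c' + b' • J c') := by
    intro z
    obtain ⟨w1, hw1, hwz1, a, b, e1⟩ := exists_proj hS hc z
    obtain ⟨w, hw, hwz, a', b', e2⟩ := exists_proj hS hc' w1
    refine ⟨w, ⟨?_, hw⟩, fun v hv => (hwz v hv.2).trans (hwz1 v hv.1), a, b, a', b', ?_⟩
    · have e : w = (1 : F) • w1 + (-1 : F) • (a' • c' + b' • J c') := by rw [e2]; module
      rw [e]
      exact perp_comb hw1 (perp_comb h (perp_j hS h) a' b') 1 (-1)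
    · rw [e1, e2]; abel
  obtain ⟨w, ⟨h1, h2⟩, h3⟩ := exists_anis_of hS (fun x => Perp B J x c ∧ Perp B J x c')
    (fun x y hx hy => by
      have h1 := perp_comb hx.1 hy.1 1 1
      have h2 := perp_comb hx.2 hy.2 1 1
      rw [one_smul, one_smul] at h1 h2
      exact ⟨h1, h2⟩) (fun x hx => ⟨perp_j hS hx.1, perp_j hS hx.2⟩)
    (fun z => by obtain ⟨w, hw, hwz, -⟩ := hproj z; exact ⟨w, hw, hwz⟩) (by
      by_contra hcon
      push Not at hcon
      have h := finrank_le_of_list (l := [c, J c, c', J c']) fun z => by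
        obtain ⟨w, hw, -, a, b, a', b', e⟩ := hproj z
        rw [e, hcon w hw, zero_add]
        refine add_mem (add_mem ?_ ?_) (add_mem ?_ ?_) <;>
          exact Submodule.smul_mem _ _ (Submodule.subset_span (by simp))
      have := hS.dim
      simp at h
      omega)
  exact ⟨w, h1, h2, h3⟩

theorem mem_of_perp {c z : V} (hc : c = 0 ∨ B (J c) c ≠ 0) :
    ∃ w, Perp B J w c ∧ ∀ v, Perp B J v c → B v w = B v z := by
  rcases hc with rfl | hc
  · exact ⟨z, perp_zero hS z, fun _ _ => rfl⟩
  · obtain ⟨w, hw, hwz, -⟩ := exists_proj hS hc z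
    exact ⟨w, hw, hwz⟩

/-- A singular vector orthogonal to neither of two orthogonal vectors, one of them singular. -/
theorem exists_singular_two {c v v' : V} (hc : c = 0 ∨ B (J c) c ≠ 0) (hv : Perp B J v c)
    (hv' : Perp B J v' c) (hv0 : v ≠ 0) (hv'0 : v' ≠ 0) (hs : B (J v) v = 0)
    (horth : Perp B J v' v) :
    ∃ z, Perp B J z c ∧ B (J z) z = 0 ∧ B v z ≠ 0 ∧ B v' z ≠ 0 := by
  have key : ∀ u, Perp B J u c → u ≠ 0 → ∃ z, Perp B J z c ∧ B u z ≠ 0 := by
    intro u hu hu0
    obtain ⟨z, hz⟩ : ∃ z, B u z ≠ 0 := by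
      by_contra hcon
      push Not at hcon
      exact hu0 (hS.nd u hcon)
    obtain ⟨w, hw, hwz⟩ := mem_of_perp hS (z := z) hc
    exact ⟨w, hw, by rwa [hwz u hu]⟩
  obtain ⟨z1, hz1, hvz1⟩ := key v hv hv0
  obtain ⟨z2, hz2, hvz2⟩ := key v' hv' hv'0
  obtain ⟨z0, hz0, h1, h2⟩ : ∃ z0, Perp B J z0 c ∧ B v z0 ≠ 0 ∧ B v' z0 ≠ 0 := by
    by_cases h1 : B v' z1 = 0
    · by_cases h2 : B v z2 = 0
      · refine ⟨(1 : F) • z1 + (1 : F) • z2, perp_comb hz1 hz2 1 1, ?_, ?_⟩
        · rw [one_smul, one_smul, map_add, h2, add_zero]; exact hvz1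
        · rw [one_smul, one_smul, map_add, h1, zero_add]; exact hvz2
      · exact ⟨z2, hz2, h2, hvz2⟩
    · exact ⟨z1, hz1, hvz1, h1⟩
  have h3 : B z0 v ≠ 0 := by rw [bswap hS v z0]; exact neg_ne_zero.2 h1
  set s := B (J z0) z0 / (2 * d * B z0 v) with hsd
  have h2d : 2 * d * B z0 v ≠ 0 := mul_ne_zero (mul_ne_zero hS.two (d_ne hS)) h3
  refine ⟨(1 : F) • z0 + s • J v, perp_comb hz0 (perp_j hS hv) 1 s, ?_, ?_, ?_⟩
  · rw [one_smul, h_add hS]
    simp only [map_smul, LinearMap.smul_apply, smul_eq_mul, jj hS, hS.sq, jr hS v v, hs, hS.alt]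
    rw [hsd]
    field_simp [d_ne hS, hS.two]
    ring
  · rw [one_smul, map_add, map_smul, jr hS, hs, neg_zero, smul_zero, add_zero]
    exact h1
  · rw [one_smul, map_add, map_smul, jr hS, horth.2, neg_zero, smul_zero, add_zero]
    exact h2

/-- A quasi-reflection. -/
theorem exists_reflection {v v' : V} (hh : B (J v') v' = B (J v) v)
    (hne : B (J v) v' ≠ B (J v) v ∨ B v v' ≠ 0) :
    ∃ e : V ≃ₗ[F] V, (∀ x y, B (e x) (e y) = B x y) ∧ (∀ x, e (J x) = J (e x)) ∧ e v = v' ∧
      ∀ x, Perp B J x v → Perp B J x v' → e x = x := by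
  set a := B (J v) v' - B (J v) v with ha
  set b := B v v' with hb
  have hN : a * a - d * (b * b) ≠ 0 := norm_ne hS (hne.imp_left sub_ne_zero.2)
  set p := a / (a * a - d * (b * b)) with hp
  set q := -b / (a * a - d * (b * b)) with hq
  have hpq : a * (p * p - d * (q * q)) = p := by
    rw [hp, hq]
    field_simp
  set u := v' - v with hu
  have huu : B (J u) u = -2 * a := by
    rw [hu, ha]
    simp only [map_sub, LinearMap.sub_apply, hswap hS v v', hh]
    ring
  let L : V →ₗ[F] V :=
    LinearMap.id + ((p • B.flip u ∘ₗ J) + (q * d) • B.flip u).smulRight u +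
      (p • B.flip u + q • B.flip u ∘ₗ J).smulRight (J u)
  have hL : ∀ x, L x = x + (p * B (J x) u + q * d * B x u) • u +
      (p * B x u + q * B (J x) u) • J u := fun x => rfl
  have hiso : ∀ x y, B (L x) (L y) = B x y := by
    intro x y
    rw [hL, hL]
    simp only [map_add, map_smul, LinearMap.add_apply, LinearMap.smul_apply, smul_eq_mul, hS.alt,
      jr hS x u, jr hS u u, jj hS u u, huu, hswap hS y u, bswap hS y u]
    linear_combination -(2 * (B (J x) u * B y u - B x u * B (J y) u)) * (-hpq)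
  have hinj : Function.Injective L := by
    rw [← LinearMap.ker_eq_bot, Submodule.eq_bot_iff]
    intro x hx
    refine hS.nd x fun y => ?_
    rw [← hiso, LinearMap.mem_ker.1 hx, map_zero, LinearMap.zero_apply]
  refine ⟨LinearEquiv.ofInjectiveEndo L hinj, hiso, fun x => ?_, ?_, fun x h1 h2 => ?_⟩
  · show L (J x) = J (L x)
    rw [hL, hL]
    simp only [map_add, map_smul, hS.sq, LinearMap.smul_apply, smul_eq_mul]
    module
  · show L v = v'
    have e1 : B (J v) u = a := by rw [hu, map_sub, ha]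
    have e2 : B v u = b := by rw [hu, map_sub, hS.alt, sub_zero, hb]
    rw [hL, e1, e2, show p * a + q * d * b = 1 by
        rw [hp, hq, show ∀ N : F, a / N * a + -b / N * d * b = (a * a - d * (b * b)) / N from
          fun N => by ring, div_self hN],
      show p * b + q * a = 0 by rw [hp, hq]; ring, zero_smul, add_zero, one_smul, hu,
      add_sub_cancel]
  · show L x = x
    rw [hL, hu, map_sub, map_sub, h1.1, h1.2, h2.1, h2.2]
    simp

section Unit

variable (hU : ∀ e : V ≃ₗ[F] V, (∀ x y, B (e x) (e y) = B x y) → (∀ x, e (J x) = J (e x)) → e ∈ M)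
include hU

theorem trans_step {c v v' : V} (hv : Perp B J v c) (hv' : Perp B J v' c)
    (hh : B (J v') v' = B (J v) v) (hne : B (J v) v' ≠ B (J v) v ∨ B v v' ≠ 0) :
    ∃ e ∈ M, e v = v' ∧ e c = c := by
  obtain ⟨e, h1, h2, h3, h4⟩ := exists_reflection hS hh hne
  exact ⟨e, hU e h1 h2, h3, h4 c (perp_symm hS hv) (perp_symm hS hv')⟩

/-- Transitivity on the vectors of given value orthogonal to a given one. -/
theorem exists_move {c v v' : V} (hc : c = 0 ∨ B (J c) c ≠ 0) (hv : Perp B J v c)
    (hv' : Perp B J v' c) (hv0 : v ≠ 0) (hv'0 : v' ≠ 0) (hh : B (J v') v' = B (J v) v) :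
    ∃ e ∈ M, e v = v' ∧ e c = c := by
  by_cases hne : B (J v) v' ≠ B (J v) v ∨ B v v' ≠ 0
  · exact trans_step hS hU hv hv' hh hne
  push Not at hne
  suffices h : ∃ z, Perp B J z c ∧ B (J z) z = B (J v) v ∧ (B (J v) z ≠ B (J v) v ∨ B v z ≠ 0) ∧
      (B (J z) v' ≠ B (J z) z ∨ B z v' ≠ 0) by
    obtain ⟨z, hz, hzh, h1, h2⟩ := h
    obtain ⟨e, he, hev, hec⟩ := trans_step hS hU hv hz hzh h1
    obtain ⟨e', he', hev', hec'⟩ := trans_step hS hU hz hv' (hh.trans hzh.symm) h2
    exact ⟨e' * e, M.mul_mem he' he, by rw [LinearEquiv.mul_apply, hev, hev'],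
      by rw [LinearEquiv.mul_apply, hec, hec']⟩
  by_cases hs : B (J v) v = 0
  · obtain ⟨z, hz, hzs, h1, h2⟩ := exists_singular_two hS hc hv hv' hv0 hv'0 hs
      (perp_symm hS ⟨hne.2, hne.1.trans hs⟩)
    exact ⟨z, hz, hzs.trans hs.symm, Or.inr h1, Or.inr (by rw [bswap hS v' z]; exact neg_ne_zero.2 h2)⟩
  · refine ⟨-v', ?_, ?_, Or.inl ?_, Or.inl ?_⟩
    · constructor <;> simp [hv'.1, hv'.2]
    · simp [hh]
    · rw [map_neg, hne.1]
      exact fun e => hs ((mul_eq_zero.1 (show (2 : F) * B (J v) v = 0 by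
        linear_combination -e)).resolve_left hS.two)
    · simp only [map_neg, LinearMap.neg_apply, neg_neg, hh]
      exact fun e => hs ((mul_eq_zero.1 (show (2 : F) * B (J v) v = 0 by
        linear_combination -e)).resolve_left hS.two)

end Unit

variable (hM : Over B J d M)
include hM

/-- An element moving along a singular difference. -/
theorem slide {v v' : V} (hh : B (J v') v' = B (J v) v) (ha : B (J v) v' = B (J v) v) (hb : B v v' ≠ 0) :
    ∃ e ∈ M, e v = v' ∧ ∀ x, Perp B J x v → Perp B J x v' → e x = x := by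
  obtain ⟨u, hu⟩ : ∃ u, u = v' - v := ⟨_, rfl⟩
  have huu : B (J u) u = 0 := by
    rw [hu]
    simp only [map_sub, LinearMap.sub_apply, hswap hS v v', hh, ha, sub_self]
  obtain ⟨e, he, hex⟩ := hM.root u (-(d * B v v')⁻¹) huu
  refine ⟨e, he, ?_, fun x h1 h2 => ?_⟩
  · have e1 : B v u = B v v' := by rw [hu, map_sub, hS.alt, sub_zero]
    have e2 : B v (J u) = 0 := by rw [jr hS, hu, map_sub, ha, sub_self, neg_zero]
    rw [hex, LinearMap.add_apply, tt_apply, tt_apply, e1, e2, zero_smul, smul_zero, add_zero, smul_smul,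
      show -(d * -(d * B v v')⁻¹) * B v v' = (d * B v v') * (d * B v v')⁻¹ by ring,
      mul_inv_cancel₀ (mul_ne_zero (d_ne hS) hb), one_smul, hu, add_sub_cancel]
  · have e1 : B x u = 0 := by rw [hu, map_sub, h1.1, h2.1, sub_zero]
    have e2 : B x (J u) = 0 := by rw [jr hS, hu, map_sub, h1.2, h2.2, sub_zero, neg_zero]
    rw [hex, LinearMap.add_apply, tt_apply, tt_apply, e1, e2, zero_smul, zero_smul, smul_zero, smul_zero, add_zero,
      add_zero]

omit hS in
theorem tt_conj {g : V ≃ₗ[F] V} (hg : g ∈ M) {s : F} {v : V} (h : InM M (tt B s v)) :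
    InM M (tt B s (g v)) := by
  refine (h.conj hg).congr fun x => ?_
  show g (tt B s v (g.symm x)) = _
  rw [tt_apply, tt_apply, map_smul, map_smul, ← hM.iso g hg (g.symm x) v, g.apply_symm_apply]

/-- One anisotropic vector gives all transvections. -/
theorem cen_all {y : V} (hy : B (J y) y ≠ 0) (hC : Cen B M y) (v : V) : Cen B M v := by
  by_cases hv0 : v = 0
  · exact fun s => SympExt.inM_zero.congr fun x => by simp [tt_apply, hv0]
  have hy0 : y ≠ 0 := fun e => hy (by simp [e])
  obtain ⟨u0, hu0, hu0h⟩ := exists_anis_perp₁ hS hy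
  set η := B (J y) y with hη
  set ρ := (B (J v) v - 2 * η) / 2 / η with hρ
  obtain ⟨a, b, hab⟩ := exists_scale hS hu0h (η - η * (ρ * ρ - d))
  set u := a • u0 + b • J u0 with hu
  have hup : Perp B J y u := perp_symm hS (perp_comb hu0 (perp_j hS hu0) a b)
  set w := ρ • y + J y + u with hw
  have e1 : B (J y) w = ρ * η := by
    rw [hw, map_add, map_add, map_smul, jj hS, hS.alt, hup.2, smul_eq_mul, mul_zero, neg_zero,
      add_zero, add_zero]
  have e2 : B y w = -η := by
    rw [hw, map_add, map_add, map_smul, hS.alt, jr hS, hup.1, smul_zero, zero_add, add_zero, hη]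
  have e3 : B (J w) w = η := by
    rw [hw, h_add hS, hab, show B (J (ρ • y + J y)) (ρ • y + J y) = (ρ * ρ - d) * η by
      have := h_comb hS y ρ 1
      rwa [one_smul, mul_one, mul_one] at this,
      show B (J (ρ • y + J y)) u = 0 by
        have := (perp_comb hup (perp_j hS hup) ρ 1).2
        rwa [one_smul] at this]
    ring
  have hw0 : w ≠ 0 := fun e => hy (neg_eq_zero.1 (by rw [← e2, e, map_zero]))
  obtain ⟨g, hg, hgy, -⟩ := hM.move 0 y w (Or.inl rfl) (perp_zero hS y)
    (perp_zero hS w) hy0 hw0 e3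
  obtain ⟨g', hg', hg'x⟩ := (fun s => hgy ▸ tt_conj hM hg (hC s) : Cen B M w) (-η⁻¹)
  have hg'y : g' y = y + w := by
    rw [hg'x, tt_apply, e2, smul_smul, neg_mul_neg, inv_mul_cancel₀ hy, one_smul]
  have hyw : y + w ≠ 0 := fun e => hy (neg_eq_zero.1 (by
    rw [← e2, show w = -y from (neg_eq_of_add_eq_zero_right e).symm, map_neg, hS.alt, neg_zero]))
  obtain ⟨g'', hg'', hg''v, -⟩ := hM.move 0 (y + w) v (Or.inl rfl) (perp_zero hS (y + w))
    (perp_zero hS v) hyw hv0 (by
      rw [h_add hS, e3, e1, hρ]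
      field_simp [hS.two]
      ring)
  intro s
  have := tt_conj hM hg'' (tt_conj hM hg' (hC s))
  rwa [hg'y, hg''v] at this

/-- A pair of root elements with a common vector gives a transvection at that vector. -/
theorem cen_of_pairs {y Z Z' : V} (hZ : B Z y = 0) (hZ' : B Z' y = 0) (hne : B Z Z' ≠ 0)
    (h : ∀ s : F, InM M (sy B (s • Z) y)) (h' : InM M (sy B Z' y)) (h'' : InM M (sy B (-Z') y)) :
    Cen B M y := by
  have hne' : B Z' Z ≠ 0 := by rw [bswap hS Z Z']; exact neg_ne_zero.2 hne
  have hyZ : B y Z = 0 := by rw [bswap hS Z y, hZ, neg_zero]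
  have hyZ' : B y Z' = 0 := by rw [bswap hS Z' y, hZ', neg_zero]
  intro r
  set σ := r / (2 * B Z' Z) with hσ
  obtain ⟨g, hg, hgx⟩ := h σ
  have hgy : g y = y := by
    rw [hgx, sy_apply, map_smul, hyZ, hS.alt, smul_zero, zero_smul, zero_smul, add_zero, add_zero]
  have hgZ : g Z' = Z' + (σ * B Z' Z) • y := by
    rw [hgx, sy_apply, map_smul, hZ', zero_smul, add_zero, smul_eq_mul]
  have h1 : InM M (sy B (Z' + (σ * B Z' Z) • y) y) := by
    refine (h'.conj hg).congr fun x => ?_
    show g (sy B Z' y (g.symm x)) = _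
    rw [sy_apply, sy_apply, map_add, map_smul, map_smul, ← hM.iso g hg (g.symm x) Z',
      ← hM.iso g hg (g.symm x) y, g.apply_symm_apply, hgy, hgZ]
  refine (h1.add h'' fun x => ?_).congr fun x => ?_
  · simp [sy_apply, hS.alt, hZ', hyZ']
  · simp only [LinearMap.add_apply, sy_apply, tt_apply, map_add, map_neg, map_smul, smul_eq_mul]
    rw [show r = 2 * (σ * B Z' Z) by rw [hσ]; field_simp [hS.two, hne']]
    module

/-- A root element at a line that is not stable gives a transvection. -/
theorem exists_cen {p p' : V} (hp' : B (J p') p' ≠ 0) (hpp : B p p' = 0)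
    (hind : ∀ a b : F, p ≠ a • p' + b • J p')
    (hX : ∀ t : F, InM M (tt B (-(d * t)) p + tt B t p')) :
    ∃ y, B (J y) y ≠ 0 ∧ Cen B M y := by
  set a := B (J p) p' / B (J p') p' with ha
  set x := p - a • p' with hx
  have hxp : Perp B J x p' := by
    constructor
    · rw [hx, LinearMap.map_sub₂, LinearMap.map_smul₂, hpp, hS.alt, smul_zero, sub_zero]
    · rw [hx, map_sub, map_smul, LinearMap.map_sub₂, LinearMap.map_smul₂, smul_eq_mul, ha,
        div_mul_cancel₀ _ hp', sub_self]
  have hx0 : x ≠ 0 := fun e => hind a 0 (by rw [zero_smul, add_zero]; exact sub_eq_zero.1 e)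
  set h0 := B (J x) x with hh0
  obtain ⟨y, hy, hyh, hyd⟩ : ∃ y, Perp B J y p' ∧ B (J y) y ≠ 0 ∧ h0 - B (J y) y / 4 ≠ 0 := by
    obtain ⟨u0, hu0, hu0h⟩ := exists_anis_perp₁ hS hp'
    have h4 : (4 : F) ≠ 0 := by
      rw [show (4 : F) = 2 * 2 by norm_num]; exact mul_ne_zero hS.two hS.two
    by_cases hz : h0 = 0
    · exact ⟨u0, hu0, hu0h, by rw [hz, zero_sub, neg_ne_zero]; exact div_ne_zero hu0h h4⟩
    · obtain ⟨α, β, hαβ⟩ := exists_scale hS hu0h (-4 * h0)
      refine ⟨_, perp_comb hu0 (perp_j hS hu0) α β, ?_, ?_⟩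
      · rw [hαβ]; exact mul_ne_zero (neg_ne_zero.2 h4) hz
      · rw [hαβ, show h0 - -4 * h0 / 4 = 2 * h0 by field_simp; ring]
        exact mul_ne_zero hS.two hz
  set hz := h0 - B (J y) y / 4 with hhz
  have hpairs : ∀ z, Perp B J z p' → Perp B J z y → B (J z) z = hz →
      ∀ s : F, InM M (sy B (s • (2 • (a • p' + z))) y) := by
    intro z hzp hzy hzh s
    have hyz := perp_symm hS hzy
    have key : ∀ ε : F, ε * ε = 1 / 4 → ∀ t : F,
        InM M (tt B (-(d * t)) (a • p' + (ε • y + z)) + tt B t p') := by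
      intro ε hε t
      have hq : Perp B J (ε • y + z) p' := by
        have := perp_comb hy hzp ε 1
        rwa [one_smul] at this
      have hqh : B (J (ε • y + z)) (ε • y + z) = h0 := by
        rw [h_add hS, hzh]
        simp only [map_smul, LinearMap.smul_apply, smul_eq_mul, hyz.2]
        rw [hhz]
        linear_combination B (J y) y * hε
      have hq0 : ε • y + z ≠ 0 := by
        intro e
        have h1 : B (J (ε • y + z)) y = 0 := by rw [e, map_zero, map_zero, LinearMap.zero_apply]
        rw [map_add, map_smul, LinearMap.map_add₂, LinearMap.map_smul₂, hzy.2, add_zero,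
          smul_eq_mul] at h1
        rcases mul_eq_zero.1 h1 with h | h
        · rw [h, mul_zero, eq_comm, div_eq_zero_iff] at hε
          rcases hε with h | h
          · exact one_ne_zero h
          · rw [show (4 : F) = 2 * 2 by norm_num] at h
            exact hS.two (mul_self_eq_zero.1 h)
        · exact hyh h
      obtain ⟨e, he, hex, hec⟩ := hM.move p' x _ (Or.inr hp') hxp hq hx0 hq0 hqh
      have hep : e p = a • p' + (ε • y + z) := by
        rw [show p = a • p' + x by rw [hx, add_sub_cancel], map_add, map_smul, hec, hex]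
      refine ((hX t).conj he).congr fun w => ?_
      show e ((tt B (-(d * t)) p + tt B t p') (e.symm w)) = _
      simp only [LinearMap.add_apply, tt_apply, map_add, map_smul]
      rw [← hM.iso e he (e.symm w) p, ← hM.iso e he (e.symm w) p', e.apply_symm_apply, hep, hec]
      simp only [map_add, map_smul]
    set t := -(2 * s) / d with ht
    have h4 : (1 / 2 : F) * (1 / 2) = 1 / 4 := by
      rw [show (4 : F) = 2 * 2 by norm_num]; field_simp [hS.two]
    refine ((key (1 / 2) h4 t).add (key (-(1 / 2)) (by rw [neg_mul_neg, h4]) (-t))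
      fun w => ?_).congr fun w => ?_
    · have f1 : B p' y = 0 := (perp_symm hS hy).1
      have f2 : B p' z = 0 := (perp_symm hS hzp).1
      simp [tt_apply, hS.alt, f1, f2, hy.1, hzp.1, hyz.1, hzy.1]
    · simp only [LinearMap.add_apply, sy_apply, tt_apply, map_add, map_smul, map_nsmul,
        smul_eq_mul, nsmul_eq_mul]
      rw [ht]
      match_scalars <;> field_simp [d_ne hS, hS.two] <;> ring
  obtain ⟨u1, hu1p, hu1y, hu1h⟩ := exists_anis_perp₂ hS hp' hyh hy
  obtain ⟨α, β, hαβ⟩ := exists_scale hS hu1h hz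
  set z := α • u1 + β • J u1 with hzd
  have hzp : Perp B J z p' := perp_comb hu1p (perp_j hS hu1p) α β
  have hzy : Perp B J z y := perp_comb hu1y (perp_j hS hu1y) α β
  have h1d : (1 : F) - d ≠ 0 := fun e => hS.nonsq 1 (by linear_combination e)
  set A := (1 + d) / (1 - d) with hA
  set C := 2 / (1 - d) with hC
  set z' := A • z + C • J z with hz'
  have hz'h : B (J z') z' = hz := by
    rw [hz', h_comb hS, hαβ, show A * A - d * (C * C) = 1 by rw [hA, hC]; field_simp; ring, one_mul]
  have hZ : ∀ w, Perp B J w y → B ((2 • (a • p' + w) : V)) y = 0 := fun w hw => by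
    rw [map_nsmul, LinearMap.smul_apply, LinearMap.map_add₂, LinearMap.map_smul₂,
      (perp_symm hS hy).1, hw.1, smul_zero, add_zero, smul_zero]
  have hz'p : Perp B J z' p' := perp_comb hzp (perp_j hS hzp) A C
  have hz'y : Perp B J z' y := perp_comb hzy (perp_j hS hzy) A C
  have h1 := hpairs z hzp hzy hαβ
  have h2 := hpairs z' hz'p hz'y hz'h
  refine ⟨y, hyh, cen_of_pairs hS hM (hZ z hzy) (hZ z' hz'y) ?_ h1 ?_ ?_⟩
  · have e : B z z' = -(C * hz) := by
      rw [hz', map_add, map_smul, map_smul, hS.alt, jr hS, hαβ, smul_zero, zero_add, smul_eq_mul,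
        mul_neg]
    simp only [map_nsmul, LinearMap.smul_apply, map_add, map_smul, LinearMap.add_apply, hS.alt,
      smul_eq_mul, hz'p.1, bswap hS z p', hzp.1, (perp_symm hS hz'p).1, e, mul_zero, zero_add,
      add_zero, nsmul_eq_mul]
    rw [hC]
    exact mul_ne_zero (by simpa using hS.two) (mul_ne_zero (by simpa using hS.two)
      (neg_ne_zero.2 (mul_ne_zero (div_ne_zero hS.two h1d) hyd)))
  · have := h2 1
    rwa [one_smul] at this
  · have := h2 (-1)
    rwa [neg_one_smul] at this

omit hM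

/-- Independence for a hyperbolic pair over the extension. -/
theorem coeff_zero {y z r : V} (hy : B (J y) y = 0) (hz : B (J z) z = 0) (hH : B (J y) z = 0)
    (hB : B y z ≠ 0) (hry : Perp B J r y) (hrz : Perp B J r z) {α β γ δ : F}
    (h : α • y + β • J y + γ • z + δ • J z + r = 0) : α = 0 ∧ β = 0 ∧ γ = 0 ∧ δ = 0 := by
  have hH' : B (J z) y = 0 := (hswap hS y z).trans hH
  have hB' : B z y ≠ 0 := by rw [bswap hS y z]; exact neg_ne_zero.2 hB
  have key : ∀ w, B (α • y + β • J y + γ • z + δ • J z + r) w = 0 := fun w => by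
    rw [h, map_zero, LinearMap.zero_apply]
  have e1 := key y
  have e2 := key (J y)
  have e3 := key z
  have e4 := key (J z)
  simp only [map_add, map_smul, LinearMap.add_apply, LinearMap.smul_apply, smul_eq_mul, hS.alt,
    jr hS, hS.sq, hy, hz, hH, hH', hry.1, hry.2, hrz.1, hrz.2, mul_zero, zero_add, add_zero,
    neg_zero, mul_neg, neg_eq_zero] at e1 e2 e3 e4
  refine ⟨(mul_eq_zero.1 e3).resolve_right hB, ?_, (mul_eq_zero.1 e1).resolve_right hB', ?_⟩
  · exact (mul_eq_zero.1 e4).resolve_right (mul_ne_zero (d_ne hS) hB)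
  · exact (mul_eq_zero.1 e2).resolve_right (mul_ne_zero (d_ne hS) hB')

variable {T : V →ₗ[F] V}

/-- A square root of `d` keeping the singular lines agrees up to sign with `J` on a hyperbolic
pair. -/
theorem sign_pair (hTs : ∀ x y, B (T x) y = -B x (T y)) (hT2 : ∀ x, T (T x) = d • x)
    (hl : ∀ y, B (J y) y = 0 → ∃ α β : F, T y = α • y + β • J y)
    {y z : V} (hy : B (J y) y = 0) (hz : B (J z) z = 0) (hH : B (J y) z = 0) (hB : B y z ≠ 0) :
    ∃ ε : F, ε * ε = 1 ∧ T y = ε • J y ∧ T z = ε • J z ∧ T (J z) = ε • (d • z) := by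
  have hH' : B (J z) y = 0 := (hswap hS y z).trans hH
  have hJy : B (J (J y)) (J y) = 0 := by rw [jj hS, hy, mul_zero, neg_zero]
  have hJz : B (J (J z)) (J z) = 0 := by rw [jj hS, hz, mul_zero, neg_zero]
  obtain ⟨α, β, hTy⟩ := hl y hy
  obtain ⟨α', β', hTz⟩ := hl z hz
  obtain ⟨δ, γ, hTJy⟩ := hl (J y) hJy
  obtain ⟨δ', γ', hTJz⟩ := hl (J z) hJz
  rw [hS.sq] at hTJy hTJz
  obtain ⟨p, q, hpq⟩ := hl (y + z) (by rw [h_add hS, hy, hz, hH]; ring)
  obtain ⟨hp1, hq1, hp2, hq2⟩ := coeff_zero hS hy hz hH hB (r := 0) (perp_symm hS (perp_zero hS y))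
    (perp_symm hS (perp_zero hS z)) (α := α - p) (β := β - q) (γ := α' - p) (δ := β' - q) (by
      simp only [map_add, hTy, hTz] at hpq
      linear_combination (norm := module) hpq)
  obtain ⟨p', q', hpq'⟩ := hl (J y + J z) (by
    rw [h_add hS, hJy, hJz, jj hS, hH]; ring)
  obtain ⟨hg1, hd1, hg2, hd2⟩ := coeff_zero hS hy hz hH hB (r := 0) (perp_symm hS (perp_zero hS y))
    (perp_symm hS (perp_zero hS z)) (α := γ * d - q' * d) (β := δ - p') (γ := γ' * d - q' * d)
    (δ := δ' - p') (by
      simp only [map_add, map_smul, hTJy, hTJz, hS.sq] at hpq'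
      linear_combination (norm := module) hpq')
  have hyJz : B (J y) (J z) = -(d * B y z) := jj hS y z
  have hc1 : B (J (y + J z)) (y + J z) ≠ 0 := by
    rw [h_add hS, hy, hJz, hyJz, zero_add, zero_add]
    exact mul_ne_zero hS.two (neg_ne_zero.2 (mul_ne_zero (d_ne hS) hB))
  have hc2 : B (J (y + -J z)) (y + -J z) ≠ 0 := by
    rw [h_add hS]
    simp only [map_neg, LinearMap.neg_apply, neg_neg, hy, hJz, hyJz, zero_add]
    exact mul_ne_zero hS.two (mul_ne_zero (d_ne hS) hB)
  obtain ⟨r, hr1, hr2, hr⟩ := exists_anis_perp₂ hS hc1 hc2 (by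
    constructor
    · simp [hS.alt, jr hS, hH, hH']
    · simp only [map_add, map_neg, LinearMap.add_apply, LinearMap.neg_apply, hy, hJz, hyJz,
        hswap hS y (J z)]
      ring)
  have hry : Perp B J r y := by
    constructor
    · have h1 := hr1.1; have h2 := hr2.1
      rw [map_add] at h1 h2; rw [map_neg] at h2
      exact (mul_eq_zero.1 (show (2 : F) * B r y = 0 by linear_combination h1 + h2)).resolve_left hS.two
    · have h1 := hr1.2; have h2 := hr2.2
      rw [map_add] at h1 h2; rw [map_neg] at h2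
      exact (mul_eq_zero.1 (show (2 : F) * B (J r) y = 0 by linear_combination h1 + h2)).resolve_left hS.two
  have hrJz : Perp B J r (J z) := by
    constructor
    · have h1 := hr1.1
      rwa [map_add, hry.1, zero_add] at h1
    · have h1 := hr1.2
      rwa [map_add, hry.2, zero_add] at h1
  have hrz : Perp B J r z := by
    constructor
    · have := hrJz.2
      rw [jj hS, neg_eq_zero] at this
      exact (mul_eq_zero.1 this).resolve_left (d_ne hS)
    · have := hrJz.1
      rwa [jr hS, neg_eq_zero] at this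
  set t := B (J r) r / (2 * (d * B y z)) with ht
  have ht0 : t ≠ 0 := div_ne_zero hr (mul_ne_zero hS.two (mul_ne_zero (d_ne hS) hB))
  have hyr : B (J y) r = 0 := (perp_symm hS hry).2
  have hJzr : B (J (J z)) r = 0 := by rw [jsq_left hS, (perp_symm hS hrz).1, mul_zero]
  obtain ⟨u, v, huv⟩ := hl (y + t • J z + r) (by
    simp only [map_add, map_smul, LinearMap.add_apply, LinearMap.smul_apply, smul_eq_mul, hy, hJz,
      hyJz, hyr, hJzr, hswap hS y (J z), hry.2, hrJz.2, mul_zero, add_zero, zero_add]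
    rw [ht]
    field_simp [d_ne hS, hS.two]
    ring)
  have hTy0 : Perp B J (T r - u • r - v • J r) y := by
    have e1 : B (T r) y = 0 := by
      rw [hTs, hTy, map_add, map_smul, map_smul, hry.1, jr hS, hry.2]; simp
    have e2 : B (T r) (J y) = 0 := by
      rw [hTs, hTJy, map_add, map_smul, map_smul, map_smul, hry.1, jr hS, hry.2]; simp
    constructor
    · simp [e1, hry.1, hry.2]
    · rw [hS.skew]
      simp [e2, jr hS, hS.sq, hry.1, hry.2]
  have hTz0 : Perp B J (T r - u • r - v • J r) z := by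
    have e1 : B (T r) z = 0 := by
      rw [hTs, hTz, map_add, map_smul, map_smul, hrz.1, jr hS, hrz.2]; simp
    have e2 : B (T r) (J z) = 0 := by
      rw [hTs, hTJz, map_add, map_smul, map_smul, map_smul, hrz.1, jr hS, hrz.2]; simp
    constructor
    · simp [e1, hrz.1, hrz.2]
    · rw [hS.skew]
      simp [e2, jr hS, hS.sq, hrz.1, hrz.2]
  obtain ⟨k1, k2, k3, k4⟩ := coeff_zero hS hy hz hH hB (r := T r - u • r - v • J r) hTy0 hTz0
    (α := α - u) (β := β - v) (γ := t * (γ' * d) - t * (v * d)) (δ := t * δ' - t * u) (by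
      simp only [map_add, map_smul, hTy, hTJz, hS.sq] at huv
      linear_combination (norm := module) huv)
  have hv : v = γ' := by
    have : t * d * (γ' - v) = 0 := by linear_combination k3
    exact (sub_eq_zero.1 ((mul_eq_zero.1 this).resolve_left (mul_ne_zero ht0 (d_ne hS)))).symm
  have hu : u = δ' := by
    have : t * (δ' - u) = 0 := by linear_combination k4
    exact (sub_eq_zero.1 ((mul_eq_zero.1 this).resolve_left ht0)).symm
  have hTy' : T y = α • y + β • J y := hTy
  have hTJy' : T (J y) = α • J y + β • (d • y) := by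
    rw [hTJy, show δ = α by linear_combination hd1 - hd2 - hu - k1, show γ = β from
      mul_right_cancel₀ (d_ne hS) (by linear_combination hg1 - hg2 - d * hv - d * k2)]
  have hsq : (α * α + β * β * d - d) • y + (2 * (α * β)) • J y + (0 : F) • z + (0 : F) • J z +
      (0 : V) = 0 := by
    have := hT2 y
    rw [hTy', map_add, map_smul, map_smul, hTy', hTJy'] at this
    linear_combination (norm := module) this
  obtain ⟨s1, s2, -, -⟩ := coeff_zero hS hy hz hH hB (perp_symm hS (perp_zero hS y))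
    (perp_symm hS (perp_zero hS z)) hsq
  have hβ : β ≠ 0 := fun e => hS.nonsq α (by rw [e] at s1; linear_combination s1)
  have hα : α = 0 := (mul_eq_zero.1 ((mul_eq_zero.1 s2).resolve_left hS.two)).resolve_right hβ
  refine ⟨β, mul_right_cancel₀ (d_ne hS) (by rw [hα] at s1; linear_combination s1), ?_, ?_, ?_⟩
  · rw [hTy, hα, zero_smul, zero_add]
  · rw [hTz, show α' = 0 by linear_combination hp2 - hp1 + hα,
      show β' = β by linear_combination hq2 - hq1, zero_smul, zero_add]
  · rw [hTJz, show δ' = 0 by linear_combination -hu - k1 + hα,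
      show γ' = β by linear_combination -hv - k2, zero_smul, zero_add]

/-- A square root of `d` keeping all singular lines is `J` up to sign. -/
theorem eq_smul_j (hTs : ∀ x y, B (T x) y = -B x (T y)) (hT2 : ∀ x, T (T x) = d • x)
    (hl : ∀ y, B (J y) y = 0 → ∃ α β : F, T y = α • y + β • J y) :
    ∃ ε : F, ε * ε = 1 ∧ ∀ x, T x = ε • J x := by
  have hpair : ∀ y z, B (J y) y = 0 → B (J z) z = 0 → (B y z ≠ 0 ∨ B (J y) z ≠ 0) →
      ∃ ε : F, ε * ε = 1 ∧ T y = ε • J y ∧ T z = ε • J z := by
    intro y z hy hz hne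
    set a := d * B y z with ha
    set b := B (J y) z with hb
    have hab : a ≠ 0 ∨ b ≠ 0 := hne.imp_left fun h => mul_ne_zero (d_ne hS) h
    obtain ⟨ε, h1, h2, h3, h4⟩ := sign_pair hS hTs hT2 hl hy (z := a • z + b • J z)
      (by rw [h_comb hS, hz, mul_zero])
      (by rw [map_add, map_smul, map_smul, jj hS, smul_eq_mul, smul_eq_mul, ← hb, ← ha]; ring)
      (by
        rw [map_add, map_smul, map_smul, jr hS, smul_eq_mul, smul_eq_mul, ← hb]
        intro e
        refine norm_ne hS hab ?_
        rw [ha] at e ⊢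
        linear_combination d * e)
    refine ⟨ε, h1, h2, ?_⟩
    have hz' : z = (a * a - d * (b * b))⁻¹ • (a • (a • z + b • J z) - b • J (a • z + b • J z)) := by
      rw [map_add, map_smul, map_smul, hS.sq]
      match_scalars
      · linear_combination -(inv_mul_cancel₀ (norm_ne hS hab))
      · ring
    conv_lhs => rw [hz']
    conv_rhs => rw [hz']
    simp only [map_smul, map_sub, h3, h4, hS.sq]
    module
  have hpartner : ∀ y, B (J y) y = 0 → y ≠ 0 → ∀ x, B (J x) x = 0 → x ≠ 0 →
      ∃ z, B (J z) z = 0 ∧ (B y z ≠ 0 ∨ B (J y) z ≠ 0) ∧ (B x z ≠ 0 ∨ B (J x) z ≠ 0) := by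
    intro y hy hy0 x hx hx0
    by_cases horth : Perp B J x y
    · obtain ⟨z, -, hz, h1, h2⟩ := exists_singular_two hS (c := 0) (Or.inl rfl) (perp_zero hS y)
        (perp_zero hS x) hy0 hx0 hy horth
      exact ⟨z, hz, Or.inl h1, Or.inl h2⟩
    · obtain ⟨z, -, hz, h1, -⟩ := exists_singular_two hS (c := 0) (Or.inl rfl) (perp_zero hS y)
        (perp_zero hS y) hy0 hy0 hy ⟨hS.alt y, hy⟩
      by_cases h2 : B x z ≠ 0 ∨ B (J x) z ≠ 0
      · exact ⟨z, hz, Or.inl h1, h2⟩
      push Not at h2
      obtain ⟨u, v, huv⟩ : ∃ u v : F, u * B (J z) y + v * B (J z) (J y) = 0 ∧ (u ≠ 0 ∨ v ≠ 0) := by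
        by_cases h : B (J z) y = 0
        · exact ⟨1, 0, by rw [h]; ring, Or.inl one_ne_zero⟩
        · exact ⟨-B (J z) (J y), B (J z) y, by ring, Or.inr h⟩
      refine ⟨z + (u • y + v • J y), ?_, Or.inl ?_, ?_⟩
      · rw [h_add hS, hz, h_comb hS, hy, map_add, map_smul, map_smul, smul_eq_mul, smul_eq_mul,
          huv.1]
        ring
      · rw [map_add, map_add, map_smul, map_smul, hS.alt, jr hS, hy]
        simpa using h1
      · rw [Perp] at horth
        by_contra hc
        push Not at hc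
        obtain ⟨hc1, hc2⟩ := hc
        rw [map_add, map_add, map_smul, map_smul, h2.1, jr hS, smul_eq_mul, smul_eq_mul] at hc1
        rw [map_add, map_add, map_smul, map_smul, h2.2, jj hS, smul_eq_mul, smul_eq_mul] at hc2
        refine horth ⟨?_, ?_⟩
        · refine (mul_eq_zero.1 (show (u * u - d * (v * v)) * B x y = 0 by
            linear_combination u * hc1 + v * hc2)).resolve_left (norm_ne hS huv.2)
        · refine (mul_eq_zero.1 (show (u * u - d * (v * v)) * B (J x) y = 0 by
            linear_combination d * v * hc1 + u * hc2)).resolve_left (norm_ne hS huv.2)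
  obtain ⟨c, hc⟩ := exists_anis hS
  obtain ⟨c', hc', hc'h⟩ := exists_anis_perp₁ hS hc
  have hsplit : ∀ v, B (J v) v ≠ 0 → ∀ w, Perp B J w v → B (J w) w ≠ 0 →
      ∃ s, B (J (v + s)) (v + s) = 0 ∧ B (J (v + -s)) (v + -s) = 0 ∧ v + s ≠ 0 := by
    intro v hv w hw hwh
    obtain ⟨a, b, hab⟩ := exists_scale hS hwh (-B (J v) v)
    have h0 : B (J v) (a • w + b • J w) = 0 :=
      (perp_symm hS (perp_comb hw (perp_j hS hw) a b)).2
    refine ⟨a • w + b • J w, ?_, ?_, fun e => hv ?_⟩
    · rw [h_add hS, hab, h0]; ring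
    · rw [h_add hS]
      simp only [map_neg, LinearMap.neg_apply, neg_neg, hab, h0]
      ring
    · have := congrArg (fun z => B (J v) z) e
      rwa [map_add, h0, add_zero, map_zero] at this
  obtain ⟨s0, hy0, -, hy00⟩ := hsplit c hc c' hc' hc'h
  set y0 := c + s0
  obtain ⟨z0, hz0, hyz0, -⟩ := hpartner y0 hy0 hy00 y0 hy0 hy00
  obtain ⟨ε, hε, hεy, -⟩ := hpair y0 z0 hy0 hz0 hyz0
  refine ⟨ε, hε, fun v => ?_⟩
  have hsing : ∀ x, B (J x) x = 0 → T x = ε • J x := by
    intro x hx
    by_cases hx0 : x = 0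
    · simp [hx0]
    obtain ⟨z, hz, h1, h2⟩ := hpartner y0 hy0 hy00 x hx hx0
    obtain ⟨ε1, -, e1, e2⟩ := hpair y0 z hy0 hz h1
    obtain ⟨ε2, -, e3, e4⟩ := hpair x z hx hz h2
    have hz0' : J z ≠ 0 := fun e => by
      rcases h1 with h | h
      · have := jr hS y0 (J z)
        rw [hS.sq, map_smul, smul_eq_mul, e, map_zero, neg_zero] at this
        exact h ((mul_eq_zero.1 this).resolve_left (d_ne hS))
      · have := jr hS y0 z
        rw [e, map_zero, eq_comm, neg_eq_zero] at this
        exact h this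
    have hy0' : J y0 ≠ 0 := fun e => hy00 (by
      have := hS.sq y0
      rw [e, map_zero] at this
      exact (smul_eq_zero.1 this.symm).resolve_left (d_ne hS))
    rw [e3, ← smul_left_injective F hz0' (e2.symm.trans e4),
      smul_left_injective F hy0' (e1.symm.trans hεy)]
  by_cases hv : B (J v) v = 0
  · exact hsing v hv
  obtain ⟨w, hw, hwh⟩ := exists_anis_perp₁ hS hv
  obtain ⟨s, h1, h2, -⟩ := hsplit v hv w hw hwh
  have h3 := congrArg₂ (· + ·) (hsing _ h1) (hsing _ h2)
  simp only [map_add, map_neg] at h3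
  refine smul_right_injective V hS.two (show (2 : F) • T v = (2 : F) • ε • J v from ?_)
  linear_combination (norm := module) h3

end CfsgLib.SympUSix
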