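import Cfsg.Agent.Lib.Classical.SympUnitarySix
import Cfsg.Agent.Lib.Classical.SympOverfieldUMax

set_option autoImplicit false
set_option linter.unusedSectionVars false

/-!
The normaliser of a quadratic extension with non-trivial adjoint is maximal in the symplectic group,
degree six or more.
-/

namespace CfsgLib.SympUSix

open Matrix Module
open CfsgLib.Classical
open CfsgLib.SympExt (InM tt sy tt_apply sy_apply toEquiv toEquiv_apply)

section Moved

variable {F V : Type*} [Field F] [Finite F] [AddCommGroup V] [Module F V] [FiniteDimensional F V]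
variable {B : V →ₗ[F] V →ₗ[F] F} {J : V →ₗ[F] V} {d : F}
variable {M : Subgroup (V ≃ₗ[F] V)}
variable (hS : Setup B J d)
include hS

/-- The root element at a singular vector. -/
theorem root_mem
    (hU : ∀ e : V ≃ₗ[F] V, (∀ x y, B (e x) (e y) = B x y) → (∀ x, e (J x) = J (e x)) → e ∈ M) {a : V} (ha : B (J a) a = 0) (t : F) :
    InM M (tt B (-(d * t)) a + tt B t (J a)) := by
  have h' : B a (J a) = 0 := by rw [jr hS, ha, neg_zero]
  set N := tt B (-(d * t)) a + tt B t (J a)
  have hN : ∀ x, N x = (-(d * t)) • B x a • a + t • B x (J a) • J a := fun x => rfl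
  have h0 : ∀ x, N (N x) = 0 := fun x => by
    simp [hN, hS.alt, ha, h']
  let e : V ≃ₗ[F] V := LinearEquiv.ofLinearMap (LinearMap.id + N) (LinearMap.id - N)
    (LinearMap.ext fun x => by simp [h0, map_sub]) (LinearMap.ext fun x => by simp [h0, map_add])
  refine ⟨e, hU e (fun x y => ?_) (fun x => ?_), fun x => rfl⟩
  · show B (x + N x) (y + N y) = B x y
    simp only [hN, map_add, map_smul, LinearMap.add_apply, LinearMap.smul_apply, smul_eq_mul,
      hS.alt, ha, h', bswap hS y a, bswap hS y (J a), mul_zero, add_zero, zero_add]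
    ring
  · show J x + N (J x) = J (x + N x)
    simp only [hN, map_add, map_smul, hS.sq, jj hS, jr hS x a]
    module

theorem exists_moving : ∃ a x : V, B (J a) a = 0 ∧ B a x = 0 ∧ B (J a) x ≠ 0 := by
  obtain ⟨c, hc⟩ := exists_anis hS
  obtain ⟨u, hu, huh⟩ := exists_anis_perp₁ hS hc
  obtain ⟨α, β, hab⟩ := exists_scale hS huh (-B (J c) c)
  set s := α • u + β • J u
  have hcs : B (J c) s = 0 := (perp_symm hS (perp_comb hu (perp_j hS hu) α β)).2
  set a := c + s
  have ha : B (J a) a = 0 := by rw [h_add hS, hab, hcs]; ring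
  have hac : B (J a) c ≠ 0 := by
    rw [map_add, LinearMap.map_add₂, hswap hS c s, hcs, add_zero]; exact hc
  refine ⟨a, B (J a) c • c + B a c • J c, ha, ?_, ?_⟩
  · rw [map_add, map_smul, map_smul, jr hS a c, smul_eq_mul, smul_eq_mul]; ring
  · rw [map_add, map_smul, map_smul, jj hS, smul_eq_mul, smul_eq_mul,
      show B (J a) c * B (J a) c + B a c * -(d * B a c) =
        B (J a) c * B (J a) c - d * (B a c * B a c) by ring]
    exact norm_ne hS (Or.inl hac)

/-- All isometries commuting with the extension satisfy the hypotheses on the overgroup. -/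
theorem Over.of_unit (hiso : ∀ g ∈ M, ∀ x y, B (g x) (g y) = B x y)
    (hU : ∀ e : V ≃ₗ[F] V, (∀ x y, B (e x) (e y) = B x y) → (∀ x, e (J x) = J (e x)) → e ∈ M) : Over B J d M :=
  ⟨hiso, fun _ t ha => root_mem hS hU ha t,
    fun _ _ _ hc hv hv' hv0 hv'0 hh => exists_move hS hU hc hv hv' hv0 hv'0 hh⟩

variable (hM : Over B J d M)
include hM

/-- Two root elements spanning a totally singular plane give a transvection. -/
theorem exists_cen_of_plane {p p' : V} (hp : B (J p) p = 0) (hp' : B (J p') p' = 0) (hH : B (J p) p' = 0)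
    (hpp : B p p' = 0) (hp'0 : p' ≠ 0) (hind : ∀ α β : F, p ≠ α • p' + β • J p')
    (hX : ∀ t : F, InM M (tt B (-(d * t)) p + tt B t p')) :
    ∃ y, B (J y) y ≠ 0 ∧ Cen B M y := by
  have hp'p : B p' p = 0 := by rw [bswap hS p p', hpp, neg_zero]
  have hpJ' : B (J p') p = 0 := (hswap hS p p').trans hH
  obtain ⟨x, hx1, hx2, hx3⟩ : ∃ x, B p' x = 0 ∧ B (J p') x = 0 ∧ B p x ≠ 0 := by
    by_contra hc
    push Not at hc
    have hm : B p ∈ Submodule.span F (Set.range ![B p', B (J p')]) := by
      refine mem_span_of_iInf_ker_le_ker fun x hx => ?_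
      rw [Submodule.mem_iInf] at hx
      exact hc x (by simpa using hx 0) (by simpa using hx 1)
    obtain ⟨c, hc'⟩ := (Submodule.mem_span_range_iff_exists_fun F).1 hm
    simp only [Fin.sum_univ_two, Matrix.cons_val_zero, Matrix.cons_val_one] at hc'
    refine hind (c 0) (c 1) (sub_eq_zero.1 (hS.nd _ fun y => ?_))
    have := LinearMap.congr_fun hc' y
    simp only [LinearMap.add_apply, LinearMap.smul_apply, smul_eq_mul] at this
    simp only [map_sub, map_add, map_smul, LinearMap.sub_apply, LinearMap.add_apply, LinearMap.smul_apply,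
      smul_eq_mul]
    linear_combination -this
  obtain ⟨w, hw⟩ : ∃ w, w = -(B (J x) x) / (2 * (d * B p x)) := ⟨_, rfl⟩
  obtain ⟨z, hz⟩ : ∃ z, z = x + w • J p := ⟨_, rfl⟩
  have hzs : B (J z) z = 0 := by
    rw [hz, h_add hS]
    simp only [map_smul, LinearMap.smul_apply, smul_eq_mul, jj hS, hS.sq, jr hS p p, hp, hS.alt, neg_zero,
      mul_zero, add_zero, bswap hS p x]
    rw [hw]
    field_simp [d_ne hS, hS.two]
    ring
  have hzp : Perp B J z p' := by
    refine perp_symm hS ⟨?_, ?_⟩
    · rw [hz, map_add, map_smul, hx1, jr hS, hpJ', neg_zero, smul_zero, add_zero]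
    · rw [hz, map_add, map_smul, hx2, jj hS, hp'p, mul_zero, neg_zero, smul_zero, add_zero]
  have hpz : B p z ≠ 0 := by
    rw [hz, map_add, map_smul, jr hS, hp, neg_zero, smul_zero, add_zero]
    exact hx3
  have hpp' : Perp B J p p' := ⟨hpp, hH⟩
  obtain ⟨z, hzs, hzp, hpz, hJpz⟩ : ∃ z, B (J z) z = 0 ∧ Perp B J z p' ∧ B p z ≠ 0 ∧ B (J p) z = 0 := by
    obtain ⟨β, hβ⟩ : ∃ β, β = B (J p) z / (d * B p z) := ⟨_, rfl⟩
    refine ⟨(1 : F) • z + β • J z, by rw [h_comb hS, hzs, mul_zero], perp_comb hzp (perp_j hS hzp) 1 β, ?_, ?_⟩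
    · rw [map_add, map_smul, map_smul, jr hS, one_smul, smul_eq_mul, mul_neg, ← sub_eq_add_neg]
      intro e
      refine norm_ne hS (a := B (J p) z / d) (b := B p z / d) (Or.inr (div_ne_zero hpz (d_ne hS))) ?_
      rw [hβ] at e
      field_simp [d_ne hS] at e ⊢
      linear_combination -e
    · rw [map_add, map_smul, map_smul, jj hS, one_smul, smul_eq_mul, hβ]
      field_simp [d_ne hS]
      ring
  have hmap : ∀ r : F, ∃ u ∈ M, u p = p + r • p' ∧ u p' = p' := by
    intro r
    obtain ⟨e, he, he1, he2'⟩ := slide hS hM (hzs.trans hp.symm) (hJpz.trans hp.symm) hpz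
    have he2 : e p' = p' := he2' p' (perp_symm hS hpp') (perp_symm hS hzp)
    have hv : Perp B J (p + r • p') p' := by
      constructor <;> simp [hpp, hH, hS.alt, hp']
    have hv0 : B (J (p + r • p')) (p + r • p') = B (J z) z := by
      rw [hzs]
      simp only [map_add, map_smul, LinearMap.add_apply, LinearMap.smul_apply, smul_eq_mul, hp, hp', hH, hpJ']
      ring
    have hz' : B z (p + r • p') ≠ 0 := by
      rw [map_add, map_smul, hzp.1, smul_zero, add_zero, bswap hS p z]
      exact neg_ne_zero.2 hpz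
    have hzv : B (J z) (p + r • p') = B (J z) z := by
      rw [hzs, map_add, map_smul, hswap hS p z, hJpz, hzp.2, smul_zero, add_zero]
    obtain ⟨e', he', he1', he3⟩ := slide hS hM hv0 hzv hz'
    have he2' : e' p' = p' := he3 p' (perp_symm hS hzp) (perp_symm hS hv)
    exact ⟨e' * e, M.mul_mem he' he, by rw [LinearEquiv.mul_apply, he1, he1'],
      by rw [LinearEquiv.mul_apply, he2, he2']⟩
  have hE : ∀ t r : F, InM M (tt B (-(d * t)) (p + r • p') + tt B t p') := by
    intro t r
    obtain ⟨u, hu, hup, hup'⟩ := hmap r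
    refine ((hX t).conj hu).congr fun y => ?_
    show u ((tt B (-(d * t)) p + tt B t p') (u.symm y)) = _
    simp only [LinearMap.add_apply, tt_apply, map_add, map_smul, hup, hup']
    have i1 : ∀ v, B (u.symm y) v = B y (u v) := fun v => by
      rw [← hM.iso u hu, u.apply_symm_apply]
    rw [i1, i1, hup, hup', map_add, map_smul]
  have hC : Cen B M p' := by
    intro r
    obtain ⟨t, ht⟩ : ∃ t, t = -(r / (2 * d)) := ⟨_, rfl⟩
    refine (((hE t 1).add (hE t (-1)) fun y => ?_).add (hE (-2 * t) 0) fun y => ?_).congr fun y => ?_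
    · simp [tt_apply, hS.alt, hpp, hp'p]
    · simp [tt_apply, hS.alt, hpp, hp'p]
    · simp only [LinearMap.add_apply, tt_apply, map_add, map_smul, smul_eq_mul, one_smul, one_mul, neg_smul,
        zero_smul, add_zero, map_neg]
      have hr : r = -(2 * (d * t)) := by
        rw [ht]
        field_simp [hS.two, d_ne hS]
      rw [hr]
      module
  obtain ⟨b, -, hb, hb1, hb2⟩ := exists_singular_two hS (c := 0) (v := p') (v' := J p') (Or.inl rfl)
    (perp_zero hS p') (perp_zero hS _) hp'0 (fun e0 => hp'0 (by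
      have := hS.sq p'
      rw [e0, map_zero] at this
      exact (smul_eq_zero.1 this.symm).resolve_left (d_ne hS))) hp'
    ⟨hp', by rw [jsq_left hS, hS.alt, mul_zero]⟩
  have hb0 : b ≠ 0 := fun e0 => hb1 (by rw [e0, map_zero])
  obtain ⟨e, he, heb, -⟩ := hM.move 0 p' b (Or.inl rfl) (perp_zero hS _) (perp_zero hS _)
    hp'0 hb0 (hb.trans hp'.symm)
  have hCb : Cen B M b := fun s => heb ▸ tt_conj hM he (hC s)
  obtain ⟨g, hg, hgx⟩ := hCb 1
  refine ⟨g p', ?_, fun s => tt_conj hM hg (hC s)⟩
  rw [hgx, tt_apply, one_smul, h_add hS]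
  simp only [map_smul, LinearMap.smul_apply, smul_eq_mul, hp', hb, zero_add, mul_zero]
  exact mul_ne_zero hS.two (mul_ne_zero hb1 hb2)

/-- An element moving a singular line gives a transvection. -/
theorem exists_cen_of_moved {g : V ≃ₗ[F] V} (hg : g ∈ M) {a : V}
    (ha : B (J a) a = 0) (hmove : ∀ α β : F, g (J a) ≠ α • g a + β • J (g a)) :
    ∃ y, B (J y) y ≠ 0 ∧ Cen B M y := by
  by_cases hspec : B (J (g a)) (g a) = 0 ∧ B (J (g (J a))) (g (J a)) = 0 ∧ B (J (g a)) (g (J a)) = 0
  · obtain ⟨h3, h1, h⟩ := hspec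
    have ha0 : a ≠ 0 := fun e => hmove 0 0 (by simp [e])
    have hp'0 : g (J a) ≠ 0 := fun e => ha0 (by
      have h' : J a = 0 := g.map_eq_zero_iff.1 e
      have := hS.sq a
      rw [h', map_zero] at this
      exact (smul_eq_zero.1 this.symm).resolve_left (d_ne hS))
    refine exists_cen_of_plane hS hM h3 h1 h (by rw [hM.iso g hg, jr hS, ha, neg_zero]) hp'0
      (fun α β e => ?_) fun t => ?_
    · by_cases hab : α ≠ 0 ∨ β ≠ 0
      · refine hmove (α / (α * α - d * (β * β))) (-β / (α * α - d * (β * β))) ?_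
        have e' : J (g a) = J (α • g (J a) + β • J (g (J a))) := congrArg J e
        simp only [map_add, map_smul, hS.sq] at e'
        have h' : (α * α - d * (β * β)) • g (J a) = α • g a + (-β) • J (g a) := by
          linear_combination (norm := module) -(α • e) + β • e'
        rw [div_eq_inv_mul, div_eq_inv_mul, ← smul_smul, ← smul_smul, ← smul_add, ← h',
          inv_smul_smul₀ (norm_ne hS hab)]
      · push Not at hab
        rw [hab.1, hab.2, zero_smul, zero_smul, add_zero] at e
        exact ha0 (g.map_eq_zero_iff.1 e)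
    · refine ((hM.root a t ha).conj hg).congr fun x => ?_
      show g ((tt B (-(d * t)) a + tt B t (J a)) (g.symm x)) = _
      simp only [LinearMap.add_apply, tt_apply, map_add, map_smul]
      rw [← hM.iso g hg (g.symm x) a, ← hM.iso g hg (g.symm x) (J a), g.apply_symm_apply]
  suffices h : ∃ (a' : V), B (J a') a' = 0 ∧ B (J (g (J a'))) (g (J a')) ≠ 0 ∧
      ∀ u v : F, g a' ≠ u • g (J a') + v • J (g (J a')) by
    obtain ⟨a', ha', h1, h2⟩ := h
    refine exists_cen hS hM h1 (p := g a') ?_ h2 fun t => ?_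
    · rw [hM.iso g hg, jr hS, ha', neg_zero]
    · refine ((hM.root a' t ha').conj hg).congr fun x => ?_
      show g ((tt B (-(d * t)) a' + tt B t (J a')) (g.symm x)) = _
      simp only [LinearMap.add_apply, tt_apply, map_add, map_smul]
      rw [← hM.iso g hg (g.symm x) a', ← hM.iso g hg (g.symm x) (J a'), g.apply_symm_apply]
  set p := g a with hp
  set p' := g (J a) with hp'
  have hp0 : p ≠ 0 := fun e => hmove 0 0 (by
    have : a = 0 := g.map_eq_zero_iff.1 e
    simp [hp', this])
  have hline : ∀ u v u' v' : F, (u ≠ 0 ∨ v ≠ 0) → u • p' + v • J p' = u' • p + v' • J p → False := by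
    intro u v u' v' huv e
    refine hmove ((u * u' - d * (v * v')) / (u * u - d * (v * v)))
      ((u * v' - v * u') / (u * u - d * (v * v))) ?_
    have e' : J (u • p' + v • J p') = J (u' • p + v' • J p) := congrArg J e
    simp only [map_add, map_smul, hS.sq] at e'
    have h : (u * u - d * (v * v)) • p' =
        (u * u' - d * (v * v')) • p + (u * v' - v * u') • J p := by
      linear_combination (norm := module) u • e - v • e'
    rw [div_eq_inv_mul, div_eq_inv_mul, ← smul_smul, ← smul_smul, ← smul_add, ← h,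
      inv_smul_smul₀ (norm_ne hS huv)]
  have hJJ : g (J (J a)) = d • p := by rw [hS.sq, map_smul, ← hp]
  by_cases h1 : B (J p') p' = 0
  swap
  · refine ⟨a, ha, h1, fun u v e => ?_⟩
    by_cases huv : u ≠ 0 ∨ v ≠ 0
    · exact hline u v 1 0 huv (by rw [one_smul, zero_smul, add_zero]; exact e.symm)
    · push Not at huv
      rw [huv.1, huv.2, zero_smul, zero_smul, add_zero] at e
      exact hp0 e
  by_cases h3 : B (J p) p = 0
  swap
  · refine ⟨J a, by rw [jj hS, ha, mul_zero, neg_zero], ?_, fun u v e => ?_⟩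
    · rw [hJJ]
      simp only [map_smul, LinearMap.smul_apply, smul_eq_mul]
      exact mul_ne_zero (d_ne hS) (mul_ne_zero (d_ne hS) h3)
    · rw [hJJ, map_smul, smul_smul, smul_smul, ← hp'] at e
      exact hline 1 0 (u * d) (v * d) (Or.inl one_ne_zero) (by rw [← e]; simp)
  have hH : B (J p) p' ≠ 0 := fun h => hspec ⟨h3, h1, h⟩
  refine ⟨a + J a, ?_, ?_, fun u v e => ?_⟩
  · rw [h_add hS, ha, jj hS, ha, mul_zero, neg_zero, jj hS, hS.alt]; ring
  · rw [map_add, map_add, hJJ, ← hp', h_add hS]
    simp only [map_smul, LinearMap.smul_apply, smul_eq_mul, h1, h3, hswap hS p p']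
    intro e
    exact mul_ne_zero (mul_ne_zero hS.two (d_ne hS)) hH (by linear_combination e)
  · simp only [map_add, hJJ, map_smul, ← hp, ← hp'] at e
    refine hline (1 - u) (-v) (u * d - 1) (v * d) ?_ (by linear_combination (norm := module) e)
    by_contra hz
    push Not at hz
    have hu : u = 1 := (sub_eq_zero.1 hz.1).symm
    have hv : v = 0 := neg_eq_zero.1 hz.2
    rw [hu, hv, one_smul, zero_smul, add_zero, add_comm p' (d • p), add_left_inj] at e
    have : (1 - d) • p = 0 := by rw [sub_smul, one_smul, ← e, sub_self]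
    exact hp0 ((smul_eq_zero.1 this).resolve_left fun h => hS.nonsq 1 (by linear_combination h))

/-- An element moving no singular line normalises the extension. -/
theorem conj_eq {g : V ≃ₗ[F] V} (hg : g ∈ M)
    (hl : ∀ a, B (J a) a = 0 → ∃ α β : F, g (J a) = α • g a + β • J (g a)) :
    ∃ ε : F, ∀ x, g (J x) = ε • J (g x) := by
  suffices h : ∃ ε : F, ε * ε = 1 ∧ ∀ x, (g.symm.toLinearMap ∘ₗ J ∘ₗ g.toLinearMap) x = ε • J x by
    obtain ⟨ε, hε, hT⟩ := h
    refine ⟨ε, fun x => ?_⟩
    have h : g.symm (J (g x)) = ε • J x := hT x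
    have h' := congrArg g h
    rw [g.apply_symm_apply, map_smul] at h'
    rw [h', smul_smul, hε, one_smul]
  refine eq_smul_j hS (fun x y => ?_) (fun x => ?_) (fun a ha => ?_)
  · show B (g.symm (J (g x))) y = -B x (g.symm (J (g y)))
    rw [← hM.iso g hg, g.apply_symm_apply, ← hM.iso g hg x, g.apply_symm_apply, hS.skew]
  · show g.symm (J (g (g.symm (J (g x))))) = d • x
    rw [g.apply_symm_apply, hS.sq, map_smul, g.symm_apply_apply]
  · obtain ⟨α, β, e⟩ := hl a ha
    show ∃ u v : F, g.symm (J (g a)) = u • a + v • J a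
    by_cases hβ : β = 0
    · refine ⟨0, 0, ?_⟩
      rw [hβ, zero_smul, add_zero, ← map_smul] at e
      have h' := g.injective e
      have h2 := hS.sq a
      rw [h', map_smul, h', smul_smul] at h2
      have h0 : a = 0 := by
        by_contra h0
        exact hS.nonsq α (smul_left_injective F h0 h2)
      simp [h0]
    · refine ⟨-(α / β), β⁻¹, g.injective ?_⟩
      rw [g.apply_symm_apply, map_add, map_smul, map_smul, e, smul_add, smul_smul, smul_smul,
        inv_mul_cancel₀ hβ, one_smul, div_eq_inv_mul, ← add_assoc, ← add_smul, neg_add_cancel,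
        zero_smul, zero_add]

end Moved

variable {F : Type*} [Field F] [Finite F] {m : ℕ}
variable {K : Subalgebra F (Matrix (Fin m ⊕ Fin m) (Fin m ⊕ Fin m) F)}

local notation "Mat" => Matrix (Fin m ⊕ Fin m) (Fin m ⊕ Fin m) F

theorem isMaximalIn (hm : 3 ≤ m) (h2 : (2 : F) ≠ 0) (hK : Cfsg.Geo.IsFieldSubalgebra 2 K)
    (hac : Cfsg.Geo.IsAdjointClosedFor (Cfsg.sympForm m F) K)
    (hnsa : ¬ Cfsg.Geo.IsSelfAdjointFor (Cfsg.sympForm m F) K) :
    Cfsg.Geo.IsMaximalIn (Cfsg.spGL m F)
      (Cfsg.Geo.subalgebraNormalizer K ⊓ Cfsg.spGL m F) := by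
  classical
  obtain ⟨j, d, hj, hjs, hjj, hns, hskew⟩ := SympU.exists_root (by omega) h2 hK hac hnsa
  set B : (Fin m ⊕ Fin m → F) →ₗ[F] (Fin m ⊕ Fin m → F) →ₗ[F] F :=
    LinearMap.mk₂ F (Cfsg.sympForm m F) SympTrans.f_add_left SympTrans.f_smul_left
      (fun u v w => SympTrans.f_add_right u v w) (fun a u v => SympTrans.f_smul_right a u v) with hBd
  have hBa : ∀ x y, B x y = Cfsg.sympForm m F x y := fun x y => rfl
  set J := Matrix.toLin' j with hJ
  have hJa : ∀ x, J x = j *ᵥ x := fun x => Matrix.toLin'_apply _ _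
  have hS : SympUSix.Setup B J d := by
    refine ⟨h2, SympTrans.f_self, fun x h => SympTrans.eq_zero_of_f x h, fun x y => ?_, fun x => ?_,
      hns, ?_⟩
    · rw [hJa, hJa]; exact hskew x y
    · rw [hJa, hJa, mulVec_mulVec, hjj, smul_mulVec, one_mulVec]
    · rw [Module.finrank_fintype_fun_eq_card, Fintype.card_sum, Fintype.card_fin]; omega
  have hN : ∀ g : GL (Fin m ⊕ Fin m) F, (∀ x, toEquiv g (J x) = J (toEquiv g x)) →
      g ∈ Cfsg.Geo.subalgebraNormalizer K := by
    intro g hg
    have hc : ∀ k ∈ K, (g : Mat) * k = k * (g : Mat) := fun k hk => by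
      obtain ⟨p, q, rfl⟩ := SympU.exists_span (by omega) hK hj hjs hk
      have e : (g : Mat) * j = j * (g : Mat) := Matrix.ext_iff_mulVec.2 fun x => by
        have := hg x
        rwa [toEquiv_apply, toEquiv_apply, hJa, hJa, mulVec_mulVec, mulVec_mulVec] at this
      rw [mul_add, add_mul, mul_smul_comm, mul_smul_comm, mul_one, smul_mul_assoc, smul_mul_assoc,
        one_mul, e]
    intro k
    constructor
    · intro hk
      rw [hc k hk, mul_assoc, Units.mul_inv, mul_one]
      exact hk
    · intro hk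
      have h3 := hc _ hk
      rw [mul_assoc _ _ (g : Mat), Units.inv_mul, mul_one] at h3
      have h4 : k = (g : Mat) * k * ((g⁻¹ : GL (Fin m ⊕ Fin m) F) : Mat) :=
        (Units.mul_right_inj g).1 h3.symm
      rw [h4]; exact hk
  have hT : ∀ (v : Fin m ⊕ Fin m → F) (c : F) (x : Fin m ⊕ Fin m → F),
      toEquiv ((SympTrans.toSpGL (SympTrans.T v c)) : GL (Fin m ⊕ Fin m) F) x =
      x + tt B c v x := fun v c x => by
    rw [toEquiv_apply, SympTrans.toSpGL_coe, tt_apply, hBa, smul_smul]
    exact SympTrans.app_T v c x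
  refine ⟨lt_of_le_not_ge inf_le_right fun hge => ?_, fun M h1 h2 => ?_⟩
  · obtain ⟨a, x, ha, hax, hjax⟩ := SympUSix.exists_moving hS
    have hN' := (hge (SympTrans.toSpGL (SympTrans.T x 1)).2).1
    set g : GL (Fin m ⊕ Fin m) F :=
      ((SympTrans.toSpGL (SympTrans.T x 1)) : GL (Fin m ⊕ Fin m) F) with hg
    obtain ⟨p, q, hpq⟩ := SympU.exists_span (by omega) hK hj hjs ((hN' j).1 hj)
    have hga : toEquiv g a = a := by
      rw [hg, hT, tt_apply, hax, zero_smul, smul_zero, add_zero]
    have e : toEquiv g (J a) = p • a + q • J a := by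
      have h3 := congrArg (fun k => k *ᵥ toEquiv g a) hpq
      simp only [toEquiv_apply, mulVec_mulVec, mul_assoc, Units.inv_mul, mul_one, add_mulVec,
        smul_mulVec, one_mul] at h3
      rw [← mulVec_mulVec, ← mulVec_mulVec, ← toEquiv_apply, ← toEquiv_apply g a, hga, add_mulVec,
        smul_mulVec, smul_mulVec, one_mulVec] at h3
      rw [hJa]
      exact h3
    rw [hg, hT, tt_apply, one_smul] at e
    have h4 := congrArg (fun z => B z (J a)) e
    simp only [map_add, map_smul, LinearMap.add_apply, LinearMap.smul_apply, hS.alt, smul_eq_mul,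
      mul_zero, zero_add, add_zero] at h4
    rw [SympUSix.bswap hS (J a) x, SympUSix.bswap hS (J a) a, ha] at h4
    simp only [neg_zero, mul_zero] at h4
    exact hjax (mul_self_eq_zero.1 (by linear_combination -h4))
  set M' := M.map (toEquiv (ι := Fin m ⊕ Fin m) (F := F)).toMonoidHom with hM'
  have hunit : ∀ e : (Fin m ⊕ Fin m → F) ≃ₗ[F] (Fin m ⊕ Fin m → F),
      (∀ x y, B (e x) (e y) = B x y) → (∀ x, e (J x) = J (e x)) → e ∈ M' := by
    intro e he hej
    have hex : ∀ x, toEquiv (toEquiv.symm e) x = e x := fun x => by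
      rw [MulEquiv.apply_symm_apply]
    refine ⟨toEquiv.symm e, h1 ⟨hN _ fun x => ?_, fun x y => ?_⟩, toEquiv.apply_symm_apply _⟩
    · rw [hex, hex, hej]
    · show B (toEquiv (toEquiv.symm e) x) (toEquiv (toEquiv.symm e) y) = B x y
      rw [hex, hex]
      exact he x y
  have hover : SympUSix.Over B J d M' := by
    refine Over.of_unit hS ?_ hunit
    rintro _ ⟨g, hg, rfl⟩ x y
    exact h2 hg x y
  by_cases hbad : ∃ g ∈ M', ∃ a : Fin m ⊕ Fin m → F, B (J a) a = 0 ∧
      ∀ α β : F, g (J a) ≠ α • g a + β • J (g a)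
  · right
    obtain ⟨g, hg, a, ha, hmove⟩ := hbad
    obtain ⟨y, hy, hC⟩ := SympUSix.exists_cen_of_moved hS hover hg ha hmove
    have hall : ∀ (v : Fin m ⊕ Fin m → F) (c : F),
        ((SympTrans.toSpGL (SympTrans.T v c)) : GL (Fin m ⊕ Fin m) F) ∈ M := by
      intro v c
      obtain ⟨_, ⟨g', hg', rfl⟩, hx⟩ := SympUSix.cen_all hS hover hy hC v c
      have : g' = ((SympTrans.toSpGL (SympTrans.T v c)) : GL (Fin m ⊕ Fin m) F) := toEquiv.injective
        (LinearEquiv.ext fun x => by rw [hT]; exact hx x)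
      exact this ▸ hg'
    refine le_antisymm h2 fun g hg => ?_
    obtain ⟨s, hs⟩ := SympTrans.toSpGL_surjective (⟨g, hg⟩ : Cfsg.spGL m F)
    have hle : SympTrans.gen (Set.univ : Set (Fin m ⊕ Fin m → F)) ≤
        (M.comap (Cfsg.spGL m F).subtype).comap SympTrans.toSpGL := by
      rw [SympTrans.gen, Subgroup.closure_le]
      rintro _ ⟨v, -, c, rfl⟩
      exact hall v c
    have := hle (show s ∈ SympTrans.gen (Set.univ : Set (Fin m ⊕ Fin m → F)) by
      rw [SympTrans.gen_univ]; trivial)
    rw [Subgroup.mem_comap, hs] at this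
    exact this
  · left
    push Not at hbad
    refine le_antisymm (fun g hg => ⟨fun k => ?_, h2 hg⟩) h1
    have key : ∀ g ∈ M, ∀ k ∈ K, (g : Mat) * k * ((g⁻¹ : GL (Fin m ⊕ Fin m) F) : Mat) ∈ K := by
      intro g hg k hk
      obtain ⟨ε, hε⟩ := SympUSix.conj_eq hS hover (g := toEquiv g) ⟨g, hg, rfl⟩
        fun a ha => hbad _ ⟨g, hg, rfl⟩ a ha
      obtain ⟨p, q, rfl⟩ := SympU.exists_span (by omega) hK hj hjs hk
      have e : (g : Mat) * j = (ε • j) * (g : Mat) := by
        refine Matrix.ext_iff_mulVec.2 fun x => ?_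
        have := hε x
        simp only [toEquiv_apply, hJa] at this
        rw [← mulVec_mulVec, ← mulVec_mulVec, smul_mulVec]
        exact this
      simp only [mul_add, add_mul, mul_smul_comm, smul_mul_assoc, mul_one, Units.mul_inv]
      rw [e, mul_assoc, Units.mul_inv, mul_one]
      exact K.add_mem (K.smul_mem K.one_mem p) (K.smul_mem (K.smul_mem hj ε) q)
    refine ⟨key g hg k, fun h => ?_⟩
    have h3 := key g⁻¹ (M.inv_mem hg) _ h
    simpa [mul_assoc, ← mul_assoc ((g⁻¹ : GL (Fin m ⊕ Fin m) F) : Mat)] using h3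

end CfsgLib.SympUSix
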