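import Mathlib
import Cfsg.Prelude.Def_GeometricClasses

set_option autoImplicit false
set_option linter.unusedSectionVars false

/-!
A tensor product stabiliser whose first factor only has monomial symmetries lies in the stabiliser
of a decomposition, hence it is not maximal as soon as the classical group is rich enough.
-/

namespace CfsgLib.Classical.TensorMonomial

open Matrix
open scoped Kronecker

variable {F : Type*} [Field F] {ι : Type} [Fintype ι] [DecidableEq ι] {n₁ n₂ : ℕ}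

/-- The pure tensor of two coordinate vectors. -/
def tv (e : ι ≃ Fin n₁ × Fin n₂) (P : GL ι F) :
    (Fin n₁ → F) →ₗ[F] (Fin n₂ → F) →ₗ[F] (ι → F) :=
  LinearMap.mk₂ F (fun x y => (P : Matrix ι ι F) *ᵥ ((fun a : Fin n₁ × Fin n₂ => x a.1 * y a.2) ∘ e))
    (fun x x' y => by rw [← Matrix.mulVec_add]; congr 1; ext i; simp [add_mul])
    (fun r x y => by rw [← Matrix.mulVec_smul]; congr 1; ext i; simp [mul_assoc])
    (fun x y y' => by rw [← Matrix.mulVec_add]; congr 1; ext i; simp [mul_add])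
    (fun r x y => by rw [← Matrix.mulVec_smul]; congr 1; ext i; simp [mul_left_comm])

theorem tv_apply (e : ι ≃ Fin n₁ × Fin n₂) (P : GL ι F) (x : Fin n₁ → F) (y : Fin n₂ → F) :
    tv e P x y =
      (P : Matrix ι ι F) *ᵥ ((fun a : Fin n₁ × Fin n₂ => x a.1 * y a.2) ∘ e) := rfl

theorem kron_mulVec (A : Matrix (Fin n₁) (Fin n₁) F) (B : Matrix (Fin n₂) (Fin n₂) F)
    (x : Fin n₁ → F) (y : Fin n₂ → F) :
    (A ⊗ₖ B) *ᵥ (fun a => x a.1 * y a.2) = fun a => (A *ᵥ x) a.1 * (B *ᵥ y) a.2 := by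
  funext a
  simp only [mulVec, dotProduct, Matrix.kroneckerMap_apply, Fintype.sum_prod_type, Finset.sum_mul_sum]
  exact Finset.sum_congr rfl fun i _ => Finset.sum_congr rfl fun j _ => by ring

theorem exists_factors (e : ι ≃ Fin n₁ × Fin n₂) (P : GL ι F) {g : GL ι F}
    (hg : g ∈ Cfsg.Geo.tensorProductSubgroup n₁ n₂ e P) :
    ∃ (A : (Fin n₁ → F) → (Fin n₁ → F)) (B : (Fin n₂ → F) → (Fin n₂ → F)),
      ∀ x y, (g : Matrix ι ι F) *ᵥ tv e P x y = tv e P (A x) (B y) := by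
  obtain ⟨h, ⟨k, ⟨a, b, hk⟩, rfl⟩, rfl⟩ := hg
  refine ⟨fun x => a.1 *ᵥ x, fun y => b.1 *ᵥ y, fun x y => ?_⟩
  simp only [MulEquiv.coe_toMonoidHom, MulAut.conj_apply, Units.val_mul, tv_apply, mulVec_mulVec]
  rw [mul_assoc, Units.inv_mul, mul_one, ← mulVec_mulVec]
  congr 1
  show (Matrix.reindexAlgEquiv F F e.symm k.1) *ᵥ _ = _
  rw [Matrix.reindexAlgEquiv_apply, Matrix.reindex_apply, Matrix.submatrix_mulVec_equiv,
    Equiv.symm_symm, Function.comp_assoc, Equiv.self_comp_symm, Function.comp_id, hk, kron_mulVec]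
  rfl

/-- A sesquilinear form is given by its Gram matrix. -/
theorem eq_formOfGram {κ : Type} [Fintype κ] [DecidableEq κ] {σ : F →+* F}
    {f : (κ → F) → (κ → F) → F} (hal : ∀ x y v, f (x + y) v = f x v + f y v)
    (hsl : ∀ (c : F) x v, f (c • x) v = c * f x v)
    (har : ∀ v x y, f v (x + y) = f v x + f v y)
    (hsr : ∀ (c : F) v x, f v (c • x) = σ c * f v x) (x y : κ → F) :
    Cfsg.Geo.formOfGram σ (Cfsg.Geo.gramMatrix f) x y = f x y := by
  have hx : ∀ z : κ → F, z = ∑ a, z a • (Pi.single a (1 : F) : κ → F) := fun z => by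
    funext b
    simp [Finset.sum_apply, Pi.single_apply]
  have hL : ∀ (v : κ → F) (c : κ → F),
      f (∑ a, c a • (Pi.single a (1 : F) : κ → F)) v = ∑ a, c a * f (Pi.single a 1) v := by
    intro v c
    rw [show f (∑ a, c a • (Pi.single a (1 : F) : κ → F)) v =
      (AddMonoidHom.mk' (fun z => f z v) (fun p q => hal p q v)) (∑ a, c a • Pi.single a 1) from rfl,
      map_sum]
    exact Finset.sum_congr rfl fun a _ => hsl _ _ _
  have hR : ∀ (v : κ → F) (c : κ → F),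
      f v (∑ a, c a • (Pi.single a (1 : F) : κ → F)) = ∑ a, σ (c a) * f v (Pi.single a 1) := by
    intro v c
    rw [show f v (∑ a, c a • (Pi.single a (1 : F) : κ → F)) =
      (AddMonoidHom.mk' (fun z => f v z) (fun p q => har v p q)) (∑ a, c a • Pi.single a 1) from rfl,
      map_sum]
    exact Finset.sum_congr rfl fun a _ => hsr _ _ _
  conv_rhs => rw [hx x, hx y]
  rw [hL]
  unfold Cfsg.Geo.formOfGram Cfsg.Geo.gramMatrix
  refine Finset.sum_congr rfl fun a _ => ?_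
  rw [hR, Finset.mul_sum]
  exact Finset.sum_congr rfl fun b _ => by ring

/-- The form on pure tensors. -/
theorem exists_form {e : ι ≃ Fin n₁ × Fin n₂} {P : GL ι F} {σ : F →+* F} {σ' : F → F}
    (hσ : ∀ x, σ' x = σ x) {f : (ι → F) → (ι → F) → F}
    {f₁ : (Fin n₁ → F) → (Fin n₁ → F) → F} {f₂ : (Fin n₂ → F) → (Fin n₂ → F) → F}
    (h₁ : ∀ x x', Cfsg.Geo.formOfGram σ (Cfsg.Geo.gramMatrix f₁) x x' = f₁ x x')
    (h₂ : ∀ y y', Cfsg.Geo.formOfGram σ (Cfsg.Geo.gramMatrix f₂) y y' = f₂ y y')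
    (hT : Cfsg.Geo.IsTensorFormStructure σ' f f₁ f₂ e P) :
    ∃ c : F, c ≠ 0 ∧ ∀ x y x' y', f (tv e P x y) (tv e P x' y') = c * f₁ x x' * f₂ y y' := by
  obtain ⟨c, hc, h⟩ := hT
  refine ⟨c, hc, fun x y x' y' => ?_⟩
  rw [tv_apply, tv_apply, h, mul_assoc, ← h₁, ← h₂]
  congr 1
  simp only [Cfsg.Geo.formOfGram, Matrix.kroneckerMap_apply, Fintype.sum_prod_type, Finset.sum_mul_sum, hσ,
    map_mul]
  exact Finset.sum_congr rfl fun i _ => Finset.sum_congr rfl fun j _ =>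
    Finset.sum_congr rfl fun i' _ => Finset.sum_congr rfl fun j' _ => by ring

section between

variable {k : ℕ} {T : (Fin n₁ → F) →ₗ[F] (Fin n₂ → F) →ₗ[F] (ι → F)}
  {f : (ι → F) → (ι → F) → F} {p : (Fin n₁ → F) → (Fin n₁ → F) → F}
  {h : (Fin n₂ → F) → (Fin n₂ → F) → F} {c : F} {a : Fin k → Fin n₁ → F}
  {G S : Subgroup (GL ι F)}

/-- The decomposition attached to an orthogonal frame of the first factor. -/
def dec (T : (Fin n₁ → F) →ₗ[F] (Fin n₂ → F) →ₗ[F] (ι → F)) (a : Fin k → Fin n₁ → F) :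
    Fin k → Submodule F (ι → F) :=
  fun i => LinearMap.range (T (a i))

theorem exists_tensor_between (hf0 : ∀ w, f 0 w = 0) (hc : c ≠ 0)
    (hf : ∀ x y x' y', f (T x y) (T x' y') = c * p x x' * h y y')
    (hndeg : ∀ y, y ≠ 0 → ∃ z, h y z ≠ 0)
    (horth : ∀ i j, i ≠ j → p (a i) (a j) = 0) (hne : ∀ i, p (a i) (a i) ≠ 0)
    (hS : ∀ g ∈ S, g ∈ G → ∃ (A : (Fin n₁ → F) → (Fin n₁ → F)) (B : (Fin n₂ → F) → (Fin n₂ → F)), (∀ x y, (g : Matrix ι ι F) *ᵥ T x y = T (A x) (B y)) ∧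
      ∀ i, ∃ (j : Fin k) (l : F), A (a i) = l • a j)
    (hS' : ∀ g ∈ S, ∃ (A : (Fin n₁ → F) → (Fin n₁ → F)) (B : (Fin n₂ → F) → (Fin n₂ → F)), ∀ x y, (g : Matrix ι ι F) *ᵥ T x y = T (A x) (B y))
    {i₀ i₁ j₁ : Fin k} (hi : j₁ ≠ i₀)
    {g₁ : GL ι F} (hg₁ : g₁ ∈ G) (hpres : ∀ i y, (g₁ : Matrix ι ι F) *ᵥ T (a i) y ∈ dec T a i)
    (hfix : ∀ y, (g₁ : Matrix ι ι F) *ᵥ T (a i₁) y = T (a i₁) y)
    {y₀ : Fin n₂ → F} (hy₀ : y₀ ≠ 0) (hfix₀ : (g₁ : Matrix ι ι F) *ᵥ T (a i₀) y₀ = T (a i₀) y₀)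
    {y₁ z₁ : Fin n₂ → F}
    (hmove : f ((g₁ : Matrix ι ι F) *ᵥ T (a i₀) y₁) (T (a i₀) z₁) ≠ f (T (a i₀) y₁) (T (a i₀) z₁))
    {g₂ : GL ι F} (hg₂ : g₂ ∈ G) {y₂ y₃ z₃ : Fin n₂ → F} (hy₂ : y₂ ≠ 0)
    (hfix₂ : (g₂ : Matrix ι ι F) *ᵥ T (a i₀) y₂ = T (a i₀) y₂)
    (hmove₂ : f ((g₂ : Matrix ι ι F) *ᵥ T (a i₀) y₃) (T (a j₁) z₃) ≠ 0) :
    ∃ K : Subgroup (GL ι F), S ⊓ G < K ∧ K < G := by
  classical
  have hpair : ∀ i j w, w ∈ dec T a i → ∀ z, i ≠ j → f w (T (a j) z) = 0 := by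
    rintro i j w ⟨y, rfl⟩ z hij
    rw [hf, horth i j hij, mul_zero, zero_mul]
  have hinj : ∀ i, Function.Injective (T (a i)) := by
    intro i
    rw [injective_iff_map_eq_zero]
    intro y hy
    by_contra h0
    obtain ⟨z, hz⟩ := hndeg y h0
    have := hf (a i) y (a i) z
    rw [hy, hf0] at this
    exact mul_ne_zero (mul_ne_zero hc (hne i)) hz this.symm
  have hrank : ∀ i, Module.finrank F (dec T a i) = n₂ := fun i => by
    rw [dec, LinearMap.finrank_range_of_inj (hinj i), Module.finrank_fin_fun]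
  have hmap : ∀ (g : GL ι F) i j, (∀ y, (g : Matrix ι ι F) *ᵥ T (a i) y ∈ dec T a j) →
      (dec T a i).map (Matrix.toLin' (g : Matrix ι ι F)) = dec T a j := by
    intro g i j hg
    refine Submodule.eq_of_le_of_finrank_eq ?_ ?_
    · rintro w ⟨_, ⟨y, rfl⟩, rfl⟩
      rw [Matrix.toLin'_apply]
      exact hg y
    · have hgi : Function.Injective (Matrix.toLin' (g : Matrix ι ι F)) := fun v w e => by
        simp only [Matrix.toLin'_apply] at e
        have := congrArg (fun u => (↑g⁻¹ : Matrix ι ι F) *ᵥ u) e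
        simpa [mulVec_mulVec] using this
      rw [← (Submodule.equivMapOfInjective _ hgi _).finrank_eq, hrank, hrank]
  refine ⟨Cfsg.Geo.decompositionStabilizer (dec T a) ⊓ G, lt_of_le_not_ge ?_ fun hge => ?_,
    lt_of_le_not_ge inf_le_right fun hge => ?_⟩
  · rintro g ⟨hg, hgG⟩
    obtain ⟨A, B, hAB, hmono⟩ := hS g hg hgG
    choose σ l hl using hmono
    have hσ : ∀ i, (dec T a i).map (Matrix.toLin' (g : Matrix ι ι F)) = dec T a (σ i) := fun i =>
      hmap g i _ fun y => ⟨l i • B y, by rw [hAB, hl, map_smul, map_smul, LinearMap.smul_apply]⟩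
    have hinjσ : Function.Injective σ := by
      intro i j hij
      have e : dec T a i = dec T a j := by
        have e' : (dec T a i).map (Matrix.toLin' (g : Matrix ι ι F)) =
            (dec T a j).map (Matrix.toLin' (g : Matrix ι ι F)) := by rw [hσ, hσ, hij]
        refine Submodule.map_injective_of_injective (fun v w e => ?_) e'
        simp only [Matrix.toLin'_apply] at e
        have := congrArg (fun u => (↑g⁻¹ : Matrix ι ι F) *ᵥ u) e
        simpa [mulVec_mulVec] using this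
      by_contra hne'
      have hw : T (a i) y₀ ∈ dec T a j := e ▸ LinearMap.mem_range_self _ _
      obtain ⟨z, hz⟩ := hndeg y₀ hy₀
      have := hpair j i _ hw z (Ne.symm hne')
      rw [hf] at this
      exact mul_ne_zero (mul_ne_zero hc (hne i)) hz this
    exact ⟨⟨Equiv.ofBijective σ (Finite.injective_iff_bijective.1 hinjσ), hσ⟩, hgG⟩
  · have h1 : g₁ ∈ Cfsg.Geo.decompositionStabilizer (dec T a) :=
      ⟨1, fun i => hmap g₁ i i (hpres i)⟩
    obtain ⟨A, B, hAB⟩ := hS' g₁ (hge ⟨h1, hg₁⟩).1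
    obtain ⟨z₀, hz₀⟩ := hndeg y₀ hy₀
    have e₁ : ∀ y z, p (A (a i₁)) (a i₁) * h (B y) z = p (a i₁) (a i₁) * h y z := by
      intro y z
      have := congrArg (fun w => f w (T (a i₁) z)) ((hAB _ y).symm.trans (hfix y))
      simp only [hf, mul_assoc] at this
      exact mul_left_cancel₀ hc this
    have hA₁ : p (A (a i₁)) (a i₁) ≠ 0 := fun e => by
      have := e₁ y₀ z₀
      rw [e, zero_mul] at this
      exact mul_ne_zero (hne i₁) hz₀ this.symm
    set μ := p (a i₁) (a i₁) / p (A (a i₁)) (a i₁)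
    have e₂ : ∀ y z, h (B y) z = μ * h y z := fun y z => by
      rw [div_mul_eq_mul_div, eq_div_iff hA₁, ← e₁]; ring
    have e₃ := congrArg (fun w => f w (T (a i₀) z₀)) ((hAB _ y₀).symm.trans hfix₀)
    simp only [hf, e₂, ← mul_assoc] at e₃
    have e₄ := mul_right_cancel₀ hz₀ e₃
    apply hmove
    rw [hAB, hf, hf, e₂, ← mul_assoc, e₄]
  · obtain ⟨σ, hσ⟩ := (hge hg₂).1
    have hm : ∀ y, (g₂ : Matrix ι ι F) *ᵥ T (a i₀) y ∈ dec T a (σ i₀) := fun y =>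
      hσ i₀ ▸ ⟨T (a i₀) y, LinearMap.mem_range_self _ _, Matrix.toLin'_apply _ _⟩
    have h₀ : σ i₀ = i₀ := by
      by_contra hne'
      obtain ⟨z, hz⟩ := hndeg y₂ hy₂
      have := hpair _ i₀ _ (hfix₂ ▸ hm y₂) z hne'
      rw [hf] at this
      exact mul_ne_zero (mul_ne_zero hc (hne _)) hz this
    have h₁ : σ i₀ = j₁ := by
      by_contra hne'
      exact hmove₂ (hpair _ j₁ _ (hm y₃) z₃ hne')
    exact hi (h₁.symm.trans h₀)

/-- The criterion when the group contains all transvections at isotropic points. -/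
theorem exists_between_trans (hf0 : ∀ w, f 0 w = 0) (hc : c ≠ 0)
    (hal : ∀ x y v, f (x + y) v = f x v + f y v)
    (hsl : ∀ (r : F) x v, f (r • x) v = r * f x v)
    (har : ∀ v x y, f v (x + y) = f v x + f v y)
    (hf : ∀ x y x' y', f (T x y) (T x' y') = c * p x x' * h y y')
    (hndeg : ∀ y, y ≠ 0 → ∃ z, h y z ≠ 0)
    (horth : ∀ i j, i ≠ j → p (a i) (a j) = 0) (hne : ∀ i, p (a i) (a i) ≠ 0)
    (hS : ∀ g ∈ S, g ∈ G → ∃ (A : (Fin n₁ → F) → (Fin n₁ → F)) (B : (Fin n₂ → F) → (Fin n₂ → F)), (∀ x y, (g : Matrix ι ι F) *ᵥ T x y = T (A x) (B y)) ∧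
      ∀ i, ∃ (j : Fin k) (l : F), A (a i) = l • a j)
    (hS' : ∀ g ∈ S, ∃ (A : (Fin n₁ → F) → (Fin n₁ → F)) (B : (Fin n₂ → F) → (Fin n₂ → F)), ∀ x y, (g : Matrix ι ι F) *ᵥ T x y = T (A x) (B y))
    (hG : ∀ u, f u u = 0 → ∃ g ∈ G, ∃ r : F, r ≠ 0 ∧
      ∀ x, (g : Matrix ι ι F) *ᵥ x = x + (r * f x u) • u)
    {i₀ i₁ : Fin k} (hi : i₁ ≠ i₀)
    {w y : Fin n₂ → F} (hw : w ≠ 0) (hww : h w w = 0) (hyw : h y w ≠ 0) (hwy : h w y ≠ 0)
    {z y' y₂ : Fin n₂ → F} (hzz : p (a i₀) (a i₀) * h z z + p (a i₁) (a i₁) * h z z = 0)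
    (hyz : h y' z ≠ 0) (hzy : h z y' ≠ 0) (hy₂ : y₂ ≠ 0) (hy₂z : h y₂ z = 0) :
    ∃ K : Subgroup (GL ι F), S ⊓ G < K ∧ K < G := by
  obtain ⟨g₁, hg₁, r₁, hr₁, e₁⟩ := hG (T (a i₀) w) (by rw [hf, hww, mul_zero])
  have hvv : f (T (a i₀) z + T (a i₁) z) (T (a i₀) z + T (a i₁) z) = 0 := by
    rw [hal, har, har, hf, hf, hf, hf, horth _ _ hi, horth _ _ hi.symm]
    linear_combination c * hzz
  obtain ⟨g₂, hg₂, r₂, hr₂, e₂⟩ := hG _ hvv
  refine exists_tensor_between hf0 hc hf hndeg horth hne hS hS' (i₀ := i₀) (i₁ := i₁) (j₁ := i₁) hi hg₁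
    (fun i v => ?_) (fun v => ?_) hw ?_ (y₁ := y) (z₁ := y) ?_ hg₂ (y₂ := y₂) (y₃ := y') (z₃ := y')
    hy₂ ?_ ?_
  · rw [e₁]
    rcases eq_or_ne i i₀ with rfl | hij
    · exact Submodule.add_mem _ (LinearMap.mem_range_self _ _)
        (Submodule.smul_mem _ _ (LinearMap.mem_range_self _ _))
    · rw [hf, horth _ _ hij, mul_zero, zero_mul, mul_zero, zero_smul, add_zero]
      exact LinearMap.mem_range_self _ _
  · rw [e₁, hf, horth _ _ hi, mul_zero, zero_mul, mul_zero, zero_smul, add_zero]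
  · rw [e₁, hf, hww, mul_zero, mul_zero, zero_smul, add_zero]
  · rw [e₁, hal, hsl, hf, hf, hf]
    intro e
    exact mul_ne_zero (mul_ne_zero hr₁ (mul_ne_zero (mul_ne_zero hc (hne _)) hyw))
      (mul_ne_zero (mul_ne_zero hc (hne _)) hwy) (add_eq_left.1 e)
  · rw [e₂, har, hf, hf, hy₂z, horth _ _ hi.symm]
    simp
  · rw [e₂, hal, hsl, har, hal, hf, hf, hf, hf, hf, horth _ _ hi.symm]
    simp only [mul_zero, zero_mul, add_zero, zero_add]
    exact mul_ne_zero (mul_ne_zero hr₂ (mul_ne_zero (mul_ne_zero hc (hne _)) hyz))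
      (mul_ne_zero (mul_ne_zero hc (hne _)) hzy)

end between

end CfsgLib.Classical.TensorMonomial
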