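import Cfsg.Agent.Lib.Classical.UnitaryMax

set_option autoImplicit false

/-!
Elations of the Hermitian space: the parameters inside a subgroup, and generation of `SU_n(q)` by
the elations at one point together with an element moving it off its perpendicular.
-/

namespace CfsgLib.Classical.Elation

open Matrix Cfsg CfsgLib.Classical.Herm
open CfsgLib.ClassicalAut (Unitary.Conj Unitary.space Unitary.herm_apply)

variable {F : Type*} [Field F] [Finite F] {q : ℕ} (K : Unitary.Conj F q) {n : ℕ}

/-- The elation at `e` with parameters `x`, `t`. -/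
def IsSg (g : SU n F q) (e x : Fin n → F) (t : F) : Prop :=
  hermForm n F q e e = 0 ∧ hermForm n F q x e = 0 ∧ hermForm n F q x x + t + K.bar t = 0 ∧
    ∀ w, app g w = w + hermForm n F q w e • x - hermForm n F q w x • e +
      (t * hermForm n F q w e) • e

theorem exists_sg (hn : 3 ≤ n) {e x : Fin n → F} {t : F} (he : hermForm n F q e e = 0)
    (hx : hermForm n F q x e = 0) (ht : hermForm n F q x x + t + K.bar t = 0) :
    ∃ g : SU n F q, IsSg K g e x t := by
  obtain ⟨g, hg⟩ := exists_siegel K hn he hx ht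
  exact ⟨g, he, hx, ht, hg⟩

theorem sg_unique {g g' : SU n F q} {e x : Fin n → F} {t : F} (h : IsSg K g e x t)
    (h' : IsSg K g' e x t) : g = g' := ext_app fun w => by rw [h.2.2.2, h'.2.2.2]

theorem app_eq {g : SU n F q} {e x : Fin n → F} {t : F} (h : IsSg K g e x t) (w : Fin n → F) :
    app g w = w + hermForm n F q w e • x - hermForm n F q w x • e +
      (t * hermForm n F q w e) • e := h.2.2.2 w

theorem app_self {g : SU n F q} {e x : Fin n → F} {t : F} (h : IsSg K g e x t) : app g e = e := by
  rw [app_eq K h, h.1, h_eq_zero_symm K h.2.1]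
  module

theorem sg_mul {g g' : SU n F q} {e x x' : Fin n → F} {t t' : F} (h : IsSg K g e x t)
    (h' : IsSg K g' e x' t') : IsSg K (g * g') e (x + x') (t + t' - hermForm n F q x' x) := by
  refine ⟨h.1, by rw [h_add_left K, h.2.1, h'.2.1, add_zero], ?_, fun w => ?_⟩
  · rw [h_add_left K, h_add_right K, h_add_right K, map_sub, map_add, h_swap K x' x]
    linear_combination h.2.2.1 + h'.2.2.1
  · rw [app_mul, app_eq K h', app_eq K h]
    simp only [h_add_left K, h_sub_left K, h_smul_left K, h_add_right K, h'.2.1, h.1,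
      h_eq_zero_symm K h.2.1]
    module

theorem sg_one {e : Fin n → F} (he : hermForm n F q e e = 0) : IsSg K (1 : SU n F q) e 0 0 := by
  refine ⟨he, h_zero_left K _, by simp [h_zero_left K], fun w => ?_⟩
  rw [app_one, h_zero_right K]
  module

theorem sg_inv {g : SU n F q} {e x : Fin n → F} {t : F} (h : IsSg K g e x t) :
    IsSg K g⁻¹ e (-x) (K.bar t) := by
  have hxe : hermForm n F q (-x) e = 0 := by
    rw [← neg_one_smul F x, h_smul_left K, h.2.1, mul_zero]
  have hval : hermForm n F q (-x) (-x) + K.bar t + K.bar (K.bar t) = 0 := by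
    rw [← neg_one_smul F x, h_smul_left K, h_smul_right K, map_neg, map_one, K.bar_bar]
    linear_combination h.2.2.1
  refine ⟨h.1, hxe, hval, fun w => ?_⟩
  have e1 : ∀ z, app g (z + hermForm n F q z e • (-x) - hermForm n F q z (-x) • e +
      (K.bar t * hermForm n F q z e) • e) = z := fun z => by
    rw [← neg_one_smul F x, app_eq K h]
    simp only [h_add_left K, h_sub_left K, h_smul_left K, h_smul_right K, h.2.1, h.1,
      h_eq_zero_symm K h.2.1, map_neg, map_one]
    match_scalars
    · ring
    · ring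
    · linear_combination (hermForm n F q z e) * h.2.2.1
  conv_lhs => rw [← e1 w, app_inv]

theorem sg_conj {g : SU n F q} {e x : Fin n → F} {t : F} (h : IsSg K g e x t) (s : SU n F q) :
    IsSg K (s * g * s⁻¹) (app s e) (app s x) t := by
  refine ⟨by rw [h_app, h.1], by rw [h_app, h.2.1], by rw [h_app]; exact h.2.2.1, fun w => ?_⟩
  have e1 : ∀ z, hermForm n F q w (app s z) = hermForm n F q (app s⁻¹ w) z := fun z => by
    conv_lhs => rw [← app_inv' s w, h_app]
  rw [app_mul, app_mul, app_eq K h, e1, e1]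
  conv_rhs => arg 1; arg 1; arg 1; rw [← app_inv' s w]
  simp only [sub_eq_add_neg, app_add, app_smul, ← neg_smul]

theorem sg_smul {g : SU n F q} {e x : Fin n → F} {t : F} (c : F) (h : IsSg K g (c • e) x t)
    (he : hermForm n F q e e = 0) (hxe : hermForm n F q x e = 0) :
    IsSg K g e (K.bar c • x) (c * K.bar c * t) := by
  refine ⟨he, by rw [h_smul_left K, hxe, mul_zero], ?_, fun w => ?_⟩
  · rw [h_smul_left K, h_smul_right K, K.bar_bar, map_mul, map_mul, K.bar_bar]
    linear_combination (c * K.bar c) * h.2.2.1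
  · rw [app_eq K h, h_smul_right K, h_smul_right K, K.bar_bar]
    module

theorem sg_add_self {g : SU n F q} {e x : Fin n → F} {t : F} (γ : F) (h : IsSg K g e x t) :
    IsSg K g e (x + γ • e) (t - γ + K.bar γ) := by
  refine ⟨h.1, by rw [h_add_left K, h_smul_left K, h.2.1, h.1, mul_zero, add_zero], ?_,
    fun w => ?_⟩
  · rw [h_add_left K, h_add_right K, h_add_right K, h_smul_left K, h_smul_left K, h_smul_right K,
      h_smul_right K, h.1, h.2.1, h_eq_zero_symm K h.2.1, map_add, map_sub, K.bar_bar]
    linear_combination h.2.2.1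
  · rw [app_eq K h, h_add_right K, h_smul_right K]
    module

theorem isT_iff {g : SU n F q} {e : Fin n → F} {c : F} : IsT K g e c ↔ IsSg K g e 0 c := by
  have : ∀ w : Fin n → F, w + hermForm n F q w e • (0 : Fin n → F) - hermForm n F q w 0 • e +
      (c * hermForm n F q w e) • e = w + (c * hermForm n F q w e) • e := fun w => by
    rw [h_zero_right K]; module
  constructor
  · rintro ⟨h1, h2, h3⟩
    exact ⟨h1, h_zero_left K _, by rw [h_zero_left K, zero_add, h2], fun w => by rw [h3, this]⟩
  · rintro ⟨h1, -, h2, h3⟩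
    rw [h_zero_left K, zero_add] at h2
    exact ⟨h1, h2, fun w => by rw [h3, this]⟩

/-- The parameters of the elations at `e` inside `M`. -/
def pars (M : Subgroup (SU n F q)) {e : Fin n → F} (he : hermForm n F q e e = 0) :
    AddSubgroup (Fin n → F) where
  carrier := {x | ∃ g ∈ M, ∃ t, IsSg K g e x t}
  add_mem' := fun {x y} ⟨g, hg, t, h⟩ ⟨g', hg', t', h'⟩ =>
    ⟨g * g', mul_mem hg hg', _, sg_mul K h h'⟩
  zero_mem' := ⟨1, one_mem _, 0, sg_one K he⟩
  neg_mem' := fun {x} ⟨g, hg, t, h⟩ => ⟨g⁻¹, inv_mem hg, _, sg_inv K h⟩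

variable {M : Subgroup (SU n F q)} {e : Fin n → F} (he : hermForm n F q e e = 0)

theorem pars_stab {s : SU n F q} (hs : s ∈ M) (hse : app s e = e) {x : Fin n → F}
    (hx : x ∈ pars K M he) : app s x ∈ pars K M he := by
  obtain ⟨g, hg, t, h⟩ := hx
  refine ⟨s * g * s⁻¹, mul_mem (mul_mem hs hg) (inv_mem hs), t, ?_⟩
  have := sg_conj K h s
  rwa [hse] at this

theorem smul_self_mem_pars (γ : F) : γ • e ∈ pars K M he := by
  refine ⟨1, one_mem _, 0 - γ + K.bar γ, ?_⟩
  have := sg_add_self K γ (sg_one K he)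
  rwa [zero_add] at this

/-- Two parameters give the transvection at their commutator. -/
theorem isT_comm {x y : Fin n → F} (hx : x ∈ pars K M he) (hy : y ∈ pars K M he) :
    ∃ g ∈ M, IsT K g e (hermForm n F q x y - hermForm n F q y x) := by
  obtain ⟨g, hg, t, h⟩ := hx
  obtain ⟨g', hg', t', h'⟩ := hy
  refine ⟨g * g' * (g' * g)⁻¹, mul_mem (mul_mem hg hg') (inv_mem (mul_mem hg' hg)), ?_⟩
  have h1 := sg_mul K (sg_mul K h h') (sg_inv K (sg_mul K h' h))
  rw [isT_iff]
  have h2 := (sg_mul K h' h).2.2.1
  convert h1 using 1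
  · abel
  · rw [← neg_one_smul F (y + x), h_smul_left K, h_add_left K, h_add_right K, h_add_right K]
    rw [h_add_left K, h_add_right K, h_add_right K] at h2
    rw [map_sub, map_add, ← h_swap K x y] at h2 ⊢
    linear_combination -h2

/-- Full parameters and full transvections give every elation. -/
theorem sg_mem (hT : ∀ g c, IsT K g e c → g ∈ M) {g : SU n F q} {x : Fin n → F} {t : F}
    (h : IsSg K g e x t) (hx : x ∈ pars K M he) : g ∈ M := by
  obtain ⟨g', hg', t', h'⟩ := hx
  have h1 := sg_mul K (sg_inv K h') h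
  rw [neg_add_cancel, ← isT_iff] at h1
  have := M.mul_mem hg' (hT _ _ h1)
  rwa [mul_inv_cancel_left] at this

include he in
/-- The transvections at `e`, from a parameter line and a second vector. -/
theorem all_T {x y : Fin n → F} (hx : ∀ γ : F, γ • x ∈ pars K M he) (hy : y ∈ pars K M he)
    (hxy : hermForm n F q x y ≠ 0) : ∀ g c, IsT K g e c → g ∈ M := by
  intro g c hg
  obtain ⟨s, hs⟩ := CfsgLib.ClassicalAut.Unitary.skewSurj (n := n) K c (by
    show (1 : F) * c + K.bar c = 0
    rw [one_mul]; exact hg.2.1)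
  change s - 1 * K.bar s = c at hs
  obtain ⟨g', hg', h'⟩ := isT_comm K he (hx (s / hermForm n F q x y)) hy
  rw [h_smul_left K, h_smul_right K, h_swap K x y, ← map_mul, div_mul_cancel₀ _ hxy] at h'
  rw [one_mul] at hs
  rw [hs] at h'
  have : g = g' := ext_app fun w => by rw [hg.2.2, h'.2.2]
  exact this ▸ hg'

/-- The elations at `e` and one element moving `e` off its perpendicular generate. -/
theorem eq_top_of_elations (hn : 3 ≤ n) (h32 : ¬ (n = 3 ∧ q = 2))
    (hT : ∀ g c, IsT K g e c → g ∈ M)
    (hQ : ∀ x, hermForm n F q x e = 0 → x ∈ pars K M he) {s : SU n F q} (hs : s ∈ M)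
    (hse : hermForm n F q (app s e) e ≠ 0) : M = ⊤ := by
  set S := Unitary.space (n := n) K
  have hec : e ∈ centres K M := ⟨he, hT⟩
  set f₀ := app s e
  have hf₀ : f₀ ∈ centres K M := app_mem_centres K hs hec
  set f := (hermForm n F q f₀ e)⁻¹ • f₀
  have hfc : f ∈ centres K M := smul_mem_centres K _ hf₀
  have hfe : hermForm n F q f e = 1 := by rw [h_smul_left K, inv_mul_cancel₀ hse]
  have hef : hermForm n F q e f = 1 := by rw [h_swap K f e, hfe, map_one]
  have off : ∀ r, hermForm n F q r r = 0 → hermForm n F q r e ≠ 0 → r ∈ centres K M := by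
    intro r hr hre
    have hr' : hermForm n F q ((hermForm n F q r e)⁻¹ • r) ((hermForm n F q r e)⁻¹ • r) = 0 := by
      rw [h_smul_left K, h_smul_right K, hr, mul_zero, mul_zero]
    have hre' : hermForm n F q ((hermForm n F q r e)⁻¹ • r) e = 1 := by
      rw [h_smul_left K, inv_mul_cancel₀ hre]
    obtain ⟨x, t, hxe, -, ht, hmap⟩ := S.exists_E_map (v := e) (f := f) he hfc.1 hef hr' hre'
    change hermForm n F q x x + 1 * t + K.bar t = 0 at ht
    rw [one_mul] at ht
    obtain ⟨g, hg⟩ := exists_sg K hn he hxe ht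
    have hgf : app g f = (hermForm n F q r e)⁻¹ • r := by
      rw [app_eq K hg, ← hmap, S.E_apply]
      show _ = f + hermForm n F q f e • x - (1 * hermForm n F q f x) • e +
        (t * hermForm n F q f e) • e
      rw [one_mul]
    have := smul_mem_centres K (hermForm n F q r e)
      (app_mem_centres K (sg_mem K he hT hg (hQ x hxe)) hfc)
    rwa [hgf, smul_smul, mul_inv_cancel₀ hre, one_smul] at this
  rw [eq_top_iff, ← gen_top K hn h32]
  refine gen_le K fun v _ hv => ?_
  by_cases hve : hermForm n F q v e = 0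
  swap
  · exact off v hv hve
  by_cases hv0 : v = 0
  · rw [hv0, show (0 : Fin n → F) = (0 : F) • e by rw [zero_smul]]
    exact smul_mem_centres K _ hec
  obtain ⟨r, hr, hre, hrv⟩ := S.exists_common_opposite he
    (ne_zero_of_h K (x := e) (y := f) (by rw [hef]; exact one_ne_zero)) hv hv0
  obtain ⟨c, hc0, hc⟩ := exists_skew K
  obtain ⟨g, hg⟩ := exists_T K (v := r) hr hc
  have hgM : g ∈ M := (off r hr hre).2 g c hg
  have h1 : app g v ∈ centres K M := by
    refine off _ (by rw [h_app, hv]) ?_
    rw [hg.2.2, h_add_left K, hve, h_smul_left K, zero_add]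
    exact mul_ne_zero (mul_ne_zero hc0 (h_ne_zero_symm K hrv)) hre
  have h2 := app_mem_centres K (inv_mem hgM) h1
  rwa [app_inv] at h2

end CfsgLib.Classical.Elation
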