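import Cfsg.Agent.Lib.Classical.UnitaryElation

set_option autoImplicit false

/-!
A hyperbolic basis of the odd-dimensional Hermitian space and the regular unipotent element
attached to it.
-/

namespace CfsgLib.Classical.URegGen

open Matrix Cfsg CfsgLib.Classical.Herm CfsgLib.Classical.Elation
open CfsgLib.ClassicalAut (Unitary.Conj Unitary.space Unitary.herm_apply)

variable {F : Type*} [Field F] [Finite F] {q : ℕ}

/-- A hyperbolic basis of `F^(2k+1)`. -/
structure HB (k n : ℕ) (q : ℕ) (F : Type*) [Field F] where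
  E : ℕ → (Fin n → F)
  Fv : ℕ → (Fin n → F)
  z : Fin n → F
  ee : ∀ i j, hermForm n F q (E i) (E j) = 0
  ff : ∀ i j, hermForm n F q (Fv i) (Fv j) = 0
  fe : ∀ i j, i < k → j < k → hermForm n F q (Fv i) (E j) = if i = j then 1 else 0
  ze : ∀ j, hermForm n F q z (E j) = 0
  zf : ∀ j, hermForm n F q z (Fv j) = 0
  zz : hermForm n F q z z = 1
  perp : ∀ x, (∀ j, j < k → hermForm n F q x (E j) = 0 ∧ hermForm n F q x (Fv j) = 0) →
    hermForm n F q x z = 0 → x = 0

/-- The vector `α δ_{2j} + β δ_{2j+1}`. -/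
def pairVec (k : ℕ) (α β : F) (j : ℕ) : Fin (2 * k + 1) → F :=
  if h : j < k then
    α • Pi.single ⟨2 * j, by omega⟩ 1 + β • Pi.single ⟨2 * j + 1, by omega⟩ 1
  else 0

theorem h_pair_right (K : Unitary.Conj F q) {k : ℕ} (α β : F) {j : ℕ} (hj : j < k)
    (x : Fin (2 * k + 1) → F) : hermForm (2 * k + 1) F q x (pairVec k α β j) =
      K.bar α * x ⟨2 * j, by omega⟩ + K.bar β * x ⟨2 * j + 1, by omega⟩ := by
  rw [pairVec, dif_pos hj, h_add_right K, h_smul_right K, h_smul_right K, h_single K, h_single K]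

theorem pairVec_apply {k : ℕ} (α β : F) {j : ℕ} (hj : j < k) (i : Fin (2 * k + 1)) :
    pairVec k α β j i = if (i : ℕ) = 2 * j then α else if (i : ℕ) = 2 * j + 1 then β else 0 := by
  rw [pairVec, dif_pos hj]
  simp only [Pi.add_apply, Pi.smul_apply, Pi.single_apply, Fin.ext_iff, smul_eq_mul]
  by_cases h1 : (i : ℕ) = 2 * j
  · simp [h1]
  · by_cases h2 : (i : ℕ) = 2 * j + 1 <;> simp [h1, h2]

theorem exists_hb (K : Unitary.Conj F q) (k : ℕ) : Nonempty (HB k (2 * k + 1) q F) := by
  obtain ⟨c, hc⟩ := K.exists_norm (-1) (by rw [map_neg, map_one])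
  obtain ⟨y, hy⟩ := K.exists_trace
  set s := y / (y + K.bar y) with hs
  have hss : s + K.bar s = 1 := by
    rw [hs, map_div₀, map_add, K.bar_bar, add_comm (K.bar y) y, ← add_div, div_self hy]
  set E := pairVec (F := F) k 1 c with hE
  set Fv := pairVec (F := F) k s (-(K.bar s) * c) with hFv
  have out : ∀ (α β : F) (j : ℕ), ¬ j < k → pairVec k α β j = 0 := fun α β j hj => by
    rw [pairVec, dif_neg hj]
  have hc0 : c ≠ 0 := fun e => by simp [e] at hc
  refine ⟨⟨E, Fv, Pi.single ⟨2 * k, by omega⟩ 1, ?_, ?_, ?_, ?_, ?_, ?_, ?_⟩⟩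
  · intro i j
    by_cases hj : j < k
    swap
    · rw [hE, out _ _ j hj, h_zero_right K]
    by_cases hi : i < k
    swap
    · rw [hE, out _ _ i hi, h_zero_left K]
    rw [hE, h_pair_right K _ _ hj, pairVec_apply _ _ hi, pairVec_apply _ _ hi]
    by_cases h : j = i
    · subst h; simp; linear_combination hc
    · simp [h, show 2 * j ≠ 2 * i + 1 by omega, show 2 * j + 1 ≠ 2 * i by omega]
  · intro i j
    by_cases hj : j < k
    swap
    · rw [hFv, out _ _ j hj, h_zero_right K]
    by_cases hi : i < k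
    swap
    · rw [hFv, out _ _ i hi, h_zero_left K]
    rw [hFv, h_pair_right K _ _ hj, pairVec_apply _ _ hi, pairVec_apply _ _ hi]
    by_cases h : j = i
    · subst h; simp [map_mul, K.bar_bar]; linear_combination (s * K.bar s) * hc
    · simp [h, show 2 * j ≠ 2 * i + 1 by omega, show 2 * j + 1 ≠ 2 * i by omega]
  · intro i j hi hj
    rw [hE, hFv, h_pair_right K _ _ hj, pairVec_apply _ _ hi, pairVec_apply _ _ hi]
    by_cases h : j = i
    · subst h; simp; linear_combination hss - (K.bar s) * hc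
    · simp [h, Ne.symm h, show 2 * j ≠ 2 * i + 1 by omega, show 2 * j + 1 ≠ 2 * i by omega]
  · intro j
    by_cases hj : j < k
    swap
    · rw [hE, out _ _ j hj, h_zero_right K]
    rw [hE, h_pair_right K _ _ hj]
    simp [Fin.ext_iff, show k ≠ j by omega, show 2 * j + 1 ≠ 2 * k by omega]
  · intro j
    by_cases hj : j < k
    swap
    · rw [hFv, out _ _ j hj, h_zero_right K]
    rw [hFv, h_pair_right K _ _ hj]
    simp [Fin.ext_iff, show k ≠ j by omega, show 2 * j + 1 ≠ 2 * k by omega]
  · rw [h_single_single K, if_pos rfl]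
  · intro x hx hz
    rw [h_single K] at hz
    funext i
    show x i = 0
    rcases Nat.lt_or_ge (i : ℕ) (2 * k) with hi | hi
    · set j := (i : ℕ) / 2 with hj
      have hjk : j < k := by omega
      obtain ⟨h1, h2⟩ := hx j hjk
      rw [hE, h_pair_right K _ _ hjk, map_one, one_mul] at h1
      rw [hFv, h_pair_right K _ _ hjk, map_mul, map_neg, K.bar_bar] at h2
      have h0 : x ⟨2 * j, by omega⟩ = 0 := by
        linear_combination h2 + s * h1 - (x ⟨2 * j, by omega⟩) * hss
      rw [h0, zero_add] at h1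
      have h1' := (mul_eq_zero.1 h1).resolve_left ((map_ne_zero K.bar).2 hc0)
      rcases Nat.mod_two_eq_zero_or_one (i : ℕ) with hm | hm
      · convert h0 using 2
        exact Fin.ext (show (i : ℕ) = 2 * j by omega)
      · convert h1' using 2
        exact Fin.ext (show (i : ℕ) = 2 * j + 1 by omega)
    · convert hz using 2
      exact Fin.ext (show (i : ℕ) = 2 * k by have := i.2; omega)

variable {k n : ℕ} (B : HB k n q F)

theorem HB.ef (K : Unitary.Conj F q) {i j : ℕ} (hi : i < k) (hj : j < k) :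
    hermForm n F q (B.E i) (B.Fv j) = if i = j then 1 else 0 := by
  rw [h_swap K (B.Fv j) (B.E i), B.fe j i hj hi]
  by_cases h : j = i
  · subst h; simp
  · simp [h, Ne.symm h]

theorem HB.ez (K : Unitary.Conj F q) (j : ℕ) : hermForm n F q (B.E j) B.z = 0 :=
  h_eq_zero_symm K (B.ze j)

theorem HB.fz (K : Unitary.Conj F q) (j : ℕ) : hermForm n F q (B.Fv j) B.z = 0 :=
  h_eq_zero_symm K (B.zf j)

theorem h_neg_left (K : Unitary.Conj F q) (x y : Fin n → F) :
    hermForm n F q (-x) y = -hermForm n F q x y := by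
  rw [← neg_one_smul F x, h_smul_left K, neg_one_mul]

theorem h_neg_right (K : Unitary.Conj F q) (x y : Fin n → F) :
    hermForm n F q x (-y) = -hermForm n F q x y := by
  rw [← neg_one_smul F y, h_smul_right K, map_neg, map_one, neg_one_mul]

theorem exists_levi (K : Unitary.Conj F q) (hn : 3 ≤ n) :
    ∀ j, j < k → ∃ M : SU n F q,
      (∀ i, i < k → app M (B.E i) =
        if 1 ≤ i ∧ i ≤ j then B.E i + B.E (i - 1) else B.E i) ∧
      (∀ i, i < j → app M (B.Fv i + B.Fv (i + 1)) = B.Fv i) ∧
      (∀ i, j ≤ i → i < k → app M (B.Fv i) = B.Fv i) ∧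
      app M B.z = B.z := by
  intro j
  induction j with
  | zero =>
    intro _
    exact ⟨1, fun i _ => by rw [app_one, if_neg (by omega)], fun i hi => absurd hi (Nat.not_lt_zero i),
      fun i _ _ => app_one _, app_one _⟩
  | succ j ih =>
    intro hj
    obtain ⟨M, hME, hMs, hMF, hMz⟩ := ih (by omega)
    obtain ⟨g, hg⟩ := exists_sg K (e := B.E j) (x := -B.Fv (j + 1)) (t := 0) hn (B.ee _ _)
      (by rw [← neg_one_smul F (B.Fv (j + 1)), h_smul_left K, B.fe _ _ hj (by omega),
        if_neg (by omega), mul_zero])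
      (by rw [h_neg_right K, ← neg_one_smul F (B.Fv (j + 1)), h_smul_left K, B.ff]; simp)
    have gE : ∀ i, i < k → app g (B.E i) = if i = j + 1 then B.E i + B.E j else B.E i := by
      intro i hi
      rw [app_eq K hg, B.ee, h_neg_right K, B.ef K hi hj]
      split_ifs with h <;> module
    have gF : ∀ i, i < k → app g (B.Fv i) = if i = j then B.Fv i - B.Fv (j + 1) else B.Fv i := by
      intro i hi
      rw [app_eq K hg, B.fe i j hi (by omega), h_neg_right K, B.ff]
      split_ifs with h <;> module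
    have gz : app g B.z = B.z := by
      rw [app_eq K hg, B.ze, h_neg_right K, B.zf]
      module
    refine ⟨g * M, fun i hi => ?_, fun i hi => ?_, fun i hi hi' => ?_, by rw [app_mul, hMz, gz]⟩
    · rw [app_mul, hME i hi]
      by_cases h1 : 1 ≤ i ∧ i ≤ j
      · rw [if_pos h1, if_pos ⟨h1.1, by omega⟩, app_add, gE i hi, gE _ (by omega), if_neg (by omega),
          if_neg (by omega)]
      · rw [if_neg h1, gE i hi]
        by_cases h2 : i = j + 1
        · rw [if_pos h2, if_pos ⟨by omega, by omega⟩, h2, Nat.add_sub_cancel]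
        · rw [if_neg h2, if_neg (by omega)]
    · rcases Nat.lt_succ_iff_lt_or_eq.1 hi with hi | hi
      · rw [app_mul, hMs i hi, gF i (by omega), if_neg (by omega)]
      · subst hi
        rw [app_mul, app_add, hMF i le_rfl (by omega), hMF (i + 1) (by omega) hj, app_add,
          gF i (by omega), if_pos rfl, gF (i + 1) hj, if_neg (by omega), sub_add_cancel]
    · rw [app_mul, hMF i (by omega) hi', gF i hi', if_neg (by omega)]

/-- The regular unipotent element. -/
structure RegU (K : Unitary.Conj F q) (B : HB k n q F) (u : SU n F q) (a b : F) : Prop where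
  e0 : app u (B.E 0) = B.E 0
  es : ∀ j, j + 1 < k → app u (B.E (j + 1)) = B.E (j + 1) + B.E j
  fs : ∀ j, j + 1 < k → app u (B.Fv j + B.Fv (j + 1)) = B.Fv j
  fl : app u (B.Fv (k - 1)) = B.Fv (k - 1) - K.bar a • B.z + b • B.E (k - 1)
  z : app u B.z = B.z + a • B.E (k - 1)

theorem exists_regU (K : Unitary.Conj F q) (hn : 3 ≤ n) (hk : 0 < k) {a b : F}
    (hab : a * K.bar a + b + K.bar b = 0) : ∃ u : SU n F q, RegU K B u a b := by
  obtain ⟨M, hME, hMs, hMF, hMz⟩ := exists_levi B K hn (k - 1) (by omega)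
  obtain ⟨g, hg⟩ := exists_sg K (e := B.E (k - 1)) (x := (-K.bar a) • B.z) (t := b) hn (B.ee _ _)
    (by rw [h_smul_left K, B.ze, mul_zero])
    (by rw [h_smul_left K, h_smul_right K, B.zz, map_neg, K.bar_bar]; linear_combination hab)
  have gE : ∀ i, i < k → app g (B.E i) = B.E i := fun i hi => by
    rw [app_eq K hg, B.ee, h_smul_right K, B.ez K]
    module
  refine ⟨g * M, ⟨?_, fun j hj => ?_, fun j hj => ?_, ?_, ?_⟩⟩
  · rw [app_mul, hME 0 hk, if_neg (by omega), gE 0 hk]
  · rw [app_mul, hME _ hj, if_pos ⟨by omega, by omega⟩, Nat.add_sub_cancel, app_add, gE _ hj,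
      gE j (by omega)]
  · rw [app_mul, hMs j (by omega), app_eq K hg, B.fe _ _ (by omega) (by omega), if_neg (by omega),
      h_smul_right K, B.fz K]
    module
  · rw [app_mul, hMF _ le_rfl (by omega), app_eq K hg, B.fe _ _ (by omega) (by omega), if_pos rfl,
      h_smul_right K, B.fz K]
    module
  · rw [app_mul, hMz, app_eq K hg, B.ze, h_smul_right K, B.zz, map_neg, K.bar_bar]
    module

theorem app_sub' (g : SU n F q) (x y : Fin n → F) : app g (x - y) = app g x - app g y := by
  rw [sub_eq_add_neg, app_add, ← neg_one_smul F y, app_smul]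
  module

theorem nilpotent_shape {K : Unitary.Conj F q} {u : SU n F q} {a b : F} (hu : RegU K B u a b)
    (hk : 0 < k) (ha : a ≠ 0) :
    IsNilpotent ((u.1 : Matrix (Fin n) (Fin n) F) - 1) ∧
      ((u.1 : Matrix (Fin n) (Fin n) F) - 1) ^ (2 * k) ≠ 0 := by
  set N := (u.1 : Matrix (Fin n) (Fin n) F) - 1
  have hN : ∀ x, N *ᵥ x = app u x - x := fun x => by rw [sub_mulVec, one_mulVec]; rfl
  have hs : ∀ (j : ℕ) (x : Fin n → F), (N ^ (j + 1)) *ᵥ x = (N ^ j) *ᵥ (N *ᵥ x) :=
    fun j x => by rw [pow_succ, mulVec_mulVec]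
  have hEk : ∀ i, i < k → (N ^ i) *ᵥ B.E i = B.E 0 ∧ ∀ j, i < j → (N ^ j) *ᵥ B.E i = 0 := by
    intro i
    induction i with
    | zero =>
      refine fun _ => ⟨by simp, fun j hj => ?_⟩
      obtain ⟨j, rfl⟩ : ∃ j', j = j' + 1 := ⟨j - 1, by omega⟩
      rw [hs, hN, hu.e0, sub_self, mulVec_zero]
    | succ i ih =>
      intro hi
      have e : N *ᵥ B.E (i + 1) = B.E i := by rw [hN, hu.es i hi]; abel
      refine ⟨by rw [hs, e]; exact (ih (by omega)).1, fun j hj => ?_⟩
      obtain ⟨j, rfl⟩ : ∃ j', j = j' + 1 := ⟨j - 1, by omega⟩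
      rw [hs, e]; exact (ih (by omega)).2 j (by omega)
  have ez : N *ᵥ B.z = a • B.E (k - 1) := by rw [hN, hu.z]; abel
  have hz : (N ^ k) *ᵥ B.z = a • B.E 0 ∧ ∀ j, k < j → (N ^ j) *ᵥ B.z = 0 := by
    refine ⟨?_, fun j hj => ?_⟩
    · calc (N ^ k) *ᵥ B.z = (N ^ (k - 1)) *ᵥ (N *ᵥ B.z) := by
            rw [← hs, Nat.sub_add_cancel hk]
        _ = _ := by rw [ez, mulVec_smul, (hEk _ (by omega)).1]
    · obtain ⟨j, rfl⟩ : ∃ j', j = j' + 1 := ⟨j - 1, by omega⟩
      rw [hs, ez, mulVec_smul, (hEk _ (by omega)).2 j (by omega), smul_zero]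
  have hFk : ∀ t, t < k → (N ^ (k + 1 + t)) *ᵥ B.Fv (k - 1 - t) =
        ((-1) ^ t * -(a * K.bar a)) • B.E 0 ∧
      ∀ j, k + 1 + t < j → (N ^ j) *ᵥ B.Fv (k - 1 - t) = 0 := by
    intro t
    induction t with
    | zero =>
      intro _
      have e : N *ᵥ B.Fv (k - 1) = -(K.bar a • B.z) + b • B.E (k - 1) := by rw [hN, hu.fl]; abel
      refine ⟨?_, fun j hj => ?_⟩
      · rw [Nat.sub_zero, hs, e, mulVec_add, mulVec_neg, mulVec_smul, mulVec_smul, hz.1,
          (hEk _ (by omega)).2 k (by omega)]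
        module
      · obtain ⟨j, rfl⟩ : ∃ j', j = j' + 1 := ⟨j - 1, by omega⟩
        rw [Nat.sub_zero, hs, e, mulVec_add, mulVec_neg, mulVec_smul, mulVec_smul,
          hz.2 j (by omega), (hEk _ (by omega)).2 j (by omega)]
        simp
    | succ t ih =>
      intro ht
      obtain ⟨ih1, ih2⟩ := ih (by omega)
      obtain ⟨i, hi⟩ : ∃ i, k - 1 - t = i + 1 := ⟨k - 2 - t, by omega⟩
      rw [hi] at ih1 ih2
      rw [show k - 1 - (t + 1) = i by omega]
      have e : N *ᵥ B.Fv i = -B.Fv (i + 1) - N *ᵥ B.Fv (i + 1) := by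
        rw [hN, hN]
        linear_combination (norm := module) hu.fs i (by omega) - app_add u (B.Fv i) (B.Fv (i + 1))
      refine ⟨?_, fun j hj => ?_⟩
      · rw [show k + 1 + (t + 1) = (k + 1 + t) + 1 by omega, hs, e, mulVec_sub, mulVec_neg, ih1,
          ← hs, ih2 _ (by omega)]
        module
      · obtain ⟨j, rfl⟩ : ∃ j', j = j' + 1 := ⟨j - 1, by omega⟩
        rw [hs, e, mulVec_sub, mulVec_neg, ih2 _ (by omega), ← hs, ih2 _ (by omega)]
        simp
  -- the transpose powers annihilate everything, seen through the form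
  refine ⟨⟨2 * k + 1, Matrix.ext_of_mulVec_single fun i => ?_⟩, fun h => ?_⟩
  · rw [zero_mulVec]
    have key : ∀ x, (∀ j, j < k → (N ^ (2 * k + 1)) *ᵥ B.E j = 0) → (N ^ (2 * k + 1)) *ᵥ x = 0 := by
      intro x _
      set s := ∑ j ∈ Finset.range k,
        (hermForm n F q x (B.Fv j) • B.E j + hermForm n F q x (B.E j) • B.Fv j) +
        hermForm n F q x B.z • B.z with hsdef
      have hx : x = s := by
        have hsum : ∀ (f : ℕ → (Fin n → F)) (y : Fin n → F),
            hermForm n F q (∑ j ∈ Finset.range k, f j) y =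
              ∑ j ∈ Finset.range k, hermForm n F q (f j) y := fun f y => by
            induction (Finset.range k) using Finset.induction_on with
            | empty => simp [h_zero_left K]
            | insert a t ha ih => rw [Finset.sum_insert ha, Finset.sum_insert ha, h_add_left K, ih]
        rw [← sub_eq_zero]
        refine B.perp _ (fun i hi => ⟨?_, ?_⟩) ?_
        · rw [h_sub_left K, hsdef, h_add_left K, hsum, Finset.sum_eq_single i (fun j hj hne => by
            rw [h_add_left K, h_smul_left K, h_smul_left K, B.ee,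
              B.fe j i (Finset.mem_range.1 hj) hi, if_neg hne]; ring)
            (fun h => absurd (Finset.mem_range.2 hi) h), h_add_left K, h_smul_left K,
            h_smul_left K, h_smul_left K, B.ee, B.ze, B.fe i i hi hi, if_pos rfl]
          ring
        · rw [h_sub_left K, hsdef, h_add_left K, hsum, Finset.sum_eq_single i (fun j hj hne => by
            rw [h_add_left K, h_smul_left K, h_smul_left K, B.ff,
              B.ef K (Finset.mem_range.1 hj) hi, if_neg hne]; ring)
            (fun h => absurd (Finset.mem_range.2 hi) h), h_add_left K, h_smul_left K,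
            h_smul_left K, h_smul_left K, B.ff, B.zf, B.ef K hi hi, if_pos rfl]
          ring
        · rw [h_sub_left K, hsdef, h_add_left K, hsum, Finset.sum_eq_zero (fun j _ => by
            rw [h_add_left K, h_smul_left K, h_smul_left K, B.ez K, B.fz K]; ring),
            h_smul_left K, B.zz]
          ring
      rw [hx, hsdef, mulVec_add, mulVec_sum, mulVec_smul, hz.2 _ (by omega), smul_zero, add_zero]
      refine Finset.sum_eq_zero fun j hj => ?_
      have hj' := Finset.mem_range.1 hj
      have hFj := (hFk (k - 1 - j) (by omega)).2 (2 * k + 1) (by omega)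
      rw [show k - 1 - (k - 1 - j) = j by omega] at hFj
      rw [mulVec_add, mulVec_smul, mulVec_smul, (hEk j hj').2 _ (by omega), hFj, smul_zero,
        smul_zero, add_zero]
    exact key _ (fun j hj => (hEk j hj).2 _ (by omega))
  · have := (hFk (k - 1) (by omega)).1
    rw [show k + 1 + (k - 1) = 2 * k by omega, h, zero_mulVec] at this
    have h' := congrArg (fun v => hermForm n F q (B.Fv 0) v) this
    simp only [h_zero_right K, h_smul_right K, B.fe 0 0 hk hk, if_pos, mul_one] at h'
    have h'' := h'.symm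
    rw [map_eq_zero] at h''
    simp [ha] at h''

end CfsgLib.Classical.URegGen
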