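import Cfsg.Agent.Lib.Classical.UnitaryStab
import Cfsg.Agent.Lib.Classical.UnitaryTrans

/-!
Involutions of `SU_3(q)`, `q` odd: all conjugate to `diag(1, -1, -1)`, with centralizer `GU_2(q)`.
-/

set_option autoImplicit false
set_option linter.style.haveILetI false

namespace CfsgLib.Classical.SU3Invol

open Matrix Cfsg CfsgLib.Classical.Herm
open CfsgLib.ClassicalAut (Unitary.Conj Unitary.herm_apply)
open scoped MatrixGroups

variable {F : Type*} [Field F] [Finite F] {q : ℕ} (K : Unitary.Conj F q)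

/-- The matrix of an element. -/
abbrev mat (g : SU 3 F q) : Matrix (Fin 3) (Fin 3) F := (g.1 : Matrix (Fin 3) (Fin 3) F)

omit [Finite F] in
theorem mat_ext {g h : SU 3 F q} (e : mat g = mat h) : g = h := Subtype.ext (Subtype.ext e)

/-- The matrix `diag(c) ⊕ A`. -/
def blkMat (c : F) (A : Matrix (Fin 2) (Fin 2) F) : Matrix (Fin 3) (Fin 3) F :=
  !![c, 0, 0; 0, A 0 0, A 0 1; 0, A 1 0, A 1 1]

theorem det_blk (c : F) (A : Matrix (Fin 2) (Fin 2) F) : (blkMat c A).det = c * A.det := by
  simp [blkMat, det_fin_three, det_fin_two]; ring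

theorem blk_mul (c c' : F) (A B : Matrix (Fin 2) (Fin 2) F) :
    blkMat c A * blkMat c' B = blkMat (c * c') (A * B) := by
  ext i j
  fin_cases i <;> fin_cases j <;> simp [blkMat, Matrix.mul_apply, Fin.sum_univ_three, Fin.sum_univ_two]

theorem blk_one : blkMat (1 : F) 1 = 1 := by
  ext i j; fin_cases i <;> fin_cases j <;> simp [blkMat]

include K in
theorem blk_mem {c : F} (hc : c * K.bar c = 1) (A : GU 2 F q) (u v : Fin 3 → F) :
    hermForm 3 F q (blkMat c ((A : GL (Fin 2) F) : Matrix (Fin 2) (Fin 2) F) *ᵥ u)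
      (blkMat c ((A : GL (Fin 2) F) : Matrix (Fin 2) (Fin 2) F) *ᵥ v) = hermForm 3 F q u v := by
  have h := A.2 ![u 1, u 2] ![v 1, v 2]
  rw [Unitary.herm_apply K, Unitary.herm_apply K] at h ⊢
  simp only [Units.coeHom_apply, Matrix.mulVec, dotProduct, Fin.sum_univ_two, Matrix.cons_val_zero,
    Matrix.cons_val_one, Matrix.cons_val_fin_one] at h
  simp [blkMat, Matrix.mulVec, dotProduct, Fin.sum_univ_three]
  simp only [map_add, map_mul] at h
  linear_combination h + (u 0 * K.bar (v 0)) * hc

include K in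
theorem det_norm (A : GU 2 F q) :
    ((A : GL (Fin 2) F) : Matrix (Fin 2) (Fin 2) F).det⁻¹ *
      K.bar ((A : GL (Fin 2) F) : Matrix (Fin 2) (Fin 2) F).det⁻¹ = 1 := by
  set M := ((A : GL (Fin 2) F) : Matrix (Fin 2) (Fin 2) F)
  have h : ∀ i j, ∑ k, M k i * K.bar (M k j) = if i = j then 1 else 0 := by
    intro i j
    have h := A.2 (Pi.single i 1) (Pi.single j 1)
    rw [Unitary.herm_apply K, Unitary.herm_apply K] at h
    simp only [Units.coeHom_apply, Matrix.mulVec_single_one, Matrix.col_apply] at h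
    rw [h]
    by_cases e : i = j
    · subst e; simp [Finset.sum_eq_single i, Pi.single_apply]
    · rw [if_neg e]
      exact Finset.sum_eq_zero fun k _ => by
        by_cases hk : k = i
        · subst hk; simp [Pi.single_apply, e]
        · simp [Pi.single_apply, hk]
  have h00 := h 0 0; have h01 := h 0 1; have h10 := h 1 0; have h11 := h 1 1
  simp [Fin.sum_univ_two] at h00 h01 h10 h11
  have e : M.det * K.bar M.det = 1 := by
    rw [det_fin_two, map_sub, map_mul, map_mul]
    linear_combination (M 0 1 * K.bar (M 0 1) + M 1 1 * K.bar (M 1 1)) * h00 + h11 -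
      (M 0 1 * K.bar (M 0 0) + M 1 1 * K.bar (M 1 0)) * h01
  have h0 : M.det ≠ 0 := fun h => by simp [h] at e
  have h0' : K.bar M.det ≠ 0 := (map_ne_zero K.bar).2 h0
  rw [map_inv₀, ← mul_inv, e, inv_one]

/-- `A ↦ (det A)⁻¹ ⊕ A`. -/
noncomputable def blk : GU 2 F q →* SU 3 F q where
  toFun A := ⟨⟨blkMat ((A : GL (Fin 2) F) : Matrix (Fin 2) (Fin 2) F).det⁻¹ (A : GL (Fin 2) F), by
      rw [det_blk, inv_mul_cancel₀]
      exact (A : GL (Fin 2) F).det_ne_zero⟩,
    fun u v => blk_mem K (det_norm K A) A u v⟩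
  map_one' := mat_ext (by simp [mat, blk_one])
  map_mul' A B := mat_ext (by
    show blkMat _ _ = blkMat _ _ * blkMat _ _
    rw [blk_mul, Subgroup.coe_mul, Units.val_mul, det_mul, _root_.mul_inv_rev, mul_comm])

theorem blk_val (A : GU 2 F q) : mat (blk K A) =
    blkMat ((A : GL (Fin 2) F) : Matrix (Fin 2) (Fin 2) F).det⁻¹ (A : GL (Fin 2) F) := rfl

theorem blk_injective : Function.Injective (blk K (F := F) (q := q)) := by
  intro A B h
  have h' := congrArg mat h
  rw [blk_val, blk_val] at h'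
  refine Subtype.ext (Units.ext (Matrix.ext fun i j => ?_))
  have := congrFun (congrFun h' i.succ) j.succ
  fin_cases i <;> fin_cases j <;> simpa [blkMat] using this

include K in
/-- `diag(1, -1, -1)` as a member. -/
theorem dMat_mem (u v : Fin 3 → F) :
    hermForm 3 F q (diagonal (![1, -1, -1] : Fin 3 → F) *ᵥ u) (diagonal ![1, -1, -1] *ᵥ v) =
      hermForm 3 F q u v := by
  rw [Unitary.herm_apply K, Unitary.herm_apply K]
  simp [Matrix.mulVec_diagonal, Fin.sum_univ_three]

/-- The standard involution. -/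
def dElt : SU 3 F q :=
  ⟨⟨diagonal ![1, -1, -1], by simp [det_diagonal, Fin.prod_univ_three]⟩, dMat_mem K⟩

theorem dElt_mul_self : dElt K * dElt K = 1 := by
  refine mat_ext ?_
  show diagonal (![1, -1, -1] : Fin 3 → F) * diagonal ![1, -1, -1] = 1
  rw [diagonal_mul_diagonal]
  ext i j; fin_cases i <;> fin_cases j <;> simp

theorem dElt_ne_one (h2 : (2 : F) ≠ 0) : dElt K ≠ 1 := fun h => by
  have := congrFun (congrFun (congrArg mat h) 1) 1
  simp [mat, dElt] at this
  exact h2 (by linear_combination -this)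

theorem mem_centralizer_dElt (h2 : (2 : F) ≠ 0) {g : SU 3 F q}
    (hg : dElt K * g = g * dElt K) : ∃ A, blk K A = g := by
  have he := congrArg mat hg
  have e : ∀ i j, (![1, -1, -1] : Fin 3 → F) i * mat g i j = mat g i j * (![1, -1, -1] : Fin 3 → F) j := by
    intro i j
    have he' : diagonal (![1, -1, -1] : Fin 3 → F) * mat g = mat g * diagonal ![1, -1, -1] := he
    have := congrFun (congrFun he' i) j
    rwa [Matrix.diagonal_mul, Matrix.mul_diagonal] at this
  have z : ∀ x : F, x = -x → x = 0 := fun x hx => by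
    refine (mul_eq_zero.mp (show (2 : F) * x = 0 by linear_combination hx)).resolve_left h2
  have e01 := z _ (by simpa using e 0 1)
  have e02 := z _ (by simpa using e 0 2)
  have e10 := z _ (by simpa using (e 1 0).symm)
  have e20 := z _ (by simpa using (e 2 0).symm)
  set M := mat g with hMdef
  set A0 : Matrix (Fin 2) (Fin 2) F := !![M 1 1, M 1 2; M 2 1, M 2 2]
  have hM : M = blkMat (M 0 0) A0 := by
    ext i j; fin_cases i <;> fin_cases j <;> simp [blkMat, A0, e01, e02, e10, e20]
  have hdet : M 0 0 * A0.det = 1 := by rw [← det_blk, ← hM]; exact g.1.2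
  have hA0 : A0.det ≠ 0 := fun h => by simp [h] at hdet
  have hmem : GeneralLinearGroup.mkOfDetNeZero A0 hA0 ∈ GU 2 F q := by
    intro u v
    have h := g.2 ![0, u 0, u 1] ![0, v 0, v 1]
    change hermForm 3 F q (M *ᵥ ![0, u 0, u 1]) (M *ᵥ ![0, v 0, v 1]) = _ at h
    rw [Unitary.herm_apply K, Unitary.herm_apply K] at h
    show hermForm 2 F q (A0 *ᵥ u) (A0 *ᵥ v) = _
    rw [Unitary.herm_apply K, Unitary.herm_apply K]
    simpa [Matrix.mulVec, dotProduct, Fin.sum_univ_three, Fin.sum_univ_two, A0, e01, e02] using h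
  refine ⟨⟨_, hmem⟩, mat_ext ?_⟩
  show blkMat A0.det⁻¹ A0 = M
  rw [← eq_inv_of_mul_eq_one_left hdet, ← hM]

theorem blk_comm (A : GU 2 F q) : dElt K * blk K A = blk K A * dElt K := by
  refine mat_ext ?_
  show diagonal (![1, -1, -1] : Fin 3 → F) * blkMat _ _ = blkMat _ _ * diagonal ![1, -1, -1]
  ext i j
  fin_cases i <;> fin_cases j <;> simp [blkMat, Matrix.diagonal_mul, Matrix.mul_diagonal]

theorem centralizer_eq (h2 : (2 : F) ≠ 0) :
    Subgroup.centralizer ({dElt K} : Set (SU 3 F q)) = (blk K).range := by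
  ext g
  rw [Subgroup.mem_centralizer_singleton_iff]
  exact ⟨fun h => mem_centralizer_dElt K h2 h.symm, by rintro ⟨A, rfl⟩; exact (blk_comm K A).symm⟩

include K in
theorem card_centralizer (h2 : (2 : F) ≠ 0) :
    Nat.card (Subgroup.centralizer ({dElt K} : Set (SU 3 F q))) = q * (q + 1) * (q ^ 2 - 1) := by
  rw [centralizer_eq K h2,
    ← Nat.card_congr (MonoidHom.ofInjective (blk_injective K)).toEquiv, card_GU K (n := 2)]
  norm_num [Finset.prod_range_succ]
  ring

include K in
/-- Every involution is conjugate to the standard one. -/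
theorem exists_conj_dElt (h2 : (2 : F) ≠ 0) {t : SU 3 F q} (ht : t ≠ 1) (ht2 : t * t = 1) :
    ∃ g : SU 3 F q, g * dElt K * g⁻¹ = t := by
  classical
  set M := mat t with hMdef
  have hMM : M * M = 1 := congrArg mat ht2
  have hMh : ∀ u v, hermForm 3 F q (M *ᵥ u) (M *ᵥ v) = hermForm 3 F q u v := t.2
  have hMs : ∀ w, M *ᵥ (w + M *ᵥ w) = w + M *ᵥ w := fun w => by
    rw [mulVec_add, mulVec_mulVec, hMM, one_mulVec, add_comm]
  -- a fixed vector of non-zero norm
  obtain ⟨w, hwfix, hwn⟩ : ∃ w, M *ᵥ w = w ∧ hermForm 3 F q w w ≠ 0 := by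
    by_contra hcon
    push Not at hcon
    have hiso : ∀ a b, M *ᵥ a = a → M *ᵥ b = b → hermForm 3 F q a b = 0 := by
      intro a b ha hb
      have key : ∀ c : F, K.bar c * hermForm 3 F q a b + c * K.bar (hermForm 3 F q a b) = 0 := by
        intro c
        have h := hcon (a + c • b) (by rw [mulVec_add, mulVec_smul, ha, hb])
        rw [h_add_left K, h_add_right K, h_add_right K, h_smul_left K, h_smul_left K, h_smul_right K,
          h_smul_right K, hcon a ha, hcon b hb, h_swap K a b] at h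
        linear_combination h
      obtain ⟨y, hy⟩ := K.exists_moved
      have k1 := key 1
      rw [map_one, one_mul, one_mul] at k1
      have k2 := key y
      by_contra hne
      exact hy (mul_right_cancel₀ hne (by linear_combination k2 - y * k1))
    have hneg : ∀ u, M *ᵥ u = -u := by
      intro u
      have hs : hermForm 3 F q (u + M *ᵥ u) (u + M *ᵥ u) = 0 := hcon _ (hMs u)
      have hzero : u + M *ᵥ u = 0 := h_nondeg K fun v => by
        have h1 := hiso _ _ (hMs u) (hMs v)
        have h2' : hermForm 3 F q (u + M *ᵥ u) (M *ᵥ v) = hermForm 3 F q (u + M *ᵥ u) v := by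
          conv_lhs => rw [← hMs u]
          exact hMh _ _
        rw [h_add_right K, h2'] at h1
        exact (mul_eq_zero.mp (show (2 : F) * hermForm 3 F q (u + M *ᵥ u) v = 0 by
          linear_combination h1)).resolve_left h2
      exact eq_neg_of_add_eq_zero_right hzero
    have hM1 : M = -1 := Matrix.ext_of_mulVec_single fun i => by rw [hneg, neg_mulVec, one_mulVec]
    have hd : M.det = 1 := t.1.2
    rw [hM1, det_neg] at hd
    simp at hd
    exact h2 (by linear_combination -hd)
  obtain ⟨c, hc⟩ := K.exists_norm (hermForm 3 F q w w)⁻¹ (by rw [map_inv₀, bar_self K])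
  set v := c • w
  have hv1 : hermForm 3 F q v v = 1 := by
    rw [h_smul_left K, h_smul_right K, ← mul_assoc, hc, inv_mul_cancel₀ hwn]
  have hvfix : M *ᵥ v = v := by rw [mulVec_smul, hwfix]
  obtain ⟨g, -, hgv⟩ := exists_move K (n := 3) (k := 0) (u := v) (v := Pi.single 0 1)
    (fun i hi => absurd hi (Nat.not_lt_zero _)) (fun i hi => absurd hi (Nat.not_lt_zero _)) hv1
    (by rw [h_single K]; simp)
  set G := ((g : GL (Fin 3) F) : Matrix (Fin 3) (Fin 3) F)
  set G' := (((g⁻¹ : GU 3 F q) : GL (Fin 3) F) : Matrix (Fin 3) (Fin 3) F)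
  have hGG' : G * G' = 1 := Units.mul_inv (g : GL (Fin 3) F)
  have hG'G : G' * G = 1 := Units.inv_mul (g : GL (Fin 3) F)
  have hGh : ∀ u v, hermForm 3 F q (G *ᵥ u) (G *ᵥ v) = hermForm 3 F q u v := g.2
  have hG'h : ∀ u v, hermForm 3 F q (G' *ᵥ u) (G' *ᵥ v) = hermForm 3 F q u v := (g⁻¹).2
  set S := G * M * G'
  have hSS : S * S = 1 := by
    show G * M * G' * (G * M * G') = 1
    rw [show G * M * G' * (G * M * G') = G * (M * (G' * G) * M) * G' by simp only [Matrix.mul_assoc],
      hG'G, Matrix.mul_one, hMM, Matrix.mul_one, hGG']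
  have hSh : ∀ a b, hermForm 3 F q (S *ᵥ a) (S *ᵥ b) = hermForm 3 F q a b := fun a b => by
    show hermForm 3 F q ((G * M * G') *ᵥ a) ((G * M * G') *ᵥ b) = _
    rw [← mulVec_mulVec, ← mulVec_mulVec, ← mulVec_mulVec, ← mulVec_mulVec, hGh, hMh, hG'h]
  have hS0 : S *ᵥ Pi.single 0 1 = Pi.single 0 1 := by
    rw [← hgv]
    show (G * M * G') *ᵥ (G *ᵥ v) = G *ᵥ v
    rw [mulVec_mulVec, Matrix.mul_assoc, hG'G, Matrix.mul_one, ← mulVec_mulVec, hvfix]
  have hcol : ∀ i, S i 0 = (Pi.single 0 1 : Fin 3 → F) i := fun i => by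
    rw [← congrFun hS0 i, mulVec_single_one]; rfl
  have hrow : ∀ j, j ≠ 0 → S 0 j = 0 := by
    intro j hj
    have h := hSh (Pi.single j 1) (Pi.single 0 1)
    rw [hS0, h_single K, h_single K, mulVec_single_one] at h
    simpa [hj.symm] using h
  set A : Matrix (Fin 2) (Fin 2) F := !![S 1 1, S 1 2; S 2 1, S 2 2]
  have hSb : S = blkMat 1 A := by
    ext i j
    fin_cases i <;> fin_cases j <;>
      simp [blkMat, A, hcol, hrow 1 (by decide), hrow 2 (by decide)]
  have hdS : S.det = 1 := by
    show (G * M * G').det = 1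
    rw [det_mul, det_mul, show M.det = 1 from t.1.2, mul_one, ← det_mul, hGG', det_one]
  have hdA : A.det = 1 := by rw [hSb, det_blk, one_mul] at hdS; exact hdS
  have hAA : A * A = 1 := by
    have h := congrArg (fun X : Matrix (Fin 3) (Fin 3) F => (X 1 1, X 1 2, X 2 1, X 2 2)) hSS
    rw [hSb, blk_mul] at h
    simp [blkMat] at h
    ext i j; fin_cases i <;> fin_cases j <;> simp [h]
  have hadj : A.adjugate = A := by
    calc A.adjugate = A.adjugate * (A * A) := by rw [hAA, Matrix.mul_one]
      _ = A := by rw [← Matrix.mul_assoc, adjugate_mul, hdA, one_smul, Matrix.one_mul]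
  have a01 := congrFun (congrFun hadj 0) 1
  have a10 := congrFun (congrFun hadj 1) 0
  have a00 := congrFun (congrFun hadj 0) 0
  simp [adjugate_fin_two] at a01 a10 a00
  have z : ∀ x : F, -x = x → x = 0 := fun x hx =>
    (mul_eq_zero.mp (show (2 : F) * x = 0 by linear_combination -hx)).resolve_left h2
  have b01 := z _ a01
  have b10 := z _ a10
  have hsq : A 0 0 * A 0 0 = 1 := by
    rw [det_fin_two, a00, b01, zero_mul, sub_zero] at hdA
    exact hdA
  have hA : A = A 0 0 • (1 : Matrix (Fin 2) (Fin 2) F) := by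
    ext i j; fin_cases i <;> fin_cases j <;> simp [b01, b10, a00]
  rcases mul_self_eq_one_iff.mp hsq with h | h
  · exfalso
    have hS1 : S = 1 := by rw [hSb, hA, h, one_smul, blk_one]
    apply ht
    refine mat_ext ?_
    show M = 1
    calc M = G' * S * G := by
          show M = G' * (G * M * G') * G
          rw [show G' * (G * M * G') * G = G' * G * M * (G' * G) by simp only [Matrix.mul_assoc],
            hG'G, Matrix.one_mul, Matrix.mul_one]
      _ = 1 := by rw [hS1, Matrix.mul_one, hG'G]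
  · have hS1 : S = diagonal ![1, -1, -1] := by
      rw [hSb, hA, h]
      ext i j; fin_cases i <;> fin_cases j <;> simp [blkMat]
    -- correct the determinant inside the centralizer
    set δ := G'.det
    have hδG : G.det * δ = 1 := by rw [← det_mul, hGG', det_one]
    have hδ0 : δ ≠ 0 := right_ne_zero_of_mul_eq_one hδG
    have hδn : δ⁻¹ * K.bar δ⁻¹ = 1 := by
      have hN : ∀ i j, ∑ k, G' k i * K.bar (G' k j) = if i = j then 1 else 0 := by
        intro i j
        have h := hG'h (Pi.single i 1) (Pi.single j 1)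
        rw [h_single K, Unitary.herm_apply K, mulVec_single_one, mulVec_single_one] at h
        refine h.trans ?_
        rw [Pi.single_apply]
        simp [eq_comm]
      have hT : G'.transpose * G'.map K.bar = 1 := by
        ext i j; simp [Matrix.mul_apply, hN i j, Matrix.one_apply]
      have := congrArg Matrix.det hT
      rw [det_mul, det_transpose, det_one,
        show (G'.map K.bar).det = K.bar δ from (RingHom.map_det (K.bar : F →+* F) G').symm] at this
      rw [map_inv₀, ← mul_inv, this, inv_one]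
    set E : Matrix (Fin 3) (Fin 3) F := blkMat δ⁻¹ 1
    have hE : ∀ a b, hermForm 3 F q (E *ᵥ a) (E *ᵥ b) = hermForm 3 F q a b := fun a b => by
      simpa using blk_mem K hδn (1 : GU 2 F q) a b
    let x : SU 3 F q := ⟨⟨G' * E, by
        rw [det_mul, det_blk, det_one, mul_one, mul_inv_cancel₀ hδ0]⟩, fun a b => by
      show hermForm 3 F q ((G' * E) *ᵥ a) ((G' * E) *ᵥ b) = _
      rw [← mulVec_mulVec, ← mulVec_mulVec, hG'h, hE]⟩
    refine ⟨x, ?_⟩
    rw [mul_inv_eq_iff_eq_mul]
    refine mat_ext ?_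
    show G' * E * diagonal ![1, -1, -1] = M * (G' * E)
    rw [Matrix.mul_assoc, show E * diagonal (![1, -1, -1] : Fin 3 → F) = S * E by
      rw [hS1]; ext i j; fin_cases i <;> fin_cases j <;> simp [E, blkMat, Matrix.diagonal_mul],
      ← Matrix.mul_assoc, show G' * S = M * G' by
        show G' * (G * M * G') = M * G'
        rw [← Matrix.mul_assoc, ← Matrix.mul_assoc, hG'G, Matrix.one_mul], Matrix.mul_assoc]

/-- The element `d x` for an involution `x ≠ d` of the centralizer of `d`. -/
theorem comm_form (h2 : (2 : F) ≠ 0) {x : SU 3 F q} (hx : x ≠ 1) (hx2 : x * x = 1)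
    (hxd : x ≠ dElt K) (hc : dElt K * x = x * dElt K) :
    ∃ a b c : F, mat x = blkMat (-1) !![a, b; c, -a] ∧ a * a + b * c = 1 := by
  obtain ⟨A, rfl⟩ := mem_centralizer_dElt K h2 hc
  set M := ((A : GL (Fin 2) F) : Matrix (Fin 2) (Fin 2) F) with hM
  have hAA : M * M = 1 := congrArg (fun B : GU 2 F q => ((B : GL (Fin 2) F) : Matrix (Fin 2) (Fin 2) F))
    (blk_injective K ((map_mul (blk K) A A).trans (hx2.trans (map_one (blk K)).symm)))
  have hd2 : M.det * M.det = 1 := by rw [← det_mul, hAA, det_one]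
  have hadj : M.adjugate = M.det • M := by
    calc M.adjugate = M.adjugate * (M * M) := by rw [hAA, Matrix.mul_one]
      _ = M.det • M := by rw [← Matrix.mul_assoc, adjugate_mul, smul_mul, Matrix.one_mul]
  have e00 := congrFun (congrFun hadj 0) 0
  have e01 := congrFun (congrFun hadj 0) 1
  have e10 := congrFun (congrFun hadj 1) 0
  simp [adjugate_fin_two] at e00 e01 e10
  have hsq : M 0 0 * M 0 0 + M 0 1 * M 1 0 = 1 := by
    have := congrFun (congrFun hAA 0) 0
    simpa [Matrix.mul_apply, Fin.sum_univ_two] using this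
  rcases mul_self_eq_one_iff.mp hd2 with h | h
  · exfalso
    rw [h, one_mul] at e00 e01 e10
    have b01 : M 0 1 = 0 := (mul_eq_zero.mp (show (2 : F) * M 0 1 = 0 by
      linear_combination -e01)).resolve_left h2
    have b10 : M 1 0 = 0 := (mul_eq_zero.mp (show (2 : F) * M 1 0 = 0 by
      linear_combination -e10)).resolve_left h2
    rw [b01, zero_mul, add_zero] at hsq
    rcases mul_self_eq_one_iff.mp hsq with ha | ha
    · refine hx (mat_ext ?_)
      show blkMat M.det⁻¹ M = 1
      rw [h, inv_one]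
      ext i j; fin_cases i <;> fin_cases j <;> simp [blkMat, b01, b10, ha, e00]
    · refine hxd (mat_ext ?_)
      show blkMat M.det⁻¹ M = diagonal ![1, -1, -1]
      rw [h, inv_one]
      ext i j; fin_cases i <;> fin_cases j <;> simp [blkMat, b01, b10, ha, e00]
  · rw [h] at e00
    refine ⟨M 0 0, M 0 1, M 1 0, ?_, hsq⟩
    show blkMat M.det⁻¹ M = _
    rw [h, inv_neg, inv_one]
    ext i j; fin_cases i <;> fin_cases j <;> simp [blkMat]
    linear_combination e00

/-- Two distinct commuting involutions have exactly one further common neighbour, their product. -/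
theorem third_dElt (h2 : (2 : F) ≠ 0) {x y : SU 3 F q} (hx : x ≠ 1) (hx2 : x * x = 1)
    (hxd : x ≠ dElt K) (hc : dElt K * x = x * dElt K) (hy : y ≠ 1) (hy2 : y * y = 1)
    (hyd : y ≠ dElt K) (hyc : dElt K * y = y * dElt K) (hyx : y ≠ x) (hxy : x * y = y * x) :
    y = dElt K * x := by
  obtain ⟨a, b, c, hxm, hxq⟩ := comm_form K h2 hx hx2 hxd hc
  obtain ⟨e, f, g, hym, hyq⟩ := comm_form K h2 hy hy2 hyd hyc
  have h := congrArg mat hxy
  change mat x * mat y = mat y * mat x at h
  rw [hxm, hym, blk_mul, blk_mul] at h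
  have h11 := congrFun (congrFun h 1) 1
  have h12 := congrFun (congrFun h 1) 2
  have h21 := congrFun (congrFun h 2) 1
  simp [blkMat] at h11 h12 h21
  have r1 : b * g = f * c := by linear_combination h11
  have r2 : a * f = b * e :=
    mul_left_cancel₀ h2 (by linear_combination h12)
  have r3 : c * e = a * g :=
    mul_left_cancel₀ h2 (by linear_combination h21)
  set k := a * e + b * g with hk
  have ke : e = k * a := by rw [hk]; linear_combination (-e) * hxq + b * r3
  have kf : f = k * b := by rw [hk]; linear_combination (-f) * hxq + a * r2 - b * r1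
  have kg : g = k * c := by rw [hk]; linear_combination (-g) * hxq - a * r3
  have hk1 : k * k = 1 := by
    rw [ke, kf, kg] at hyq
    linear_combination hyq - (k * k) * hxq
  rcases mul_self_eq_one_iff.mp hk1 with h1 | h1
  · exfalso
    refine hyx (mat_ext ?_)
    rw [hxm, hym, ke, kf, kg, h1]
    simp
  · refine mat_ext ?_
    show mat y = diagonal (![1, -1, -1] : Fin 3 → F) * mat x
    rw [hxm, hym, ke, kf, kg, h1]
    ext i j; fin_cases i <;> fin_cases j <;> simp [blkMat, Matrix.diagonal_mul]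

include K in
theorem third (h2 : (2 : F) ≠ 0) {t x y : SU 3 F q} (ht : t ≠ 1) (ht2 : t * t = 1)
    (hx : x ≠ 1) (hx2 : x * x = 1) (hxt : x ≠ t) (hc : Commute t x) (hy : y ≠ 1) (hy2 : y * y = 1)
    (hyt : y ≠ t) (hyc : Commute t y) (hyx : y ≠ x) (hxy : Commute x y) : y = t * x := by
  obtain ⟨g, rfl⟩ := exists_conj_dElt K h2 ht ht2
  set φ := MulAut.conj g
  obtain ⟨x, rfl⟩ := φ.surjective x
  obtain ⟨y, rfl⟩ := φ.surjective y
  change φ x ≠ φ (dElt K) at hxt
  change φ y ≠ φ (dElt K) at hyt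
  change Commute (φ (dElt K)) (φ x) at hc
  change Commute (φ (dElt K)) (φ y) at hyc
  show φ y = φ (dElt K) * φ x
  rw [← map_mul]
  refine congrArg φ (third_dElt K h2 (fun h => hx (by rw [h, map_one]))
    (φ.injective (by rw [map_mul, map_one, hx2])) (fun h => hxt (by rw [h]))
    (φ.injective (by rw [map_mul, map_mul]; exact hc.eq)) (fun h => hy (by rw [h, map_one]))
    (φ.injective (by rw [map_mul, map_one, hy2])) (fun h => hyt (by rw [h]))
    (φ.injective (by rw [map_mul, map_mul]; exact hyc.eq)) (fun h => hyx (by rw [h]))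
    (φ.injective (by rw [map_mul, map_mul]; exact hxy.eq)))

omit [Finite F] in
/-- The product of two distinct commuting involutions is a third one. -/
theorem third_spec {t x : SU 3 F q} (ht : t ≠ 1) (ht2 : t * t = 1)
    (hx : x ≠ 1) (hx2 : x * x = 1) (hxt : x ≠ t) (hc : Commute t x) :
    t * x ≠ 1 ∧ t * x * (t * x) = 1 ∧ t * x ≠ t ∧ t * x ≠ x ∧ Commute t (t * x) ∧ Commute x (t * x) := by
  refine ⟨fun h => hxt ?_, ?_, fun h => hx (mul_eq_left.mp h), fun h => ht (mul_eq_right.mp h),
    (Commute.refl t).mul_right hc, hc.symm.mul_right (Commute.refl x)⟩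
  · calc x = t * t * x := by rw [ht2, one_mul]
      _ = t := by rw [mul_assoc, h, mul_one]
  · rw [mul_assoc, ← mul_assoc x t x, ← hc.eq, mul_assoc, hx2, mul_one, ht2]

include K in
theorem card_SU_three : Nat.card (SU 3 F q) = q ^ 3 * (q ^ 2 - 1) * (q ^ 3 + 1) := by
  have hGU := card_GU K (n := 3)
  norm_num [Finset.prod_range_succ, Nat.even_iff, -Nat.card_eq_fintype_card] at hGU
  have hSU := card_SU K (n := 3) (by norm_num)
  rw [hGU] at hSU
  exact mul_left_cancel₀ (Nat.add_one_ne_zero q) (hSU.trans (by ring))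

include K in
theorem card_centralizer_of (h2 : (2 : F) ≠ 0) {t : SU 3 F q} (ht : t ≠ 1) (ht2 : t * t = 1) :
    Nat.card (Subgroup.centralizer ({t} : Set (SU 3 F q))) = q * (q + 1) * (q ^ 2 - 1) := by
  obtain ⟨g, rfl⟩ := exists_conj_dElt K h2 ht ht2
  rw [← card_centralizer K h2]
  refine Nat.card_congr
    ((MulAut.conj g⁻¹).toEquiv.subtypeEquiv fun x => ?_)
  show x ∈ Subgroup.centralizer _ ↔ g⁻¹ * x * g⁻¹⁻¹ ∈ Subgroup.centralizer _
  rw [Subgroup.mem_centralizer_singleton_iff, Subgroup.mem_centralizer_singleton_iff, inv_inv]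
  constructor
  · intro h
    calc g⁻¹ * x * g * dElt K = g⁻¹ * (x * (g * dElt K * g⁻¹)) * g := by group
      _ = g⁻¹ * (g * dElt K * g⁻¹ * x) * g := by rw [h]
      _ = dElt K * (g⁻¹ * x * g) := by group
  · intro h
    calc x * (g * dElt K * g⁻¹) = g * (g⁻¹ * x * g * dElt K) * g⁻¹ := by group
      _ = g * (dElt K * (g⁻¹ * x * g)) * g⁻¹ := by rw [h]
      _ = g * dElt K * g⁻¹ * x := by group

include K in
theorem card_invol (h2 : (2 : F) ≠ 0) :
    Nat.card {x : SU 3 F q // x ≠ 1 ∧ x * x = 1} = q ^ 2 * (q ^ 2 - q + 1) := by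
  classical
  set d := dElt K
  let f : ConjAct (SU 3 F q) → {x : SU 3 F q // x ≠ 1 ∧ x * x = 1} := fun g =>
    ⟨g • d, by
      rw [ConjAct.smul_def]
      refine ⟨fun h => dElt_ne_one K h2 (conj_eq_one_iff.mp h), ?_⟩
      rw [conj_mul, dElt_mul_self K, mul_one, mul_inv_cancel]⟩
  have hset : MulAction.orbit (ConjAct (SU 3 F q)) d = {x | x ≠ 1 ∧ x * x = 1} := by
    ext x
    constructor
    · rintro ⟨g, rfl⟩; exact (f g).2
    · rintro ⟨hx, hx2⟩
      obtain ⟨g, hg⟩ := exists_conj_dElt K h2 hx hx2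
      exact ⟨ConjAct.toConjAct g, (ConjAct.toConjAct_smul g _).trans hg⟩
  have horb := (Nat.card_congr (MulAction.orbitEquivQuotientStabilizer (ConjAct (SU 3 F q)) d))
  have hst : Nat.card (MulAction.stabilizer (ConjAct (SU 3 F q)) d) =
      q * (q + 1) * (q ^ 2 - 1) := by
    rw [← card_centralizer K h2, ConjAct.stabilizer_eq_centralizer]
    rfl
  have htot : Nat.card (ConjAct (SU 3 F q)) = q ^ 3 * (q ^ 2 - 1) * (q ^ 3 + 1) := by
    rw [← card_SU_three K]; exact Nat.card_congr ConjAct.ofConjAct.toEquiv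
  rw [show Nat.card {x : SU 3 F q // x ≠ 1 ∧ x * x = 1} =
    Nat.card (MulAction.orbit (ConjAct (SU 3 F q)) d) by rw [hset]; rfl, horb]
  have h := Subgroup.card_eq_card_quotient_mul_card_subgroup
    (MulAction.stabilizer (ConjAct (SU 3 F q)) d)
  rw [hst, htot] at h
  have hq := K.two_le
  have hpos : 0 < q ^ 2 - 1 := by
    have : 4 ≤ q ^ 2 := by nlinarith
    omega
  refine Nat.eq_of_mul_eq_mul_right (show 0 < q * (q + 1) * (q ^ 2 - 1) by positivity) ?_
  rw [← h]
  obtain ⟨k, rfl⟩ : ∃ k, q = k + 1 := ⟨q - 1, by omega⟩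
  have e : (k + 1) ^ 2 - (k + 1) = k * (k + 1) := by
    apply Nat.sub_eq_of_eq_add; ring
  rw [e]
  ring

end CfsgLib.Classical.SU3Invol
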