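/-
Three points of the projective line.
-/
import Mathlib

set_option autoImplicit false

namespace CfsgLib.ThreePoints

open Matrix

variable {F : Type*} [Field F]

theorem smul_eq_mulVec (g : GL (Fin 2) F) (v : Fin 2 → F) :
    g • v = (g : Matrix (Fin 2) (Fin 2) F) *ᵥ v := rfl

/-- The matrix carrying the standard frame to three given distinct points. -/
theorem exists_frame (a b c : Projectivization F (Fin 2 → F)) (hab : a ≠ b) (hac : a ≠ c) (hbc : b ≠ c) :
    ∃ g : GL (Fin 2) F,
      g • Projectivization.mk F ![(1 : F), 0] (by simp) = a ∧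
      g • Projectivization.mk F ![(0 : F), 1] (by simp) = b ∧
      g • Projectivization.mk F ![(1 : F), 1] (by simp) = c := by
  induction a using Projectivization.ind with | _ u hu =>
  induction b using Projectivization.ind with | _ v hv =>
  induction c using Projectivization.ind with | _ w hw =>
  have hli : LinearIndependent F ![u, v] := by
    rw [LinearIndependent.pair_iff' hu]
    intro t ht
    apply hab
    rw [Projectivization.mk_eq_mk_iff']
    rcases eq_or_ne t 0 with rfl | h0
    · exact absurd (by simpa using ht.symm) hv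
    · exact ⟨t⁻¹, by rw [← ht, smul_smul, inv_mul_cancel₀ h0, one_smul]⟩
  have hspan : Submodule.span F (Set.range ![u, v]) = ⊤ :=
    hli.span_eq_top_of_card_eq_finrank (by simp)
  obtain ⟨cs, hcs⟩ := (Submodule.mem_span_range_iff_exists_fun F).mp (hspan ▸ Submodule.mem_top (x := w))
  rw [Fin.sum_univ_two] at hcs
  simp only [Matrix.cons_val_zero, Matrix.cons_val_one] at hcs
  have h0 : cs 0 ≠ 0 := fun h => hbc (by
    rw [Projectivization.mk_eq_mk_iff']
    rw [h, zero_smul, zero_add] at hcs
    have h1 : cs 1 ≠ 0 := fun h' => hw (by rw [← hcs, h', zero_smul])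
    exact ⟨(cs 1)⁻¹, by rw [← hcs, smul_smul, inv_mul_cancel₀ h1, one_smul]⟩)
  have h1 : cs 1 ≠ 0 := fun h => hac (by
    rw [Projectivization.mk_eq_mk_iff']
    rw [h, zero_smul, add_zero] at hcs
    exact ⟨(cs 0)⁻¹, by rw [← hcs, smul_smul, inv_mul_cancel₀ h0, one_smul]⟩)
  let M : Matrix (Fin 2) (Fin 2) F := Matrix.of ![![cs 0 * u 0, cs 1 * v 0], ![cs 0 * u 1, cs 1 * v 1]]
  have hM : M.det ≠ 0 := by
    intro hd
    have hd' : u 0 * v 1 - u 1 * v 0 = 0 := by
      have : cs 0 * cs 1 * (u 0 * v 1 - u 1 * v 0) = 0 := by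
        rw [← hd, Matrix.det_fin_two]; simp [M]; ring
      simpa [h0, h1] using this
    have hu' : u 0 ≠ 0 ∨ u 1 ≠ 0 := by
      by_contra h
      push_neg at h
      exact hu (funext fun i => by fin_cases i <;> simp [h.1, h.2])
    rw [LinearIndependent.pair_iff' hu] at hli
    rcases hu' with h | h
    · refine hli (v 0 / u 0) (funext fun i => ?_)
      fin_cases i
      · simp; field_simp
      · simp; field_simp; linear_combination -hd'
    · refine hli (v 1 / u 1) (funext fun i => ?_)
      fin_cases i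
      · simp; field_simp; linear_combination hd'
      · simp; field_simp
  refine ⟨Matrix.GeneralLinearGroup.mkOfDetNeZero M hM, ?_, ?_, ?_⟩
  · rw [Projectivization.smul_mk, Projectivization.mk_eq_mk_iff']
    refine ⟨cs 0, ?_⟩
    show cs 0 • u = M *ᵥ ![1, 0]
    funext i; fin_cases i <;> simp [M, Matrix.mulVec, dotProduct, Fin.sum_univ_two]
  · rw [Projectivization.smul_mk, Projectivization.mk_eq_mk_iff']
    refine ⟨cs 1, ?_⟩
    show cs 1 • v = M *ᵥ ![0, 1]
    funext i; fin_cases i <;> simp [M, Matrix.mulVec, dotProduct, Fin.sum_univ_two]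
  · rw [Projectivization.smul_mk, Projectivization.mk_eq_mk_iff']
    refine ⟨1, ?_⟩
    show (1 : F) • w = M *ᵥ ![1, 1]
    rw [one_smul, ← hcs]
    funext i; fin_cases i <;> simp [M, Matrix.mulVec, dotProduct, Fin.sum_univ_two]

/-- A matrix fixing the standard frame is scalar. -/
theorem scalar_of_fix_frame (g : GL (Fin 2) F)
    (h0 : g • Projectivization.mk F ![(1 : F), 0] (by simp) = Projectivization.mk F ![(1 : F), 0] (by simp))
    (h1 : g • Projectivization.mk F ![(0 : F), 1] (by simp) = Projectivization.mk F ![(0 : F), 1] (by simp))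
    (h2 : g • Projectivization.mk F ![(1 : F), 1] (by simp) = Projectivization.mk F ![(1 : F), 1] (by simp)) :
    ∃ r : F, (g : Matrix (Fin 2) (Fin 2) F) = Matrix.scalar (Fin 2) r := by
  rw [Projectivization.smul_mk, Projectivization.mk_eq_mk_iff'] at h0 h1 h2
  obtain ⟨a, ha⟩ := h0
  obtain ⟨b, hb⟩ := h1
  obtain ⟨c, hc⟩ := h2
  rw [smul_eq_mulVec] at ha hb hc
  have a0 := congrFun ha 0
  have a1 := congrFun ha 1
  have b0 := congrFun hb 0
  have b1 := congrFun hb 1
  have c0 := congrFun hc 0
  have c1 := congrFun hc 1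
  simp [Matrix.mulVec, dotProduct, Fin.sum_univ_two] at a0 a1 b0 b1 c0 c1
  refine ⟨a, ?_⟩
  ext i j; fin_cases i <;> fin_cases j
  · simp [a0]
  · simp [← b0]
  · simp [← a1]
  · simp
    linear_combination (c0 - c1) - a0 + a1 - b0

end CfsgLib.ThreePoints
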