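import Mathlib

set_option autoImplicit false

/-!
The centraliser of a transvection in `GL_n(q)`.
-/

namespace CfsgLib.Classical.TCent

open Matrix

variable (F : Type*) [Field F] (U : Type*) [AddCommGroup U] [Module F U]

/-- The standard nilpotent map of rank one on `F × U × F`. -/
def n0 : (F × U × F) →ₗ[F] (F × U × F) :=
  (LinearMap.inl F F (U × F)).comp ((LinearMap.snd F U F).comp (LinearMap.snd F F (U × F)))

theorem n0_apply (v : F × U × F) : n0 F U v = (v.2.2, 0, 0) := rfl

/-- Automorphisms commuting with `n0`. -/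
abbrev Fixers : Type _ :=
  {f : (F × U × F) ≃ₗ[F] (F × U × F) // ∀ v, f (n0 F U v) = n0 F U (f v)}

variable {F U}

/-- The block triangular automorphism attached to its five entries. -/
def mkFixer (d : Fˣ × (U →ₗ[F] F) × F × U × (U ≃ₗ[F] U)) : Fixers F U := by
  refine ⟨{ toFun := fun v => ((d.1 : F) * v.1 + d.2.1 v.2.1 + d.2.2.1 * v.2.2,
              d.2.2.2.2 v.2.1 + v.2.2 • d.2.2.2.1, (d.1 : F) * v.2.2)
            map_add' := fun v w => ?_
            map_smul' := fun c v => ?_
            invFun := fun v =>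
              let z := ((d.1⁻¹ : Fˣ) : F) * v.2.2
              let u := d.2.2.2.2.symm (v.2.1 - z • d.2.2.2.1)
              (((d.1⁻¹ : Fˣ) : F) * (v.1 - d.2.1 u - d.2.2.1 * z), u, z)
            left_inv := fun v => ?_
            right_inv := fun v => ?_ }, fun v => ?_⟩
  · refine Prod.ext ?_ (Prod.ext ?_ ?_)
    · simp only [Prod.fst_add, Prod.snd_add, map_add]; ring
    · simp only [Prod.fst_add, Prod.snd_add, map_add, add_smul]; abel
    · simp only [Prod.snd_add]; ring
  · refine Prod.ext ?_ (Prod.ext ?_ ?_)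
    · simp only [Prod.smul_fst, Prod.smul_snd, map_smul, smul_eq_mul, RingHom.id_apply]; ring
    · simp only [Prod.smul_fst, Prod.smul_snd, map_smul, RingHom.id_apply, smul_add, smul_smul,
        smul_eq_mul]
    · simp only [Prod.smul_snd, smul_eq_mul, RingHom.id_apply]; ring
  · simp
    refine Prod.ext ?_ rfl
    simp only []
    field_simp
    ring
  · simp
    exact Prod.ext (by simp only []; ring) rfl
  · refine Prod.ext ?_ (Prod.ext ?_ ?_) <;> simp [n0_apply]

theorem mkFixer_apply (d : Fˣ × (U →ₗ[F] F) × F × U × (U ≃ₗ[F] U)) (v : F × U × F) :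
    (mkFixer d).1 v = ((d.1 : F) * v.1 + d.2.1 v.2.1 + d.2.2.1 * v.2.2,
      d.2.2.2.2 v.2.1 + v.2.2 • d.2.2.2.1, (d.1 : F) * v.2.2) := rfl

theorem mkFixer_bijective [FiniteDimensional F U] :
    Function.Bijective (mkFixer (F := F) (U := U)) := by
  constructor
  · rintro ⟨l, r, y, c, h⟩ ⟨l', r', y', c', h'⟩ e
    have e' := fun v => congrArg (fun f : Fixers F U => f.1 v) e
    simp only [mkFixer_apply] at e'
    have e1 := e' ((1 : F), (0 : U), (0 : F))
    have e2 := fun u : U => e' ((0 : F), u, (0 : F))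
    have e3 := e' ((0 : F), (0 : U), (1 : F))
    simp only [map_zero, mul_one, mul_zero, add_zero, zero_smul, Prod.mk.injEq, and_true] at e1
    simp only [mul_zero, zero_add, add_zero, zero_smul, Prod.mk.injEq, and_true] at e2
    simp only [map_zero, mul_one, mul_zero, zero_add, one_smul, Prod.mk.injEq] at e3
    obtain rfl : l = l' := Units.ext e1
    obtain rfl : r = r' := LinearMap.ext fun u => (e2 u).1
    obtain rfl : h = h' := LinearEquiv.ext fun u => (e2 u).2
    obtain rfl : y = y' := e3.1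
    obtain rfl : c = c' := e3.2.1
    rfl
  · rintro ⟨f, hf⟩
    set p := f ((0 : F), (0 : U), (1 : F)) with hp
    set l := p.2.2 with hl
    have ha : f ((1 : F), (0 : U), (0 : F)) = (l, 0, 0) := by
      have := hf ((0 : F), (0 : U), (1 : F))
      simpa only [n0_apply] using this
    have hl0 : l ≠ 0 := fun e => by
      have h1 := f.injective (a₁ := ((1 : F), (0 : U), (0 : F))) (a₂ := 0)
        (by rw [ha, e, map_zero]; rfl)
      exact one_ne_zero (congrArg Prod.fst h1)
    have hu : ∀ u : U, (f ((0 : F), u, (0 : F))).2.2 = 0 := fun u => by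
      have := hf ((0 : F), u, (0 : F))
      simp only [n0_apply] at this
      rw [show ((0 : F), (0 : U), (0 : F)) = 0 from rfl, map_zero] at this
      exact (congrArg Prod.fst this).symm
    let i : U →ₗ[F] F × U × F := (LinearMap.inr F F (U × F)).comp (LinearMap.inl F U F)
    let r : U →ₗ[F] F := (LinearMap.fst F F (U × F)).comp (f.toLinearMap.comp i)
    let h : U →ₗ[F] U :=
      (LinearMap.fst F U F).comp ((LinearMap.snd F F (U × F)).comp (f.toLinearMap.comp i))
    have hi : ∀ u, f ((0 : F), u, (0 : F)) = (r u, h u, 0) := fun u =>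
      Prod.ext rfl (Prod.ext rfl (hu u))
    have hinj : Function.Injective h := by
      rw [← LinearMap.ker_eq_bot, LinearMap.ker_eq_bot']
      intro u hu0
      have h1 : f (((0 : F), u, (0 : F)) + (-(r u / l)) • ((1 : F), (0 : U), (0 : F))) = 0 := by
        rw [map_add, map_smul, hi, ha, hu0]
        refine Prod.ext ?_ (Prod.ext ?_ ?_) <;> simp [hl0]
      have h2 := congrArg (fun v : F × U × F => v.2.1) (f.map_eq_zero_iff.mp h1)
      simpa using h2
    refine ⟨⟨Units.mk0 l hl0, r, p.1, p.2.1, LinearEquiv.ofInjectiveEndo h hinj⟩,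
      Subtype.ext (LinearEquiv.ext fun v => ?_)⟩
    obtain ⟨x, u, z⟩ := v
    have hv : ((x, u, z) : F × U × F) = x • ((1 : F), (0 : U), (0 : F)) +
        ((0 : F), u, (0 : F)) + z • ((0 : F), (0 : U), (1 : F)) := by
      refine Prod.ext ?_ (Prod.ext ?_ ?_) <;> simp
    rw [mkFixer_apply]
    conv_rhs => rw [hv, map_add, map_add, map_smul, map_smul, ha, hi]
    refine Prod.ext ?_ (Prod.ext ?_ ?_) <;> simp [← hp, ← hl, mul_comm]

theorem card_fixers [Fintype F] (m : ℕ) :
    Nat.card (Fixers F (Fin m → F)) = Fintype.card F ^ (2 * m + 1) * (Fintype.card F - 1) *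
      Nat.card (GL (Fin m) F) := by
  classical
  rw [← Nat.card_eq_of_bijective _ (mkFixer_bijective (F := F) (U := Fin m → F)), Nat.card_prod,
    Nat.card_prod, Nat.card_prod, Nat.card_prod, Nat.card_units]
  have e : ((Fin m → F) ≃ₗ[F] (Fin m → F)) ≃ GL (Fin m) F :=
    ((Matrix.GeneralLinearGroup.toLin).trans
      (LinearMap.GeneralLinearGroup.generalLinearEquiv F (Fin m → F))).toEquiv.symm
  rw [Nat.card_congr e]
  rw [Module.natCard_eq_pow_finrank (K := F) (V := (Fin m → F) →ₗ[F] F), Subspace.dual_finrank_eq,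
    Module.natCard_eq_pow_finrank (K := F) (V := Fin m → F), Module.finrank_fin_fun]
  simp only [Nat.card_eq_fintype_card (α := F)]
  ring

/-- Normal form of a transvection. -/
theorem exists_coords {V : Type*} [AddCommGroup V] [Module F V] [FiniteDimensional F V]
    (N : V →ₗ[F] V) (hr : Module.finrank F (LinearMap.range N) = 1) (h2 : ∀ v, N (N v) = 0) :
    ∃ m : ℕ, m + 2 = Module.finrank F V ∧
      ∃ e : (F × (Fin m → F) × F) ≃ₗ[F] V, ∀ v, N (e v) = e (n0 F (Fin m → F) v) := by
  have hne : N ≠ 0 := fun h => by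
    rw [h, LinearMap.range_zero, finrank_bot] at hr
    exact zero_ne_one hr
  obtain ⟨w, hw⟩ : ∃ w, N w ≠ 0 := by
    by_contra! h
    exact hne (LinearMap.ext h)
  set a := N w with ha
  obtain ⟨ψ₀, hψ₀⟩ := Module.Projective.exists_dual_eq_one F hw
  set φ : V →ₗ[F] F := ψ₀.comp N with hφ
  have hφw : φ w = 1 := hψ₀
  have hφa : φ a = 0 := by rw [hφ, LinearMap.comp_apply, ha, h2, map_zero]
  set ψ : V →ₗ[F] F := ψ₀ - ψ₀ w • φ with hψ
  have hψa : ψ a = 1 := by
    rw [hψ, LinearMap.sub_apply, LinearMap.smul_apply, hφa, smul_zero, sub_zero]; exact hψ₀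
  have hψw : ψ w = 0 := by
    rw [hψ, LinearMap.sub_apply, LinearMap.smul_apply, hφw, smul_eq_mul, mul_one, sub_self]
  have hN : ∀ v, N v = φ v • a := by
    obtain ⟨b, hb0, hb⟩ := finrank_eq_one_iff'.mp hr
    obtain ⟨c, hc⟩ := hb ⟨a, w, rfl⟩
    have hc' : c • (b : V) = a := congrArg Subtype.val hc
    have hc0 : c ≠ 0 := fun e => hw (by rw [← hc', e, zero_smul])
    intro v
    obtain ⟨d, hd⟩ := hb ⟨N v, v, rfl⟩
    have hd' : d • (b : V) = N v := congrArg Subtype.val hd
    have h3 : N v = (d * c⁻¹) • a := by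
      rw [← hd', ← hc', smul_smul, inv_mul_cancel_right₀ hc0]
    rw [h3]
    congr 1
    rw [hφ, LinearMap.comp_apply, h3, map_smul, hψ₀, smul_eq_mul, mul_one]
  set Φ : V →ₗ[F] F × F := ψ.prod φ with hΦ
  have hsurj : Function.Surjective Φ := fun z => ⟨z.1 • a + z.2 • w, by
    simp [hΦ, hψa, hψw, hφa, hφw]⟩
  have hk := LinearMap.finrank_range_add_finrank_ker Φ
  rw [LinearMap.range_eq_top.mpr hsurj, finrank_top, Module.finrank_prod, Module.finrank_self] at hk
  refine ⟨Module.finrank F (LinearMap.ker Φ), by omega, ?_⟩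
  let b := (Module.finBasis F (LinearMap.ker Φ)).equivFun.symm
  let L : (F × (Fin (Module.finrank F (LinearMap.ker Φ)) → F) × F) →ₗ[F] V :=
    (LinearMap.toSpanSingleton F V a).coprod
      (((LinearMap.ker Φ).subtype.comp b.toLinearMap).coprod (LinearMap.toSpanSingleton F V w))
  have hL : ∀ v, L v = v.1 • a + ((b v.2.1 : V) + v.2.2 • w) := fun v => rfl
  have hker : ∀ u : LinearMap.ker Φ, ψ u = 0 ∧ φ u = 0 := fun u => by
    have := LinearMap.mem_ker.mp u.2
    exact Prod.ext_iff.mp this
  have hinj : Function.Injective L := by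
    rw [← LinearMap.ker_eq_bot, LinearMap.ker_eq_bot']
    intro v hv
    rw [hL] at hv
    have hx := congrArg ψ hv
    have hz := congrArg φ hv
    simp [hψa, hψw, (hker (b v.2.1)).1] at hx
    simp [hφa, hφw, (hker (b v.2.1)).2] at hz
    rw [hx, hz, zero_smul, zero_smul, zero_add, add_zero, ZeroMemClass.coe_eq_zero,
      LinearEquiv.map_eq_zero_iff] at hv
    exact Prod.ext hx (Prod.ext hv hz)
  have hbij : Function.Bijective L := by
    refine ⟨hinj, (LinearMap.injective_iff_surjective_of_finrank_eq_finrank ?_).mp hinj⟩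
    rw [Module.finrank_prod, Module.finrank_prod, Module.finrank_fin_fun, Module.finrank_self]
    omega
  refine ⟨LinearEquiv.ofBijective L hbij, fun v => ?_⟩
  rw [LinearEquiv.ofBijective_apply, LinearEquiv.ofBijective_apply, hL, hL, n0_apply, hN]
  simp [hφa, hφw, (hker (b v.2.1)).2]

end CfsgLib.Classical.TCent
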