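import Cfsg.Agent.Lib.Classical.UnitaryOrder
import Mathlib.RingTheory.LittleWedderburn
import Mathlib.FieldTheory.Finite.Basic

/-!
The normaliser of a subgroup of order 7 in `PSU₄(3)`.

An element of order 7 of `SU₄(3)` fixes a line `L` and is irreducible on the complementary
3-space `W`; whatever commutes with it is killed by `728`, and if it is killed by `8` it is scalar.
-/

set_option autoImplicit false
set_option linter.unusedSectionVars false

namespace CfsgLib.Classical.UFourThreeSeven

open Cfsg Matrix Polynomial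

section Linear

variable {F : Type*} [Field F] [Fintype F] (hF : Fintype.card F = 9)
  {V : Type*} [AddCommGroup V] [Module F V] [Finite V]

include hF

/-- A space on which an element of order `7` fixes only `0` has dimension `0` or at least `3`. -/
theorem three_le_finrank (u : (Module.End F V)ˣ) (h7 : u ^ 7 = 1)
    (hfix : ∀ v : V, (u : Module.End F V) v = v → v = 0) (hne : 0 < Module.finrank F V) :
    3 ≤ Module.finrank F V ∧ Module.finrank F V ≠ 4 := by
  have := Fact.mk (show Nat.Prime 7 by norm_num)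
  have hG : IsPGroup 7 (Subgroup.zpowers u) := by
    rintro ⟨_, k, rfl⟩
    exact ⟨1, Subtype.ext (by show (u ^ k) ^ (7 ^ 1) = 1; rw [pow_one, ← zpow_natCast, ← _root_.zpow_mul,
      mul_comm, _root_.zpow_mul, zpow_natCast, h7, _root_.one_zpow])⟩
  have hfp : MulAction.fixedPoints (Subgroup.zpowers u) V = {0} := by
    ext v
    simp only [MulAction.mem_fixedPoints, Set.mem_singleton_iff]
    refine ⟨fun h => hfix v (h ⟨u, Subgroup.mem_zpowers u⟩), fun h g => ?_⟩
    subst h
    exact smul_zero (g : (Module.End F V)ˣ)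
  have h := hG.card_modEq_card_fixedPoints V
  rw [hfp, Nat.card_coe_set_eq, Set.ncard_singleton, Module.natCard_eq_pow_finrank (K := F),
    Nat.card_eq_fintype_card, hF] at h
  refine ⟨?_, fun h4 => ?_⟩
  · by_contra hlt
    push Not at hlt
    interval_cases hd : Module.finrank F V <;> simp [Nat.ModEq] at h
  · rw [h4] at h
    simp [Nat.ModEq] at h

variable (f : Module.End F V) (h3 : Module.finrank F V = 3) (h7 : f ^ 7 = 1)
  (hfix : ∀ v : V, f v = v → v = 0)

include h3 h7 hfix

theorem ker_eq_bot {e : Module.End F V} (he : e * f = f * e) (he0 : e ≠ 0) :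
    LinearMap.ker e = ⊥ := by
  by_contra hk
  have hinv : ∀ x ∈ LinearMap.ker e, f x ∈ LinearMap.ker e := by
    intro x hx
    rw [LinearMap.mem_ker] at hx ⊢
    have := LinearMap.congr_fun he x
    simp only [Module.End.mul_apply] at this
    rw [this, hx, map_zero]
  set fr : Module.End F (LinearMap.ker e) := f.restrict hinv
  have hr7 : fr ^ 7 = 1 := by
    rw [Module.End.pow_restrict (h := hinv)]
    ext x
    simp [h7]
  have hu : IsUnit fr := IsUnit.of_pow_eq_one hr7 (by norm_num)
  have hpos : 0 < Module.finrank F (LinearMap.ker e) := by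
    rw [Nat.pos_iff_ne_zero]
    exact fun h => hk (Submodule.finrank_eq_zero.mp h)
  have h := three_le_finrank hF hu.unit (Units.ext (by rw [Units.val_pow_eq_pow_val]; exact hr7))
    (fun v hv => Subtype.ext (hfix _ (congrArg Subtype.val hv))) hpos |>.1
  refine he0 (LinearMap.ker_eq_top.mp (Submodule.eq_top_of_finrank_eq ?_))
  exact le_antisymm (Submodule.finrank_le _) (h3 ▸ h)

/-- The commutant of `f` is a domain with `729` elements. -/
theorem commutant_pow {e : Module.End F V} (he : e * f = f * e) (hu : IsUnit e) : e ^ 728 = 1 := by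
  classical
  set S := Subalgebra.centralizer F ({f} : Set (Module.End F V))
  have hmem : ∀ x : Module.End F V, x ∈ S ↔ x * f = f * x := fun x => by
    simp [S, Subalgebra.mem_centralizer_iff, eq_comm]
  haveI : Finite (Module.End F V) := Finite.of_injective _ DFunLike.coe_injective
  haveI : Fintype S := Fintype.ofFinite _
  have hne : ∃ w : V, w ≠ 0 := by
    haveI : Nontrivial V := Module.nontrivial_of_finrank_pos (R := F) (by omega)
    exact exists_ne 0
  obtain ⟨w, hw⟩ := hne
  haveI : Nontrivial S := ⟨⟨0, 1, fun h => hw (LinearMap.congr_fun (congrArg Subtype.val h) w).symm⟩⟩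
  haveI : NoZeroDivisors S := ⟨fun {a b} hab => by
    by_cases ha : (a : Module.End F V) = 0
    · exact Or.inl (Subtype.ext ha)
    · refine Or.inr (Subtype.ext (LinearMap.ext fun x => ?_))
      have hk := ker_eq_bot hF f h3 h7 hfix ((hmem _).1 a.2) ha
      refine LinearMap.ker_eq_bot.mp hk ?_
      show (a : Module.End F V) ((b : Module.End F V) x) = (a : Module.End F V) 0
      rw [map_zero]
      exact LinearMap.congr_fun (congrArg Subtype.val hab) x⟩
  haveI : IsDomain S := NoZeroDivisors.to_isDomain _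
  have hcard : Fintype.card S = 729 := by
    have hle : Module.finrank F S ≤ 3 := h3 ▸ LinearMap.finrank_le_finrank_of_injective
      (f := (LinearMap.applyₗ (R := F) w).comp S.val.toLinearMap) (fun a b hab => Subtype.ext (by
        by_contra hne
        have hk := ker_eq_bot hF f h3 h7 hfix ((hmem _).1 (a - b).2) (sub_ne_zero.mpr hne)
        refine hw (LinearMap.ker_eq_bot.mp hk ?_)
        show ((a : Module.End F V) - b) w = ((a : Module.End F V) - b) 0
        rw [map_zero, LinearMap.sub_apply, sub_eq_zero]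
        exact hab))
    have hc : Fintype.card S = 9 ^ Module.finrank F S := by
      rw [← Nat.card_eq_fintype_card, Module.natCard_eq_pow_finrank (K := F),
        Nat.card_eq_fintype_card, hF]
    letI : DivisionRing S := Fintype.divisionRingOfIsDomain S
    let fs : S := ⟨f, (hmem f).2 rfl⟩
    have hf7 : fs ^ 7 = 1 := Subtype.ext h7
    let fu : Sˣ := (IsUnit.of_pow_eq_one hf7 (by norm_num)).unit
    have hord : orderOf fu = 7 := by
      refine orderOf_eq_prime (hp := ⟨by norm_num⟩) (Units.ext hf7) fun h1 => ?_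
      have h2 : f = 1 := congrArg (fun z : Sˣ => ((z : S) : Module.End F V)) h1
      exact hw (hfix w (by rw [h2]; rfl))
    have hdvd : 7 ∣ Fintype.card S - 1 := by
      rw [← Fintype.card_units, ← hord]
      exact orderOf_dvd_card
    rw [hc] at hdvd ⊢
    interval_cases Module.finrank F S <;> first | rfl | norm_num at hdvd | skip
    haveI : Subsingleton S := Finite.card_le_one_iff_subsingleton.mp (by
      rw [Nat.card_eq_fintype_card, hc]; norm_num)
    exact absurd (Subsingleton.elim (0 : S) 1) zero_ne_one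
  letI : DivisionRing S := Fintype.divisionRingOfIsDomain S
  let es : S := ⟨e, (hmem e).2 he⟩
  have hes : es ≠ 0 := fun h => by
    obtain ⟨u, hu'⟩ := hu
    have h0 : e = 0 := congrArg Subtype.val h
    exact hw (by
      have := LinearMap.congr_fun (u.inv_mul) w
      rw [hu', h0, mul_zero] at this
      simpa using this.symm)
  have h := pow_card_eq_one (x := Units.mk0 es hes)
  rw [Fintype.card_units, hcard] at h
  rw [Units.ext_iff, Units.val_pow_eq_pow_val, Units.val_mk0, Units.val_one, Subtype.ext_iff,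
    SubmonoidClass.coe_pow] at h
  exact h

/-- An element of the commutant killed by `8` is scalar. -/
theorem commutant_scalar {e : Module.End F V} (he : e * f = f * e) (he8 : e ^ 8 = 1) :
    ∃ a : F, e = a • 1 := by
  classical
  have h1 := prod_multiset_X_sub_C_of_monic_of_roots_card_eq
    (p := (X ^ Fintype.card F - X : F[X]))
    (monic_X_pow_sub (by rw [degree_X]; exact_mod_cast Fintype.one_lt_card))
    (by rw [FiniteField.roots_X_pow_card_sub_X, Finset.card_val, Finset.card_univ,
      FiniteField.X_pow_card_sub_X_natDegree_eq F Fintype.one_lt_card])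
  rw [FiniteField.roots_X_pow_card_sub_X] at h1
  have hz : aeval e (∏ a : F, (X - C a)) = 0 := by
    rw [Finset.prod_eq_multiset_prod, h1, map_sub, map_pow, aeval_X, hF, pow_succ, he8, one_mul,
      sub_self]
  have hmem : ∀ x : Module.End F V, x * f = f * x → ∀ y, x * y = 0 → x = 0 ∨ y = 0 := by
    intro x hx y hxy
    by_cases h0 : x = 0
    · exact Or.inl h0
    · refine Or.inr (LinearMap.ext fun v => LinearMap.ker_eq_bot.mp
        (ker_eq_bot hF f h3 h7 hfix hx h0) ?_)
      show x (y v) = x 0
      rw [map_zero]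
      exact LinearMap.congr_fun hxy v
  have key : ∀ s : Finset F, aeval e (∏ a ∈ s, (X - C a)) = 0 → ∃ a : F, e = a • 1 := by
    intro s
    induction s using Finset.induction with
    | empty =>
      intro h
      exfalso
      simp at h
      haveI : Nontrivial V := Module.nontrivial_of_finrank_pos (R := F) (by omega)
      exact one_ne_zero h
    | insert b s hb ih =>
      intro h
      rw [Finset.prod_insert hb, map_mul, map_sub, aeval_X, aeval_C,
        Module.algebraMap_end_eq_smul_id] at h
      rcases hmem _ (by rw [sub_mul, mul_sub, he]; ext v; simp) _ h with h1 | h1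
      · exact ⟨b, sub_eq_zero.mp h1⟩
      · exact ih h1
  exact key Finset.univ hz

end Linear

section Unitary

variable {F : Type*} [Field F] [Fintype F] (hF : Fintype.card F = 9)

include hF

/-- The form is reflexive and non-degenerate. -/
theorem herm_facts (K : ClassicalAut.Unitary.Conj F 3) :
    (∀ u v : Fin 4 → F, hermForm 4 F 3 u v = 0 → hermForm 4 F 3 v u = 0) ∧
    (∀ u : Fin 4 → F, (∀ v, hermForm 4 F 3 u v = 0) → u = 0) := by
  refine ⟨fun u v h => ?_, fun u h => funext fun i => ?_⟩
  · rw [Herm.h_swap K u v, h, map_zero]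
  · rw [← Herm.h_single K u i]; exact h _

/-- The centraliser in `SU₄(3)` of an element of order `7`, raised to `728`. -/
theorem centralizer_facts (g c : SU 4 F 3) (hg7 : g ^ 7 = 1) (hg : g ≠ 1) (hc : c * g = g * c) :
    c ^ 728 = 1 ∧ (c ^ 8 = 1 → c ∈ Subgroup.center (SU 4 F 3)) := by
  classical
  obtain ⟨K⟩ := Herm.exists_conj_of_card (show Fintype.card F = 3 ^ 2 by rw [hF]; norm_num)
  obtain ⟨hrefl, hnd⟩ := herm_facts hF K
  let Φ : SU 4 F 3 →* Module.End F (Fin 4 → F) :=
    { toFun := fun s => Matrix.toLinAlgEquiv' (s.1 : Matrix (Fin 4) (Fin 4) F)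
      map_one' := map_one _
      map_mul' := fun a b => map_mul Matrix.toLinAlgEquiv' _ _ }
  have hΦ : Function.Injective Φ := fun a b h =>
    Subtype.ext (Subtype.ext (Matrix.toLinAlgEquiv'.injective h))
  have hpres : ∀ (s : SU 4 F 3) (u v : (Fin 4 → F)), hermForm 4 F 3 (Φ s u) (Φ s v) = hermForm 4 F 3 u v :=
    fun s u v => s.2 u v
  have hdet : ∀ s : SU 4 F 3, LinearMap.det (Φ s) = 1 := fun s =>
    (LinearMap.det_toLin' _).trans s.1.2
  set T := Φ g with hT
  have hT7 : T ^ 7 = 1 := by rw [hT, ← map_pow, hg7, map_one]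
  set L := LinearMap.ker (T - 1) with hL
  set W := LinearMap.range (T - 1) with hW
  have memL : ∀ v, v ∈ L ↔ T v = v := fun v => by simp [hL, sub_eq_zero]
  have h7 : (7 : F) ≠ 0 := by
    intro h
    obtain ⟨p, hp⟩ := CharP.exists F
    obtain ⟨k, hpr, hk⟩ := FiniteField.card F p
    have h1 : p ∣ 7 := (CharP.cast_eq_zero_iff F p 7).mp (by exact_mod_cast h)
    have h2 : p ∣ 3 ^ 2 := by rw [show 3 ^ 2 = 9 from rfl, ← hF, hk]; exact dvd_pow_self p k.ne_zero
    have h3 := (Nat.prime_dvd_prime_iff_eq hpr (by norm_num)).mp (hpr.dvd_of_dvd_pow h2)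
    subst h3
    norm_num at h1
  have hdisj : ∀ v, v ∈ L → v ∈ W → v = 0 := by
    rintro v hv ⟨u, hu⟩
    rw [memL] at hv
    have hstep : ∀ i : ℕ, (T ^ (i + 1)) u = u + ((i + 1 : ℕ) : F) • v := by
      intro i
      induction i with
      | zero => simp [← hu]
      | succ i ih =>
        rw [pow_succ', Module.End.mul_apply, ih, map_add, map_smul, hv,
          show T u = u + v by simp [← hu], Nat.cast_succ (i + 1), add_smul, one_smul]
        abel
    have h := hstep 6
    rw [hT7, Module.End.one_apply, left_eq_add] at h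
    exact (smul_eq_zero.mp h).resolve_left (by exact_mod_cast h7)
  have hsum : Module.finrank F L + Module.finrank F W = 4 := by
    rw [add_comm, hL, hW, LinearMap.finrank_range_add_finrank_ker]
    simp
  have hWinv : ∀ x ∈ W, T x ∈ W := by
    rintro _ ⟨u, rfl⟩
    exact ⟨T u, by simp⟩
  set TW : Module.End F W := T.restrict hWinv
  have hTW7 : TW ^ 7 = 1 := by
    rw [Module.End.pow_restrict (h := hWinv)]
    ext x
    simp [hT7]
  have hTWfix : ∀ x : W, TW x = x → x = 0 := fun x hx =>
    Subtype.ext (hdisj _ ((memL _).2 (congrArg Subtype.val hx)) x.2)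
  have hWpos : 0 < Module.finrank F W := by
    rw [Nat.pos_iff_ne_zero]
    intro h
    refine hg (hΦ ?_)
    rw [map_one, ← hT, ← sub_eq_zero]
    exact LinearMap.range_eq_bot.mp (Submodule.finrank_eq_zero.mp h)
  have hW3 := three_le_finrank hF (IsUnit.of_pow_eq_one hTW7 (by norm_num)).unit
    (Units.ext (by rw [Units.val_pow_eq_pow_val]; exact hTW7)) hTWfix hWpos
  have hperp : ∀ v ∈ L, ∀ x ∈ W, hermForm 4 F 3 v x = 0 := by
    rintro v hv _ ⟨u, rfl⟩
    rw [memL] at hv
    have h := hpres g v u
    rw [← hT, hv] at h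
    rw [Herm.h_swap K ((T - 1) u) v]
    have h' : hermForm 4 F 3 (T u) v = hermForm 4 F 3 u v := by
      rw [Herm.h_swap K v (T u), h, ← Herm.h_swap K v u]
    have : hermForm 4 F 3 ((T - 1) u) v = 0 := by
      rw [LinearMap.sub_apply, Module.End.one_apply, hermForm]
      simp only [Pi.sub_apply, sub_mul, Finset.sum_sub_distrib]
      rw [sub_eq_zero]
      exact h'
    rw [this, map_zero]
  have hcompl : IsCompl L W := by
    refine Submodule.isCompl_iff_disjoint _ _ (by simp; omega) |>.mpr ?_
    rw [Submodule.disjoint_def]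
    exact hdisj
  have hsplit : ∀ v : (Fin 4 → F), ∃ l ∈ L, ∃ w ∈ W, v = l + w := fun v => by
    obtain ⟨l, hl, w, hw, h⟩ := Submodule.mem_sup.mp (hcompl.sup_eq_top ▸ Submodule.mem_top : v ∈ L ⊔ W)
    exact ⟨l, hl, w, hw, h.symm⟩
  have hW3' : Module.finrank F W = 3 := by
    obtain ⟨h1, h2⟩ := hW3
    omega
  have hL1 : Module.finrank F L = 1 := by omega
  set D := Φ c with hD
  have hDT : D * T = T * D := by rw [hD, hT, ← map_mul, hc, map_mul]
  have hDW : ∀ x ∈ W, D x ∈ W := by
    rintro _ ⟨u, rfl⟩
    refine ⟨D u, ?_⟩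
    have := LinearMap.congr_fun hDT u
    simp only [Module.End.mul_apply] at this
    simp [this]
  set DW : Module.End F W := D.restrict hDW
  have hDWc : DW * TW = TW * DW := LinearMap.ext fun x => Subtype.ext (LinearMap.congr_fun hDT x.1)
  have hcu : IsUnit c := Group.isUnit c
  have hDWu : IsUnit DW := by
    refine (Module.End.isUnit_iff _).mpr (Finite.injective_iff_bijective.mp ?_)
    intro a b h
    refine Subtype.ext ((Module.End.isUnit_iff _).mp (hcu.map Φ) |>.1 ?_)
    exact congrArg Subtype.val h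
  have hDW728 := commutant_pow hF TW hW3' hTW7 hTWfix hDWc hDWu
  obtain ⟨v0, hv0L, hv0⟩ := Submodule.exists_mem_ne_zero_of_ne_bot
    (fun h : L = ⊥ => by rw [h, finrank_bot] at hL1; exact zero_ne_one hL1)
  have hline : ∀ l ∈ L, ∃ s : F, l = s • v0 := by
    intro l hl
    obtain ⟨s, hs⟩ := (finrank_eq_one_iff_of_nonzero' (⟨v0, hv0L⟩ : L)
      (fun h => hv0 (congrArg Subtype.val h))).mp hL1 ⟨l, hl⟩
    exact ⟨s, (congrArg Subtype.val hs).symm⟩
  obtain ⟨a, ha⟩ := hline (D v0) ((memL _).2 (by
    have := LinearMap.congr_fun hDT v0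
    simp only [Module.End.mul_apply] at this
    rw [← this, (memL _).1 hv0L]))
  have ha0 : a ≠ 0 := fun h => hv0 ((Module.End.isUnit_iff _).mp (hcu.map Φ) |>.1
    (show D v0 = D 0 by rw [ha, h, zero_smul, map_zero]))
  have hDpow : ∀ n : ℕ, (D ^ n) v0 = a ^ n • v0 := by
    intro n
    induction n with
    | zero => simp
    | succ n ih => rw [pow_succ', Module.End.mul_apply, ih, map_smul, ha, smul_smul, ← pow_succ]
  have ha728 : a ^ 728 = 1 := by
    have h := FiniteField.pow_card_sub_one_eq_one a ha0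
    rw [hF] at h
    rw [show 728 = (9 - 1) * 91 from rfl, pow_mul, h, one_pow]
  have hDWpow : ∀ (n : ℕ) (x : W), (D ^ n) (x : (Fin 4 → F)) = ((DW ^ n) x : (Fin 4 → F)) := by
    intro n x
    induction n with
    | zero => simp
    | succ n ih => rw [pow_succ', Module.End.mul_apply, ih, pow_succ', Module.End.mul_apply]; rfl
  refine ⟨hΦ ?_, fun hc8 => ?_⟩
  · rw [map_pow, map_one, ← hD]
    refine LinearMap.ext fun v => ?_
    obtain ⟨l, hl, w, hw, rfl⟩ := hsplit v
    obtain ⟨s, rfl⟩ := hline l hl
    rw [map_add, map_smul, hDpow, ha728, one_smul, hDWpow 728 ⟨w, hw⟩, hDW728]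
    rfl
  -- killed by 8
  have hD8 : D ^ 8 = 1 := by rw [hD, ← map_pow, hc8, map_one]
  obtain ⟨b, hb⟩ := commutant_scalar hF TW hW3' hTW7 hTWfix hDWc (LinearMap.ext fun x => Subtype.ext
    (by rw [← hDWpow 8 x, hD8]; rfl))
  have hbW : ∀ x ∈ W, D x = b • x := fun x hx =>
    congrArg Subtype.val (LinearMap.congr_fun hb ⟨x, hx⟩)
  have hh2 : ∀ (s : F) (u v : (Fin 4 → F)), hermForm 4 F 3 (s • u) (s • v) = s ^ 4 * hermForm 4 F 3 u v := by
    intro s u v
    simp only [hermForm, Finset.mul_sum, Pi.smul_apply, smul_eq_mul]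
    exact Finset.sum_congr rfl fun i _ => by ring
  have hadd : ∀ u v w : (Fin 4 → F), hermForm 4 F 3 u (v + w) = hermForm 4 F 3 u v + hermForm 4 F 3 u w := by
    intro u v w
    rw [Herm.h_swap K (v + w) u, Herm.h_swap K v u, Herm.h_swap K w u, ← map_add]
    congr 1
    simp [hermForm, add_mul, Finset.sum_add_distrib]
  have hsm : ∀ (s : F) (u v : (Fin 4 → F)), hermForm 4 F 3 u (s • v) = s ^ 3 * hermForm 4 F 3 u v := by
    intro s u v
    simp only [hermForm, Finset.mul_sum, Pi.smul_apply, smul_eq_mul]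
    exact Finset.sum_congr rfl fun i _ => by ring
  have ha4 : a ^ 4 = 1 := by
    have hne : hermForm 4 F 3 v0 v0 ≠ 0 := by
      intro h0
      refine hv0 (hnd v0 fun v => ?_)
      obtain ⟨l, hl, w, hw, rfl⟩ := hsplit v
      obtain ⟨s, rfl⟩ := hline l hl
      rw [hadd, hperp v0 hv0L w hw, hsm, h0, mul_zero, add_zero]
    have h := hpres c v0 v0
    rw [← hD, ha, hh2] at h
    exact (mul_eq_right₀ hne).mp h
  have hb4 : b ^ 4 = 1 := by
    obtain ⟨x, hx, hx0⟩ := Submodule.exists_mem_ne_zero_of_ne_bot
      (fun h : W = ⊥ => by rw [h, finrank_bot] at hW3'; omega)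
    obtain ⟨y, hy, hxy⟩ : ∃ y ∈ W, hermForm 4 F 3 x y ≠ 0 := by
      by_contra hno
      push Not at hno
      refine hx0 (hnd x fun v => ?_)
      obtain ⟨l, hl, w, hw, rfl⟩ := hsplit v
      rw [hadd, hno w hw, hrefl l x (hperp l hl x hx), add_zero]
    have h := hpres c x y
    rw [← hD, hbW x hx, hbW y hy, hh2] at h
    exact (mul_eq_right₀ hxy).mp h
  set e := Submodule.prodEquivOfIsCompl L W hcompl
  have hconj : D = (e : (L × W) →ₗ[F] (Fin 4 → F)) ∘ₗ
      ((a • LinearMap.id : L →ₗ[F] L).prodMap (b • LinearMap.id : W →ₗ[F] W)) ∘ₗ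
        (e.symm : (Fin 4 → F) →ₗ[F] L × W) := by
    refine LinearMap.ext fun v => ?_
    obtain ⟨⟨l, w⟩, rfl⟩ := e.surjective v
    simp only [LinearMap.comp_apply, LinearEquiv.coe_coe]
    rw [e.symm_apply_apply]
    simp only [LinearMap.prodMap_apply, LinearMap.smul_apply, LinearMap.id_apply, e,
      Submodule.coe_prodEquivOfIsCompl', map_add, Submodule.coe_smul]
    obtain ⟨s, hs⟩ := hline _ l.2
    rw [hbW _ w.2, hs, map_smul, ha, smul_comm]
  have hdetD := hdet c
  rw [← hD, hconj, LinearMap.det_conj, LinearMap.det_prodMap, LinearMap.det_smul,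
    LinearMap.det_smul, LinearMap.det_id, LinearMap.det_id, hL1, hW3', mul_one, mul_one, pow_one]
    at hdetD
  have hab : a = b := by
    linear_combination b * hdetD - a * hb4
  rw [Herm.center_iff K (by norm_num)]
  refine ⟨b, Matrix.toLinAlgEquiv'.injective ?_⟩
  rw [map_smul, map_one]
  refine LinearMap.ext fun v => ?_
  show D v = b • v
  obtain ⟨l, hl, w, hw, rfl⟩ := hsplit v
  obtain ⟨s, rfl⟩ := hline l hl
  rw [map_add, map_smul, ha, hbW w hw, hab, smul_add, smul_comm]

end Unitary

end CfsgLib.Classical.UFourThreeSeven
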