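import Cfsg.Agent.Lib.Classical.UnitaryOrder
import Cfsg.Agent.Lib.Classical.PSLThreeFour

set_option autoImplicit false

/-!
In a central extension of `PSU(6,2)` by a group of exponent two, every involution lifts to an element of order at
most two: an involution of `SU(6,2)` is a product of transvections with pairwise orthogonal centers, and lifts of two
such transvections are commuting involutions.
-/

namespace CfsgLib.Classical.USixTwoLift

open Matrix Cfsg

variable {K : Type*} [Field K] [Fintype K]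

local notation "V6" => Fin 6 → K
local notation "M6" => Matrix (Fin 6) (Fin 6) K
local notation "hf" => hermForm 6 K 2

theorem pow_four (hK : Fintype.card K = 4) (x : K) : x ^ 4 = x := by
  rw [← hK]; exact FiniteField.pow_card x

omit [Fintype K] in
theorem add_left (u u' v : V6) : hf (u + u') v = hf u v + hf u' v := by
  simp only [hermForm, Pi.add_apply, add_mul, Finset.sum_add_distrib]

omit [Fintype K] in
theorem smul_left (c : K) (u v : V6) : hf (c • u) v = c * hf u v := by
  simp only [hermForm, Pi.smul_apply, smul_eq_mul, Finset.mul_sum, mul_assoc]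

omit [Fintype K] in
theorem zero_left (v : V6) : hf 0 v = 0 := by simp [hermForm]

omit [Fintype K] in
theorem zero_right (v : V6) : hf v 0 = 0 := by simp [hermForm]

omit [Fintype K] in
theorem add_right (h2 : (2 : K) = 0) (u v v' : V6) : hf u (v + v') = hf u v + hf u v' := by
  simp only [hermForm, Pi.add_apply, ← Finset.sum_add_distrib]
  refine Finset.sum_congr rfl fun i _ => ?_
  linear_combination u i * v i * v' i * h2

omit [Fintype K] in
theorem smul_right (c : K) (u v : V6) : hf u (c • v) = c ^ 2 * hf u v := by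
  simp only [hermForm, Pi.smul_apply, smul_eq_mul, Finset.mul_sum]
  exact Finset.sum_congr rfl fun i _ => by ring

theorem swap (hK : Fintype.card K = 4) (u v : V6) : hf v u = hf u v ^ 2 := by
  have h2 := PSLThreeFour.two_eq_zero hK
  haveI : CharP K 2 := CharTwo.of_one_ne_zero_of_two_eq_zero one_ne_zero h2
  simp only [hermForm, CharTwo.sum_sq]
  refine Finset.sum_congr rfl fun i _ => ?_
  linear_combination (-(u i ^ 2)) * pow_four hK (v i)

omit [Fintype K] in
theorem single_right (v : V6) (i : Fin 6) : hf v (Pi.single i 1) = v i := by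
  simp only [hermForm]
  rw [Finset.sum_eq_single i]
  · simp
  · intro j _ hj; simp [hj]
  · intro h; exact absurd (Finset.mem_univ i) h

omit [Fintype K] in
theorem eq_zero_of_forall (v : V6) (h : ∀ x, hf v x = 0) : v = 0 :=
  funext fun i => (single_right v i).symm.trans (h _)

/-- `v ↦ h(v,w) u`. -/
def rk (u w : V6) : M6 := vecMulVec u fun i => w i ^ 2

omit [Fintype K] in
theorem rk_mulVec (u w v : V6) : rk u w *ᵥ v = hf v w • u := by
  ext i
  simp only [rk, mulVec, dotProduct, vecMulVec_apply, Pi.smul_apply, smul_eq_mul, hermForm, Finset.sum_mul]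
  exact Finset.sum_congr rfl fun j _ => by ring

omit [Fintype K] in
theorem ext_mulVec {A B : M6} (h : ∀ v : V6, A *ᵥ v = B *ᵥ v) : A = B :=
  Matrix.toLin'.injective (LinearMap.ext fun v => by simpa using h v)

omit [Fintype K] in
theorem mat_add_self (h2 : (2 : K) = 0) (A : M6) : A + A = 0 := by
  ext i j
  rw [Matrix.add_apply, Matrix.zero_apply]
  linear_combination A i j * h2

omit [Fintype K] in
theorem vec_add_self (h2 : (2 : K) = 0) (v : V6) : v + v = 0 := by
  ext i
  rw [Pi.add_apply, Pi.zero_apply]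
  linear_combination v i * h2

omit [Fintype K] in
theorem sq_one_add (h2 : (2 : K) = 0) (A : M6) : (1 + A) * (1 + A) = 1 + A * A := by
  calc (1 + A) * (1 + A) = 1 + A * A + (A + A) := by noncomm_ring
    _ = 1 + A * A := by rw [mat_add_self h2, add_zero]

/-- Matrices preserving the form and of order dividing `4` lie in `SU`. -/
theorem exists_su (hK : Fintype.card K = 4) (A : M6) (hA : ∀ u v, hf (A *ᵥ u) (A *ᵥ v) = hf u v)
    (h4 : A ^ 4 = 1) : ∃ g : SU 6 K 2, (g.1 : M6) = A := by
  have hd : A.det = 1 := by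
    rw [← pow_four hK A.det, ← det_pow, h4, det_one]
  exact ⟨⟨⟨A, hd⟩, hA⟩, rfl⟩

/-- The endomorphism `M` with `1 + M` the root element attached to `w` and `e`. -/
def xiN (w e : V6) (a : K) : M6 := rk e w + rk w e + a • rk w w

omit [Fintype K] in
theorem xiN_mulVec (w e : V6) (a : K) (v : V6) :
    xiN w e a *ᵥ v = hf v w • e + hf v e • w + (a * hf v w) • w := by
  simp only [xiN, add_mulVec, smul_mulVec, rk_mulVec, smul_smul]

theorem exists_good_vector (hK : Fintype.card K = 4) (w w' : V6) :
    ∃ e : V6, hf e e = 1 ∧ hf e w = 0 ∧ hf e w' = 0 := by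
  classical
  have h2 := PSLThreeFour.two_eq_zero hK
  haveI : CharP K 2 := CharTwo.of_one_ne_zero_of_two_eq_zero one_ne_zero h2
  obtain ⟨om, hom⟩ := PSLThreeFour.exists_w hK
  by_contra hne
  push Not at hne
  let φ : (Fin 6 → K) →ₗ[K] (K × K) :=
    { toFun := fun v => (hf v w, hf v w')
      map_add' := fun u v => by simp [add_left]
      map_smul' := fun c v => by simp [smul_left] }
  set U := LinearMap.ker φ with hU
  have hmem : ∀ v, v ∈ U ↔ hf v w = 0 ∧ hf v w' = 0 := fun v => by
    simp [hU, φ, Prod.ext_iff]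
  have hiso : ∀ v ∈ U, hf v v = 0 := by
    intro v hv
    have h := swap hK v v
    have h' : hf v v * (hf v v - 1) = 0 := by linear_combination -h
    rcases mul_eq_zero.1 h' with h0 | h0
    · exact h0
    · exact absurd ((hmem v).1 hv).2 (hne v (sub_eq_zero.1 h0) ((hmem v).1 hv).1)
  have horth : ∀ u ∈ U, ∀ v ∈ U, hf u v = 0 := by
    intro u hu v hv
    have e1 := hiso _ (U.add_mem hu hv)
    rw [add_left, add_right h2, add_right h2, hiso u hu, hiso v hv, swap hK u v] at e1
    have e2 := hiso _ (U.add_mem (U.smul_mem om hu) hv)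
    rw [add_left, add_right h2, add_right h2, hiso _ (U.smul_mem om hu), hiso v hv, smul_left, smul_right,
      swap hK u v] at e2
    linear_combination om * om * e1 - e2 - hf u v * hom
  have hdim : 4 ≤ Module.finrank K U := by
    have h := φ.finrank_range_add_finrank_ker
    have h' : Module.finrank K (LinearMap.range φ) ≤ 2 := by
      refine (Submodule.finrank_le _).trans ?_
      rw [Module.finrank_prod, Module.finrank_self]
    rw [Module.finrank_fin_fun, ← hU] at h
    omega
  have hsurj : ∀ f : Module.Dual K U, ∃ v : V6, ∀ x : U, hf (x : V6) v = f x := by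
    intro f
    obtain ⟨g, hg⟩ := LinearMap.exists_extend f
    refine ⟨fun i => (g fun j => if i = j then 1 else 0) ^ 2, fun x => ?_⟩
    rw [← hg, LinearMap.comp_apply, Submodule.subtype_apply, LinearMap.pi_apply_eq_sum_univ g (x : V6)]
    simp only [hermForm, smul_eq_mul, ← pow_mul]
    exact Finset.sum_congr rfl fun i _ => by rw [pow_four hK]
  choose s hs using hsurj
  have hinj : Function.Injective (fun p : U × Module.Dual K U => (p.1 : V6) + s p.2) := by
    rintro ⟨u, f⟩ ⟨u', f'⟩ h
    have hf' : f = f' := by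
      refine LinearMap.ext fun x => ?_
      have := congrArg (fun z => hf (x : V6) z) h
      simpa [add_right h2, horth _ x.2 _ u.2, horth _ x.2 _ u'.2, hs] using this
    subst hf'
    exact Prod.ext (Subtype.ext (add_right_cancel h)) rfl
  haveI : Finite (Module.Dual K U) := Module.finite_of_finite K
  have hcard := Nat.card_le_card_of_injective _ hinj
  rw [Nat.card_prod, Module.natCard_eq_pow_finrank (K := K) (V := U),
    Module.natCard_eq_pow_finrank (K := K) (V := Module.Dual K U), Subspace.dual_finrank_eq,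
    Module.natCard_eq_pow_finrank (K := K) (V := Fin 6 → K), Module.finrank_fin_fun,
    Nat.card_eq_fintype_card, hK, ← pow_add] at hcard
  have := (Nat.pow_le_pow_iff_right (by norm_num : 1 < 4)).1 hcard
  omega

section lift

variable {C : Type*} [Group C] (π : C →* PSU 6 K 2)

/-- `y` lies over the class of the matrix `A`. -/
def Lifts (A : M6) (y : C) : Prop := ∃ g : SU 6 K 2, (g.1 : M6) = A ∧ π y = QuotientGroup.mk g

omit [Fintype K] in
theorem Lifts.mul {A B : M6} {x y : C} (hx : Lifts π A x) (hy : Lifts π B y) :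
    Lifts π (A * B) (x * y) := by
  obtain ⟨g, rfl, hg⟩ := hx
  obtain ⟨g', rfl, hg'⟩ := hy
  exact ⟨g * g', rfl, by rw [map_mul, hg, hg']; rfl⟩

omit [Fintype K] in
theorem Lifts.exists_mul {A : M6} {x y : C} (hx : Lifts π A x) (hy : Lifts π A y) :
    ∃ c, π c = 1 ∧ y = x * c := by
  obtain ⟨g, hgA, hg⟩ := hx
  obtain ⟨g', hgA', hg'⟩ := hy
  have : g = g' := Subtype.ext (Subtype.ext (hgA.trans hgA'.symm))
  subst this
  exact ⟨x⁻¹ * y, by rw [map_mul, map_inv, hg, hg', inv_mul_cancel], by rw [mul_inv_cancel_left]⟩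

theorem exists_lifts (hK : Fintype.card K = 4) (hs : Function.Surjective π) (A : M6)
    (hA : ∀ u v, hf (A *ᵥ u) (A *ᵥ v) = hf u v) (h4 : A ^ 4 = 1) : ∃ y, Lifts π A y := by
  obtain ⟨g, hg⟩ := exists_su hK A hA h4
  obtain ⟨y, hy⟩ := hs (QuotientGroup.mk g)
  exact ⟨y, g, hg, hy⟩

/-- The group identity behind the lifting: squares and commutator equal to the same element mod the kernel. -/
theorem sq_eq_one {T I J : C} {c c' c'' : C} (hc : ∀ z, π z = 1 → ∀ y, Commute z y)
    (h2 : ∀ z, π z = 1 → z * z = 1) (k : π c = 1) (k' : π c' = 1) (k'' : π c'' = 1)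
    (hI : I * I = T * c) (hJ : J * J = T * c') (hIJ : I * J = J * I * T * c'') : T * T = 1 := by
  have eI : T = I * I * c⁻¹ := by rw [hI, mul_inv_cancel_right]
  have eJ : T = J * J * c'⁻¹ := by rw [hJ, mul_inv_cancel_right]
  have TI : Commute T I := by
    rw [eI]; exact ((Commute.refl I).mul_left (Commute.refl I)).mul_left ((hc c k I).inv_left)
  have TJ : Commute T J := by
    rw [eJ]; exact ((Commute.refl J).mul_left (Commute.refl J)).mul_left ((hc c' k' J).inv_left)
  have e1 : I * J * I⁻¹ = J * (T * c'') := by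
    calc I * J * I⁻¹ = J * I * T * c'' * I⁻¹ := by rw [hIJ]
      _ = J * (I * T) * (c'' * I⁻¹) := by group
      _ = J * (T * I) * (I⁻¹ * c'') := by rw [← TI.eq, (hc c'' k'' I⁻¹).eq]
      _ = J * (T * c'') := by group
  have hJT : Commute J (T * c'') := TJ.symm.mul_right (hc c'' k'' J).symm
  have e2 : (I * J * I⁻¹) * (I * J * I⁻¹) = T * c' := by
    calc (I * J * I⁻¹) * (I * J * I⁻¹) = I * (J * J) * I⁻¹ := by group
      _ = I * (T * c') * I⁻¹ := by rw [hJ]
      _ = (T * c') * I * I⁻¹ := by
          rw [show I * (T * c') = T * c' * I from (TI.symm.mul_right (hc c' k' I).symm).eq]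
      _ = T * c' := by group
  rw [e1] at e2
  have e3 : J * (T * c'') * (J * (T * c'')) = T * c' * (T * T) := by
    calc J * (T * c'') * (J * (T * c'')) = J * J * ((T * c'') * (T * c'')) := hJT.symm.mul_mul_mul_comm J (T * c'')
      _ = T * c' * ((T * c'') * (T * c'')) := by rw [hJ]
      _ = T * c' * (T * T * (c'' * c'')) := by rw [(hc c'' k'' T).mul_mul_mul_comm T c'']
      _ = T * c' * (T * T) := by rw [h2 c'' k'', mul_one]
  rw [e3] at e2
  simpa using e2

end lift

/-! ### Transvections and their square roots -/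

omit [Fintype K] in
theorem tv_sq (h2 : (2 : K) = 0) {w : V6} (hw : hf w w = 0) : (1 + rk w w) * (1 + rk w w) = 1 := by
  rw [sq_one_add h2, add_eq_left]
  refine ext_mulVec fun v => ?_
  rw [← mulVec_mulVec, rk_mulVec, rk_mulVec, smul_left, hw, mul_zero, zero_smul, zero_mulVec]

theorem tv_pres (hK : Fintype.card K = 4) {w : V6} (hw : hf w w = 0) (u v : V6) :
    hf ((1 + rk w w) *ᵥ u) ((1 + rk w w) *ᵥ v) = hf u v := by
  have h2 := PSLThreeFour.two_eq_zero hK
  simp only [add_mulVec, one_mulVec, rk_mulVec, add_left, add_right h2, smul_left, smul_right, hw]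
  rw [swap hK w v]
  linear_combination hf u w * hf w v ^ 2 * h2 - hf u w * hf w v ^ 2 * h2
    + hf u w * pow_four hK (hf w v) + hf u w * hf w v * h2

theorem xi_pres (hK : Fintype.card K = 4) {w e : V6} {a : K} (hw : hf w w = 0) (he : hf e e = 1)
    (hew : hf e w = 0) (ha : a + a ^ 2 = 1) (u v : V6) :
    hf ((1 + xiN w e a) *ᵥ u) ((1 + xiN w e a) *ᵥ v) = hf u v := by
  have h2 := PSLThreeFour.two_eq_zero hK
  have hwe : hf w e = 0 := by rw [swap hK e w, hew, zero_pow two_ne_zero]
  have p1 : hf v w ^ 2 = hf w v := (swap hK v w).symm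
  have p2 : hf v e ^ 2 = hf e v := (swap hK v e).symm
  simp only [add_mulVec, one_mulVec, xiN_mulVec, add_left, add_right h2, smul_left, smul_right, hw, hew, hwe,
    he, mul_pow, p1, p2]
  linear_combination (hf u w * hf w v) * ha + (hf u w * hf e v + hf u e * hf w v + hf u w * hf w v) * h2

theorem xi_sq (hK : Fintype.card K = 4) {w e : V6} {a : K} (hw : hf w w = 0) (he : hf e e = 1)
    (hew : hf e w = 0) : (1 + xiN w e a) * (1 + xiN w e a) = 1 + rk w w := by
  have h2 := PSLThreeFour.two_eq_zero hK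
  have hwe : hf w e = 0 := by rw [swap hK e w, hew, zero_pow two_ne_zero]
  rw [sq_one_add h2]
  refine congrArg (1 + ·) (ext_mulVec fun v => ?_)
  rw [← mulVec_mulVec, xiN_mulVec w e a v, mulVec_add, mulVec_add, mulVec_smul, mulVec_smul, mulVec_smul,
    xiN_mulVec w e a e, xiN_mulVec w e a w, rk_mulVec, hw, he, hew, hwe]
  simp

theorem xi_pow_four (hK : Fintype.card K = 4) {w e : V6} {a : K} (hw : hf w w = 0) (he : hf e e = 1)
    (hew : hf e w = 0) : (1 + xiN w e a) ^ 4 = 1 := by
  rw [pow_mul _ 2 2, pow_two, pow_two, xi_sq hK hw he hew, tv_sq (PSLThreeFour.two_eq_zero hK) hw]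

theorem xi_comm (hK : Fintype.card K = 4) {w e : V6} {a om : K} (hw : hf w w = 0) (he : hf e e = 1)
    (hew : hf e w = 0) (hom : om * om = om + 1) :
    (1 + xiN w e a) * (1 + xiN w (om • e) a) =
      (1 + xiN w (om • e) a) * (1 + xiN w e a) * (1 + rk w w) := by
  have h2 := PSLThreeFour.two_eq_zero hK
  have hwe : hf w e = 0 := by rw [swap hK e w, hew, zero_pow two_ne_zero]
  refine ext_mulVec fun v => ?_
  simp only [← mulVec_mulVec, add_mulVec, one_mulVec, xiN_mulVec, rk_mulVec, add_left, smul_left,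
    smul_right, hw, he, hew, hwe, mul_zero, zero_mul, add_zero, zero_add]
  ext i
  simp only [Pi.add_apply, Pi.smul_apply, smul_eq_mul]
  linear_combination (-(hf v w * w i)) * hom
    - (hf v w * w i) * h2

theorem xi_tv_comm (hK : Fintype.card K = 4) {w w' e : V6} {a : K} (hww' : hf w w' = 0)
    (hew' : hf e w' = 0) :
    (1 + xiN w e a) * (1 + rk w' w') = (1 + rk w' w') * (1 + xiN w e a) := by
  have hw'w : hf w' w = 0 := by rw [swap hK w w', hww', zero_pow two_ne_zero]
  have hw'e : hf w' e = 0 := by rw [swap hK e w', hew', zero_pow two_ne_zero]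
  refine ext_mulVec fun v => ?_
  simp only [← mulVec_mulVec, add_mulVec, one_mulVec, xiN_mulVec, rk_mulVec, add_left, smul_left,
    hww', hew', hw'w, hw'e, mul_zero, zero_mul, add_zero, zero_add, zero_smul, zero_smul]
  abel

theorem center_pow_three (hK : Fintype.card K = 4) (z : SU 6 K 2)
    (hz : z ∈ Subgroup.center (SU 6 K 2)) : z ^ 3 = 1 := by
  obtain ⟨Kc⟩ := CfsgLib.Classical.Herm.exists_conj_of_card (F := K) (q := 2) (by rw [hK]; norm_num)
  obtain ⟨c, hc'⟩ := (CfsgLib.Classical.Herm.center_iff Kc (by norm_num) _).1 hz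
  have hc0 : c ≠ 0 := by
    rintro rfl
    have h := z.1.2
    rw [hc', zero_smul, det_zero] at h
    exact zero_ne_one h
  have hc3 : c ^ 3 = 1 := by
    have h := FiniteField.pow_card_sub_one_eq_one c hc0
    rwa [hK] at h
  rw [pow_succ, pow_two]
  refine Subtype.ext (Subtype.ext ?_)
  show (z.1 : M6) * (z.1 : M6) * (z.1 : M6) = (1 : M6)
  rw [hc', smul_mul_smul_comm, smul_mul_smul_comm, one_mul, one_mul, ← pow_two, ← pow_succ, hc3, one_smul]

section main

variable {C : Type*} [Group C] {π : C →* PSU 6 K 2}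
  (hs : Function.Surjective π) (hc : ∀ z, π z = 1 → ∀ y, Commute z y)
  (h2k : ∀ z, π z = 1 → z * z = 1)

include hs hc h2k in
theorem tv_lift_sq (hK : Fintype.card K = 4) {w : V6} (hw : hf w w = 0) {T : C}
    (hT : Lifts π (1 + rk w w) T) : T * T = 1 := by
  obtain ⟨om, hom⟩ := PSLThreeFour.exists_w hK
  obtain ⟨e, he, hew, -⟩ := exists_good_vector hK w w
  have h2 := PSLThreeFour.two_eq_zero hK
  have ha : om + om ^ 2 = 1 := by linear_combination hom + om * h2
  have he' : hf (om • e) (om • e) = 1 := by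
    rw [smul_left, smul_right, he]
    linear_combination (om + 1) * hom + om * h2
  have hew' : hf (om • e) w = 0 := by rw [smul_left, hew, mul_zero]
  obtain ⟨I, hI⟩ := exists_lifts π hK hs _ (xi_pres hK hw he hew ha) (xi_pow_four hK hw he hew)
  obtain ⟨J, hJ⟩ := exists_lifts π hK hs _ (xi_pres hK hw he' hew' ha) (xi_pow_four hK hw he' hew')
  obtain ⟨c, k, e1⟩ := hT.exists_mul π (show Lifts π (1 + rk w w) (I * I) by
    have := hI.mul π hI; rwa [xi_sq hK hw he hew] at this)
  obtain ⟨c', k', e2⟩ := hT.exists_mul π (show Lifts π (1 + rk w w) (J * J) by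
    have := hJ.mul π hJ; rwa [xi_sq hK hw he' hew'] at this)
  obtain ⟨c'', k'', e3⟩ := ((hJ.mul π hI).mul π hT).exists_mul π
    (show Lifts π ((1 + xiN w (om • e) om) * (1 + xiN w e om) * (1 + rk w w)) (I * J) by
      have := hI.mul π hJ; rwa [xi_comm hK hw he hew hom] at this)
  exact sq_eq_one π hc h2k k k' k'' e1 e2 e3

include hs hc h2k in
theorem tv_lift_comm (hK : Fintype.card K = 4) {w w' : V6} (hw : hf w w = 0)
    (hww' : hf w w' = 0) {T S : C}
    (hT : Lifts π (1 + rk w w) T) (hS : Lifts π (1 + rk w' w') S) : Commute T S := by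
  obtain ⟨om, hom⟩ := PSLThreeFour.exists_w hK
  obtain ⟨e, he, hew, hew'⟩ := exists_good_vector hK w w'
  have h2 := PSLThreeFour.two_eq_zero hK
  have ha : om + om ^ 2 = 1 := by linear_combination hom + om * h2
  obtain ⟨I, hI⟩ := exists_lifts π hK hs _ (xi_pres hK hw he hew ha) (xi_pow_four hK hw he hew)
  obtain ⟨c, k, e1⟩ := (hS.mul π hI).exists_mul π
    (show Lifts π ((1 + rk w' w') * (1 + xiN w e om)) (I * S) by
      have := hI.mul π hS; rwa [xi_tv_comm hK hww' hew'] at this)
  have e2 : I * I * S = S * (I * I) := by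
    calc I * I * S = I * (I * S) := mul_assoc _ _ _
      _ = I * (S * I * c) := by rw [e1]
      _ = I * S * (I * c) := by group
      _ = S * I * c * (I * c) := by rw [e1]
      _ = S * I * (c * I) * c := by group
      _ = S * I * (I * c) * c := by rw [(hc c k I).eq]
      _ = S * (I * I) * (c * c) := by group
      _ = S * (I * I) := by rw [h2k c k, mul_one]
  obtain ⟨d, kd, e3⟩ := hT.exists_mul π (show Lifts π (1 + rk w w) (I * I) by
    have := hI.mul π hI; rwa [xi_sq hK hw he hew] at this)
  have hII : Commute (I * I) S := e2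
  have : T = I * I * d⁻¹ := by rw [e3, mul_inv_cancel_right]
  rw [this]
  exact hII.mul_left (hc d kd S).inv_left

include hs hc h2k in
theorem unipotent_lift (hK : Fintype.card K = 4) : ∀ (n : ℕ) (N : M6),
    Nat.card {v : V6 // N *ᵥ v ≠ 0} = n → N * N = 0 → (∀ u v, hf (N *ᵥ u) v = hf u (N *ᵥ v)) →
      ∃ y, Lifts π (1 + N) y ∧ y * y = 1 ∧ ∀ z, hf z z = 0 → (∀ v, hf (N *ᵥ v) z = 0) →
        ∀ S, Lifts π (1 + rk z z) S → Commute y S := by
  classical
  intro n
  induction n using Nat.strong_induction_on with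
  | _ n ih =>
    intro N hn hN2 hadj
    have h2 := PSLThreeFour.two_eq_zero hK
    by_cases hN : N = 0
    · subst hN
      exact ⟨1, ⟨1, by rw [add_zero]; rfl, by rw [map_one]; rfl⟩, mul_one 1,
        fun z _ _ S _ => Commute.one_left S⟩
    obtain ⟨u, hu⟩ : ∃ u, hf (N *ᵥ u) u ≠ 0 := by
      by_contra hne
      push Not at hne
      obtain ⟨om, hom⟩ := PSLThreeFour.exists_w hK
      refine hN (ext_mulVec fun u => ?_)
      rw [zero_mulVec]
      refine eq_zero_of_forall _ fun v => ?_
      have e0 : hf (N *ᵥ v) u = hf (N *ᵥ u) v ^ 2 := by rw [hadj v u, swap hK (N *ᵥ u) v]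
      have e1 := hne (u + v)
      rw [mulVec_add, add_left, add_right h2, add_right h2, hne u, hne v, e0] at e1
      have e2 := hne (om • u + v)
      rw [mulVec_add, add_left, add_right h2, add_right h2, hne v, mulVec_smul, smul_left, smul_left,
        smul_right, smul_right, hne u, e0] at e2
      linear_combination om * om * e1 - e2 - hf (N *ᵥ u) v * hom
    set w := N *ᵥ u with hwdef
    have hwu : hf w u = 1 := by
      have h : hf w u = hf w u ^ 2 := by
        conv_lhs => rw [hwdef, hadj u u, ← hwdef, swap hK w u]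
      have h' : hf w u * (hf w u - 1) = 0 := by linear_combination -h
      exact sub_eq_zero.1 ((mul_eq_zero.1 h').resolve_left hu)
    have huw : hf u w = 1 := by rw [swap hK w u, hwu, one_pow]
    have hNw : N *ᵥ w = 0 := by rw [hwdef, mulVec_mulVec, hN2, zero_mulVec]
    have hww : hf w w = 0 := by
      nth_rw 1 [hwdef]
      rw [hadj u w, hNw, zero_right]
    set N' := N + rk w w with hN'
    have hN'v : ∀ v, N' *ᵥ v = N *ᵥ v + hf v w • w := fun v => by rw [hN', add_mulVec, rk_mulVec]
    have hperp : ∀ v, hf (N *ᵥ v) w = 0 := fun v => by rw [hadj v w, hNw, zero_right]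
    have hrange : ∀ v, N' *ᵥ v = N *ᵥ (v + hf v w • u) := fun v => by
      rw [hN'v, mulVec_add, mulVec_smul]
    have hlt : Nat.card {v : V6 // N' *ᵥ v ≠ 0} < n := by
      rw [← hn]
      have hsub : ∀ v : V6, N' *ᵥ v ≠ 0 → N *ᵥ v ≠ 0 := fun v h h0 => h (by
        rw [hN'v, h0, zero_add]
        have : hf v w = 0 := by rw [hwdef, ← hadj v u, h0, zero_left]
        rw [this, zero_smul])
      refine Nat.lt_of_not_le fun hle => ?_
      have hinj : Function.Injective (fun x : {v : V6 // N' *ᵥ v ≠ 0} =>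
          (⟨x.1, hsub _ x.2⟩ : {v : V6 // N *ᵥ v ≠ 0})) := fun a b h => Subtype.ext (congrArg (·.1) h :)
      have hbij := hinj.bijective_of_nat_card_le hle
      have hw0 : N *ᵥ u ≠ 0 := fun h => hu (by rw [hwdef, h, zero_left])
      obtain ⟨⟨x, hx⟩, hxu⟩ := hbij.2 ⟨u, hw0⟩
      have : x = u := congrArg Subtype.val hxu
      subst this
      apply hx
      rw [hN'v, huw, one_smul, ← hwdef, vec_add_self h2]
    have hadj' : ∀ a b, hf (N' *ᵥ a) b = hf a (N' *ᵥ b) := fun a b => by
      rw [hN'v, hN'v, add_left, add_right h2, smul_left, smul_right, hadj a b, swap hK b w]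
      ring
    have hN'2 : N' * N' = 0 := by
      refine ext_mulVec fun v => ?_
      rw [← mulVec_mulVec, zero_mulVec, hN'v (N' *ᵥ v), hN'v v, mulVec_add, mulVec_smul, hNw, smul_zero,
        mulVec_mulVec, hN2, zero_mulVec, add_left, smul_left, hww, hperp]
      simp
    obtain ⟨y', hy', hy'2, hy'c⟩ := ih _ hlt N' rfl hN'2 hadj'
    have hpres : ∀ a b, hf ((1 + rk w w) *ᵥ a) ((1 + rk w w) *ᵥ b) = hf a b := tv_pres hK hww
    obtain ⟨T, hT⟩ := exists_lifts π hK hs _ hpres
      (by rw [pow_mul _ 2 2, pow_two, pow_two, tv_sq h2 hww, mul_one])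
    have hcomm : Commute y' T := hy'c w hww (fun v => by rw [hrange]; exact hperp _) T hT
    refine ⟨T * y', ?_, ?_, ?_⟩
    · have h := hT.mul π hy'
      have e : (1 + rk w w) * (1 + N') = 1 + N := by
        have e1 : rk w w * N = 0 := ext_mulVec fun v => by
          rw [← mulVec_mulVec, rk_mulVec, hperp, zero_smul, zero_mulVec]
        have e2 : rk w w * rk w w = 0 := ext_mulVec fun v => by
          rw [← mulVec_mulVec, rk_mulVec, rk_mulVec, smul_left, hww, mul_zero, zero_smul, zero_mulVec]
        rw [hN', add_mul, one_mul, mul_add, mul_one, mul_add, e1, e2, add_zero, add_zero, ← add_assoc,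
          add_assoc (1 + N), mat_add_self h2, add_zero]
      rwa [e] at h
    · rw [hcomm.mul_mul_mul_comm T y', hy'2, tv_lift_sq hs hc h2k hK hww hT, mul_one]
    · intro z hz hzN S hS
      exact (tv_lift_comm hs hc h2k hK hww (hzN u) hT hS).mul_left
        (hy'c z hz (fun v => by rw [hrange]; exact hzN _) S hS)

include hs hc h2k in
theorem invol_lift (hK : Fintype.card K = 4) (G : SU 6 K 2) (hG : G * G = 1) :
    ∃ y : C, π y = QuotientGroup.mk G ∧ y * y = 1 := by
  have h2 := PSLThreeFour.two_eq_zero hK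
  have hAA : (G.1 : M6) * (G.1 : M6) = 1 := congrArg (fun z : SU 6 K 2 => (z.1 : M6)) hG
  have hsa : ∀ u v, hf ((G.1 : M6) *ᵥ u) v = hf u ((G.1 : M6) *ᵥ v) := fun u v => by
    have h : hf ((G.1 : M6) *ᵥ u) ((G.1 : M6) *ᵥ ((G.1 : M6) *ᵥ v)) = hf u ((G.1 : M6) *ᵥ v) :=
      G.2 u _
    rwa [mulVec_mulVec _ (G.1 : M6) (G.1 : M6), hAA, one_mulVec] at h
  obtain ⟨y, ⟨g', hg', hy⟩, hy2, -⟩ := unipotent_lift hs hc h2k hK _ ((G.1 : M6) + 1) rfl
    (by rw [add_comm _ (1 : M6), sq_one_add h2, hAA, mat_add_self h2])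
    (fun u v => by rw [add_mulVec, add_mulVec, one_mulVec, one_mulVec, add_left, add_right h2, hsa])
  rw [← add_assoc, add_comm (1 : M6), add_assoc, mat_add_self h2, add_zero] at hg'
  obtain rfl : g' = G := Subtype.ext (Subtype.ext hg')
  exact ⟨y, hy, hy2⟩

include hs hc h2k in
/-- Every element of order at most two of `PSU(6,2)` lifts to one of the extension. -/
theorem exists_sq_one_lift (hK : Fintype.card K = 4) (x : PSU 6 K 2) (hx : x * x = 1) :
    ∃ y : C, π y = x ∧ y * y = 1 := by
  obtain ⟨g, rfl⟩ := QuotientGroup.mk_surjective x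
  have hz : g * g ∈ Subgroup.center (SU 6 K 2) := (QuotientGroup.eq_one_iff (g * g)).1 hx
  have hg3 : g ^ 3 * g ^ 3 = 1 := by
    rw [← (Commute.refl g).mul_pow]
    exact center_pow_three hK _ hz
  obtain ⟨y, hy, hy2⟩ := invol_lift hs hc h2k hK (g ^ 3) hg3
  refine ⟨y, hy.trans ?_, hy2⟩
  rw [pow_succ, pow_two, QuotientGroup.mk_mul, QuotientGroup.mk_mul, hx, one_mul]

end main

end CfsgLib.Classical.USixTwoLift
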