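import Cfsg.Agent.Lib.Classical.FixedCosets
import Cfsg.Agent.Lib.Classical.UnitaryDetClasses
import Cfsg.Agent.Lib.Classical.UnitaryOrder

/-!
Unitary matrices fixed up to scalars by a field automorphism of odd prime order.
-/

set_option autoImplicit false
set_option linter.style.haveILetI false
set_option maxHeartbeats 800000

namespace CfsgLib.Classical.UnitaryFixedCosets

open Matrix CfsgLib.Classical.UnitaryConj CfsgLib.Classical.FixedCosets
open scoped MatrixGroups

theorem pow_odd_pow {M : Type*} [Monoid M] {x : M} {a : ℕ} (hx : x ^ (a ^ 2) = x) (k : ℕ) :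
    x ^ (a ^ (2 * k + 1)) = x ^ a := by
  induction k with
  | zero => rw [mul_zero, zero_add, pow_one]
  | succ k ih =>
    rw [show 2 * (k + 1) + 1 = 2 + (2 * k + 1) by ring, pow_add, pow_mul, hx, ih]

theorem card_cosets {K : Type*} [Field K] [Fintype K] {q₀ q r n : ℕ} (hr : Odd r) (hn : 1 ≤ n)
    (hq : q = q₀ ^ r) (hK : Fintype.card K = q ^ 2) (σ : K ≃+* K) (hσ : orderOf σ = r) :
    Nat.card {g : ↥(Cfsg.GU n K q) // ∃ c : K, c ≠ 0 ∧
      ((g : GL (Fin n) K) : Matrix (Fin n) (Fin n) K).map σ = c • ((g : GL (Fin n) K) : Matrix (Fin n) (Fin n) K)} *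
      (q₀ + 1) = (q + 1) * (q₀ ^ (n * (n - 1) / 2) *
        ∏ i ∈ Finset.range n, (if Even i then q₀ ^ (i + 1) + 1 else q₀ ^ (i + 1) - 1)) := by
  classical
  have hr0 : r ≠ 0 := fun h => by simp [h] at hr
  set L := fixed σ
  have hL : Fintype.card L = q₀ ^ 2 := by
    rw [← Nat.card_eq_fintype_card]
    exact card_fixed σ hr0 (by rw [hK, hq, ← pow_mul, ← pow_mul, mul_comm]) hσ
  obtain ⟨C⟩ := CfsgLib.Classical.Herm.exists_conj_of_card (F := L) hL
  have hpow : ∀ x : L, x ^ q = x ^ q₀ := by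
    intro x
    obtain ⟨k, rfl⟩ := hr
    rw [hq]
    exact pow_odd_pow (by rw [← hL, FiniteField.pow_card]) k
  obtain ⟨F, _, _, hF⟩ := exists_field_of_card_sq hK
  obtain ⟨a, b, hab⟩ := RestrictScalars.exists_ab (F := F)
  obtain ⟨fr⟩ := RestrictScalars.exists_Frame hF hK a b hab
  set ι : GL (Fin n) L →* GL (Fin n) K := Matrix.GeneralLinearGroup.map (algebraMap L K)
  have hιinj : Function.Injective ι := fun x y h =>
    Units.ext (Matrix.map_injective (algebraMap L K).injective (congrArg Units.val h))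
  have hadj : ∀ h : GL (Fin n) L, adjU fr.σ (ι h) = ι (adjU (C.bar : L →+* L) h) := by
    intro h
    refine Units.ext (Matrix.ext fun i j => ?_)
    show fr.σ (((h : Matrix (Fin n) (Fin n) L) j i : L) : K) =
      ((C.bar ((h : Matrix (Fin n) (Fin n) L) j i) : L) : K)
    rw [C.bar_apply, fr.σ_eq, ← hpow]
    rfl
  have hGU : ∀ h : GL (Fin n) L, adjU fr.σ (ι h) * ι h = 1 ↔ h ∈ Cfsg.GU n L q₀ := by
    intro h
    rw [hadj, ← map_mul, map_eq_one_iff ι hιinj,
      mem_gu_iff (C.bar : L →+* L) (fun x => C.bar_apply x) (fun x => C.bar_bar x)]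
  set U := (powMonoidHom (q + 1) : Kˣ →* Kˣ).ker
  set U₀ := (powMonoidHom (q₀ + 1) : Lˣ →* Lˣ).ker
  let jU : U₀ → U := fun k => ⟨Units.map (algebraMap L K : L →* K) k.1, by
    have hk : k.1 ^ (q₀ + 1) = 1 := k.2
    rw [MonoidHom.mem_ker, powMonoidHom_apply]
    apply Units.ext
    show ((algebraMap L K) (k.1 : L)) ^ (q + 1) = 1
    rw [← map_pow, pow_succ, hpow, ← pow_succ, ← Units.val_pow_eq_pow_val, hk, Units.val_one, map_one]⟩
  let f : Kˣ → GL (Fin n) L → GL (Fin n) K := fun c h => Matrix.GeneralLinearGroup.scalar (Fin n) c * ι h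
  have happ : ∀ c h (i j : Fin n), (f c h : Matrix (Fin n) (Fin n) K) i j =
      (c : K) * (((h : Matrix (Fin n) (Fin n) L) i j : L) : K) := fun c h i j => by
    show (_ * _ : GL (Fin n) K).1 i j = _
    rw [scalar_mul_apply]
    rfl
  have hadjf : ∀ c h, adjU fr.σ (f c h) * f c h =
      Matrix.GeneralLinearGroup.scalar (Fin n) (c ^ (q + 1)) * (adjU fr.σ (ι h) * ι h) := by
    intro c h
    apply Units.ext
    ext i j
    rw [scalar_mul_apply]
    simp only [Units.val_mul, Matrix.mul_apply, Units.val_pow_eq_pow_val, Finset.mul_sum]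
    refine Finset.sum_congr rfl fun l _ => ?_
    show fr.σ ((f c h : Matrix (Fin n) (Fin n) K) l i) * (f c h : Matrix (Fin n) (Fin n) K) l j = _
    rw [happ, happ, map_mul, fr.σ_eq (c : K), pow_succ]
    show _ = _ * (fr.σ _ * _)
    rw [show ((ι h : GL (Fin n) K) : Matrix (Fin n) (Fin n) K) l i = (((h : Matrix (Fin n) (Fin n) L) l i : L) : K) from rfl,
      show ((ι h : GL (Fin n) K) : Matrix (Fin n) (Fin n) K) l j = (((h : Matrix (Fin n) (Fin n) L) l j : L) : K) from rfl]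
    ring
  set T := {g : ↥(Cfsg.GU n K q) // ∃ c : K, c ≠ 0 ∧
      ((g : GL (Fin n) K) : Matrix (Fin n) (Fin n) K).map σ = c • ((g : GL (Fin n) K) : Matrix (Fin n) (Fin n) K)}
  have hmemf : ∀ (x : U × ↥(Cfsg.GU n L q₀)), f x.1.1 x.2.1 ∈ Cfsg.GU n K q := by
    intro x
    rw [mem_gu_iff fr.σ fr.σ_eq fr.σσ, hadjf, (hGU _).mpr x.2.2, mul_one,
      show (x.1.1 : Kˣ) ^ (q + 1) = 1 from x.1.2, map_one]
  have hfT : ∀ x : U × ↥(Cfsg.GU n L q₀), ∃ c : K, c ≠ 0 ∧
      (f x.1.1 x.2.1 : Matrix (Fin n) (Fin n) K).map σ = c • (f x.1.1 x.2.1 : Matrix (Fin n) (Fin n) K) := by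
    intro x
    refine ⟨σ (x.1.1 : K) / (x.1.1 : K), div_ne_zero (by simp) x.1.1.ne_zero, ?_⟩
    ext i j
    rw [Matrix.map_apply, Matrix.smul_apply, happ, map_mul, (mem_fixed σ _).mp (SetLike.coe_mem _), smul_eq_mul,
      ← mul_assoc, div_mul_cancel₀ _ x.1.1.ne_zero]
  have hentry : ∀ g : GL (Fin n) K, ∃ i j, (g : Matrix (Fin n) (Fin n) K) i j ≠ 0 := by
    intro g
    by_contra h
    push Not at h
    have h0 : (g : Matrix (Fin n) (Fin n) K) = 0 := by ext i j; exact h i j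
    haveI : Nonempty (Fin n) := ⟨⟨0, hn⟩⟩
    exact g.ne_zero h0
  have hsurj : ∀ t : T, ∃ x : U × ↥(Cfsg.GU n L q₀), f x.1.1 x.2.1 = t.1.1 := by
    rintro ⟨⟨g, hgU⟩, c, hc0, hg⟩
    obtain ⟨i, j, ha⟩ := hentry g
    set α := (g : Matrix (Fin n) (Fin n) K) i j with ha'
    have hmem : ∀ k l, (g : Matrix (Fin n) (Fin n) K) k l / α ∈ L := by
      intro k l
      have h1 := congrFun (congrFun hg k) l
      have h2 := congrFun (congrFun hg i) j
      rw [Matrix.map_apply, Matrix.smul_apply, smul_eq_mul] at h1 h2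
      rw [mem_fixed, map_div₀, h1, ha', h2, mul_div_mul_left _ _ hc0]
    let M : Matrix (Fin n) (Fin n) L := fun k l => ⟨_, hmem k l⟩
    have hM : (algebraMap L K).mapMatrix M = α⁻¹ • (g : Matrix (Fin n) (Fin n) K) := by
      ext k l
      show (g : Matrix (Fin n) (Fin n) K) k l / α = _
      rw [Matrix.smul_apply, smul_eq_mul, div_eq_inv_mul]
    have hdet : M.det ≠ 0 := by
      intro h0
      have h1 := congrArg (algebraMap L K) h0
      rw [RingHom.map_det, hM, Matrix.det_smul, map_zero, mul_eq_zero] at h1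
      rcases h1 with h1 | h1
      · exact pow_ne_zero _ (inv_ne_zero ha) h1
      · exact g.det_ne_zero h1
    set h₁ : GL (Fin n) L := Matrix.GeneralLinearGroup.mkOfDetNeZero M hdet
    have hfg : f (Units.mk0 α ha) h₁ = g := by
      refine Units.ext (Matrix.ext fun k l => ?_)
      rw [happ]
      show α * ((g : Matrix (Fin n) (Fin n) K) k l / α) = _
      rw [mul_div_cancel₀ _ ha]
    have h2 := (mem_gu_iff fr.σ fr.σ_eq fr.σσ g).mp hgU
    rw [← hfg, hadjf] at h2
    set P := adjU fr.σ (ι h₁) * ι h₁ with hP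
    have hP' : P = Matrix.GeneralLinearGroup.scalar (Fin n) ((Units.mk0 α ha) ^ (q + 1))⁻¹ := by
      rw [map_inv]; exact eq_inv_of_mul_eq_one_right h2
    let lam : L := ∑ l, (C.bar ((h₁ : Matrix (Fin n) (Fin n) L) l ⟨0, hn⟩)) * (h₁ : Matrix (Fin n) (Fin n) L) l ⟨0, hn⟩
    have hlam : (lam : K) = ((((Units.mk0 α ha) ^ (q + 1))⁻¹ : Kˣ) : K) := by
      have e := congrArg (fun z : GL (Fin n) K => (z : Matrix (Fin n) (Fin n) K) ⟨0, hn⟩ ⟨0, hn⟩) hP'
      simp only [hP, Units.val_mul, Matrix.mul_apply] at e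
      have e2 : ((Matrix.GeneralLinearGroup.scalar (Fin n) ((Units.mk0 α ha) ^ (q + 1))⁻¹ : GL (Fin n) K) :
          Matrix (Fin n) (Fin n) K) ⟨0, hn⟩ ⟨0, hn⟩ = ((((Units.mk0 α ha) ^ (q + 1))⁻¹ : Kˣ) : K) := by
        show Matrix.scalar (Fin n) _ _ _ = _
        rw [Matrix.scalar_apply, Matrix.diagonal_apply_eq]
      rw [e2] at e
      rw [← e]
      show algebraMap L K lam = _
      simp only [lam, map_sum, map_mul, C.bar_apply, ← hpow, map_pow]
      refine Finset.sum_congr rfl fun l _ => ?_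
      show _ = fr.σ _ * _
      rw [fr.σ_eq]
      rfl
    have hlfix : C.bar lam = lam := by
      simp only [lam, map_sum, map_mul, C.bar_bar]
      exact Finset.sum_congr rfl fun l _ => mul_comm _ _
    have hlne : lam ≠ 0 := by
      intro h0
      rw [h0] at hlam
      exact Units.ne_zero _ (hlam.symm.trans (map_zero (algebraMap L K)))
    obtain ⟨e, he⟩ := C.exists_norm lam hlfix
    have he0 : e ≠ 0 := fun h => hlne (by rw [← he, h, zero_mul])
    have heq : ((e : K) * α) ^ (q + 1) = 1 := by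
      rw [mul_pow, pow_succ (e : K), mul_comm ((e : K) ^ q)]
      show algebraMap L K e * algebraMap L K e ^ q * _ = 1
      rw [← map_pow, hpow, ← map_mul, ← C.bar_apply, he]
      show (lam : K) * _ = 1
      rw [hlam]
      exact ((Units.mk0 α ha) ^ (q + 1)).inv_mul
    set u : Kˣ := Units.mk0 ((e : K) * α) (mul_ne_zero (by simpa using he0) ha)
    set h' : GL (Fin n) L := Matrix.GeneralLinearGroup.scalar (Fin n) (Units.mk0 e he0)⁻¹ * h₁
    have hfu : f u h' = g := by
      rw [← hfg]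
      refine Units.ext (Matrix.ext fun k l => ?_)
      rw [happ, happ, scalar_mul_apply]
      simp only [u, Units.val_inv_eq_inv_val, Units.val_mk0, MulMemClass.coe_mul, Subfield.coe_inv]
      have he1 : (e : K) ≠ 0 := by simpa using he0
      field_simp
    have hu : u ∈ U := Units.ext (by
      rw [powMonoidHom_apply, Units.val_pow_eq_pow_val, Units.val_one]
      exact heq)
    have hh' : h' ∈ Cfsg.GU n L q₀ := by
      rw [← hGU]
      have h3 := (mem_gu_iff fr.σ fr.σ_eq fr.σσ g).mp hgU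
      rwa [← hfu, hadjf, show u ^ (q + 1) = 1 from hu, map_one, one_mul] at h3
    exact ⟨(⟨u, hu⟩, ⟨h', hh'⟩), hfu⟩
  choose s hs using hsurj
  have hsc : ∀ k : U₀, Matrix.GeneralLinearGroup.scalar (Fin n) (k.1)⁻¹ ∈ Cfsg.GU n L q₀ := by
    intro k
    rw [← hGU]
    have e : ι (Matrix.GeneralLinearGroup.scalar (Fin n) (k.1)⁻¹) = f (jU k).1⁻¹ 1 := by
      refine Units.ext (Matrix.ext fun i j => ?_)
      rw [happ, Units.val_one]
      show algebraMap L K (Matrix.scalar (Fin n) ((k.1⁻¹ : Lˣ) : L) i j) = _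
      rw [Units.val_inv_eq_inv_val, Units.val_inv_eq_inv_val]
      show _ = (algebraMap L K (k.1 : L))⁻¹ * _
      rw [Matrix.scalar_apply, Matrix.diagonal_apply, Matrix.one_apply]
      by_cases hij : i = j <;> simp [hij, map_inv₀]
    rw [e, hadjf, map_one, inv_pow, show (jU k).1 ^ (q + 1) = 1 from (jU k).2, inv_one, map_one, one_mul]
    exact mul_eq_one_iff_eq_inv.mpr (by rw [inv_one]; exact Units.ext (adj_one fr.σ))
  let Φ : T × U₀ → U × ↥(Cfsg.GU n L q₀) := fun x =>
    ((s x.1).1 * jU x.2, ⟨Matrix.GeneralLinearGroup.scalar (Fin n) (x.2.1)⁻¹, hsc x.2⟩ * (s x.1).2)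
  have hΦ : ∀ x, f (Φ x).1.1 (Φ x).2.1 = x.1.1.1 := by
    intro x
    rw [← hs x.1]
    refine Units.ext (Matrix.ext fun i j => ?_)
    rw [happ, happ]
    show ((s x.1).1.1 : K) * algebraMap L K (x.2.1 : L) * algebraMap L K ((((_ : GL (Fin n) L) * _ : GL (Fin n) L) : Matrix (Fin n) (Fin n) L) i j) = _
    rw [scalar_mul_apply, mul_assoc, ← map_mul, ← mul_assoc (x.2.1 : L), Units.mul_inv, one_mul]
    rfl
  have hbij : Function.Bijective Φ := by
    constructor
    · intro x y hxy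
      have h1 : x.1 = y.1 := Subtype.ext (Subtype.ext (by rw [← hΦ x, hxy, hΦ y]))
      refine Prod.ext h1 ?_
      have h2 := congrArg Prod.fst hxy
      simp only [Φ] at h2
      rw [h1, mul_right_inj] at h2
      exact Subtype.ext (Units.ext ((algebraMap L K).injective (congrArg (fun z : U => ((z.1 : Kˣ) : K)) h2)))
    · rintro ⟨c, h⟩
      set t : T := ⟨⟨f c.1 h.1, hmemf (c, h)⟩, hfT (c, h)⟩
      have ht : f (s t).1.1 (s t).2.1 = f c.1 h.1 := hs t
      obtain ⟨i, j, hij⟩ := hentry (f c.1 h.1)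
      have h1 := congrArg (fun z : GL (Fin n) K => (z : Matrix (Fin n) (Fin n) K) i j) ht
      simp only [happ] at hij h1
      have hij' := right_ne_zero_of_mul hij
      have hmem : (c.1 : K) / ((s t).1.1 : K) ∈ L := by
        have e : (c.1 : K) / ((s t).1.1 : K) =
            ((((s t).2.1 : Matrix (Fin n) (Fin n) L) i j : L) : K) / (((h.1 : Matrix (Fin n) (Fin n) L) i j : L) : K) := by
          rw [div_eq_div_iff (s t).1.1.ne_zero hij', ← h1]
          ring
        rw [e]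
        exact div_mem (SetLike.coe_mem _) (SetLike.coe_mem _)
      have hk0 : (⟨_, hmem⟩ : L) ≠ 0 := fun h0 =>
        (div_ne_zero c.1.ne_zero (s t).1.1.ne_zero) (congrArg Subtype.val h0)
      have hk : Units.mk0 _ hk0 ∈ U₀ := by
        rw [MonoidHom.mem_ker, powMonoidHom_apply]
        apply Units.ext
        rw [Units.val_pow_eq_pow_val, Units.val_mk0, Units.val_one, pow_succ, ← hpow, ← pow_succ]
        apply Subtype.ext
        show ((c.1 : K) / ((s t).1.1 : K)) ^ (q + 1) = 1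
        have e1 : ((c.1 : K)) ^ (q + 1) = 1 := congrArg Units.val c.2
        have e2 : (((s t).1.1 : K)) ^ (q + 1) = 1 := congrArg Units.val (s t).1.2
        rw [div_pow, e1, e2, div_one]
      refine ⟨(t, ⟨_, hk⟩), ?_⟩
      have h3 : (Φ (t, ⟨_, hk⟩)).1 = c := by
        apply Subtype.ext; apply Units.ext
        show ((s t).1.1 : K) * ((c.1 : K) / ((s t).1.1 : K)) = c.1
        rw [mul_div_cancel₀ _ (s t).1.1.ne_zero]
      refine Prod.ext h3 (Subtype.ext (Units.ext (Matrix.ext fun k l => Subtype.ext ?_)))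
      have h4 := congrArg (fun z : GL (Fin n) K => (z : Matrix (Fin n) (Fin n) K) k l) (hΦ (t, ⟨_, hk⟩))
      simp only [happ, h3] at h4
      exact mul_left_cancel₀ c.1.ne_zero (h4.trans (happ c.1 h.1 k l))
  have hc := Nat.card_eq_of_bijective Φ hbij
  rw [Nat.card_prod, Nat.card_prod, UnitaryDetClasses.card_norm_one hK,
    UnitaryDetClasses.card_norm_one (K := L) hL, CfsgLib.Classical.Herm.card_GU C] at hc
  exact hc

theorem card_cosets_int {K : Type*} [Field K] [Fintype K] {q₀ q r n : ℕ} (hr : Odd r) (hn : 1 ≤ n)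
    (hq : q = q₀ ^ r) (hK : Fintype.card K = q ^ 2) (σ : K ≃+* K) (hσ : orderOf σ = r) :
    (Nat.card {g : ↥(Cfsg.GU n K q) // ∃ c : K, c ≠ 0 ∧ ((g : GL (Fin n) K) : Matrix (Fin n) (Fin n) K).map σ =
      c • ((g : GL (Fin n) K) : Matrix (Fin n) (Fin n) K)} : ℤ) =
      ((q + 1) / (q₀ + 1) : ℕ) * ((q₀ : ℤ) ^ (n * (n - 1) / 2) *
        ∏ i : Fin n, ((q₀ : ℤ) ^ ((i : ℕ) + 1) - (-1) ^ ((i : ℕ) + 1))) := by
  have h := card_cosets hr hn hq hK σ hσ
  obtain ⟨d, hd⟩ : q₀ + 1 ∣ q + 1 := by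
    simpa [hq] using hr.nat_add_dvd_pow_add_pow q₀ 1
  rw [hd, mul_comm, mul_assoc] at h
  have h2 := Nat.eq_of_mul_eq_mul_left (Nat.succ_pos q₀) h
  rw [hd, Nat.mul_div_cancel_left _ (Nat.succ_pos q₀), h2]
  have hq0 : 1 ≤ q₀ := Nat.one_le_iff_ne_zero.mpr fun h0 => by
    have := Fintype.one_lt_card (α := K)
    rw [hK, hq, h0, zero_pow (by rintro rfl; simp at hr)] at this
    simp at this
  rw [Finset.prod_range fun i => if Even i then q₀ ^ (i + 1) + 1 else q₀ ^ (i + 1) - 1]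
  push_cast
  congr 2
  refine Finset.prod_congr rfl fun i _ => ?_
  rcases Nat.even_or_odd (i : ℕ) with he | ho
  · rw [if_pos he, (he.add_one).neg_one_pow]
    push_cast; ring
  · rw [if_neg (Nat.not_even_iff_odd.mpr ho), ho.add_one.neg_one_pow,
      Nat.cast_sub (Nat.one_le_pow _ _ hq0)]
    push_cast; ring

end CfsgLib.Classical.UnitaryFixedCosets
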