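import Cfsg.Agent.Lib.ElemOrder.UnitaryBound
import Cfsg.Agent.Lib.ElemOrder.Matrix
import Cfsg.Agent.Lib.Classical.UnitarySemisimple
import Cfsg.Agent.Lib.Classical.UnitaryUnipotent
import Cfsg.Agent.Lib.Classical.GUQuotient
import Cfsg.Agent.Lib.Classical.UnitaryOrder

/-!
The largest element orders of the projective unitary groups.
-/

set_option autoImplicit false
set_option linter.unusedSectionVars false
set_option linter.style.haveILetI false

namespace CfsgLib.Classical.UnitaryMaxOrder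

open Matrix Polynomial Function CfsgLib.Classical.RestrictScalars CfsgLib.Classical.UnitaryConj
open CfsgLib.Classical.UnitaryTwistPoly CfsgLib.Classical.UnitarySemisimple
open CfsgLib.ElemOrder
open CfsgLib.ElemOrder.Unit (AA)
open scoped MatrixGroups

variable {K : Type*} [Field K] [Fintype K] {p : ℕ} [hp : Fact p.Prime] [CharP K p] {q f n : ℕ}

theorem exists_sigma (hK : Fintype.card K = q ^ 2) :
    ∃ σ : K →+* K, (∀ x, σ x = x ^ q) ∧ ∀ x, σ (σ x) = x := by
  obtain ⟨F, _, _, hF⟩ := exists_field_of_card_sq hK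
  obtain ⟨a, b, hab⟩ := exists_ab (F := F)
  obtain ⟨fr⟩ := exists_Frame hF hK a b hab
  exact ⟨fr.σ, fr.σ_eq, fr.σσ⟩

theorem cast_AA_ne_zero {L : Type*} [Field L] [CharP L p] (hq : q = p ^ f) (hf : 1 ≤ f) {m : ℕ} (hm : 1 ≤ m) :
    (AA q m : L) ≠ 0 := by
  have h0 : (q : L) ^ m = 0 := by
    rw [hq, Nat.cast_pow, CharP.cast_eq_zero, zero_pow (by omega), zero_pow (by omega)]
  unfold AA
  split_ifs
  · rw [Nat.cast_sub (Nat.one_le_pow _ _ (hq ▸ pow_pos hp.out.pos f)), Nat.cast_pow, Nat.cast_one, h0, zero_sub]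
    exact neg_ne_zero.2 one_ne_zero
  · rw [Nat.cast_add, Nat.cast_pow, Nat.cast_one, h0, zero_add]
    exact one_ne_zero

/-- The bound. -/
theorem order_le (hK : Fintype.card K = q ^ 2) (hq : q = p ^ f) (hf : 1 ≤ f) {d T : ℕ} (hd : 3 ≤ d)
    (h32 : ¬ (d = 3 ∧ q = 2))
    (hT1 : q ^ (d - 1) - 1 ≤ T) (hT2 : AA q (d - 1) ≤ T) (hT3 : AA q (d - 2) * p ≤ T)
    (hT4 : p = 2 → AA q (d - 3) * 4 ≤ T) (x : ↥(Cfsg.GU d K q) ⧸ Subgroup.center ↥(Cfsg.GU d K q)) :
    orderOf x ≤ T := by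
  classical
  obtain ⟨σ, hσ, hσσ⟩ := exists_sigma hK
  obtain ⟨⟨g, hg⟩, rfl⟩ := QuotientGroup.mk_surjective x
  have hσ' : ∀ x, σ x = x ^ p ^ f := hq ▸ hσ
  have hM : (g : Matrix (Fin d) (Fin d) K).det ≠ 0 := g.det_ne_zero
  have hfix : ((g : Matrix (Fin d) (Fin d) K).map σ).charpoly = ((g : Matrix (Fin d) (Fin d) K)⁻¹).charpoly := by
    have h := congrArg Units.val ((mem_gu_iff σ hσ hσσ g).1 hg)
    rw [Units.val_mul, Units.val_one] at h
    rw [Matrix.inv_eq_left_inv h]
    exact (Matrix.charpoly_transpose _).symm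
  have hψ : (croots (g : Matrix (Fin d) (Fin d) K)).map (fun a => (a ^ q)⁻¹) = croots (g : Matrix (Fin d) (Fin d) K) := by
    have h : (croots (g : Matrix (Fin d) (Fin d) K)).map (fun a => a ^ p ^ f) =
        (croots (g : Matrix (Fin d) (Fin d) K)).map fun a => a⁻¹ := by
      rw [croots_pow p f _ σ hσ', ← croots_inv hM, croots, croots, hfix]
    have h2 := congrArg (Multiset.map fun a => a⁻¹) h
    simpa [Multiset.map_map, Function.comp_def, hq] using h2
  have hinj := twist_injective_closure (F := K) p f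
  rw [← hq] at hinj
  obtain ⟨k, c, lam, hk, hlam, hc, hroot, hb⟩ := Unit.bound hp.out.two_le
    (hq ▸ Nat.le_self_pow (by omega) p) hd h32 (fun h2 hlt => by
      subst h2
      rw [hq] at hlt ⊢
      have : 2 ≤ f := by
        by_contra h
        rw [show f = 1 by omega, pow_one] at hlt
        omega
      exact le_trans (by norm_num) (Nat.pow_le_pow_right (show 1 ≤ 2 by omega) this))
    hT1 hT2 hT3 hT4 hinj _ (zero_notMem_croots hM) hψ (by rw [croots_card, Fintype.card_fin])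
  obtain ⟨r, hr⟩ := exists_algebraMap_of_pow_card lam (by rw [hK, hlam])
  have hpow := pow_eq_scalar p (g : Matrix (Fin d) (Fin d) K) hk r (fun a ha => by rw [hroot a ha, hr]) hc
  refine le_trans ?_ hb
  refine orderOf_le_of_pow_eq_one (Nat.mul_pos hk (pow_pos hp.out.pos _)) ?_
  rw [← QuotientGroup.mk_pow, QuotientGroup.eq_one_iff, Subgroup.mem_center_iff]
  intro y
  refine Subtype.ext (Units.ext ?_)
  show (y.1.1 : Matrix (Fin d) (Fin d) K) * (g ^ (k * p ^ c) : GL (Fin d) K).1 = (g ^ (k * p ^ c) : GL (Fin d) K).1 * y.1.1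
  rw [Units.val_pow_eq_pow_val, hpow]
  exact (scalar_commute (r ^ p ^ c) (fun _ => Commute.all _ _) _).eq.symm

/-- A unitary matrix with an eigenvalue of order `q ^ m - (-1) ^ m`. -/
theorem exists_eigen (hK : Fintype.card K = q ^ 2) (hq : q = p ^ f) (hf : 1 ≤ f) {m : ℕ} (hm : 1 ≤ m) :
    ∃ B : GL (Fin m) K, B ∈ Cfsg.GU m K q ∧ ∀ k : ℕ, B ^ k = 1 → AA q m ∣ k := by
  classical
  obtain ⟨F, _, _, hF⟩ := exists_field_of_card_sq hK
  obtain ⟨a, b, hab⟩ := exists_ab (F := F)
  obtain ⟨fr⟩ := exists_Frame hF hK a b hab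
  haveI : CharP (AlgebraicClosure K) p := charP_of_injective_algebraMap (algebraMap K _).injective p
  obtain ⟨N, hN⟩ : ∃ N, N = AA q m := ⟨_, rfl⟩
  have hN0 : (N : AlgebraicClosure K) ≠ 0 := hN ▸ cast_AA_ne_zero (p := p) hq hf hm
  haveI : NeZero (N : AlgebraicClosure K) := ⟨hN0⟩
  have hNpos : 0 < N := Nat.pos_of_ne_zero fun h => hN0 (by simp [h])
  obtain ⟨θ, hθ⟩ := IsAlgClosed.exists_root (cyclotomic N (AlgebraicClosure K))
    (degree_cyclotomic_pos N _ hNpos).ne'
  have hprim : IsPrimitiveRoot θ N := isRoot_cyclotomic_iff.1 hθ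
  have hθ0 : θ ≠ 0 := hprim.ne_zero hNpos.ne'
  obtain ⟨ψ, hψd⟩ : ∃ ψ : AlgebraicClosure K → AlgebraicClosure K, ψ = fun a => (a ^ q)⁻¹ := ⟨_, rfl⟩
  have hqpos : 0 < q := hq ▸ pow_pos hp.out.pos f
  have hper : ψ^[m] θ = θ := by
    rw [hψd, iterate_inv_pow_fun]
    have h1 := hprim.pow_eq_one
    rw [hN] at h1
    unfold AA at h1
    split_ifs at h1 ⊢ with he
    · conv_lhs => rw [← Nat.sub_add_cancel (Nat.one_le_pow m q hqpos), pow_succ, h1, one_mul]
    · exact inv_eq_of_mul_eq_one_right (by rw [← pow_succ]; exact h1)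
  obtain ⟨R, hR⟩ : ∃ R : Multiset (AlgebraicClosure K), R = (Multiset.range m).map fun i => ψ^[i] θ := ⟨_, rfl⟩
  have hclosed : R.map ψ = R := by
    have h1 : (Multiset.range (m + 1)).map (fun i => ψ^[i] θ) = θ ::ₘ R := by
      rw [Multiset.range_succ, Multiset.map_cons, hper, hR]
    have h2 : (Multiset.range (m + 1)).map (fun i => ψ^[i] θ) = θ ::ₘ R.map ψ := by
      rw [hR, Multiset.map_map, Multiset.range, List.range_succ_eq_map]
      simp [List.map_map, Function.comp_def, iterate_succ_apply']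
      rfl
    exact (Multiset.cons_inj_right θ).1 (h2.symm.trans h1)
  have hR0 : (0 : AlgebraicClosure K) ∉ R := by
    rw [hR, Multiset.mem_map]
    rintro ⟨i, -, hi⟩
    induction i with
    | zero => exact hθ0 hi
    | succ i ih =>
      rw [iterate_succ_apply', hψd] at hi
      dsimp only at hi
      rw [← hψd, inv_eq_zero] at hi
      exact ih (eq_zero_of_pow_eq_zero hi)
  obtain ⟨P, hP⟩ : ∃ P : (AlgebraicClosure K)[X], P = (R.map fun a => X - C a).prod := ⟨_, rfl⟩
  have hPm : P.Monic := hP ▸ monic_multiset_prod_of_monic _ _ fun a _ => monic_X_sub_C a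
  have hPd : P.natDegree = m := by
    rw [hP, natDegree_multiset_prod_X_sub_C_eq_card, hR, Multiset.card_map, Multiset.card_range]
  have hmap : ∀ φ : AlgebraicClosure K →+* AlgebraicClosure K,
      P.map φ = ((R.map φ).map fun a => X - C a).prod := fun φ => by
    rw [hP, Polynomial.map_multiset_prod, Multiset.map_map, Multiset.map_map]
    congr 1
    exact Multiset.map_congr rfl fun a _ => by simp
  have hfr : ∀ x : AlgebraicClosure K, iterateFrobenius (AlgebraicClosure K) p f x = x ^ q := fun x => by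
    rw [iterateFrobenius_def, hq]
  have hfr2 : P.map (iterateFrobenius (AlgebraicClosure K) p (2 * f)) = P := by
    rw [hmap, hP]
    congr 2
    conv_rhs => rw [← hclosed, ← hclosed, Multiset.map_map]
    refine Multiset.map_congr rfl fun x _ => ?_
    rw [iterateFrobenius_def, hψd, Function.comp_apply, inv_pow, inv_inv, ← pow_mul, hq, ← pow_add, two_mul]
  have hlift : P ∈ Polynomial.lifts (algebraMap K (AlgebraicClosure K)) := by
    rw [lifts_iff_coeff_lifts]
    intro i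
    obtain ⟨x, hx⟩ := exists_algebraMap_of_pow_card (F := K) (P.coeff i) (by
      conv_rhs => rw [← hfr2, coeff_map, iterateFrobenius_def]
      rw [hK, hq, ← pow_mul, mul_comm f 2])
    exact ⟨x, hx⟩
  obtain ⟨g, hg, hgd, hgm⟩ := lifts_and_natDegree_eq_and_monic hlift hPm
  rw [hPd] at hgd
  have hg0 : g.coeff 0 ≠ 0 := fun h => hR0 (by
    have h' : (P.coeff 0) = 0 := by rw [← hg, coeff_map, h, map_zero]
    rw [coeff_zero_eq_eval_zero, hP, eval_multiset_prod, Multiset.prod_eq_zero_iff] at h'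
    simpa using h')
  have htw : tw fr.σ g = g := by
    refine map_injective _ (algebraMap K (AlgebraicClosure K)).injective ?_
    obtain ⟨c, -, hc⟩ := roots_reverse_prod (R.map fun a => a ^ q) (by
      rw [Multiset.mem_map]; rintro ⟨x, hx, hx0⟩; exact hR0 (eq_zero_of_pow_eq_zero hx0 ▸ hx))
    have h1 : ((g.map fr.σ).reverse).map (algebraMap K (AlgebraicClosure K)) = C c * P := by
      have e : ((g.map fr.σ).reverse).map (algebraMap K (AlgebraicClosure K)) =
          ((g.map fr.σ).map (algebraMap K (AlgebraicClosure K))).reverse := by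
        ext i
        rw [coeff_map, coeff_reverse, coeff_reverse, natDegree_map_eq_of_injective (algebraMap K _).injective,
          coeff_map, coeff_map, coeff_map]
      have e2 : (g.map fr.σ).map (algebraMap K (AlgebraicClosure K)) =
          P.map (iterateFrobenius (AlgebraicClosure K) p f) := by
        rw [← hg, Polynomial.map_map, Polynomial.map_map]
        congr 1
        ext x
        simp only [RingHom.comp_apply, fr.σ_eq, map_pow, hfr]
      rw [e, e2, hmap, show R.map (iterateFrobenius (AlgebraicClosure K) p f) = R.map fun a => a ^ q from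
        Multiset.map_congr rfl fun a _ => hfr a, hc]
      rw [show (R.map fun a => a ^ q).map (fun a => a⁻¹) = R from
        (Multiset.map_map _ _ _).trans (by rw [hψd] at hclosed; exact hclosed), ← hP]
    have h2 : (tw fr.σ g).map (algebraMap K (AlgebraicClosure K)) =
        C (algebraMap K (AlgebraicClosure K) (fr.σ (g.coeff 0))⁻¹ * c) * P := by
      rw [tw, Polynomial.map_mul, Polynomial.map_C, h1, ← mul_assoc, ← C_mul]
    have h3 : ((tw fr.σ g).map (algebraMap K (AlgebraicClosure K))).leadingCoeff = 1 :=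
      ((monic_tw fr.σ hg0).map _).leadingCoeff
    rw [h2, leadingCoeff_mul, leadingCoeff_C, hPm.leadingCoeff, mul_one] at h3
    rw [h2, h3, C_1, one_mul, hg]
  obtain ⟨B, hB, -, hBc⟩ := exists_gu_semisimple (p := p) hK fr g hgm hgd hg0 htw
  refine ⟨B, hB, fun k hk => hN ▸ (hprim.pow_eq_one_iff_dvd k).1 ?_⟩
  haveI : Nonempty (Fin m) := ⟨⟨0, hm⟩⟩
  have hroot : θ ∈ spectrum (AlgebraicClosure K)
      ((B : Matrix (Fin m) (Fin m) K).map (algebraMap K (AlgebraicClosure K))) := by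
    rw [Matrix.mem_spectrum_iff_isRoot_charpoly, Matrix.charpoly_map, hBc, hg, hP, IsRoot.def, eval_multiset_prod,
      Multiset.prod_eq_zero_iff, Multiset.map_map, Multiset.mem_map]
    exact ⟨θ, hR ▸ Multiset.mem_map.2 ⟨0, Multiset.mem_range.2 hm, rfl⟩, by simp⟩
  have h4 := spectrum.pow_mem_pow _ k hroot
  rw [← Matrix.map_pow, ← Units.val_pow_eq_pow_val, hk, Units.val_one,
    Matrix.map_one _ (map_zero _) (map_one _), spectrum.one_eq] at h4
  exact h4

/-- A unipotent matrix has a unitary conjugate. -/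
theorem exists_unipotent (hK : Fintype.card K = q ^ 2) (u : GL (Fin n) K)
    (hu : IsNilpotent ((u : Matrix (Fin n) (Fin n) K) - 1)) :
    ∃ U : GL (Fin n) K, U ∈ Cfsg.GU n K q ∧ orderOf U = orderOf u := by
  obtain ⟨⟨U, hU⟩, h⟩ := UnitaryUnipotent.exists_gu_conj hK u hu
  exact ⟨U, hU, (orderOf_conj_eq h).symm⟩

/-- The orders in the quotient. -/
theorem exists_order (hK : Fintype.card K = q ^ 2) (hq : q = p ^ f) (hf : 1 ≤ f) {d a b j : ℕ} (ha : 1 ≤ a)
    (hb : 1 ≤ b) (hab : a + b = d) (U : GL (Fin b) K) (hU : U ∈ Cfsg.GU b K q) (hUo : orderOf U = p ^ j) :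
    ∃ x : ↥(Cfsg.GU d K q) ⧸ Subgroup.center ↥(Cfsg.GU d K q), AA q a * p ^ j ≤ orderOf x := by
  classical
  obtain ⟨σ, hσ, hσσ⟩ := exists_sigma hK
  obtain ⟨Kc⟩ := Herm.exists_conj_of_card hK
  obtain ⟨B, hB, hBk⟩ := exists_eigen (p := p) hK hq hf ha
  obtain ⟨X, hX⟩ : ∃ X, X = blockPair a b hab ((B : Matrix (Fin a) (Fin a) K), (U : Matrix (Fin b) (Fin b) K)) :=
    ⟨_, rfl⟩
  have hdet : X.det ≠ 0 := by
    rw [hX, blockPair_det]; exact mul_ne_zero B.det_ne_zero U.det_ne_zero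
  have hmem : Matrix.GeneralLinearGroup.mkOfDetNeZero X hdet ∈ Cfsg.GU d K q := by
    rw [mem_gu_iff σ hσ hσσ]
    refine Units.ext ?_
    show adj σ X * X = 1
    have e1 : adj σ (B : Matrix (Fin a) (Fin a) K) * B.1 = 1 := congrArg Units.val ((mem_gu_iff σ hσ hσσ B).1 hB)
    have e2 : adj σ (U : Matrix (Fin b) (Fin b) K) * U.1 = 1 := congrArg Units.val ((mem_gu_iff σ hσ hσσ U).1 hU)
    rw [hX, blockPair_adj, ← map_mul, Prod.mk_mul_mk, e1, e2]
    exact map_one _
  refine ⟨QuotientGroup.mk ⟨_, hmem⟩, ?_⟩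
  obtain ⟨k, hk⟩ : ∃ k, k = orderOf (QuotientGroup.mk ⟨_, hmem⟩ : ↥(Cfsg.GU d K q) ⧸ Subgroup.center ↥(Cfsg.GU d K q)) :=
    ⟨_, rfl⟩
  rw [← hk]
  have hk0 : 0 < k := hk ▸ orderOf_pos _
  have hz := pow_orderOf_eq_one (QuotientGroup.mk ⟨_, hmem⟩ : ↥(Cfsg.GU d K q) ⧸ Subgroup.center ↥(Cfsg.GU d K q))
  rw [← hk, ← QuotientGroup.mk_pow, QuotientGroup.eq_one_iff] at hz
  obtain ⟨c, hc⟩ := Herm.gu_center_scalar Kc (by omega) _ hz
  rw [SubgroupClass.coe_pow, Units.val_pow_eq_pow_val] at hc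
  change X ^ k = c • 1 at hc
  rw [hX, ← map_pow, Prod.pow_mk] at hc
  have hc' : Matrix.fromBlocks ((B : Matrix (Fin a) (Fin a) K) ^ k) 0 0 ((U : Matrix (Fin b) (Fin b) K) ^ k) =
      Matrix.fromBlocks (c • 1) 0 0 (c • 1) := by
    refine (Matrix.reindex (finSumFinEquiv.trans (finCongr hab)) (finSumFinEquiv.trans (finCongr hab))).injective ?_
    refine hc.trans ?_
    conv_rhs => rw [show Matrix.fromBlocks (c • (1 : Matrix (Fin a) (Fin a) K)) 0 0 (c • (1 : Matrix (Fin b) (Fin b) K)) =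
      c • 1 by rw [← Matrix.fromBlocks_one, Matrix.fromBlocks_smul, smul_zero, smul_zero]]
    rw [Matrix.reindex_apply, Matrix.submatrix_smul, Pi.smul_apply, Pi.smul_apply, Matrix.submatrix_one_equiv]
  obtain ⟨hBc, -, -, hUc⟩ := Matrix.fromBlocks_inj.1 hc'
  haveI : Nonempty (Fin b) := ⟨⟨0, hb⟩⟩
  have hc1 : c = 1 := by
    have h := congrArg (· ^ p ^ j) hUc
    try simp only at h
    rw [← pow_mul, mul_comm, pow_mul, ← Units.val_pow_eq_pow_val, ← hUo, pow_orderOf_eq_one, Units.val_one, one_pow,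
      _root_.smul_pow, one_pow, hUo] at h
    have h1 := congrFun (congrFun h ⟨0, hb⟩) ⟨0, hb⟩
    rw [Matrix.one_apply_eq, Matrix.smul_apply, Matrix.one_apply_eq, smul_eq_mul, mul_one] at h1
    refine sub_eq_zero.1 (eq_zero_of_pow_eq_zero (n := p ^ j) ?_)
    rw [sub_pow_char_pow, ← h1, one_pow, sub_self]
  rw [hc1, one_smul, ← Units.val_pow_eq_pow_val] at hBc hUc
  have d1 := hBk k (Units.ext hBc)
  have d2 : p ^ j ∣ k := hUo ▸ orderOf_dvd_of_pow_eq_one (Units.ext hUc)
  refine Nat.le_of_dvd hk0 (Nat.Coprime.mul_dvd_of_dvd_of_dvd (Nat.Coprime.pow_right _ ?_) d1 d2)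
  refine (hp.out.coprime_iff_not_dvd.2 fun h => ?_).symm
  exact cast_AA_ne_zero (L := K) hq hf ha ((CharP.cast_eq_zero_iff K p _).2 h)

end CfsgLib.Classical.UnitaryMaxOrder
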