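import Cfsg.Agent.Lib.Classical.UnitaryMax

set_option autoImplicit false

/-!
Stabilisers of non-degenerate subspaces in special unitary groups of dimension at least six.
-/

namespace CfsgLib.Classical.Herm

open Matrix Cfsg
open CfsgLib.ClassicalAut (Unitary.Conj Unitary.space Unitary.rep)

variable {F : Type*} [Field F] [Finite F] {q : ℕ} (K : Unitary.Conj F q) {n : ℕ}

local notation "H" => hermForm n F q
local notation "V" => (Fin n → F)
local notation "G" => SU n F q

include K

theorem nondegenerate_le_or_top' {W : Submodule F V} (hW : Nondeg (q := q) W)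
    (hn : 6 ≤ n) (hdim : 2 * Module.finrank F W < n) (M : Subgroup G) (hM : (stab W : Set G) ⊆ M) :
    M = ⊤ ∨ (M : Set G) ⊆ stab W := by
  have hU₀ := nondeg_orth K hW
  have hdU := finrank_orth K hW
  have hd₀ : 4 ≤ Module.finrank F (orth K W) := by omega
  have hC₀ : ∀ v ∈ orth K W, H v v = 0 → v ∈ centres K M := fun v hv hvv =>
    mem_centres_of_stab K hM (Or.inr hv) hvv
  by_cases hR : (M : Set G) ⊆ stab W
  · exact Or.inr hR
  left
  obtain ⟨g₀, hg₀, hg₀W⟩ := Set.not_subset.1 hR
  refine eq_top_of_centres K (by omega) fun v hvv => ?_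
  suffices key : ∀ k, ∀ U : Submodule F V, n ≤ Module.finrank F U + k → Nondeg (q := q) U →
      orth K W ≤ U → (∀ v ∈ U, H v v = 0 → v ∈ centres K M) → v ∈ centres K M from
    key n (orth K W) (by omega) hU₀ le_rfl hC₀
  intro k
  induction k with
  | zero =>
    intro U hle _ _ hC
    refine hC v ?_ hvv
    rw [Submodule.eq_top_of_finrank_eq (S := U) (le_antisymm (Submodule.finrank_le U)
      (by rw [Module.finrank_fin_fun]; omega))]
    exact Submodule.mem_top
  | succ k ih =>
    intro U hle hU hWU hC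
    have hd : 4 ≤ Module.finrank F U := hd₀.trans (Submodule.finrank_mono hWU)
    have hsum := finrank_orth K hU
    have hd' : Module.finrank F (orth K U) < Module.finrank F U := by
      have := Submodule.finrank_mono hWU
      omega
    have hsub : ∀ x ∈ orth K U, x ∈ W := fun x hx =>
      mem_of_orth_orth K fun v hv => h_eq_zero_symm K (hx v (hWU hv))
    by_cases hUtop : orth K U = ⊥
    · refine hC v ?_ hvv
      obtain ⟨a, ha, hva⟩ := exists_split K hU v
      rw [hUtop, Submodule.mem_bot, sub_eq_zero] at hva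
      rwa [hva]
    obtain ⟨g, hg, hgU⟩ : ∃ g ∈ M, g ∉ stab U := by
      by_cases hUW : U ≤ orth K W
      · have : U = orth K W := le_antisymm hUW hWU
        refine ⟨g₀, hg₀, fun hgs => hg₀W fun w hw => ?_⟩
        refine mem_of_orth_orth K fun v hv => ?_
        obtain ⟨y, hy, hyv⟩ := exists_preimage hgs (this ▸ hv : v ∈ U)
        rw [← hyv, h_app]
        exact (this ▸ hy : y ∈ orth K W) w hw
      obtain ⟨x, hx, hxW⟩ := SetLike.not_le_iff_exists.1 hUW
      obtain ⟨a, ha, hxa⟩ := exists_split K hW x
      have haU : a ∈ U := by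
        have := U.sub_mem hx (hWU hxa)
        rwa [sub_sub_cancel] at this
      have ha0 : a ≠ 0 := fun e => hxW (by rw [e, sub_zero] at hxa; exact hxa)
      obtain ⟨z, hz, hz0⟩ := Submodule.exists_mem_ne_zero_of_ne_bot hUtop
      obtain ⟨y, hy, hay⟩ := hU a haU ha0
      obtain ⟨x', hx', hyx⟩ := exists_split K hW y
      have hx'U : x' ∈ U := by
        have := U.sub_mem hy (hWU hyx)
        rwa [sub_sub_cancel] at this
      obtain ⟨e, heW, lam, hl, hex, -⟩ := exists_actor K hW hd₀ (W.add_mem ha (hsub z hz))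
      refine ⟨e, hM heW, fun hes => ?_⟩
      have h1 := hes x' hx'U
      rw [hex x' hx', U.add_mem_iff_right hx'U] at h1
      have hH : H x' (a + z) ≠ 0 := by
        rw [h_add_right K, hz x' hx'U, add_zero]
        refine h_ne_zero_symm K fun e0 => hay ?_
        rw [← add_sub_cancel x' y, h_add_right K, e0, hyx a ha, add_zero]
      have h2 := U.smul_mem (lam * H x' (a + z))⁻¹ h1
      rw [smul_smul, inv_mul_cancel₀ (mul_ne_zero hl hH), one_smul, U.add_mem_iff_right haU] at h2
      exact hz0 ((Submodule.eq_bot_iff _).1 (isCompl_orth K hU).inf_eq_bot z ⟨h2, hz⟩)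
    obtain ⟨a, ha, b, hb, ha0, hb0, hab⟩ := exists_mixed K hU hd hd' hC hg hgU
    obtain ⟨a', ha', b', hb', haa, hab'⟩ :=
      exists_mixed_aniso K hW hd₀ hU hWU hd hM hC ha hb ha0 hb0 hab
    obtain ⟨h1, h2, h3⟩ := enlarge K hU hd hC ha' hb' haa hab'
    refine ih _ ?_ h1 (hWU.trans le_sup_left) h3
    have : U < U ⊔ Submodule.span F {a'} := lt_of_le_not_ge le_sup_left fun hle' =>
      h2 (hle' (Submodule.mem_sup_right (Submodule.mem_span_singleton_self a')))
    have := Submodule.finrank_lt_finrank_of_lt this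
    omega

end CfsgLib.Classical.Herm
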