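import Cfsg.Agent.Lib.Classical.UnitarySubfield
import Cfsg.Agent.Lib.Classical.OrthNondeg
import Cfsg.Agent.Lib.Classical.OrthSub

set_option autoImplicit false

/-!
The orthogonal subfield groups are maximal in the unitary groups, odd characteristic.
-/

namespace CfsgLib.Classical.Herm.OrthSubfield

open Matrix Cfsg CfsgLib.Classical.Herm
open CfsgLib.ClassicalAut (Unitary.Conj)

variable {F : Type*} [Field F] [Finite F] {q : ℕ} {n : ℕ}

local notation "H" => hermForm n F q
local notation "V" => (Fin n → F)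
local notation "G" => SU n F q

variable {F₀ : Subfield F} {P : GL (Fin n) F}

/-- The vector with the given rational coordinates. -/
def emb (P : GL (Fin n) F) (u : Fin n → F₀) : V :=
  (P : Matrix (Fin n) (Fin n) F) *ᵥ fun i => (u i : F)

omit [Finite F] in
theorem emb_mem (u : Fin n → F₀) : emb P u ∈ rat F₀ P := mulVec_mem_rat fun i => (u i).2

omit [Finite F] in
theorem emb_add (u v : Fin n → F₀) : emb P (u + v) = emb P u + emb P v := by
  rw [emb, emb, emb, ← mulVec_add]; rfl

omit [Finite F] in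
theorem emb_smul (c : F₀) (u : Fin n → F₀) : emb P (c • u) = (c : F) • emb P u := by
  rw [emb, emb, ← mulVec_smul]; rfl

omit [Finite F] in
theorem emb_zero : emb P (0 : Fin n → F₀) = 0 := by
  rw [emb]; exact mulVec_zero _

omit [Finite F] in
theorem emb_sub (u v : Fin n → F₀) : emb P (u - v) = emb P u - emb P v := by
  rw [emb, emb, emb, ← mulVec_sub]; rfl

omit [Finite F] in
theorem emb_inj {u v : Fin n → F₀} (h : emb P u = emb P v) : u = v := by
  have := congrArg (fun x => ((P⁻¹ : GL (Fin n) F) : Matrix (Fin n) (Fin n) F) *ᵥ x) h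
  simp only [emb, inv_mulVec_mulVec] at this
  exact funext fun i => Subtype.ext (congrFun this i)

omit [Finite F] in
theorem exists_emb {x : V} (hx : x ∈ rat F₀ P) : ∃ u : Fin n → F₀, x = emb P u := by
  obtain ⟨u, hu, rfl⟩ := exists_of_mem_rat hx
  exact ⟨fun i => ⟨u i, hu i⟩, rfl⟩

variable (K : Unitary.Conj F q)

/-- `g` is the Siegel element `x ↦ x + H(x,a) b - H(x,b) a + c H(x,a) a`. -/
def IsE (g : SU n F q) (a b : Fin n → F) (c : F) : Prop :=
  hermForm n F q a a = 0 ∧ hermForm n F q b a = 0 ∧ hermForm n F q b b + c + K.bar c = 0 ∧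
    ∀ x, app g x = x + hermForm n F q x a • b - hermForm n F q x b • a + (c * hermForm n F q x a) • a

variable {K}

omit [Finite F] in
theorem isE_unique {g h : G} {a b : V} {c : F} (hg : IsE K g a b c) (hh : IsE K h a b c) : g = h :=
  ext_app fun x => by rw [hg.2.2.2, hh.2.2.2]

theorem isE_mul {g h : G} {a b b' : V} {c c' : F} (hg : IsE K g a b c) (hh : IsE K h a b' c') :
    IsE K (g * h) a (b + b') (c + c' - H b' b) := by
  obtain ⟨ha, hb, hbb, hgx⟩ := hg
  obtain ⟨-, hb', hbb', hhx⟩ := hh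
  refine ⟨ha, by rw [h_add_left K, hb, hb', add_zero], ?_, fun x => ?_⟩
  · rw [map_sub, map_add, ← h_swap K b' b, h_add_left K, h_add_right K, h_add_right K]
    linear_combination hbb + hbb'
  · rw [app_mul, hgx, hhx]
    simp only [h_add_left K, h_sub_left K, h_smul_left K, h_add_right K, ha, hb',
      h_eq_zero_symm K hb]
    module

theorem isE_conj {g : G} {a b : V} {c : F} (hg : IsE K g a b c) (s : G) :
    IsE K (s * g * s⁻¹) (app s a) (app s b) c := by
  refine ⟨by rw [h_app]; exact hg.1, by rw [h_app]; exact hg.2.1, by rw [h_app]; exact hg.2.2.1,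
    fun x => ?_⟩
  obtain ⟨y, rfl⟩ : ∃ y, x = app s y := ⟨app s⁻¹ x, (app_inv' s x).symm⟩
  rw [app_mul, app_mul, app_inv, hg.2.2.2, h_app, h_app, sub_eq_add_neg, app_add, app_add, app_add,
    app_smul, app_smul, ← neg_smul, app_smul, neg_smul, ← sub_eq_add_neg]

theorem isE_swap {g : G} {a b : V} (hg : IsE K g a b 0) (hb : H b b = 0) : IsE K g b (-a) 0 := by
  obtain ⟨ha, hba, -, hgx⟩ := hg
  have hab := h_eq_zero_symm K hba
  refine ⟨hb, by rw [← neg_one_smul F a, h_smul_left K, hab, mul_zero],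
    by rw [← neg_one_smul F a, h_smul_left K, h_smul_right K, ha, map_zero]; ring, fun x => ?_⟩
  rw [hgx, ← neg_one_smul F a, h_smul_right K, map_neg, map_one]
  module

theorem isE_inv_same {g : G} {a b : V} {c : F} (hn : 3 ≤ n) (hg : IsE K g a b c) :
    IsE K g⁻¹ a (-b) (K.bar c) := by
  obtain ⟨g', hg'⟩ := exists_siegel K hn (c := K.bar c) hg.1
    (show H (-b) a = 0 by rw [← neg_one_smul F b, h_smul_left K, hg.2.1, mul_zero])
    (show H (-b) (-b) + K.bar c + K.bar (K.bar c) = 0 by
      rw [← neg_one_smul F b, h_smul_left K, h_smul_right K, map_neg, map_one, K.bar_bar]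
      linear_combination hg.2.2.1)
  have hg'E : IsE K g' a (-b) (K.bar c) := ⟨hg.1,
    by rw [← neg_one_smul F b, h_smul_left K, hg.2.1, mul_zero],
    by rw [← neg_one_smul F b, h_smul_left K, h_smul_right K, map_neg, map_one, K.bar_bar]
       linear_combination hg.2.2.1, hg'⟩
  have hm := isE_mul hg hg'E
  have e : g * g' = 1 := ext_app fun x => by
    rw [hm.2.2.2, app_one, add_neg_cancel, h_zero_right K, smul_zero, zero_smul,
      show c + K.bar c - H (-b) b = 0 by
        rw [← neg_one_smul F b, h_smul_left K]; linear_combination hg.2.2.1]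
    simp
  rwa [eq_inv_of_mul_eq_one_right e] at hg'E

theorem isE_axis {g : G} {a b : V} {d : F} (hg : IsE K g b (d • a) 0) (haa : H a a = 0) :
    IsE K g a (-(K.bar d) • b) 0 := by
  have hda : H (d • a) (d • a) = 0 := by rw [h_smul_left K, h_smul_right K, haa, mul_zero, mul_zero]
  have h1 := isE_swap hg hda
  by_cases hd : d = 0
  · refine ⟨haa, by rw [hd, map_zero, neg_zero, h_smul_left K, zero_mul],
      by rw [hd, map_zero, neg_zero, h_smul_left K, zero_mul]; ring, fun x => ?_⟩
    rw [h1.2.2.2, hd]; simp [h_zero_right K]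
  have hba : H b a = 0 := by
    have := h_eq_zero_symm K hg.2.1
    rw [h_smul_right K, mul_eq_zero, map_eq_zero] at this
    exact this.resolve_left hd
  refine ⟨haa, by rw [h_smul_left K, hba, mul_zero],
    by rw [h_smul_left K, h_smul_right K, hg.1, map_zero]; ring, fun x => ?_⟩
  rw [h1.2.2.2, ← neg_one_smul F b]
  simp only [h_smul_right K, map_neg, map_one, K.bar_bar]
  module

theorem exists_E (hn : 3 ≤ n) {a b : V} {c : F} (ha : H a a = 0) (hb : H b a = 0)
    (hc : H b b + c + K.bar c = 0) : ∃ g : G, IsE K g a b c := by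
  obtain ⟨g, hg⟩ := exists_siegel K hn ha hb hc
  exact ⟨g, ha, hb, hc, hg⟩

theorem isE_inv {g : G} {a b : V} (hg : IsE K g a b 0) (hb : H b b = 0) : IsE K g⁻¹ b a 0 := by
  obtain ⟨ha, hba, -, hgx⟩ := hg
  have hab := h_eq_zero_symm K hba
  refine ⟨hb, hab, by rw [ha, map_zero]; ring, fun x => ?_⟩
  have key : ∀ y, app g (y + H y b • a - H y a • b + (0 * H y b) • b) = y := fun y => by
    rw [hgx]
    simp only [h_add_left K, h_sub_left K, h_smul_left K, ha, hb, hab, hba]
    module
  conv_lhs => rw [← key x, app_inv]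

variable (K)
variable (hcard : Nat.card F = Nat.card F₀ ^ 2)
  (hP : Cfsg.Geo.IsFormRationalStructure (hermForm n F q) F₀ 1 P)
  (h2 : (2 : F) ≠ 0)

include K hcard hP

omit hcard in
theorem val_mem {a b : V} (ha : a ∈ rat F₀ P) (hb : b ∈ rat F₀ P) : H a b ∈ F₀ := by
  obtain ⟨u, hu, rfl⟩ := exists_of_mem_rat ha
  obtain ⟨v, hv, rfl⟩ := exists_of_mem_rat hb
  simpa only [one_mul] using hP u v hu hv

theorem val_symm {a b : V} (ha : a ∈ rat F₀ P) (hb : b ∈ rat F₀ P) : H b a = H a b := by
  rw [h_swap K a b, bar_fix K hcard (val_mem (K := K) hP ha hb)]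

include h2

/-- The rational quadratic space. -/
theorem exists_form : ∃ Q : QuadraticForm F₀ (Fin n → F₀), Orth.Nondeg Q ∧
    (∀ u v, ((QuadraticMap.polar (⇑Q) u v : F₀) : F) = H (emb P u) (emb P v)) ∧
    (∀ u, Q u = 0 → H (emb P u) (emb P u) = 0) := by
  let s : LinearMap.BilinForm F₀ (Fin n → F₀) := LinearMap.mk₂ F₀
    (fun u v => ⟨H (emb P u) (emb P v), val_mem (K := K) hP (emb_mem u) (emb_mem v)⟩)
    (fun a b x => Subtype.ext (by
      show H (emb P (a + b)) (emb P x) = H (emb P a) (emb P x) + H (emb P b) (emb P x)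
      rw [emb_add, h_add_left K]))
    (fun c a x => Subtype.ext (by
      show H (emb P (c • a)) (emb P x) = (c : F) * H (emb P a) (emb P x)
      rw [emb_smul, h_smul_left K]))
    (fun a x y => Subtype.ext (by
      show H (emb P a) (emb P (x + y)) = H (emb P a) (emb P x) + H (emb P a) (emb P y)
      rw [emb_add, h_add_right K]))
    (fun c a x => Subtype.ext (by
      show H (emb P a) (emb P (c • x)) = (c : F) * H (emb P a) (emb P x)
      rw [emb_smul, h_smul_right K, bar_fix K hcard c.2]))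
  have h20 : (2 : F₀) ≠ 0 := fun e => h2 (congrArg Subtype.val e)
  obtain ⟨Q, hQ⟩ : ∃ Q : QuadraticForm F₀ (Fin n → F₀), ∀ u, Q u = (2 : F₀)⁻¹ * s u u :=
    ⟨(2 : F₀)⁻¹ • LinearMap.BilinMap.toQuadraticMap s, fun u => rfl⟩
  have hpol : ∀ u v, QuadraticMap.polar (⇑Q) u v = s u v := fun u v => by
    have hs : s v u = s u v := Subtype.ext (val_symm K hcard hP (emb_mem u) (emb_mem v))
    rw [QuadraticMap.polar, hQ, hQ, hQ]
    simp only [map_add, LinearMap.add_apply, hs]
    linear_combination (s u v) * (mul_inv_cancel₀ h20)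
  refine ⟨Q, fun u hu => emb_inj (P := P) ?_, fun u v => by rw [hpol]; rfl, fun u hu => ?_⟩
  · rw [emb_zero]
    refine h_nondeg K fun y => ?_
    rw [eq_sum_col (P := P) y]
    induction (Finset.univ : Finset (Fin n)) using Finset.induction_on with
    | empty => rw [Finset.sum_empty]; exact h_zero_right K _
    | insert j t hj ih =>
      obtain ⟨w, hw⟩ := exists_emb (col_mem (F₀ := F₀) (P := P) j)
      have h0 := hu w
      rw [hpol] at h0
      rw [Finset.sum_insert hj, h_add_right K, ih, h_smul_right K, hw,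
        show H (emb P u) (emb P w) = 0 from congrArg Subtype.val h0, mul_zero, add_zero]
  · have h0 := hQ u
    rw [hu, eq_comm, mul_eq_zero] at h0
    exact congrArg Subtype.val (h0.resolve_left (inv_ne_zero h20))

theorem sing_iff {Q : QuadraticForm F₀ (Fin n → F₀)}
    (hQ : ∀ u v, ((QuadraticMap.polar (⇑Q) u v : F₀) : F) = H (emb P u) (emb P v)) (u : Fin n → F₀) :
    H (emb P u) (emb P u) = 0 ↔ Q u = 0 := by
  have h20 : (2 : F₀) ≠ 0 := fun e => h2 (congrArg Subtype.val e)
  rw [← hQ, Orth.b_self, ZeroMemClass.coe_eq_zero, mul_eq_zero, or_iff_right h20]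

omit h2

variable {M : Subgroup (SU n F q)}
  (hM : ∀ g, toGLHom g ∈ Cfsg.Geo.subfieldSubgroup F₀ P → g ∈ M)

include hM

theorem rat_E_mem {a b : V} {c : F} (ha : a ∈ rat F₀ P) (hb : b ∈ rat F₀ P) (hc : c ∈ F₀) {g : G}
    (hg : IsE K g a b c) : g ∈ M :=
  hM g ((toGLHom_mem_subfield_iff g).2 ⟨1, one_ne_zero, fun x hx => ⟨_, by
    rw [hg.2.2.2]
    exact add_mem (sub_mem (add_mem hx (smul_mem_rat (val_mem (K := K) hP hx ha) hb))
      (smul_mem_rat (val_mem (K := K) hP hx hb) ha))
      (smul_mem_rat (F₀.mul_mem hc (val_mem (K := K) hP hx ha)) ha), (one_smul _ _).symm⟩⟩)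

include h2

/-- A rational Siegel element with given axis. -/
theorem exists_rat_E (hn : 3 ≤ n) {a b : V} (ha : a ∈ rat F₀ P) (hb : b ∈ rat F₀ P)
    (haa : H a a = 0) (hba : H b a = 0) :
    ∃ c, ∃ g ∈ M, IsE K g a b c := by
  have hc : -(H b b) / 2 ∈ F₀ :=
    F₀.div_mem (F₀.neg_mem (val_mem (K := K) hP hb hb)) (by
      rw [← one_add_one_eq_two]; exact F₀.add_mem F₀.one_mem F₀.one_mem)
  obtain ⟨g, hg⟩ := exists_E (K := K) hn haa hba (c := -(H b b) / 2) (by
    rw [bar_fix K hcard hc]; field_simp; ring)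
  exact ⟨_, g, rat_E_mem K hcard hP hM ha hb hc hg, hg⟩

variable {Q : QuadraticForm F₀ (Fin n → F₀)} (hB : Orth.Nondeg Q)
  (hQ : ∀ u v, ((QuadraticMap.polar (⇑Q) u v : F₀) : F) = hermForm n F q (emb P u) (emb P v))

include hB hQ

omit hM in
/-- A singular rational vector orthogonal to a set and outside the span of a part of it. -/
theorem exists_far' {S S' : Finset (Fin n → F₀)} (hn : S.card + S'.card + 3 ≤ n)
    (hSS : S' ⊆ S) :
    ∃ m, Q m = 0 ∧ H (emb P m) (emb P m) = 0 ∧
      (∀ x ∈ S, H (emb P x) (emb P m) = 0 ∧ H (emb P m) (emb P x) = 0) ∧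
      m ∉ Submodule.span F₀ (S' : Set (Fin n → F₀)) := by
  have h1 : Module.finrank F₀ (Submodule.span F₀ (S : Set (Fin n → F₀))) ≤ S.card :=
    finrank_span_finset_le_card S
  have h1' : Module.finrank F₀ (Submodule.span F₀ (S' : Set (Fin n → F₀))) ≤ S'.card :=
    finrank_span_finset_le_card S'
  have hle := Submodule.span_mono (R := F₀) (Finset.coe_subset.2 hSS)
  obtain ⟨s, hs, hsq, hsP⟩ : ∃ s ∈ Orth.orth Q (Submodule.span F₀ (S : Set (Fin n → F₀))),
      Q s = 0 ∧ s ∉ Submodule.span F₀ (S' : Set (Fin n → F₀)) := by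
    by_contra hno
    push Not at hno
    obtain ⟨s, f, hs, -, hsP, hsq, -, -⟩ := Orth.exists_pair_in' hB (U := ⊤)
      (fun x _ h => hB x fun y => h y Submodule.mem_top)
      (P := Submodule.span F₀ (S : Set (Fin n → F₀)))
      (R := Submodule.span F₀ (S' : Set (Fin n → F₀))) le_top
      (fun x hx _ hxq => hno x hx.2 hxq)
      (by rw [finrank_top, Module.finrank_fin_fun]; omega)
    exact hsP (hle (hno s hs.2 hsq))
  refine ⟨s, hsq, (sing_iff K hcard hP h2 hQ s).2 hsq, fun x hx => ?_, hsP⟩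
  have := Orth.mem_orth.1 hs x (Submodule.subset_span hx)
  have h : H (emb P x) (emb P s) = 0 := by rw [← hQ, this]; rfl
  exact ⟨h, h_eq_zero_symm K h⟩

omit hM in
theorem exists_far (S : Finset (Fin n → F₀)) (hn : 2 * S.card + 3 ≤ n) :
    ∃ m, Q m = 0 ∧ H (emb P m) (emb P m) = 0 ∧
      (∀ x ∈ S, H (emb P x) (emb P m) = 0 ∧ H (emb P m) (emb P x) = 0) ∧
      m ∉ Submodule.span F₀ (S : Set (Fin n → F₀)) :=
  exists_far' K hcard hP h2 hB hQ (by omega) subset_rfl

omit hM in
/-- A singular rational vector orthogonal to two singular ones and proportional to neither. -/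
theorem exists_far_pair (hn : 6 ≤ n) {p p' : Fin n → F₀} (hp : Q p = 0) (hp' : Q p' = 0) (hp0 : p ≠ 0)
    (hp'0 : p' ≠ 0) :
    ∃ m, Q m = 0 ∧ (H (emb P p) (emb P m) = 0 ∧ H (emb P m) (emb P p) = 0) ∧
      (H (emb P p') (emb P m) = 0 ∧ H (emb P m) (emb P p') = 0) ∧
      m ∉ Submodule.span F₀ {p} ∧ m ∉ Submodule.span F₀ {p'} := by
  classical
  have conv : ∀ {x y}, QuadraticMap.polar (⇑Q) x y = 0 →
      H (emb P x) (emb P y) = 0 ∧ H (emb P y) (emb P x) = 0 := fun {x y} h => by
    have h0 : H (emb P x) (emb P y) = 0 := by rw [← hQ, h]; rfl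
    exact ⟨h0, h_eq_zero_symm K h0⟩
  by_cases hpp : QuadraticMap.polar (⇑Q) p p' = 0
  · by_cases hi : p' ∈ Submodule.span F₀ {p}
    · obtain ⟨c, rfl⟩ := Submodule.mem_span_singleton.1 hi
      obtain ⟨m, hm, -, hmS, hmP⟩ := exists_far K hcard hP h2 hB hQ {p} (by simp; omega)
      rw [Finset.coe_singleton] at hmP
      obtain ⟨h1, h1'⟩ := hmS p (Finset.mem_singleton_self p)
      refine ⟨m, hm, ⟨h1, h1'⟩, ⟨by rw [emb_smul, h_smul_left K, h1, mul_zero],
        by rw [emb_smul, h_smul_right K, h1', mul_zero]⟩, hmP,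
        fun h => hmP (Submodule.span_singleton_smul_le _ c p h)⟩
    · refine ⟨p + p', by rw [Orth.q_add, hp, hp', hpp, add_zero, add_zero],
        conv (by rw [Orth.b_add_right, hpp, Orth.b_self_zero hp, add_zero]),
        conv (by rw [Orth.b_add_right, Orth.b_self_zero hp', Orth.b_comm, hpp, add_zero]),
        fun h => hi ?_, fun h => hi ?_⟩
      · simpa using Submodule.sub_mem _ h (Submodule.mem_span_singleton_self p)
      · obtain ⟨c, hc⟩ := Submodule.mem_span_singleton.1 h
        have hc' : (c - 1) • p' = p := by rw [sub_smul, one_smul, hc]; abel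
        have hc1 : c - 1 ≠ 0 := fun e => hp0 (by rw [← hc', e, zero_smul])
        refine Submodule.mem_span_singleton.2 ⟨(c - 1)⁻¹, ?_⟩
        rw [← hc', smul_smul, inv_mul_cancel₀ hc1, one_smul]
  · obtain ⟨s, f, hs, -, hsP, hsq, -, -⟩ := Orth.exists_pair_in' hB (U := ⊤)
      (fun x _ h => hB x fun y => h y Submodule.mem_top)
      (P := Submodule.span F₀ ({p, p'} : Set (Fin n → F₀))) (R := ⊥) le_top
      (fun x hx hxP _ => by
        obtain ⟨α, β, rfl⟩ := Submodule.mem_span_pair.1 hxP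
        have e1 := Orth.mem_orth.1 hx.2 p (Submodule.subset_span (Set.mem_insert _ _))
        have e2 := Orth.mem_orth.1 hx.2 p' (Submodule.subset_span (Set.mem_insert_of_mem _ rfl))
        rw [Orth.b_add_right, Orth.b_smul_right, Orth.b_smul_right, Orth.b_self_zero hp, mul_zero,
          zero_add, mul_eq_zero] at e1
        rw [Orth.b_add_right, Orth.b_smul_right, Orth.b_smul_right, Orth.b_self_zero hp', mul_zero,
          add_zero, Orth.b_comm, mul_eq_zero] at e2
        rw [e1.resolve_right hpp, e2.resolve_right hpp]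
        simp)
      (by
        have h1 := finrank_span_finset_le_card (R := F₀) ({p, p'} : Finset (Fin n → F₀))
        rw [Set.finrank, Finset.coe_pair] at h1
        have h3 : ({p, p'} : Finset (Fin n → F₀)).card ≤ 2 := Finset.card_le_two
        rw [finrank_top, Module.finrank_fin_fun, finrank_bot]; omega)
    exact ⟨s, hsq, conv (Orth.mem_orth.1 hs.2 p (Submodule.subset_span (Set.mem_insert _ _))),
      conv (Orth.mem_orth.1 hs.2 p' (Submodule.subset_span (Set.mem_insert_of_mem _ rfl))),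
      fun h => hsP (Submodule.span_mono (by simp) h), fun h => hsP (Submodule.span_mono (by simp) h)⟩

omit hM h2 in
theorem exists_one {W : Submodule F₀ (Fin n → F₀)} {x : Fin n → F₀} (hx : x ∉ W) :
    ∃ y : Fin n → F₀, (∀ w ∈ W, H (emb P w) (emb P y) = 0 ∧ H (emb P y) (emb P w) = 0) ∧
      H (emb P x) (emb P y) = 1 ∧ H (emb P y) (emb P x) = 1 := by
  obtain ⟨y, hy, hxy⟩ := Orth.exists_orth_one hB hx
  have h1 : H (emb P x) (emb P y) = 1 := by rw [← hQ, hxy]; rfl
  refine ⟨y, fun w hw => ?_, h1, by rw [val_symm K hcard hP (emb_mem x) (emb_mem y), h1]⟩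
  have : H (emb P w) (emb P y) = 0 := by rw [← hQ, Orth.mem_orth.1 hy w hw]; rfl
  exact ⟨this, h_eq_zero_symm K this⟩

/-- Being a centre propagates to every rational singular vector. -/
theorem centre_spread (hn : 6 ≤ n) {p : Fin n → F₀} (hp : emb P p ∈ centres K M)
    {p' : Fin n → F₀} (hp' : Q p' = 0) (hp0 : p ≠ 0) : emb P p' ∈ centres K M := by
  classical
  have step : ∀ a b : Fin n → F₀, Q b = 0 → b ≠ 0 → H (emb P a) (emb P b) = 0 →
      a ∉ Submodule.span F₀ {b} → emb P a ∈ centres K M → emb P b ∈ centres K M := by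
    intro a b hb hb0 hab hi ha
    have hbb := (sing_iff K hcard hP h2 hQ b).2 hb
    have hba := h_eq_zero_symm K hab
    have haS : a ∉ Submodule.span F₀ {b - a} := fun h => by
      obtain ⟨c, hc⟩ := Submodule.mem_span_singleton.1 h
      rw [smul_sub, sub_eq_iff_eq_add] at hc
      by_cases h1 : c + 1 = 0
      · have h3 : c • b = 0 := by
          rw [hc, eq_neg_of_add_eq_zero_left h1, neg_one_smul, add_neg_cancel]
        rw [smul_eq_zero] at h3
        rcases h3 with h3 | h3
        · rw [h3, zero_add] at h1; exact one_ne_zero h1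
        · exact hb0 h3
      · exact hi (Submodule.mem_span_singleton.2 ⟨(c + 1)⁻¹ * c, by
          rw [mul_smul, hc, show a + c • a = (c + 1) • a by rw [add_smul, one_smul, add_comm],
            smul_smul, inv_mul_cancel₀ h1, one_smul]⟩)
    obtain ⟨w, hw, haw, -⟩ := exists_one K hcard hP hB hQ haS
    have hd : H (emb P (b - a)) (emb P (b - a)) = 0 := by
      rw [emb_sub, h_sub_left K, h_sub_right K, h_sub_right K, ha.1, hbb, hab, hba]; ring
    have hwd := (hw (b - a) (Submodule.mem_span_singleton_self _)).2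
    obtain ⟨c, g, hg, hgE⟩ := exists_rat_E K hcard hP h2 hM (by omega) (emb_mem (b - a))
      ((rat F₀ P).neg_mem (emb_mem w)) hd (by rw [← neg_one_smul F, h_smul_left K, hwd, mul_zero])
    have e : app g (emb P a) = emb P b := by
      have h0 : H (emb P a) (emb P (b - a)) = 0 := by rw [emb_sub, h_sub_right K, hab, ha.1, sub_zero]
      rw [hgE.2.2.2, h0, ← neg_one_smul F (emb P w), h_smul_right K, map_neg, map_one, haw, emb_sub]
      module
    rw [← e]
    exact app_mem_centres K hg ha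
  by_cases hp'0 : p' = 0
  · subst hp'0
    rw [emb_zero, show (0 : V) = (0 : F) • emb P p from (zero_smul F _).symm]
    exact smul_mem_centres K 0 hp
  obtain ⟨m, hm, hmp, hmp', hm1, hm2⟩ := exists_far_pair K hcard hP h2 hB hQ hn
    ((sing_iff K hcard hP h2 hQ p).1 hp.1) hp' hp0 hp'0
  have hpm : p ∉ Submodule.span F₀ {m} := fun h => by
    obtain ⟨c, hc⟩ := Submodule.mem_span_singleton.1 h
    have hc0 : c ≠ 0 := fun e => hp0 (by rw [← hc, e, zero_smul])
    exact hm1 (Submodule.mem_span_singleton.2 ⟨c⁻¹, by rw [← hc, smul_smul, inv_mul_cancel₀ hc0, one_smul]⟩)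
  exact step m p' hp' hp'0 hmp'.2 hm2
    (step p m hm (fun h => hm1 (h ▸ Submodule.zero_mem _)) hmp.1 hpm hp)

/-- Rational centres give everything. -/
theorem eq_top_of_centre (hn : 6 ≤ n) {p₀ : Fin n → F₀} (hp₀ : emb P p₀ ∈ centres K M)
    (hp₀0 : p₀ ≠ 0) : M = ⊤ := by
  classical
  obtain ⟨θ, hθ0, hθ⟩ := exists_skew K
  have hθF : θ ∉ F₀ := fun h => hθ0 (mul_left_cancel₀ h2 (by
    rw [mul_zero, two_mul]; nth_rw 2 [← bar_fix K hcard h]; exact hθ))
  obtain ⟨θ', hθ', -, hdec'⟩ := exists_outside K hcard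
  have hdec : ∀ c, ∃ s ∈ F₀, ∃ t ∈ F₀, c = s + t * θ := fun c => by
    obtain ⟨s, hs, t, ht, e⟩ := hdec' c
    obtain ⟨s', hs', t', ht', e'⟩ := hdec' θ
    have ht'0 : t' ≠ 0 := fun h => hθF (by rw [e', h, zero_mul, add_zero]; exact hs')
    refine ⟨s - t / t' * s', F₀.sub_mem hs (F₀.mul_mem (F₀.div_mem ht ht') hs'), t / t',
      F₀.div_mem ht ht', ?_⟩
    rw [e, e']; field_simp; ring
  have hC : ∀ p, Q p = 0 → emb P p ∈ centres K M := fun p hp =>
    centre_spread K hcard hP h2 hM hB hQ hn hp₀ hp hp₀0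
  refine eq_top_of_centres K (by omega) fun v hv => ?_
  by_cases hv0 : v = 0
  · subst hv0
    rw [show (0 : V) = (0 : F) • emb P p₀ from (zero_smul F _).symm]
    exact smul_mem_centres K 0 hp₀
  obtain ⟨s₁, f₁, -, -, -, hs₁, hf₁, hsf₁⟩ := Orth.exists_pair_in hB (U := ⊤)
    (fun x _ h => hB x fun y => h y Submodule.mem_top) (P := ⊥) le_top
    (by rw [finrank_top, Module.finrank_fin_fun, finrank_bot]; omega)
  obtain ⟨p, hp, hvp⟩ : ∃ p, Q p = 0 ∧ H v (emb P p) ≠ 0 := by
    by_contra hc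
    push Not at hc
    refine hv0 (h_nondeg K fun y => ?_)
    have hall : ∀ u, H v (emb P u) = 0 := fun u => by
      have hu := Orth.le_span_singular_in (S := (⊤ : Submodule F₀ (Fin n → F₀))) Submodule.mem_top
        Submodule.mem_top hs₁ hf₁ hsf₁ (Submodule.mem_top (x := u))
      induction hu using Submodule.span_induction with
      | mem z hz => exact hc z hz.2
      | zero => rw [emb_zero]; exact h_zero_right K v
      | add a b _ _ ha hb => rw [emb_add, h_add_right K, ha, hb, add_zero]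
      | smul c a _ ha => rw [emb_smul, h_smul_right K, ha, mul_zero]
    rw [eq_sum_col (P := P) y]
    induction (Finset.univ : Finset (Fin n)) using Finset.induction_on with
    | empty => rw [Finset.sum_empty]; exact h_zero_right K _
    | insert j t hj ih =>
      obtain ⟨w, hw⟩ := exists_emb (col_mem (F₀ := F₀) (P := P) j)
      rw [Finset.sum_insert hj, h_add_right K, ih, h_smul_right K, hw, hall, mul_zero, add_zero]
  have hp0 : p ≠ 0 := fun e => hvp (by rw [e, emb_zero]; exact h_zero_right K v)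
  have hpp : H (emb P p) (emb P p) = 0 := (sing_iff K hcard hP h2 hQ p).2 hp
  -- one value of the parameter is enough
  have hone : ∀ w c g, IsE K g (emb P p) w c → g ∈ M → ∀ c' g', IsE K g' (emb P p) w c' → g' ∈ M := by
    intro w c g hg hgM c' g' hg'
    have hd : (c' - c) + K.bar (c' - c) = 0 := by
      rw [map_sub]; linear_combination hg'.2.2.1 - hg.2.2.1
    obtain ⟨t, ht⟩ := exists_T K hpp hd
    have e : g' = t * g := ext_app fun x => by
      rw [app_mul, ht.2.2, hg.2.2.2, hg'.2.2.2]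
      simp only [h_add_left K, h_sub_left K, h_smul_left K, hpp, hg.2.1]
      module
    rw [e]
    exact M.mul_mem ((hC p hp).2 t _ ht) hgM
  let W : Set V := {w | H w (emb P p) = 0 ∧ ∃ c, ∃ g ∈ M, IsE K g (emb P p) w c}
  have hWadd : ∀ w ∈ W, ∀ w' ∈ W, w + w' ∈ W := by
    rintro w ⟨hw, c, g, hg, hgE⟩ w' ⟨hw', c', g', hg', hgE'⟩
    exact ⟨by rw [h_add_left K, hw, hw', add_zero], _, g * g', M.mul_mem hg hg', isE_mul hgE hgE'⟩
  have hWrat : ∀ r, H (emb P r) (emb P p) = 0 → emb P r ∈ W := fun r hr => by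
    obtain ⟨c, g, hg, hgE⟩ := exists_rat_E K hcard hP h2 hM (by omega) (emb_mem p) (emb_mem r) hpp hr
    exact ⟨hr, c, g, hg, hgE⟩
  have hWline : ∀ a : F, a • emb P p ∈ W := fun a => by
    refine ⟨by rw [h_smul_left K, hpp, mul_zero], 0, ?_⟩
    obtain ⟨g, hg⟩ := exists_E (K := K) (a := emb P p) (b := a • emb P p) (c := 0) (by omega) hpp
      (by rw [h_smul_left K, hpp, mul_zero])
      (by rw [h_smul_left K, h_smul_right K, hpp, map_zero]; ring)
    refine ⟨g, ?_, hg⟩
    refine (hC p hp).2 g (a - K.bar a) ⟨hpp, by rw [map_sub, K.bar_bar]; ring, fun x => ?_⟩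
    rw [hg.2.2.2, h_smul_right K]
    module
  have hWθ : ∀ r : Fin n → F₀, H (emb P r) (emb P p) = 0 → θ • emb P r ∈ W := by
    intro r hr
    have hsing : ∀ r, Q r = 0 → H (emb P r) (emb P p) = 0 → ∀ t : F₀, θ • emb P (t • r) ∈ W := by
      intro r hrq hrp t
      by_cases hri : r ∈ Submodule.span F₀ {p}
      · obtain ⟨c, rfl⟩ := Submodule.mem_span_singleton.1 hri
        rw [emb_smul, emb_smul, smul_smul, smul_smul]
        exact hWline _
      obtain ⟨y, hy, hry, hyr⟩ := exists_one K hcard hP hB hQ hri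
      have hyp := (hy p (Submodule.mem_span_singleton_self p)).2
      obtain ⟨hw, c, g, hg, hgE⟩ := hWrat (t • y) (by rw [emb_smul, h_smul_left K, hyp, mul_zero])
      obtain ⟨T, hT⟩ := exists_T K ((sing_iff K hcard hP h2 hQ r).2 hrq) hθ
      have hTM := (hC r hrq).2 T θ hT
      have h1 := isE_conj hgE T
      rw [hT.2.2, hT.2.2, h_eq_zero_symm K hrp, mul_zero, zero_smul, add_zero, emb_smul, h_smul_left K,
        hyr, mul_one] at h1
      have hE : (t : F) • emb P y + (θ * t) • emb P r ∈ W := by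
        refine ⟨h1.2.1, c, _, M.mul_mem (M.mul_mem hTM hg) (M.inv_mem hTM), h1⟩
      have := hWadd _ hE _ (hWrat (-t • y) (by rw [emb_smul, h_smul_left K, hyp, mul_zero]))
      rw [emb_smul, F₀.coe_neg, show (t : F) • emb P y + (θ * t) • emb P r + (-(t : F)) • emb P y =
        θ • ((t : F) • emb P r) by module] at this
      rwa [emb_smul]
    have hS : r ∈ Orth.orth Q (Submodule.span F₀ {p}) := by
      refine Orth.mem_orth.2 fun w hw => ?_
      obtain ⟨c, rfl⟩ := Submodule.mem_span_singleton.1 hw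
      refine Subtype.ext ?_
      rw [hQ, emb_smul, h_smul_left K, h_eq_zero_symm K hr, mul_zero, ZeroMemClass.coe_zero]
    have h1 : Module.finrank F₀ (Submodule.span F₀ ({p} : Set (Fin n → F₀))) ≤ 1 := by
      refine (finrank_span_le_card ({p} : Set (Fin n → F₀))).trans ?_
      simp
    obtain ⟨s, f, hs, hf, -, hsq, hfq, hsf⟩ := Orth.exists_pair_in hB (U := ⊤)
      (fun x _ h => hB x fun y => h y Submodule.mem_top) (P := Submodule.span F₀ {p}) le_top
      (by rw [finrank_top, Module.finrank_fin_fun]; omega)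
    have hsp := Orth.le_span_singular_in hs.2 hf.2 hsq hfq hsf hS
    have key : ∀ x ∈ Submodule.span F₀ {y | y ∈ Orth.orth Q (Submodule.span F₀ {p}) ∧ Q y = 0},
        ∀ t : F₀, θ • emb P (t • x) ∈ W := by
      intro x hx
      induction hx using Submodule.span_induction with
      | mem z hz =>
        refine hsing z hz.2 ?_
        have := Orth.mem_orth.1 hz.1 p (Submodule.mem_span_singleton_self p)
        refine h_eq_zero_symm K ?_
        rw [← hQ, this]; rfl
      | zero => intro t; rw [smul_zero, emb_zero, smul_zero, ← zero_smul F (emb P p)]; exact hWline 0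
      | add a b _ _ ha hb => intro t; rw [smul_add, emb_add, smul_add]; exact hWadd _ (ha t) _ (hb t)
      | smul c a _ ha => intro t; rw [smul_smul]; exact ha _
    simpa using key r hsp 1
  have hfull : ∀ w, H w (emb P p) = 0 → w ∈ W := by
    intro w hw
    obtain ⟨a, ha, b, hb, rfl⟩ := rat_parts (P := P) hdec w
    obtain ⟨a', rfl⟩ := exists_emb ha
    obtain ⟨b', rfl⟩ := exists_emb hb
    rw [h_add_left K, h_smul_left K] at hw
    have h0 : H (emb P b') (emb P p) = 0 := by
      by_contra h0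
      refine hθF ?_
      rw [show θ = -H (emb P a') (emb P p) / H (emb P b') (emb P p) by
        field_simp; linear_combination hw]
      exact F₀.div_mem (F₀.neg_mem (val_mem (K := K) hP (emb_mem _) (emb_mem _)))
        (val_mem (K := K) hP (emb_mem _) (emb_mem _))
    rw [h0, mul_zero, add_zero] at hw
    exact hWadd _ (hWrat a' hw) _ (hWθ b' h0)
  obtain ⟨f, hf, hpf⟩ := Orth.exists_partner hB hp hp0
  have hpf' : H (emb P p) (emb P f) = 1 := by rw [← hQ, hpf]; rfl
  have hfp : H (emb P f) (emb P p) = 1 := by rw [h_swap K (emb P p) (emb P f), hpf', map_one]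
  have hff : H (emb P f) (emb P f) = 0 := (sing_iff K hcard hP h2 hQ f).2 hf
  obtain ⟨v', hv'⟩ : ∃ v', v' = (H v (emb P p))⁻¹ • v := ⟨_, rfl⟩
  have hv'p : H v' (emb P p) = 1 := by rw [hv', h_smul_left K, inv_mul_cancel₀ hvp]
  have hv'v : H v' v' = 0 := by rw [hv', h_smul_left K, h_smul_right K, hv, mul_zero, mul_zero]
  obtain ⟨w, hw⟩ : ∃ w, w = v' - emb P f - H v' (emb P f) • emb P p := ⟨_, rfl⟩
  have hwp : H w (emb P p) = 0 := by
    rw [hw, h_sub_left K, h_sub_left K, h_smul_left K, hv'p, hfp, hpp]; ring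
  have hwf : H (emb P f) w = 0 := by
    refine h_eq_zero_symm K ?_
    rw [hw, h_sub_left K, h_sub_left K, h_smul_left K, hff, hpf']; ring
  have hc : H w w + H v' (emb P f) + K.bar (H v' (emb P f)) = 0 := by
    rw [← h_swap K, hw]
    simp only [h_sub_left K, h_sub_right K, h_smul_left K, h_smul_right K, hv'v, hv'p, hfp, hff,
      hpp, hpf', h_swap K (emb P p) v', h_swap K (emb P f) v', ← h_swap K v' (emb P p), map_one]
    simp only [h_swap K v' (emb P p), hv'p, map_one, ← h_swap K v' (emb P f)]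
    ring
  obtain ⟨-, c₀, g₀, hg₀, hgE₀⟩ := hfull w hwp
  obtain ⟨g, hg⟩ := exists_E (K := K) (by omega) hpp hwp hc
  have hgM := hone w c₀ g₀ hgE₀ hg₀ _ g hg
  have e : app g (emb P f) = v' := by
    rw [hg.2.2.2, hfp, hwf, hw]; module
  have := app_mem_centres K hgM (hC f hf)
  rw [e] at this
  have h := smul_mem_centres K (H v (emb P p)) this
  rwa [hv', smul_smul, mul_inv_cancel₀ hvp, one_smul] at h

/-- A rational centre from one Siegel element. -/
theorem centre_of_pair (hn : 3 ≤ n) {p r : Fin n → F₀} {w : V} {c : F} (hpp : H (emb P p) (emb P p) = 0)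
    {E₁ : G} (hE₁M : E₁ ∈ M) (hE₁ : IsE K E₁ (emb P p) w c) (hr : H (emb P r) (emb P p) = 0)
    (hη : H w (emb P r) ∉ F₀) : emb P p ∈ centres K M := by
  obtain ⟨θ, -, hθb, hdec⟩ := exists_outside K hcard
  refine ⟨hpp, fun T d hT => ?_⟩
  obtain ⟨η, hηe⟩ : ∃ η, η = H w (emb P r) := ⟨_, rfl⟩
  rw [← hηe] at hη
  have hdd : K.bar (η - K.bar η) = -(η - K.bar η) := by rw [map_sub, K.bar_bar]; ring
  have hfix : ∀ x, K.bar x = x → x ∈ F₀ := fun x hx => by
    obtain ⟨s, hs, t, ht, e⟩ := hdec x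
    rw [e, map_add, map_mul, bar_fix K hcard hs, bar_fix K hcard ht, add_right_inj] at hx
    by_cases ht0 : t = 0
    · rw [e, ht0, zero_mul, add_zero]; exact hs
    · exact absurd (mul_left_cancel₀ ht0 hx) hθb
  have hne : η - K.bar η ≠ 0 := fun h => hη (hfix η (sub_eq_zero.1 h).symm)
  obtain ⟨ρ, hρ⟩ : ∃ ρ, ρ = -d / (η - K.bar η) := ⟨_, rfl⟩
  have hρ0 : ρ ∈ F₀ := hfix ρ (by
    rw [hρ, map_div₀, map_neg, hdd, eq_neg_of_add_eq_zero_right hT.2.1, neg_div_neg_eq])
  obtain ⟨c₂, E₂, hE₂M, hE₂⟩ := exists_rat_E K hcard hP h2 hM hn (emb_mem p)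
    (smul_mem_rat hρ0 (emb_mem r)) hpp (by rw [h_smul_left K, hr, mul_zero])
  have m1 := isE_mul hE₁ hE₂
  have m2 := isE_mul hE₂ hE₁
  have e : T * (E₁ * E₂) = E₂ * E₁ := ext_app fun x => by
    rw [app_mul, hT.2.2, m1.2.2.2, m2.2.2.2]
    simp only [h_add_left K, h_sub_left K, h_smul_left K, h_add_right K, h_smul_right K, hpp,
      hE₁.2.1, hr, h_swap K w (emb P r), bar_fix K hcard hρ0, ← hηe]
    rw [show d = -(ρ * (η - K.bar η)) by rw [hρ, div_mul_cancel₀ _ hne, neg_neg]]
    match_scalars <;> ring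
  rw [show T = E₂ * E₁ * (E₁ * E₂)⁻¹ by rw [← e, mul_inv_cancel_right]]
  exact M.mul_mem (M.mul_mem hE₂M hE₁M) (M.inv_mem (M.mul_mem hE₁M hE₂M))

/-- The first commutator with a rational Siegel element. -/
theorem comm_first (hn : 3 ≤ n) {k : G} (hkM : k ∈ M) {A B : V} (hk : IsE K k A B 0) (hBB : H B B = 0)
    {p y : Fin n → F₀} (hpp : H (emb P p) (emb P p) = 0) (hyp : H (emb P y) (emb P p) = 0)
    (hBp : H B (emb P p) = 0) (hBy : H B (emb P y) = 0) (hAp : H A (emb P p) = 0) :
    ∃ k' ∈ M, IsE K k' (emb P p) (-(K.bar (H A (emb P y))) • B) 0 := by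
  obtain ⟨c, h, hh, hhE⟩ := exists_rat_E K hcard hP h2 hM hn (emb_mem p) (emb_mem y) hpp hyp
  have k1 := isE_conj hk h
  rw [hhE.2.2.2 A, hhE.2.2.2 B, hAp, hBp, hBy] at k1
  simp only [zero_smul, mul_zero, add_zero, sub_zero] at k1
  have k2 := isE_mul (isE_swap k1 hBB) (isE_inv hk hBB)
  rw [show -(A - H A (emb P y) • emb P p) + A = H A (emb P y) • emb P p by module,
    show (0 : F) + 0 - H A (-(A - H A (emb P y) • emb P p)) = 0 by
      rw [neg_sub, h_sub_right K, h_smul_right K, hAp, hk.1]; ring] at k2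
  exact ⟨_, M.mul_mem (M.mul_mem (M.mul_mem hh hkM) (M.inv_mem hh)) (M.inv_mem hkM), isE_axis k2 hpp⟩

/-- The second commutator with a rational Siegel element. -/
theorem comm_second (hn : 3 ≤ n) {k : G} (hkM : k ∈ M) {A B : V} (hk : IsE K k A B 0) (hBB : H B B = 0)
    {p y : Fin n → F₀} (hpp : H (emb P p) (emb P p) = 0) (hyp : H (emb P y) (emb P p) = 0)
    (hBp : H B (emb P p) = 0) (hBy : H B (emb P y) = 0) :
    ∃ k' ∈ M, IsE K k' (emb P p) (-(K.bar (H A (emb P p) * H (emb P y) (emb P y))) • B) 0 := by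
  obtain ⟨c, h, hh, hhE⟩ := exists_rat_E K hcard hP h2 hM hn (emb_mem p) (emb_mem y) hpp hyp
  have hB' : app h B = B := by
    rw [hhE.2.2.2, hBp, hBy]; simp
  have hpy := h_eq_zero_symm K hyp
  have hp' : app h (emb P p) = emb P p := by
    rw [hhE.2.2.2, hpp, hpy]; simp
  have k1 := isE_conj hk h
  rw [hB'] at k1
  have k2 := isE_mul (isE_swap k1 hBB) (isE_inv hk hBB)
  obtain ⟨w, hw⟩ : ∃ w, w = -app h A + A := ⟨_, rfl⟩
  obtain ⟨c₁, hc₁⟩ : ∃ c₁, c₁ = (0 : F) + 0 - H A (-app h A) := ⟨_, rfl⟩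
  rw [← hw, ← hc₁] at k2
  have k2M : h * k * h⁻¹ * k⁻¹ ∈ M :=
    M.mul_mem (M.mul_mem (M.mul_mem hh hkM) (M.inv_mem hh)) (M.inv_mem hkM)
  have hwp : H w (emb P p) = 0 := by
    have e : H (app h A) (emb P p) = H A (emb P p) := by
      conv_lhs => rw [← hp']
      rw [h_app]
    rw [hw, h_add_left K, ← neg_one_smul F (app h A), h_smul_left K, e]; ring
  have hwh : app h w = w + (H A (emb P p) * H (emb P y) (emb P y)) • emb P p := by
    rw [hw, hhE.2.2.2 A, hhE.2.2.2]
    simp only [h_add_left K, h_sub_left K, h_smul_left K, hpp, hyp, hpy, ← neg_one_smul F (_ : V)]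
    module
  have k3 := isE_conj k2 h
  rw [hB', hwh] at k3
  have k4 := isE_mul k3 (isE_inv_same hn k2)
  rw [show w + (H A (emb P p) * H (emb P y) (emb P y)) • emb P p + -w =
      (H A (emb P p) * H (emb P y) (emb P y)) • emb P p by abel,
    show c₁ + K.bar c₁ -
        H (-w) (w + (H A (emb P p) * H (emb P y) (emb P y)) • emb P p) = 0 by
      rw [← neg_one_smul F w, h_smul_left K, h_add_right K, h_smul_right K, hwp]
      linear_combination k2.2.2.1] at k4
  exact ⟨_, M.mul_mem (M.mul_mem (M.mul_mem hh k2M) (M.inv_mem hh)) (M.inv_mem k2M), isE_axis k4 hpp⟩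

omit hM in
/-- A nonsingular vector orthogonal to a subspace that is not totally singular of half the dimension. -/
theorem exists_nonsingular {W : Submodule F₀ (Fin n → F₀)}
    (hW : 2 * Module.finrank F₀ W ≤ n) (hW' : ¬ W ≤ Orth.orth Q W ∨ 2 * Module.finrank F₀ W < n) :
    ∃ y ∈ Orth.orth Q W, H (emb P y) (emb P y) ≠ 0 := by
  by_contra hc
  push Not at hc
  have hle : Orth.orth Q W ≤ Orth.orth Q (Orth.orth Q W) := fun x hx => Orth.mem_orth.2 fun z hz => by
    have h1 := (sing_iff K hcard hP h2 hQ x).1 (hc x hx)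
    have h2' := (sing_iff K hcard hP h2 hQ z).1 (hc z hz)
    have h3 := (sing_iff K hcard hP h2 hQ (z + x)).1 (hc _ (add_mem hz hx))
    rw [Orth.q_add, h1, h2'] at h3
    simpa using h3
  rw [Orth.orth_orth hB] at hle
  have h4 := Orth.finrank_orth hB W
  rw [Module.finrank_fin_fun] at h4
  have h5 := Submodule.finrank_mono hle
  rcases hW' with hW' | hW'
  · have e := Submodule.eq_of_le_of_finrank_le hle (by omega)
    refine hW' ?_
    have h6 : Orth.orth Q W ≤ Orth.orth Q (Orth.orth Q W) := by rw [Orth.orth_orth hB]; exact hle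
    rwa [e] at h6
  · omega

theorem orth_le_or_top (hn : 6 ≤ n) :
    M = ⊤ ∨ ∀ g ∈ M, toGLHom g ∈ Cfsg.Geo.subfieldSubgroup F₀ P := by
  classical
  obtain ⟨θ, hθ, hθb, hdec⟩ := exists_outside K hcard
  obtain ⟨s₁, f₁, -, -, -, hs₁, hf₁, hsf₁⟩ := Orth.exists_pair_in hB (U := ⊤)
    (fun x _ h => hB x fun y => h y Submodule.mem_top) (P := ⊥) le_top
    (by rw [finrank_top, Module.finrank_fin_fun, finrank_bot]; omega)
  by_cases hR : ∀ g ∈ M, ∀ u, Q u = 0 → ∃ c : F, ∃ r ∈ rat F₀ P, app g (emb P u) = c • r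
  · refine Or.inr fun g hg => (toGLHom_mem_subfield_iff g).2 ?_
    have ratio : ∀ u v : Fin n → F₀, Q u = 0 → Q v = 0 → QuadraticMap.polar (⇑Q) u v = 0 →
        v ∉ Submodule.span F₀ {u} → u ≠ 0 → ∀ c : F, ∀ r ∈ rat F₀ P, app g (emb P u) = c • r →
        ∃ r' ∈ rat F₀ P, app g (emb P v) = c • r' := by
      intro u v hu hv huv hvi hu0 c r hr hgu
      obtain ⟨d, r', hr', hgv⟩ := hR g hg v hv
      obtain ⟨e, w, hw, hgw⟩ := hR g hg (u + v) (by rw [Orth.q_add, hu, hv, huv, add_zero, add_zero])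
      rw [emb_add, app_add, hgu, hgv] at hgw
      have hc : c ≠ 0 := fun e0 => hu0 (emb_inj (P := P) (by
        rw [emb_zero]
        refine app_injective g ?_
        rw [hgu, e0, zero_smul]; exact (mulVec_zero _).symm))
      obtain ⟨p, hp, p', hp', e1⟩ := hdec (d / c)
      obtain ⟨s, hs, t, ht, e2⟩ := hdec (e / c)
      have key : (r + p • r' - s • w) + θ • (p' • r' - t • w) = 0 := by
        have := congrArg (fun v => c⁻¹ • v) hgw
        simp only [smul_add, smul_smul, inv_mul_cancel₀ hc, one_smul] at this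
        rw [inv_mul_eq_div, inv_mul_eq_div, e1, e2] at this
        rw [← sub_eq_zero] at this
        rw [← this]; module
      obtain ⟨k1, k2⟩ := rat_parts_unique hθ
        (sub_mem (add_mem hr (smul_mem_rat hp hr')) (smul_mem_rat hs hw))
        (sub_mem (smul_mem_rat hp' hr') (smul_mem_rat ht hw)) key
      rw [sub_eq_zero] at k1 k2
      refine ⟨(d / c) • r', smul_mem_rat ?_ hr', by
        rw [hgv, smul_smul, mul_div_cancel₀ _ hc]⟩
      by_cases hp0 : p' = 0
      · rw [e1, hp0, zero_mul, add_zero]; exact hp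
      by_cases hr'0 : r' = 0
      · exfalso
        have : emb P v = 0 := app_injective g (by
          rw [hgv, hr'0, smul_zero]; exact (mulVec_zero _).symm)
        exact hvi (by rw [emb_inj (P := P) (this.trans emb_zero.symm)]; exact Submodule.zero_mem _)
      exfalso
      have ht0 : t ≠ 0 := fun e => by
        rw [e, zero_smul, smul_eq_zero] at k2
        exact k2.elim hp0 hr'0
      have hr2 : r = (s * (p' / t) - p) • r' := by
        rw [sub_smul, eq_sub_iff_add_eq, k1, mul_smul, div_eq_inv_mul, mul_smul t⁻¹, k2, smul_smul t⁻¹,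
          inv_mul_cancel₀ ht0, one_smul]
      -- then the image of `u` is a multiple of that of `v`
      have hd : d ≠ 0 := fun e0 => by
        have : emb P v = 0 := app_injective g (by
          rw [hgv, e0, zero_smul]; exact (mulVec_zero _).symm)
        exact hvi (by rw [emb_inj (P := P) (this.trans emb_zero.symm)]; exact Submodule.zero_mem _)
      obtain ⟨lam, hl⟩ : ∃ lam, lam = c * (s * (p' / t) - p) * d⁻¹ := ⟨_, rfl⟩
      have h1 : emb P u = lam • emb P v := app_injective g (by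
        rw [app_smul, hgu, hgv, hr2, smul_smul, smul_smul, hl]
        congr 1
        field_simp)
      obtain ⟨l0, hl0, l1, hl1, hle⟩ := hdec lam
      obtain ⟨k3, k4⟩ := rat_parts_unique hθ (sub_mem (emb_mem (P := P) u) (smul_mem_rat hl0 (emb_mem v)))
        (sub_mem (zero_mem _) (smul_mem_rat hl1 (emb_mem v))) (show
          (emb P u - l0 • emb P v) + θ • ((0 : V) - l1 • emb P v) = 0 by rw [h1, hle]; module)
      have hue : u = (⟨l0, hl0⟩ : F₀) • v := emb_inj (P := P) (by rw [emb_smul]; exact sub_eq_zero.1 k3)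
      have hl00 : (⟨l0, hl0⟩ : F₀) ≠ 0 := fun e0 => hu0 (by rw [hue, e0, zero_smul])
      exact hvi (Submodule.mem_span_singleton.2 ⟨(⟨l0, hl0⟩ : F₀)⁻¹, by
        rw [hue, smul_smul, inv_mul_cancel₀ hl00, one_smul]⟩)
    obtain ⟨u₀, hu₀, -, -, hu₀P⟩ := exists_far K hcard hP h2 hB hQ ∅ (by simp; omega)
    have hu₀0 : u₀ ≠ 0 := fun h => hu₀P (h ▸ Submodule.zero_mem _)
    obtain ⟨c, r₀, hr₀, hgr₀⟩ := hR g hg u₀ hu₀
    have hc : c ≠ 0 := fun e0 => hu₀0 (emb_inj (P := P) (by
      rw [emb_zero]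
      refine app_injective g ?_
      rw [hgr₀, e0, zero_smul]; exact (mulVec_zero _).symm))
    refine ⟨c, hc, fun a ha => ?_⟩
    obtain ⟨a', rfl⟩ := exists_emb ha
    have hsing : ∀ u, Q u = 0 → ∃ r ∈ rat F₀ P, app g (emb P u) = c • r := by
      intro u hu
      by_cases hu0 : u = 0
      · refine ⟨0, zero_mem _, ?_⟩
        rw [hu0, emb_zero, smul_zero]; exact mulVec_zero _
      obtain ⟨m, hm, hmu, hmu₀, hmP, hmP₀⟩ := exists_far_pair K hcard hP h2 hB hQ hn hu hu₀ hu0 hu₀0
      obtain ⟨rm, hrm, hgm⟩ := ratio u₀ m hu₀ hm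
        (Subtype.ext (by rw [hQ]; exact hmu₀.1)) hmP₀ hu₀0 c r₀ hr₀ hgr₀
      have hm0 : m ≠ 0 := fun h => hmP (h ▸ Submodule.zero_mem _)
      refine ratio m u hm hu (Subtype.ext (by rw [hQ]; exact hmu.2)) (fun h => ?_)
        hm0 c rm hrm hgm
      obtain ⟨d, hd⟩ := Submodule.mem_span_singleton.1 h
      have hd0 : d ≠ 0 := fun e0 => hu0 (by rw [← hd, e0, zero_smul])
      refine hmP ((Submodule.smul_mem_iff _ hd0).1 ?_)
      rw [hd]
      exact Submodule.mem_span_singleton_self u
    have ha' := Orth.le_span_singular_in (S := (⊤ : Submodule F₀ (Fin n → F₀))) Submodule.mem_top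
      Submodule.mem_top hs₁ hf₁ hsf₁ (Submodule.mem_top (x := a'))
    clear ha
    induction ha' using Submodule.span_induction with
    | mem z hz => exact hsing z hz.2
    | zero => exact ⟨0, zero_mem _, by rw [emb_zero, smul_zero]; exact mulVec_zero _⟩
    | add x y _ _ hx hy =>
      obtain ⟨r, hr, e⟩ := hx
      obtain ⟨r', hr', e'⟩ := hy
      exact ⟨r + r', add_mem hr hr', by rw [emb_add, app_add, e, e', smul_add]⟩
    | smul d x _ hx =>
      obtain ⟨r, hr, e⟩ := hx
      exact ⟨(d : F) • r, smul_mem_rat d.2 hr, by rw [emb_smul, app_smul, e, smul_comm]⟩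
  left
  push Not at hR
  obtain ⟨g, hg, v, hv, hout⟩ := hR
  obtain ⟨b₀, hb₀, b₁, hb₁, hB'⟩ := rat_parts (P := P) hdec (app g (emb P v))
  obtain ⟨b, rfl⟩ := exists_emb hb₀
  obtain ⟨b', rfl⟩ := exists_emb hb₁
  have hbi : b ∉ Submodule.span F₀ {b'} := fun h => by
    obtain ⟨d, hd⟩ := Submodule.mem_span_singleton.1 h
    exact hout ((d : F) + θ) (emb P b') (emb_mem b') (by
      rw [hB', ← hd, emb_smul]; module)
  have hb'i : b' ∉ Submodule.span F₀ {b} := fun h => by
    obtain ⟨d, hd⟩ := Submodule.mem_span_singleton.1 h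
    exact hout (1 + θ * (d : F)) (emb P b) (emb_mem b) (by
      rw [hB', ← hd, emb_smul]; module)
  have hvv : H (emb P v) (emb P v) = 0 := (sing_iff K hcard hP h2 hQ v).2 hv
  obtain ⟨u, hu, huv, a, a', hA, hai⟩ : ∃ u, Q u = 0 ∧ H (emb P u) (emb P v) = 0 ∧ ∃ a a',
      app g (emb P u) = emb P a + θ • emb P a' ∧
      (a ∉ Submodule.span F₀ ({b, b'} : Set (Fin n → F₀)) ∨
        a' ∉ Submodule.span F₀ ({b, b'} : Set (Fin n → F₀))) := by
    by_contra hc
    push Not at hc
    have h1 : Module.finrank F₀ (Submodule.span F₀ ({v} : Set (Fin n → F₀))) ≤ 1 := by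
      refine (finrank_span_le_card ({v} : Set (Fin n → F₀))).trans ?_
      simp
    obtain ⟨s, f, hs, hf, -, hsq, hfq, hsf⟩ := Orth.exists_pair_in hB (U := ⊤)
      (fun x _ h => hB x fun y => h y Submodule.mem_top) (P := Submodule.span F₀ {v}) le_top
      (by rw [finrank_top, Module.finrank_fin_fun]; omega)
    let T : Submodule F V := Submodule.span F ({emb P b, emb P b'} : Set V)
    have himg : ∀ y ∈ Orth.orth Q (Submodule.span F₀ {v}), app g (emb P y) ∈ T := by
      intro y hy
      have hy' := Orth.le_span_singular_in hs.2 hf.2 hsq hfq hsf hy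
      clear hy
      induction hy' using Submodule.span_induction with
      | mem z hz =>
        obtain ⟨a₀, ha₀, a₁, ha₁, e⟩ := rat_parts (P := P) hdec (app g (emb P z))
        obtain ⟨a, rfl⟩ := exists_emb ha₀
        obtain ⟨a', rfl⟩ := exists_emb ha₁
        have hzv : H (emb P z) (emb P v) = 0 := h_eq_zero_symm K (by
          rw [← hQ, Orth.mem_orth.1 hz.1 v (Submodule.mem_span_singleton_self v)]; rfl)
        obtain ⟨h3, h4⟩ := hc z hz.2 hzv a a' e
        have hmap : ∀ x ∈ Submodule.span F₀ ({b, b'} : Set (Fin n → F₀)), emb P x ∈ T := by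
          intro x hx
          obtain ⟨α, β, rfl⟩ := Submodule.mem_span_pair.1 hx
          rw [emb_add, emb_smul, emb_smul]
          exact T.add_mem (T.smul_mem _ (Submodule.subset_span (Set.mem_insert _ _)))
            (T.smul_mem _ (Submodule.subset_span (Set.mem_insert_of_mem _ rfl)))
        rw [e]
        exact T.add_mem (hmap a h3) (T.smul_mem _ (hmap a' h4))
      | zero => rw [emb_zero, show app g (0 : V) = 0 from mulVec_zero _]; exact T.zero_mem
      | add x y _ _ hx hy => rw [emb_add, app_add]; exact T.add_mem hx hy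
      | smul d x _ hx => rw [emb_smul, app_smul]; exact T.smul_mem _ hx
    -- all of `rat` is in a space of dimension three
    obtain ⟨w, hw, -, hwv⟩ := exists_one K hcard hP hB hQ (W := ⊥) (x := v) (fun h => hout 0 0 (zero_mem _) (by
      rw [(Submodule.mem_bot F₀).1 h, emb_zero, smul_zero]; exact mulVec_zero _))
    let T' : Submodule F V := T ⊔ Submodule.span F {app g (emb P w)}
    have hall : ∀ x : Fin n → F₀, app g (emb P x) ∈ T' := by
      intro x
      obtain ⟨d, hd⟩ : ∃ d : F₀, d = QuadraticMap.polar (⇑Q) v x := ⟨_, rfl⟩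
      have hmem : x - d • w ∈ Orth.orth Q (Submodule.span F₀ {v}) := by
        refine Orth.mem_orth.2 fun y hy => ?_
        obtain ⟨e, rfl⟩ := Submodule.mem_span_singleton.1 hy
        have hvw : QuadraticMap.polar (⇑Q) v w = 1 := Subtype.ext (by
          rw [hQ, val_symm K hcard hP (emb_mem w) (emb_mem v), hwv]; rfl)
        rw [Orth.b_smul_left, Orth.b_sub_right, Orth.b_smul_right, hvw, hd]; ring
      rw [show x = (x - d • w) + d • w from (sub_add_cancel _ _).symm, emb_add, app_add, emb_smul,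
        app_smul]
      exact T'.add_mem (Submodule.mem_sup_left (himg _ hmem))
        (T'.smul_mem _ (Submodule.mem_sup_right (Submodule.mem_span_singleton_self _)))
    have htop : (⊤ : Submodule F V) ≤ T' := by
      intro y _
      rw [← app_inv' g y, eq_sum_col (P := P) (app g⁻¹ y)]
      show (g.1 : Matrix (Fin n) (Fin n) F) *ᵥ _ ∈ T'
      rw [mulVec_sum]
      refine T'.sum_mem fun j _ => ?_
      obtain ⟨x, hx⟩ := exists_emb (col_mem (F₀ := F₀) (P := P) j)
      rw [mulVec_smul, hx]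
      exact T'.smul_mem _ (hall x)
    have h5 := Submodule.finrank_mono htop
    have h6 : Module.finrank F T' ≤ 3 := by
      refine (Submodule.finrank_add_le_finrank_add_finrank _ _).trans ?_
      have h7 := finrank_span_finset_le_card (R := F) ({emb P b, emb P b'} : Finset V)
      rw [Set.finrank, Finset.coe_pair] at h7
      have h8 := Finset.card_le_two (a := emb P b) (b := emb P b')
      have h9 : Module.finrank F (Submodule.span F ({app g (emb P w)} : Set V)) ≤ 1 := by
        refine (finrank_span_le_card ({app g (emb P w)} : Set V)).trans ?_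
        simp
      have h10 : Module.finrank F T ≤ ({emb P b, emb P b'} : Finset V).card := h7
      omega
    rw [finrank_top, Module.finrank_fin_fun] at h5
    omega
  obtain ⟨x, hxa, hxi⟩ : ∃ x, (x = a ∨ x = a') ∧
      x ∉ Submodule.span F₀ ({b, b'} : Set (Fin n → F₀)) :=
    hai.elim (fun h => ⟨a, Or.inl rfl, h⟩) fun h => ⟨a', Or.inr rfl, h⟩
  have hBB : H (app g (emb P v)) (app g (emb P v)) = 0 := by rw [h_app]; exact hvv
  have hAB : H (app g (emb P u)) (app g (emb P v)) = 0 := by rw [h_app]; exact huv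
  obtain ⟨k, hkM, hk⟩ : ∃ k ∈ M, IsE K k (app g (emb P u)) (app g (emb P v)) 0 := by
    obtain ⟨t, ht⟩ := exists_E (K := K) (a := emb P u) (b := emb P v) (c := 0) (by omega)
      ((sing_iff K hcard hP h2 hQ u).2 hu) (h_eq_zero_symm K huv) (by rw [hvv, map_zero]; ring)
    exact ⟨_, M.mul_mem (M.mul_mem hg (rat_E_mem K hcard hP hM (emb_mem u) (emb_mem v) F₀.zero_mem ht))
      (M.inv_mem hg), isE_conj ht g⟩
  -- the end of each case
  have finish : ∀ (p r : Fin n → F₀) (l : F), H (emb P p) (emb P p) = 0 → p ≠ 0 →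
      H (emb P r) (emb P p) = 0 → K.bar l * H (app g (emb P v)) (emb P r) ∉ F₀ →
      (∃ k' ∈ M, IsE K k' (emb P p) (-(K.bar l) • app g (emb P v)) 0) → M = ⊤ := by
    rintro p r l hpp hp0 hr hl ⟨k', hk', hkE⟩
    refine eq_top_of_centre K hcard hP h2 hM hB hQ hn (p₀ := p)
      (centre_of_pair K hcard hP h2 hM hB hQ (by omega) hpp hk' hkE hr fun h => hl ?_) hp0
    rw [h_smul_left K, neg_mul] at h
    simpa using F₀.neg_mem h
  have hBof : ∀ z : Fin n → F₀, H (emb P b) (emb P z) = 0 → H (emb P b') (emb P z) = 0 →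
      H (app g (emb P v)) (emb P z) = 0 := fun z hz hz' => by
    rw [hB', h_add_left K, h_smul_left K, hz, hz', mul_zero, add_zero]
  have hAof : ∀ W : Submodule F₀ (Fin n → F₀), x ∉ W → ∃ y : Fin n → F₀,
      (∀ w ∈ W, H (emb P w) (emb P y) = 0 ∧ H (emb P y) (emb P w) = 0) ∧
        H (app g (emb P u)) (emb P y) ≠ 0 := by
    intro W out
    rcases hxa with rfl | rfl
    · obtain ⟨y, hy, h1, -⟩ := exists_one K hcard hP hB hQ out
      refine ⟨y, hy, fun e => hθ ?_⟩
      rw [hA, h_add_left K, h_smul_left K, h1] at e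
      have hne : H (emb P a') (emb P y) ≠ 0 := fun e' => by
        rw [e', mul_zero, add_zero] at e; exact one_ne_zero e
      rw [show θ = -1 / H (emb P a') (emb P y) by field_simp; linear_combination e]
      exact F₀.div_mem (F₀.neg_mem F₀.one_mem) (val_mem (K := K) hP (emb_mem _) (emb_mem _))
    · obtain ⟨y, hy, h1, -⟩ := exists_one K hcard hP hB hQ out
      refine ⟨y, hy, fun e => hθ ?_⟩
      rw [hA, h_add_left K, h_smul_left K, h1, mul_one] at e
      rw [show θ = -H (emb P a) (emb P y) by linear_combination e]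
      exact F₀.neg_mem (val_mem (K := K) hP (emb_mem _) (emb_mem _))
  have hbW : b ∈ Submodule.span F₀ ({b, b'} : Set (Fin n → F₀)) :=
    Submodule.subset_span (Set.mem_insert _ _)
  have hb'W : b' ∈ Submodule.span F₀ ({b, b'} : Set (Fin n → F₀)) :=
    Submodule.subset_span (Set.mem_insert_of_mem _ rfl)
  have hW2 : Module.finrank F₀ (Submodule.span F₀ ({b, b'} : Set (Fin n → F₀))) ≤ 2 := by
    have h1 := finrank_span_finset_le_card (R := F₀) ({b, b'} : Finset (Fin n → F₀))
    rw [Set.finrank, Finset.coe_pair] at h1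
    have h3 : ({b, b'} : Finset (Fin n → F₀)).card ≤ 2 := Finset.card_le_two
    omega
  by_cases hts : Submodule.span F₀ ({b, b'} : Set (Fin n → F₀)) ≤
      Orth.orth Q (Submodule.span F₀ ({b, b'} : Set (Fin n → F₀)))
  · -- `b` and `b'` span a totally singular plane
    have hzero : ∀ z w : Fin n → F₀, z ∈ Submodule.span F₀ ({b, b'} : Set (Fin n → F₀)) →
        w ∈ Submodule.span F₀ ({b, b'} : Set (Fin n → F₀)) → H (emb P z) (emb P w) = 0 :=
      fun z w hz hw => by rw [← hQ, Orth.mem_orth.1 (hts hw) z hz]; rfl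
    obtain ⟨y₁, hy₁, h1, h1'⟩ := exists_one K hcard hP hB hQ hbi
    obtain ⟨y₂, hy₂, h3, h3'⟩ := exists_one K hcard hP hB hQ hb'i
    have h2' := hy₁ b' (Submodule.mem_span_singleton_self _)
    have h4 := hy₂ b (Submodule.mem_span_singleton_self _)
    have hAe : H (app g (emb P u)) (emb P b) + K.bar θ * H (app g (emb P u)) (emb P b') = 0 := by
      have := hAB
      rw [hB', h_add_right K, h_smul_right K] at this
      exact this
    have hcomb : ∀ s t : F₀, s • b + t • b' ∈ Submodule.span F₀ ({b, b'} : Set (Fin n → F₀)) :=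
      fun s t => Submodule.mem_span_pair.2 ⟨s, t, rfl⟩
    have hr : ∀ s t : F₀, H (emb P (t • y₁ - s • y₂)) (emb P (s • b + t • b')) = 0 ∧
        H (app g (emb P v)) (emb P (t • y₁ - s • y₂)) = t - θ * s := fun s t => by
      simp only [hB', emb_add, emb_sub, emb_smul, h_add_left K, h_sub_left K, h_smul_left K,
        h_add_right K, h_sub_right K, h_smul_right K, bar_fix K hcard s.2, bar_fix K hcard t.2,
        h1, h1', h3, h3', h2'.1, h2'.2, h4.1, h4.2]
      constructor <;> ring
    have hp0 : ∀ s t : F₀, (s ≠ 0 ∨ t ≠ 0) → s • b + t • b' ≠ 0 := by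
      rintro s t hst e
      by_cases hs : s = 0
      · rw [hs, zero_smul, zero_add, smul_eq_zero] at e
        exact hb'i (by rw [e.resolve_left (hst.resolve_left (not_not.2 hs))]; exact Submodule.zero_mem _)
      · refine hbi (Submodule.mem_span_singleton.2 ⟨-(s⁻¹ * t), ?_⟩)
        rw [neg_smul, mul_smul, eq_neg_of_add_eq_zero_right e, smul_neg, smul_smul,
          inv_mul_cancel₀ hs, one_smul, neg_neg]
    by_cases hα : H (app g (emb P u)) (emb P b') = 0
    · rw [hα, mul_zero, add_zero] at hAe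
      obtain ⟨y, hy, hγ⟩ := hAof _ hxi
      obtain ⟨γ, hγe⟩ : ∃ γ, γ = H (app g (emb P u)) (emb P y) := ⟨_, rfl⟩
      rw [← hγe] at hγ
      have main : ∀ s t : F₀, (s ≠ 0 ∨ t ≠ 0) → K.bar γ * (t - θ * s) ∉ F₀ → M = ⊤ := by
        intro s t hst hl
        refine finish _ (t • y₁ - s • y₂) γ (hzero _ _ (hcomb s t) (hcomb s t)) (hp0 s t hst) (hr s t).1
          (by rwa [(hr s t).2]) ?_
        rw [hγe]
        exact comm_first K hcard hP h2 hM hB hQ (by omega) hkM hk hBB (hzero _ _ (hcomb s t) (hcomb s t))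
          (hy _ (hcomb s t)).2 (hBof _ (hzero _ _ hbW (hcomb s t)) (hzero _ _ hb'W (hcomb s t)))
          (hBof _ (hy b hbW).1 (hy b' hb'W).1)
          (by rw [emb_add, emb_smul, emb_smul, h_add_right K, h_smul_right K, h_smul_right K, hAe, hα]; ring)
      by_cases hb : K.bar γ ∈ F₀
      · refine main 1 0 (Or.inl one_ne_zero) fun h => hθ ?_
        have hb0 : K.bar γ ≠ 0 := by simpa using hγ
        rw [ZeroMemClass.coe_zero, OneMemClass.coe_one, mul_one, zero_sub, mul_neg] at h
        rw [show θ = (K.bar γ)⁻¹ * (K.bar γ * θ) by rw [inv_mul_cancel_left₀ hb0]]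
        exact F₀.mul_mem (F₀.inv_mem hb) (by simpa using F₀.neg_mem h)
      · exact main 0 1 (Or.inr one_ne_zero) (by simpa using hb)
    · obtain ⟨y, hy, hyy⟩ := exists_nonsingular K hcard hP h2 hB hQ
        (W := Submodule.span F₀ ({b, b'} : Set (Fin n → F₀))) (by omega) (Or.inr (by omega))
      have hy' : ∀ w ∈ Submodule.span F₀ ({b, b'} : Set (Fin n → F₀)), H (emb P w) (emb P y) = 0 :=
        fun w hw => by rw [← hQ, Orth.mem_orth.1 hy w hw]; rfl
      obtain ⟨α, hαe⟩ : ∃ α, α = H (app g (emb P u)) (emb P b') := ⟨_, rfl⟩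
      rw [← hαe] at hα hAe
      obtain ⟨m, hme⟩ : ∃ m, m = H (emb P y) (emb P y) := ⟨_, rfl⟩
      rw [← hme] at hyy
      have hm : m ∈ F₀ := hme ▸ val_mem (K := K) hP (emb_mem y) (emb_mem y)
      have main : ∀ s t : F₀, (s ≠ 0 ∨ t ≠ 0) → K.bar α * (t - θ * s) ^ 2 ∉ F₀ → M = ⊤ := by
        intro s t hst hl
        refine finish _ (t • y₁ - s • y₂)
          (H (app g (emb P u)) (emb P (s • b + t • b')) * H (emb P y) (emb P y))
          (hzero _ _ (hcomb s t) (hcomb s t)) (hp0 s t hst) (hr s t).1 (fun h => hl ?_) ?_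
        · have hp' : H (app g (emb P u)) (emb P (s • b + t • b')) = α * (t - s * K.bar θ) := by
            rw [emb_add, emb_smul, emb_smul, h_add_right K, h_smul_right K, h_smul_right K, ← hαe,
              bar_fix K hcard s.2, bar_fix K hcard t.2]
            linear_combination (s : F) * hAe
          rw [(hr s t).2, hp', ← hme, map_mul, map_mul, map_sub, map_mul, K.bar_bar, bar_fix K hcard s.2,
            bar_fix K hcard t.2, bar_fix K hcard hm] at h
          rw [show K.bar α * (t - θ * s) ^ 2 = m⁻¹ * (K.bar α * (t - s * θ) * m * (t - θ * s)) by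
            field_simp]
          exact F₀.mul_mem (F₀.inv_mem hm) h
        · exact comm_second K hcard hP h2 hM hB hQ (by omega) hkM hk hBB
            (hzero _ _ (hcomb s t) (hcomb s t)) (h_eq_zero_symm K (hy' _ (hcomb s t)))
            (hBof _ (hzero _ _ hbW (hcomb s t)) (hzero _ _ hb'W (hcomb s t)))
            (hBof _ (hy' b hbW) (hy' b' hb'W))
      by_cases h01 : K.bar α ∈ F₀
      · have hb0 : K.bar α ≠ 0 := by simpa using hα
        have cancel : ∀ z, K.bar α * z ∈ F₀ → z ∈ F₀ := fun z hz => by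
          rw [show z = (K.bar α)⁻¹ * (K.bar α * z) by rw [inv_mul_cancel_left₀ hb0]]
          exact F₀.mul_mem (F₀.inv_mem h01) hz
        by_cases h10 : θ ^ 2 ∈ F₀
        · refine main 1 1 (Or.inl one_ne_zero) fun h => hθ ?_
          have := cancel _ h
          rw [OneMemClass.coe_one, mul_one] at this
          rw [show θ = (θ ^ 2 + 1 - (1 - θ) ^ 2) / 2 by field_simp; ring]
          exact F₀.div_mem (F₀.sub_mem (F₀.add_mem h10 F₀.one_mem) this)
            (by rw [← one_add_one_eq_two]; exact F₀.add_mem F₀.one_mem F₀.one_mem)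
        · refine main 1 0 (Or.inl one_ne_zero) fun h => h10 ?_
          have := cancel _ h
          simpa using this
      · exact main 0 1 (Or.inr one_ne_zero) (by simpa using h01)
  · -- a singular point orthogonal to `b` and `b'` outside their span
    have hR : Module.finrank F₀ ↥(Submodule.span F₀ ({b, b'} : Set (Fin n → F₀)) ⊓
        Orth.orth Q (Submodule.span F₀ ({b, b'} : Set (Fin n → F₀)))) ≤ 1 := by
      have := Submodule.finrank_lt_finrank_of_lt (show Submodule.span F₀ ({b, b'} : Set (Fin n → F₀)) ⊓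
        Orth.orth Q (Submodule.span F₀ ({b, b'} : Set (Fin n → F₀))) < Submodule.span F₀ ({b, b'} :
          Set (Fin n → F₀)) from lt_of_le_of_ne inf_le_left fun e => hts (inf_eq_left.1 e))
      omega
    obtain ⟨s, f, hs, hf, -, hsq, hfq, hsf⟩ := Orth.exists_pair_in' hB (U := ⊤)
      (fun x _ h => hB x fun y => h y Submodule.mem_top)
      (P := Submodule.span F₀ ({b, b'} : Set (Fin n → F₀)))
      (R := Submodule.span F₀ ({b, b'} : Set (Fin n → F₀)) ⊓
        Orth.orth Q (Submodule.span F₀ ({b, b'} : Set (Fin n → F₀)))) le_top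
      (fun z hz hzP _ => ⟨hzP, hz.2⟩) (by rw [finrank_top, Module.finrank_fin_fun]; omega)
    -- one of the two avoids `x`
    obtain ⟨p, hp, hpD, hpP, hpx⟩ : ∃ p, Q p = 0 ∧
        p ∈ Orth.orth Q (Submodule.span F₀ ({b, b'} : Set (Fin n → F₀))) ∧
        p ∉ Submodule.span F₀ ({b, b'} : Set (Fin n → F₀)) ∧
        x ∉ Submodule.span F₀ ({p, b, b'} : Set (Fin n → F₀)) := by
      have hsP : ∀ e g', e ∈ Orth.orth Q (Submodule.span F₀ ({b, b'} : Set (Fin n → F₀))) →
          QuadraticMap.polar (⇑Q) g' e = 1 → g' ∉ Submodule.span F₀ ({b, b'} : Set (Fin n → F₀)) :=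
        fun e g' he h1 hg' => one_ne_zero (h1.symm.trans (Orth.mem_orth.1 he g' hg'))
      by_cases hxs : x ∈ Submodule.span F₀ ({s, b, b'} : Set (Fin n → F₀))
      · refine ⟨f, hfq, hf.2, hsP s f hs.2 (by rw [Orth.b_comm, hsf]), fun hxf => hxi ?_⟩
        obtain ⟨α, z, hz, e1⟩ := Submodule.mem_span_insert.1 hxs
        obtain ⟨β, z', hz', e2⟩ := Submodule.mem_span_insert.1 hxf
        have hα : α = 0 := by
          have h5 : QuadraticMap.polar (⇑Q) x f = α := by
            rw [e1, Orth.b_add_left, Orth.b_smul_left, hsf, Orth.mem_orth.1 hf.2 z hz, mul_one, add_zero]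
          have h6 : QuadraticMap.polar (⇑Q) x f = 0 := by
            rw [e2, Orth.b_add_left, Orth.b_smul_left, Orth.b_self_zero hfq,
              Orth.mem_orth.1 hf.2 z' hz', mul_zero, add_zero]
          exact h5.symm.trans h6
        rw [e1, hα, zero_smul, zero_add]; exact hz
      · exact ⟨s, hsq, hs.2, hsP f s hf.2 hsf, hxs⟩
    have hpp := (sing_iff K hcard hP h2 hQ p).2 hp
    have hWp : ∀ w ∈ Submodule.span F₀ ({b, b'} : Set (Fin n → F₀)), H (emb P w) (emb P p) = 0 :=
      fun w hw => by rw [← hQ, Orth.mem_orth.1 hpD w hw]; rfl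
    have hBp := hBof _ (hWp b hbW) (hWp b' hb'W)
    have hp0 : p ≠ 0 := fun h => hpP (h ▸ Submodule.zero_mem _)
    obtain ⟨l, hl0, hl⟩ : ∃ l, l ≠ 0 ∧
        ∃ k' ∈ M, IsE K k' (emb P p) (-(K.bar l) • app g (emb P v)) 0 := by
      by_cases hα : H (app g (emb P u)) (emb P p) = 0
      · obtain ⟨y, hy, hγ⟩ := hAof _ hpx
        exact ⟨_, hγ, comm_first K hcard hP h2 hM hB hQ (by omega) hkM hk hBB hpp
          (hy p (Submodule.subset_span (by simp))).2 hBp
          (hBof _ (hy b (Submodule.subset_span (by simp))).1 (hy b' (Submodule.subset_span (by simp))).1) hα⟩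
      · have h3 : Module.finrank F₀ (Submodule.span F₀ ({p, b, b'} : Set (Fin n → F₀))) ≤ 3 := by
          rw [Submodule.span_insert]
          refine (Submodule.finrank_add_le_finrank_add_finrank _ _).trans ?_
          have h9 : Module.finrank F₀ (Submodule.span F₀ ({p} : Set (Fin n → F₀))) ≤ 1 := by
            rw [finrank_span_singleton hp0]
          omega
        obtain ⟨y, hy, hyy⟩ := exists_nonsingular K hcard hP h2 hB hQ
          (W := Submodule.span F₀ ({p, b, b'} : Set (Fin n → F₀))) (by omega) (Or.inl fun h => hts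
            fun z hz => Orth.mem_orth.2 fun w hw => Orth.mem_orth.1
              (h (Submodule.span_mono (Set.subset_insert _ _) hz)) w
              (Submodule.span_mono (Set.subset_insert _ _) hw))
        have hy' : ∀ w ∈ ({p, b, b'} : Set (Fin n → F₀)), H (emb P w) (emb P y) = 0 :=
          fun w hw => by rw [← hQ, Orth.mem_orth.1 hy w (Submodule.subset_span hw)]; rfl
        exact ⟨_, mul_ne_zero hα hyy, comm_second K hcard hP h2 hM hB hQ (by omega) hkM hk hBB hpp
          (h_eq_zero_symm K (hy' p (by simp))) hBp (hBof _ (hy' b (by simp)) (hy' b' (by simp)))⟩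
    have hbout : ∀ e z : Fin n → F₀, e ∉ Submodule.span F₀ {z} →
        e ∈ Submodule.span F₀ ({b, b'} : Set (Fin n → F₀)) →
        z ∈ Submodule.span F₀ ({b, b'} : Set (Fin n → F₀)) →
        e ∉ Submodule.span F₀ ({p, z} : Set (Fin n → F₀)) := by
      intro e z hez he hz h
      obtain ⟨α, β, hxw⟩ := Submodule.mem_span_pair.1 h
      by_cases hα : α = 0
      · exact hez (Submodule.mem_span_singleton.2 ⟨β, by rw [← hxw, hα, zero_smul, zero_add]⟩)
      · refine hpP ((Submodule.smul_mem_iff _ hα).1 ?_)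
        rw [eq_sub_of_add_eq hxw]
        exact Submodule.sub_mem _ he (Submodule.smul_mem _ _ hz)
    obtain ⟨y₁, hy₁, h1, -⟩ := exists_one K hcard hP hB hQ (hbout b b' hbi hbW hb'W)
    obtain ⟨y₂, hy₂, h3, -⟩ := exists_one K hcard hP hB hQ (hbout b' b hb'i hb'W hbW)
    have e1 : H (app g (emb P v)) (emb P y₁) = 1 := by
      rw [hB', h_add_left K, h_smul_left K, h1, (hy₁ b' (Submodule.subset_span (by simp))).1, mul_zero,
        add_zero]
    have e2 : H (app g (emb P v)) (emb P y₂) = θ := by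
      rw [hB', h_add_left K, h_smul_left K, h3, (hy₂ b (Submodule.subset_span (by simp))).1, mul_one,
        zero_add]
    by_cases hb : K.bar l ∈ F₀
    · refine finish p y₂ l hpp hp0 (hy₂ p (Submodule.subset_span (by simp))).2 (fun h => hθ ?_) hl
      rw [e2] at h
      have hb0 : K.bar l ≠ 0 := by simpa using hl0
      rw [show θ = (K.bar l)⁻¹ * (K.bar l * θ) by rw [inv_mul_cancel_left₀ hb0]]
      exact F₀.mul_mem (F₀.inv_mem hb) h
    · exact finish p y₁ l hpp hp0 (hy₁ p (Submodule.subset_span (by simp))).2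
        (by rw [e1, mul_one]; exact hb) hl

omit hM in
theorem orth_exists_notMem (hn : 6 ≤ n) :
    ∃ g : G, toGLHom g ∉ Cfsg.Geo.subfieldSubgroup F₀ P := by
  classical
  obtain ⟨θ, hθ0, hθ⟩ := exists_skew K
  have hθF : θ ∉ F₀ := fun h => hθ0 (mul_left_cancel₀ h2 (by
    rw [mul_zero, two_mul]; nth_rw 2 [← bar_fix K hcard h]; exact hθ))
  obtain ⟨p, hp, hpp, -, hpP⟩ := exists_far K hcard hP h2 hB hQ ∅ (by simp; omega)
  obtain ⟨f, -, hpf⟩ := Orth.exists_partner hB hp (fun h => hpP (h ▸ Submodule.zero_mem _))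
  have hfp : H (emb P f) (emb P p) = 1 := by
    rw [val_symm K hcard hP (emb_mem p) (emb_mem f), ← hQ, hpf]; rfl
  obtain ⟨g, hg⟩ := exists_T K hpp hθ
  refine ⟨g, fun h => ?_⟩
  obtain ⟨c, hc0, hc⟩ := (toGLHom_mem_subfield_iff g).1 h
  obtain ⟨r, hr, hgp⟩ := hc _ (emb_mem p)
  rw [hg.2.2, hpp, mul_zero, zero_smul, add_zero] at hgp
  obtain ⟨r', hr', hgf⟩ := hc _ (emb_mem f)
  rw [hg.2.2, hfp, mul_one] at hgf
  obtain ⟨θ', hθ', -, hdec⟩ := exists_outside K hcard
  obtain ⟨m, hm, l, hl, hml⟩ := hdec c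
  have hp0 : emb P p ≠ 0 := fun e => hpP ((emb_inj (P := P) (e.trans emb_zero.symm)) ▸ Submodule.zero_mem _)
  obtain ⟨k1, k2⟩ := rat_parts_unique hθ' (sub_mem (emb_mem (P := P) p) (smul_mem_rat hm hr))
    (sub_mem (zero_mem _) (smul_mem_rat hl hr)) (show
      (emb P p - m • r) + θ' • ((0 : V) - l • r) = 0 by rw [hgp, hml]; module)
  have hl0 : l = 0 := by
    rw [zero_sub, neg_eq_zero, smul_eq_zero] at k2
    refine k2.resolve_right fun e => hp0 ?_
    rw [hgp, e, smul_zero]
  obtain ⟨s, hs, t, ht, hst⟩ := hdec θ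
  obtain ⟨j1, j2⟩ := rat_parts_unique hθ'
    (sub_mem (add_mem (emb_mem (P := P) f) (smul_mem_rat hs (emb_mem p))) (smul_mem_rat hm hr'))
    (smul_mem_rat ht (emb_mem (P := P) p)) (show
      (emb P f + s • emb P p - m • r') + θ' • (t • emb P p) = 0 by
        rw [show m = c by rw [hml, hl0, zero_mul, add_zero], ← hgf, hst]; module)
  exact hθF (by rw [hst, (smul_eq_zero.1 j2).resolve_right hp0, zero_mul, add_zero]; exact hs)

end CfsgLib.Classical.Herm.OrthSubfield
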