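import Cfsg.Agent.Lib.Classical.TwistPairCount
import Cfsg.Agent.Lib.Classical.UnitarySemisimple
import Cfsg.Agent.Lib.FormRep.Roots

/-!
Classes of elements of odd prime order, different from the characteristic, in the general unitary groups.
-/

set_option autoImplicit false
set_option linter.style.haveILetI false
set_option maxHeartbeats 800000

namespace CfsgLib.Classical.UnitaryPrimeOrder

open Polynomial UniqueFactorizationMonoid CfsgLib.Classical.UnitaryTwistPoly CfsgLib.Classical.TwistPairCount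
  CfsgLib.Classical.PrimeOrderCount CfsgLib.Classical.RestrictScalars CfsgLib.Classical.UnitaryConj
open scoped MatrixGroups

variable {K : Type*} [Field K] [Fintype K] {p : ℕ} [hp : Fact p.Prime] [CharP K p]

theorem aeval_map_pow {L : Type*} [Field L] [Algebra K L] {q c : ℕ} (hc : q = p ^ c) (σ : K →+* K)
    (hσ : ∀ a, σ a = a ^ q) (y : L) (P : K[X]) : aeval (y ^ q) (P.map σ) = aeval y P ^ q := by
  haveI : CharP L p := charP_of_injective_algebraMap (algebraMap K L).injective p
  induction P using Polynomial.induction_on' with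
  | add a b ha hb => rw [Polynomial.map_add, map_add, map_add, ha, hb, hc, add_pow_char_pow]
  | monomial k a =>
    rw [map_monomial, aeval_monomial, aeval_monomial, hσ, map_pow, mul_pow, ← pow_mul, ← pow_mul, mul_comm q k]

theorem card_classes {q n r i b s : ℕ} (hK : Fintype.card K = q ^ 2) (hr : r.Prime) (hr2 : r ≠ 2) (hrp : r ≠ p)
    (hi : i = orderOf (q : ZMod r)) (hb : b = if Odd i then i else i / 2) (hs : s * b = r - 1) :
    Nat.card {C : ConjClasses ↥(Cfsg.GU n K q) // ∃ g : ↥(Cfsg.GU n K q), ConjClasses.mk g = C ∧ orderOf g = r} =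
      if i % 4 = 2 then Nat.choose (2 * n / i + s) s - 1 else Nat.choose (n / (2 * b) + s / 2) (s / 2) - 1 := by
  classical
  obtain ⟨F, _, _, hF⟩ := exists_field_of_card_sq hK
  obtain ⟨a, c₀, hab⟩ := exists_ab (F := F)
  obtain ⟨fr⟩ := exists_Frame hF hK a c₀ hab
  haveI := Fact.mk hr
  have hnr : p.Coprime r := (Nat.coprime_primes hp.out hr).mpr (Ne.symm hrp)
  obtain ⟨k, hk⟩ := FiniteField.card K p
  have hKp : Fintype.card K = p ^ (k : ℕ) := hk.2
  obtain ⟨cq, -, hcq⟩ : ∃ j, j ≤ (k : ℕ) ∧ q = p ^ j :=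
    (Nat.dvd_prime_pow hp.out).1 (by rw [← hKp, hK]; exact dvd_pow_self _ two_ne_zero)
  have hqu : IsUnit (q : ZMod r) :=
    ((ZMod.isUnit_iff_coprime p r).mpr hnr).pow cq |> fun h => by rw [hcq]; exact_mod_cast h
  have hi0 : 0 < i := by
    rw [hi, ← hqu.unit_spec, orderOf_units]; exact orderOf_pos _
  have hb0 : 0 < b := by
    rw [hb]; split_ifs with h
    · exact hi0
    · obtain ⟨e, he⟩ := Nat.not_odd_iff_even.mp h; omega
  have hbu : b = orderOf (ZMod.unitOfCoprime _ (hnr.pow_left (k : ℕ))) := by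
    rw [← orderOf_units, ZMod.coe_unitOfCoprime, ← hKp, hK, Nat.cast_pow, orderOf_pow' _ two_ne_zero, ← hi, hb]
    split_ifs with h
    · rw [Nat.coprime_two_right.mpr h, Nat.div_one]
    · rw [Nat.gcd_eq_right (even_iff_two_dvd.mp (Nat.not_odd_iff_even.mp h))]
  have hsep : (X ^ r - C (1 : K)).Separable :=
    separable_X_pow_sub_C 1 (fun h => by
      rw [CharP.cast_eq_zero_iff K p] at h
      exact hrp ((Nat.prime_dvd_prime_iff_eq hp.out hr).mp h).symm) one_ne_zero
  rw [map_one] at hsep
  have hfac := cyclotomic_prime_mul_X_sub_one K r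
  have hR0 : (X ^ r - 1 : K[X]) ≠ 0 := hsep.ne_zero
  set D := (normalizedFactors (cyclotomic r K)).toFinset with hDdef
  have hD : ∀ P ∈ D, P.Monic ∧ Irreducible P ∧ P.natDegree = b := by
    intro P hP
    rw [hDdef, Multiset.mem_toFinset] at hP
    exact ⟨normalizedFactor_monic (cyclotomic_ne_zero r K) hP, irreducible_of_normalized_factor P hP,
      hbu ▸ natDegree_of_mem_normalizedFactors_cyclotomic hKp hnr hP⟩
  have hX1m : (X - 1 : K[X]).Monic := by simpa using monic_X_sub_C (1 : K)
  have hX1i : Irreducible (X - 1 : K[X]) := by simpa using irreducible_X_sub_C (1 : K)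
  have h1 : X - 1 ∉ D := by
    intro h
    rw [hDdef, Multiset.mem_toFinset] at h
    have h2 : (X - 1) * (X - 1) ∣ (X ^ r - 1 : K[X]) :=
      hfac ▸ mul_dvd_mul_right (dvd_of_mem_normalizedFactors h) _
    exact hX1i.not_isUnit (hsep.squarefree _ h2)
  have hcyc0 : (cyclotomic r K).natDegree = r - 1 := by rw [natDegree_cyclotomic, Nat.totient_prime hr]
  have hcard : D.card = s := by
    have hsq : Squarefree (cyclotomic r K) := hsep.squarefree.squarefree_of_dvd (Dvd.intro _ hfac)
    rw [hDdef, Multiset.toFinset_card_of_nodup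
      ((squarefree_iff_nodup_normalizedFactors (cyclotomic_ne_zero r K)).mp hsq)]
    have h2 := congrArg natDegree (prod_nf (cyclotomic.monic r K))
    rw [natDegree_multiset_prod_of_monic _ (fun P hP => normalizedFactor_monic (cyclotomic_ne_zero r K) hP),
      Multiset.map_congr rfl (fun P hP => (hD P (by rw [hDdef, Multiset.mem_toFinset]; exact hP)).2.2),
      Multiset.map_const', Multiset.sum_replicate, smul_eq_mul, hcyc0, ← hs] at h2
    exact Nat.eq_of_mul_eq_mul_right hb0 h2
  have hmemD : ∀ P : K[X], P.Monic → Irreducible P → (P ∈ D ↔ P ∣ cyclotomic r K) := fun P hPm hP => by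
    rw [hDdef, Multiset.mem_toFinset, mem_normalizedFactors_iff' (cyclotomic_ne_zero r K)]
    exact ⟨fun h => h.2.2, fun h => ⟨hP, hPm.normalize_eq_self, h⟩⟩
  have hdiv : ∀ P : K[X], Irreducible P → P.Monic → (P ∣ X ^ r - 1 ↔ P = X - 1 ∨ P ∈ D) := by
    intro P hP hPm
    rw [hmemD P hPm hP]
    constructor
    · intro h
      rw [← hfac] at h
      rcases hP.prime.dvd_or_dvd h with h' | h'
      · exact Or.inr h'
      · exact Or.inl (eq_of_monic_of_associated hPm hX1m (hP.associated_of_dvd hX1i h'))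
    · rintro (rfl | h)
      · exact hfac ▸ dvd_mul_left _ _
      · exact hfac ▸ h.mul_right _
  have hD0 : ∀ P ∈ D, P.coeff 0 ≠ 0 := fun P hP h => by
    have hX : X ∣ (X ^ r - 1 : K[X]) := (X_dvd_iff.mpr h).trans
      ((hdiv P (hD P hP).2.1 (hD P hP).1).mpr (Or.inr hP))
    rw [X_dvd_iff] at hX
    simp [coeff_X_pow, hr.ne_zero.symm] at hX
  have hcycτ : tw fr.σ (cyclotomic r K) = cyclotomic r K := by
    have hco : ∀ j, (cyclotomic r K).coeff j = if j < r then 1 else 0 := fun j => by
      rw [cyclotomic_prime, finsetSum_coeff]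
      simp [coeff_X_pow, Finset.sum_ite_eq, Finset.mem_range]
    ext j
    rw [coeff_tw, hcyc0, hco, hco, hco, if_pos hr.pos, map_one, inv_one, one_mul]
    rcases Nat.lt_or_ge (r - 1) j with h | h
    · rw [revAt_eq_self_of_lt h, if_neg (by omega), map_zero]
    · rw [revAt_le h, if_pos (show r - 1 - j < r by have := hr.pos; omega),
        if_pos (show j < r by have := hr.pos; omega), map_one]
  have hτD : ∀ P ∈ D, tw fr.σ P ∈ D := by
    intro P hP
    obtain ⟨hPm, hPi, hPd⟩ := hD P hP
    have hm' := monic_tw fr.σ (hD0 P hP)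
    have hdvd : tw fr.σ P ∣ cyclotomic r K := hcycτ ▸ tw_dvd _ ((hmemD P hPm hPi).mp hP)
    have hdeg : (tw fr.σ P).natDegree = b := (natDegree_tw _ (hD0 P hP)).trans hPd
    obtain ⟨R, hR, hRd⟩ := exists_irreducible_of_natDegree_pos (f := tw fr.σ P) (hdeg ▸ hb0)
    have hRm := monic_normalize hR.ne_zero
    have hRi := (normalize_associated R).symm.irreducible hR
    have hRmem : normalize R ∈ D := (hmemD _ hRm hRi).mpr ((normalize_dvd_iff.mpr hRd).trans hdvd)
    have : tw fr.σ P = normalize R := (eq_of_monic_of_dvd_of_natDegree_le hRm hm' (normalize_dvd_iff.mpr hRd)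
      (by rw [(hD _ hRmem).2.2, hdeg]))
    exact this ▸ hRmem
  have hττ : ∀ P ∈ D, tw fr.σ (tw fr.σ P) = P := fun P hP => tw_tw _ fr.σσ (hD P hP).1 (hD0 P hP)
  have hself : ∀ P ∈ D, (tw fr.σ P = P ↔ i % 4 = 2) := by
    intro P hP
    obtain ⟨hPm, hPi, hPd⟩ := hD P hP
    haveI := Fact.mk hPi
    haveI : Module.Finite K (AdjoinRoot P) := (AdjoinRoot.powerBasis hPi.ne_zero).finite
    haveI : Finite (AdjoinRoot P) := Module.finite_of_finite K
    set x := AdjoinRoot.root P
    have hx : aeval x P = 0 := by rw [AdjoinRoot.aeval_eq, AdjoinRoot.mk_self]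
    have hxr : x ^ r = 1 := by
      obtain ⟨c, hc⟩ := (hdiv P hPi hPm).mpr (Or.inr hP)
      have := congrArg (aeval x) hc
      rw [map_sub, map_pow, aeval_X, map_one, map_mul, hx, zero_mul, sub_eq_zero] at this
      exact this
    have hx0 : x ≠ 0 := fun h => zero_ne_one ((zero_pow hr.ne_zero).symm.trans (h ▸ hxr))
    have hx1 : x ≠ 1 := by
      intro h
      rw [h] at hx
      have e : aeval (1 : AdjoinRoot P) P = algebraMap K (AdjoinRoot P) (P.eval 1) := by
        rw [← map_one (algebraMap K (AdjoinRoot P)), aeval_algebraMap_apply_eq_algebraMap_eval]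
      rw [e, _root_.map_eq_zero] at hx
      have hd := dvd_iff_isRoot.mpr (show P.IsRoot 1 from hx)
      rw [map_one] at hd
      exact h1 (eq_of_monic_of_associated hPm hX1m (hX1i.associated_of_dvd hPi hd).symm ▸ hP)
    have hord : orderOf x = r := orderOf_eq_prime hxr hx1
    have hq0 : q ≠ 0 := by
      intro h
      have := Fintype.one_lt_card (α := K)
      rw [hK, h] at this
      simp at this
    have key : tw fr.σ P = P ↔ aeval (x⁻¹ ^ q) P = 0 := by
      have e1 : aeval x (tw fr.σ P) = 0 ↔ aeval x⁻¹ (P.map fr.σ) = 0 := by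
        rw [tw, map_mul, aeval_C, mul_eq_zero, or_iff_right (by simp [hD0 P hP]),
          Polynomial.reverse, FormRep.Adj.aeval_reflect_aux (mul_inv_cancel₀ hx0) _ _ le_rfl, mul_eq_zero,
          or_iff_right (pow_ne_zero _ hx0)]
      have e2 : aeval x⁻¹ (P.map fr.σ) = 0 ↔ aeval (x⁻¹ ^ q) P = 0 := by
        have h := aeval_map_pow hcq fr.σ fr.σ_eq x⁻¹ (P.map fr.σ)
        rw [Polynomial.map_map, show fr.σ.comp fr.σ = RingHom.id K from RingHom.ext fr.σσ, Polynomial.map_id] at h
        rw [h, pow_eq_zero_iff hq0]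
      rw [← e2, ← e1]
      refine ⟨fun h => h.symm ▸ hx, fun h => ?_⟩
      exact (minpoly.eq_of_irreducible_of_monic (hD _ (hτD P hP)).2.1 h (hD _ (hτD P hP)).1).trans
        (minpoly.eq_of_irreducible_of_monic hPi hx hPm).symm
    have hexp : ∀ j, x⁻¹ ^ q = x ^ Fintype.card K ^ j ↔ (q : ZMod r) ^ (2 * j) + q = 0 := by
      intro j
      have hiff : ∀ y : AdjoinRoot P, (x⁻¹) ^ q = y ↔ y * x ^ q = 1 := fun y => by
        rw [inv_pow]
        exact ⟨fun h => h ▸ inv_mul_cancel₀ (pow_ne_zero _ hx0), fun h => (eq_inv_of_mul_eq_one_left h).symm⟩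
      rw [hiff, ← pow_add, ← orderOf_dvd_iff_pow_eq_one, hord, ← ZMod.natCast_eq_zero_iff, hK, ← pow_mul]
      push_cast
      rfl
    rw [key]
    constructor
    · intro h
      obtain ⟨j, hj⟩ := FormRep.exists_conj_pow hPi hPm hx h
      rw [hexp] at hj
      have hqi : (q : ZMod r) ^ i = 1 := hi ▸ pow_orderOf_eq_one _
      have hE : (q : ZMod r) ^ (2 * j + i - 1) = -1 := by
        rw [show 2 * j + i - 1 = 2 * j + (i - 1) by omega, pow_add, eq_neg_of_add_eq_zero_left hj, neg_mul,
          ← pow_succ', Nat.sub_add_cancel hi0, hqi]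
      have hnd : ¬ i ∣ 2 * j + i - 1 := fun h => by
        rw [orderOf_dvd_iff_pow_eq_one.mp (hi ▸ h)] at hE
        exact hr2 ((Nat.prime_dvd_prime_iff_eq hr Nat.prime_two).mp
          ((ZMod.natCast_eq_zero_iff _ _).mp (by push_cast; linear_combination hE)))
      have h2' : (q : ZMod r) ^ (2 * (2 * j + i - 1)) = 1 := by rw [mul_comm 2 (2 * j + i - 1), pow_mul, hE, neg_one_sq]
      have h2 : i ∣ 2 * (2 * j + i - 1) := by
        have h3 := orderOf_dvd_of_pow_eq_one h2'
        rwa [← hi] at h3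
      rcases Nat.even_or_odd i with ⟨e, he⟩ | ho
      · have he' : e ∣ 2 * j + i - 1 := Nat.dvd_of_mul_dvd_mul_left two_pos (by rwa [show 2 * e = i by omega])
        rcases Nat.even_or_odd e with hee | heo
        · have := (even_iff_two_dvd.mp hee).trans he'; omega
        · obtain ⟨e', rfl⟩ := heo; omega
      · exact absurd ((Nat.Coprime.dvd_mul_left (Nat.coprime_two_right.mpr ho)).mp h2) hnd
    · intro h4
      have hhalf : (q : ZMod r) ^ (i / 2) = -1 := by
        have h2 : ((q : ZMod r) ^ (i / 2)) * ((q : ZMod r) ^ (i / 2)) = 1 := by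
          rw [← pow_add, show i / 2 + i / 2 = i by omega, hi, pow_orderOf_eq_one]
        refine (mul_self_eq_one_iff.mp h2).resolve_left fun h => ?_
        have := Nat.le_of_dvd (by omega) (orderOf_dvd_of_pow_eq_one h)
        rw [← hi] at this
        omega
      have hj := (hexp ((i / 2 + 1) / 2)).mpr (by
        rw [show 2 * ((i / 2 + 1) / 2) = i / 2 + 1 by omega, pow_succ, hhalf, neg_one_mul, neg_add_cancel])
      have e := congrFun (FiniteField.coe_frobeniusAlgEquivOfAlgebraic_iterate K (AdjoinRoot P) ((i / 2 + 1) / 2)) x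
      rw [← AlgEquiv.coe_pow] at e
      rw [hj, ← e, aeval_algHom_apply, hx, map_zero]
  let Q : K[X] → Prop := fun f => ∀ P ∈ normalizedFactors f, P = X - 1 ∨ P ∈ D
  set T := {f : K[X] // f.Monic ∧ f.natDegree = n ∧ tw fr.σ f = f ∧ Q f}
  have hpow : ∀ g : GL (Fin n) K, g ^ r = 1 → (orderOf g).Coprime p := fun g hg =>
    Nat.Coprime.coprime_dvd_left (orderOf_dvd_of_pow_eq_one hg) hnr.symm
  have hfwd : ∀ g : ↥(Cfsg.GU n K q), g ^ r = 1 → ((g : GL (Fin n) K).val).charpoly.Monic ∧
      ((g : GL (Fin n) K).val).charpoly.natDegree = n ∧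
      tw fr.σ ((g : GL (Fin n) K).val).charpoly = ((g : GL (Fin n) K).val).charpoly ∧
      Q ((g : GL (Fin n) K).val).charpoly := by
    intro g hg
    refine ⟨Matrix.charpoly_monic _, by rw [Matrix.charpoly_natDegree_eq_dim, Fintype.card_fin],
      UnitarySemisimple.twist_fixed_of_mem fr g.2, fun P hP => ?_⟩
    have hirr := irreducible_of_normalized_factor P hP
    haveI := Fact.mk hirr
    refine (hdiv P hirr (normalizedFactor_monic (Matrix.charpoly_monic _).ne_zero hP)).mp
      (SemisimpleClasses.dvd_of_dvd_charpoly _ (dvd_of_mem_normalizedFactors hP) ?_)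
    rw [map_sub, map_pow, aeval_X, map_one, ← Units.val_pow_eq_pow_val, ← SubmonoidClass.coe_pow, hg]
    simp
  set S := {C : ConjClasses ↥(Cfsg.GU n K q) | ∃ g : ↥(Cfsg.GU n K q), ConjClasses.mk g = C ∧ g ^ r = 1}
  have hbij : Nat.card S = Nat.card T := by
    refine Nat.card_eq_of_bijective (fun C => (⟨_, hfwd C.2.choose C.2.choose_spec.2⟩ : T)) ⟨fun C C' h => ?_, ?_⟩
    · apply Subtype.ext
      rw [← C.2.choose_spec.1, ← C'.2.choose_spec.1]
      refine ConjClasses.mk_eq_mk_iff_isConj.mpr ((gu_isConj_iff hK _ _).mpr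
        (SemisimpleClasses.isConj_of_charpoly_eq (p := p) _ _
          (hpow _ (by rw [← SubmonoidClass.coe_pow, C.2.choose_spec.2, OneMemClass.coe_one]))
          (hpow _ (by rw [← SubmonoidClass.coe_pow, C'.2.choose_spec.2, OneMemClass.coe_one]))
          (congrArg Subtype.val h)))
    · rintro ⟨f, hm, hd, hf, hQ⟩
      have hf0 : f.coeff 0 ≠ 0 := by
        intro h
        obtain ⟨P, hP, hXP⟩ := exists_mem_normalizedFactors_of_dvd hm.ne_zero irreducible_X (X_dvd_iff.mpr h)
        have hX : X ∣ (X ^ r - 1 : K[X]) := hXP.dvd.trans ((hdiv P (irreducible_of_normalized_factor P hP)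
          (normalizedFactor_monic hm.ne_zero hP)).mpr (hQ P hP))
        rw [X_dvd_iff] at hX
        simp [coeff_X_pow, hr.ne_zero.symm] at hX
      obtain ⟨g, hgU, hg, hgc⟩ := UnitarySemisimple.exists_gu_semisimple (p := p) hK fr f hm hd hf0 hf
      have hgr : g ^ r = 1 := by
        set A := (g : Matrix (Fin n) (Fin n) K)
        have hne : minpoly K A ≠ 0 := minpoly.ne_zero (IsIntegral.of_finite K A)
        have hsq : Squarefree (minpoly K A) := by
          have := (SemisimpleClasses.isSemisimple_toLin' g hg).minpoly_squarefree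
          rwa [Matrix.minpoly_toLin'] at this
        have hmin : minpoly K A ∣ X ^ r - 1 := by
          rw [dvd_iff_normalizedFactors_le_normalizedFactors hne hR0,
            Multiset.le_iff_subset ((squarefree_iff_nodup_normalizedFactors hne).mp hsq)]
          intro P hP
          have hPi := irreducible_of_normalized_factor P hP
          have hPm := normalizedFactor_monic hne hP
          refine (mem_normalizedFactors_iff' hR0).mpr ⟨hPi, hPm.normalize_eq_self, (hdiv P hPi hPm).mpr (hQ P ?_)⟩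
          exact (mem_normalizedFactors_iff' hm.ne_zero).mpr ⟨hPi, hPm.normalize_eq_self,
            hgc ▸ (dvd_of_mem_normalizedFactors hP).trans (Matrix.minpoly_dvd_charpoly A)⟩
        obtain ⟨c, hc⟩ := hmin
        have h0 : aeval A (X ^ r - 1 : K[X]) = 0 := by rw [hc, map_mul, minpoly.aeval, zero_mul]
        rw [map_sub, map_pow, aeval_X, map_one, sub_eq_zero] at h0
        exact Units.ext (by rw [Units.val_pow_eq_pow_val]; exact h0)
      have hgr' : (⟨g, hgU⟩ : ↥(Cfsg.GU n K q)) ^ r = 1 := Subtype.ext hgr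
      refine ⟨⟨ConjClasses.mk ⟨g, hgU⟩, _, rfl, hgr'⟩, Subtype.ext ?_⟩
      set cc : S := ⟨ConjClasses.mk ⟨g, hgU⟩, _, rfl, hgr'⟩
      show ((cc.2.choose : ↥(Cfsg.GU n K q)) : GL (Fin n) K).val.charpoly = f
      rw [UnitarySemisimple.charpoly_conj_eq ((gu_isConj_iff hK _ _).mp
        (ConjClasses.mk_eq_mk_iff_isConj.mp cc.2.choose_spec.1))]
      exact hgc
  have hT : Nat.card T = if i % 4 = 2 then Nat.choose (2 * n / i + s) s else Nat.choose (n / (2 * b) + s / 2) (s / 2) := by
    split_ifs with h4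
    · have hb' : 2 * n / i = n / b := by
        have : ¬ Odd i := fun h => by obtain ⟨e, rfl⟩ := h; omega
        rw [hb, if_neg this]
        conv_lhs => rw [show i = 2 * (i / 2) by omega, Nat.mul_div_mul_left _ _ two_pos]
      rw [hb', ← hcard, ← card_products D b n hb0 hD h1]
      refine Nat.card_congr (Equiv.subtypeEquivRight fun f => ⟨fun h => ⟨h.1, h.2.1, h.2.2.2⟩, fun h =>
        ⟨h.1, h.2.1, ?_, h.2.2⟩⟩)
      have e := TwistPairCount.tw_prod fr.σ (normalizedFactors f)
      rw [Multiset.map_congr rfl (g := id) (fun P hP => by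
        rcases h.2.2 P hP with rfl | h'
        · exact tw_X_sub_one fr.σ
        · exact (hself P h').mpr h4), Multiset.map_id, prod_nf h.1] at e
      exact e
    · rw [← hcard]
      exact TwistPairCount.card_fixed fr.σ D b n hb0 hD h1 fun P hP =>
        ⟨hτD P hP, hττ P hP, fun h => h4 ((hself P hP).mp h)⟩
  have h1S : ConjClasses.mk 1 ∈ S := ⟨1, rfl, one_pow r⟩
  have e : {C : ConjClasses ↥(Cfsg.GU n K q) | ∃ g : ↥(Cfsg.GU n K q), ConjClasses.mk g = C ∧ orderOf g = r} =
      S \ {ConjClasses.mk 1} := by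
    ext C
    constructor
    · rintro ⟨g, rfl, hg⟩
      refine ⟨⟨g, rfl, hg ▸ pow_orderOf_eq_one g⟩, fun h => ?_⟩
      have h' := ConjClasses.mk_eq_mk_iff_isConj.mp (Set.mem_singleton_iff.mp h)
      rw [isConj_one_right.mp h'.symm, orderOf_one] at hg
      exact hr.ne_one hg.symm
    · rintro ⟨⟨g, rfl, hg⟩, hne⟩
      exact ⟨g, rfl, orderOf_eq_prime hg fun h => hne (by rw [h]; rfl)⟩
  have h := congrArg Set.ncard e
  rw [Set.ncard_sdiff_singleton_of_mem h1S, ← Nat.card_coe_set_eq, ← Nat.card_coe_set_eq, hbij, hT] at h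
  refine h.trans ?_
  split_ifs <;> rfl

end CfsgLib.Classical.UnitaryPrimeOrder
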