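import Cfsg.Agent.Lib.Classical.UnitarySubfield
import Cfsg.Agent.Lib.Classical.UnitaryPair
import Cfsg.Agent.Lib.Classical.LinearSubfield

/-!
Hermitian rational structures over a subfield of odd degree: duals, perpendiculars and isotropic
vectors.
-/

set_option autoImplicit false
set_option linter.unusedSectionVars false

namespace CfsgLib.Classical.Herm.Rat

open Matrix Cfsg
open CfsgLib.ClassicalAut (Unitary.Conj)

variable {F : Type*} [Field F] [Finite F] {q : ℕ} (K : Unitary.Conj F q) {n : ℕ}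

local notation "H" => hermForm n F q
local notation "V" => (Fin n → F)

/-- A rational structure of odd prime degree `r`. -/
structure Data (F₀ : Subfield F) (P : GL (Fin n) F) (r : ℕ) : Prop where
  rational : Cfsg.Geo.IsFormRationalStructure (hermForm n F q) F₀ 1 P
  dim : 6 ≤ n
  prime : r.Prime
  odd : Odd r
  card : Nat.card F = Nat.card F₀ ^ r

variable {F₀ : Subfield F} {P : GL (Fin n) F} {r : ℕ}

include K

theorem bar_mem {c : F} (hc : c ∈ F₀) : K.bar c ∈ F₀ := by
  rw [K.bar_apply]; exact pow_mem hc q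

/-- The involution restricted to the subfield. -/
theorem exists_sub_conj (D : Data (q := q) F₀ P r) :
    ∃ (q₀ : ℕ) (K₀ : Unitary.Conj F₀ q₀), q = q₀ ^ r ∧ ∀ c : F₀, (K₀.bar c : F) = K.bar (c : F) := by
  let _ := Fintype.ofFinite F
  obtain ⟨p, hchar⟩ := CharP.exists F
  obtain ⟨e, hp, hcard⟩ := FiniteField.card F p
  rw [Fintype.card_eq_nat_card] at hcard
  have hr := D.prime.ne_zero
  obtain ⟨a, -, ha⟩ := (Nat.dvd_prime_pow hp).1
    (show Nat.card F₀ ∣ p ^ (e : ℕ) by rw [← hcard, D.card]; exact dvd_pow_self _ hr)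
  obtain ⟨b, -, hb⟩ := (Nat.dvd_prime_pow hp).1
    (show q ∣ p ^ (e : ℕ) by rw [← hcard, K.card]; exact dvd_pow_self _ two_ne_zero)
  have hpow : 2 * b = a * r := by
    have h := K.card
    rw [D.card, ha, hb, ← pow_mul, ← pow_mul] at h
    rw [Nat.mul_comm 2 b]
    exact (Nat.pow_right_injective hp.two_le h).symm
  obtain ⟨a₀, rfl⟩ : 2 ∣ a := by
    have h2 : 2 ∣ a * r := ⟨b, hpow.symm⟩
    exact (Nat.Coprime.dvd_of_dvd_mul_right
      ((Nat.prime_two.coprime_iff_not_dvd).2 fun h => by
        have := Nat.odd_iff.1 D.odd; omega) h2)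
  have hb' : b = a₀ * r := by rw [Nat.mul_assoc] at hpow; omega
  have hq : q = (p ^ a₀) ^ r := by rw [hb, hb', pow_mul]
  have hQ : Nat.card F₀ = (p ^ a₀) ^ 2 := by rw [ha, ← pow_mul, Nat.mul_comm 2 a₀]
  have hbar : ∀ c : F₀, K.bar (c : F) = (c : F) ^ (p ^ a₀) := by
    intro c
    let _ := Fintype.ofFinite F₀
    obtain ⟨s, hs⟩ := D.odd
    have h1 : ∀ k : ℕ, (c : F) ^ ((p ^ a₀) ^ (2 * k + 1)) = (c : F) ^ (p ^ a₀) := by
      intro k
      induction k with
      | zero => rw [Nat.mul_zero, Nat.zero_add, pow_one]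
      | succ k ih =>
        rw [show 2 * (k + 1) + 1 = 2 + (2 * k + 1) by ring, pow_add, pow_mul, ← hQ]
        have := congrArg Subtype.val (FiniteField.pow_card c)
        rw [Fintype.card_eq_nat_card, SubmonoidClass.coe_pow] at this
        rw [this, ih]
    rw [K.bar_apply, hq, hs, h1]
  let σ : F₀ →+* F₀ :=
    { toFun := fun c => ⟨K.bar c, bar_mem K c.2⟩
      map_one' := Subtype.ext (map_one K.bar)
      map_mul' := fun c d => Subtype.ext (map_mul K.bar _ _)
      map_zero' := Subtype.ext (map_zero K.bar)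
      map_add' := fun c d => Subtype.ext (map_add K.bar _ _) }
  have hσ : Function.Bijective σ := Function.bijective_iff_has_inverse.2
    ⟨σ, fun c => Subtype.ext (K.bar_bar _), fun c => Subtype.ext (K.bar_bar _)⟩
  refine ⟨p ^ a₀, ⟨RingEquiv.ofBijective σ hσ, fun c => Subtype.ext ?_, hQ⟩, hq, fun c => rfl⟩
  show K.bar (c : F) = _
  rw [hbar, SubmonoidClass.coe_pow]

variable (D : Data (q := q) F₀ P r)

include D

theorem h_mem {a b : V} (ha : a ∈ rat F₀ P) (hb : b ∈ rat F₀ P) : H a b ∈ F₀ := by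
  obtain ⟨u, hu, rfl⟩ := exists_of_mem_rat ha
  obtain ⟨v, hv, rfl⟩ := exists_of_mem_rat hb
  have := D.rational u v hu hv
  rwa [one_mul] at this

omit D in
theorem h_sum_left {ι' : Type*} (s : Finset ι') (f : ι' → V) (y : V) :
    H (∑ i ∈ s, f i) y = ∑ i ∈ s, H (f i) y :=
  map_sum (⟨⟨fun x => hermForm n F q x y, h_zero_left K y⟩, fun a b => h_add_left K a b y⟩ : V →+ F) f s

omit D in
theorem h_sum_right {ι' : Type*} (s : Finset ι') (f : ι' → V) (x : V) :
    H x (∑ i ∈ s, f i) = ∑ i ∈ s, H x (f i) :=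
  map_sum (⟨⟨fun y => hermForm n F q x y, h_zero_right K x⟩, fun a b => h_add_right K x a b⟩ : V →+ F) f s

omit D in
theorem eq_zero_of_cols {x : V} (h : ∀ j, H (col P j) x = 0) : x = 0 := by
  refine h_nondeg K fun y => h_eq_zero_symm K ?_
  rw [eq_sum_col (P := P) y, h_sum_left K]
  exact Finset.sum_eq_zero fun j _ => by rw [h_smul_left K, h, mul_zero]

omit D in
theorem eq_zero_of_rat {x : V} (h : ∀ y ∈ rat F₀ P, H y x = 0) : x = 0 :=
  eq_zero_of_cols K fun j => h _ (col_mem j)

/-- The evaluation against a list. -/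
noncomputable def evalMap {k : ℕ} (l : Fin k → (Fin n → F)) (hl : ∀ i, l i ∈ rat F₀ P) :
    (Fin n → F₀) →ₗ[F₀] (Fin k → F₀) :=
  (Matrix.of fun i j => (⟨hermForm n F q (col P j) (l i), h_mem K D (col_mem j) (hl i)⟩ : F₀)).mulVecLin

theorem evalMap_apply {k : ℕ} (l : Fin k → V) (hl : ∀ i, l i ∈ rat F₀ P) (u : Fin n → F₀) (i : Fin k) :
    ((evalMap K D l hl u i : F₀) : F) = H ((P : Matrix (Fin n) (Fin n) F) *ᵥ fun j => (u j : F)) (l i) := by
  conv_rhs => rw [eq_sum_col (P := P) ((P : Matrix (Fin n) (Fin n) F) *ᵥ fun j => (u j : F))]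
  rw [inv_mulVec_mulVec, h_sum_left K]
  simp only [evalMap, Matrix.mulVecLin_apply, Matrix.mulVec, dotProduct, Matrix.of_apply,
    AddSubmonoidClass.coe_finsetSum, MulMemClass.coe_mul]
  exact Finset.sum_congr rfl fun j _ => by rw [h_smul_left K]; ring

theorem exists_perp {k : ℕ} (hk : k < n) (l : Fin k → V) (hl : ∀ i, l i ∈ rat F₀ P) :
    ∃ z, z ≠ 0 ∧ z ∈ rat F₀ P ∧ ∀ i, H z (l i) = 0 := by
  obtain ⟨u, hu, hu0⟩ : ∃ u, evalMap K D l hl u = 0 ∧ u ≠ 0 := by
    by_contra hall
    push Not at hall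
    have := LinearMap.finrank_le_finrank_of_injective
      ((injective_iff_map_eq_zero (evalMap K D l hl)).2 hall)
    simp at this
    omega
  refine ⟨(P : Matrix (Fin n) (Fin n) F) *ᵥ fun j => (u j : F), fun h => hu0 (funext fun j => Subtype.ext ?_),
    mulVec_mem_rat fun j => (u j).2, fun i => by rw [← evalMap_apply K D l hl, hu]; rfl⟩
  have h1 := inv_mulVec_mulVec (P := P) (fun j => (u j : F))
  rw [h, mulVec_zero] at h1
  exact (congrFun h1 j).symm

theorem exists_dual {k : ℕ} (l : Fin k → V) (hl : ∀ i, l i ∈ rat F₀ P)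
    (hli : ∀ c : Fin k → F, ∑ i, c i • l i = 0 → c = 0) (s : Fin k → F) (hs : ∀ i, s i ∈ F₀) :
    ∃ z ∈ rat F₀ P, ∀ i, H z (l i) = s i := by
  have hsurj : LinearMap.range (evalMap K D l hl) = ⊤ := by
    by_contra hne
    obtain ⟨φ, hφ0, hφ⟩ :=
      Submodule.exists_dual_map_eq_bot_of_lt_top (lt_top_iff_ne_top.2 hne) inferInstance
    have hker : ∀ u, φ (evalMap K D l hl u) = 0 := fun u => by
      have : φ (evalMap K D l hl u) ∈ (LinearMap.range (evalMap K D l hl)).map φ :=
        Submodule.mem_map_of_mem (LinearMap.mem_range_self _ u)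
      rw [hφ] at this
      exact (Submodule.mem_bot _).1 this
    have hc := hli (fun i => K.bar (φ (Pi.single i 1) : F)) (eq_zero_of_cols (P := P) K fun j => by
      have h := congrArg (fun z : F₀ => (z : F)) (hker (Pi.single j 1))
      rw [pi_eq_sum_univ' (evalMap K D l hl (Pi.single j 1)), map_sum] at h
      simp only [map_smul, smul_eq_mul, AddSubmonoidClass.coe_finsetSum, MulMemClass.coe_mul,
        evalMap_apply, ZeroMemClass.coe_zero] at h
      rw [← h, h_sum_right K]
      refine Finset.sum_congr rfl fun i _ => ?_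
      rw [show (fun k => ((Pi.single j (1 : F₀) : Fin n → F₀) k : F)) = Pi.single j 1 from funext fun k => by
        rcases eq_or_ne k j with rfl | hk
        · simp
        · simp [Pi.single_eq_of_ne hk]]
      rw [h_smul_right K, K.bar_bar, col]
      ring)
    refine hφ0 (LinearMap.ext fun y => ?_)
    rw [pi_eq_sum_univ' y, map_sum]
    refine (Finset.sum_eq_zero fun i _ => ?_).trans rfl
    rw [map_smul, show φ (Pi.single i 1) = 0 from Subtype.ext ((map_eq_zero K.bar).1 (congrFun hc i)),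
      smul_zero]
  obtain ⟨u, hu⟩ := LinearMap.range_eq_top.1 hsurj fun i => ⟨s i, hs i⟩
  exact ⟨(P : Matrix (Fin n) (Fin n) F) *ᵥ fun j => (u j : F), mulVec_mem_rat fun j => (u j).2,
    fun i => by rw [← evalMap_apply K D l hl, hu]⟩

/-- Scalars of the subfield with prescribed trace. -/
theorem exists_trace_eq {c : F} (hc : c ∈ F₀) (hfix : K.bar c = c) :
    ∃ k ∈ F₀, k + K.bar k = c := by
  obtain ⟨q₀, K₀, -, hbar⟩ := exists_sub_conj K D
  obtain ⟨t, ht⟩ := K₀.exists_trace
  have hb : (K₀.bar t : F) = K.bar (t : F) := hbar t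
  have ht' : (t : F) + K.bar (t : F) ≠ 0 := by
    rw [← hb]
    exact fun e => ht (Subtype.ext e)
  refine ⟨c * t / (t + K.bar t), F₀.div_mem (F₀.mul_mem hc t.2) (F₀.add_mem t.2 (bar_mem K t.2)), ?_⟩
  rw [map_div₀, map_mul, map_add, K.bar_bar, hfix, add_comm (K.bar (t : F)) t]
  field_simp

/-- Scalars of the subfield with prescribed norm. -/
theorem exists_norm_eq {c : F} (hc : c ∈ F₀) (hfix : K.bar c = c) :
    ∃ k ∈ F₀, k * K.bar k = c := by
  obtain ⟨q₀, K₀, -, hbar⟩ := exists_sub_conj K D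
  obtain ⟨k, hk⟩ := K₀.exists_norm ⟨c, hc⟩ (Subtype.ext (by rw [hbar]; exact hfix))
  refine ⟨k, k.2, ?_⟩
  have := congrArg Subtype.val hk
  rwa [MulMemClass.coe_mul, hbar] at this

/-- A non-zero skew scalar of the subfield. -/
theorem exists_skew_mem : ∃ θ ∈ F₀, θ ≠ 0 ∧ θ + K.bar θ = 0 := by
  obtain ⟨q₀, K₀, -, hbar⟩ := exists_sub_conj K D
  obtain ⟨y, hy⟩ := K₀.exists_moved
  refine ⟨((y - K₀.bar y : F₀) : F), SetLike.coe_mem _, fun e => hy ?_, ?_⟩
  · exact (sub_eq_zero.1 (Subtype.ext e)).symm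
  · rw [AddSubgroupClass.coe_sub, map_sub, hbar, K.bar_bar]
    ring

/-- A moved scalar of the subfield. -/
theorem exists_moved_mem : ∃ y ∈ F₀, K.bar y ≠ y := by
  obtain ⟨q₀, K₀, -, hbar⟩ := exists_sub_conj K D
  obtain ⟨y, hy⟩ := K₀.exists_moved
  exact ⟨y, y.2, fun e => hy (Subtype.ext (by rw [hbar]; exact e))⟩

theorem exists_notMem : ∃ t : F, t ∉ F₀ ∧ K.bar t = t := by
  obtain ⟨q₀, K₀, hq, hbar⟩ := exists_sub_conj K D
  by_contra hall
  push Not at hall
  let _ := Fintype.ofFinite F
  have h2 := K₀.two_le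
  have hEq : Nat.card {c : F // K.bar c = c ∧ c ≠ 0} ≤ Nat.card {c : F₀ // K₀.bar c = c ∧ c ≠ 0} := by
    refine Nat.card_le_card_of_injective
      (fun c => ⟨⟨c.1, by_contra fun h => hall c.1 h c.2.1⟩,
        Subtype.ext (by rw [hbar]; exact c.2.1), fun e => c.2.2 (congrArg Subtype.val e)⟩) ?_
    intro c d e
    simpa [Subtype.ext_iff] using e
  rw [card_fixed K, card_fixed K₀] at hEq
  have : q₀ ^ 1 < q₀ ^ r := Nat.pow_lt_pow_right h2 D.prime.one_lt
  rw [pow_one] at this
  omega

/-- An isotropic rational vector orthogonal to a list. -/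
theorem exists_iso {k : ℕ} (hk : k + 2 ≤ n) (l : Fin k → V) (hl : ∀ i, l i ∈ rat F₀ P) :
    ∃ z, z ≠ 0 ∧ z ∈ rat F₀ P ∧ H z z = 0 ∧ ∀ i, H z (l i) = 0 := by
  obtain ⟨a, ha0, ha, hal⟩ := exists_perp K D (by omega : k < n) l hl
  by_cases haa : H a a = 0
  · exact ⟨a, ha0, ha, haa, hal⟩
  obtain ⟨b, hb0, hb, hbl⟩ := exists_perp K D (by omega : k + 1 < n) (Fin.snoc l a)
    (fun i => by
      induction i using Fin.lastCases with
      | last => rw [Fin.snoc_last]; exact ha
      | cast i => rw [Fin.snoc_castSucc]; exact hl i)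
  have hba : H b a = 0 := by simpa using hbl (Fin.last k)
  by_cases hbb : H b b = 0
  · exact ⟨b, hb0, hb, hbb, fun i => by simpa using hbl i.castSucc⟩
  obtain ⟨s, hs, hsn⟩ := exists_norm_eq K D (c := -H b b / H a a)
    (F₀.div_mem (F₀.neg_mem (h_mem K D hb hb)) (h_mem K D ha ha))
    (by rw [map_div₀, map_neg, bar_self K, bar_self K])
  refine ⟨s • a + b, fun e => hbb ?_, add_mem (smul_mem_rat hs ha) hb, ?_, fun i => ?_⟩
  · have := congrArg (fun z => H z b) e
    simpa [h_add_left K, h_smul_left K, h_zero_left K, h_eq_zero_symm K hba] using this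
  · simp only [h_add_left K, h_add_right K, h_smul_left K, h_smul_right K, hba, h_eq_zero_symm K hba]
    rw [show s * (K.bar s * H a a) = s * K.bar s * H a a by ring, hsn]
    field_simp
    ring
  · rw [h_add_left K, h_smul_left K, hal i, show H b (l i) = 0 by simpa using hbl i.castSucc]
    ring

/-- An isotropic rational vector with prescribed values on an independent list. -/
theorem exists_iso_val {k : ℕ} (hk : 2 * k + 2 ≤ n) (l : Fin k → V) (hl : ∀ i, l i ∈ rat F₀ P)
    (hli : ∀ c : Fin k → F, ∑ i, c i • l i = 0 → c = 0) (s : Fin k → F) (hs : ∀ i, s i ∈ F₀) :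
    ∃ z ∈ rat F₀ P, H z z = 0 ∧ ∀ i, H z (l i) = s i := by
  classical
  choose d hd hdv using fun i : Fin k => exists_dual K D l hl hli (Pi.single i 1) (fun j => by
    by_cases h : j = i
    · subst h; simp [F₀.one_mem]
    · simp [h, F₀.zero_mem])
  obtain ⟨u, hu0, hu, huu, hul⟩ := exists_iso K D (by omega : k + k + 2 ≤ n) (Fin.append l d)
    (fun i => by
      induction i using Fin.addCases with
      | left i => rw [Fin.append_left]; exact hl i
      | right i => rw [Fin.append_right]; exact hd i)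
  have h1 : ∀ i, H u (l i) = 0 := fun i => by simpa using hul (Fin.castAdd k i)
  have h2 : ∀ i, H u (d i) = 0 := fun i => by
    have := hul (Fin.natAdd k i); rwa [Fin.append_right] at this
  obtain ⟨w, hw, hwv⟩ := exists_dual K D (Fin.snoc l u) (fun i => by
      induction i using Fin.lastCases with
      | last => rw [Fin.snoc_last]; exact hu
      | cast i => rw [Fin.snoc_castSucc]; exact hl i)
    (fun c hc => by
      simp only [Fin.sum_univ_castSucc, Fin.snoc_castSucc, Fin.snoc_last] at hc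
      have hz : ∀ i : Fin k, c i.castSucc = 0 := fun i => by
        have := congrArg (fun z => H (d i) z) hc
        simp only [h_add_right K, h_sum_right K, h_smul_right K, hdv,
          h_eq_zero_symm K (h2 i), h_zero_right K, mul_zero, add_zero] at this
        rw [Finset.sum_eq_single i (fun j _ hj => by rw [Pi.single_eq_of_ne hj, mul_zero])
          (by simp), Pi.single_eq_same, mul_one] at this
        exact (map_eq_zero K.bar).1 this
      have hlast : c (Fin.last k) = 0 := by
        simp only [hz, zero_smul, Finset.sum_const_zero, zero_add, smul_eq_zero] at hc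
        exact hc.resolve_right hu0
      exact funext fun i => by
        induction i using Fin.lastCases with
        | last => exact hlast
        | cast i => exact hz i)
    (Fin.snoc s 1) (fun i => by
      induction i using Fin.lastCases with
      | last => rw [Fin.snoc_last]; exact F₀.one_mem
      | cast i => rw [Fin.snoc_castSucc]; exact hs i)
  have hwu : H w u = 1 := by simpa using hwv (Fin.last k)
  have hwl : ∀ i, H w (l i) = s i := fun i => by simpa using hwv i.castSucc
  obtain ⟨a, ha, hat⟩ := exists_trace_eq K D (c := -H w w) (F₀.neg_mem (h_mem K D hw hw))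
    (by rw [map_neg, bar_self K])
  refine ⟨w + a • u, add_mem hw (smul_mem_rat ha hu), ?_, fun i => ?_⟩
  · simp only [h_add_left K, h_add_right K, h_smul_left K, h_smul_right K, huu, hwu]
    rw [show H u w = 1 by rw [h_swap K w u, hwu, map_one]]
    linear_combination hat
  · rw [h_add_left K, h_smul_left K, hwl, h1, mul_zero, add_zero]

/-- An isotropic rational vector with values `0` on an orthogonal pair of lines and `1` at `y`. -/
theorem exists_iso_val_pair {a a' y : V} (ha : a ∈ rat F₀ P) (ha' : a' ∈ rat F₀ P) (hy : y ∈ rat F₀ P)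
    (haa : H a a = 0) (ha'a : H a' a' = 0) (h1 : H a a' = 1) (hya : H y a = 0) (hya' : H y a' = 0)
    (hyy : H y y ≠ 0) : ∃ z ∈ rat F₀ P, H z z = 0 ∧ H z a = 0 ∧ H z a' = 0 ∧ H z y = 1 := by
  have h1' : H a' a = 1 := by rw [h_swap K a a', h1, map_one]
  have hn := D.dim
  obtain ⟨u, hu0, hu, huu, hul⟩ := exists_iso K D (by omega : 3 + 2 ≤ n) ![a, a', y]
    (fun i => by fin_cases i <;> assumption)
  have ua : H u a = 0 := hul 0
  have ua' : H u a' = 0 := hul 1
  have uy : H u y = 0 := hul 2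
  obtain ⟨w, hw, hwv⟩ := exists_dual K D ![a, a', y, u] (fun i => by fin_cases i <;> assumption) (fun c hc => by
      simp [Fin.sum_univ_succ] at hc
      have e1 := congrArg (fun z => H z a') hc
      have e2 := congrArg (fun z => H z a) hc
      have e3 := congrArg (fun z => H z y) hc
      simp [h_add_left K, h_smul_left K, h_zero_left K, haa, ha'a, h1, h1', hya, hya', h_eq_zero_symm K hya,
        h_eq_zero_symm K hya', ua, ua', uy, hyy] at e1 e2 e3
      rw [e1, e2, e3, zero_smul, zero_smul, zero_smul, zero_add, zero_add, zero_add, smul_eq_zero] at hc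
      exact funext fun i => by
        fin_cases i
        · exact e1
        · exact e2
        · exact e3
        · exact hc.resolve_right hu0)
    ![0, 0, 1, 1] (fun i => by fin_cases i <;> simp [F₀.one_mem, F₀.zero_mem])
  have wu : H w u = 1 := hwv 3
  obtain ⟨t, ht, hat⟩ := exists_trace_eq K D (c := -H w w) (F₀.neg_mem (h_mem K D hw hw))
    (by rw [map_neg, bar_self K])
  refine ⟨w + t • u, add_mem hw (smul_mem_rat ht hu), ?_, ?_, ?_, ?_⟩
  · simp only [h_add_left K, h_add_right K, h_smul_left K, h_smul_right K, huu, wu]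
    rw [show H u w = 1 by rw [h_swap K w u, wu, map_one]]
    linear_combination hat
  · rw [h_add_left K, h_smul_left K, show H w a = 0 from hwv 0, ua, mul_zero, add_zero]
  · rw [h_add_left K, h_smul_left K, show H w a' = 0 from hwv 1, ua', mul_zero, add_zero]
  · rw [h_add_left K, h_smul_left K, show H w y = 1 from hwv 2, uy, mul_zero, add_zero]

/-- A rational vector orthogonal to a hyperbolic pair is a sum of two isotropic ones. -/
theorem exists_two_iso_pair {a a' y : V} (ha : a ∈ rat F₀ P) (ha' : a' ∈ rat F₀ P) (hy : y ∈ rat F₀ P)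
    (haa : H a a = 0) (ha'a : H a' a' = 0) (h1 : H a a' = 1) (hya : H y a = 0) (hya' : H y a' = 0) :
    ∃ b ∈ rat F₀ P, ∃ c ∈ rat F₀ P, y = b + c ∧ H b b = 0 ∧ H c c = 0 ∧
      (∀ i, H b ((![a, a']) i) = 0) ∧ ∀ i, H c ((![a, a']) i) = 0 := by
  by_cases hyy : H y y = 0
  · refine ⟨y, hy, 0, zero_mem _, (add_zero y).symm, hyy, h_zero_left K _, fun i => ?_,
      fun i => h_zero_left K _⟩
    fin_cases i <;> assumption
  obtain ⟨u, hu, huu, ua, ua', huy⟩ := exists_iso_val_pair K D ha ha' hy haa ha'a h1 hya hya' hyy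
  obtain ⟨s, hs, hst⟩ := exists_trace_eq K D (c := -H y y) (F₀.neg_mem (h_mem K D hy hy))
    (by rw [map_neg, bar_self K])
  refine ⟨y + s • u, add_mem hy (smul_mem_rat hs hu), (-s) • u, smul_mem_rat (F₀.neg_mem hs) hu,
    by module, ?_, ?_, fun i => ?_, fun i => ?_⟩
  · simp only [h_add_left K, h_add_right K, h_smul_left K, h_smul_right K, huu, huy]
    rw [show H y u = 1 by rw [h_swap K u y, huy, map_one]]
    linear_combination hst
  · rw [h_smul_left K, h_smul_right K, huu, mul_zero, mul_zero]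
  · fin_cases i <;> simp [h_add_left K, h_smul_left K, hya, hya', ua, ua']
  · rw [h_smul_left K]; fin_cases i <;> simp [ua, ua']

omit D in
theorem indep_one {a : V} (ha : a ≠ 0) (c : Fin 1 → F) (hc : ∑ i, c i • (![a]) i = 0) : c = 0 := by
  simp at hc
  exact funext fun i => by fin_cases i; exact hc.resolve_right ha

omit D in
theorem indep_two {a b : V} (ha : a ≠ 0) (hb : ∀ k : F, b ≠ k • a) (c : Fin 2 → F)
    (hc : ∑ i, c i • (![a, b]) i = 0) : c = 0 := by
  simp [Fin.sum_univ_two] at hc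
  by_cases h1 : c 1 = 0
  · rw [h1, zero_smul, add_zero, smul_eq_zero] at hc
    exact funext fun i => by
      fin_cases i
      · exact hc.resolve_right ha
      · exact h1
  · exfalso
    refine hb (-(c 1)⁻¹ * c 0) ?_
    rw [add_eq_zero_iff_eq_neg] at hc
    rw [neg_mul, neg_smul, mul_smul, hc, smul_neg, neg_neg, smul_smul, inv_mul_cancel₀ h1, one_smul]

omit D in
theorem indep_pair {a a' : V} (haa : H a a = 0) (ha'a : H a' a' = 0) (h : H a a' = 1) (c : Fin 2 → F)
    (hc : ∑ i, c i • (![a, a']) i = 0) : c = 0 := by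
  simp [Fin.sum_univ_two] at hc
  have h' : H a' a = 1 := by rw [h_swap K a a', h, map_one]
  have e1 := congrArg (fun z => H z a') hc
  have e2 := congrArg (fun z => H z a) hc
  simp [h_add_left K, h_smul_left K, h_zero_left K, haa, ha'a, h, h'] at e1 e2
  exact funext fun i => by fin_cases i <;> assumption

/-- An isotropic partner. -/
theorem exists_partner {a : V} (ha : a ∈ rat F₀ P) (ha0 : a ≠ 0) :
    ∃ a' ∈ rat F₀ P, H a' a' = 0 ∧ H a' a = 1 := by
  have hn := D.dim
  obtain ⟨z, hz, hzz, hv⟩ := exists_iso_val K D (by omega : 2 * 1 + 2 ≤ n) ![a]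
    (fun i => by fin_cases i; exact ha) (fun c hc => indep_one K ha0 c hc) ![1]
    (fun i => by fin_cases i; exact F₀.one_mem)
  exact ⟨z, hz, hzz, hv 0⟩

/-- An isotropic rational vector not orthogonal to two given vectors. -/
theorem exists_both {a b : V} (ha : a ∈ rat F₀ P) (hb : b ∈ rat F₀ P) (ha0 : a ≠ 0) (hb0 : b ≠ 0) :
    ∃ z ∈ rat F₀ P, H z z = 0 ∧ H z a ≠ 0 ∧ H z b ≠ 0 := by
  have hn := D.dim
  by_cases hab : ∀ k : F, b ≠ k • a
  · obtain ⟨z, hz, hzz, hv⟩ := exists_iso_val K D (by omega : 2 * 2 + 2 ≤ n) ![a, b]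
      (fun i => by fin_cases i <;> assumption) (fun c hc => indep_two K ha0 hab c hc) ![1, 1]
      (fun i => by fin_cases i <;> exact F₀.one_mem)
    exact ⟨z, hz, hzz, by rw [show H z a = 1 from hv 0]; exact one_ne_zero,
      by rw [show H z b = 1 from hv 1]; exact one_ne_zero⟩
  · push Not at hab
    obtain ⟨k, rfl⟩ := hab
    obtain ⟨z, hz, hzz, h1⟩ := exists_partner K D ha ha0
    refine ⟨z, hz, hzz, by rw [h1]; exact one_ne_zero, ?_⟩
    rw [h_smul_right K, h1, mul_one]
    exact (map_ne_zero K.bar).2 fun e => hb0 (by rw [e, zero_smul])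

/-- A rational vector orthogonal to a list is a sum of two isotropic ones. -/
theorem exists_two_iso {k : ℕ} (hk : 2 * (k + 1) + 2 ≤ n) (l : Fin k → V) (hl : ∀ i, l i ∈ rat F₀ P)
    {y : V} (hy : y ∈ rat F₀ P) (hyl : ∀ i, H y (l i) = 0)
    (hli : ∀ c : Fin (k + 1) → F, ∑ i, c i • Fin.snoc l y i = (0 : V) → c = 0) :
    ∃ a ∈ rat F₀ P, ∃ b ∈ rat F₀ P, y = a + b ∧ H a a = 0 ∧ H b b = 0 ∧
      (∀ i, H a (l i) = 0) ∧ ∀ i, H b (l i) = 0 := by
  obtain ⟨u, hu, huu, hv⟩ := exists_iso_val K D hk (Fin.snoc l y) (fun i => by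
      induction i using Fin.lastCases with
      | last => rw [Fin.snoc_last]; exact hy
      | cast i => rw [Fin.snoc_castSucc]; exact hl i) hli (Fin.snoc 0 1) (fun i => by
      induction i using Fin.lastCases with
      | last => rw [Fin.snoc_last]; exact F₀.one_mem
      | cast i => rw [Fin.snoc_castSucc]; exact F₀.zero_mem)
  have huy : H u y = 1 := by simpa using hv (Fin.last k)
  have hul : ∀ i, H u (l i) = 0 := fun i => by simpa using hv i.castSucc
  obtain ⟨s, hs, hst⟩ := exists_trace_eq K D (c := -H y y) (F₀.neg_mem (h_mem K D hy hy))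
    (by rw [map_neg, bar_self K])
  refine ⟨y + s • u, add_mem hy (smul_mem_rat hs hu), (-s) • u, smul_mem_rat (F₀.neg_mem hs) hu,
    by module, ?_, ?_, fun i => ?_, fun i => ?_⟩
  · simp only [h_add_left K, h_add_right K, h_smul_left K, h_smul_right K, huu, huy]
    rw [show H y u = 1 by rw [h_swap K u y, huy, map_one]]
    linear_combination hst
  · rw [h_smul_left K, h_smul_right K, huu, mul_zero, mul_zero]
  · rw [h_add_left K, h_smul_left K, hyl, hul, mul_zero, add_zero]
  · rw [h_smul_left K, hul, mul_zero]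

theorem eq_zero_of_iso {y : V} (h : ∀ z ∈ rat F₀ P, H z z = 0 → H z y = 0) : y = 0 := by
  have hn := D.dim
  refine eq_zero_of_rat (F₀ := F₀) (P := P) K fun z hz => ?_
  by_cases hz0 : z = 0
  · rw [hz0, h_zero_left K]
  obtain ⟨a, ha, b, hb, rfl, haa, hbb, -, -⟩ := exists_two_iso K D (k := 0) (by omega) ![]
    (fun i => i.elim0) hz (fun i => i.elim0) (fun c hc => by
      rw [Fin.sum_univ_one] at hc
      exact funext fun i => by
        fin_cases i
        exact (smul_eq_zero.1 hc).resolve_right (by simpa using hz0))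
  rw [h_add_left K, h a ha haa, h b hb hbb, add_zero]

/-- A rational functional is represented by a rational vector. -/
theorem exists_rep (φ : Fin n → F) (hφ : ∀ j, φ j ∈ F₀) :
    ∃ z ∈ rat F₀ P, ∀ j, H (col P j) z = φ j := by
  obtain ⟨z, hz, hv⟩ := exists_dual K D (fun j => col P j) (fun j => col_mem j) (fun c hc => by
      have h1 : (P : Matrix (Fin n) (Fin n) F) *ᵥ c = 0 := by
        rw [eq_sum_col (P := P) ((P : Matrix (Fin n) (Fin n) F) *ᵥ c), inv_mulVec_mulVec]
        exact hc
      rw [← inv_mulVec_mulVec (P := P) c, h1, mulVec_zero])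
    (fun j => K.bar (φ j)) fun j => bar_mem K (hφ j)
  exact ⟨z, hz, fun j => by rw [h_swap K z, hv, K.bar_bar]⟩

end CfsgLib.Classical.Herm.Rat
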