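import Cfsg.Agent.Lib.Classical.UnitaryRegBasis

set_option autoImplicit false

/-!
`SU_n(q)`, `n ≥ 5` odd, is generated by three conjugate regular unipotent elements.
-/

namespace CfsgLib.Classical.URegGen

open Matrix Cfsg CfsgLib.Classical.Herm CfsgLib.Classical.Elation
open CfsgLib.ClassicalAut (Unitary.Conj Unitary.space Unitary.herm_apply)

variable {F : Type*} [Field F] [Finite F] {q : ℕ} {k n : ℕ} (B : HB k n q F)

theorem app_T_inv (K : Unitary.Conj F q) {g : SU n F q} {v : Fin n → F} {c : F}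
    (hg : IsT K g v c) (w : Fin n → F) : app g⁻¹ w = w - (c * hermForm n F q w v) • v := by
  have e : app g (w - (c * hermForm n F q w v) • v) = w := by
    rw [hg.2.2, h_sub_left K, h_smul_left K, hg.1]
    module
  conv_lhs => rw [← e, app_inv]

theorem isT_conj (K : Unitary.Conj F q) {g : SU n F q} {v : Fin n → F} {c : F}
    (hg : IsT K g v c) (s : SU n F q) : IsT K (s * g * s⁻¹) (app s v) c := by
  have := sg_conj K ((isT_iff K).1 hg) s
  rw [show app s (0 : Fin n → F) = 0 from mulVec_zero _] at this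
  exact (isT_iff K).2 this

/-- `T (x + γ e)` against `T x`. -/
theorem T_shift (K : Unitary.Conj F q) {g g₁ : SU n F q} {e x : Fin n → F} {γ A : F}
    (he : hermForm n F q e e = 0) (hxe : hermForm n F q x e = 0)
    (hg : IsT K g (x + γ • e) A) (hg₁ : IsT K g₁ x A) :
    IsSg K (g * g₁⁻¹) e ((A * K.bar γ) • x) (A * (γ * K.bar γ)) := by
  have hA : K.bar A = -A := eq_neg_of_add_eq_zero_right hg.2.1
  refine ⟨he, by rw [h_smul_left K, hxe, mul_zero], ?_, fun w => ?_⟩
  · rw [h_smul_left K, h_smul_right K, hg₁.1]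
    simp only [map_mul, K.bar_bar, hA]
    ring
  · rw [app_mul, app_T_inv K hg₁, hg.2.2, h_smul_right K, map_mul, K.bar_bar, hA]
    simp only [h_sub_left K, h_smul_left K, h_add_right K, h_smul_right K, hg₁.1, hxe]
    module

theorem exists_swap (K : Unitary.Conj F q) {θ : F} (hθ0 : θ ≠ 0) (hθ : θ + K.bar θ = 0) :
    ∀ j, j ≤ k → ∃ w : SU n F q,
      (∀ i, i < k → app w (B.E i) = if i < j then θ • B.Fv i else B.E i) ∧
      (∀ i, i < k → app w (B.Fv i) = if i < j then -θ⁻¹ • B.E i else B.Fv i) ∧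
      app w B.z = B.z := by
  intro j
  induction j with
  | zero =>
    exact fun _ => ⟨1, fun i _ => by rw [app_one, if_neg (Nat.not_lt_zero i)],
      fun i _ => by rw [app_one, if_neg (Nat.not_lt_zero i)], app_one _⟩
  | succ j ih =>
    intro hj
    obtain ⟨w, hwE, hwF, hwz⟩ := ih (by omega)
    have hc : -θ⁻¹ + K.bar (-θ⁻¹) = 0 := by
      rw [map_neg, map_inv₀, eq_neg_of_add_eq_zero_right hθ, inv_neg, neg_neg, neg_add_cancel]
    obtain ⟨g, hg⟩ := exists_T K (B.ee j j) hc
    obtain ⟨g', hg'⟩ := exists_T K (B.ff j j) hθ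
    have gE : ∀ i, i < k → app (g * g' * g) (B.E i) = if i = j then θ • B.Fv i else B.E i := by
      intro i hi
      rw [app_mul, app_mul, hg.2.2 (B.E i), B.ee, mul_zero, zero_smul, add_zero, hg'.2.2,
        B.ef K hi (by omega), hg.2.2]
      split_ifs with h
      · subst h
        rw [h_add_left K, h_smul_left K, B.ee, B.fe i i hi hi, if_pos rfl]
        match_scalars <;> field_simp
        ring
      · rw [h_add_left K, h_smul_left K, B.ee]
        module
    have gF : ∀ i, i < k → app (g * g' * g) (B.Fv i) = if i = j then -θ⁻¹ • B.E i else B.Fv i := by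
      intro i hi
      rw [app_mul, app_mul, hg.2.2 (B.Fv i), B.fe i j hi (by omega)]
      split_ifs with h
      · subst h
        simp only [hg'.2.2, hg.2.2, h_add_left K, h_smul_left K, B.ff, B.ef K hi hi, B.ee,
          B.fe i i hi hi, if_pos]
        match_scalars <;> field_simp <;> ring
      · simp only [hg'.2.2, hg.2.2, h_add_left K, h_smul_left K, B.ff, B.fe i j hi (by omega),
          if_neg h, mul_zero, zero_smul, add_zero]
    have gz : app (g * g' * g) B.z = B.z := by
      rw [app_mul, app_mul, hg.2.2 B.z, B.ze, mul_zero, zero_smul, add_zero, hg'.2.2, B.zf,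
        mul_zero, zero_smul, add_zero, hg.2.2, B.ze, mul_zero, zero_smul, add_zero]
    refine ⟨(g * g' * g) * w, fun i hi => ?_, fun i hi => ?_, by rw [app_mul, hwz, gz]⟩
    · rw [app_mul, hwE i hi]
      by_cases h : i < j
      · rw [if_pos h, if_pos (by omega), app_smul, gF i hi, if_neg (by omega)]
      · rw [if_neg h, gE i hi]
        by_cases h' : i = j
        · rw [if_pos h', if_pos (by omega)]
        · rw [if_neg h', if_neg (by omega)]
    · rw [app_mul, hwF i hi]
      by_cases h : i < j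
      · rw [if_pos h, if_pos (by omega), app_smul, gE i hi, if_neg (by omega)]
      · rw [if_neg h, gF i hi]
        by_cases h' : i = j
        · rw [if_pos h', if_pos (by omega)]
        · rw [if_neg h', if_neg (by omega)]

theorem zero_iff_perp (K : Unitary.Conj F q) {x : Fin n → F}
    (hE : ∀ j, j < k → hermForm n F q x (B.E j) = 0)
    (hF : ∀ j, j < k → hermForm n F q x (B.Fv j) = 0) (hz : hermForm n F q x B.z = 0) : x = 0 :=
  B.perp x (fun j hj => ⟨hE j hj, hF j hj⟩) hz

/-- A vector supported on the `E_j` is isotropic. -/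
theorem iso_of_perp (K : Unitary.Conj F q) : ∀ (i : ℕ) (x : Fin n → F), i ≤ k →
    (∀ j, j < k → hermForm n F q x (B.E j) = 0) → hermForm n F q x B.z = 0 →
    (∀ j, i ≤ j → j < k → hermForm n F q x (B.Fv j) = 0) → hermForm n F q x x = 0 := by
  intro i
  induction i with
  | zero =>
    intro x _ hE hz hF
    rw [zero_iff_perp B K hE (fun j hj => hF j (Nat.zero_le _) hj) hz, h_zero_left K]
  | succ i ih =>
    intro x hi hE hz hF
    set c := hermForm n F q x (B.Fv i)
    have h1 := ih (x - c • B.E i) (by omega)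
      (fun j hj => by rw [h_sub_left K, h_smul_left K, hE j hj, B.ee]; ring)
      (by rw [h_sub_left K, h_smul_left K, hz, B.ez K]; ring)
      (fun j hj hj' => by
        rw [h_sub_left K, h_smul_left K, B.ef K (by omega) hj']
        by_cases h : i = j
        · subst h; rw [if_pos rfl]; ring
        · rw [if_neg h, hF j (by omega) hj']; ring)
    rw [h_sub_left K, h_sub_right K, h_sub_right K, h_smul_left K, h_smul_right K, h_smul_left K,
      h_smul_right K, hE i (by omega), B.ee, h_eq_zero_symm K (hE i (by omega))] at h1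
    linear_combination h1

theorem exists_sigma (K : Unitary.Conj F q) :
    ∃ σ : F, σ + K.bar σ = 0 ∧ σ ≠ 0 ∧ ∀ S : Set F, (∀ x ∈ S, ∀ y ∈ S, x * y ∈ S) → σ ∈ S →
      (1 : F) ∈ S → (0 : F) ∈ S → ∀ c, K.bar c = c → c ∈ S := by
  cases nonempty_fintype F
  obtain ⟨g, hg⟩ := IsCyclic.exists_monoid_generator (α := Fˣ)
  set N := (g : F) * K.bar (g : F) with hN
  have hN0 : N ≠ 0 := mul_ne_zero g.ne_zero ((map_ne_zero K.bar).2 g.ne_zero)
  have fixed : ∀ S : Set F, (∀ x ∈ S, ∀ y ∈ S, x * y ∈ S) → N ∈ S → (1 : F) ∈ S → (0 : F) ∈ S →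
      ∀ c, K.bar c = c → c ∈ S := by
    intro S hS hNS h1 h0 c hc
    obtain ⟨d, rfl⟩ := K.exists_norm c hc
    by_cases hd : d = 0
    · subst hd; rwa [zero_mul]
    obtain ⟨j, hj⟩ := hg (Units.mk0 d hd)
    have hdj : (g : F) ^ j = d := by simpa using congrArg Units.val hj
    rw [← hdj, map_pow, ← mul_pow, ← hN]
    clear hc hdj hj
    induction j with
    | zero => rwa [pow_zero]
    | succ j ih => rw [pow_succ]; exact hS _ ih _ hNS
  by_cases h2 : (2 : F) = 0
  · refine ⟨N, ?_, hN0, fixed⟩
    rw [hN, map_mul, K.bar_bar, mul_comm (K.bar (g : F)), ← two_mul, h2, zero_mul]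
  have hord : orderOf g = q ^ 2 - 1 := by
    rw [orderOf_eq_card_of_forall_mem_zpowers (fun x => by
      obtain ⟨j, hj⟩ := hg x; exact ⟨j, by simpa using hj⟩), Nat.card_units, K.card]
  have hqodd : Odd q := by
    have h := FiniteField.odd_card_of_char_ne_two (F := F) (fun h => h2 (by
      have := ringChar.Nat.cast_ringChar (R := F)
      rw [h] at this
      exact_mod_cast this))
    rw [← Nat.card_eq_fintype_card, K.card] at h
    exact (Nat.odd_pow_iff two_ne_zero).1 (Nat.odd_iff.2 h)
  obtain ⟨r, hr⟩ := hqodd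
  have hq2 := K.two_le
  have hsq : q ^ 2 - 1 = 2 * (2 * r * (r + 1)) := by rw [hr]; ring_nf; omega
  have hhalf : ((g : F) ^ (2 * r * (r + 1))) = -1 := by
    refine (mul_self_eq_one_iff.1 ?_).resolve_left fun h => ?_
    · rw [← pow_add, ← two_mul, ← hsq, ← hord, ← Units.val_pow_eq_pow_val, pow_orderOf_eq_one,
        Units.val_one]
    · have h' : g ^ (2 * r * (r + 1)) = 1 := Units.ext (by simpa using h)
      have h3 := Nat.le_of_dvd (by nlinarith) (orderOf_dvd_of_pow_eq_one h')
      rw [hord, hsq] at h3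
      nlinarith
  refine ⟨(g : F) ^ (r + 1), ?_, pow_ne_zero _ g.ne_zero, fun S hS hσ => fixed S hS ?_⟩
  · rw [K.bar_apply, ← pow_mul, show (r + 1) * q = (r + 1) + 2 * r * (r + 1) by rw [hr]; ring,
      pow_add (g : F) (r + 1) (2 * r * (r + 1)), hhalf]
    ring
  · rw [hN, K.bar_apply, ← pow_succ', show q + 1 = (r + 1) + (r + 1) by omega, pow_add]
    exact hS _ hσ _ hσ

theorem three_gen (B : HB k n q F) (K : Unitary.Conj F q) (hk : 2 ≤ k) (hn : n = 2 * k + 1) :
    ∃ v g h : SU n F q, (IsNilpotent ((v.1 : Matrix (Fin n) (Fin n) F) - 1) ∧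
      ((v.1 : Matrix (Fin n) (Fin n) F) - 1) ^ (n - 1) ≠ 0) ∧
      Subgroup.closure ({v, g * v * g⁻¹, h * v * h⁻¹} : Set (SU n F q)) = ⊤ := by
  have hn3 : 3 ≤ n := by omega
  obtain ⟨t₀, ht₀⟩ := K.exists_trace
  set b : F := -(t₀ / (t₀ + K.bar t₀)) with hb
  have hab : (1 : F) * K.bar 1 + b + K.bar b = 0 := by
    rw [hb, map_neg, map_div₀, map_add, K.bar_bar, add_comm (K.bar t₀) t₀, map_one, one_mul,
      add_assoc, ← neg_add, ← add_div, div_self ht₀, add_neg_cancel]
  have hb0 : b ≠ 0 := fun h => by simp [h] at hab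
  obtain ⟨u, hu⟩ := exists_regU B K hn3 (by omega) hab
  obtain ⟨θ, hθ0, hθ⟩ := exists_skew K
  obtain ⟨w, hwE, hwF, hwz⟩ := exists_swap B K hθ0 hθ k le_rfl
  set Kw := w * u * w⁻¹ with hKw
  have hKw' : ∀ x, app Kw (app w x) = app w (app u x) := fun x => by
    rw [hKw, app_mul, app_mul, app_inv]
  have hwE' : ∀ i, i < k → app w (B.E i) = θ • B.Fv i := fun i hi => by
    rw [hwE i hi, if_pos hi]
  have hwF' : ∀ i, i < k → app w (B.Fv i) = -θ⁻¹ • B.E i := fun i hi => by
    rw [hwF i hi, if_pos hi]
  have hK1 : ∀ j, j + 1 < k → app Kw (B.E j + B.E (j + 1)) = B.E j := by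
    intro j hj
    have e : B.E j + B.E (j + 1) = (-θ) • app w (B.Fv j + B.Fv (j + 1)) := by
      rw [app_add, hwF' j (by omega), hwF' _ hj]
      match_scalars <;> field_simp
    rw [e, app_smul, hKw', hu.fs j hj, hwF' j (by omega)]
    match_scalars
    field_simp
  have hKl : app Kw (B.E (k - 1)) = B.E (k - 1) + θ • B.z - (b * θ * θ) • B.Fv (k - 1) := by
    have e : B.E (k - 1) = (-θ) • app w (B.Fv (k - 1)) := by
      rw [hwF' _ (by omega)]
      match_scalars
      field_simp
    conv_lhs => rw [e, app_smul, hKw', hu.fl, app_add, app_sub', app_smul, app_smul,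
      hwF' _ (by omega), hwE' _ (by omega), hwz, map_one]
    match_scalars <;> field_simp
  have hKx : ∀ x j, j + 1 < k → hermForm n F q (app Kw x) (B.E j) =
      hermForm n F q x (B.E j) + hermForm n F q x (B.E (j + 1)) := fun x j hj => by
    conv_lhs => rw [← hK1 j hj]
    rw [h_app, h_add_right K]
  have hKEl : ∀ t, t < k → hermForm n F q (app Kw (B.E (k - 1 - t))) (B.E (k - 1)) ≠ 0 := by
    intro t
    induction t with
    | zero =>
      intro _
      rw [Nat.sub_zero, hKl, h_sub_left K, h_add_left K, h_smul_left K, h_smul_left K, B.ee, B.ze,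
        B.fe _ _ (by omega) (by omega), if_pos rfl]
      simp [hb0, hθ0]
    | succ t ih =>
      intro ht
      obtain ⟨j, hj⟩ : ∃ j, k - 1 - t = j + 1 := ⟨k - 2 - t, by omega⟩
      have h1 := ih (by omega)
      rw [hj] at h1
      rw [show k - 1 - (t + 1) = j by omega]
      have e : app Kw (B.E j) = B.E j - app Kw (B.E (j + 1)) := by
        linear_combination (norm := module) hK1 j (by omega) - app_add Kw (B.E j) (B.E (j + 1))
      rw [e, h_sub_left K, B.ee, zero_sub]
      exact neg_ne_zero.2 h1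
  -- the orbit of `e_0` under `Kw`
  have horb : ∀ i, i + 1 ≤ k →
      (∀ j, j + (i + 1) < k → hermForm n F q (app (Kw ^ (i + 1)) (B.E 0)) (B.E j) = 0) ∧
      hermForm n F q (app (Kw ^ (i + 1)) (B.E 0)) (B.E (k - (i + 1))) ≠ 0 := by
    intro i
    induction i with
    | zero =>
      intro _
      rw [zero_add, pow_one]
      refine ⟨fun j hj => by rw [hKx _ j hj, B.ee, B.ee, add_zero], ?_⟩
      have := hKEl (k - 1) (by omega)
      rwa [Nat.sub_self] at this
    | succ i ih =>
      intro hi
      obtain ⟨h1, h2⟩ := ih (by omega)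
      rw [pow_succ', app_mul]
      refine ⟨fun j hj => by rw [hKx _ j (by omega), h1 j (by omega), h1 (j + 1) (by omega), add_zero],
        ?_⟩
      rw [hKx _ _ (by omega), h1 _ (by omega), zero_add,
        show k - (i + 1 + 1) + 1 = k - (i + 1) by omega]
      exact h2
  set y := app (Kw ^ (k - 1)) (B.E 0) with hy
  obtain ⟨hy0, hy1⟩ : hermForm n F q y (B.E 0) = 0 ∧ hermForm n F q y (B.E 1) ≠ 0 := by
    obtain ⟨h1, h2⟩ := horb (k - 2) (by omega)
    rw [show k - 2 + 1 = k - 1 by omega] at h1 h2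
    exact ⟨h1 0 (by omega), by rwa [show k - (k - 1) = 1 by omega] at h2⟩
  have hyy : hermForm n F q y y = 0 := by rw [hy, h_app, B.ee]
  -- one step of `u - 1`
  set Nu : (Fin n → F) → (Fin n → F) := fun x => app u x - x with hNu
  have hNE0 : ∀ x, hermForm n F q (Nu x) (B.E 0) = 0 := fun x => by
    have := h_app u x (B.E 0)
    rw [hu.e0] at this
    rw [hNu]; dsimp only
    rw [h_sub_left K, this, sub_self]
  have hNEs : ∀ x j, j + 1 < k → hermForm n F q (Nu x) (B.E (j + 1)) =
      -hermForm n F q x (B.E j) - hermForm n F q (Nu x) (B.E j) := fun x j hj => by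
    have := h_app u x (B.E (j + 1))
    rw [hu.es j hj, h_add_right K] at this
    simp only [hNu, h_sub_left K]
    linear_combination this
  have hNz : ∀ x, hermForm n F q (Nu x) B.z = -hermForm n F q (app u x) (B.E (k - 1)) := fun x => by
    have := h_app u x B.z
    rw [hu.z, h_add_right K, h_smul_right K, map_one, one_mul] at this
    simp only [hNu, h_sub_left K]
    linear_combination this
  have hNFs : ∀ x j, j + 1 < k →
      hermForm n F q (Nu x) (B.Fv j) = hermForm n F q x (B.Fv (j + 1)) := fun x j hj => by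
    have := h_app u x (B.Fv j + B.Fv (j + 1))
    rw [hu.fs j hj, h_add_right K] at this
    simp only [hNu, h_sub_left K]
    linear_combination this
  have hNFl : ∀ x, hermForm n F q (Nu x) (B.Fv (k - 1)) =
      hermForm n F q (app u x) B.z - K.bar b * hermForm n F q (app u x) (B.E (k - 1)) := fun x => by
    have := h_app u x (B.Fv (k - 1))
    rw [hu.fl, h_add_right K, h_sub_right K, h_smul_right K, h_smul_right K, K.bar_bar, one_mul]
      at this
    simp only [hNu, h_sub_left K]
    linear_combination this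
  have hNshift : ∀ x i, (∀ j, j < i → j < k → hermForm n F q x (B.E j) = 0) →
      ∀ j, j ≤ i → j < k → hermForm n F q (Nu x) (B.E j) = 0 := by
    intro x i hx j
    induction j with
    | zero => exact fun _ _ => hNE0 x
    | succ j ih =>
      intro hj hj'
      rw [hNEs x j hj', hx j (by omega) (by omega), ih (by omega) (by omega), neg_zero, sub_zero]
  set Ni : ℕ → (Fin n → F) := fun i => Nu^[i] y with hNi
  have hNiS : ∀ i, Ni (i + 1) = Nu (Ni i) := fun i => Function.iterate_succ_apply' Nu i y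
  have hpiv : ∀ i, i + 2 ≤ k → (∀ j, j < i + 1 → j < k → hermForm n F q (Ni i) (B.E j) = 0) ∧
      hermForm n F q (Ni i) (B.E (i + 1)) ≠ 0 := by
    intro i
    induction i with
    | zero =>
      intro _
      refine ⟨fun j hj _ => ?_, hy1⟩
      obtain rfl : j = 0 := by omega
      exact hy0
    | succ i ih =>
      intro hi
      obtain ⟨h1, h2⟩ := ih (by omega)
      rw [hNiS]
      refine ⟨fun j hj hj' => hNshift _ (i + 1) h1 j (by omega) hj', ?_⟩
      rw [hNEs _ _ (by omega), hNshift _ (i + 1) h1 (i + 1) le_rfl (by omega), sub_zero]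
      exact neg_ne_zero.2 h2
  set v := Ni (k - 1) with hv
  obtain ⟨hvE, hvz⟩ : (∀ j, j < k → hermForm n F q v (B.E j) = 0) ∧ hermForm n F q v B.z ≠ 0 := by
    obtain ⟨h1, h2⟩ := hpiv (k - 2) (by omega)
    rw [hv, show k - 1 = k - 2 + 1 by omega, hNiS]
    refine ⟨fun j hj => hNshift _ _ h1 j (by omega) hj, ?_⟩
    rw [hNz, neg_ne_zero]
    have e := hNshift _ _ h1 (k - 2 + 1) le_rfl (by omega)
    rw [show k - 1 = k - 2 + 1 by omega]
    simp only [hNu, h_sub_left K, sub_eq_zero] at e
    rw [e]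
    exact h2
  -- some product along the orbit is not skew
  obtain ⟨m, hm⟩ : ∃ m : ℕ, hermForm n F q (app (u ^ m) y) y +
      K.bar (hermForm n F q (app (u ^ m) y) y) ≠ 0 := by
    by_contra hc
    push Not at hc
    have hpair : ∀ i j : ℕ, hermForm n F q (app (u ^ i) y) (app (u ^ j) y) +
        K.bar (hermForm n F q (app (u ^ i) y) (app (u ^ j) y)) = 0 := by
      intro i j
      rcases le_total j i with h | h <;> obtain ⟨d, rfl⟩ := Nat.exists_eq_add_of_le h
      · rw [pow_add, app_mul, h_app]; exact hc d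
      · rw [pow_add, app_mul, h_app, h_swap K (app (u ^ d) y) y, K.bar_bar, add_comm]; exact hc d
    set Z := AddSubgroup.closure (Set.range fun i : ℕ => app (u ^ i) y) with hZ
    have hskew : ∀ x ∈ Z, ∀ x' ∈ Z,
        hermForm n F q x x' + K.bar (hermForm n F q x x') = 0 := by
      intro x hx x' hx'
      induction hx, hx' using AddSubgroup.closure_induction₂ with
      | mem x x' hx hx' =>
        obtain ⟨i, rfl⟩ := hx
        obtain ⟨j, rfl⟩ := hx'
        exact hpair i j
      | zero_left x _ => simp [h_zero_left K]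
      | zero_right x _ => simp [h_zero_right K]
      | add_left x x' x'' _ _ _ h h' => rw [h_add_left K, map_add]; linear_combination h + h'
      | add_right x x' x'' _ _ _ h h' => rw [h_add_right K, map_add]; linear_combination h + h'
      | neg_left x x' _ _ h => rw [h_neg_left K, map_neg]; linear_combination -h
      | neg_right x x' _ _ h => rw [h_neg_right K, map_neg]; linear_combination -h
    have hiso : ∀ x ∈ Z, hermForm n F q x x = 0 := by
      intro x hx
      induction hx using AddSubgroup.closure_induction with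
      | mem x hx => obtain ⟨i, rfl⟩ := hx; rw [h_app, hyy]
      | zero => exact h_zero_left K _
      | add x x' hx hx' h h' =>
        have := hskew x hx x' hx'
        rw [← h_swap K x x'] at this
        rw [h_add_left K, h_add_right K, h_add_right K, h, h']
        linear_combination this
      | neg x _ h => rw [h_neg_left K, h_neg_right K, h, neg_zero, neg_zero]
    have hZu : ∀ x ∈ Z, app u x ∈ Z := by
      intro x hx
      induction hx using AddSubgroup.closure_induction with
      | mem x hx =>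
        obtain ⟨i, rfl⟩ := hx
        exact AddSubgroup.subset_closure ⟨i + 1, by dsimp only; rw [pow_succ', app_mul]⟩
      | zero => rw [show app u (0 : Fin n → F) = 0 from mulVec_zero _]; exact Z.zero_mem
      | add x x' _ _ h h' => rw [app_add]; exact Z.add_mem h h'
      | neg x _ h => rw [← neg_one_smul F x, app_smul, neg_one_smul]; exact Z.neg_mem h
    have hNZ : ∀ i, Ni i ∈ Z := by
      intro i
      induction i with
      | zero => exact AddSubgroup.subset_closure ⟨0, by simp [app_one, hNi]⟩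
      | succ i ih => rw [hNiS]; exact Z.sub_mem (hZu _ ih) ih
    set τ := hermForm n F q v B.z with hτ
    have hr := iso_of_perp B K k (v - τ • B.z) le_rfl
      (fun j hj => by rw [h_sub_left K, h_smul_left K, hvE j hj, B.ze]; ring)
      (by rw [h_sub_left K, h_smul_left K, B.zz, mul_one, ← hτ, sub_self])
      (fun j hj hj' => absurd hj' (not_lt.2 hj))
    rw [h_sub_left K, h_sub_right K, h_sub_right K, h_smul_left K, h_smul_right K, h_smul_left K,
      h_smul_right K, B.zz, hiso v (hNZ _), ← hτ, h_swap K v B.z, ← hτ] at hr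
    exact mul_ne_zero hvz ((map_ne_zero K.bar).2 hvz) (by linear_combination -hr)
  set h := hermForm n F q (app (u ^ m) y) y with hh
  obtain ⟨σ, hσ, hσ0, hσS⟩ := exists_sigma K
  set A := σ / (h + K.bar h) with hA
  have hA0 : A ≠ 0 := div_ne_zero hσ0 hm
  have hAs : A + K.bar A = 0 := by
    rw [hA, map_div₀, map_add, K.bar_bar, add_comm (K.bar h) h, ← add_div, hσ, zero_div]
  obtain ⟨s, hs⟩ := CfsgLib.ClassicalAut.Unitary.skewSurj (n := n) K A (by
    show (1 : F) * A + K.bar A = 0
    rw [one_mul]; exact hAs)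
  change s - 1 * K.bar s = A at hs
  rw [one_mul] at hs
  obtain ⟨g, hg⟩ := exists_sg K (e := B.E 0) (x := (-s) • B.E 1) (t := 0) hn3 (B.ee _ _)
    (by rw [h_smul_left K, B.ee, mul_zero])
    (by rw [h_smul_left K, h_smul_right K, B.ee, mul_zero, mul_zero, map_zero, add_zero, add_zero])
  obtain ⟨hn1, hn2⟩ := nilpotent_shape B hu (by omega) one_ne_zero
  refine ⟨u, g, w, ⟨hn1, by rwa [show n - 1 = 2 * k by omega]⟩, ?_⟩
  set M := Subgroup.closure ({u, g * u * g⁻¹, w * u * w⁻¹} : Set (SU n F q)) with hM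
  have hu_mem : u ∈ M := Subgroup.subset_closure (by simp)
  have hK_mem : Kw ∈ M := Subgroup.subset_closure (by simp [hKw])
  have hg_mem : g * u * g⁻¹ ∈ M := Subgroup.subset_closure (by simp)
  have hE00 := B.ee 0 0
  have hue1 : app u (B.E 1) = B.E 1 + B.E 0 := hu.es 0 (by omega)
  -- the seed
  obtain ⟨T₀, hT₀M, hT₀⟩ : ∃ T₀ ∈ M, IsT K T₀ (B.E 0) A := by
    have h1 := sg_conj K (sg_inv K hg) u
    rw [hu.e0, ← neg_one_smul F ((-s) • B.E 1), app_smul, app_smul, hue1] at h1
    have h2 := sg_add_self K (-s) (sg_mul K hg h1)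
    refine ⟨g * (u * g⁻¹ * u⁻¹), ?_, (isT_iff K).2 ?_⟩
    · have := mul_mem hg_mem (inv_mem hu_mem)
      rwa [show g * (u * g⁻¹ * u⁻¹) = g * u * g⁻¹ * u⁻¹ by group]
    · convert h2 using 1
      · match_scalars <;> ring
      · simp only [h_smul_left K, h_smul_right K, h_add_left K, B.ee, map_neg, map_zero]
        linear_combination -hs
  -- a first parameter
  have hKi : app Kw⁻¹ (B.E 0) = B.E 1 + (1 : F) • B.E 0 := by
    have := congrArg (app Kw⁻¹) (hK1 0 (by omega))
    rw [app_inv] at this
    rw [← this, one_smul, add_comm]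
  have hE1p : A • B.E 1 ∈ pars K M hE00 := by
    have t1 := isT_conj K hT₀ Kw⁻¹
    rw [hKi] at t1
    have t2 := isT_conj K t1 u
    rw [app_add, app_smul, hue1, hu.e0,
      show B.E 1 + B.E 0 + (1 : F) • B.E 0 = B.E 1 + (2 : F) • B.E 0 by module] at t2
    obtain ⟨T₁, hT₁⟩ := exists_T K (B.ee 1 1) hAs
    set g₁ := Kw⁻¹ * T₀ * Kw⁻¹⁻¹ with hg₁
    have hg₁M : g₁ ∈ M := mul_mem (mul_mem (inv_mem hK_mem) hT₀M) (inv_mem (inv_mem hK_mem))
    have hg₂M : u * g₁ * u⁻¹ ∈ M := mul_mem (mul_mem hu_mem hg₁M) (inv_mem hu_mem)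
    have s1 := T_shift K hE00 (B.ee 1 0) t1 hT₁
    have s2 := T_shift K hE00 (B.ee 1 0) t2 hT₁
    obtain ⟨t3, s3⟩ : ∃ t, IsSg K (u * g₁ * u⁻¹ * T₁⁻¹ * (g₁ * T₁⁻¹)⁻¹) (B.E 0)
        ((A * K.bar 2) • B.E 1 + -((A * K.bar 1) • B.E 1)) t := ⟨_, sg_mul K s2 (sg_inv K s1)⟩
    refine ⟨u * g₁ * u⁻¹ * g₁⁻¹, ?_, t3, ?_⟩
    · exact mul_mem hg₂M (inv_mem hg₁M)
    · convert s3 using 1
      · group
      · rw [map_ofNat, map_one]; module
  -- the transvection at `y`
  obtain ⟨T₂, hT₂M, hT₂⟩ : ∃ T₂ ∈ M, IsT K T₂ y A :=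
    ⟨_, mul_mem (mul_mem (pow_mem hK_mem _) hT₀M) (inv_mem (pow_mem hK_mem _)),
      isT_conj K hT₀ (Kw ^ (k - 1))⟩
  have hT₂e : app T₂ (B.E 0) = B.E 0 := by
    rw [hT₂.2.2, h_eq_zero_symm K hy0, mul_zero, zero_smul, add_zero]
  have hupow : ∀ i : ℕ, app (u ^ i) (B.E 0) = B.E 0 := fun i => by
    induction i with
    | zero => rw [pow_zero, app_one]
    | succ i ih => rw [pow_succ', app_mul, ih, hu.e0]
  have hstep : ∀ x ∈ pars K M hE00, (A * hermForm n F q x y) • y ∈ pars K M hE00 := fun x hx => by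
    have h1 := (pars K M hE00).sub_mem (pars_stab K hE00 hT₂M hT₂e hx) hx
    rwa [hT₂.2.2, add_sub_cancel_left] at h1
  have huinv : ∀ i : ℕ, app (u ^ i)⁻¹ (B.E 0) = B.E 0 := fun i => by
    conv_lhs => rw [← hupow i, app_inv]
  set L : Set F := {l | l • y ∈ pars K M hE00} with hL
  set S : Set F := {μ | ∀ l ∈ L, μ * l ∈ L} with hS
  have hLω : A * h ∈ S := fun l (hl : l • y ∈ pars K M hE00) => by
    have := hstep _ (pars_stab K hE00 (pow_mem hu_mem m) (hupow m) hl)
    rw [app_smul, h_smul_left K, ← hh] at this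
    show (A * h * l) • y ∈ pars K M hE00
    rwa [show A * h * l = A * (l * h) by ring]
  have hLω' : A * K.bar h ∈ S := fun l (hl : l • y ∈ pars K M hE00) => by
    have := hstep _ (pars_stab K hE00 (inv_mem (pow_mem hu_mem m)) (huinv m) hl)
    rw [app_smul, h_smul_left K, show hermForm n F q (app (u ^ m)⁻¹ y) y = K.bar h by
      rw [hh, ← h_swap K, ← h_app (u ^ m) (app (u ^ m)⁻¹ y) y, app_inv']] at this
    show (A * K.bar h * l) • y ∈ pars K M hE00
    rwa [show A * K.bar h * l = A * (l * K.bar h) by ring]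
  have hSmul : ∀ a ∈ S, ∀ c ∈ S, a * c ∈ S := fun a ha c hc l hl => by
    rw [mul_assoc]; exact ha _ (hc l hl)
  have hSadd : ∀ a ∈ S, ∀ c ∈ S, a + c ∈ S := fun a ha c hc l hl => by
    show ((a + c) * l) • y ∈ pars K M hE00
    rw [add_mul, add_smul]
    exact (pars K M hE00).add_mem (ha l hl) (hc l hl)
  have hS1 : (1 : F) ∈ S := fun l hl => by rwa [one_mul]
  have hS0 : (0 : F) ∈ S := fun l _ => by
    show ((0 : F) * l) • y ∈ pars K M hE00
    rw [zero_mul, zero_smul]; exact (pars K M hE00).zero_mem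
  have hσmem : σ ∈ S := by
    have := hSadd _ hLω _ hLω'
    rwa [← mul_add, hA, div_mul_cancel₀ _ hm] at this
  have hfix := hσS S hSmul hσmem hS1 hS0
  have hSall : ∀ x, x ∈ S := by
    intro x
    set ω := A * h with hω
    have hd : ω - K.bar ω = σ := by
      rw [hω, map_mul, eq_neg_of_add_eq_zero_right hAs]
      rw [hA]; field_simp; ring
    set β := (x - K.bar x) / σ with hβ
    have hσb : K.bar σ = -σ := eq_neg_of_add_eq_zero_right hσ
    have hβf : K.bar β = β := by rw [hβ, map_div₀, map_sub, K.bar_bar, hσb]; field_simp; ring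
    have hαf : K.bar (x - β * ω) = x - β * ω := by
      have hβσ : β * σ = x - K.bar x := div_mul_cancel₀ _ hσ0
      rw [map_sub, map_mul, hβf]
      clear_value β ω
      linear_combination hβσ + β * hd
    have := hSadd _ (hfix _ hαf) _ (hSmul _ (hfix _ hβf) _ hLω)
    rwa [sub_add_cancel] at this
  have hl0 : ∃ l ∈ L, l ≠ 0 := by
    refine ⟨_, hstep _ hE1p, mul_ne_zero hA0 ?_⟩
    rw [h_smul_left K]
    exact mul_ne_zero hA0 (h_ne_zero_symm K hy1)
  obtain ⟨l₀, hl₀, hl₀0⟩ := hl0
  set P : (Fin n → F) → Prop := fun x => ∀ l : F, l • x ∈ pars K M hE00 with hP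
  have hPy : P y := fun l => by
    have := hSall (l / l₀) l₀ hl₀
    rwa [div_mul_cancel₀ _ hl₀0] at this
  have hPu : ∀ x, P x → P (app u x) := fun x hx l => by
    rw [← app_smul]; exact pars_stab K hE00 hu_mem hu.e0 (hx l)
  have hPadd : ∀ x x', P x → P x' → P (x + x') := fun x x' hx hx' l => by
    rw [smul_add]; exact (pars K M hE00).add_mem (hx l) (hx' l)
  have hPsub : ∀ x x', P x → P x' → P (x - x') := fun x x' hx hx' l => by
    rw [smul_sub]; exact (pars K M hE00).sub_mem (hx l) (hx' l)
  have hPsmul : ∀ (c : F) x, P x → P (c • x) := fun c x hx l => by rw [smul_smul]; exact hx _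
  have hPN : ∀ i, P (Ni i) := by
    intro i
    induction i with
    | zero => exact hPy
    | succ i ih => rw [hNiS]; exact hPsub _ _ (hPu _ ih) ih
  have hT := all_T K hE00 (x := y) hPy (pars_stab K hE00 (pow_mem hu_mem m) (hupow m)
    (show y ∈ pars K M hE00 by simpa using hPy 1)) (by
      rw [h_swap K (app (u ^ m) y) y, ← hh]
      exact (map_ne_zero K.bar).2 fun h0 => hm (by rw [h0, map_zero, add_zero]))
  -- pivots on the `e` side
  have hlow : ∀ i, i < k → ∃ x, P x ∧ (∀ j, j < k → hermForm n F q x (B.E j) = 0) ∧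
      hermForm n F q x B.z = 0 ∧ (∀ j, k - 1 - i < j → j < k → hermForm n F q x (B.Fv j) = 0) ∧
      hermForm n F q x (B.Fv (k - 1 - i)) ≠ 0 := by
    intro i
    induction i with
    | zero =>
      intro _
      refine ⟨Nu v, hPsub _ _ (hPu _ (hPN _)) (hPN _), fun j hj => hNshift v k (fun j _ hj => hvE j hj) j
        (by omega) hj, ?_, fun j hj hj' => by omega, ?_⟩
      all_goals
        have hue : hermForm n F q (app u v) (B.E (k - 1)) = 0 := by
          have := hNshift v k (fun j _ hj => hvE j hj) (k - 1) (by omega) (by omega)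
          simp only [hNu, h_sub_left K, hvE (k - 1) (by omega), sub_zero] at this
          exact this
      · rw [hNz, hue, neg_zero]
      · rw [Nat.sub_zero, hNFl, hue, mul_zero, sub_zero]
        have h2 := hNz v
        rw [hue, neg_zero] at h2
        simp only [hNu, h_sub_left K, sub_eq_zero] at h2
        rw [h2]; exact hvz
    | succ i ih =>
      intro hi
      obtain ⟨x, hPx, hxE, hxz, hxF, hxp⟩ := ih (by omega)
      refine ⟨Nu x, hPsub _ _ (hPu _ hPx) hPx,
        fun j hj => hNshift x k (fun j _ hj => hxE j hj) j (by omega) hj, ?_, fun j hj hj' => ?_, ?_⟩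
      · have := hNshift x k (fun j _ hj => hxE j hj) (k - 1) (by omega) (by omega)
        simp only [hNu, h_sub_left K, hxE (k - 1) (by omega), sub_zero] at this
        rw [hNz, this, neg_zero]
      · rcases Nat.lt_or_ge (j + 1) k with h' | h'
        · rw [hNFs x j h']; exact hxF _ (by omega) h'
        · obtain rfl : j = k - 1 := by omega
          have hue := hNshift x k (fun j _ hj => hxE j hj) (k - 1) (by omega) (by omega)
          simp only [hNu, h_sub_left K, hxE (k - 1) (by omega), sub_zero] at hue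
          have h2 := hNz x
          rw [hue, neg_zero] at h2
          simp only [hNu, h_sub_left K, hxz, sub_zero] at h2
          rw [hNFl, hue, h2, mul_zero, sub_zero]
      · rw [hNFs x _ (by omega), show k - 1 - (i + 1) + 1 = k - 1 - i by omega]
        exact hxp
  have hspanE : ∀ i, i ≤ k → ∀ x, (∀ j, j < k → hermForm n F q x (B.E j) = 0) →
      hermForm n F q x B.z = 0 → (∀ j, i ≤ j → j < k → hermForm n F q x (B.Fv j) = 0) → P x := by
    intro i
    induction i with
    | zero =>
      intro _ x h1 h2 h3 l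
      rw [zero_iff_perp B K h1 (fun j hj => h3 j (Nat.zero_le _) hj) h2, smul_zero]
      exact (pars K M hE00).zero_mem
    | succ i ih =>
      intro hi x h1 h2 h3
      obtain ⟨x₀, hx₀, g1, g2, g3, g4⟩ := hlow (k - 1 - i) (by omega)
      rw [show k - 1 - (k - 1 - i) = i by omega] at g3 g4
      set c := hermForm n F q x (B.Fv i) / hermForm n F q x₀ (B.Fv i)
      have := hPadd _ _ (ih (by omega) (x - c • x₀)
        (fun j hj => by rw [h_sub_left K, h_smul_left K, h1 j hj, g1 j hj]; ring)
        (by rw [h_sub_left K, h_smul_left K, h2, g2]; ring)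
        (fun j hj hj' => by
          rw [h_sub_left K, h_smul_left K]
          rcases hj.eq_or_lt with rfl | hj
          · rw [div_mul_cancel₀ _ g4, sub_self]
          · rw [h3 j hj hj', g3 j hj hj']; ring)) (hPsmul c _ hx₀)
      rwa [sub_add_cancel] at this
  have hdown : ∀ t, t < k → ∀ x, (∀ j, j < k - t → hermForm n F q x (B.E j) = 0) → P x := by
    intro t
    induction t with
    | zero =>
      intro _ x hx
      set c := hermForm n F q x B.z / hermForm n F q v B.z
      have := hPadd _ _ (hspanE k le_rfl (x - c • v)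
        (fun j hj => by rw [h_sub_left K, h_smul_left K, hx j (by omega), hvE j hj]; ring)
        (by rw [h_sub_left K, h_smul_left K, div_mul_cancel₀ _ hvz, sub_self])
        (fun j hj hj' => absurd hj' (not_lt.2 hj))) (hPsmul c _ (hPN (k - 1)))
      rwa [← hv, sub_add_cancel] at this
    | succ t ih =>
      intro ht x hx
      obtain ⟨j₀, hj₀⟩ : ∃ j₀, k - t = j₀ + 2 := ⟨k - t - 2, by omega⟩
      obtain ⟨g1, g2⟩ := hpiv j₀ (by omega)
      set c := hermForm n F q x (B.E (j₀ + 1)) / hermForm n F q (Ni j₀) (B.E (j₀ + 1))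
      have := hPadd _ _ (ih (by omega) (x - c • Ni j₀) (fun j hj => by
        rw [h_sub_left K, h_smul_left K]
        rcases Nat.lt_or_ge j (j₀ + 1) with h' | h'
        · rw [hx j (by omega), g1 j h' (by omega)]; ring
        · obtain rfl : j = j₀ + 1 := by omega
          rw [div_mul_cancel₀ _ g2, sub_self])) (hPsmul c _ (hPN j₀))
      rwa [sub_add_cancel] at this
  refine eq_top_of_elations K hE00 hn3 (fun h => by omega) hT (fun x hx => ?_)
    (pow_mem hK_mem k) ?_
  · have := hdown (k - 1) (by omega) x (fun j hj => by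
      obtain rfl : j = 0 := by omega
      exact hx) 1
    rwa [one_smul] at this
  · obtain ⟨-, h2⟩ := horb (k - 1) (by omega)
    rwa [Nat.sub_add_cancel (show 1 ≤ k by omega), Nat.sub_self] at h2

end CfsgLib.Classical.URegGen
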