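import Cfsg.Agent.Lib.Classical.UnitaryRegThree

set_option autoImplicit false

/-!
Two conjugate regular unipotents generate `SU_3(q)` for `q = 3, 5, 8, 11, 17`: a word in them fixes
the point of the first with a multiplier generating the field.
-/

namespace CfsgLib.Classical.URegGen

open Matrix Cfsg CfsgLib.Classical.Herm CfsgLib.Classical.Elation
open CfsgLib.ClassicalAut (Unitary.Conj Unitary.space Unitary.herm_apply)

variable {F : Type*} [Field F] [Finite F] {q : ℕ}

/-- The operations of a computable copy of the field. -/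
structure Ops (R : Type) where
  add : R → R → R
  mul : R → R → R
  neg : R → R
  bar : R → R
  zero : R
  one : R

/-- `φ` carries the computable copy into the field. -/
structure Interp {R : Type} (o : Ops R) (K : Unitary.Conj F q) (φ : R → F) : Prop where
  add : ∀ x y, φ (o.add x y) = φ x + φ y
  mul : ∀ x y, φ (o.mul x y) = φ x * φ y
  neg : ∀ x, φ (o.neg x) = -φ x
  bar : ∀ x, φ (o.bar x) = K.bar (φ x)
  zero : φ o.zero = 0
  one : φ o.one = 1

namespace Ops

variable {R : Type} (o : Ops R)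

/-- The upper root element on coordinates. -/
def stepU (a b : R) : R × R × R → R × R × R
  | (x, y, s) => (o.add (o.add x (o.mul a y)) (o.mul b s), o.add y (o.neg (o.mul (o.bar a) s)), s)

/-- The lower root element on coordinates. -/
def stepV (θ a b : R) : R × R × R → R × R × R
  | (x, y, s) => (x, o.add y (o.mul (o.mul (o.bar a) θ) x),
      o.add (o.add s (o.mul (o.mul a θ) y)) (o.neg (o.mul (o.mul b (o.mul θ θ)) x)))

/-- One letter. -/
def step (θ a b : R) : Bool × Bool → R × R × R → R × R × R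
  | (false, false) => o.stepU a b
  | (false, true) => o.stepU (o.neg a) (o.bar b)
  | (true, false) => o.stepV θ a b
  | (true, true) => o.stepV θ (o.neg a) (o.bar b)

/-- A word. -/
def run (θ a b : R) : List (Bool × Bool) → R × R × R → R × R × R
  | [], v => v
  | l :: w, v => o.step θ a b l (run θ a b w v)

/-- The certificate. -/
def Cert [DecidableEq R] (θ a b : R) (w : List (Bool × Bool)) (r σ : R) : Prop :=
  o.add (o.add (o.mul a (o.bar a)) b) (o.bar b) = o.zero ∧ o.add θ (o.bar θ) = o.zero ∧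
    ((o.run θ a b w (o.one, o.zero, o.zero)).1 = r ∧
      (o.run θ a b w (o.one, o.zero, o.zero)).2.1 = o.zero ∧
      (o.run θ a b w (o.one, o.zero, o.zero)).2.2 = o.zero) ∧
    ((o.run θ a b w (o.zero, o.one, o.zero)).2.1 = σ ∧
      (o.run θ a b w (o.zero, o.one, o.zero)).2.2 = o.zero)

instance [DecidableEq R] (θ a b : R) (w : List (Bool × Bool)) (r σ : R) :
    Decidable (o.Cert θ a b w r σ) := by unfold Cert; infer_instance

end Ops

theorem subfield_top_of_moved (K : Unitary.Conj F q) {p f : ℕ} (hp : p.Prime) (hq : q = p ^ f)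
    (L : Subfield F) (m : F) (hm : m ∈ L)
    (hne : ∀ i, i < 2 * f → i ∣ 2 * f → m ^ p ^ i ≠ m) : L = ⊤ := by
  have := Fintype.ofFinite L
  obtain ⟨d, hd⟩ : ∃ d, q ^ 2 = Nat.card L ^ d :=
    ⟨_, by rw [← K.card]; exact Module.natCard_eq_pow_finrank (K := L) (V := F)⟩
  have hd0 : d ≠ 0 := by
    intro h
    have := K.two_le
    rw [h, pow_zero] at hd
    nlinarith
  obtain ⟨i, hi, hL⟩ := (Nat.dvd_prime_pow hp).1
    (show Nat.card L ∣ p ^ (2 * f) by rw [mul_comm, pow_mul, ← hq, hd]; exact dvd_pow_self _ hd0)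
  have hid : i * d = 2 * f := Nat.pow_right_injective hp.two_le (by
    show p ^ (i * d) = p ^ (2 * f)
    rw [pow_mul, ← hL, ← hd, hq, ← pow_mul, mul_comm])
  rcases hi.eq_or_lt with rfl | hlt
  · refine eq_top_iff.2 fun y _ => ?_
    obtain ⟨⟨z, hz⟩, rfl⟩ := ((Nat.bijective_iff_injective_and_card (fun y : L => (y : F))).2
      ⟨Subtype.val_injective, by rw [K.card, hq, hL, ← pow_mul, mul_comm]⟩).2 y
    exact hz
  · refine absurd ?_ (hne i hlt ⟨d, hid.symm⟩)
    have := FiniteField.pow_card (⟨m, hm⟩ : L)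
    rw [← Nat.card_eq_fintype_card, hL] at this
    simpa using congrArg Subtype.val this

theorem two_gen_of_cert {R : Type} [DecidableEq R] {o : Ops R} (K : Unitary.Conj F q)
    (B : HB 1 3 q F) {φ : R → F} (hφ : Interp o K φ) (hq : 3 ≤ q) {p f : ℕ} (hp : p.Prime)
    (hqp : q = p ^ f) (θ a b : R) (w : List (Bool × Bool)) (r σ : R) (hc : o.Cert θ a b w r σ)
    (ha : φ a ≠ 0) (hb : φ b ≠ 0) (hθ : φ θ ≠ 0)
    (hne : ∀ i, i < 2 * f → i ∣ 2 * f → φ (o.mul (o.bar r) σ) ^ p ^ i ≠ φ (o.mul (o.bar r) σ)) :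
    ∃ v g : SU 3 F q, (IsNilpotent ((v.1 : Matrix (Fin 3) (Fin 3) F) - 1) ∧
      ((v.1 : Matrix (Fin 3) (Fin 3) F) - 1) ^ (3 - 1) ≠ 0) ∧
      Subgroup.closure ({v, g * v * g⁻¹} : Set (SU 3 F q)) = ⊤ := by
  obtain ⟨hc1, hc2, ⟨hr, hr1, hr2⟩, ⟨hs1, hs2⟩⟩ := hc
  have hab : φ a * K.bar (φ a) + φ b + K.bar (φ b) = 0 := by
    have := congrArg φ hc1
    rwa [hφ.add, hφ.add, hφ.mul, hφ.bar, hφ.bar, hφ.zero] at this
  have hθs : φ θ + K.bar (φ θ) = 0 := by
    have := congrArg φ hc2
    rwa [hφ.add, hφ.bar, hφ.zero] at this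
  obtain ⟨u, hu⟩ := exists_sgE K B le_rfl hab
  obtain ⟨g, hgE, hgF, hgz⟩ := exists_swap B K hθ hθs 1 le_rfl
  have gE : app g (B.E 0) = φ θ • B.Fv 0 := by rw [hgE 0 one_pos, if_pos one_pos]
  have gF : app g (B.Fv 0) = -(φ θ)⁻¹ • B.E 0 := by rw [hgF 0 one_pos, if_pos one_pos]
  obtain ⟨hn1, hn2⟩ := nilpotent_shape B (u := u) (a := φ a) (b := φ b) (K := K) (by
    obtain ⟨h1, h2, h3⟩ := appE K B hu
    exact ⟨h1, fun j hj => absurd hj (by omega), fun j hj => absurd hj (by omega), h2, h3⟩)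
    one_pos ha
  refine ⟨u, g, ⟨hn1, hn2⟩, ?_⟩
  set v := g * u * g⁻¹
  set M := Subgroup.closure ({u, v} : Set (SU 3 F q))
  have huM : u ∈ M := Subgroup.subset_closure (by simp)
  have hvM : v ∈ M := Subgroup.subset_closure (by simp)
  set vec : R × R × R → (Fin 3 → F) :=
    fun x => φ x.1 • B.E 0 + φ x.2.1 • B.z + φ x.2.2 • B.Fv 0 with hvec
  have hU : ∀ {u' : SU 3 F q} {a' b' : R},
      IsSg K u' (B.E 0) ((-K.bar (φ a')) • B.z) (φ b') →
      (∀ x, app u' (vec x) = vec (o.stepU a' b' x)) ∧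
      ∀ x, app (g * u' * g⁻¹) (vec x) = vec (o.stepV θ a' b' x) := by
    intro u' a' b' h
    obtain ⟨u1, u2, u3⟩ := appE K B h
    refine ⟨fun ⟨x, y, s⟩ => ?_, fun ⟨x, y, s⟩ => ?_⟩
    · simp only [hvec, Ops.stepU, app_add, app_smul, u1, u2, u3, hφ.add, hφ.mul, hφ.neg, hφ.bar]
      module
    · have e1 : app (g * u' * g⁻¹) (app g (B.E 0)) = app g (B.E 0) := by
        rw [app_mul, app_mul, app_inv, u1]
      have e2 : app (g * u' * g⁻¹) (app g (B.Fv 0)) =
          app g (B.Fv 0 - K.bar (φ a') • B.z + φ b' • B.E 0) := by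
        rw [app_mul, app_mul, app_inv, u2]
      have e3 : app (g * u' * g⁻¹) (app g B.z) = app g (B.z + φ a' • B.E 0) := by
        rw [app_mul, app_mul, app_inv, u3]
      rw [gE, app_smul] at e1
      rw [gF, app_smul, app_add, app_sub', app_smul, app_smul, gE, gF, hgz] at e2
      rw [hgz, app_add, app_smul, gE, hgz] at e3
      have f1 : app (g * u' * g⁻¹) (B.Fv 0) = B.Fv 0 := smul_right_injective _ hθ e1
      have f2 : app (g * u' * g⁻¹) (B.E 0) = B.E 0 + (φ θ * K.bar (φ a')) • B.z -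
          (φ b' * (φ θ * φ θ)) • B.Fv 0 := by
        have := congrArg (fun x => (-(φ θ)) • x) e2
        simp only [smul_smul] at this
        rw [show -φ θ * -(φ θ)⁻¹ = 1 by field_simp, one_smul] at this
        rw [this]
        match_scalars <;> field_simp
      simp only [hvec, Ops.stepV, app_add, app_smul, f1, f2, e3, hφ.add, hφ.mul, hφ.neg, hφ.bar]
      module
  have hinv : IsSg K u⁻¹ (B.E 0) ((-K.bar (φ (o.neg a))) • B.z) (φ (o.bar b)) := by
    have := sg_inv K hu
    rw [hφ.neg, hφ.bar, map_neg]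
    convert this using 1
    module
  have hv_inv : v⁻¹ = g * u⁻¹ * g⁻¹ := by simp [v, mul_assoc]
  have hlet : ∀ l, ∃ x ∈ M, ∀ y, app x (vec y) = vec (o.step θ a b l y) := by
    intro l
    rcases l with ⟨_ | _, _ | _⟩
    · exact ⟨u, huM, (hU hu).1⟩
    · exact ⟨u⁻¹, inv_mem huM, (hU hinv).1⟩
    · exact ⟨v, hvM, (hU hu).2⟩
    · exact ⟨v⁻¹, inv_mem hvM, hv_inv ▸ (hU hinv).2⟩
  have hword : ∀ w, ∃ x ∈ M, ∀ y, app x (vec y) = vec (o.run θ a b w y) := by
    intro w
    induction w with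
    | nil => exact ⟨1, one_mem _, fun y => app_one _⟩
    | cons l w ih =>
      obtain ⟨x, hx, hx'⟩ := ih
      obtain ⟨x₀, hx₀, hx₀'⟩ := hlet l
      exact ⟨x₀ * x, mul_mem hx₀ hx, fun y => by rw [app_mul, hx', hx₀']; rfl⟩
  obtain ⟨h, hhM, hh⟩ := hword w
  have hhe : app h (B.E 0) = φ r • B.E 0 := by
    have := hh (o.one, o.zero, o.zero)
    simp only [hvec, hr, hr1, hr2, hφ.one, hφ.zero, zero_smul, add_zero, one_smul] at this
    exact this
  obtain ⟨γ, hhz⟩ : ∃ γ, app h B.z = φ σ • B.z + γ • B.E 0 := by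
    have := hh (o.zero, o.one, o.zero)
    simp only [hvec, hs1, hs2, hφ.one, hφ.zero, zero_smul, add_zero, zero_add, one_smul] at this
    exact ⟨_, this.trans (add_comm _ _)⟩
  have hE := B.ee 0 0
  set L : Set F := {l | l • B.z ∈ pars K M hE}
  have hL1 : -K.bar (φ a) ∈ L := ⟨u, huM, φ b, hu⟩
  let S : Subring F :=
    { carrier := {s | ∀ l ∈ L, s * l ∈ L}
      mul_mem' := fun {x y} hx hy l hl => by rw [mul_assoc]; exact hx _ (hy l hl)
      one_mem' := fun l hl => by rwa [one_mul]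
      add_mem' := fun {x y} hx hy l hl => by
        show ((x + y) * l) • B.z ∈ pars K M hE
        rw [add_mul, add_smul]
        exact (pars K M hE).add_mem (hx l hl) (hy l hl)
      zero_mem' := fun l _ => by
        show ((0 : F) * l) • B.z ∈ pars K M hE
        rw [zero_mul, zero_smul]; exact (pars K M hE).zero_mem
      neg_mem' := fun {x} hx l hl => by
        show ((-x) * l) • B.z ∈ pars K M hE
        rw [neg_mul, neg_smul]
        exact (pars K M hE).neg_mem (hx l hl) }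
  have hmS : φ (o.mul (o.bar r) σ) ∈ S := by
    intro l ⟨x, hx, s, hxs⟩
    have h1 := sg_conj K hxs h
    rw [app_smul, hhz, hhe] at h1
    have h2 := sg_smul K (φ r) h1 hE (by
      simp [h_smul_left K, h_add_left K, B.ze, B.ee])
    have h3 : K.bar (φ r) • (l • (φ σ • B.z + γ • B.E 0)) ∈ pars K M hE :=
      ⟨_, mul_mem (mul_mem hhM hx) (inv_mem hhM), _, h2⟩
    have h4 := (pars K M hE).sub_mem h3 (smul_self_mem_pars K hE (K.bar (φ r) * l * γ))
    show _ • B.z ∈ pars K M hE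
    convert h4 using 1
    rw [hφ.mul, hφ.bar]
    module
  let L' : Subfield F :=
    { S with
      inv_mem' := fun x hx => by
        cases nonempty_fintype F
        rcases eq_or_ne x 0 with rfl | h0
        · rw [_root_.inv_zero]; exact S.zero_mem
        · have h1 := FiniteField.pow_card_sub_one_eq_one x h0
          have h2 : 2 ≤ Fintype.card F := Fintype.one_lt_card
          rw [show Fintype.card F - 1 = Fintype.card F - 2 + 1 by omega, pow_succ] at h1
          rw [← eq_inv_of_mul_eq_one_left h1]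
          exact S.pow_mem hx _ }
  have htop := subfield_top_of_moved K hp hqp L' _ hmS hne
  have hall : ∀ l : F, l ∈ L := fun l => by
    have : l / (-K.bar (φ a)) ∈ L' := htop ▸ Subfield.mem_top _
    have h1 := (show l / (-K.bar (φ a)) ∈ S from this) _ hL1
    rwa [div_mul_cancel₀ _ (neg_ne_zero.2 ((map_ne_zero K.bar).2 ha))] at h1
  refine eq_top_of_elations K hE le_rfl (fun h => by omega)
    (all_T K hE (x := B.z) (y := B.z) hall
      (by have := hall 1; change (1 : F) • B.z ∈ pars K M hE at this; rwa [one_smul] at this)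
      (by rw [B.zz]; exact one_ne_zero))
    (fun x hxe => ?_) hvM ?_
  · rw [expand₁ K B x, hxe, zero_smul, add_zero, add_comm]
    exact (pars K M hE).add_mem (hall _) (smul_self_mem_pars K hE _)
  · have := (hU hu).2 (o.one, o.zero, o.zero)
    simp only [hvec, Ops.stepV, hφ.one, hφ.zero, hφ.add, hφ.mul, hφ.neg, hφ.bar, zero_smul, add_zero,
      one_smul, mul_zero, zero_add, mul_one] at this
    rw [this]
    simp [h_add_left K, h_smul_left K, h_neg_left K, B.ee, B.ze, B.fe 0 0 one_pos one_pos, hb, hθ]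

/-- `ZMod p` adjoined a square root of `c`. -/
def quadOps (p : ℕ) (c : ZMod p) : Ops (ZMod p × ZMod p) where
  add x y := (x.1 + y.1, x.2 + y.2)
  mul x y := (x.1 * y.1 + c * x.2 * y.2, x.1 * y.2 + x.2 * y.1)
  neg x := (-x.1, -x.2)
  bar x := (x.1, -x.2)
  zero := (0, 0)
  one := (1, 0)

/-- The transfer for a prime `q`. -/
theorem two_gen_prime (K : Unitary.Conj F q) (B : HB 1 3 q F) [hqp : Fact q.Prime] (h3 : 3 ≤ q)
    (c : ZMod q) (hc : c ^ (q / 2) = -1) (a b r σ : ZMod q × ZMod q) (w : List (Bool × Bool))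
    (hcert : (quadOps q c).Cert (0, 1) a b w r σ) (ha : a ≠ 0) (hb : b ≠ 0)
    (hm : ((quadOps q c).mul ((quadOps q c).bar r) σ).2 ≠ 0) :
    ∃ v g : SU 3 F q, (IsNilpotent ((v.1 : Matrix (Fin 3) (Fin 3) F) - 1) ∧
      ((v.1 : Matrix (Fin 3) (Fin 3) F) - 1) ^ (3 - 1) ≠ 0) ∧
      Subgroup.closure ({v, g * v * g⁻¹} : Set (SU 3 F q)) = ⊤ := by
  cases nonempty_fintype F
  obtain ⟨p, hp⟩ := CharP.exists F
  have hpq : p = q := by
    obtain ⟨f, hpp, hF⟩ := FiniteField.card F p
    rw [← Nat.card_eq_fintype_card, K.card] at hF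
    exact ((Nat.prime_dvd_prime_iff_eq hqp.out hpp).1
      (hqp.out.dvd_of_dvd_pow (hF ▸ dvd_pow_self q two_ne_zero))).symm
  subst hpq
  set ι := ZMod.castHom (dvd_refl p) F
  have hodd : Odd p := hqp.out.odd_of_ne_two (by omega)
  have h2 : (2 : F) ≠ 0 := fun h => by
    have := (CharP.cast_eq_zero_iff F p 2).1 (by exact_mod_cast h)
    have := Nat.le_of_dvd two_pos this
    omega
  have hc0 : c ≠ 0 := fun h => by
    rw [h, zero_pow (by omega)] at hc
    exact one_ne_zero (neg_eq_zero.1 hc.symm)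
  obtain ⟨s, hs⟩ : IsSquare (ι c) := by
    refine (FiniteField.isSquare_iff (fun h => h2 (by
      have := ringChar.Nat.cast_ringChar (R := F)
      rw [h] at this
      exact_mod_cast this)) ((map_ne_zero ι).2 hc0)).2 ?_
    rw [← map_pow, ← Nat.card_eq_fintype_card, K.card]
    obtain ⟨k, hk⟩ := hodd
    have e : p ^ 2 / 2 = (p - 1) * (k + 1) := by
      rw [hk, Nat.add_sub_cancel,
        show (2 * k + 1) ^ 2 = 1 + 2 * (2 * k * (k + 1)) by ring, Nat.add_mul_div_left _ _ two_pos]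
      simp
    rw [e, pow_mul, ZMod.pow_card_sub_one_eq_one hc0, one_pow, map_one]
  have hs0 : s ≠ 0 := fun h => hc0 ((map_eq_zero ι).1 (by rw [hs, h, mul_zero]))
  have hbs : K.bar s = -s := by
    rw [K.bar_apply]
    obtain ⟨k, hk⟩ := hodd
    calc s ^ p = (s * s) ^ k * s := by rw [hk, pow_add, pow_mul, pow_one, sq]
      _ = ι (c ^ (p / 2)) * s := by
        rw [← hs, map_pow, show p / 2 = k by omega]
      _ = -s := by rw [hc, map_neg, map_one, neg_one_mul]
  have hbι : ∀ x, K.bar (ι x) = ι x := fun x => by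
    rw [K.bar_apply, ← map_pow, ZMod.pow_card]
  set φ : ZMod p × ZMod p → F := fun x => ι x.1 + ι x.2 * s with hφ
  have hI : Interp (quadOps p c) K φ := by
    refine ⟨fun x y => ?_, fun x y => ?_, fun x => ?_, fun x => ?_, ?_, ?_⟩
    · simp only [hφ, quadOps, map_add]; ring
    · simp only [hφ, quadOps, map_add, map_mul, hs]; ring
    · simp only [hφ, quadOps, map_neg]; ring
    · simp only [hφ, quadOps, map_add, map_mul, map_neg, hbι, hbs]; ring
    · simp [hφ, quadOps]
    · simp [hφ, quadOps]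
  have hinj : ∀ x, φ x = 0 → x = 0 := fun x hx => by
    have h1 := congrArg K.bar hx
    simp only [hφ, map_add, map_mul, hbι, hbs, map_zero] at h1
    simp only [hφ] at hx
    have e2 : ι x.2 = 0 := by
      have : (2 * s) * ι x.2 = 0 := by linear_combination hx - h1
      exact (mul_eq_zero.1 this).resolve_left (mul_ne_zero h2 hs0)
    have e1 : ι x.1 = 0 := by rwa [e2, zero_mul, add_zero] at hx
    exact Prod.ext ((map_eq_zero ι).1 e1) ((map_eq_zero ι).1 e2)
  refine two_gen_of_cert K B hI h3 hqp.out (pow_one p).symm (0, 1) a b w r σ hcert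
    (fun h => ha (hinj _ h)) (fun h => hb (hinj _ h)) (by simpa [hφ] using hs0) fun i hi hid => ?_
  obtain rfl : i = 1 := by
    rcases Nat.lt_or_ge i 1 with h | h
    · obtain rfl : i = 0 := by omega
      simp at hid
    · omega
  intro h
  rw [pow_one, ← K.bar_apply, ← hI.bar] at h
  set x := (quadOps p c).mul ((quadOps p c).bar r) σ
  simp only [hφ, quadOps, map_neg] at h
  have : (2 * s) * ι x.2 = 0 := by linear_combination -h
  exact hm ((map_eq_zero ι).1 ((mul_eq_zero.1 this).resolve_left (mul_ne_zero h2 hs0)))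

/-- The field with `8` elements as triples of bits, adjoined a primitive cube root of one. -/
def octOps : Ops ((ZMod 2 × ZMod 2 × ZMod 2) × (ZMod 2 × ZMod 2 × ZMod 2)) where
  add x y := (x.1 + y.1, x.2 + y.2)
  mul x y :=
    let m := fun (a b : ZMod 2 × ZMod 2 × ZMod 2) =>
      ((a.1 * b.1 + a.2.1 * b.2.2 + a.2.2 * b.2.1,
        a.1 * b.2.1 + a.2.1 * b.1 + a.2.1 * b.2.2 + a.2.2 * b.2.1 + a.2.2 * b.2.2,
        a.1 * b.2.2 + a.2.1 * b.2.1 + a.2.2 * b.1 + a.2.2 * b.2.2) : ZMod 2 × ZMod 2 × ZMod 2)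
    (m x.1 y.1 + m x.2 y.2, m x.1 y.2 + m x.2 y.1 + m x.2 y.2)
  neg x := x
  bar x := (x.1 + x.2, x.2)
  zero := (0, 0)
  one := ((1, 0, 0), 0)

/-- The case `q = 8`. -/
theorem two_gen_eight (K : Unitary.Conj F 8) (B : HB 1 3 8 F) :
    ∃ v g : SU 3 F 8, (IsNilpotent ((v.1 : Matrix (Fin 3) (Fin 3) F) - 1) ∧
      ((v.1 : Matrix (Fin 3) (Fin 3) F) - 1) ^ (3 - 1) ≠ 0) ∧
      Subgroup.closure ({v, g * v * g⁻¹} : Set (SU 3 F 8)) = ⊤ := by
  cases nonempty_fintype F
  obtain ⟨p, hp⟩ := CharP.exists F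
  have hp2 : p = 2 := by
    obtain ⟨f, hpp, hF⟩ := FiniteField.card F p
    rw [← Nat.card_eq_fintype_card, K.card] at hF
    have h2 : 2 ∣ p ^ (f : ℕ) := hF ▸ by norm_num
    exact ((Nat.prime_dvd_prime_iff_eq Nat.prime_two hpp).1 (Nat.prime_two.dvd_of_dvd_pow h2)).symm
  subst hp2
  have h2 : (2 : F) = 0 := CharTwo.two_eq_zero
  obtain ⟨g, hg⟩ := IsCyclic.exists_ofOrder_eq_natCard (α := Fˣ)
  rw [Nat.card_units, K.card] at hg
  norm_num at hg
  have hord : ∀ i, 0 < i → i < 63 → (g : F) ^ i ≠ 1 := fun i hi hi' h => by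
    have := Nat.le_of_dvd hi (orderOf_dvd_of_pow_eq_one (x := g) (n := i) (Units.ext (by simpa using h)))
    omega
  have h63 : (g : F) ^ 63 = 1 := by
    have := congrArg Units.val (hg ▸ pow_orderOf_eq_one g)
    simpa using this
  obtain ⟨γ, hγ, hγ7⟩ : ∃ γ : F, γ ^ 3 + γ + 1 = 0 ∧ γ ^ 8 = γ := by
    set G : F := (g : F) ^ 9 with hG
    have hG7 : G ^ 7 = 1 := by rw [hG, ← pow_mul, h63]
    have hG1 : G ≠ 1 := hord 9 (by norm_num) (by norm_num)
    have hG0 : G ≠ 0 := pow_ne_zero _ g.ne_zero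
    have e : (G - 1) * ((G ^ 3 + G + 1) * (G ^ 3 + G ^ 2 + 1)) = 0 := by
      linear_combination hG7 + (G ^ 4 - G ^ 3) * h2
    rcases mul_eq_zero.1 ((mul_eq_zero.1 e).resolve_left (sub_ne_zero.2 hG1)) with h | h
    · exact ⟨G, h, by rw [pow_succ, hG7, one_mul]⟩
    · refine ⟨G⁻¹, ?_, by rw [pow_succ, inv_pow, hG7, inv_one, one_mul]⟩
      field_simp
      linear_combination h
  obtain ⟨ω, hω⟩ : ∃ ω : F, ω * ω + ω + 1 = 0 := by
    refine ⟨(g : F) ^ 21, (mul_eq_zero.1 (show ((g : F) ^ 21 - 1) *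
      ((g : F) ^ 21 * (g : F) ^ 21 + (g : F) ^ 21 + 1) = 0 by linear_combination h63)).resolve_left
      (sub_ne_zero.2 (hord 21 (by norm_num) (by norm_num)))⟩
  have hbγ : K.bar γ = γ := by rw [K.bar_apply, hγ7]
  have hbω : K.bar ω = ω + 1 := by
    have h3 : ω ^ 3 = 1 := by linear_combination (ω - 1) * hω
    rw [K.bar_apply, show ω ^ 8 = (ω ^ 3) ^ 2 * (ω * ω) by ring, h3]
    linear_combination hω - (ω + 1) * h2
  set ι := ZMod.castHom (dvd_refl 2) F
  set ψ : ZMod 2 × ZMod 2 × ZMod 2 → F := fun a => ι a.1 + ι a.2.1 * γ + ι a.2.2 * γ ^ 2 with hψ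
  set φ : (ZMod 2 × ZMod 2 × ZMod 2) × (ZMod 2 × ZMod 2 × ZMod 2) → F :=
    fun x => ψ x.1 + ψ x.2 * ω with hφ
  have hbι : ∀ x, K.bar (ι x) = ι x := fun x => by
    obtain rfl | rfl : x = 0 ∨ x = 1 := by revert x; decide
    · simp
    · simp
  have hI : Interp octOps K φ := by
    refine ⟨fun x y => ?_, fun x y => ?_, fun x => ?_, fun x => ?_, ?_, ?_⟩
    · simp only [hφ, hψ, octOps, Prod.fst_add, Prod.snd_add, map_add]; ring
    · simp only [hφ, hψ, octOps, Prod.fst_add, Prod.snd_add, map_add, map_mul]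
      linear_combination (norm := skip)
        -((ι x.1.2.1 + ι x.2.2.1 * ω) * (ι y.1.2.2 + ι y.2.2.2 * ω) +
            (ι x.1.2.2 + ι x.2.2.2 * ω) * (ι y.1.2.1 + ι y.2.2.1 * ω) +
            (ι x.1.2.2 + ι x.2.2.2 * ω) * (ι y.1.2.2 + ι y.2.2.2 * ω) * γ) * hγ -
          ((ι x.2.1 * ι y.2.1 + ι x.2.2.1 * ι y.2.2.2 + ι x.2.2.2 * ι y.2.2.1) +
            (ι x.2.1 * ι y.2.2.1 + ι x.2.2.1 * ι y.2.1 + ι x.2.2.1 * ι y.2.2.2 +
              ι x.2.2.2 * ι y.2.2.1 + ι x.2.2.2 * ι y.2.2.2) * γ +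
            (ι x.2.1 * ι y.2.2.2 + ι x.2.2.1 * ι y.2.2.1 + ι x.2.2.2 * ι y.2.1 +
              ι x.2.2.2 * ι y.2.2.2) * γ ^ 2) * hω
      ring_nf
      simp [h2]
    · simp only [hφ, octOps]
      linear_combination (ψ x.1 + ψ x.2 * ω) * h2
    · simp only [hφ, hψ, octOps, Prod.fst_add, Prod.snd_add, map_add, map_mul, map_pow, hbι, hbγ, hbω]
      ring
    · simp [hφ, hψ, octOps]
    · simp [hφ, hψ, octOps]
  have hnz : ∀ x y, octOps.mul x y = octOps.one → φ x ≠ 0 := fun x y e h => by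
    have := congrArg φ e
    rw [hI.mul, hI.one, h, zero_mul] at this
    exact zero_ne_one this
  refine two_gen_of_cert K B hI (by norm_num) Nat.prime_two (f := 3) (by norm_num)
    ((1, 0, 0), 0) ((0, 1, 0), 0) ((1, 0, 0), (0, 0, 1))
    [(true, true), (false, false), (true, true), (false, true), (true, false), (false, false),
      (true, false)]
    ((1, 1, 0), (0, 1, 1)) ((0, 0, 1), (0, 1, 1)) (by decide +kernel)
    (hnz _ ((1, 0, 1), 0) (by decide +kernel))
    (hnz _ ((1, 1, 0), (1, 0, 1)) (by decide +kernel))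
    (hnz _ ((1, 0, 0), 0) (by decide +kernel)) fun i hi hid => ?_
  have hm : φ (octOps.mul (octOps.bar ((1, 1, 0), (0, 1, 1))) ((0, 0, 1), (0, 1, 1))) = γ ^ 2 * ω := by
    rw [show octOps.mul (octOps.bar ((1, 1, 0), (0, 1, 1))) ((0, 0, 1), (0, 1, 1)) =
      (0, (0, 0, 1)) by decide +kernel]
    simp [hφ, hψ]
  rw [hm]
  have hγ0 : γ ≠ 0 := fun h => by simp [h] at hγ
  have hω0 : ω ≠ 0 := fun h => by simp [h] at hω
  intro h
  have hpw : (γ ^ 2 * ω) ^ (2 ^ i - 1) = 1 := by
    have hi1 : 1 ≤ 2 ^ i := Nat.one_le_two_pow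
    refine mul_right_cancel₀ (mul_ne_zero (pow_ne_zero 2 hγ0) hω0) ?_
    rw [← pow_succ, Nat.sub_add_cancel hi1, h, one_mul]
  have h3 : ω ^ 3 = 1 := by linear_combination (ω - 1) * hω
  have h7 : γ ^ 7 = 1 := mul_right_cancel₀ hγ0 (by rw [← pow_succ, hγ7, one_mul])
  have hd : i = 1 ∨ i = 2 ∨ i = 3 := by
    interval_cases i <;> norm_num at hid <;> norm_num
  rcases hd with rfl | rfl | rfl
  · norm_num at hpw
    have h4 : (γ ^ 2) ^ 3 = 1 := by
      have := congrArg (· ^ 3) hpw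
      simp only [mul_pow, h3, mul_one, one_pow] at this
      exact this
    have h5 : γ = 1 := by linear_combination h7 - γ * h4
    rw [h5] at hγ
    exact one_ne_zero (α := F) (by linear_combination hγ - h2)
  · norm_num at hpw
    rw [mul_pow, h3, mul_one] at hpw
    have h5 : γ = 1 := by linear_combination h7 - γ * hpw
    rw [h5] at hγ
    exact one_ne_zero (α := F) (by linear_combination hγ - h2)
  · norm_num at hpw
    rw [mul_pow, ← pow_mul, show 2 * 7 = 7 * 2 by norm_num, pow_mul, h7, one_pow, one_mul,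
      show (7 : ℕ) = 3 * 2 + 1 by norm_num, pow_succ, pow_mul, h3, one_pow, one_mul] at hpw
    rw [hpw] at hω
    exact one_ne_zero (α := F) (by linear_combination hω - h2)

theorem fact_prime_3 : Fact (Nat.Prime 3) := ⟨by norm_num⟩

local instance : Fact (Nat.Prime 3) := fact_prime_3

theorem fact_prime_5 : Fact (Nat.Prime 5) := ⟨by norm_num⟩

local instance : Fact (Nat.Prime 5) := fact_prime_5

theorem fact_prime_11 : Fact (Nat.Prime 11) := ⟨by norm_num⟩

local instance : Fact (Nat.Prime 11) := fact_prime_11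

theorem fact_prime_17 : Fact (Nat.Prime 17) := ⟨by norm_num⟩

local instance : Fact (Nat.Prime 17) := fact_prime_17

/-- Two conjugate regular unipotents generate `SU_3(q)`, `q ≥ 3`. -/
theorem two_gen_all (K : Unitary.Conj F q) (B : HB 1 3 q F) (hq : 3 ≤ q) :
    ∃ v g : SU 3 F q, (IsNilpotent ((v.1 : Matrix (Fin 3) (Fin 3) F) - 1) ∧
      ((v.1 : Matrix (Fin 3) (Fin 3) F) - 1) ^ (3 - 1) ≠ 0) ∧
      Subgroup.closure ({v, g * v * g⁻¹} : Set (SU 3 F q)) = ⊤ := by
  by_cases hex : q ≠ 3 ∧ q ≠ 5 ∧ q ≠ 8 ∧ q ≠ 11 ∧ q ≠ 17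
  · exact two_gen B K hq hex
  simp only [ne_eq, not_and_or, not_not] at hex
  rcases hex with rfl | rfl | rfl | rfl | rfl
  · exact two_gen_prime K B hq 2 (by decide +kernel) (1, 0) (1, 1) (2, 1) (0, 1)
      [(true, false), (false, false), (true, true), (false, false), (true, true)]
      (by decide +kernel) (by decide +kernel) (by decide +kernel) (by decide +kernel)
  · exact two_gen_prime K B hq 2 (by decide +kernel) (1, 0) (2, 1) (1, 3) (3, 3)
      [(true, true), (false, false), (true, false), (true, false)]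
      (by decide +kernel) (by decide +kernel) (by decide +kernel) (by decide +kernel)
  · exact two_gen_eight K B
  · exact two_gen_prime K B hq 2 (by decide +kernel) (0, 2) (4, 4) (3, 1) (0, 7)
      [(true, true), (false, true), (true, true), (true, true), (false, false), (true, true)]
      (by decide +kernel) (by decide +kernel) (by decide +kernel) (by decide +kernel)
  · exact two_gen_prime K B hq 3 (by decide +kernel) (0, 1) (10, 5) (2, 15) (15, 16)
      [(true, false), (false, false), (true, true), (false, false), (false, false), (false, false),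
        (true, false)]
      (by decide +kernel) (by decide +kernel) (by decide +kernel) (by decide +kernel)

end CfsgLib.Classical.URegGen
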