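import Cfsg.Agent.Lib.Classical.UnitaryRegGen

set_option autoImplicit false

/-!
`SU_3(q)` is generated by two conjugate regular unipotent elements, outside five small fields.
-/

namespace CfsgLib.Classical.URegGen

open Matrix Cfsg CfsgLib.Classical.Herm CfsgLib.Classical.Elation
open CfsgLib.ClassicalAut (Unitary.Conj Unitary.space Unitary.herm_apply)

variable {F : Type*} [Field F] [Finite F] {q : ℕ} {n : ℕ} (B : HB 1 n q F)

theorem app_zero (g : SU n F q) : app g (0 : Fin n → F) = 0 := mulVec_zero _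

theorem expand₁ (K : Unitary.Conj F q) (B : HB 1 n q F) (x : Fin n → F) :
    x = hermForm n F q x (B.Fv 0) • B.E 0 + hermForm n F q x (B.E 0) • B.Fv 0 +
      hermForm n F q x B.z • B.z := by
  rw [← sub_eq_zero]
  refine zero_iff_perp B K (fun j hj => ?_) (fun j hj => ?_) ?_
  · obtain rfl : j = 0 := by omega
    simp only [h_sub_left K, h_add_left K, h_smul_left K, B.ee, B.ze, B.fe 0 0 hj hj, if_pos]
    ring
  · obtain rfl : j = 0 := by omega
    simp only [h_sub_left K, h_add_left K, h_smul_left K, B.ff, B.zf, B.ef K hj hj, if_pos]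
    ring
  · simp only [h_sub_left K, h_add_left K, h_smul_left K, B.ez K, B.fz K, B.zz]
    ring

theorem ext₁ (K : Unitary.Conj F q) (B : HB 1 n q F) {g h : SU n F q}
    (he : app g (B.E 0) = app h (B.E 0)) (hf : app g (B.Fv 0) = app h (B.Fv 0))
    (hz : app g B.z = app h B.z) : g = h := ext_app fun x => by
  rw [expand₁ K B x]
  simp only [app_add, app_smul, he, hf, hz]

theorem exists_sgE (K : Unitary.Conj F q) (B : HB 1 n q F) (hn : 3 ≤ n) {a b : F}
    (hab : a * K.bar a + b + K.bar b = 0) :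
    ∃ g : SU n F q, IsSg K g (B.E 0) ((-K.bar a) • B.z) b :=
  exists_sg K hn (B.ee _ _) (by rw [h_smul_left K, B.ze, mul_zero])
    (by rw [h_smul_left K, h_smul_right K, B.zz, map_neg, K.bar_bar]; linear_combination hab)

theorem exists_sgF (K : Unitary.Conj F q) (B : HB 1 n q F) (hn : 3 ≤ n) {a b : F}
    (hab : a * K.bar a + b + K.bar b = 0) :
    ∃ g : SU n F q, IsSg K g (B.Fv 0) ((-K.bar a) • B.z) b :=
  exists_sg K hn (B.ff _ _) (by rw [h_smul_left K, B.zf, mul_zero])
    (by rw [h_smul_left K, h_smul_right K, B.zz, map_neg, K.bar_bar]; linear_combination hab)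

theorem appE (K : Unitary.Conj F q) (B : HB 1 n q F) {g : SU n F q} {a b : F}
    (hg : IsSg K g (B.E 0) ((-K.bar a) • B.z) b) :
    app g (B.E 0) = B.E 0 ∧ app g (B.Fv 0) = B.Fv 0 - K.bar a • B.z + b • B.E 0 ∧
      app g B.z = B.z + a • B.E 0 := by
  refine ⟨app_self K hg, ?_, ?_⟩
  · rw [app_eq K hg, B.fe 0 0 one_pos one_pos, if_pos rfl, h_smul_right K, B.fz K]
    module
  · rw [app_eq K hg, B.ze, h_smul_right K, B.zz, map_neg, K.bar_bar]
    module

theorem appF (K : Unitary.Conj F q) (B : HB 1 n q F) {g : SU n F q} {a b : F}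
    (hg : IsSg K g (B.Fv 0) ((-K.bar a) • B.z) b) :
    app g (B.Fv 0) = B.Fv 0 ∧ app g (B.E 0) = B.E 0 - K.bar a • B.z + b • B.Fv 0 ∧
      app g B.z = B.z + a • B.Fv 0 := by
  refine ⟨app_self K hg, ?_, ?_⟩
  · rw [app_eq K hg, B.ef K one_pos one_pos, if_pos rfl, h_smul_right K, B.ez K]
    module
  · rw [app_eq K hg, B.zf, h_smul_right K, B.zz, map_neg, K.bar_bar]
    module

theorem param_opp (K : Unitary.Conj F q) {a b : F} (hb : b ≠ 0)
    (hab : a * K.bar a + b + K.bar b = 0) :
    -a / b * K.bar (-a / b) + (K.bar b)⁻¹ + K.bar (K.bar b)⁻¹ = 0 := by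
  have hb' : K.bar b ≠ 0 := (map_ne_zero K.bar).2 hb
  rw [map_div₀, map_neg, map_inv₀, K.bar_bar]
  field_simp
  linear_combination hab

theorem exists_mono (K : Unitary.Conj F q) (B : HB 1 n q F) (hn : 3 ≤ n) {a b : F} (hb : b ≠ 0)
    (hab : a * K.bar a + b + K.bar b = 0) :
    ∃ g : SU n F q, app g (B.E 0) = (K.bar b)⁻¹ • B.Fv 0 ∧ app g (B.Fv 0) = b • B.E 0 ∧
      app g B.z = (-(K.bar b / b)) • B.z := by
  have hb' : K.bar b ≠ 0 := (map_ne_zero K.bar).2 hb
  obtain ⟨x, hx⟩ := exists_sgE K B hn hab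
  obtain ⟨y, hy⟩ := exists_sgF K B hn (param_opp K hb hab)
  obtain ⟨x', hx'⟩ := exists_sgE K B hn (a := a * K.bar b / b) (b := b) (by
    rw [map_div₀, map_mul, K.bar_bar]; field_simp; linear_combination hab)
  obtain ⟨x1, x2, x3⟩ := appE K B hx
  obtain ⟨y1, y2, y3⟩ := appF K B hy
  obtain ⟨z1, z2, z3⟩ := appE K B hx'
  refine ⟨x * y * x', ?_, ?_, ?_⟩
  all_goals
    simp only [app_mul, z1, z2, z3, app_add, app_sub', app_smul, y1, y2, y3, x1, x2, x3]
    simp only [map_div₀, map_mul, map_neg, K.bar_bar]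
  · match_scalars <;> field_simp
    · linear_combination hab
    · ring
  · match_scalars <;> field_simp
    · linear_combination hab
    · linear_combination (-K.bar a) * hab
    · linear_combination hab
  · match_scalars <;> field_simp
    · linear_combination hab
    · linear_combination a * hab
    · ring

/-! ### The plane group -/

/-- A `p`-subgroup of the stabiliser of `z` containing a transvection at `e` fixes its line. -/
theorem line_of_pGroup (K : Unitary.Conj F q) {p : ℕ} [Fact p.Prime] [CharP F p]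
    {e f z : Fin n → F} (hee : hermForm n F q e e = 0) (hff : hermForm n F q f f = 0) (hfe : hermForm n F q f e = 1)
    (hez : hermForm n F q e z = 0) (hfz : hermForm n F q f z = 0)
    (hdec : ∀ x, x = hermForm n F q x f • e + hermForm n F q x e • f + hermForm n F q x z • z)
    {P : Subgroup (SU n F q)} (hP : ∀ g ∈ P, app g z = z) {Q : Subgroup P} (hQ : IsPGroup p Q)
    {T : P} (hTQ : T ∈ Q) {A : F} (hT : IsT K (T : SU n F q) e A) (hA : A ≠ 0) :
    ∀ g ∈ Q, ∃ l : F, app (g : SU n F q) e = l • e := by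
  have : Finite Q := inferInstance
  have hT1 : (⟨T, hTQ⟩ : Q) ≠ 1 := fun h => by
    have h1 : (T : SU n F q) = 1 := congrArg (fun x : Q => ((x : P) : SU n F q)) h
    have h2 := hT.2.2 f
    rw [h1, app_one, hfe, mul_one, left_eq_add, smul_eq_zero] at h2
    rcases h2 with h2 | h2
    · exact hA h2
    · rw [h2, h_zero_right K] at hfe
      exact zero_ne_one hfe
  have : Nontrivial Q := ⟨⟨_, 1, hT1⟩⟩
  have := hQ.center_nontrivial
  obtain ⟨⟨c, hc⟩, hc1⟩ := exists_ne (1 : Subgroup.center Q)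
  obtain ⟨j, hj⟩ := hQ c
  have hcc : ∀ g ∈ Q, (c : P) * g = g * (c : P) := fun g hg =>
    congrArg Subtype.val (Subgroup.mem_center_iff.1 hc ⟨g, hg⟩).symm
  set c' : SU n F q := ((c : P) : SU n F q) with hc'
  have hcz : app c' z = z := hP _ (c : P).2
  have hTc : ∀ x, app (T : SU n F q) (app c' x) = app c' (app (T : SU n F q) x) := fun x => by
    rw [← app_mul, ← app_mul]
    exact congrArg (fun g : P => app (g : SU n F q) x) (hcc _ hTQ).symm
  have hce : hermForm n F q (app c' e) e = 0 := by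
    have h1 := hTc e
    rw [hT.2.2, hT.2.2, hee, mul_zero, zero_smul, add_zero, add_eq_left, smul_eq_zero] at h1
    rcases h1 with h1 | h1
    · exact (mul_eq_zero.1 h1).resolve_left hA
    · rw [h1, h_zero_right K] at hfe
      exact absurd hfe zero_ne_one
  have hcez : hermForm n F q (app c' e) z = 0 := by
    rw [← hcz, h_app, hez]
  set l := hermForm n F q (app c' e) f
  have hl : app c' e = l • e := by
    rw [hdec (app c' e), hce, hcez]; module
  have hl1 : l = 1 := by
    have h1 : ∀ i : ℕ, app (c' ^ i) e = l ^ i • e := by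
      intro i
      induction i with
      | zero => rw [pow_zero, pow_zero, app_one, one_smul]
      | succ i ih => rw [pow_succ', app_mul, ih, app_smul, hl, smul_smul, pow_succ]
    have h2 : c' ^ p ^ j = 1 := by
      have := congrArg (fun x : Q => ((x : P) : SU n F q)) hj
      simpa [hc'] using this
    have h3 := h1 (p ^ j)
    rw [h2, app_one] at h3
    have h4 := congrArg (fun x => hermForm n F q x f) h3
    simp only [h_smul_left K, h_swap K f e, hfe, map_one, mul_one] at h4
    have h5 : l ^ p ^ j = 1 ^ p ^ j := by rw [one_pow]; exact h4.symm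
    exact iterateFrobenius_inj F p j (by simpa [iterateFrobenius_def] using h5)
  rw [hl1, one_smul] at hl
  set α := hermForm n F q (app c' f) f
  have hcf : app c' f = α • e + f := by
    have e1 : hermForm n F q (app c' f) e = 1 := by rw [← hl, h_app, hfe]
    have e2 : hermForm n F q (app c' f) z = 0 := by rw [← hcz, h_app, hfz]
    conv_lhs => rw [hdec (app c' f), e1, e2]
    module
  have hα : α ≠ 0 := fun h0 => hc1 (by
    have : c' = 1 := ext_app fun x => by
      rw [app_one, hdec x]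
      simp only [app_add, app_smul, hl, hcf, hcz, h0, zero_smul, zero_add]
    exact Subtype.ext (Subtype.ext (Subtype.ext this)))
  intro g hg
  have hgc : app c' (app (g : SU n F q) e) = app (g : SU n F q) e := by
    have hh := congrArg (fun g : P => (g : SU n F q)) (hcc g hg)
    simp only [Subgroup.coe_mul] at hh
    rw [← app_mul, hh, app_mul, hl]
  refine ⟨hermForm n F q (app (g : SU n F q) e) f, ?_⟩
  have hgz : hermForm n F q (app (g : SU n F q) e) z = 0 := by
    rw [← hP _ g.2, h_app, hez]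
  set w := app (g : SU n F q) e
  conv at hgc =>
    lhs
    rw [hdec w, hgz, app_add, app_add, app_smul, app_smul, app_smul, hl, hcf, hcz]
  have h1 := congrArg (fun x => hermForm n F q x f) hgc
  simp only [h_add_left K, h_smul_left K, h_swap K f e, hfe, map_one, mul_one, zero_mul, add_zero,
    mul_add] at h1
  have hwe : hermForm n F q w e = 0 := by
    rw [hff, mul_zero, add_zero] at h1
    have : hermForm n F q w e * α = 0 := by linear_combination h1
    exact (mul_eq_zero.1 this).resolve_right hα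
  conv_lhs => rw [hdec w, hwe, hgz]
  module

/-- The plane group maps the line of `e` to the line of `f`, by a skew scalar. -/
theorem exists_turn (K : Unitary.Conj F q) (B : HB 1 n q F) {Te Tf : SU n F q} {A A' : F}
    (hTe : IsT K Te (B.E 0) A) (hA : A ≠ 0) (hTf : IsT K Tf (B.Fv 0) A') (hA' : A' ≠ 0) :
    ∃ g ∈ Subgroup.closure ({Te, Tf} : Set (SU n F q)), ∃ μ : F, μ + K.bar μ = 0 ∧ μ ≠ 0 ∧
      app g (B.E 0) = μ • B.Fv 0 ∧ app g B.z = B.z := by
  obtain ⟨p, hp⟩ := CharP.exists F
  have := Fact.mk (CharP.char_is_prime F p)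
  set P := Subgroup.closure ({Te, Tf} : Set (SU n F q))
  have hPz : ∀ g ∈ P, app g B.z = B.z := by
    intro g hg
    induction hg using Subgroup.closure_induction with
    | mem x hx =>
      rcases hx with rfl | rfl
      · rw [hTe.2.2, B.ze, mul_zero, zero_smul, add_zero]
      · rw [hTf.2.2, B.zf, mul_zero, zero_smul, add_zero]
    | one => exact app_one _
    | mul x y _ _ hx hy => rw [app_mul, hy, hx]
    | inv x _ hx => conv_lhs => rw [← hx, app_inv]
  set eP : P := ⟨Te, Subgroup.subset_closure (by simp)⟩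
  set fP : P := ⟨Tf, Subgroup.subset_closure (by simp)⟩
  have hpg : ∀ (T : P) (v : Fin n → F) (c : F), IsT K (T : SU n F q) v c →
      IsPGroup p (Subgroup.zpowers T) := by
    intro T v c hT
    refine IsPGroup.iff_card.2 ?_
    have h1 : ∀ i : ℕ, ∀ x, app ((T : SU n F q) ^ i) x = x + ((i : F) * (c * hermForm n F q x v)) • v := by
      intro i
      induction i with
      | zero => intro x; rw [pow_zero, app_one, Nat.cast_zero, zero_mul, zero_smul, add_zero]
      | succ i ih =>
        intro x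
        rw [pow_succ', app_mul, ih, hT.2.2, h_add_left K, h_smul_left K, hT.1]
        push_cast
        module
    have h2 : T ^ p = 1 := Subtype.ext (ext_app fun x => by
      rw [Subgroup.coe_pow, h1, CharP.cast_eq_zero F p, zero_mul, zero_smul, add_zero,
        Subgroup.coe_one, app_one])
    rw [Nat.card_zpowers]
    rcases (Nat.dvd_prime Fact.out).1 (orderOf_dvd_of_pow_eq_one h2) with h | h <;> rw [h]
    · exact ⟨0, (pow_zero p).symm⟩
    · exact ⟨1, (pow_one p).symm⟩
  obtain ⟨Q₁, hQ₁⟩ := (hpg eP _ _ hTe).exists_le_sylow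
  obtain ⟨Q₂, hQ₂⟩ := (hpg fP _ _ hTf).exists_le_sylow
  obtain ⟨g, hg⟩ := MulAction.exists_smul_eq P Q₁ Q₂
  have hfe : hermForm n F q (B.Fv 0) (B.E 0) = 1 := by rw [B.fe 0 0 one_pos one_pos, if_pos rfl]
  have hline := line_of_pGroup K (B.ee 0 0) (B.ff 0 0) hfe (B.ez K 0) (B.fz K 0) (expand₁ K B) hPz
    Q₁.isPGroup' (hQ₁ (Subgroup.mem_zpowers eP)) hTe hA
  have hgz := hPz _ g.2
  have hy : g⁻¹ * fP * g ∈ (Q₁ : Subgroup P) := by
    have h1 : fP ∈ ((g • Q₁ : Sylow p P) : Subgroup P) := by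
      rw [hg]; exact hQ₂ (Subgroup.mem_zpowers fP)
    rw [Sylow.coe_subgroup_smul, Subgroup.mem_pointwise_smul_iff_inv_smul_mem] at h1
    simpa [MulAut.smul_def, mul_assoc] using h1
  obtain ⟨l, hl⟩ := hline _ hy
  set w := app (g : SU n F q) (B.E 0)
  have hw : app Tf w = l • w := by
    have h1 := congrArg (app (g : SU n F q)) hl
    rw [app_smul, ← app_mul] at h1
    rw [← h1, show app Tf w = app (Tf * (g : SU n F q)) (B.E 0) from (app_mul _ _ _).symm]
    simp [fP, mul_assoc]
  have hwz : hermForm n F q w B.z = 0 := by rw [← hgz, h_app, B.ez K]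
  have hwf : hermForm n F q w (B.Fv 0) = 0 := by
    by_contra hne
    have h1 := congrArg (fun x => hermForm n F q x (B.Fv 0)) hw
    simp only [hTf.2.2, h_add_left K, h_smul_left K, B.ff, mul_zero, add_zero] at h1
    have hl1 : l = 1 := mul_right_cancel₀ hne (by rw [one_mul]; exact h1.symm)
    rw [hl1, one_smul, hTf.2.2, add_eq_left, smul_eq_zero] at hw
    rcases hw with hw | hw
    · exact hne ((mul_eq_zero.1 hw).resolve_left hA')
    · rw [hw, h_zero_left K] at hfe
      exact zero_ne_one hfe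
  set μ := hermForm n F q w (B.E 0) with hμ
  have hwμ : w = μ • B.Fv 0 := by
    conv_lhs => rw [expand₁ K B w, hwf, hwz]
    module
  have hμ0 : μ ≠ 0 := fun h => by
    have : app (g : SU n F q)⁻¹ w = B.E 0 := app_inv _ _
    rw [hwμ, h, zero_smul, app_zero] at this
    rw [← this, h_zero_right K] at hfe
    exact zero_ne_one hfe
  obtain ⟨θ, hθ0, hθ⟩ := exists_skew K
  -- the rational structure of the plane
  have hrat : ∀ x ∈ P, ∀ v : Fin n → F,
      (hermForm n F q v (B.Fv 0) + K.bar (hermForm n F q v (B.Fv 0)) = 0 ∧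
        K.bar (hermForm n F q v (B.E 0)) = hermForm n F q v (B.E 0)) →
      (hermForm n F q (app x v) (B.Fv 0) + K.bar (hermForm n F q (app x v) (B.Fv 0)) = 0 ∧
        K.bar (hermForm n F q (app x v) (B.E 0)) = hermForm n F q (app x v) (B.E 0)) := by
    intro x hx
    induction hx using Subgroup.closure_induction_left with
    | one => intro v hv; rwa [app_one]
    | mul_left a ha b _ ih =>
      intro v hv
      obtain ⟨i1, i2⟩ := ih v hv
      rw [app_mul]
      rcases ha with rfl | rfl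
      · rw [hTe.2.2, h_add_left K, h_add_left K, h_smul_left K, h_smul_left K, B.ee, mul_zero,
          add_zero, B.ef K one_pos one_pos, if_pos rfl, mul_one, map_add, map_mul, i2]
        exact ⟨by linear_combination i1 + hermForm n F q (app b v) (B.E 0) * hTe.2.1, rfl⟩
      · rw [hTf.2.2, h_add_left K, h_add_left K, h_smul_left K, h_smul_left K, B.ff, mul_zero,
          add_zero, hfe, mul_one, map_add, map_mul, i2]
        refine ⟨i1, ?_⟩
        rw [eq_neg_of_add_eq_zero_right i1, eq_neg_of_add_eq_zero_right hTf.2.1]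
        ring
    | inv_mul_cancel a ha b _ ih =>
      intro v hv
      obtain ⟨i1, i2⟩ := ih v hv
      rw [app_mul]
      rcases ha with rfl | rfl
      · rw [app_T_inv K hTe, h_sub_left K, h_sub_left K, h_smul_left K, h_smul_left K, B.ee, mul_zero,
          sub_zero, B.ef K one_pos one_pos, if_pos rfl, mul_one, map_sub, map_mul, i2]
        exact ⟨by linear_combination i1 - hermForm n F q (app b v) (B.E 0) * hTe.2.1, rfl⟩
      · rw [app_T_inv K hTf, h_sub_left K, h_sub_left K, h_smul_left K, h_smul_left K, B.ff, mul_zero,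
          sub_zero, hfe, mul_one, map_sub, map_mul, i2]
        refine ⟨i1, ?_⟩
        rw [eq_neg_of_add_eq_zero_right i1, eq_neg_of_add_eq_zero_right hTf.2.1]
        ring
  have h5 := (hrat _ g.2 (θ • B.E 0) ⟨by
    rw [h_smul_left K, B.ef K one_pos one_pos, if_pos rfl, mul_one, hθ], by
    rw [h_smul_left K, B.ee, mul_zero, map_zero]⟩).2
  rw [app_smul, h_smul_left K, ← hμ, map_mul, eq_neg_of_add_eq_zero_right hθ] at h5
  refine ⟨g, g.2, μ, ?_, hμ0, hwμ, hgz⟩
  exact (mul_eq_zero.1 (show θ * (μ + K.bar μ) = 0 by linear_combination -h5)).resolve_left hθ0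

theorem subfield_eq_top (K : Unitary.Conj F q) (L : Subfield F) (x : Fˣ) (hxL : (x : F) ∈ L)
    (hx1 : x ^ (q + 1) = 1) (hx9 : q + 1 ≤ 9 * orderOf x) (hx2 : 2 < orderOf x)
    (h3 : ¬ 3 ∣ q + 1 → orderOf x = q + 1) (hq8 : q ≠ 8) : L = ⊤ := by
  cases nonempty_fintype F
  obtain ⟨p, hp⟩ := CharP.exists F
  have hpp : p.Prime := CharP.char_is_prime F p
  have := Fact.mk hpp
  obtain ⟨f₂, -, hF⟩ := FiniteField.card F p
  have := Fintype.ofFinite L
  obtain ⟨i, -, hL⟩ := (FiniteField.card L p)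
  rw [← Nat.card_eq_fintype_card] at hF hL
  set r := Nat.card L
  have hxr : orderOf x ∣ r - 1 := by
    refine orderOf_dvd_of_pow_eq_one (Units.ext ?_)
    have h0 : (⟨(x : F), hxL⟩ : L) ≠ 0 := fun h => x.ne_zero (congrArg Subtype.val h)
    have := FiniteField.pow_card_sub_one_eq_one _ h0
    rw [← Nat.card_eq_fintype_card] at this
    simpa [r, Nat.card_eq_fintype_card] using congrArg Subtype.val this
  have hxq : orderOf x ∣ q + 1 := orderOf_dvd_of_pow_eq_one hx1
  have hq2 := K.two_le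
  obtain ⟨d, hd⟩ : ∃ d, q ^ 2 = r ^ d := ⟨_, by rw [← K.card]; exact Module.natCard_eq_pow_finrank (K := L) (V := F)⟩
  have hr1 : 1 < r := Finite.one_lt_card
  by_contra hne
  have hd2 : 2 ≤ d := by
    by_contra hd'
    obtain rfl | rfl : d = 0 ∨ d = 1 := by omega
    · simp at hd; omega
    · refine hne (eq_top_iff.2 fun y _ => ?_)
      obtain ⟨⟨z, hz⟩, rfl⟩ := ((Nat.bijective_iff_injective_and_card (fun y : L => (y : F))).2
        ⟨Subtype.val_injective, by rw [K.card, hd, pow_one]⟩).2 y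
      exact hz
  rcases Nat.even_or_odd d with ⟨d', rfl⟩ | hodd
  · -- the subfield is inside the fixed field
    have hq : q = r ^ d' := Nat.pow_left_injective two_ne_zero (by simpa [← pow_mul, mul_two] using hd)
    have h1 : r - 1 ∣ q - 1 := by
      rw [hq]; simpa using Nat.sub_dvd_pow_sub_pow r 1 d'
    have h2 : orderOf x ∣ 2 := by
      have := Nat.dvd_sub hxq (hxr.trans h1)
      rwa [show q + 1 - (q - 1) = 2 by omega] at this
    have := Nat.le_of_dvd two_pos h2
    omega
  · -- odd degree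
    obtain ⟨r₀, hr₀, hq⟩ : ∃ r₀, r = r₀ ^ 2 ∧ q = r₀ ^ d := by
      obtain ⟨f, -, hqf⟩ := (Nat.dvd_prime_pow hpp).1
        (show q ∣ p ^ (f₂ : ℕ) by rw [← hF, K.card]; exact dvd_pow_self q two_ne_zero)
      have he : 2 * f = i * d := Nat.pow_right_injective hpp.two_le (by
        show p ^ (2 * f) = p ^ ((i : ℕ) * d)
        rw [mul_comm 2 f, pow_mul, ← hqf, pow_mul, ← hL, hd])
      have hi : Even ((i : ℕ)) := by
        have : Even ((i : ℕ) * d) := ⟨f, by omega⟩
        rcases Nat.even_mul.1 this with h | h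
        · exact h
        · exact absurd h (Nat.not_even_iff_odd.2 hodd)
      obtain ⟨i', hi'⟩ := hi
      refine ⟨p ^ i', by rw [hL, hi', ← pow_mul, mul_two], ?_⟩
      rw [hqf, ← pow_mul]
      congr 1
      rw [hi'] at he
      linarith
    have hr2 : 2 ≤ r₀ := by
      by_contra hh
      rw [hr₀] at hr1
      nlinarith
    have hdvd : orderOf x ∣ r₀ + 1 := by
      obtain ⟨d', rfl⟩ := hodd
      have h1 : orderOf x ∣ r₀ ^ (2 * d') - 1 := by
        refine hxr.trans ?_
        rw [hr₀, pow_mul]; simpa using Nat.sub_dvd_pow_sub_pow (r₀ ^ 2) 1 d'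
      have h2 : r₀ * (r₀ ^ (2 * d') - 1) + (r₀ + 1) = q + 1 := by
        have : 1 ≤ r₀ ^ (2 * d') := Nat.one_le_pow _ _ (by omega)
        rw [hq, pow_succ', Nat.mul_sub_one]
        have : r₀ ≤ r₀ * r₀ ^ (2 * d') := Nat.le_mul_of_pos_right _ (by omega)
        omega
      exact (Nat.dvd_add_right (h1.mul_left r₀)).1 (h2 ▸ hxq)
    have hle := Nat.le_of_dvd (by omega) hdvd
    have hd3 : 3 ≤ d := by rcases hodd with ⟨d', rfl⟩; omega
    have hcube : r₀ ^ 3 ≤ q := hq ▸ Nat.pow_le_pow_right (by omega) hd3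
    have hr3 : r₀ ≤ 3 := by
      by_contra hh
      have : 4 ≤ r₀ := by omega
      nlinarith [pow_succ r₀ 2, sq r₀]
    interval_cases r₀
    · -- `q` is an odd power of two
      have hq26 : q ≤ 26 := by omega
      have hd4 : d ≤ 4 := by
        by_contra hh
        have := Nat.pow_le_pow_right (show 1 ≤ 2 by norm_num) (show 5 ≤ d by omega)
        omega
      obtain rfl : d = 3 := by rcases hodd with ⟨d', rfl⟩; omega
      exact hq8 (by rw [hq]; norm_num)
    · have : ¬ 3 ∣ q + 1 := by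
        intro h
        have h' : 3 ∣ q := hq ▸ dvd_pow_self 3 (by omega)
        have := Nat.dvd_sub h h'
        simp at this
      have := h3 this
      omega

theorem order_small (q N : ℕ) (hq : 3 ≤ q) (hex : q ≠ 3 ∧ q ≠ 5 ∧ q ≠ 8 ∧ q ≠ 11 ∧ q ≠ 17)
    (hmul : N * Nat.gcd (q + 1) 9 = q + 1) (hN : N ≤ 2) : False := by
  have hle := Nat.le_of_dvd (by norm_num) (Nat.gcd_dvd_right (q + 1) 9)
  have : q ≤ 17 := by nlinarith
  interval_cases q <;> simp_all [Nat.gcd_def] <;> omega

/-- Two conjugate regular unipotents generate `SU_3(q)`. -/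
theorem two_gen (B : HB 1 3 q F) (K : Unitary.Conj F q) (hq : 3 ≤ q)
    (hex : q ≠ 3 ∧ q ≠ 5 ∧ q ≠ 8 ∧ q ≠ 11 ∧ q ≠ 17) :
    ∃ v g : SU 3 F q, (IsNilpotent ((v.1 : Matrix (Fin 3) (Fin 3) F) - 1) ∧
      ((v.1 : Matrix (Fin 3) (Fin 3) F) - 1) ^ (3 - 1) ≠ 0) ∧
      Subgroup.closure ({v, g * v * g⁻¹} : Set (SU 3 F q)) = ⊤ := by
  cases nonempty_fintype F
  obtain ⟨g₀, hg₀⟩ := IsCyclic.exists_ofOrder_eq_natCard (α := Fˣ)
  rw [Nat.card_units, K.card] at hg₀
  set τ : Fˣ := g₀ ^ (q - 1) with hτ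
  have hsq : q ^ 2 - 1 = (q - 1) * (q + 1) := by
    have := Nat.sq_sub_sq q 1
    rw [one_pow] at this
    rw [this, mul_comm]
  have hτo : orderOf τ = q + 1 := by
    rw [hτ, orderOf_pow_of_dvd (by omega) (by rw [hg₀, hsq]; exact dvd_mul_right _ _), hg₀, hsq,
      Nat.mul_div_cancel_left _ (by omega)]
  have hbarτ : ∀ j : ℕ, K.bar ((g₀ : F) ^ j) = (g₀ : F) ^ j * ((τ ^ j : Fˣ) : F) := fun j => by
    rw [K.bar_apply, hτ, Units.val_pow_eq_pow_val, Units.val_pow_eq_pow_val, ← pow_mul, ← pow_mul,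
      ← pow_add]
    congr 1
    have : j ≤ q * j := Nat.le_mul_of_pos_left _ (by omega)
    rw [Nat.sub_mul, one_mul, mul_comm j q]
    omega
  set t : F := (g₀ : F) with ht
  have ht0 : t ≠ 0 := g₀.ne_zero
  set b : F := t ^ 3 with hb
  have hb0 : b ≠ 0 := pow_ne_zero _ ht0
  have hbb : K.bar b = b * ((τ ^ 3 : Fˣ) : F) := hbarτ 3
  have hb'0 : K.bar b ≠ 0 := (map_ne_zero K.bar).2 hb0
  have hτ12 : τ ^ 12 ≠ 1 := fun h => by
    have h1 := orderOf_dvd_of_pow_eq_one h
    rw [hτo] at h1
    have h2 := Nat.le_of_dvd (by norm_num) h1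
    have : q ≤ 11 := by omega
    interval_cases q <;> omega
  have hηne : ((τ ^ 3 : Fˣ) : F) ^ 4 ≠ 1 := fun h => hτ12 (Units.ext (by
    simpa [← pow_mul] using h))
  -- the two root elements
  obtain ⟨a, ha⟩ := K.exists_norm (-(b + K.bar b)) (by
    rw [map_neg, map_add, K.bar_bar, add_comm])
  have hab : a * K.bar a + b + K.bar b = 0 := by linear_combination ha
  have ha0 : a ≠ 0 := fun h => hηne (by
    have e : b * (1 + ((τ ^ 3 : Fˣ) : F)) = 0 := by
      rw [mul_add, mul_one, ← hbb]
      simp [h] at hab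
      exact hab
    rw [eq_neg_of_add_eq_zero_right ((mul_eq_zero.1 e).resolve_left hb0)]
    norm_num)
  obtain ⟨u, hu⟩ := exists_sgE K B le_rfl hab
  set b' : F := t * K.bar t * K.bar t with hb'
  have ht' : K.bar t ≠ 0 := (map_ne_zero K.bar).2 ht0
  have hb'0' : b' ≠ 0 := mul_ne_zero (mul_ne_zero ht0 ht') ht'
  obtain ⟨a', ha'⟩ := K.exists_norm (-(b' + K.bar b')) (by
    rw [map_neg, map_add, K.bar_bar, add_comm])
  obtain ⟨g, hg1, hg2, hg3⟩ := exists_mono K B le_rfl (a := a') hb'0' (by linear_combination ha')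
  obtain ⟨hn1, hn2⟩ := nilpotent_shape B (u := u) (a := a) (b := b) (K := K) (by
    obtain ⟨h1, h2, h3⟩ := appE K B hu
    exact ⟨h1, fun j hj => absurd hj (by omega), fun j hj => absurd hj (by omega), h2, h3⟩)
    one_pos ha0
  refine ⟨u, g, ⟨hn1, hn2⟩, ?_⟩
  set v := g * u * g⁻¹
  set c : F := -a / b with hc
  have hv : IsSg K v (B.Fv 0) ((-K.bar c) • B.z) (K.bar b)⁻¹ := by
    have h1 := sg_conj K hu g
    rw [hg1, app_smul, hg3, smul_smul] at h1
    have h2 := sg_smul K (K.bar b')⁻¹ h1 (B.ff _ _) (by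
      rw [h_smul_left K, B.zf, mul_zero])
    convert h2 using 1
    · rw [smul_smul]
      congr 1
      rw [hc, map_div₀, map_neg, map_inv₀, K.bar_bar, hb', hb]
      simp only [map_mul, map_pow, K.bar_bar]
      field_simp
    · rw [map_inv₀, K.bar_bar, hb', hb]
      simp only [map_mul, map_pow, K.bar_bar]
      field_simp
  set M := Subgroup.closure ({u, v} : Set (SU 3 F q))
  have huM : u ∈ M := Subgroup.subset_closure (by simp)
  have hvM : v ∈ M := Subgroup.subset_closure (by simp)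
  -- `u v` turns `e` to `f`
  set m := u * v with hm
  have hmM : m ∈ M := mul_mem huM hvM
  obtain ⟨u1, u2, u3⟩ := appE K B hu
  obtain ⟨v1, v2, v3⟩ := appF K B hv
  have hme : app m (B.E 0) = (K.bar b)⁻¹ • B.Fv 0 := by
    rw [hm, app_mul, v2, app_add, app_sub', app_smul, app_smul, u1, u2, u3, hc, map_div₀, map_neg]
    match_scalars <;> field_simp
    · linear_combination hab
    · ring
  have hmz : app m B.z = (-(K.bar b / b)) • B.z + c • B.Fv 0 := by
    rw [hm, app_mul, v3, app_add, app_smul, u2, u3, hc]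
    match_scalars <;> field_simp
    · linear_combination hab
    · ring
  have hmf : app m⁻¹ (B.Fv 0) = K.bar b • B.E 0 := by
    have : B.Fv 0 = app m (K.bar b • B.E 0) := by
      rw [app_smul, hme, smul_smul, mul_inv_cancel₀ hb'0, one_smul]
    conv_lhs => rw [this, app_inv]
  have hmz' : app m⁻¹ B.z = (-(b / K.bar b)) • B.z + (c * b) • B.E 0 := by
    have h1 : B.z = app m ((-(b / K.bar b)) • B.z + (c * b) • B.E 0) := by
      rw [app_add, app_smul, app_smul, hmz, hme]
      match_scalars <;> field_simp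
      ring
    conv_lhs => rw [h1, app_inv]
  have hE := B.ee 0 0
  set η : F := b / K.bar b with hη
  have hη4 : η ^ 4 ≠ 1 := fun h => hηne (by
    rw [hη, hbb, div_mul_cancel_left₀ hb0, inv_pow, inv_eq_one] at h
    exact h)
  set L : Set F := {l | l • B.z ∈ pars K M hE} with hL
  have hL1 : -K.bar a ∈ L := ⟨u, huM, b, hu⟩
  have hdrop : ∀ (l γ : F), l • B.z + γ • B.E 0 ∈ pars K M hE → l ∈ L := fun l γ h => by
    have := (pars K M hE).sub_mem h (smul_self_mem_pars K hE γ)
    rwa [add_sub_cancel_right] at this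
  have hL2 : -K.bar a * η ^ 2 ∈ L := by
    have h1 := sg_conj K hv m⁻¹
    rw [app_smul, hmz', hmf] at h1
    have h2 := sg_smul K (K.bar b) h1 hE (by
      simp [h_smul_left K, h_add_left K, h_neg_left K, B.ze, B.ee])
    have h3 : K.bar (K.bar b) • ((-K.bar c) • ((-(b / K.bar b)) • B.z + (c * b) • B.E 0)) ∈
        pars K M hE :=
      ⟨_, mul_mem (mul_mem (inv_mem hmM) hvM) (inv_mem (inv_mem hmM)), _, h2⟩
    refine hdrop _ (b * (-K.bar c) * (c * b)) ?_
    convert h3 using 1
    rw [hc, map_div₀, map_neg, K.bar_bar, hη]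
    match_scalars <;> field_simp
  -- the transvections
  obtain ⟨Te, hTeM, hTe⟩ := isT_comm K hE (x := (-K.bar a) • B.z)
    (y := (-K.bar a * η ^ 2) • B.z) hL1 hL2
  set A := hermForm 3 F q ((-K.bar a) • B.z) ((-K.bar a * η ^ 2) • B.z) -
    hermForm 3 F q ((-K.bar a * η ^ 2) • B.z) ((-K.bar a) • B.z) with hA
  have hA0 : A ≠ 0 := by
    have e : A = a * K.bar a * (K.bar η ^ 2 - η ^ 2) := by
      rw [hA]
      simp only [h_smul_left K, h_smul_right K, B.zz, map_neg, map_mul, map_pow, K.bar_bar]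
      ring
    rw [e]
    refine mul_ne_zero (mul_ne_zero ha0 ((map_ne_zero K.bar).2 ha0)) (sub_ne_zero.2 fun h => hη4 ?_)
    have hηη : η * K.bar η = 1 := by rw [hη, map_div₀, K.bar_bar]; field_simp
    calc η ^ 4 = η ^ 2 * η ^ 2 := by ring
      _ = η ^ 2 * K.bar η ^ 2 := by rw [h]
      _ = 1 := by rw [← mul_pow, hηη, one_pow]
  set A' := (K.bar b)⁻¹ * K.bar (K.bar b)⁻¹ * A with hA'
  obtain ⟨Tf, hTfM, hTf⟩ : ∃ Tf ∈ M, IsT K Tf (B.Fv 0) A' := by
    have h1 := sg_conj K ((isT_iff K).1 hTe) m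
    rw [hme, app_zero] at h1
    have h2 := sg_smul K _ h1 (B.ff _ _) (h_zero_left K _)
    rw [smul_zero] at h2
    exact ⟨_, mul_mem (mul_mem hmM hTeM) (inv_mem hmM), (isT_iff K).2 h2⟩
  obtain ⟨r, hrP, μ, hμ, hμ0, hre, hrz⟩ := exists_turn K B hTe hA0 hTf
    (mul_ne_zero (mul_ne_zero (inv_ne_zero hb'0) ((map_ne_zero K.bar).2 (inv_ne_zero hb'0))) hA0)
  have hrM : r ∈ M := (Subgroup.closure_le M).2 (by
    rintro x (rfl | rfl)
    · exact hTeM
    · exact hTfM) hrP
  set h := m⁻¹ * r with hh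
  have hhM : h ∈ M := mul_mem (inv_mem hmM) hrM
  have hhe : app h (B.E 0) = (μ * K.bar b) • B.E 0 := by
    rw [hh, app_mul, hre, app_smul, hmf, smul_smul]
  have hhz : app h B.z = (-η) • B.z + (c * b) • B.E 0 := by
    rw [hh, app_mul, hrz, hmz']
  set r₀ : F := μ * b * η with hr₀
  have hμb : K.bar μ = -μ := eq_neg_of_add_eq_zero_right hμ
  let S : Subring F :=
    { carrier := {s | ∀ l ∈ L, s * l ∈ L}
      mul_mem' := fun {x y} hx hy l hl => by rw [mul_assoc]; exact hx _ (hy l hl)
      one_mem' := fun l hl => by rwa [one_mul]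
      add_mem' := fun {x y} hx hy l hl => by
        show ((x + y) * l) • B.z ∈ pars K M hE
        rw [add_mul, add_smul]
        exact (pars K M hE).add_mem (hx l hl) (hy l hl)
      zero_mem' := fun l _ => by
        show ((0 : F) * l) • B.z ∈ pars K M hE
        rw [zero_mul, zero_smul]; exact (pars K M hE).zero_mem
      neg_mem' := fun {x} hx l hl => by
        show ((-x) * l) • B.z ∈ pars K M hE
        rw [neg_mul, neg_smul]
        exact (pars K M hE).neg_mem (hx l hl) }
  have hr0S : r₀ ∈ S := by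
    intro l ⟨x, hx, s, hxs⟩
    have h1 := sg_conj K hxs h
    rw [app_smul, hhz, hhe] at h1
    have h2 := sg_smul K (μ * K.bar b) h1 hE (by
      simp [h_smul_left K, h_add_left K, h_neg_left K, B.ze, B.ee])
    have h3 : K.bar (μ * K.bar b) • (l • ((-η) • B.z + (c * b) • B.E 0)) ∈ pars K M hE :=
      ⟨_, mul_mem (mul_mem hhM hx) (inv_mem hhM), _, h2⟩
    refine hdrop (r₀ * l) (-μ * b * l * (c * b)) ?_
    convert h3 using 1
    rw [map_mul, K.bar_bar, hμb, hr₀]
    module
  -- a finite subring is a subfield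
  let L' : Subfield F :=
    { S with
      inv_mem' := fun x hx => by
        rcases eq_or_ne x 0 with rfl | h0
        · rw [_root_.inv_zero]; exact S.zero_mem
        · have h1 := FiniteField.pow_card_sub_one_eq_one x h0
          have h2 : 2 ≤ Fintype.card F := Fintype.one_lt_card
          rw [show Fintype.card F - 1 = Fintype.card F - 2 + 1 by omega, pow_succ] at h1
          rw [← eq_inv_of_mul_eq_one_left h1]
          exact S.pow_mem hx _ }
  have hbr : K.bar r₀ ∈ L' := by rw [K.bar_apply]; exact L'.toSubring.pow_mem hr0S q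
  have hη3 : η ^ 3 ∈ L' := by
    have : η ^ 3 = -(r₀ / K.bar r₀) := by
      rw [hr₀, hη]
      simp only [map_mul, map_div₀, K.bar_bar, hμb]
      field_simp
    rw [this]
    exact neg_mem (div_mem (show r₀ ∈ L' from hr0S) hbr)
  set x : Fˣ := (τ ^ 9)⁻¹ with hx
  have hxv : (x : F) = η ^ 3 := by
    rw [hx, hη, hbb, div_mul_cancel_left₀ hb0]
    simp only [Units.val_inv_eq_inv_val, Units.val_pow_eq_pow_val, inv_pow, ← pow_mul]
  have hxo : orderOf x = (q + 1) / Nat.gcd (q + 1) 9 := by
    rw [hx, orderOf_inv, orderOf_pow, hτo]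
  have hgcd : Nat.gcd (q + 1) 9 ∣ 9 := Nat.gcd_dvd_right _ _
  have hmul : orderOf x * Nat.gcd (q + 1) 9 = q + 1 := by
    rw [hxo, Nat.div_mul_cancel (Nat.gcd_dvd_left _ _)]
  have htop : L' = ⊤ := by
    refine subfield_eq_top K L' x (hxv ▸ hη3) ?_ ?_ ?_ ?_ hex.2.2.1
    · rw [hx, inv_pow, ← pow_mul, mul_comm, pow_mul, ← hτo, pow_orderOf_eq_one, one_pow, inv_one]
    · have := Nat.le_of_dvd (by norm_num) hgcd
      nlinarith
    · by_contra hh
      exact order_small q (orderOf x) hq hex hmul (by omega)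
    · intro h3
      have : Nat.Coprime (q + 1) 9 := by
        rw [show 9 = 3 ^ 2 by norm_num]
        exact Nat.Coprime.pow_right 2 ((Nat.prime_three.coprime_iff_not_dvd).2 h3).symm
      rw [hxo, this, Nat.div_one]
  have hall : ∀ l : F, l ∈ L := fun l => by
    have : l / (-K.bar a) ∈ L' := htop ▸ Subfield.mem_top _
    have h1 := (show l / (-K.bar a) ∈ S from this) _ hL1
    rwa [div_mul_cancel₀ _ (neg_ne_zero.2 ((map_ne_zero K.bar).2 ha0))] at h1
  refine eq_top_of_elations K hE le_rfl (fun h => by omega)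
    (all_T K hE (x := B.z) (y := B.z) hall (by have := hall 1; change (1 : F) • B.z ∈ pars K M hE at this; rwa [one_smul] at this) (by rw [B.zz]; exact one_ne_zero))
    (fun x hxe => ?_) hmM ?_
  · rw [expand₁ K B x, hxe, zero_smul, add_zero, add_comm]
    exact (pars K M hE).add_mem (hall _) (smul_self_mem_pars K hE _)
  · rw [hme, h_smul_left K, B.fe 0 0 one_pos one_pos, if_pos rfl, mul_one]
    exact inv_ne_zero hb'0

end CfsgLib.Classical.URegGen
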