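import Cfsg.Agent.Lib.Classical.UnitaryRegThree
import Cfsg.Agent.Lib.Classical.UnitaryOrder

/-!
The root group of `PSU_3(q)`, `q` even: coordinates `(a, b)` on a Sylow 2-subgroup.
-/

set_option autoImplicit false
set_option linter.style.haveILetI false

namespace CfsgLib.Classical.URoot

open Cfsg
open CfsgLib.Classical.Herm CfsgLib.Classical.Elation
open CfsgLib.ClassicalAut (Unitary.Conj)

variable {F : Type*} [Field F] [Finite F] {q : ℕ}

/-- The parameters of the root group. -/
abbrev Par (K : Unitary.Conj F q) : Type _ := {ab : F × F // ab.1 * K.bar ab.1 + ab.2 + K.bar ab.2 = 0}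

variable (K : Unitary.Conj F q)

/-- The product of parameters. -/
def pmul (x y : Par K) : Par K :=
  ⟨(x.1.1 + y.1.1, x.1.2 + y.1.2 - K.bar y.1.1 * x.1.1), by
    have hx := x.2
    have hy := y.2
    simp only [map_add, map_sub, map_mul, K.bar_bar]
    linear_combination hx + hy⟩

/-- The inverse of parameters. -/
def pinv (x : Par K) : Par K :=
  ⟨(-x.1.1, K.bar x.1.2), by
    have hx := x.2
    simp only [map_neg, K.bar_bar]
    linear_combination hx⟩

/-- The neutral parameter. -/
def pone : Par K := ⟨(0, 0), by simp⟩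

theorem card_fix : Nat.card {c : F // K.bar c = c} = q := by
  classical
  have := Fintype.ofFinite F
  have h1 := card_fixed K
  have h2 := K.two_le
  rw [Nat.card_eq_fintype_card, Fintype.card_subtype] at h1 ⊢
  have h3 : (Finset.univ.filter fun c : F => K.bar c = c) =
      insert 0 (Finset.univ.filter fun c : F => K.bar c = c ∧ c ≠ 0) := by
    ext c
    by_cases hc : c = 0 <;> simp [hc]
  rw [h3, Finset.card_insert_of_notMem (by simp), h1]
  omega

theorem card_par (h2 : (2 : F) = 0) : Nat.card (Par K) = q ^ 3 := by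
  have hfib : ∀ a : F, Nat.card {b : F // a * K.bar a + b + K.bar b = 0} = q := by
    intro a
    obtain ⟨y, hy⟩ := K.exists_trace
    set s := y + K.bar y
    set v := -(a * K.bar a) * y / s
    have hs : K.bar s = s := by rw [map_add, K.bar_bar]; exact add_comm _ _
    have hv : a * K.bar a + v + K.bar v = 0 := by
      simp only [v, map_div₀, map_mul, map_neg, K.bar_bar, hs]
      field_simp
      linear_combination (0 : F) * h2
    refine (Nat.card_congr ?_).trans (card_fix K)
    refine
      { toFun := fun b => ⟨b.1 - v, ?_⟩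
        invFun := fun c => ⟨c.1 + v, ?_⟩
        left_inv := fun b => Subtype.ext (sub_add_cancel _ _)
        right_inv := fun c => Subtype.ext (add_sub_cancel_right _ _) }
    · rw [map_sub]; linear_combination b.2 - hv - (b.1 - v) * h2
    · rw [map_add, c.2]; linear_combination hv + c.1 * h2
  have := Fintype.ofFinite F
  rw [Nat.card_congr (Equiv.subtypeProdEquivSigmaSubtype
    fun a b : F => a * K.bar a + b + K.bar b = 0), Nat.card_sigma]
  simp only [hfib, Finset.sum_const, Finset.card_univ, smul_eq_mul, ← Nat.card_eq_fintype_card,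
    K.card]
  ring

/-- Coordinates on a Sylow 2-subgroup. -/
def IsCoord {G : Type*} [Group G] (ψ : Par K → G) : Prop :=
  Function.Bijective ψ ∧ ∀ x y, ψ x * ψ y = ψ (pmul K x y)

theorem coord_one {G : Type*} [Group G] {ψ : Par K → G} (h : IsCoord K ψ) : ψ (pone K) = 1 := by
  have e := h.2 (pone K) (pone K)
  rw [show pmul K (pone K) (pone K) = pone K from
    Subtype.ext (Prod.ext (by simp [pmul, pone]) (by simp [pmul, pone]))] at e
  exact mul_eq_left.mp e

theorem coord_fix {G : Type*} [Group G] {ψ : Par K → G} (h : IsCoord K ψ) (x : Par K) :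
    ψ x ∈ Subgroup.center G ↔ x.1.1 = 0 := by
  obtain ⟨⟨hψi, hψs⟩, hψm⟩ := h
  rw [Subgroup.mem_center_iff]
  constructor
  · intro hx
    have hall : ∀ a : F, K.bar x.1.1 * a = K.bar a * x.1.1 := by
      intro a
      obtain ⟨b, hb⟩ : ∃ b : F, a * K.bar a + b + K.bar b = 0 := by
        obtain ⟨y, hy⟩ := K.exists_trace
        refine ⟨-(a * K.bar a) * y / (y + K.bar y), ?_⟩
        simp only [map_div₀, map_mul, map_neg, map_add, K.bar_bar, add_comm (K.bar y) y]
        field_simp
        ring
      have h := hψi ((hψm ⟨(a, b), hb⟩ x).symm.trans ((hx _).trans (hψm x _)))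
      have h' := congrArg (fun z : Par K => z.1.2) h
      simp [pmul] at h'
      linear_combination -h'
    obtain ⟨y, hy⟩ := K.exists_moved
    have h1 := hall 1
    rw [map_one, mul_one, one_mul] at h1
    have h3 := hall y
    rw [h1] at h3
    by_contra hne
    exact hy (mul_right_cancel₀ hne (by linear_combination -h3))
  · intro hx s
    obtain ⟨y, rfl⟩ := hψs s
    rw [hψm, hψm]
    congr 1
    refine Subtype.ext (Prod.ext ?_ ?_) <;> simp [pmul, hx, add_comm]

theorem coord_sq {G : Type*} [Group G] {ψ : Par K → G} (h : IsCoord K ψ) (h2 : (2 : F) = 0)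
    (x : Par K) : ψ x * ψ x = 1 ↔ x.1.1 = 0 := by
  rw [h.2, ← coord_one K h, h.1.1.eq_iff, Subtype.ext_iff, Prod.ext_iff]
  constructor
  · rintro ⟨-, h⟩
    simp [pmul, pone] at h
    have : K.bar x.1.1 * x.1.1 = 0 := by linear_combination -h + x.1.2 * h2
    rcases mul_eq_zero.mp this with h' | h'
    · exact (map_eq_zero K.bar).mp h'
    · exact h'
  · intro hx
    constructor
    · simp [pmul, pone, hx]
    · simp [pmul, pone, hx]
      linear_combination x.1.2 * h2

theorem card_center_coord {G : Type*} [Group G] {ψ : Par K → G} (h : IsCoord K ψ)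
    (h2 : (2 : F) = 0) : Nat.card (Subgroup.center G) = q := by
  refine (Nat.card_congr (Equiv.symm ?_)).trans (card_fix K)
  refine Equiv.ofBijective (fun c => ⟨ψ ⟨(0, c.1), by
    simp [c.2]; linear_combination c.1 * h2⟩, (coord_fix K h _).mpr rfl⟩) ⟨?_, ?_⟩
  · intro a b e
    exact Subtype.ext (congrArg (fun z : Par K => z.1.2) (h.1.1 (congrArg Subtype.val e)))
  · rintro ⟨s, hs⟩
    obtain ⟨⟨⟨a, b⟩, hab⟩, rfl⟩ := h.1.2 s
    have ha : a = 0 := (coord_fix K h _).mp hs
    subst ha
    refine ⟨⟨b, ?_⟩, rfl⟩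
    simp at hab
    linear_combination hab - b * h2

include K in
/-- Every Sylow 2-subgroup of `PSU_3(2^n)` has such coordinates. -/
theorem exists_coord {n : ℕ} (hn : 1 ≤ n) (hq : q = 2 ^ n) (h2 : (2 : F) = 0)
    (S : Sylow 2 (Cfsg.PSU 3 F q)) :
    ∃ ψ : Par K → (S : Subgroup (Cfsg.PSU 3 F q)), IsCoord K ψ := by
  classical
  obtain ⟨B⟩ := CfsgLib.Classical.URegGen.exists_hb K 1
  have hex : ∀ x : Par K, ∃ g : Cfsg.SU 3 F q,
      IsSg K g (B.E 0) ((-K.bar x.1.1) • B.z) x.1.2 :=
    fun x => CfsgLib.Classical.URegGen.exists_sgE K B le_rfl x.2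
  choose φ hφ using hex
  have hone : φ (pone K) = 1 := by
    refine sg_unique K (hφ _) ?_
    have := sg_one K (B.ee 0 0)
    simpa [pone] using this
  have hmul : ∀ x y, φ x * φ y = φ (pmul K x y) := by
    intro x y
    refine sg_unique K ?_ (hφ _)
    have := sg_mul K (hφ x) (hφ y)
    rw [h_smul_left K, h_smul_right K, B.zz, ← add_smul] at this
    convert this using 2
    · simp [pmul]; ring
    · simp [pmul, K.bar_bar]
  have hinv : ∀ x, (φ x)⁻¹ = φ (pinv K x) := by
    intro x
    refine sg_unique K ?_ (hφ _)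
    have := sg_inv K (hφ x)
    convert this using 2
    · simp [pinv]
    · rfl
  let mk : Cfsg.SU 3 F q →* Cfsg.PSU 3 F q := QuotientGroup.mk' _
  let U : Subgroup (Cfsg.PSU 3 F q) :=
    { carrier := Set.range fun x => mk (φ x)
      one_mem' := ⟨pone K, by simp [hone]⟩
      mul_mem' := by
        rintro _ _ ⟨x, rfl⟩ ⟨y, rfl⟩
        exact ⟨pmul K x y, by simp [← hmul]⟩
      inv_mem' := by
        rintro _ ⟨x, rfl⟩
        exact ⟨pinv K x, by simp [← hinv]⟩ }
  have hφi : Function.Injective φ := by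
    intro x y he
    obtain ⟨-, hf, hz'⟩ := CfsgLib.Classical.URegGen.appE K B (hφ x)
    obtain ⟨-, hf', hz''⟩ := CfsgLib.Classical.URegGen.appE K B (hφ y)
    rw [he, hf'] at hf
    rw [he, hz''] at hz'
    have hE : B.E 0 ≠ 0 := fun h => by
      have := B.fe 0 0 one_pos one_pos
      rw [h, h_zero_right K, if_pos rfl] at this
      exact zero_ne_one this
    have ha : y.1.1 = x.1.1 := smul_left_injective F hE (add_left_cancel hz')
    rw [ha] at hf
    exact Subtype.ext (Prod.ext ha (smul_left_injective F hE (add_left_cancel hf))).symm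
  have hd := card_center K (n := 3) (by norm_num)
  have hinj : Function.Injective fun x => mk (φ x) := by
    intro x y hxy
    set u := pmul K (pinv K y) x
    have hu : φ u ∈ Subgroup.center (Cfsg.SU 3 F q) := by
      rw [← hmul, ← hinv]
      exact QuotientGroup.eq.mp hxy.symm
    have h3 : φ u ^ 3 = 1 := orderOf_dvd_iff_pow_eq_one.mp
      ((Subgroup.orderOf_dvd_natCard _ hu).trans (hd ▸ Nat.gcd_dvd_left 3 _))
    have h4 : φ u ^ 4 = 1 := by
      rw [show φ u ^ 4 = φ u * φ u * (φ u * φ u) from by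
          simp only [pow_succ, pow_zero, one_mul, mul_assoc], hmul, hmul, ← hone]
      refine congrArg φ (Subtype.ext (Prod.ext ?_ ?_))
      · simp [pmul, pone]; linear_combination (2 * u.1.1) * h2
      · simp [pmul, pone, map_add]
        linear_combination (2 * u.1.2 - 3 * (K.bar u.1.1 * u.1.1)) * h2
    have h1 : φ u = 1 := by rw [pow_succ, h3, one_mul] at h4; exact h4
    refine hφi ?_
    rwa [← hmul, ← hinv, inv_mul_eq_one, eq_comm] at h1
  have hUc : Nat.card U = q ^ 3 := by
    rw [← card_par K h2]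
    exact (Nat.card_congr (Equiv.ofInjective _ hinj)).symm
  haveI : Fact (Nat.Prime 2) := ⟨Nat.prime_two⟩
  have hfac : 2 ^ (Nat.card (Cfsg.PSU 3 F q)).factorization 2 = q ^ 3 := by
    have hGU := card_GU K (n := 3)
    norm_num [Finset.prod_range_succ, Nat.even_iff, -Nat.card_eq_fintype_card] at hGU
    have hSU := card_SU K (n := 3) (by norm_num)
    rw [hGU, Subgroup.card_eq_card_quotient_mul_card_subgroup (Subgroup.center (Cfsg.SU 3 F q)),
      hd] at hSU
    have hev : Even q := hq ▸ (Nat.even_pow.mpr ⟨even_two, by omega⟩)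
    have hq1 : 1 ≤ q := hq ▸ Nat.one_le_two_pow
    have ho1 : ¬ 2 ∣ q + 1 := hev.add_one.not_two_dvd_nat
    have ho2 : ¬ 2 ∣ q ^ 2 - 1 :=
      (Nat.Even.sub_odd (Nat.one_le_pow _ _ hq1) (hev.pow_of_ne_zero two_ne_zero) odd_one).not_two_dvd_nat
    have ho3 : ¬ 2 ∣ q ^ 3 + 1 := (hev.pow_of_ne_zero three_ne_zero).add_one.not_two_dvd_nat
    have ho4 : ¬ 2 ∣ Nat.gcd 3 (q + 1) := fun h => ho1 (h.trans (Nat.gcd_dvd_right _ _))
    have hN : Nat.card (Cfsg.PSU 3 F q) ≠ 0 := Nat.card_pos.ne'
    have hg : Nat.gcd 3 (q + 1) ≠ 0 := fun h => ho4 (h ▸ dvd_zero 2)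
    have := congrArg (fun m : ℕ => m.factorization 2) hSU
    simp only [Nat.factorization_mul (Nat.succ_ne_zero q) (mul_ne_zero hN hg),
      Nat.factorization_mul hN hg, Finsupp.add_apply,
      Nat.factorization_eq_zero_of_not_dvd ho1, Nat.factorization_eq_zero_of_not_dvd ho4] at this
    rw [Nat.factorization_mul (pow_ne_zero _ (by omega))
      (mul_ne_zero (mul_ne_zero (by omega) (fun h : q ^ 2 - 1 = 0 => ho2 (by rw [h]; exact dvd_zero 2))) (by omega)),
      Finsupp.add_apply, Nat.factorization_eq_zero_of_not_dvd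
        (show ¬ 2 ∣ (q + 1) * (q ^ 2 - 1) * (q ^ 3 + 1) from
          fun h => by
            rcases (Nat.Prime.dvd_mul Nat.prime_two).mp h with h | h
            · rcases (Nat.Prime.dvd_mul Nat.prime_two).mp h with h | h
              · exact ho1 h
              · exact ho2 h
            · exact ho3 h), hq, ← pow_mul, Nat.Prime.factorization_pow Nat.prime_two,
      Finsupp.single_eq_same] at this
    rw [hq, ← pow_mul]
    congr 1
    omega
  let T : Sylow 2 (Cfsg.PSU 3 F q) := Sylow.ofCard U (by rw [hUc, hfac])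
  let e : U ≃* (S : Subgroup (Cfsg.PSU 3 F q)) := T.equiv S
  refine ⟨fun x => e ⟨mk (φ x), x, rfl⟩, ⟨fun x y h => hinj (congrArg Subtype.val (e.injective h)),
    fun s => ?_⟩, fun x y => ?_⟩
  · obtain ⟨u, rfl⟩ := e.surjective s
    obtain ⟨u, x, rfl⟩ := u
    exact ⟨x, rfl⟩
  · simp only [← map_mul]
    congr 1
    exact Subtype.ext (by simp [← hmul])

end CfsgLib.Classical.URoot
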