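import Cfsg.Agent.Lib.Classical.UnitaryMax

set_option autoImplicit false

/-!
Rational structures in unitary spaces.
-/

namespace CfsgLib.Classical.Herm

open Matrix Cfsg
open CfsgLib.ClassicalAut (Unitary.Conj)

variable {F : Type*} [Field F] [Finite F] {q : ℕ} (K : Unitary.Conj F q) {n : ℕ}

local notation "H" => hermForm n F q
local notation "V" => (Fin n → F)
local notation "G" => SU n F q

/-- The vectors with coordinates in `F₀` in the basis of the columns of `P`. -/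
def rat (F₀ : Subfield F) (P : GL (Fin n) F) : AddSubgroup V where
  carrier := {x | ∀ i, (((P⁻¹ : GL (Fin n) F) : Matrix (Fin n) (Fin n) F) *ᵥ x) i ∈ F₀}
  add_mem' := fun {x y} hx hy i => by rw [mulVec_add]; exact F₀.add_mem (hx i) (hy i)
  zero_mem' := fun i => by rw [mulVec_zero]; exact F₀.zero_mem
  neg_mem' := fun {x} hx i => by rw [mulVec_neg]; exact F₀.neg_mem (hx i)

variable {F₀ : Subfield F} {P : GL (Fin n) F}

omit [Finite F] in
theorem inv_mulVec_mulVec (u : V) :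
    ((P⁻¹ : GL (Fin n) F) : Matrix (Fin n) (Fin n) F) *ᵥ ((P : Matrix (Fin n) (Fin n) F) *ᵥ u) = u := by
  rw [mulVec_mulVec, ← Units.val_mul, inv_mul_cancel, Units.val_one, one_mulVec]

omit [Finite F] in
theorem mulVec_inv_mulVec (u : V) :
    (P : Matrix (Fin n) (Fin n) F) *ᵥ (((P⁻¹ : GL (Fin n) F) : Matrix (Fin n) (Fin n) F) *ᵥ u) = u := by
  rw [mulVec_mulVec, ← Units.val_mul, mul_inv_cancel, Units.val_one, one_mulVec]

omit [Finite F] in
theorem mulVec_mem_rat {u : V} (hu : ∀ i, u i ∈ F₀) :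
    (P : Matrix (Fin n) (Fin n) F) *ᵥ u ∈ rat F₀ P := fun i => by rw [inv_mulVec_mulVec]; exact hu i

omit [Finite F] in
theorem exists_of_mem_rat {x : V} (hx : x ∈ rat F₀ P) :
    ∃ u : V, (∀ i, u i ∈ F₀) ∧ x = (P : Matrix (Fin n) (Fin n) F) *ᵥ u :=
  ⟨_, hx, (mulVec_inv_mulVec x).symm⟩

omit [Finite F] in
theorem smul_mem_rat {c : F} (hc : c ∈ F₀) {x : V} (hx : x ∈ rat F₀ P) : c • x ∈ rat F₀ P :=
  fun i => by rw [mulVec_smul]; exact F₀.mul_mem hc (hx i)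

/-- The image of a standard basis vector. -/
def col (P : GL (Fin n) F) (j : Fin n) : V := (P : Matrix (Fin n) (Fin n) F) *ᵥ Pi.single j 1

omit [Finite F] in
theorem col_mem (j : Fin n) : col P j ∈ rat F₀ P := mulVec_mem_rat fun i => by
  rw [Pi.single_apply]; split
  · exact F₀.one_mem
  · exact F₀.zero_mem

omit [Finite F] in
theorem eq_sum_col (x : V) :
    x = ∑ j, (((P⁻¹ : GL (Fin n) F) : Matrix (Fin n) (Fin n) F) *ᵥ x) j • col P j := by
  conv_lhs => rw [← mulVec_inv_mulVec (P := P) x,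
    pi_eq_sum_univ' ((((P⁻¹ : GL (Fin n) F) : Matrix (Fin n) (Fin n) F) *ᵥ x))]
  rw [mulVec_sum]
  exact Finset.sum_congr rfl fun j _ => mulVec_smul _ _ _

omit [Finite F] in
theorem span_rat : Submodule.span F (rat F₀ P : Set V) = ⊤ :=
  eq_top_iff.2 fun x _ => by
    rw [eq_sum_col (P := P) x]
    exact Submodule.sum_mem _ fun j _ => Submodule.smul_mem _ _ (Submodule.subset_span (col_mem j))

section
include K

theorem bar_fix (hcard : Nat.card F = Nat.card F₀ ^ 2) {c : F} (hc : c ∈ F₀) : K.bar c = c := by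
  have hq : Nat.card F₀ = q := Nat.pow_left_injective (by norm_num) (hcard.symm.trans K.card)
  cases nonempty_fintype F₀
  have := FiniteField.pow_card (⟨c, hc⟩ : F₀)
  rw [← Nat.card_eq_fintype_card, hq] at this
  rw [K.bar_apply]
  simpa using congrArg Subtype.val this

/-- An element moved by the involution is outside the subfield. -/
theorem exists_outside (hcard : Nat.card F = Nat.card F₀ ^ 2) :
    ∃ θ : F, θ ∉ F₀ ∧ K.bar θ ≠ θ ∧ ∀ c, ∃ s ∈ F₀, ∃ t ∈ F₀, c = s + t * θ := by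
  obtain ⟨θ, hθ⟩ := K.exists_moved
  have hθ0 : θ ∉ F₀ := fun h => hθ (bar_fix K hcard h)
  refine ⟨θ, hθ0, hθ, fun c => ?_⟩
  let f : F₀ × F₀ → F := fun p => (p.1 : F) + (p.2 : F) * θ
  have hf : Function.Injective f := by
    rintro ⟨s, t⟩ ⟨s', t'⟩ e
    have e' : ((t : F) - t') * θ = s' - s := by linear_combination e
    by_cases ht : (t : F) - t' = 0
    · rw [ht, zero_mul] at e'
      exact Prod.ext (Subtype.ext (sub_eq_zero.1 e'.symm).symm) (Subtype.ext (sub_eq_zero.1 ht))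
    · refine absurd ?_ hθ0
      rw [show θ = ((t : F) - t')⁻¹ * ((s' : F) - s) by rw [← e', inv_mul_cancel_left₀ ht]]
      exact F₀.mul_mem (F₀.inv_mem (F₀.sub_mem t.2 t'.2)) (F₀.sub_mem s'.2 s.2)
  obtain ⟨⟨s, t⟩, h⟩ := (hf.bijective_of_nat_card_le (by
    rw [hcard, Nat.card_prod, sq])).2 c
  exact ⟨s, s.2, t, t.2, h.symm⟩

end

omit [Finite F] in
theorem rat_parts {θ : F} (hθ : ∀ c, ∃ s ∈ F₀, ∃ t ∈ F₀, c = s + t * θ) (x : V) :
    ∃ a ∈ rat F₀ P, ∃ b ∈ rat F₀ P, x = a + θ • b := by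
  choose s hs t ht hst using fun j => hθ ((((P⁻¹ : GL (Fin n) F) : Matrix (Fin n) (Fin n) F) *ᵥ x) j)
  refine ⟨_, mulVec_mem_rat (P := P) hs, _, mulVec_mem_rat (P := P) ht, ?_⟩
  rw [← mulVec_smul, ← mulVec_add]
  conv_lhs => rw [← mulVec_inv_mulVec (P := P) x]
  congr 1
  funext j
  rw [hst j, Pi.add_apply, Pi.smul_apply, smul_eq_mul]
  ring

omit [Finite F] in
theorem rat_parts_unique {θ : F} (hθ : θ ∉ F₀) {a b : V} (ha : a ∈ rat F₀ P) (hb : b ∈ rat F₀ P)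
    (h : a + θ • b = 0) : a = 0 ∧ b = 0 := by
  have hb0 : b = 0 := by
    have e : ∀ i, (((P⁻¹ : GL (Fin n) F) : Matrix (Fin n) (Fin n) F) *ᵥ b) i = 0 := fun i => by
      by_contra hne
      have := congrFun (congrArg (fun v => ((P⁻¹ : GL (Fin n) F) : Matrix (Fin n) (Fin n) F) *ᵥ v) h) i
      simp only [mulVec_add, mulVec_smul, mulVec_zero, Pi.add_apply, Pi.smul_apply, Pi.zero_apply,
        smul_eq_mul] at this
      refine hθ ?_
      rw [show θ = -(((P⁻¹ : GL (Fin n) F) : Matrix (Fin n) (Fin n) F) *ᵥ a) i *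
        ((((P⁻¹ : GL (Fin n) F) : Matrix (Fin n) (Fin n) F) *ᵥ b) i)⁻¹ by
        field_simp; linear_combination this]
      exact F₀.mul_mem (F₀.neg_mem (ha i)) (F₀.inv_mem (hb i))
    rw [← mulVec_inv_mulVec (P := P) b, funext e]
    exact mulVec_zero _
  rw [hb0, smul_zero, add_zero] at h
  exact ⟨h, hb0⟩

omit [Finite F] in
theorem mem_subfieldSubgroup {h : GL (Fin n) F}
    (hh : ∀ a ∈ rat F₀ P, (h : Matrix (Fin n) (Fin n) F) *ᵥ a ∈ rat F₀ P) :
    h ∈ Cfsg.Geo.subfieldSubgroup F₀ P := by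
  obtain ⟨N, hN⟩ : ∃ N, N = P⁻¹ * h * P := ⟨_, rfl⟩
  have hent : ∀ i j, (N : Matrix (Fin n) (Fin n) F) i j ∈ F₀ := fun i j => by
    have := hh _ (col_mem (F₀ := F₀) (P := P) j) i
    have e : (N : Matrix (Fin n) (Fin n) F) =
        ((P⁻¹ : GL (Fin n) F) : Matrix (Fin n) (Fin n) F) * (h : Matrix (Fin n) (Fin n) F) *
          (P : Matrix (Fin n) (Fin n) F) := by rw [hN]; rfl
    rw [col, mulVec_mulVec, mulVec_mulVec, ← e, mulVec_single_one, Matrix.col_apply] at this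
    exact this
  obtain ⟨N₀, hN₀⟩ : ∃ N₀ : Matrix (Fin n) (Fin n) F₀,
      N₀.map F₀.subtype = (N : Matrix (Fin n) (Fin n) F) :=
    ⟨fun i j => ⟨_, hent i j⟩, rfl⟩
  have hdet : N₀.det ≠ 0 := fun e => by
    have h1 := RingHom.map_det F₀.subtype N₀
    rw [e, map_zero, RingHom.mapMatrix_apply, hN₀] at h1
    exact ((Matrix.isUnit_iff_isUnit_det _).1 N.isUnit).ne_zero h1.symm
  refine ⟨N, Subgroup.mem_sup_left ⟨Matrix.GeneralLinearGroup.mkOfDetNeZero N₀ hdet, Units.ext hN₀⟩, ?_⟩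
  show P * N * P⁻¹ = h
  rw [hN]; group

omit [Finite F] in
theorem subfield_maps {h : GL (Fin n) F} (hh : h ∈ Cfsg.Geo.subfieldSubgroup F₀ P) :
    ∃ c : F, c ≠ 0 ∧ ∀ a ∈ rat F₀ P,
      ∃ r ∈ rat F₀ P, (h : Matrix (Fin n) (Fin n) F) *ᵥ a = c • r := by
  obtain ⟨N, hN, rfl⟩ := hh
  obtain ⟨M, hM, S, hS, rfl⟩ := Subgroup.mem_sup_of_normal_right.1 hN
  obtain ⟨M₀, rfl⟩ := hM
  obtain ⟨c, hc⟩ := (Cfsg.Geo.mem_scalars_iff S).1 hS
  refine ⟨c, c.ne_zero, fun a ha => ?_⟩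
  obtain ⟨u, hu, rfl⟩ := exists_of_mem_rat ha
  refine ⟨(P : Matrix (Fin n) (Fin n) F) *ᵥ
    ((Matrix.GeneralLinearGroup.map F₀.subtype M₀ : Matrix (Fin n) (Fin n) F) *ᵥ u),
    mulVec_mem_rat fun i => by
      simp only [mulVec, dotProduct]
      exact F₀.sum_mem fun j _ => F₀.mul_mem (M₀.1 i j).2 (hu j), ?_⟩
  simp only [MulEquiv.coe_toMonoidHom, MulAut.conj_apply, Units.val_mul, ← mulVec_mulVec,
    inv_mulVec_mulVec, hc, smul_mulVec, one_mulVec, mulVec_smul]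

/-- An element sending rational lines to rational lines has one multiplier. -/
theorem exists_multiplier {θ : F} (hθ : θ ∉ F₀) (hdec : ∀ c, ∃ s ∈ F₀, ∃ t ∈ F₀, c = s + t * θ)
    (hn : 1 ≤ n) (g : G)
    (hg : ∀ a ∈ rat F₀ P, ∃ c : F, ∃ r ∈ rat F₀ P, app g a = c • r) :
    ∃ c : F, c ≠ 0 ∧ ∀ a ∈ rat F₀ P, ∃ r ∈ rat F₀ P, app g a = c • r := by
  choose μ r hr hgr using fun j => hg _ (col_mem (F₀ := F₀) (P := P) j)
  have hcol : ∀ j, col P j ≠ 0 := fun j e => by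
    have := congrArg (fun v => ((P⁻¹ : GL (Fin n) F) : Matrix (Fin n) (Fin n) F) *ᵥ v) e
    simp only [col, inv_mulVec_mulVec, mulVec_zero] at this
    simpa using congrFun this j
  have hne : ∀ j, μ j ≠ 0 ∧ r j ≠ 0 := fun j => by
    have h0 : app g (col P j) ≠ 0 := fun e => hcol j (app_injective g (e.trans (mulVec_zero _).symm))
    rw [hgr j] at h0
    exact smul_ne_zero_iff.1 h0
  have hindep : ∀ i j, i ≠ j → ∀ c : F, r i ≠ c • r j := fun i j hij c e => by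
    have h1 : app g (col P i) = app g ((μ i * c * (μ j)⁻¹) • col P j) := by
      rw [app_smul, hgr i, hgr j, e, smul_smul, smul_smul]
      congr 1
      field_simp [(hne j).1]
    have := congrFun (congrArg (fun v => ((P⁻¹ : GL (Fin n) F) : Matrix (Fin n) (Fin n) F) *ᵥ v)
      (app_injective g h1)) i
    simp only [col, mulVec_smul, inv_mulVec_mulVec, Pi.smul_apply] at this
    rw [Pi.single_eq_same, Pi.single_eq_of_ne hij, smul_zero] at this
    exact one_ne_zero this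
  let i0 : Fin n := ⟨0, hn⟩
  have hratio : ∀ i, μ i / μ i0 ∈ F₀ := by
    intro i
    by_cases hi : i = i0
    · rw [hi, div_self (hne i0).1]; exact F₀.one_mem
    obtain ⟨c, w, hw, hgw⟩ := hg _ (add_mem (col_mem (F₀ := F₀) (P := P) i0) (col_mem i))
    rw [app_add, hgr, hgr] at hgw
    obtain ⟨p, hp, p', hp', e1⟩ := hdec (μ i / μ i0)
    obtain ⟨s, hs, t, ht, e2⟩ := hdec (c / μ i0)
    have key : (r i0 + p • r i - s • w) + θ • (p' • r i - t • w) = 0 := by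
      have := congrArg (fun v => (μ i0)⁻¹ • v) hgw
      simp only [smul_add, smul_smul, inv_mul_cancel₀ (hne i0).1, one_smul] at this
      rw [inv_mul_eq_div, inv_mul_eq_div, e1, e2] at this
      rw [← sub_eq_zero] at this
      rw [← this]; module
    obtain ⟨k1, k2⟩ := rat_parts_unique hθ
      ((rat F₀ P).sub_mem ((rat F₀ P).add_mem (hr i0) (smul_mem_rat hp (hr i))) (smul_mem_rat hs hw))
      ((rat F₀ P).sub_mem (smul_mem_rat hp' (hr i)) (smul_mem_rat ht hw)) key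
    rw [sub_eq_zero] at k1 k2
    by_cases hp0 : p' = 0
    · rw [e1, hp0, zero_mul, add_zero]; exact hp
    · exfalso
      have ht0 : t ≠ 0 := fun e => by
        rw [e, zero_smul, smul_eq_zero] at k2
        exact k2.elim hp0 (hne i).2
      refine hindep i0 i (Ne.symm hi) (s * (p' / t) - p) ?_
      rw [sub_smul, eq_sub_iff_add_eq, k1, mul_smul, div_eq_inv_mul, mul_smul t⁻¹, k2, smul_smul t⁻¹,
        inv_mul_cancel₀ ht0, one_smul]
  refine ⟨μ i0, (hne i0).1, fun a ha => ?_⟩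
  refine ⟨∑ j, ((((P⁻¹ : GL (Fin n) F) : Matrix (Fin n) (Fin n) F) *ᵥ a) j * (μ j / μ i0)) • r j,
    AddSubgroup.sum_mem _ fun j _ => smul_mem_rat (F₀.mul_mem (ha j) (hratio j)) (hr j), ?_⟩
  conv_lhs => rw [eq_sum_col (P := P) a]
  rw [app, mulVec_sum, Finset.smul_sum]
  refine Finset.sum_congr rfl fun j _ => ?_
  rw [mulVec_smul]
  show _ • app g (col P j) = _
  rw [hgr, smul_smul, smul_smul]
  congr 1
  field_simp [(hne i0).1]

/-- Membership in the subfield group. -/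
theorem toGLHom_mem_subfield_iff (g : G) :
    toGLHom g ∈ Cfsg.Geo.subfieldSubgroup F₀ P ↔
      ∃ c : F, c ≠ 0 ∧ ∀ a ∈ rat F₀ P, ∃ r ∈ rat F₀ P, app g a = c • r := by
  refine ⟨fun h => subfield_maps h, fun ⟨c, hc, hcg⟩ => ?_⟩
  obtain ⟨S, hS⟩ : ∃ S : GL (Fin n) F, (S : Matrix (Fin n) (Fin n) F) = c • (1 : Matrix _ _ F) :=
    ⟨Units.map (Matrix.scalar (Fin n) : F →+* Matrix (Fin n) (Fin n) F).toMonoidHom (Units.mk0 c hc),
      by simp [Matrix.smul_one_eq_diagonal]⟩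
  have hSmem : S ∈ Cfsg.Geo.scalars (Fin n) F :=
    (Cfsg.Geo.mem_scalars_iff S).2 ⟨Units.mk0 c hc, hS⟩
  have hS' : S ∈ Cfsg.Geo.subfieldSubgroup F₀ P := ⟨S, Subgroup.mem_sup_right hSmem, Units.ext (by
    simp only [MulEquiv.coe_toMonoidHom, MulAut.conj_apply, Units.val_mul, hS, Matrix.mul_smul,
      Matrix.mul_one, Matrix.smul_mul]
    rw [← Units.val_mul, mul_inv_cancel, Units.val_one])⟩
  have h : S⁻¹ * toGLHom g ∈ Cfsg.Geo.subfieldSubgroup F₀ P := by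
    refine mem_subfieldSubgroup fun a ha => ?_
    obtain ⟨r, hr, hgr⟩ := hcg a ha
    have hgr' : (toGLHom g : Matrix (Fin n) (Fin n) F) *ᵥ a = c • r := hgr
    have hSr : c • r = (S : Matrix (Fin n) (Fin n) F) *ᵥ r := by
      rw [hS, smul_mulVec, one_mulVec]
    rw [Units.val_mul, ← mulVec_mulVec, hgr', hSr, mulVec_mulVec, ← Units.val_mul, inv_mul_cancel,
      Units.val_one, one_mulVec]
    exact hr
  have := mul_mem hS' h
  rwa [mul_inv_cancel_left] at this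

theorem isMaximalIn_subfield_of (hne : ∃ g : G, toGLHom g ∉ Cfsg.Geo.subfieldSubgroup F₀ P)
    (h : ∀ M : Subgroup G, (∀ g, toGLHom g ∈ Cfsg.Geo.subfieldSubgroup F₀ P → g ∈ M) →
      M = ⊤ ∨ ∀ g ∈ M, toGLHom g ∈ Cfsg.Geo.subfieldSubgroup F₀ P) :
    Cfsg.Geo.IsMaximalIn (GU n F q ⊓ Cfsg.Geo.specialLinear (Fin n) F)
      (Cfsg.Geo.subfieldSubgroup F₀ P ⊓ (GU n F q ⊓ Cfsg.Geo.specialLinear (Fin n) F)) := by
  refine ⟨lt_of_le_not_ge inf_le_right fun hle => ?_, fun M hM hM' => ?_⟩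
  · obtain ⟨g, hg⟩ := hne
    exact hg (hle ((mem_range_iff _).2 ⟨g, rfl⟩)).1
  rcases h (M.comap toGLHom) (fun g hg => hM ⟨hg, (mem_range_iff _).2 ⟨g, rfl⟩⟩) with h | h
  · refine Or.inr (le_antisymm hM' fun g hg => ?_)
    obtain ⟨s, rfl⟩ := (mem_range_iff g).1 hg
    have : s ∈ M.comap toGLHom := h ▸ Subgroup.mem_top s
    exact this
  · refine Or.inl (le_antisymm (fun g hg => ?_) hM)
    obtain ⟨s, rfl⟩ := (mem_range_iff g).1 (hM' hg)
    exact ⟨h s hg, (mem_range_iff _).2 ⟨s, rfl⟩⟩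

/-! ### Alternating rational structures -/

section Alt

variable {ζ : F} (hcard : Nat.card F = Nat.card F₀ ^ 2) (hζ0 : ζ ≠ 0) (hζ : ζ + K.bar ζ = 0)
  (hP : Cfsg.Geo.IsFormRationalStructure (hermForm n F q) F₀ ζ P)
  (halt : ∀ a ∈ rat F₀ P, hermForm n F q a a = 0)

include K hcard hζ0 hζ hP halt

omit halt in
theorem alt_val {a b : V} (ha : a ∈ rat F₀ P) (hb : b ∈ rat F₀ P) : ζ * H a b ∈ F₀ := by
  obtain ⟨u, hu, rfl⟩ := exists_of_mem_rat ha
  obtain ⟨v, hv, rfl⟩ := exists_of_mem_rat hb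
  exact hP u v hu hv

theorem alt_swap {a b : V} (ha : a ∈ rat F₀ P) (hb : b ∈ rat F₀ P) : H b a = -H a b := by
  have h := halt _ (add_mem ha hb)
  rw [h_add_left K, h_add_right K, h_add_right K, halt a ha, halt b hb] at h
  linear_combination h

theorem alt_ne_both {a b : V} {S : Set V} (hS : ∀ x ∈ S, ∀ y ∈ S, x + y ∈ S)
    (ha : ∃ z ∈ S, H a z ≠ 0) (hb : ∃ z ∈ S, H b z ≠ 0) : ∃ z ∈ S, H a z ≠ 0 ∧ H b z ≠ 0 := by
  obtain ⟨z, hz, h⟩ := ha
  obtain ⟨z', hz', h'⟩ := hb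
  by_cases e : H b z = 0
  · by_cases e' : H a z' = 0
    · exact ⟨z + z', hS z hz z' hz', by rw [h_add_right K, e', add_zero]; exact h,
        by rw [h_add_right K, e, zero_add]; exact h'⟩
    · exact ⟨z', hz', e', h'⟩
  · exact ⟨z, hz, h, e⟩

omit hζ0 hζ hP halt in
theorem alt_nondeg {a : V} (h : ∀ z ∈ rat F₀ P, H a z = 0) : a = 0 := by
  refine h_nondeg K fun y => ?_
  rw [eq_sum_col (P := P) y]
  induction (Finset.univ : Finset (Fin n)) using Finset.induction_on with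
  | empty => rw [Finset.sum_empty]; exact h_zero_right K a
  | insert j s hj ih =>
    rw [Finset.sum_insert hj, h_add_right K, ih, h_smul_right K, h _ (col_mem j), mul_zero, add_zero]

/-- A rational transvection preserving the structure. -/
theorem alt_exists_T {v : V} (hv : v ∈ rat F₀ P) {s : F} (hs : s ∈ F₀) :
    ∃ t : G, IsT K t v (s * ζ) ∧ (∀ a ∈ rat F₀ P, app t a ∈ rat F₀ P) := by
  obtain ⟨t, ht⟩ := exists_T K (halt v hv) (c := s * ζ) (by
    rw [map_mul, bar_fix K hcard hs]; linear_combination s * hζ)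
  refine ⟨t, ht, fun a ha => ?_⟩
  rw [ht.2.2]
  refine add_mem ha (smul_mem_rat ?_ hv)
  rw [mul_assoc]
  exact F₀.mul_mem hs (alt_val K hcard hζ0 hζ hP ha hv)

/-- A rational isometry mapping `a` to `b`. -/
theorem alt_step {a b : V} (ha : a ∈ rat F₀ P) (hb : b ∈ rat F₀ P) (h : H a b ≠ 0) :
    ∃ t : G, (∀ x ∈ rat F₀ P, app t x ∈ rat F₀ P) ∧ app t a = b ∧
      ∀ p, H p a = H p b → app t p = p := by
  obtain ⟨t, ht, htR⟩ := alt_exists_T K hcard hζ0 hζ hP halt (sub_mem hb ha) (s := (ζ * H a b)⁻¹)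
    (F₀.inv_mem (alt_val K hcard hζ0 hζ hP ha hb))
  refine ⟨t, htR, ?_, fun p hp => ?_⟩
  · rw [ht.2.2, h_sub_right K, halt a ha, sub_zero,
      show (ζ * H a b)⁻¹ * ζ * H a b = 1 by field_simp [hζ0, h], one_smul, add_sub_cancel]
  · rw [ht.2.2, h_sub_right K, hp, sub_self, mul_zero, zero_smul, add_zero]

theorem alt_perp_ne {w a : V} (hw : w ∈ rat F₀ P) (hw0 : w ≠ 0)
    (hi : ∀ c : F, a ≠ c • w) : ∃ z ∈ rat F₀ P, H w z = 0 ∧ H a z ≠ 0 := by
  obtain ⟨z0, hz0, hwz0⟩ : ∃ z ∈ rat F₀ P, H w z ≠ 0 := by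
    by_contra hc
    push Not at hc
    exact hw0 (alt_nondeg K hcard hc)
  by_contra hc
  push Not at hc
  refine hi (H a z0 / H w z0) (sub_eq_zero.1 (alt_nondeg K hcard (P := P) fun z hz => ?_))
  obtain ⟨ρ, hρ⟩ : ∃ ρ, ρ = H w z / H w z0 := ⟨_, rfl⟩
  have hρ0 : ρ ∈ F₀ := by
    rw [hρ, ← mul_div_mul_left _ _ hζ0, div_eq_mul_inv]
    exact F₀.mul_mem (alt_val K hcard hζ0 hζ hP hw hz) (F₀.inv_mem (alt_val K hcard hζ0 hζ hP hw hz0))
  have h1 : H w (z - ρ • z0) = 0 := by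
    rw [h_sub_right K, h_smul_right K, bar_fix K hcard hρ0, hρ, div_mul_cancel₀ _ hwz0, sub_self]
  have h2 := hc _ (sub_mem hz (smul_mem_rat hρ0 hz0)) h1
  rw [h_sub_right K, h_smul_right K, bar_fix K hcard hρ0, hρ, sub_eq_zero] at h2
  rw [h_sub_left K, h_smul_left K, h2, sub_eq_zero]
  field_simp [hwz0]

/-- The rational isometries are transitive on isotropic pairs. -/
theorem alt_move_pair {a b a' b' : V} (ha : a ∈ rat F₀ P) (hb : b ∈ rat F₀ P) (ha' : a' ∈ rat F₀ P)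
    (hb' : b' ∈ rat F₀ P) (ha0 : a ≠ 0) (ha'0 : a' ≠ 0) (hab : H a b = 0) (hab' : H a' b' = 0)
    (hi : ∀ c : F, b ≠ c • a) (hi' : ∀ c : F, b' ≠ c • a') :
    ∃ h : G, (∀ x ∈ rat F₀ P, app h x ∈ rat F₀ P) ∧ app h a = a' ∧ app h b = b' := by
  obtain ⟨z, hz, h1, h2⟩ := alt_ne_both K hcard hζ0 hζ hP halt (S := (rat F₀ P : Set V))
    (fun _ hx _ hy => add_mem hx hy)
    (by by_contra hc; push Not at hc; exact ha0 (alt_nondeg K hcard (fun z hz => hc z hz)))
    (by by_contra hc; push Not at hc; exact ha'0 (alt_nondeg K hcard (fun z hz => hc z hz)))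
  obtain ⟨t, ht, hta, -⟩ := alt_step K hcard hζ0 hζ hP halt ha hz h1
  obtain ⟨t', ht', htz, -⟩ := alt_step K hcard hζ0 hζ hP halt hz ha'
    (h_ne_zero_symm K h2)
  have hc0 : app (t' * t) a = a' := by rw [app_mul, hta, htz]
  have hc1 : app (t' * t) b ∈ rat F₀ P := by rw [app_mul]; exact ht' _ (ht _ hb)
  have hc2 : H a' (app (t' * t) b) = 0 := by rw [← hc0, h_app, hab]
  have hc3 : ∀ c : F, app (t' * t) b ≠ c • a' := fun c e => hi c (app_injective (t' * t)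
    (by rw [e, app_smul, hc0]))
  obtain ⟨w, hw, h3, h4⟩ := alt_ne_both K hcard hζ0 hζ hP halt
    (S := {z | z ∈ rat F₀ P ∧ H a' z = 0})
    (fun x hx y hy => ⟨add_mem hx.1 hy.1, by rw [h_add_right K, hx.2, hy.2, add_zero]⟩)
    (let ⟨z, hz, h5, h6⟩ := alt_perp_ne K hcard hζ0 hζ hP halt ha' ha'0 hc3; ⟨z, ⟨hz, h5⟩, h6⟩)
    (let ⟨z, hz, h5, h6⟩ := alt_perp_ne K hcard hζ0 hζ hP halt ha' ha'0 hi'; ⟨z, ⟨hz, h5⟩, h6⟩)
  obtain ⟨s, hs, hsb, hsa⟩ := alt_step K hcard hζ0 hζ hP halt hc1 hw.1 h3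
  obtain ⟨s', hs', hsw, hsa'⟩ := alt_step K hcard hζ0 hζ hP halt hw.1 hb' (h_ne_zero_symm K h4)
  refine ⟨s' * s * (t' * t), fun x hx => ?_, ?_, ?_⟩
  · rw [app_mul, app_mul, app_mul]
    exact hs' _ (hs _ (ht' _ (ht _ hx)))
  · rw [app_mul, app_mul, hc0, hsa a' (hc2.trans hw.2.symm), hsa' a' (hw.2.trans hab'.symm)]
  · rw [app_mul, app_mul, hsb, hsw]

theorem alt_le_or_top (hn : 4 ≤ n) (M : Subgroup G)
    (hM : ∀ g, toGLHom g ∈ Cfsg.Geo.subfieldSubgroup F₀ P → g ∈ M) :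
    M = ⊤ ∨ ∀ g ∈ M, toGLHom g ∈ Cfsg.Geo.subfieldSubgroup F₀ P := by
  obtain ⟨θ, hθ, hθb, hdec⟩ := exists_outside K hcard
  by_cases hR : ∀ g ∈ M, ∀ a ∈ rat F₀ P, ∃ c : F, ∃ r ∈ rat F₀ P, app g a = c • r
  · exact Or.inr fun g hg => (toGLHom_mem_subfield_iff g).2
      (exists_multiplier hθ hdec (by omega) g (hR g hg))
  left
  push Not at hR
  obtain ⟨g, hg, a₀, ha₀, hout⟩ := hR
  have hMR : ∀ t : G, (∀ x ∈ rat F₀ P, app t x ∈ rat F₀ P) → t ∈ M := fun t ht =>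
    hM t ((toGLHom_mem_subfield_iff t).2 ⟨1, one_ne_zero, fun a ha => ⟨_, ht a ha, (one_smul _ _).symm⟩⟩)
  have hratC : ∀ v ∈ rat F₀ P, v ∈ centres K M := fun v hv => ⟨halt v hv, fun t c ht => hMR t
    fun x hx => by
      rw [ht.2.2]
      have hc : c / ζ ∈ F₀ := by
        obtain ⟨s, hs, u, hu, e⟩ := hdec (c / ζ)
        have e' : K.bar (c / ζ) = c / ζ := by
          rw [map_div₀, eq_neg_of_add_eq_zero_right ht.2.1, eq_neg_of_add_eq_zero_right hζ, neg_div_neg_eq]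
        rw [e, map_add, map_mul, bar_fix K hcard hs, bar_fix K hcard hu, add_right_inj] at e'
        have hu0 : u = 0 := by
          by_contra hu0
          exact hθb (mul_left_cancel₀ hu0 e')
        rw [e, hu0, zero_mul, add_zero]; exact hs
      refine add_mem hx (smul_mem_rat ?_ hv)
      rw [show c * H x v = c / ζ * (ζ * H x v) by field_simp [hζ0]]
      exact F₀.mul_mem hc (alt_val K hcard hζ0 hζ hP hx hv)⟩
  have hu : app g a₀ ∈ centres K M := app_mem_centres K hg (hratC a₀ ha₀)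
  obtain ⟨a', ha', b', hb', hab⟩ := rat_parts (P := P) hdec (app g a₀)
  rw [hab] at hu hout
  have hperp : ∀ a ∈ rat F₀ P, ∀ b ∈ rat F₀ P, H (a + θ • b) (a + θ • b) = 0 → H a b = 0 := by
    intro a ha b hb h
    rw [h_add_left K, h_add_right K, h_add_right K, h_smul_left K, h_smul_left K, h_smul_right K,
      h_smul_right K, halt a ha, halt b hb, alt_swap K hcard hζ0 hζ hP halt ha hb] at h
    have h' : (K.bar θ - θ) * H a b = 0 := by linear_combination h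
    exact (mul_eq_zero.1 h').resolve_left (sub_ne_zero.2 hθb)
  have ha'0 : a' ≠ 0 := fun e => hout θ b' hb' (by rw [e, zero_add])
  have hi' : ∀ c : F, b' ≠ c • a' := fun c e => hout (1 + θ * c) a' ha' (by
    rw [e, add_smul, one_smul, mul_smul])
  refine eq_top_of_centres K hn fun v hv => ?_
  obtain ⟨a, ha, b, hb, rfl⟩ := rat_parts (P := P) hdec v
  by_cases ha0 : a = 0
  · rw [ha0, zero_add]; exact smul_mem_centres K θ (hratC b hb)
  by_cases hi : ∀ c : F, b ≠ c • a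
  · obtain ⟨h, hhR, h1, h2⟩ := alt_move_pair K hcard hζ0 hζ hP halt ha' hb' ha hb ha'0 ha0
      (hperp a' ha' b' hb' hu.1) (hperp a ha b hb hv) hi' hi
    rw [show a + θ • b = app h (a' + θ • b') by rw [app_add, app_smul, h1, h2]]
    exact app_mem_centres K (hMR h hhR) hu
  · push Not at hi
    obtain ⟨c, rfl⟩ := hi
    rw [show a + θ • c • a = (1 + θ * c) • a by rw [add_smul, one_smul, mul_smul]]
    exact smul_mem_centres K _ (hratC a ha)

theorem alt_exists_notMem (hn : 4 ≤ n) :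
    ∃ g : G, toGLHom g ∉ Cfsg.Geo.subfieldSubgroup F₀ P := by
  classical
  obtain ⟨θ, hθ, hθb, hdec⟩ := exists_outside K hcard
  obtain ⟨i, hi⟩ : ∃ i : Fin n, col P i ≠ 0 := ⟨⟨0, by omega⟩, fun e => by
    have := congrArg (fun v => ((P⁻¹ : GL (Fin n) F) : Matrix (Fin n) (Fin n) F) *ᵥ v) e
    simp only [col, inv_mulVec_mulVec, mulVec_zero] at this
    exact one_ne_zero ((Pi.single_eq_same (M := fun _ : Fin n => F) _ (1 : F)).symm.trans
      (congrFun this ⟨0, by omega⟩))⟩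
  obtain ⟨a, ha⟩ : ∃ a, a = col P i := ⟨_, rfl⟩
  have haR : a ∈ rat F₀ P := ha ▸ col_mem i
  have ha0 : a ≠ 0 := ha ▸ hi
  have hsmall : ∀ (x y : V), (rat F₀ P : Set V) ⊆ Submodule.span F ({x, y} : Set V) → False := by
    intro x y h
    have h1 := Submodule.finrank_mono (Submodule.span_le.2 h)
    rw [span_rat (F₀ := F₀) (P := P), finrank_top, Module.finrank_fin_fun] at h1
    have h2 := finrank_span_finset_le_card (R := F) ({x, y} : Finset V)
    rw [Set.finrank, Finset.coe_pair] at h2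
    have := Finset.card_le_two (a := x) (b := y)
    omega
  obtain ⟨z0, hz0, haz0⟩ : ∃ z ∈ rat F₀ P, H a z ≠ 0 := by
    by_contra hc
    push Not at hc
    exact ha0 (alt_nondeg K hcard hc)
  obtain ⟨b, hb, hab, hbi⟩ : ∃ b ∈ rat F₀ P, H a b = 0 ∧ b ∉ Submodule.span F {a} := by
    by_contra hc
    push Not at hc
    refine hsmall a z0 fun z hz => ?_
    obtain ⟨ρ, hρ⟩ : ∃ ρ, ρ = H a z / H a z0 := ⟨_, rfl⟩
    have hρ0 : ρ ∈ F₀ := by
      rw [hρ, ← mul_div_mul_left _ _ hζ0, div_eq_mul_inv]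
      exact F₀.mul_mem (alt_val K hcard hζ0 hζ hP haR hz) (F₀.inv_mem (alt_val K hcard hζ0 hζ hP haR hz0))
    have h1 := hc _ (sub_mem hz (smul_mem_rat hρ0 hz0)) (by
      rw [h_sub_right K, h_smul_right K, bar_fix K hcard hρ0, hρ, div_mul_cancel₀ _ haz0, sub_self])
    obtain ⟨c, hcz⟩ := Submodule.mem_span_singleton.1 h1
    exact Submodule.mem_span_pair.2 ⟨c, ρ, by rw [hcz, sub_add_cancel]⟩
  obtain ⟨v, hvdef⟩ : ∃ v, v = a + θ • b := ⟨_, rfl⟩
  have hba : H b a = 0 := by rw [alt_swap K hcard hζ0 hζ hP halt haR hb, hab, neg_zero]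
  have hvv : H v v = 0 := by
    rw [hvdef, h_add_left K, h_add_right K, h_add_right K, h_smul_left K, h_smul_left K, h_smul_right K,
      h_smul_right K, halt a haR, halt b hb, hab, hba]
    ring
  have hv0 : v ≠ 0 := fun e => ha0 (rat_parts_unique hθ haR hb (hvdef.symm.trans e)).1
  obtain ⟨x, hx, hxv, hxS⟩ : ∃ x ∈ rat F₀ P, H x v ≠ 0 ∧ x ∉ Submodule.span F ({a, b} : Set V) := by
    by_contra hc
    push Not at hc
    obtain ⟨x1, hx1, hx1S⟩ : ∃ x ∈ rat F₀ P, x ∉ Submodule.span F ({a, b} : Set V) := by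
      by_contra h; push Not at h; exact hsmall a b h
    obtain ⟨x2, hx2, hx2v⟩ : ∃ x ∈ rat F₀ P, H x v ≠ 0 := by
      by_contra h
      push Not at h
      exact hv0 (alt_nondeg K hcard (P := P) fun z hz => h_eq_zero_symm K (h z hz))
    have h1 : H x1 v = 0 := by by_contra e; exact hx1S (hc x1 hx1 e)
    have h3 := hc (x1 + x2) (add_mem hx1 hx2) (by rw [h_add_left K, h1, zero_add]; exact hx2v)
    exact hx1S ((Submodule.add_mem_iff_left _ (hc x2 hx2 hx2v)).1 h3)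
  obtain ⟨c, hc0, hc⟩ := exists_skew K
  obtain ⟨g, hg⟩ := exists_T K hvv hc
  refine ⟨g, fun h => ?_⟩
  obtain ⟨μ, -, hμ⟩ := (toGLHom_mem_subfield_iff g).1 h
  -- the multiplier is rational because `a` is fixed
  obtain ⟨r, hr, hgr⟩ := hμ x hx
  have hga : app g a = a := by
    rw [hg.2.2, hvdef, h_add_right K, h_smul_right K, halt a haR, hab, mul_zero, add_zero, mul_zero,
      zero_smul, add_zero]
  obtain ⟨r', hr', hgr'⟩ := hμ a haR
  rw [hga] at hgr'
  obtain ⟨s, hs, t, ht, hst⟩ := hdec (c * H x v)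
  obtain ⟨e, he, f, hf, hef⟩ := hdec (θ * θ)
  obtain ⟨m, hm, l, hl, hml⟩ := hdec μ
  have hl0 : l = 0 := by
    by_contra hl0
    have : (a - m • r') + θ • ((0 : V) - l • r') = 0 := by
      conv_lhs => rw [hgr', hml]
      module
    obtain ⟨k1, k2⟩ := rat_parts_unique hθ (sub_mem haR (smul_mem_rat hm hr'))
      (sub_mem (zero_mem _) (smul_mem_rat hl hr')) this
    rw [zero_sub, neg_eq_zero, smul_eq_zero] at k2
    rw [k2.resolve_left hl0, smul_zero, sub_zero] at k1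
    exact ha0 k1
  have hgx : app g x = (x + s • a + (t * e) • b) + θ • (t • a + (s + t * f) • b) := by
    rw [hg.2.2, hst, hvdef, smul_add, smul_smul,
      show (s + t * θ) * θ = t * e + (s + t * f) * θ by linear_combination t * hef]
    module
  have key : (x + s • a + (t * e) • b - μ • r) + θ • (t • a + (s + t * f) • b) = 0 := by
    rw [← hgr, hgx]; abel
  obtain ⟨-, k2⟩ := rat_parts_unique hθ (sub_mem (add_mem (add_mem hx (smul_mem_rat hs haR))
    (smul_mem_rat (F₀.mul_mem ht he) hb)) (smul_mem_rat (by rw [hml, hl0, zero_mul, add_zero]; exact hm) hr))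
    (add_mem (smul_mem_rat ht haR) (smul_mem_rat (F₀.add_mem hs (F₀.mul_mem ht hf)) hb)) key
  have hcoef : s + t * f = 0 := by
    by_contra e0
    refine hbi (Submodule.mem_span_singleton.2 ⟨-(s + t * f)⁻¹ * t, ?_⟩)
    rw [mul_smul, eq_neg_of_add_eq_zero_left k2, smul_neg, neg_smul, neg_neg, smul_smul,
      inv_mul_cancel₀ e0, one_smul]
  rw [hcoef, zero_smul, add_zero, smul_eq_zero] at k2
  have ht0 := k2.resolve_right ha0
  rw [ht0, zero_mul, add_zero] at hcoef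
  rw [ht0, hcoef, zero_mul, add_zero] at hst
  exact (mul_ne_zero hc0 hxv) hst

end Alt

end CfsgLib.Classical.Herm
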