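import Cfsg.Agent.Lib.Classical.UnitaryRat
import Cfsg.Agent.Lib.SL2.TwoRoots

/-!
Subfield subgroups of odd prime degree are maximal in special unitary groups.
-/

set_option autoImplicit false
set_option linter.unusedSectionVars false

namespace CfsgLib.Classical.Herm.Rat

open Matrix Cfsg
open CfsgLib.ClassicalAut (Unitary.Conj)
open CfsgLib.Classical.HermPair (IsE isE_smul exists_E mem_centres_of_pairs isE_conj isE_mul_apply)
open scoped MatrixGroups

variable {F : Type*} [Field F] [Finite F] {q : ℕ} (K : Unitary.Conj F q) {n : ℕ}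

local notation "H" => hermForm n F q
local notation "V" => (Fin n → F)
local notation "G" => SU n F q

variable {F₀ : Subfield F} {P : GL (Fin n) F} {r : ℕ}

/-- A transvection lies in `M`. -/
def TM (M : Subgroup (SU n F q)) (v : Fin n → F) (c : F) : Prop := ∃ g ∈ M, IsT K g v c

/-- An elation with parameter `k` lies in `M`. -/
def LM (M : Subgroup (SU n F q)) (a b : Fin n → F) (k : F) : Prop := ∃ g ∈ M, IsE g (k • a) b

variable {M : Subgroup (SU n F q)}

include K

theorem TM_conj {v : V} {c : F} (h : TM K M v c) {x : G} (hx : x ∈ M) : TM K M (app x v) c := by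
  obtain ⟨g, hg, hv, hc, hT⟩ := h
  refine ⟨x * g * x⁻¹, M.mul_mem (M.mul_mem hx hg) (M.inv_mem hx), by rw [h_app]; exact hv, hc,
    fun z => ?_⟩
  rw [app_mul, app_mul, hT, app_add, app_smul, app_inv']
  congr 2
  rw [← h_app x, app_inv']

theorem TM_scale {v : V} {a c : F} (hv : H v v = 0) (h : TM K M (a • v) c) :
    TM K M v (c * a * K.bar a) := by
  obtain ⟨g, hg, -, hc, hT⟩ := h
  refine ⟨g, hg, hv, ?_, fun z => ?_⟩
  · rw [map_mul, map_mul, K.bar_bar]
    linear_combination (a * K.bar a) * hc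
  · rw [hT, h_smul_right K, smul_smul]; ring_nf

theorem TM_inv {v : V} {c : F} {g : G} (h : IsT K g v c) : IsT K g⁻¹ v (-c) := by
  refine ⟨h.1, by rw [map_neg]; linear_combination -h.2.1, fun z => ?_⟩
  conv_rhs => rw [← app_inv' g z, h.2.2]
  simp only [h_add_left K, h_smul_left K, h.1, mul_zero, add_zero]
  module

theorem TM_mul {v : V} {c d : F} {g g' : G} (h : IsT K g v c) (h' : IsT K g' v d) :
    IsT K (g * g') v (c + d) := by
  refine ⟨h.1, by rw [map_add]; linear_combination h.2.1 + h'.2.1, fun z => ?_⟩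
  rw [app_mul, h'.2.2, h.2.2]
  simp only [h_add_left K, h_smul_left K, h.1, mul_zero, add_zero]
  module

theorem E_inv {a b : V} (haa : H a a = 0) (hbb : H b b = 0) (hab : H a b = 0) {g : G}
    (h : IsE g a b) : IsE g⁻¹ (-a) b := fun z => by
  conv_rhs => rw [← app_inv' g z, h]
  rw [show -a = (-1 : F) • a by module]
  simp only [h_add_left K, h_sub_left K, h_smul_left K, h_smul_right K, haa, hbb, hab,
    h_eq_zero_symm K hab, map_neg, map_one, mul_zero, add_zero, sub_zero]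
  module

theorem LM_neg {a b : V} (haa : H a a = 0) (hbb : H b b = 0) (hab : H a b = 0) {k : F}
    (h : LM M a b k) : LM M a b (-k) := by
  obtain ⟨g, hg, hE⟩ := h
  have := E_inv K (by rw [h_smul_left K, h_smul_right K, haa, mul_zero, mul_zero]) hbb
    (by rw [h_smul_left K, hab, mul_zero]) hE
  exact ⟨g⁻¹, M.inv_mem hg, by rwa [neg_smul]⟩

theorem LM_add {a b : V} (haa : H a a = 0) (hbb : H b b = 0) (hab : H a b = 0) {k k' : F}
    (h : LM M a b k) (h' : LM M a b k') : LM M a b (k + k') := by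
  obtain ⟨g, hg, hE⟩ := h
  obtain ⟨g', hg', hE'⟩ := h'
  refine ⟨g * g', M.mul_mem hg hg', fun z => ?_⟩
  rw [isE_mul_apply K hE hE' hbb (by rw [h_smul_left K, hab, mul_zero])
    (by rw [h_smul_left K, hab, mul_zero]), h_smul_left K, h_smul_right K, haa]
  simp only [mul_zero, zero_mul, add_zero, ← add_smul]

theorem LM_swap {a b : V} (haa : H a a = 0) (hbb : H b b = 0) (hab : H a b = 0) {k : F}
    (h : LM M a b k) : LM M b a (K.bar k) := by
  obtain ⟨g, hg, hE⟩ := h
  refine ⟨g⁻¹, M.inv_mem hg, (isE_smul K _).2 ?_⟩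
  rw [K.bar_bar]
  intro z
  have := E_inv K (by rw [h_smul_left K, h_smul_right K, haa, mul_zero, mul_zero]) hbb
    (by rw [h_smul_left K, hab, mul_zero]) hE z
  rw [this, show -(k • a) = (-1 : F) • k • a by module, h_smul_right K]
  simp only [map_neg, map_one]
  module

/-- The commutator of two elations. -/
theorem LM_comm {a b e f : V} (haa : H a a = 0) (hbb : H b b = 0) (hab : H a b = 0)
    (hae : H a e = 0) (haf : H a f = 0) (hbe : H b e = 1) (hbf : H b f = 0) {k k' : F}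
    (h : LM M a b k) (h' : LM M e f k') : LM M a f (-(k * k')) := by
  obtain ⟨g, hg, hE⟩ := h
  obtain ⟨x, hx, hX⟩ := h'
  have ha' : app x (k • a) = k • a := by
    rw [hX, h_smul_left K, haf, h_smul_left K, h_smul_right K, hae, mul_zero, mul_zero, mul_zero,
      zero_smul, zero_smul, add_zero, sub_zero]
  have hb' : app x b = b - K.bar k' • f := by
    rw [hX, hbf, zero_smul, add_zero, h_smul_right K, hbe, mul_one]
  refine ⟨x * g * x⁻¹ * g⁻¹, M.mul_mem (M.mul_mem (M.mul_mem hx hg) (M.inv_mem hx)) (M.inv_mem hg), ?_⟩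
  rw [show -(k * k') = -k' * k by ring, mul_smul]
  refine (isE_smul K _).2 fun z => ?_
  rw [app_mul, isE_conj K hE, ha', hb', E_inv K (by rw [h_smul_left K, h_smul_right K, haa, mul_zero, mul_zero])
    hbb (by rw [h_smul_left K, hab, mul_zero]) hE z]
  rw [show -(k • a) = (-k) • a by module]
  simp only [h_add_left K, h_sub_left K, h_sub_right K, h_smul_left K, h_smul_right K, haa, hbb, hab,
    haf, hbf, h_eq_zero_symm K hab, map_neg, K.bar_bar, mul_zero, add_zero, sub_zero]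
  module

variable (D : Data (q := q) F₀ P r)
  (hM : ∀ g : SU n F q, (∀ a ∈ rat F₀ P, app g a ∈ rat F₀ P) → g ∈ M)

include D hM

theorem TM_rat {v : V} (hv : v ∈ rat F₀ P) (hvv : H v v = 0) {c : F} (hc : c ∈ F₀)
    (hs : c + K.bar c = 0) : TM K M v c := by
  obtain ⟨g, hg⟩ := exists_T K hvv hs
  refine ⟨g, hM g fun a ha => ?_, hg⟩
  rw [hg.2.2]
  exact add_mem ha (smul_mem_rat (F₀.mul_mem hc (h_mem K D ha hv)) hv)

theorem LM_rat {a b : V} (ha : a ∈ rat F₀ P) (hb : b ∈ rat F₀ P) (haa : H a a = 0) (hbb : H b b = 0)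
    (hab : H a b = 0) {k : F} (hk : k ∈ F₀) : LM M a b k := by
  have hka := smul_mem_rat hk ha
  obtain ⟨g, hg⟩ := exists_E K (by have := D.dim; omega)
    (a := k • a) (b := b) (by rw [h_smul_left K, h_smul_right K, haa, mul_zero, mul_zero]) hbb
    (by rw [h_smul_left K, hab, mul_zero])
  refine ⟨g, hM g fun z hz => ?_, hg⟩
  rw [hg]
  exact sub_mem (add_mem hz (smul_mem_rat (h_mem K D hz hb) hka)) (smul_mem_rat (h_mem K D hz hka) hb)

/-- Six vectors forming three orthogonal hyperbolic pairs. -/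
structure Pairs (F₀ : Subfield F) (P : GL (Fin n) F) (v v' x x' y y' : Fin n → F) : Prop where
  rv : v ∈ rat F₀ P
  rv' : v' ∈ rat F₀ P
  rx : x ∈ rat F₀ P
  rx' : x' ∈ rat F₀ P
  ry : y ∈ rat F₀ P
  ry' : y' ∈ rat F₀ P
  v0 : hermForm n F q v v = 0
  v'0 : hermForm n F q v' v' = 0
  x0 : hermForm n F q x x = 0
  x'0 : hermForm n F q x' x' = 0
  y0 : hermForm n F q y y = 0
  y'0 : hermForm n F q y' y' = 0
  vv : hermForm n F q v v' = 1
  xx : hermForm n F q x x' = 1
  yy : hermForm n F q y y' = 1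
  vx : hermForm n F q v x = 0
  v'x : hermForm n F q v' x = 0
  vx' : hermForm n F q v x' = 0
  v'x' : hermForm n F q v' x' = 0
  vy : hermForm n F q v y = 0
  v'y : hermForm n F q v' y = 0
  xy : hermForm n F q x y = 0
  x'y : hermForm n F q x' y = 0
  vy' : hermForm n F q v y' = 0
  v'y' : hermForm n F q v' y' = 0
  xy' : hermForm n F q x y' = 0
  x'y' : hermForm n F q x' y' = 0

omit hM in
theorem exists_pairs {v x : V} (hv : v ∈ rat F₀ P) (hx : x ∈ rat F₀ P) (hv0 : v ≠ 0)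
    (hvv : H v v = 0) (hxx : H x x = 0) (hvx : H v x = 0) (hind : ∀ k : F, x ≠ k • v) :
    ∃ v' x' y y', Pairs (q := q) F₀ P v v' x x' y y' := by
  have hn := D.dim
  have sy : ∀ {a b : V}, H a b = 0 → H b a = 0 := fun h => h_eq_zero_symm K h
  have so : ∀ {a b : V}, H a b = 1 → H b a = 1 := fun {a b} h => by rw [h_swap K a b, h, map_one]
  obtain ⟨v', hv', h0', hd⟩ := exists_iso_val K D (by omega : 2 * 2 + 2 ≤ n) ![v, x]
    (fun i => by fin_cases i <;> assumption) (fun c hc => indep_two K hv0 hind c hc) ![1, 0]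
    (fun i => by fin_cases i <;> simp [F₀.one_mem, F₀.zero_mem])
  have a1 : H v v' = 1 := so (hd 0)
  have a1' : H v' v = 1 := hd 0
  have a2 : H v' x = 0 := hd 1
  have hx0 : x ≠ 0 := fun e => hind 0 (by rw [e, zero_smul])
  obtain ⟨x', hx', h1', he⟩ : ∃ x' ∈ rat F₀ P, H x' x' = 0 ∧
      ∀ i, H x' ((![v, x, v']) i) = (![0, 1, 0] : Fin 3 → F) i := by
    obtain ⟨z, hz, hzv⟩ := exists_dual K D ![v, x, v']
      (fun i => by fin_cases i <;> assumption) (fun c hc => by
        simp [Fin.sum_univ_succ] at hc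
        have e1 := congrArg (fun z => H z v) hc
        have e2 := congrArg (fun z => H z v') hc
        simp [h_add_left K, h_smul_left K, h_zero_left K, hvv, sy hvx, a1, a1', h0', sy a2] at e1 e2
        rw [e1, e2, zero_smul, zero_smul, zero_add, add_zero, smul_eq_zero] at hc
        exact funext fun i => by
          fin_cases i
          · exact e2
          · exact hc.resolve_right hx0
          · exact e1)
      ![0, 1, 0] (fun i => by fin_cases i <;> simp [F₀.one_mem, F₀.zero_mem])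
    have zx : H z x = 1 := hzv 1
    obtain ⟨t, ht, hat⟩ := exists_trace_eq K D (c := -H z z) (F₀.neg_mem (h_mem K D hz hz))
      (by rw [map_neg, bar_self K])
    refine ⟨z + t • x, add_mem hz (smul_mem_rat ht hx), ?_, fun i => ?_⟩
    · simp only [h_add_left K, h_add_right K, h_smul_left K, h_smul_right K, hxx, zx]
      rw [show H x z = 1 from so zx]
      linear_combination hat
    · have e := hzv i
      fin_cases i <;> simp [h_add_left K, h_smul_left K, hxx, sy hvx, sy a2] at e ⊢ <;> exact e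
  have b1 : H v x' = 0 := sy (he 0)
  have b2 : H x x' = 1 := so (he 1)
  have b2' : H x' x = 1 := he 1
  have b3 : H v' x' = 0 := sy (he 2)
  obtain ⟨y, hy0, hy, hyy, hyl⟩ := exists_iso K D (by omega : 4 + 2 ≤ n) ![v, x, v', x']
    (fun i => by fin_cases i <;> assumption)
  have c1 : H y v = 0 := hyl 0
  have c2 : H y x = 0 := hyl 1
  have c3 : H y v' = 0 := hyl 2
  have c4 : H y x' = 0 := hyl 3
  obtain ⟨w, hw, hwf⟩ := exists_dual K D ![v, x, v', x', y]
    (fun i => by fin_cases i <;> assumption) (fun c hc => by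
      simp [Fin.sum_univ_succ] at hc
      have e1 := congrArg (fun z => H z v) hc
      have e2 := congrArg (fun z => H z v') hc
      have e3 := congrArg (fun z => H z x) hc
      have e4 := congrArg (fun z => H z x') hc
      simp [h_add_left K, h_smul_left K, h_zero_left K, hvv, hxx, hvx, sy hvx, a1, a1', a2, sy a2, h0',
        h1', b1, sy b1, b2, b2', b3, sy b3, c1, c2, c3, c4] at e1 e2 e3 e4
      rw [e1, e2, e3, e4] at hc
      simp at hc
      exact funext fun i => by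
        fin_cases i
        · exact e2
        · exact e4
        · exact e1
        · exact e3
        · exact hc.resolve_right hy0)
    ![0, 0, 0, 0, 1] (fun i => by fin_cases i <;> simp [F₀.one_mem, F₀.zero_mem])
  obtain ⟨t, ht, htt⟩ := exists_trace_eq K D (c := -H w w) (F₀.neg_mem (h_mem K D hw hw))
    (by rw [map_neg, bar_self K])
  have hwy : H w y = 1 := hwf 4
  have hy' : w + t • y ∈ rat F₀ P := add_mem hw (smul_mem_rat ht hy)
  have h2' : H (w + t • y) (w + t • y) = 0 := by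
    simp only [h_add_left K, h_add_right K, h_smul_left K, h_smul_right K, hyy, hwy,
      show H y w = 1 from so hwy]
    linear_combination htt
  have hf : ∀ i, H (w + t • y) (![v, x, v', x', y] i) = (![0, 0, 0, 0, 1] : Fin 5 → F) i := fun i => by
    have e := hwf i
    fin_cases i <;> simp [h_add_left K, h_smul_left K, c1, c2, c3, c4, hyy] at e ⊢ <;> exact e
  exact ⟨v', x', y, w + t • y, ⟨hv, hv', hx, hx', hy, hy', hvv, h0', hxx, h1', hyy, h2', a1, b2, so (hf 4),
    hvx, a2, b1, b3, sy c1, sy c3, sy c2, sy c4, sy (hf 0), sy (hf 2), sy (hf 1), sy (hf 3)⟩⟩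

omit hM in
theorem exists_second {v : V} (hv : v ∈ rat F₀ P) (hv0 : v ≠ 0) :
    ∃ x ∈ rat F₀ P, H x x = 0 ∧ H v x = 0 ∧ ∀ k : F, x ≠ k • v := by
  have hn := D.dim
  obtain ⟨v', hv', -, h1⟩ := exists_partner K D hv hv0
  obtain ⟨x, hx0, hx, hxx, hxl⟩ := exists_iso K D (by omega : 2 + 2 ≤ n) ![v, v']
    (fun i => by fin_cases i <;> assumption)
  refine ⟨x, hx, hxx, h_eq_zero_symm K (hxl 0), fun k e => hx0 ?_⟩
  have h2 : H x v' = 0 := hxl 1
  rw [e, h_smul_left K, show H v v' = 1 by rw [h_swap K v' v, h1, map_one], mul_one] at h2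
  rw [e, h2, zero_smul]

/-- An irrational transvection gives all elations of a pair. -/
theorem LM_full {v x : V} (hv : v ∈ rat F₀ P) (hx : x ∈ rat F₀ P) (hv0 : v ≠ 0) (hvv : H v v = 0)
    (hxx : H x x = 0) (hvx : H v x = 0) (hind : ∀ k : F, x ≠ k • v) {c : F} (hc : c ∉ F₀)
    (h : TM K M v c) : ∀ k, LM M v x k := by
  obtain ⟨v', x', y, y', Hp⟩ := exists_pairs K D hv hx hv0 hvv hxx hvx hind
  have sy : ∀ {a b : V}, H a b = 0 → H b a = 0 := fun h => h_eq_zero_symm K h
  have so : ∀ {a b : V}, H a b = 1 → H b a = 1 := fun {a b} h => by rw [h_swap K a b, h, map_one]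
  -- moves
  obtain ⟨h₁, hh₁, hE₁⟩ := LM_rat K D hM hx Hp.rv' hxx Hp.v'0 (sy Hp.v'x) F₀.one_mem
  rw [one_smul] at hE₁
  have m1 : app h₁ v = v + x := by
    rw [hE₁, Hp.vv, one_smul, hvx, zero_smul, sub_zero]
  obtain ⟨h₂, hh₂, hE₂⟩ := LM_rat K D hM (neg_mem hv) Hp.rx'
    (by rw [show -v = (-1 : F) • v by module, h_smul_left K, h_smul_right K, hvv, mul_zero, mul_zero])
    Hp.x'0 (by rw [show -v = (-1 : F) • v by module, h_smul_left K, Hp.vx', mul_zero]) F₀.one_mem
  rw [one_smul] at hE₂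
  have m2 : app h₂ (v + x) = x := by
    rw [hE₂, show -v = (-1 : F) • v by module]
    simp only [h_add_left K, h_smul_right K, Hp.vx', Hp.xx, hvv, sy hvx, mul_zero, add_zero, zero_add]
    module
  have t1 := TM_conj K h hh₁
  rw [m1] at t1
  have t2 := TM_conj K t1 hh₂
  rw [m2] at t2
  -- the parameter `c`
  obtain ⟨g₀, hg₀, hT₀⟩ := h
  obtain ⟨g₁, hg₁, hT₁⟩ := t1
  obtain ⟨g₂, hg₂, hT₂⟩ := t2
  have hcL : LM M v x c := by
    refine ⟨g₁ * g₀⁻¹ * g₂⁻¹, M.mul_mem (M.mul_mem hg₁ (M.inv_mem hg₀)) (M.inv_mem hg₂), fun z => ?_⟩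
    rw [app_mul, app_mul, (TM_inv K hT₂).2.2, (TM_inv K hT₀).2.2, hT₁.2.2]
    have hcb : K.bar c = -c := by linear_combination hT₀.2.1
    simp only [h_add_left K, h_add_right K, h_smul_left K, h_smul_right K, hvv, hxx, hvx, sy hvx,
      hcb, mul_zero, add_zero]
    module
  -- the three moves
  have hrat := fun {a b : V} (ha : a ∈ rat F₀ P) (hb : b ∈ rat F₀ P) (e1 : H a a = 0) (e2 : H b b = 0)
    (e3 : H a b = 0) => LM_rat K D hM ha hb e1 e2 e3 (F₀.neg_mem F₀.one_mem)
  have stepA : ∀ k, LM M v x k → LM M v y k := fun k hk => by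
    have := LM_comm K hvv hxx hvx Hp.vx' Hp.vy Hp.xx Hp.xy hk (hrat Hp.rx' Hp.ry Hp.x'0 Hp.y0 Hp.x'y)
    rwa [mul_neg, mul_one, neg_neg] at this
  have stepB : ∀ k, LM M v x k → LM M y' x k := fun k hk => by
    have h1 := LM_swap K hvv hxx hvx hk
    have h2 := LM_comm K hxx hvv (sy hvx) (sy Hp.v'x) Hp.xy' Hp.vv Hp.vy' h1
      (hrat Hp.rv' Hp.ry' Hp.v'0 Hp.y'0 Hp.v'y')
    rw [mul_neg, mul_one, neg_neg] at h2
    have h3 := LM_swap K hxx Hp.y'0 Hp.xy' h2
    rwa [K.bar_bar] at h3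
  have hmul : ∀ k, LM M v x k → ∀ k', LM M v x k' → LM M v x (k * k') := fun k hk k' hk' => by
    have := LM_neg K hvv hxx hvx (LM_comm K hvv Hp.y0 Hp.vy Hp.vy' hvx Hp.yy (sy Hp.xy)
      (stepA k hk) (stepB k' hk'))
    rwa [neg_neg] at this
  exact fun k => MinIndex.Subfield.eq_univ_of_closed (S := {k | LM M v x k}) D.prime D.card
    (fun d hd => LM_rat K D hM hv hx hvv hxx hvx hd) (fun a ha b hb => LM_add K hvv hxx hvx ha hb)
    (fun a ha b hb => hmul a ha b hb) hcL hc k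

/-- An irrational transvection makes every rational isotropic vector a centre. -/
theorem centres_of_bad {v : V} (hv : v ∈ rat F₀ P) (hv0 : v ≠ 0) (hvv : H v v = 0) {c : F}
    (hc : c ∉ F₀) (h : TM K M v c) {u : V} (hu : u ∈ rat F₀ P) (huu : H u u = 0) :
    u ∈ centres K M := by
  obtain ⟨x, hx, hxx, hvx, hind⟩ := exists_second K D hv hv0
  have hfull := LM_full K D hM hv hx hv0 hvv hxx hvx hind hc h
  obtain ⟨v', x', y, y', Hp⟩ := exists_pairs K D hv hx hv0 hvv hxx hvx hind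
  obtain ⟨g, hg, hE⟩ := LM_rat K D hM Hp.rv' hx Hp.v'0 hxx Hp.v'x F₀.one_mem
  rw [one_smul] at hE
  have hxc : x ∈ centres K M := mem_centres_of_pairs K hxx (fun l => hfull l) ⟨g, hg, hE⟩ hvx Hp.v'x
    (by rw [Hp.vv]; exact one_ne_zero)
  by_cases hu0 : u = 0
  · rw [hu0, show (0 : V) = (0 : F) • x by module]
    exact smul_mem_centres K 0 hxc
  obtain ⟨θ, hθ, hθ0, hθs⟩ := exists_skew_mem K D
  have hmove : ∀ a b : V, a ∈ rat F₀ P → b ∈ rat F₀ P → H a a = 0 → H b b = 0 → H a b ≠ 0 →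
      a ∈ centres K M → b ∈ centres K M := by
    intro a b ha hb haa hbb hab hac
    set k := K.bar (θ / H a b) with hk
    have hkF : k ∈ F₀ := bar_mem K (F₀.div_mem hθ (h_mem K D ha hb))
    have hk0 : k ≠ 0 := (map_ne_zero K.bar).2 (div_ne_zero hθ0 hab)
    have hakb : H a (k • b) = θ := by rw [h_smul_right K, hk, K.bar_bar, div_mul_cancel₀ _ hab]
    have hkba : H (k • b) a = -θ := by
      rw [h_swap K a (k • b), hakb]; linear_combination hθs
    have hz : H (k • b - a) (k • b - a) = 0 := by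
      rw [h_sub_left K, h_sub_right K, h_sub_right K, hakb, hkba, haa,
        h_smul_left K, h_smul_right K, hbb]
      ring
    have hskew : θ⁻¹ + K.bar θ⁻¹ = 0 := by
      rw [map_inv₀, show K.bar θ = -θ by linear_combination hθs, inv_neg, add_neg_cancel]
    obtain ⟨t, ht, hT⟩ := TM_rat K D hM (sub_mem (smul_mem_rat hkF hb) ha) hz (F₀.inv_mem hθ) hskew
    have e : app t a = k • b := by
      rw [hT.2.2, h_sub_right K, hakb, haa, sub_zero, inv_mul_cancel₀ hθ0, one_smul, add_sub_cancel]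
    have := smul_mem_centres K k⁻¹ (app_mem_centres K ht hac)
    rwa [e, smul_smul, inv_mul_cancel₀ hk0, one_smul] at this
  obtain ⟨z, hz, hzz, h1, h2⟩ := exists_both K D hx hu (fun e => hind 0 (by rw [e, zero_smul])) hu0
  exact hmove z u hz hu hzz huu h2 (hmove x z hx hz hxx hzz (h_ne_zero_symm K h1) hxc)

theorem top_of_bad {v : V} (hv : v ∈ rat F₀ P) (hv0 : v ≠ 0) (hvv : H v v = 0) {c : F}
    (hc : c ∉ F₀) (h : TM K M v c) : M = ⊤ := by
  have hn := D.dim
  have hcen : ∀ u ∈ rat F₀ P, H u u = 0 → u ∈ centres K M :=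
    fun u hu huu => centres_of_bad K D hM hv hv0 hvv hc h hu huu
  obtain ⟨θ, hθ, hθ0, hθs⟩ := exists_skew_mem K D
  obtain ⟨t, ht, htf⟩ := exists_notMem K D
  have hsk : θ * t + K.bar (θ * t) = 0 := by rw [map_mul, htf]; linear_combination t * hθs
  have hnot : θ * t ∉ F₀ := fun e => ht (by
    have := F₀.div_mem e hθ
    rwa [mul_div_cancel_left₀ _ hθ0] at this)
  refine eq_top_of_centres K (by omega) fun z hzz => ?_
  by_cases hz0 : z = 0
  · rw [hz0, show (0 : V) = (0 : F) • v by module]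
    exact smul_mem_centres K 0 (hcen v hv hvv)
  obtain ⟨a, ha, haa, haz⟩ : ∃ a ∈ rat F₀ P, H a a = 0 ∧ H a z ≠ 0 := by
    by_contra hcon
    push Not at hcon
    exact hz0 (eq_zero_of_iso K D hcon)
  have ha0 : a ≠ 0 := ne_zero_of_h K haz
  obtain ⟨a', ha', ha'a', h1⟩ := exists_partner K D ha ha0
  have h1' : H a a' = 1 := by rw [h_swap K a' a, h1, map_one]
  have hac := hcen a ha haa
  -- Siegel elements at `a`
  let good : V → Prop := fun b => H b a = 0 ∧ ∀ d, H b b + d + K.bar d = 0 →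
    ∃ g ∈ M, ∀ x, app g x = x + H x a • b - H x b • a + (d * H x a) • a
  have hTall : ∀ d, d + K.bar d = 0 → ∃ g ∈ M, IsT K g a d := fun d hd => by
    obtain ⟨g, hg⟩ := exists_T K haa hd
    exact ⟨g, hac.2 g d hg, hg⟩
  have hgline : ∀ k : F, good (k • a) := fun k => by
    refine ⟨by rw [h_smul_left K, haa, mul_zero], fun d hd => ?_⟩
    rw [h_smul_left K, h_smul_right K, haa, mul_zero, mul_zero, zero_add] at hd
    obtain ⟨g, hg, hT⟩ := hTall (d + k - K.bar k) (by
      rw [map_sub, map_add, K.bar_bar]; linear_combination hd)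
    refine ⟨g, hg, fun x => ?_⟩
    rw [hT.2.2, h_smul_right K]
    module
  have hgadd : ∀ b₁ b₂, good b₁ → good b₂ → good (b₁ + b₂) := by
    rintro b₁ b₂ ⟨e1, g1⟩ ⟨e2, g2⟩
    refine ⟨by rw [h_add_left K, e1, e2, add_zero], fun d hd => ?_⟩
    obtain ⟨y, hy⟩ := K.exists_trace
    have key : ∀ b : V, ∃ d₁, H b b + d₁ + K.bar d₁ = 0 := fun b => by
      refine ⟨-(H b b) * y / (y + K.bar y), ?_⟩
      rw [map_div₀, map_mul, map_neg, bar_self K, map_add, K.bar_bar, add_comm (K.bar y) y]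
      field_simp
      ring
    obtain ⟨d₁, hd₁⟩ := key b₁
    obtain ⟨d₂, hd₂⟩ := key b₂
    obtain ⟨s1, hs1, S1⟩ := g1 d₁ hd₁
    obtain ⟨s2, hs2, S2⟩ := g2 d₂ hd₂
    obtain ⟨t, ht, hT⟩ := hTall (d - (d₁ + d₂ - H b₂ b₁)) (by
      rw [h_add_left K, h_add_right K, h_add_right K] at hd
      rw [map_sub, map_sub, map_add, ← h_swap K b₂ b₁]
      linear_combination hd - hd₁ - hd₂)
    refine ⟨t * (s1 * s2), M.mul_mem ht (M.mul_mem hs1 hs2), fun x => ?_⟩
    rw [app_mul, app_mul, S2, S1, hT.2.2]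
    simp only [h_add_left K, h_sub_left K, h_add_right K, h_smul_left K, haa, e1, e2,
      h_eq_zero_symm K e1, h_eq_zero_symm K e2, mul_zero, add_zero, sub_zero]
    module
  have hgiso : ∀ x ∈ rat F₀ P, H x x = 0 → H x a = 0 → ∀ k : F, good (k • x) := by
    intro x hx hxx hxa k
    by_cases hxl : ∀ s : F, x ≠ s • a
    · refine ⟨by rw [h_smul_left K, hxa, mul_zero], fun d hd => ?_⟩
      rw [h_smul_left K, h_smul_right K, hxx, mul_zero, mul_zero, zero_add] at hd
      have hax := h_eq_zero_symm K hxa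
      obtain ⟨g0, hg0⟩ := exists_T K haa hsk
      have hL := LM_swap K haa hxx hax (LM_full K D hM ha hx ha0 haa hxx hax hxl hnot
        ⟨g0, hac.2 g0 _ hg0, hg0⟩ (K.bar k))
      rw [K.bar_bar] at hL
      obtain ⟨g, hg, hE⟩ := hL
      obtain ⟨t, ht, hT⟩ := hTall d hd
      refine ⟨t * g, M.mul_mem ht hg, fun z => ?_⟩
      rw [app_mul, hE, hT.2.2]
      simp only [h_add_left K, h_sub_left K, h_smul_left K, haa, hxa, mul_zero, add_zero, sub_zero]
    · push Not at hxl
      obtain ⟨s, rfl⟩ := hxl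
      rw [smul_smul]
      exact hgline _
  have hgproj : ∀ (k : F) (y : V), y ∈ rat F₀ P → H y a = 0 → H y a' = 0 → good (k • y) := by
    intro k y hy hya hya'
    by_cases hy0 : y = 0
    · rw [hy0, show k • (0 : V) = (0 : F) • a by module]; exact hgline 0
    obtain ⟨y₁, hy₁, y₂, hy₂, rfl, e1, e2, el1, el2⟩ :=
      exists_two_iso_pair K D ha ha' hy haa ha'a' h1' hya hya'
    rw [smul_add]
    exact hgadd _ _ (hgiso y₁ hy₁ e1 (el1 0) k) (hgiso y₂ hy₂ e2 (el2 0) k)
  have hgall : ∀ b : V, H b a = 0 → good b := by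
    intro b hb
    let pr : V → V := fun y => y - H y a' • a - H y a • a'
    have hpr : b = H b a' • a +
        ∑ j, (((P⁻¹ : GL (Fin n) F) : Matrix (Fin n) (Fin n) F) *ᵥ b) j • pr (col P j) := by
      simp only [pr, smul_sub, Finset.sum_sub_distrib, smul_smul, ← Finset.sum_smul, ← h_smul_left K,
        ← h_sum_left K, ← eq_sum_col (P := P) b, hb]
      module
    rw [hpr]
    refine hgadd _ _ (hgline _) (Finset.sum_induction _ good hgadd ?_ fun j _ => hgproj _ _ ?_ ?_ ?_)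
    · rw [show (0 : V) = (0 : F) • a by module]; exact hgline 0
    · exact sub_mem (sub_mem (col_mem j) (smul_mem_rat (h_mem K D (col_mem j) ha') ha))
        (smul_mem_rat (h_mem K D (col_mem j) ha) ha')
    · simp only [pr, h_sub_left K, h_smul_left K, haa, h1]; ring
    · simp only [pr, h_sub_left K, h_smul_left K, ha'a', h1']; ring
  -- move `a'`
  set z₁ := (H a z)⁻¹ • z with hz₁
  have hza : H a (K.bar (H a z)⁻¹ • z) = 1 := by
    rw [h_smul_right K, K.bar_bar, inv_mul_cancel₀ haz]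
  obtain ⟨u, hu⟩ : ∃ u, u = K.bar (H a z)⁻¹ • z := ⟨_, rfl⟩
  rw [← hu] at hza
  have hua : H u a = 1 := by rw [h_swap K a u, hza, map_one]
  have huu : H u u = 0 := by rw [hu, h_smul_left K, h_smul_right K, hzz, mul_zero, mul_zero]
  set b := u - a' - H u a' • a with hb
  have hba : H b a = 0 := by
    rw [hb]; simp only [h_sub_left K, h_smul_left K, hua, h1, haa]; ring
  have hba' : H b a' = 0 := by
    rw [hb]; simp only [h_sub_left K, h_smul_left K, ha'a', h1']; ring
  have hbd : H b b + H u a' + K.bar (H u a') = 0 := by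
    rw [hb]
    simp only [h_sub_left K, h_sub_right K, h_smul_left K, h_smul_right K, huu, haa, ha'a', h1, h1',
      hua, hza, ← h_swap K u a']
    ring
  obtain ⟨g, hg, hS⟩ := (hgall b hba).2 _ hbd
  have e : app g a' = u := by
    rw [hS, h1, h_eq_zero_symm K hba', hb]
    module
  have := smul_mem_centres K (K.bar (H a z)) (app_mem_centres K hg (hcen a' ha' ha'a'))
  rwa [e, hu, smul_smul, ← map_mul, mul_inv_cancel₀ haz, map_one, one_smul] at this

theorem scalar_mem (hne : M ≠ ⊤) {v : V} (hv : v ∈ rat F₀ P) (hv0 : v ≠ 0) (hvv : H v v = 0) {c : F}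
    (h : TM K M v c) : c ∈ F₀ :=
  by_contra fun hc => hne (top_of_bad K D hM hv hv0 hvv hc h)

/-- Products of the values of a transvection on a rational orthogonal. -/
theorem prod_mem (hne : M ≠ ⊤) {r₀ w : V} (hr : r₀ ∈ rat F₀ P) (hr0 : r₀ ≠ 0) (hrr : H r₀ r₀ = 0)
    (hrw : H r₀ w = 0) {c : F} (h : TM K M w c) {x y : V} (hx : x ∈ rat F₀ P) (hy : y ∈ rat F₀ P)
    (hxr : H x r₀ = 0) (hyr : H y r₀ = 0) : c * H w x * H y w ∈ F₀ := by
  have hn := D.dim
  obtain ⟨g₀, hg₀, hT₀⟩ := h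
  have hcb : K.bar c = -c := by linear_combination hT₀.2.1
  have hwr := h_eq_zero_symm K hrw
  have iso : ∀ x y : V, x ∈ rat F₀ P → y ∈ rat F₀ P → H x x = 0 → H y y = 0 → H x r₀ = 0 →
      H y r₀ = 0 → c * H w x * H y w ∈ F₀ := by
    intro x y hx hy hxx hyy hxr hyr
    have key : ∀ y : V, y ∈ rat F₀ P → H y y = 0 → H y r₀ = 0 →
        c * H w x * H y w - K.bar (c * H w x * H y w) ∈ F₀ := by
      intro y hy hyy hyr
      obtain ⟨h₁, hh₁, hE₁⟩ := LM_rat K D hM hr hx hrr hxx (h_eq_zero_symm K hxr) F₀.one_mem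
      rw [one_smul] at hE₁
      obtain ⟨h₂, hh₂, hE₂⟩ := LM_rat K D hM hr hy hrr hyy (h_eq_zero_symm K hyr) F₀.one_mem
      rw [one_smul] at hE₂
      obtain ⟨g₁, hg₁, hT₁⟩ := TM_conj K ⟨g₀, hg₀, hT₀⟩ hh₁
      have hw1 : app h₁ w = w + H w x • r₀ := by rw [hE₁, hwr, zero_smul, sub_zero]
      obtain ⟨e, he, hEe⟩ : ∃ e ∈ M, ∀ z, app e z =
          z + c • (H z w • H w x • r₀ + (K.bar (H w x) * H z r₀) • w +
            (H w x * K.bar (H w x) * H z r₀) • r₀) := by
        refine ⟨g₁ * g₀⁻¹, M.mul_mem hg₁ (M.inv_mem hg₀), fun z => ?_⟩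
        rw [app_mul, (TM_inv K hT₀).2.2, hT₁.2.2, hw1]
        simp only [h_add_left K, h_add_right K, h_smul_left K, h_smul_right K, hT₀.1, hwr, mul_zero,
          add_zero]
        module
      have hfix : app h₂ r₀ = r₀ := by
        rw [hE₂, h_eq_zero_symm K hyr, hrr, zero_smul, zero_smul, add_zero, sub_zero]
      have hw2 : app h₂ w = w + H w y • r₀ := by rw [hE₂, hwr, zero_smul, sub_zero]
      set κ := c * H w x * H y w - K.bar (c * H w x * H y w) with hκ
      have hsk : κ + K.bar κ = 0 := by rw [hκ, map_sub, K.bar_bar]; ring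
      obtain ⟨t, hT⟩ := exists_T K hrr hsk
      refine scalar_mem K D hM hne hr hr0 hrr ⟨t, ?_, hT⟩
      have : t = h₂ * e * h₂⁻¹ * e⁻¹ := by
        rw [eq_mul_inv_iff_mul_eq]
        refine ext_app fun z => ?_
        have e1 : H (app h₂⁻¹ z) w = H z (w + H w y • r₀) := by rw [← hw2, ← h_app h₂, app_inv']
        have e2 : H (app h₂⁻¹ z) r₀ = H z r₀ := by rw [← h_app h₂, app_inv', hfix]
        rw [app_mul, app_mul, app_mul, hEe, hEe, hT.2.2, app_add, app_smul, app_add, app_add,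
          app_smul, app_smul, app_smul, app_smul, app_inv', hfix, hw2, e1, e2, hκ, map_mul, map_mul, hcb,
          ← h_swap K y w]
        simp only [h_add_left K, h_add_right K, h_smul_left K, h_smul_right K, hrr, hwr, mul_zero,
          add_zero, ← h_swap K w y]
        module
      rw [this]
      exact M.mul_mem (M.mul_mem (M.mul_mem hh₂ he) (M.inv_mem hh₂)) (M.inv_mem he)
    obtain ⟨s, hs, hsb⟩ := exists_moved_mem K D
    have k1 := key y hy hyy hyr
    have k2 := key (s • y) (smul_mem_rat hs hy)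
      (by rw [h_smul_left K, h_smul_right K, hyy, mul_zero, mul_zero])
      (by rw [h_smul_left K, hyr, mul_zero])
    rw [h_smul_left K, show c * H w x * (s * H y w) = s * (c * H w x * H y w) by ring, map_mul] at k2
    have := F₀.div_mem (F₀.sub_mem k2 (F₀.mul_mem (bar_mem K hs) k1)) (F₀.sub_mem hs (bar_mem K hs))
    have hne' : s - K.bar s ≠ 0 := sub_ne_zero.2 (Ne.symm hsb)
    rwa [show (s * (c * H w x * H y w) - K.bar s * K.bar (c * H w x * H y w) -
      K.bar s * (c * H w x * H y w - K.bar (c * H w x * H y w))) / (s - K.bar s) =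
        c * H w x * H y w by field_simp; ring] at this
  have split : ∀ x ∈ rat F₀ P, H x r₀ = 0 →
      (∃ a ∈ rat F₀ P, ∃ b ∈ rat F₀ P, x = a + b ∧ H a a = 0 ∧ H b b = 0 ∧ H a r₀ = 0 ∧ H b r₀ = 0) := by
    intro x hx hxr
    by_cases hl : ∀ k : F, x ≠ k • r₀
    · obtain ⟨a, ha, b, hb, e, e1, e2, f1, f2⟩ := exists_two_iso K D (k := 1) (by omega) ![r₀]
        (fun i => by fin_cases i; exact hr) hx (fun i => by fin_cases i; exact hxr) (fun d hd => by
          simp only [Fin.sum_univ_castSucc, Fin.snoc_castSucc, Fin.snoc_last, Fin.sum_univ_zero] at hd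
          refine indep_two K hr0 hl d ?_
          simpa [Fin.sum_univ_two] using hd)
      exact ⟨a, ha, b, hb, e, e1, e2, f1 0, f2 0⟩
    · push Not at hl
      obtain ⟨k, rfl⟩ := hl
      exact ⟨k • r₀, hx, 0, zero_mem _, by rw [add_zero], by
        rw [h_smul_left K, h_smul_right K, hrr, mul_zero, mul_zero], h_zero_left K 0, hxr,
        h_zero_left K _⟩
  obtain ⟨a, ha, b, hb, rfl, a1, b1, a2, b2⟩ := split x hx hxr
  obtain ⟨a', ha', b', hb', rfl, a1', b1', a2', b2'⟩ := split y hy hyr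
  rw [h_add_right K, h_add_left K, mul_add, mul_add, add_mul, add_mul]
  exact F₀.add_mem (F₀.add_mem (iso a a' ha ha' a1 a1' a2 a2') (iso b a' hb ha' b1 a1' b2 a2'))
    (F₀.add_mem (iso a b' ha hb' a1 b1' a2 b2') (iso b b' hb hb' b1 b1' b2 b2'))

/-- A transvection with centre orthogonal to a rational isotropic vector is rational. -/
theorem rational_of_perp (hne : M ≠ ⊤) {r₀ w : V} (hr : r₀ ∈ rat F₀ P) (hr0 : r₀ ≠ 0)
    (hrr : H r₀ r₀ = 0) (hrw : H r₀ w = 0) (hw0 : w ≠ 0) {c : F} (hc0 : c ≠ 0) (h : TM K M w c) :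
    ∃ (a : F) (z : V), z ∈ rat F₀ P ∧ w = a • z ∧ c * a * K.bar a ∈ F₀ := by
  have hn := D.dim
  suffices main : ∃ (a : F) (z : V), z ∈ rat F₀ P ∧ w = a • z by
    obtain ⟨a, z, hz, rfl⟩ := main
    have ha0 : a ≠ 0 := fun e => hw0 (by rw [e, zero_smul])
    have hzz : H z z = 0 := by
      obtain ⟨g, -, hgz, -⟩ := h
      simpa [h_smul_left K, h_smul_right K, ha0] using hgz
    exact ⟨a, z, hz, rfl,
      scalar_mem K D hM hne hz (fun e => hw0 (by rw [e, smul_zero])) hzz (TM_scale K hzz h)⟩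
  obtain ⟨r', hr', -, hr1⟩ := exists_partner K D hr hr0
  by_cases hzero : ∀ y ∈ rat F₀ P, H y r₀ = 0 → H y w = 0
  · refine ⟨H w r', r₀, hr, sub_eq_zero.1 (eq_zero_of_rat (F₀ := F₀) (P := P) K fun y hy => ?_)⟩
    have := hzero (y - H y r₀ • r') (sub_mem hy (smul_mem_rat (h_mem K D hy hr) hr'))
      (by rw [h_sub_left K, h_smul_left K, hr1, mul_one, sub_self])
    rw [h_sub_left K, h_smul_left K] at this
    rw [h_sub_right K, h_smul_right K, ← h_swap K w r']
    linear_combination this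
  push Not at hzero
  obtain ⟨x₀, hx₀, hx₀r, hτ⟩ := hzero
  set τ := H x₀ w with hτdef
  have hwx₀ := h_ne_zero_symm K hτ
  have hratio : ∀ r₁ : V, r₁ ∈ rat F₀ P → r₁ ≠ 0 → H r₁ r₁ = 0 → H r₁ w = 0 → H x₀ r₁ = 0 →
      ∀ y ∈ rat F₀ P, H y r₁ = 0 → H y w / τ ∈ F₀ := by
    intro r₁ hr₁ hr₁0 hr₁r hr₁w hxr₁ y hy hyr
    have := F₀.div_mem (prod_mem K D hM hne hr₁ hr₁0 hr₁r hr₁w h hx₀ hy hxr₁ hyr)
      (prod_mem K D hM hne hr₁ hr₁0 hr₁r hr₁w h hx₀ hx₀ hxr₁ hxr₁)
    rwa [← hτdef, mul_div_mul_left _ _ (mul_ne_zero hc0 hwx₀)] at this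
  have h1 := hratio r₀ hr hr0 hrr hrw hx₀r
  obtain ⟨z₀, hz₀, hz₀v⟩ := exists_rep K D (fun j => H (col P j - H (col P j) r₀ • r') w / τ)
    fun j => h1 _ (sub_mem (col_mem j) (smul_mem_rat (h_mem K D (col_mem j) hr) hr'))
      (by rw [h_sub_left K, h_smul_left K, hr1, mul_one, sub_self])
  have hz₀all : ∀ y : V, H y z₀ = H (y - H y r₀ • r') w / τ := by
    intro y
    have e : ∀ u : V, H (y - H y r₀ • r') u = ∑ j,
        (((P⁻¹ : GL (Fin n) F) : Matrix (Fin n) (Fin n) F) *ᵥ y) j *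
          H (col P j - H (col P j) r₀ • r') u := fun u => by
      simp only [h_sub_left K, h_smul_left K, mul_sub, Finset.sum_sub_distrib, ← mul_assoc,
        ← Finset.sum_mul]
      simp only [← h_smul_left K, ← h_sum_left K, ← eq_sum_col (P := P) y]
    rw [e]
    conv_lhs => rw [eq_sum_col (P := P) y, h_sum_left K]
    rw [Finset.sum_div]
    exact Finset.sum_congr rfl fun j _ => by rw [h_smul_left K, hz₀v, mul_div_assoc]
  obtain ⟨r₂, hr₂0, hr₂, hr₂r, hr₂l⟩ := exists_iso K D (by omega : 4 + 2 ≤ n) ![r₀, z₀, r', x₀]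
    (fun i => by fin_cases i <;> assumption)
  have hr₂w : H r₂ w = 0 := by
    have := hz₀all r₂
    rw [show H r₂ z₀ = 0 from hr₂l 1, show H r₂ r₀ = 0 from hr₂l 0, zero_smul, sub_zero, eq_comm,
      div_eq_zero_iff] at this
    exact this.resolve_right hτ
  have h2 := hratio r₂ hr₂ hr₂0 hr₂r hr₂w (h_eq_zero_symm K (hr₂l 3)) r' hr'
    (h_eq_zero_symm K (hr₂l 2))
  obtain ⟨z, hz, hzv⟩ := exists_rep K D (fun j => H (col P j) w / τ) fun j => by
    have h3 := h1 (col P j - H (col P j) r₀ • r')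
      (sub_mem (col_mem j) (smul_mem_rat (h_mem K D (col_mem j) hr) hr'))
      (by rw [h_sub_left K, h_smul_left K, hr1, mul_one, sub_self])
    rw [h_sub_left K, h_smul_left K, sub_div, mul_div_assoc] at h3
    have := F₀.add_mem h3 (F₀.mul_mem (h_mem K D (col_mem j) hr) h2)
    rwa [sub_add_cancel] at this
  refine ⟨K.bar τ, z, hz, sub_eq_zero.1 (eq_zero_of_cols (P := P) K fun j => ?_)⟩
  rw [h_sub_right K, h_smul_right K, K.bar_bar, hzv, mul_div_cancel₀ _ hτ, sub_self]

omit hM in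
theorem linear_of_quadratic {a A B C : F} (ha : a ∉ F₀) (hA : A ∈ F₀) (hB : B ∈ F₀) (hC : C ∈ F₀)
    (h : A * a ^ 2 + B * a + C = 0) : A = 0 := by
  by_contra hA0
  let S : Set F := {t | ∃ p ∈ F₀, ∃ s ∈ F₀, t = p + s * a}
  have hS := MinIndex.Subfield.eq_univ_of_closed (S := S) (c := a) D.prime D.card
    (fun d hd => ⟨d, hd, 0, F₀.zero_mem, by rw [zero_mul, add_zero]⟩)
    (by
      rintro _ ⟨p, hp, s, hs, rfl⟩ _ ⟨p', hp', s', hs', rfl⟩
      exact ⟨_, F₀.add_mem hp hp', _, F₀.add_mem hs hs', by ring⟩)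
    (by
      rintro _ ⟨p, hp, s, hs, rfl⟩ _ ⟨p', hp', s', hs', rfl⟩
      refine ⟨p * p' - s * s' * (C / A),
        F₀.sub_mem (F₀.mul_mem hp hp') (F₀.mul_mem (F₀.mul_mem hs hs') (F₀.div_mem hC hA)),
        p * s' + p' * s - s * s' * (B / A),
        F₀.sub_mem (F₀.add_mem (F₀.mul_mem hp hs') (F₀.mul_mem hp' hs))
          (F₀.mul_mem (F₀.mul_mem hs hs') (F₀.div_mem hB hA)), ?_⟩
      field_simp
      linear_combination (s * s') * h)
    ⟨0, F₀.zero_mem, 1, F₀.one_mem, by rw [one_mul, zero_add]⟩ ha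
  have hle : Nat.card F ≤ Nat.card (F₀ × F₀) := by
    refine Nat.card_le_card_of_surjective (fun z : F₀ × F₀ => (z.1 : F) + z.2 * a) fun t => ?_
    obtain ⟨p, hp, s, hs, e⟩ := hS t
    exact ⟨(⟨p, hp⟩, ⟨s, hs⟩), e.symm⟩
  rw [Nat.card_prod, D.card, ← pow_two] at hle
  have h3 : 3 ≤ r := by
    have := D.prime.two_le
    have := Nat.odd_iff.1 D.odd
    omega
  have h2 : 1 < Nat.card F₀ := Finite.one_lt_card
  have := Nat.pow_lt_pow_right h2 (show 2 < r by omega)
  omega

omit K D M hM in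
theorem card_fixed_all {F' : Type*} [Field F'] [Finite F'] {q' : ℕ} (K' : Unitary.Conj F' q') :
    Nat.card {c : F' // K'.bar c = c} = q' := by
  classical
  have h := card_fixed K'
  have hq := K'.two_le
  let e : {c : F' // K'.bar c = c} ≃ Option {c : F' // K'.bar c = c ∧ c ≠ 0} :=
    { toFun := fun c => if hc : (c : F') = 0 then none else some ⟨c, c.2, hc⟩
      invFun := fun o => o.elim ⟨0, map_zero _⟩ fun c => ⟨c, c.2.1⟩
      left_inv := fun c => by
        by_cases hc : (c : F') = 0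
        · simp [hc, Subtype.ext_iff]
        · simp [hc]
      right_inv := fun o => by
        cases o with
        | none => simp
        | some c => simp [c.2.2] }
  rw [Nat.card_congr e, Finite.card_option, h]
  omega

/-- A centre of a transvection of `M` is orthogonal to some rational isotropic vector. -/
theorem exists_perp_centre (hne : M ≠ ⊤) {w : V} {c : F} (hc0 : c ≠ 0) (h : TM K M w c) :
    ∃ r₀ ∈ rat F₀ P, r₀ ≠ 0 ∧ H r₀ r₀ = 0 ∧ H r₀ w = 0 := by
  classical
  by_contra hall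
  push Not at hall
  have hn := D.dim
  obtain ⟨v, hv0, hv, hvv, -⟩ := exists_iso K D (k := 0) (by omega) ![] (fun i => i.elim0)
  obtain ⟨x, hx, hxx, hvx, hind⟩ := exists_second K D hv hv0
  obtain ⟨v', x', y, y', Hp⟩ := exists_pairs K D hv hx hv0 hvv hxx hvx hind
  obtain ⟨q₀, K₀, hq, hbar⟩ := exists_sub_conj K D
  obtain ⟨θ, hθ, hθ0, hθs⟩ := exists_skew_mem K D
  have sy : ∀ {a b : V}, H a b = 0 → H b a = 0 := fun h => h_eq_zero_symm K h
  -- the totally isotropic span
  let U := Submodule.span F ({v, x, y} : Set V)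
  have hUU : ∀ a ∈ U, ∀ b ∈ U, H a b = 0 := by
    intro a ha b hb
    induction ha, hb using Submodule.span_induction₂ with
    | mem_mem a b ha hb =>
      rcases ha with rfl | rfl | rfl <;> rcases hb with rfl | rfl | rfl <;>
        first
          | exact hvv | exact hxx | exact Hp.y0 | exact hvx | exact sy hvx | exact Hp.vy
          | exact sy Hp.vy | exact Hp.xy | exact sy Hp.xy
    | zero_left b _ => exact h_zero_left K b
    | zero_right a _ => exact h_zero_right K a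
    | add_left a b z _ _ _ h1 h2 => rw [h_add_left K, h1, h2, add_zero]
    | add_right a b z _ _ _ h1 h2 => rw [h_add_right K, h1, h2, add_zero]
    | smul_left t a b _ _ h1 => rw [h_smul_left K, h1, mul_zero]
    | smul_right t a b _ _ h1 => rw [h_smul_right K, h1, mul_zero]
  let u : (Fin 3 → F₀) → V := fun k => (k 0 : F) • v + (k 1 : F) • x + (k 2 : F) • y
  have huR : ∀ k, u k ∈ rat F₀ P := fun k =>
    add_mem (add_mem (smul_mem_rat (k 0).2 hv) (smul_mem_rat (k 1).2 hx)) (smul_mem_rat (k 2).2 Hp.ry)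
  have huU : ∀ k, u k ∈ U := fun k =>
    U.add_mem (U.add_mem (U.smul_mem _ (Submodule.subset_span (by simp)))
      (U.smul_mem _ (Submodule.subset_span (by simp)))) (U.smul_mem _ (Submodule.subset_span (by simp)))
  have hui : Function.Injective u := fun k k' e => by
    have e0 := congrArg (fun z => H z v') e
    have e1 := congrArg (fun z => H z x') e
    have e2 := congrArg (fun z => H z y') e
    simp [u, h_add_left K, h_smul_left K, Hp.vv, Hp.xx, Hp.yy, sy Hp.v'x, sy Hp.v'y, Hp.vx',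
      sy Hp.x'y, Hp.vy', Hp.xy'] at e0 e1 e2
    funext i
    fin_cases i <;> assumption
  set lam := H v w with hlam
  have hlam0 : lam ≠ 0 := hall v hv hv0 hvv
  -- values on the span
  have hcount : ∀ A : AddSubgroup F, (∀ z ∈ rat F₀ P, z ∈ U → H z w * K.bar (H z w) ∈ A) →
      q₀ ^ 6 ≤ Nat.card A * Nat.card A := by
    intro A hA
    obtain ⟨s, hs, hsb⟩ := exists_moved_mem K D
    have hvU : v ∈ U := Submodule.subset_span (by simp)
    have htr : ∀ z ∈ rat F₀ P, z ∈ U → ∀ t ∈ F₀,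
        t * H z w * K.bar lam + K.bar t * K.bar (H z w) * lam ∈ A := by
      intro z hz hzU t ht
      have := A.sub_mem (A.sub_mem (hA (t • z + v) (add_mem (smul_mem_rat ht hz) hv)
        (U.add_mem (U.smul_mem _ hzU) hvU)) (hA (t • z) (smul_mem_rat ht hz) (U.smul_mem _ hzU)))
        (hA v hv hvU)
      rw [h_add_left K, h_smul_left K, ← hlam, map_add, map_mul] at this
      convert this using 1
      ring
    let f : (Fin 3 → F₀) → A × A := fun k =>
      (⟨_, htr (u k) (huR k) (huU k) 1 F₀.one_mem⟩, ⟨_, htr (u k) (huR k) (huU k) s hs⟩)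
    have hf : Function.Injective f := fun k k' e => by
      simp only [f, Prod.mk.injEq, Subtype.mk.injEq, map_one, one_mul] at e
      have hz : H (u k) w = H (u k') w := by
        refine mul_right_cancel₀ ((map_ne_zero K.bar).2 hlam0)
          (mul_left_cancel₀ (sub_ne_zero.2 (Ne.symm hsb)) ?_)
        linear_combination e.2 - K.bar s * e.1
      refine hui (sub_eq_zero.1 (by_contra fun hne' => ?_))
      refine hall _ (sub_mem (huR k) (huR k')) hne'
        (hUU _ (U.sub_mem (huU k) (huU k')) _ (U.sub_mem (huU k) (huU k'))) ?_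
      rw [h_sub_left K, hz, sub_self]
    have := Nat.card_le_card_of_injective f hf
    rw [Nat.card_prod, Nat.card_fun, Nat.card_fin, K₀.card, ← pow_mul] at this
    exact this
  -- the fixed field
  let E : Subfield F := (K.bar.toRingHom).eqLocusField (RingHom.id F)
  have memE : ∀ {t : F}, t ∈ E ↔ K.bar t = t := Iff.rfl
  obtain ⟨g, hg, hT⟩ := h
  have hww := hT.1
  have hcb : K.bar c = -c := by linear_combination hT.2.1
  have hθb : K.bar θ = -θ := by linear_combination hθs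
  have hμE : c * θ ∈ E := memE.2 (by rw [map_mul, hcb, hθb, neg_mul_neg])
  have hμ0 : c * θ ≠ 0 := mul_ne_zero hc0 hθ0
  set cw := lam / θ with hcw
  set w' := cw • w with hw'
  let Rd : V → Prop := fun z => z ∈ U ∧ H z w = 0
  have Rd_add : ∀ {a b : V}, Rd a → Rd b → Rd (a + b) := fun ha hb =>
    ⟨U.add_mem ha.1 hb.1, by rw [h_add_left K, ha.2, hb.2, add_zero]⟩
  have Rd_smul : ∀ {a : V} (t : F), Rd a → Rd (t • a) := fun t ha =>
    ⟨U.smul_mem _ ha.1, by rw [h_smul_left K, ha.2, mul_zero]⟩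
  have Rd_zero : Rd 0 := ⟨U.zero_mem, h_zero_left K w⟩
  let Pl : SL(2, E) → Prop := fun S => ∃ g ∈ M, (∀ z, Rd z → app g z = z) ∧
    Rd (app g v - ((S.1 0 0 : F) • v + (S.1 1 0 : F) • w')) ∧
    Rd (app g w' - ((S.1 0 1 : F) • v + (S.1 1 1 : F) • w'))
  have Pl_mul : ∀ S S', Pl S → Pl S' → Pl (S * S') := by
    rintro S S' ⟨g, hg, hfix, h1, h2⟩ ⟨g', hg', hfix', h1', h2'⟩
    have key : ∀ (z : V) (p p' : F), Rd (z - (p • v + p' • w')) →
        Rd (app g z - ((p * (S.1 0 0 : F) + p' * (S.1 0 1 : F)) • v +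
          (p * (S.1 1 0 : F) + p' * (S.1 1 1 : F)) • w')) := by
      intro z p p' hz
      have e : app g z = app g (z - (p • v + p' • w')) + (p • app g v + p' • app g w') := by
        rw [← app_smul, ← app_smul, ← app_add, ← app_add, sub_add_cancel]
      rw [e, hfix _ hz]
      convert Rd_add (Rd_add (Rd_smul p h1) (Rd_smul p' h2)) hz using 1
      module
    refine ⟨g * g', M.mul_mem hg hg', fun z hz => by rw [app_mul, hfix' z hz, hfix z hz], ?_, ?_⟩
    · convert key _ _ _ h1' using 1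
      rw [app_mul]
      simp only [Matrix.SpecialLinearGroup.coe_mul, Matrix.mul_apply, Fin.sum_univ_two,
        Subfield.coe_add, Subfield.coe_mul]
      module
    · convert key _ _ _ h2' using 1
      rw [app_mul]
      simp only [Matrix.SpecialLinearGroup.coe_mul, Matrix.mul_apply, Fin.sum_univ_two,
        Subfield.coe_add, Subfield.coe_mul]
      module
  have Pl_one : Pl 1 := ⟨1, M.one_mem, fun z _ => app_one z,
    by simpa [app_one] using Rd_zero, by simpa [app_one] using Rd_zero⟩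
  have Pl_pow : ∀ S, Pl S → ∀ k : ℕ, Pl (S ^ k) := fun S hS k => by
    induction k with
    | zero => exact Pl_one
    | succ k ih => rw [pow_succ]; exact Pl_mul _ _ ih hS
  let Hp2 : Subgroup SL(2, E) :=
    { carrier := {S | Pl S}
      one_mem' := Pl_one
      mul_mem' := fun {S S'} a b => Pl_mul S S' a b
      inv_mem' := fun {S} hS => by
        show Pl S⁻¹
        rw [show S⁻¹ = S ^ (orderOf S - 1) from inv_eq_of_mul_eq_one_right (by
          rw [← pow_succ', Nat.sub_add_cancel (orderOf_pos S), pow_orderOf_eq_one])]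
        exact Pl_pow _ hS _ }
  let W : AddSubgroup E :=
    { carrier := {t | CfsgLib.SL2.up t ∈ Hp2}
      zero_mem' := by show CfsgLib.SL2.up (0 : E) ∈ Hp2; rw [CfsgLib.SL2.up_zero]; exact Hp2.one_mem
      add_mem' := fun {s t} hs ht => by
        show CfsgLib.SL2.up (s + t) ∈ Hp2; rw [CfsgLib.SL2.up_add]; exact Hp2.mul_mem hs ht
      neg_mem' := fun {s} hs => by
        show CfsgLib.SL2.up (-s) ∈ Hp2; rw [CfsgLib.SL2.up_neg]; exact Hp2.inv_mem hs }
  have hNE : ∀ z : V, H z w * K.bar (H z w) ∈ E := fun z =>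
    memE.2 (by rw [map_mul, K.bar_bar, mul_comm])
  have hWN : ∀ z ∈ rat F₀ P, z ∈ U → (⟨_, hNE z⟩ : E) ∈ W := by
    intro z hz hzU
    obtain ⟨t, ht, hTt⟩ := TM_rat K D hM hz (hUU z hzU z hzU) hθ hθs
    refine ⟨t, ht, fun a ha => ?_, ?_, ?_⟩
    · rw [hTt.2.2, hUU a ha.1 z hzU, mul_zero, zero_smul, add_zero]
    · simpa [hTt.2.2, hUU v (Submodule.subset_span (by simp)) z hzU, CfsgLib.SL2.up_coe] using Rd_zero
    · have hd : Rd (z - (H z w / lam) • v) := ⟨U.sub_mem hzU (U.smul_mem _ (Submodule.subset_span (by simp))),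
        by rw [h_sub_left K, h_smul_left K, ← hlam, div_mul_cancel₀ _ hlam0, sub_self]⟩
      have := Rd_smul (lam * H w z) hd
      simp only [CfsgLib.SL2.up_coe, Matrix.of_apply, Matrix.cons_val', Matrix.cons_val_zero,
        Matrix.cons_val_one, Matrix.cons_val_fin_one, hTt.2.2, hw', h_smul_left K]
      convert this using 1
      simp only [OneMemClass.coe_one]
      rw [← h_swap K z w, hcw]
      simp only [smul_sub, smul_smul, show θ * (lam / θ * H w z) = lam * H w z by field_simp,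
        show lam * H w z * (H z w / lam) = H z w * H w z by field_simp]
      module
  have hlo : CfsgLib.SL2.lo (⟨_, hμE⟩ : E) ∈ Hp2 := by
    refine ⟨g, hg, fun a ha => by rw [hT.2.2, ha.2, mul_zero, zero_smul, add_zero], ?_, ?_⟩
    · simp only [CfsgLib.SL2.lo_coe, Matrix.of_apply, Matrix.cons_val', Matrix.cons_val_zero,
        Matrix.cons_val_one, Matrix.cons_val_fin_one, hT.2.2, hw', ← hlam]
      convert Rd_zero using 1
      rw [Subfield.coe_one, smul_smul, hcw, show c * θ * (lam / θ) = c * lam by field_simp]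
      module
    · simpa [CfsgLib.SL2.lo_coe, hT.2.2, hw', h_smul_left K, hww] using Rd_zero
  let WF : AddSubgroup F := W.map E.subtype.toAddMonoidHom
  have hWF : Nat.card WF = Nat.card W :=
    (Nat.card_congr (W.equivMapOfInjective E.subtype.toAddMonoidHom Subtype.val_injective).toEquiv).symm
  have h6 := hcount WF fun z hz hzU => ⟨⟨_, hNE z⟩, hWN z hz hzU, rfl⟩
  rw [hWF] at h6
  have hq₀ := K₀.two_le
  have h5 : 5 < Nat.card W := by
    by_contra hle
    have : Nat.card W * Nat.card W ≤ 5 * 5 := Nat.mul_le_mul (by omega) (by omega)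
    have : 2 ^ 6 ≤ q₀ ^ 6 := Nat.pow_le_pow_left hq₀ 6
    omega
  have hcardE : Nat.card E = q := card_fixed_all K
  have htop : Hp2 = ⊤ := by
    refine CfsgLib.SL2.eq_top_of_up_lo W (fun t ht => ht) (μ := (⟨_, hμE⟩ : E))
      (fun e => hμ0 (congrArg Subtype.val e)) hlo h5 fun Kf hKf => ?_
    have hvU : v ∈ U := Submodule.subset_span (by simp)
    have hsub : ∀ s : E, (s : F) ∈ F₀ → s ∈ Kf := by
      intro s hs
      obtain ⟨k, hk, hkn⟩ := exists_norm_eq K D hs s.2
      have a1 := hKf _ (hWN (k • v) (smul_mem_rat hk hv) (U.smul_mem _ hvU))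
      have a2 := hKf _ (hWN v hv hvU)
      have := Kf.div_mem a1 a2
      convert this using 1
      refine Subtype.ext ?_
      simp only [Subfield.coe_div, Subfield.coe_mul]
      rw [h_smul_left K, map_mul, show k * H v w * (K.bar k * K.bar (H v w)) =
        (k * K.bar k) * (H v w * K.bar (H v w)) by ring, hkn]
      have hb0 : K.bar lam ≠ 0 := (map_ne_zero K.bar).2 hlam0
      rw [← hlam]
      field_simp
    have hEcard : Nat.card E = Nat.card (F₀.comap E.subtype) ^ r := by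
      rw [hcardE, hq]
      congr 1
      rw [← card_fixed_all K₀]
      exact Nat.card_congr
        { toFun := fun c => ⟨⟨(c.1 : F), memE.2 (by rw [← hbar, c.2])⟩, c.1.2⟩
          invFun := fun s => ⟨⟨(s.1 : F), s.2⟩, Subtype.ext (by rw [hbar]; exact s.1.2)⟩
          left_inv := fun c => rfl
          right_inv := fun s => rfl }
    by_contra hKne
    have hin : ∀ t ∈ W, ((⟨_, hμE⟩ : E) * t : E).1 ∈ F₀ := fun t ht => by_contra fun hn => hKne (by
      rw [eq_top_iff]
      intro e _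
      exact MinIndex.Subfield.eq_univ_of_closed (F₀ := F₀.comap E.subtype) (S := (Kf : Set E))
        D.prime hEcard (fun d hd => hsub d hd) (fun _ a _ b => Kf.add_mem a b)
        (fun _ a _ b => Kf.mul_mem a b) (hKf t ht) hn e)
    let A : AddSubgroup F :=
      { carrier := {t | K.bar t = t ∧ c * θ * t ∈ F₀}
        zero_mem' := ⟨map_zero _, by rw [mul_zero]; exact F₀.zero_mem⟩
        add_mem' := fun {s t} hs ht =>
          ⟨by rw [map_add, hs.1, ht.1], by rw [mul_add]; exact F₀.add_mem hs.2 ht.2⟩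
        neg_mem' := fun {s} hs => ⟨by rw [map_neg, hs.1], by rw [mul_neg]; exact F₀.neg_mem hs.2⟩ }
    have hA := hcount A fun z hz hzU =>
      ⟨memE.1 (hNE z), hin _ (hWN z hz hzU)⟩
    have hAle : Nat.card A ≤ q₀ := by
      rw [← card_fixed_all K₀]
      refine Nat.card_le_card_of_injective (fun t => ⟨⟨c * θ * (t : F), t.2.2⟩,
        Subtype.ext (by rw [hbar]; show K.bar (c * θ * (t : F)) = _; exact (map_mul _ _ _).trans (congrArg₂ (· * ·) (memE.1 hμE) t.2.1))⟩) ?_
      intro s t e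
      exact Subtype.ext (mul_left_cancel₀ hμ0 (congrArg (fun z => (z.1 : F)) e))
    have h2 : Nat.card A * Nat.card A ≤ q₀ * q₀ := Nat.mul_le_mul hAle hAle
    have h3 : q₀ ^ 2 < q₀ ^ 6 := Nat.pow_lt_pow_right hq₀ (by norm_num)
    rw [pow_two] at h3
    omega
  -- a torus element
  obtain ⟨e, he0, he1⟩ : ∃ e : E, e ≠ 0 ∧ e ≠ 1 := by
    by_contra hcon
    push Not at hcon
    have : Nat.card E ≤ 2 := by
      refine (Nat.card_le_card_of_surjective (fun b : Bool => if b then (1 : E) else 0) fun e => ?_).trans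
        (by simp)
      by_cases h0 : e = 0
      · exact ⟨false, h0.symm⟩
      · exact ⟨true, (hcon e h0).symm⟩
    have h3 : q₀ ^ 2 ≤ q₀ ^ r := Nat.pow_le_pow_right (by omega) D.prime.two_le
    have h4 : 2 ^ 2 ≤ q₀ ^ 2 := Nat.pow_le_pow_left hq₀ 2
    omega
  obtain ⟨S₀, hS₀⟩ : ∃ S : SL(2, E), S.1 = !![e, 0; 0, e⁻¹] :=
    ⟨⟨!![e, 0; 0, e⁻¹], by simp [he0]⟩, rfl⟩
  obtain ⟨gx, hgx, hfix, hgv, -⟩ := (show S₀ ∈ Hp2 from htop ▸ Subgroup.mem_top S₀)
  simp only [hS₀, Matrix.of_apply, Matrix.cons_val', Matrix.cons_val_zero, Matrix.cons_val_one,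
    Matrix.cons_val_fin_one, Subfield.coe_zero, zero_smul, add_zero] at hgv
  obtain ⟨d, hd⟩ : ∃ d, d = lam⁻¹ • (app gx v - v) := ⟨_, rfl⟩
  have hvU : v ∈ U := Submodule.subset_span (by simp)
  have hgvU : app gx v ∈ U := by
    have := U.add_mem hgv.1 (U.smul_mem (e : F) hvU)
    rwa [sub_add_cancel] at this
  have hd0 : d ≠ 0 := by
    intro hd'
    rw [hd, smul_eq_zero] at hd'
    have e2 : app gx v = v := sub_eq_zero.1 (hd'.resolve_left (inv_ne_zero hlam0))
    have h3 := hgv.2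
    rw [e2, h_sub_left K, h_smul_left K, ← hlam] at h3
    refine he1 (Subtype.ext ?_)
    show (e : F) = 1
    exact mul_right_cancel₀ hlam0 (by linear_combination -h3)
  have hgu : ∀ z ∈ U, app gx z = z + H z w • d := by
    intro z hz
    have hrd : Rd (z - (H z w / lam) • v) := ⟨U.sub_mem hz (U.smul_mem _ hvU),
      by rw [h_sub_left K, h_smul_left K, ← hlam, div_mul_cancel₀ _ hlam0, sub_self]⟩
    conv_lhs => rw [← sub_add_cancel z ((H z w / lam) • v), app_add, app_smul, hfix _ hrd]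
    rw [hd, smul_smul, ← div_eq_mul_inv, smul_sub]
    abel
  have hdU : d ∈ U := hd ▸ U.smul_mem _ (U.sub_mem hgvU hvU)
  have himg : ∀ z ∈ rat F₀ P, z ∈ U → z ≠ 0 →
      ∃ (a : F) (z' : V), z' ∈ rat F₀ P ∧ a ≠ 0 ∧ app gx z = a • z' := by
    intro z hz hzU hz0
    have h1 : H v (app gx z) = 0 := by
      rw [hgu z hzU]; exact hUU v hvU _ (U.add_mem hzU (U.smul_mem _ hdU))
    obtain ⟨t, ht, hTt⟩ := TM_conj K (TM_rat K D hM hz (hUU z hzU z hzU) hθ hθs) hgx
    have hz' : app gx z ≠ 0 := fun e0 => hz0 (app_injective gx (e0.trans (mulVec_zero _).symm))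
    obtain ⟨a, z', hz'R, e', -⟩ := rational_of_perp K D hM hne hv hv0 hvv h1 hz' hθ0 ⟨t, ht, hTt⟩
    exact ⟨a, z', hz'R, fun e0 => hz' (by rw [e', e0, zero_smul]), e'⟩
  have hxU : x ∈ U := Submodule.subset_span (by simp)
  have hx0 : x ≠ 0 := fun e0 => hind 0 (by rw [e0, zero_smul])
  have hvx0 : v + x ≠ 0 := fun e0 => hind (-1) (by
    rw [neg_smul, one_smul]; exact eq_neg_of_add_eq_zero_right e0)
  obtain ⟨a₁, z₁, hz₁, ha₁, e₁⟩ := himg v hv hvU hv0
  obtain ⟨a₂, z₂, hz₂, ha₂, e₂⟩ := himg x hx hxU hx0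
  obtain ⟨a₃, z₃, hz₃, ha₃, e₃⟩ := himg (v + x) (add_mem hv hx) (U.add_mem hvU hxU) hvx0
  have hzi : ∀ k : F, z₂ ≠ k • z₁ := fun k e0 => hind (a₂ * k / a₁) (app_injective gx (by
    rw [app_smul, e₂, e₁, e0, smul_smul, smul_smul]; congr 1; field_simp))
  have hz₁0 : z₁ ≠ 0 := fun e0 => hv0 (app_injective gx (by
    rw [e₁, e0, smul_zero]; exact (mulVec_zero _).symm))
  obtain ⟨d₁, hd₁, hd₁v⟩ := exists_dual K D ![z₁, z₂] (fun i => by fin_cases i <;> assumption)
    (fun k hk => indep_two K hz₁0 hzi k hk) ![1, 0] (fun i => by fin_cases i <;> simp [F₀.one_mem, F₀.zero_mem])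
  obtain ⟨d₂, hd₂, hd₂v⟩ := exists_dual K D ![z₁, z₂] (fun i => by fin_cases i <;> assumption)
    (fun k hk => indep_two K hz₁0 hzi k hk) ![0, 1] (fun i => by fin_cases i <;> simp [F₀.one_mem, F₀.zero_mem])
  have hsum : a₃ • z₃ = a₁ • z₁ + a₂ • z₂ := by rw [← e₁, ← e₂, ← e₃, app_add]
  have p1 := congrArg (fun z => H d₁ z) hsum
  have p2 := congrArg (fun z => H d₂ z) hsum
  simp only [h_add_right K, h_smul_right K, show H d₁ z₁ = 1 from hd₁v 0, show H d₁ z₂ = 0 from hd₁v 1,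
    show H d₂ z₁ = 0 from hd₂v 0, show H d₂ z₂ = 1 from hd₂v 1, mul_one, mul_zero, add_zero, zero_add]
    at p1 p2
  have hρ : a₂ / a₁ ∈ F₀ := by
    have h3 : K.bar a₃ ≠ 0 := (map_ne_zero K.bar).2 ha₃
    have := bar_mem K (F₀.div_mem (h_mem K D hd₂ hz₃) (h_mem K D hd₁ hz₃))
    rwa [← mul_div_mul_left (H d₂ z₃) _ h3, p1, p2, map_div₀, K.bar_bar, K.bar_bar] at this
  obtain ⟨z₂', hz₂'def⟩ : ∃ z, z = (a₂ / a₁) • z₂ := ⟨_, rfl⟩
  have hz₂' : z₂' ∈ rat F₀ P := hz₂'def ▸ smul_mem_rat hρ hz₂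
  have q1 : a₁ • z₁ = v + lam • d := by rw [← e₁, hgu v hvU]
  have q2 : a₁ • z₂' = x + H x w • d := by
    rw [hz₂'def, smul_smul, mul_div_cancel₀ _ ha₁, ← e₂, hgu x hxU]
  obtain ⟨co, hco⟩ : ∃ co : V →ₗ[F] V,
      ∀ z, co z = ((P⁻¹ : GL (Fin n) F) : Matrix (Fin n) (Fin n) F) *ᵥ z :=
    ⟨Matrix.mulVecLin _, fun z => rfl⟩
  have qa : ∀ i, lam * co d i = a₁ * co z₁ i - co v i := fun i => by
    have := congrFun (congrArg co q1) i
    simp only [map_add, map_smul, Pi.add_apply, Pi.smul_apply, smul_eq_mul] at this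
    linear_combination -this
  have qb : ∀ i, H x w * co d i = a₁ * co z₂' i - co x i := fun i => by
    have := congrFun (congrArg co q2) i
    simp only [map_add, map_smul, Pi.add_apply, Pi.smul_apply, smul_eq_mul] at this
    linear_combination -this
  have hcm : ∀ {z : V}, z ∈ rat F₀ P → ∀ i, co z i ∈ F₀ := fun hz i => by rw [hco]; exact hz i
  by_cases haF : a₁ ∈ F₀
  · obtain ⟨i, hi⟩ : ∃ i, co d i ≠ 0 := by
      by_contra hcon
      push Not at hcon
      refine hd0 ?_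
      have : co d = 0 := funext hcon
      rw [hco] at this
      rw [← mulVec_inv_mulVec (P := P) d, this, mulVec_zero]
    have hτ : H x w / lam ∈ F₀ := by
      have := F₀.div_mem (F₀.sub_mem (F₀.mul_mem haF (hcm hz₂' i)) (hcm hx i))
        (F₀.sub_mem (F₀.mul_mem haF (hcm hz₁ i)) (hcm hv i))
      rwa [← qa i, ← qb i, mul_div_mul_right _ _ hi] at this
    refine hall (x - (H x w / lam) • v) (sub_mem hx (smul_mem_rat hτ hv))
      (fun e0 => hind _ (sub_eq_zero.1 e0))
      (hUU _ (U.sub_mem hxU (U.smul_mem _ hvU)) _ (U.sub_mem hxU (U.smul_mem _ hvU))) ?_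
    rw [h_sub_left K, h_smul_left K, ← hlam, div_mul_cancel₀ _ hlam0, sub_self]
  · have hwedge : ∀ i j, co z₁ i * co z₂' j - co z₁ j * co z₂' i = 0 := fun i j => by
      have hq : (a₁ * co z₁ i - co v i) * (a₁ * co z₂' j - co x j) -
          (a₁ * co z₁ j - co v j) * (a₁ * co z₂' i - co x i) = 0 := by
        rw [← qa, ← qa, ← qb, ← qb]; ring
      refine linear_of_quadratic K D haF ?_ (B := -(co z₁ i * co x j) - co v i * co z₂' j +
        co z₁ j * co x i + co v j * co z₂' i) ?_ (C := co v i * co x j - co v j * co x i) ?_ ?_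
      · exact F₀.sub_mem (F₀.mul_mem (hcm hz₁ i) (hcm hz₂' j)) (F₀.mul_mem (hcm hz₁ j) (hcm hz₂' i))
      · exact F₀.add_mem (F₀.add_mem (F₀.sub_mem (F₀.neg_mem (F₀.mul_mem (hcm hz₁ i) (hcm hx j)))
          (F₀.mul_mem (hcm hv i) (hcm hz₂' j))) (F₀.mul_mem (hcm hz₁ j) (hcm hx i)))
          (F₀.mul_mem (hcm hv j) (hcm hz₂' i))
      · exact F₀.sub_mem (F₀.mul_mem (hcm hv i) (hcm hx j)) (F₀.mul_mem (hcm hv j) (hcm hx i))
      · linear_combination hq
    obtain ⟨i, hi⟩ : ∃ i, co z₁ i ≠ 0 := by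
      by_contra hcon
      push Not at hcon
      refine hz₁0 ?_
      have : co z₁ = 0 := funext hcon
      rw [hco] at this
      rw [← mulVec_inv_mulVec (P := P) z₁, this, mulVec_zero]
    have hρ0 : a₂ / a₁ ≠ 0 := div_ne_zero ha₂ ha₁
    refine hzi ((a₂ / a₁)⁻¹ * (co z₂' i / co z₁ i)) ?_
    have e' : co z₂' = (co z₂' i / co z₁ i) • co z₁ := funext fun j => by
      rw [Pi.smul_apply, smul_eq_mul]
      field_simp
      linear_combination hwedge i j
    rw [hco, hco z₁, ← mulVec_smul] at e'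
    have e'' := congrArg ((P : Matrix (Fin n) (Fin n) F) *ᵥ ·) e'
    simp only [mulVec_inv_mulVec] at e''
    rw [hco, hco z₁, mul_smul, ← e'', hz₂'def, smul_smul, inv_mul_cancel₀ hρ0, one_smul]

/-- Elements of a proper overgroup have one multiplier on the rational vectors. -/
theorem exists_scalar (hne : M ≠ ⊤) {g : G} (hg : g ∈ M) :
    ∃ c : F, c ≠ 0 ∧ ∀ a ∈ rat F₀ P, ∃ z ∈ rat F₀ P, app g a = c • z := by
  have hn := D.dim
  obtain ⟨θ, hθ, hθ0, hθs⟩ := exists_skew_mem K D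
  have himg : ∀ v ∈ rat F₀ P, v ≠ 0 → H v v = 0 → ∃ (a : F) (z : V), a ≠ 0 ∧ z ∈ rat F₀ P ∧
      app g v = a • z ∧ a * K.bar a ∈ F₀ := by
    intro v hv hv0 hvv
    have hgv : app g v ≠ 0 := fun e0 => hv0 (app_injective g (e0.trans (mulVec_zero _).symm))
    have hT := TM_conj K (TM_rat K D hM hv hvv hθ hθs) hg
    obtain ⟨r₀, hr, hr0, hrr, hrw⟩ := exists_perp_centre K D hM hne hθ0 hT
    obtain ⟨a, z, hz, e, ha⟩ := rational_of_perp K D hM hne hr hr0 hrr hrw hgv hθ0 hT
    refine ⟨a, z, fun e0 => hgv (by rw [e, e0, zero_smul]), hz, e, ?_⟩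
    have := F₀.div_mem ha hθ
    rwa [mul_assoc, mul_div_cancel_left₀ _ hθ0] at this
  have hlink : ∀ v v' (a a' : F) (z z' : V), v ∈ rat F₀ P → v' ∈ rat F₀ P → z ∈ rat F₀ P →
      z' ∈ rat F₀ P → app g v = a • z → app g v' = a' • z' → a' * K.bar a' ∈ F₀ → a' ≠ 0 →
      H v v' ≠ 0 → a / a' ∈ F₀ := by
    intro v v' a a' z z' hv hv' hz hz' e e' ha' ha'0 hvv
    have h := h_app g v v'
    rw [e, e', h_smul_left K, h_smul_right K] at h
    have hzz : H z z' ≠ 0 := fun e0 => hvv (by rw [← h, e0, mul_zero, mul_zero])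
    have hb : K.bar a' ≠ 0 := (map_ne_zero K.bar).2 ha'0
    have := F₀.div_mem (F₀.div_mem (h_mem K D hv hv') (h_mem K D hz hz')) ha'
    rwa [← h, show a * (K.bar a' * H z z') / H z z' / (a' * K.bar a') = a / a' by field_simp] at this
  obtain ⟨v₀, hv₀0, hv₀, hv₀v, -⟩ := exists_iso K D (k := 0) (by omega) ![] (fun i => i.elim0)
  obtain ⟨c, z₀, hc, hz₀, e₀, hcc⟩ := himg v₀ hv₀ hv₀0 hv₀v
  have hiso : ∀ v ∈ rat F₀ P, H v v = 0 → ∃ z ∈ rat F₀ P, app g v = c • z := by
    intro v hv hvv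
    by_cases hv0 : v = 0
    · exact ⟨0, zero_mem _, by rw [hv0, smul_zero]; exact mulVec_zero _⟩
    obtain ⟨u, hu, huu, u1, u2⟩ := exists_both K D hv₀ hv hv₀0 hv0
    obtain ⟨b, zb, hb, hzb, eb, hbb⟩ := himg u hu (ne_zero_of_h K u1) huu
    obtain ⟨a, z, ha, hz, e, haa⟩ := himg v hv hv0 hvv
    have m1 := hlink u v₀ b c zb z₀ hu hv₀ hzb hz₀ eb e₀ hcc hc u1
    have m2 := hlink v u a b z zb hv hu hz hzb e eb hbb hb (h_ne_zero_symm K u2)
    refine ⟨(a / b * (b / c)) • z, smul_mem_rat (F₀.mul_mem m2 m1) hz, ?_⟩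
    rw [e, smul_smul]
    congr 1
    field_simp
  refine ⟨c, hc, fun a ha => ?_⟩
  by_cases ha0 : a = 0
  · exact ⟨0, zero_mem _, by rw [ha0, smul_zero]; exact mulVec_zero _⟩
  obtain ⟨a₁, h₁, a₂, h₂, rfl, e1, e2, -, -⟩ := exists_two_iso K D (k := 0) (by omega) ![]
    (fun i => i.elim0) ha (fun i => i.elim0) (fun d hd => by
      rw [Fin.sum_univ_one] at hd
      exact funext fun i => by
        fin_cases i
        exact (smul_eq_zero.1 hd).resolve_right (by simpa using ha0))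
  obtain ⟨z₁, hz₁, f1⟩ := hiso a₁ h₁ e1
  obtain ⟨z₂, hz₂, f2⟩ := hiso a₂ h₂ e2
  exact ⟨z₁ + z₂, add_mem hz₁ hz₂, by rw [app_add, f1, f2, smul_add]⟩

omit hM M in
theorem isMaximalIn_subfield :
    Cfsg.Geo.IsMaximalIn (GU n F q ⊓ Cfsg.Geo.specialLinear (Fin n) F)
      (Cfsg.Geo.subfieldSubgroup F₀ P ⊓ (GU n F q ⊓ Cfsg.Geo.specialLinear (Fin n) F)) := by
  have hn := D.dim
  refine isMaximalIn_subfield_of ?_ fun M hM => ?_
  · obtain ⟨θ, hθ, hθ0, hθs⟩ := exists_skew_mem K D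
    obtain ⟨t, ht, htf⟩ := exists_notMem K D
    obtain ⟨v, hv0, hv, hvv, -⟩ := exists_iso K D (k := 0) (by omega) ![] (fun i => i.elim0)
    obtain ⟨v', hv', -, h1⟩ := exists_partner K D hv hv0
    obtain ⟨g, hg⟩ := exists_T K hvv (c := θ * t) (by rw [map_mul, htf]; linear_combination t * hθs)
    refine ⟨g, fun hmem => ?_⟩
    obtain ⟨c, hc, hcg⟩ := (toGLHom_mem_subfield_iff g).1 hmem
    obtain ⟨z, hz, ez⟩ := hcg v hv
    obtain ⟨z', hz', ez'⟩ := hcg v' hv'
    rw [hg.2.2, hvv, mul_zero, zero_smul, add_zero] at ez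
    rw [hg.2.2, h1, mul_one] at ez'
    obtain ⟨i, hi⟩ : ∃ i, (((P⁻¹ : GL (Fin n) F) : Matrix (Fin n) (Fin n) F) *ᵥ v) i ≠ 0 := by
      by_contra hcon
      push Not at hcon
      refine hv0 ?_
      rw [← mulVec_inv_mulVec (P := P) v, show ((P⁻¹ : GL (Fin n) F) : Matrix (Fin n) (Fin n) F) *ᵥ v = 0
        from funext hcon, mulVec_zero]
    have hcF : c ∈ F₀ := by
      have h2 := congrFun (congrArg (((P⁻¹ : GL (Fin n) F) : Matrix (Fin n) (Fin n) F) *ᵥ ·) ez) i
      simp only [mulVec_smul, Pi.smul_apply, smul_eq_mul] at h2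
      have hzi : (((P⁻¹ : GL (Fin n) F) : Matrix (Fin n) (Fin n) F) *ᵥ z) i ≠ 0 := fun e0 => hi (by
        rw [h2, e0, mul_zero])
      have := F₀.div_mem (hv i) (hz i)
      rwa [h2, mul_div_assoc, div_self hzi, mul_one] at this
    have h3 : (θ * t) • v ∈ rat F₀ P := by
      rw [show (θ * t) • v = c • z' - v' by rw [← ez']; abel]
      exact sub_mem (smul_mem_rat hcF hz') hv'
    have h4 := h3 i
    rw [mulVec_smul, Pi.smul_apply, smul_eq_mul] at h4
    have := F₀.div_mem (F₀.div_mem h4 (hv i)) hθ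
    rw [mul_div_assoc, div_self hi, mul_one, mul_div_cancel_left₀ _ hθ0] at this
    exact ht this
  by_cases htop : M = ⊤
  · exact Or.inl htop
  refine Or.inr fun g hg => (toGLHom_mem_subfield_iff g).2 (exists_scalar K D (fun g hg => hM g ?_) htop hg)
  exact (toGLHom_mem_subfield_iff g).2 ⟨1, one_ne_zero, fun a ha => ⟨app g a, hg a ha, (one_smul F _).symm⟩⟩

end CfsgLib.Classical.Herm.Rat
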