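import Cfsg.Agent.Lib.ModuleIndex.UnitaryThreeBounds

/-!
The Sylow subgroups of `PSU_3(q)` in the odd defining characteristic have trivial intersections,
and a normalising element of prime power order lies in the subgroup.
-/

set_option autoImplicit false
set_option linter.style.haveILetI false

namespace CfsgLib.Classical.UThreeSylow

open Matrix Cfsg
open CfsgLib.Classical.Herm
open CfsgLib.ClassicalAut (Unitary.Conj Unitary.herm_apply)
open CfsgLib.Classical.URegGen (HB exists_hb expand₁ ext₁)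
open CfsgLib.ModuleIndex.UThree (mk mat card_SU_three)

variable {F : Type*} [Field F] [Finite F] {q : ℕ} (K : Unitary.Conj F q) {p : ℕ} [hp : Fact p.Prime]

local notation "H" => hermForm 3 F q

variable (B : HB 1 3 q F)

/-- The root group attached to the first isotropic basis vector. -/
def root : Subgroup (SU 3 F q) where
  carrier := {g | app g (B.E 0) = B.E 0 ∧ ∃ a : F, app g B.z = B.z + a • B.E 0}
  one_mem' := ⟨app_one _, 0, by rw [app_one, zero_smul, add_zero]⟩
  mul_mem' := by
    rintro g h ⟨hge, a, hgz⟩ ⟨hhe, b, hhz⟩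
    refine ⟨by rw [app_mul, hhe, hge], a + b, ?_⟩
    rw [app_mul, hhz, app_add, app_smul, hgz, hge, add_smul]
    abel
  inv_mem' := by
    rintro g ⟨hge, a, hgz⟩
    have he : app g⁻¹ (B.E 0) = B.E 0 := by
      conv_lhs => rw [← hge]
      exact app_inv g _
    refine ⟨he, -a, ?_⟩
    have h := congrArg (app g⁻¹) hgz
    rw [app_inv, app_add, app_smul, he] at h
    linear_combination (norm := module) -h

include K in
theorem E_ne : B.E 0 ≠ 0 := fun h => by
  have := B.fe 0 0 one_pos one_pos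
  rw [h, Unitary.herm_apply K, if_pos rfl] at this
  simp at this

include K in
theorem app_F {g : SU 3 F q} (hge : app g (B.E 0) = B.E 0) :
    app g (B.Fv 0) = H (app g (B.Fv 0)) (B.Fv 0) • B.E 0 + B.Fv 0 + H (app g (B.Fv 0)) B.z • B.z := by
  have h : H (app g (B.Fv 0)) (B.E 0) = 1 := by
    conv_lhs => arg 5; rw [← hge]
    rw [h_app, B.fe 0 0 one_pos one_pos, if_pos rfl]
  conv_lhs => rw [expand₁ K B (app g (B.Fv 0))]
  rw [h, one_smul]

include K in
theorem pow_eq_one [CharP F p] (hp2 : p ≠ 2) {g : SU 3 F q} (hg : g ∈ root B) : g ^ p = 1 := by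
  obtain ⟨hge, a, hgz⟩ := hg
  have hf := app_F K B hge
  set d := H (app g (B.Fv 0)) (B.Fv 0)
  set c := H (app g (B.Fv 0)) B.z
  set N := mat g - 1
  have hN : ∀ x, N *ᵥ x = app g x - x := fun x => by rw [sub_mulVec, one_mulVec]; rfl
  have hNe : N *ᵥ B.E 0 = 0 := by rw [hN, hge, sub_self]
  have hNz : N *ᵥ B.z = a • B.E 0 := by rw [hN, hgz, add_sub_cancel_left]
  have hNf : N *ᵥ B.Fv 0 = d • B.E 0 + c • B.z := by rw [hN, hf]; abel
  have h3 : N ^ 3 = 0 := by
    refine Matrix.ext_of_mulVec_single fun i => ?_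
    rw [zero_mulVec, expand₁ K B (Pi.single i (1 : F)), pow_three, ← mulVec_mulVec, ← mulVec_mulVec]
    simp only [mulVec_add, mulVec_smul, hNe, hNz, hNf, smul_zero, add_zero, zero_add, smul_smul]
  have hp3 : 3 ≤ p := by have := hp.out.two_le; omega
  have h := sub_pow_char_of_commute (p := p) (Commute.one_right (mat g))
  rw [one_pow, show (mat g - 1) ^ p = 0 by rw [← Nat.sub_add_cancel hp3, pow_add, h3, mul_zero]] at h
  exact Subtype.ext (Subtype.ext (sub_eq_zero.mp h.symm))

include K in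
theorem isPGroup_root [CharP F p] (hp2 : p ≠ 2) : IsPGroup p (root B) := fun g =>
  ⟨1, Subtype.ext (by rw [pow_one]; exact pow_eq_one K B hp2 g.2)⟩

include K in
theorem card_root [CharP F p] (hp2 : p ≠ 2) {n : ℕ} (hq : q = p ^ n) (hn : n ≠ 0) :
    ¬ p ∣ (root B).index := by
  classical
  choose φ hφ using fun x : URoot.Par K => CfsgLib.Classical.URegGen.exists_sgE K B le_rfl x.2
  have hmem : ∀ x, φ x ∈ root B := fun x => by
    obtain ⟨he, -, hz⟩ := CfsgLib.Classical.URegGen.appE K B (hφ x)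
    exact ⟨he, x.1.1, hz⟩
  have hφi : Function.Injective fun x => (⟨φ x, hmem x⟩ : root B) := by
    intro x y he
    replace he : φ x = φ y := congrArg Subtype.val he
    obtain ⟨-, hf, hz'⟩ := CfsgLib.Classical.URegGen.appE K B (hφ x)
    obtain ⟨-, hf', hz''⟩ := CfsgLib.Classical.URegGen.appE K B (hφ y)
    rw [he, hf'] at hf
    rw [he, hz''] at hz'
    have ha : y.1.1 = x.1.1 := smul_left_injective F (E_ne K B) (add_left_cancel hz')
    rw [ha] at hf
    exact Subtype.ext (Prod.ext ha (smul_left_injective F (E_ne K B) (add_left_cancel hf))).symm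
  have hle := Nat.card_le_card_of_injective _ hφi
  rw [CfsgLib.ModuleIndex.UThree.card_par K, show q ^ 3 = p ^ (n * 3) by rw [hq, ← pow_mul]] at hle
  obtain ⟨j, hj⟩ := IsPGroup.iff_card.mp (isPGroup_root K B hp2)
  rw [hj] at hle
  have hj3 : n * 3 ≤ j := (Nat.pow_le_pow_iff_right hp.out.one_lt).mp hle
  intro hd
  have h : p ^ (j + 1) ∣ q ^ 3 * ((q ^ 2 - 1) * (q ^ 3 + 1)) := by
    rw [← card_SU_three K, ← Subgroup.index_mul_card (root B), hj, pow_succ']
    exact mul_dvd_mul_right hd _
  have hpq : p ∣ q := hq ▸ dvd_pow_self p hn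
  have hco : Nat.Coprime (p ^ (j + 1)) ((q ^ 2 - 1) * (q ^ 3 + 1)) := by
    refine Nat.Coprime.pow_left _ ((Nat.Prime.coprime_iff_not_dvd hp.out).mpr fun h3 => ?_)
    rcases hp.out.dvd_mul.mp h3 with h4 | h4
    · have := Nat.dvd_sub (hpq.trans (dvd_pow_self _ two_ne_zero)) h4
      rw [Nat.sub_sub_self (Nat.one_le_pow _ _ (by have := K.two_le; omega))] at this
      exact hp.out.one_lt.ne' (Nat.dvd_one.mp this)
    · exact hp.out.one_lt.ne' (Nat.dvd_one.mp ((Nat.dvd_add_right (hpq.trans (dvd_pow_self _ three_ne_zero))).mp h4))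
  have hd' := hco.dvd_of_dvd_mul_right h
  have hq3 : q ^ 3 = p ^ (n * 3) := by rw [hq, ← pow_mul]
  rw [hq3, Nat.pow_dvd_pow_iff_le_right hp.out.one_lt] at hd'
  omega

include K in
/-- An element of the root group other than `1` fixes a single isotropic line. -/
theorem fixed_line {g : SU 3 F q} (hg : g ∈ root B) (hg1 : g ≠ 1) {v : Fin 3 → F} (hv : H v v = 0)
    (hgv : app g v = v) : v = H v (B.Fv 0) • B.E 0 := by
  obtain ⟨hge, a, hgz⟩ := hg
  have hf := app_F K B hge
  set d := H (app g (B.Fv 0)) (B.Fv 0)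
  set c := H (app g (B.Fv 0)) B.z
  set α := H v (B.Fv 0)
  set β := H v (B.E 0)
  set γ := H v B.z
  have hve : v = α • B.E 0 + β • B.Fv 0 + γ • B.z := expand₁ K B v
  have hca : c + K.bar a = 0 := by
    have h := h_app g (B.Fv 0) B.z
    rw [hgz, h_add_right K, h_smul_right K, B.fz K] at h
    have h1 : H (app g (B.Fv 0)) (B.E 0) = 1 := by
      conv_lhs => arg 5; rw [← hge]
      rw [h_app, B.fe 0 0 one_pos one_pos, if_pos rfl]
    rw [h1, mul_one] at h
    exact h
  have hdiff : (β * d + γ * a) • B.E 0 + (β * c) • B.z = 0 := by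
    have h := hgv
    conv_lhs at h => rw [hve]
    conv_rhs at h => rw [hve]
    rw [app_add, app_add, app_smul, app_smul, app_smul, hge, hf, hgz] at h
    linear_combination (norm := module) h
  have he : β * d + γ * a = 0 ∧ β * c = 0 := by
    have h1 := congrArg (fun x => H x (B.Fv 0)) hdiff
    have h2 := congrArg (fun x => H x B.z) hdiff
    simp only [h_add_left K, h_smul_left K, h_zero_left K, B.ef K one_pos one_pos, B.zf, B.ez K, B.zz,
      if_pos, mul_one, mul_zero, add_zero, zero_add] at h1 h2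
    exact ⟨h1, h2⟩
  have hγ : β = 0 → γ = 0 := by
    intro hb
    have h := hv
    rw [hve, hb, zero_smul, add_zero, h_add_left K, h_add_right K, h_add_right K, h_smul_left K, h_smul_left K,
      h_smul_right K, h_smul_right K, B.ee, B.ez K, h_smul_left K, h_smul_right K, B.ze, h_smul_left K,
      h_smul_right K, B.zz] at h
    simpa using h
  suffices hb : β = 0 by
    conv_lhs => rw [hve]
    rw [hγ hb, hb, zero_smul, zero_smul, add_zero, add_zero]
  by_contra hb
  obtain ⟨h1, h2⟩ := he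
  have hc0 : c = 0 := (mul_eq_zero.mp h2).resolve_left hb
  have ha0 : a = 0 := (map_eq_zero K.bar).mp (by linear_combination hca - hc0)
  have hd0 : d = 0 := (mul_eq_zero.mp (show β * d = 0 by rw [ha0, mul_zero, add_zero] at h1; exact h1)).resolve_left hb
  refine hg1 (ext₁ K B (by rw [hge, app_one]) ?_ ?_)
  · rw [app_one, hf, hd0, hc0, zero_smul, zero_smul, zero_add, add_zero]
  · rw [app_one, hgz, ha0, zero_smul, add_zero]

include K in
/-- A `p`-element stabilising the line lies in the root group. -/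
theorem mem_root [CharP F p] {g : SU 3 F q} {i : ℕ} (hgi : g ^ p ^ i = 1) {l : F}
    (hl : app g (B.E 0) = l • B.E 0) : g ∈ root B := by
  have hone : ∀ x : F, x ^ p ^ i = 1 → x = 1 := by
    intro x hx
    have h : (x - 1) ^ p ^ i = 0 := by rw [sub_pow_char_pow, hx, one_pow, sub_self]
    exact sub_eq_zero.mp (eq_zero_of_pow_eq_zero h)
  have hE := E_ne K B
  have hpow : ∀ m : ℕ, app (g ^ m) (B.E 0) = l ^ m • B.E 0 := by
    intro m
    induction m with
    | zero => rw [pow_zero, pow_zero, app_one, one_smul]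
    | succ m ih => rw [pow_succ', app_mul, ih, app_smul, hl, smul_smul, pow_succ]
  have hl1 : l = 1 := hone l (by
    have h := hpow (p ^ i)
    rw [hgi, app_one] at h
    exact smul_left_injective F hE (h.symm.trans (one_smul F _).symm))
  have hge : app g (B.E 0) = B.E 0 := by rw [hl, hl1, one_smul]
  set a := H (app g B.z) (B.Fv 0)
  set μ := H (app g B.z) B.z
  have hz : app g B.z = a • B.E 0 + μ • B.z := by
    have h : H (app g B.z) (B.E 0) = 0 := by
      conv_lhs => arg 5; rw [← hge]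
      rw [h_app, B.ze]
    conv_lhs => rw [expand₁ K B (app g B.z)]
    rw [h, zero_smul, add_zero]
  have hpz : ∀ m : ℕ, ∃ b : F, app (g ^ m) B.z = b • B.E 0 + μ ^ m • B.z := by
    intro m
    induction m with
    | zero => exact ⟨0, by rw [pow_zero, pow_zero, app_one, one_smul, zero_smul, zero_add]⟩
    | succ m ih =>
      obtain ⟨b, hb⟩ := ih
      refine ⟨b + μ ^ m * a, ?_⟩
      rw [pow_succ', app_mul, hb, app_add, app_smul, app_smul, hge, hz, pow_succ]
      module
  have hμ : μ = 1 := hone μ (by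
    obtain ⟨b, hb⟩ := hpz (p ^ i)
    rw [hgi, app_one] at hb
    have h := congrArg (fun x => H x B.z) hb
    simp only [h_add_left K, h_smul_left K, B.ez K, B.zz, mul_zero, zero_add, mul_one] at h
    exact h.symm)
  exact ⟨hge, a, by rw [hz, hμ, one_smul, add_comm]⟩

include K in
/-- An element of prime power order moving a nontrivial element of a Sylow subgroup into the same
subgroup lies in it. -/
theorem sylow_isolated (hp2 : p ≠ 2) {n : ℕ} (hq : q = p ^ n) [CharP F p] (P : Sylow p (PSU 3 F q))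
    {x t : PSU 3 F q} (hx : x ∈ (P : Subgroup (PSU 3 F q))) (hx1 : x ≠ 1) {i : ℕ} (hti : t ^ p ^ i = 1)
    (htx : t * x * t⁻¹ ∈ (P : Subgroup (PSU 3 F q))) : t ∈ (P : Subgroup (PSU 3 F q)) := by
  classical
  obtain ⟨B⟩ := exists_hb K 1
  have hn : n ≠ 0 := by
    intro h
    have := K.two_le
    rw [hq, h, pow_zero] at this
    omega
  let U : Sylow p (SU 3 F q) := (isPGroup_root K B hp2).toSylow (card_root K B hp2 hq hn)
  obtain ⟨w, hw⟩ := MulAction.exists_smul_eq (PSU 3 F q)
    (U.mapSurjective (QuotientGroup.mk'_surjective (Subgroup.center (SU 3 F q)))) P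
  have hP : ∀ y, y ∈ (P : Subgroup (PSU 3 F q)) ↔ ∃ u ∈ root B, mk u = w⁻¹ * y * w := by
    intro y
    rw [← hw, Sylow.coe_subgroup_smul, Subgroup.mem_pointwise_smul_iff_inv_smul_mem]
    simp [U, Subgroup.mem_map, mul_assoc]
  obtain ⟨u, hu, hux⟩ := (hP x).mp hx
  obtain ⟨u', hu', hux'⟩ := (hP _).mp htx
  obtain ⟨g₀, hg₀⟩ := QuotientGroup.mk'_surjective (Subgroup.center (SU 3 F q)) (w⁻¹ * t * w)
  -- a lift of prime power order
  have hcp : (Nat.card (Subgroup.center (SU 3 F q))).Coprime (p ^ i) := by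
    refine Nat.Coprime.pow_right _ (Nat.Coprime.symm ((Nat.Prime.coprime_iff_not_dvd hp.out).mpr fun h => ?_))
    rw [card_center K (by norm_num)] at h
    have h1 : p ∣ q + 1 := h.trans (Nat.gcd_dvd_right _ _)
    exact hp.out.one_lt.ne' (Nat.dvd_one.mp ((Nat.dvd_add_right (show p ∣ q from hq ▸ dvd_pow_self p hn)).mp h1))
  set d := Nat.card (Subgroup.center (SU 3 F q))
  have hgc : g₀ ^ p ^ i ∈ Subgroup.center (SU 3 F q) := by
    refine (QuotientGroup.eq_one_iff _).mp ?_
    show mk (g₀ ^ p ^ i) = 1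
    rw [map_pow]
    show (QuotientGroup.mk' (Subgroup.center (SU 3 F q)) g₀) ^ p ^ i = 1
    rw [hg₀]
    have := congrArg (fun y => w⁻¹ * y * w) hti
    simp only [mul_one, inv_mul_cancel] at this
    rw [← this]
    have := map_pow (MulAut.conj w⁻¹).toMonoidHom t (p ^ i)
    simp [MulAut.conj_apply] at this
    rw [this]
  obtain ⟨g, hgi, hg⟩ : ∃ g : SU 3 F q, g ^ p ^ i = 1 ∧ mk g = w⁻¹ * t * w := by
    refine ⟨g₀ ^ (d * d ^ (Nat.totient (p ^ i) - 1)), ?_, ?_⟩
    · rw [← pow_mul, mul_comm, pow_mul, pow_mul]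
      have : (g₀ ^ p ^ i) ^ d = 1 := by
        have h := pow_card_eq_one' (x := (⟨_, hgc⟩ : Subgroup.center (SU 3 F q)))
        exact congrArg Subtype.val h
      rw [this, one_pow]
    · rw [map_pow, show mk g₀ = w⁻¹ * t * w from hg₀]
      set t' := w⁻¹ * t * w
      have ht' : t' ^ p ^ i = 1 := by
        rw [← hg₀, ← map_pow]; exact (QuotientGroup.eq_one_iff _).mpr hgc
      have hd : d * d ^ (Nat.totient (p ^ i) - 1) ≡ 1 [MOD p ^ i] := by
        rw [← pow_succ', Nat.sub_add_cancel (Nat.totient_pos.mpr (pow_pos hp.out.pos _))]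
        exact Nat.ModEq.pow_totient hcp
      rw [pow_eq_pow_mod (d * d ^ _) ht', hd, ← pow_eq_pow_mod 1 ht', pow_one]
  have hcu : (g * u * g⁻¹) * u'⁻¹ ∈ Subgroup.center (SU 3 F q) := by
    refine (QuotientGroup.eq_one_iff _).mp ?_
    show mk _ = 1
    simp only [map_mul, map_inv, hg, hux, hux']
    group
  have heq : g * u * g⁻¹ = u' := by
    set c := (g * u * g⁻¹) * u'⁻¹ with hc
    have h1 : (g * u * g⁻¹) ^ p = 1 := by
      rw [conj_pow, pow_eq_one K B hp2 hu, mul_one, mul_inv_cancel]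
    have h2 : c ^ p = 1 := by
      have hcomm : Commute c u' := (Subgroup.mem_center_iff.mp hcu u').symm
      have : g * u * g⁻¹ = c * u' := by rw [hc, inv_mul_cancel_right]
      rw [this, hcomm.mul_pow, pow_eq_one K B hp2 hu', mul_one] at h1
      exact h1
    have h3 : orderOf c ∣ p := orderOf_dvd_of_pow_eq_one h2
    have h4 : orderOf c ∣ d := Subgroup.orderOf_dvd_natCard _ hcu
    have hi' : (Nat.card (Subgroup.center (SU 3 F q))).Coprime p := by
      refine Nat.Coprime.symm ((Nat.Prime.coprime_iff_not_dvd hp.out).mpr fun h => ?_)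
      rw [card_center K (by norm_num)] at h
      have h1 : p ∣ q + 1 := h.trans (Nat.gcd_dvd_right _ _)
      exact hp.out.one_lt.ne' (Nat.dvd_one.mp ((Nat.dvd_add_right (show p ∣ q from hq ▸ dvd_pow_self p hn)).mp h1))
    have h5 := orderOf_eq_one_iff.mp (Nat.eq_one_of_dvd_coprimes hi' h4 h3)
    rwa [hc, mul_inv_eq_one] at h5
  have hu1 : u' ≠ 1 := by
    intro h
    have hmu : mk u = 1 := by
      rw [h] at heq
      rw [show u = g⁻¹ * (g * u * g⁻¹) * g by group, heq]
      simp
    rw [hux] at hmu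
    exact hx1 (by
      have := congrArg (fun y => w * y * w⁻¹) hmu
      simpa [mul_assoc] using this)
  have hfix : app u' (app g (B.E 0)) = app g (B.E 0) := by
    rw [← app_mul, show u' * g = g * u by rw [← heq]; group, app_mul, hu.1]
  have hiso : H (app g (B.E 0)) (app g (B.E 0)) = 0 := by rw [h_app, B.ee]
  have hl := fixed_line K B hu' hu1 hiso hfix
  exact (hP t).mpr ⟨g, mem_root K B hgi hl, hg⟩

end CfsgLib.Classical.UThreeSylow
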