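import Cfsg.Agent.Lib.Classical.UnitaryDetClasses

/-!
Transvections in the special unitary group are conjugate.
-/

set_option autoImplicit false
set_option linter.style.haveILetI false
set_option maxHeartbeats 800000

namespace CfsgLib.Classical.UnitaryTransvectionClass

open Matrix CfsgLib.Classical.RestrictScalars CfsgLib.Classical.UnitaryConj CfsgLib.Classical.UnitarySemisimple
open CfsgLib.Classical.UnitaryDetClasses
open scoped MatrixGroups

variable {K : Type*} [Field K] [Fintype K] {n q : ℕ}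

theorem su_transvections (hK : Fintype.card K = q ^ 2) (hn : 3 ≤ n) (x y : ↥(Cfsg.SU n K q))
    (hx : (x.1.1 - 1).rank = 1 ∧ (x.1.1 - 1) * (x.1.1 - 1) = 0)
    (hy : (y.1.1 - 1).rank = 1 ∧ (y.1.1 - 1) * (y.1.1 - 1) = 0) : IsConj x y := by
  classical
  obtain ⟨F, _, _, hF⟩ := exists_field_of_card_sq hK
  obtain ⟨a, b, hab⟩ := exists_ab (F := F)
  obtain ⟨fr⟩ := exists_Frame hF hK a b hab
  set A := (suIncl n K q x).1 with hA
  have hA1 : ((A : Matrix (Fin n) (Fin n) K) - 1).rank = 1 := hx.1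
  have hA2 : ((A : Matrix (Fin n) (Fin n) K) - 1) ^ 2 = 0 := by rw [pow_two]; exact hx.2
  have hB1 : (((suIncl n K q y).1 : Matrix (Fin n) (Fin n) K) - 1).rank = 1 := hy.1
  have hB2 : (((suIncl n K q y).1 : Matrix (Fin n) (Fin n) K) - 1) ^ 2 = 0 := by rw [pow_two]; exact hy.2
  have hrank1 : ∀ (m : ℕ) (g h : GL (Fin m) K), ((g : Matrix (Fin m) (Fin m) K) - 1) ^ 2 = 0 →
      ((h : Matrix (Fin m) (Fin m) K) - 1) ^ 2 = 0 →
      ((g : Matrix (Fin m) (Fin m) K) - 1).rank = ((h : Matrix (Fin m) (Fin m) K) - 1).rank → IsConj g h := by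
    intro m g h hg hh hgh
    refine UnitaryUnipotent.isConj_of_rank g h ⟨2, hg⟩ ⟨2, hh⟩ fun k => ?_
    match k with
    | 0 => rw [pow_zero, pow_zero]
    | 1 => rwa [pow_one, pow_one]
    | k + 2 => rw [pow_add, pow_add, hg, hh, mul_zero, mul_zero]
  have hsq : ∀ m : ℕ, IsUnit (1 + pairs K m 1) := fun m =>
    IsNilpotent.isUnit_one_add ⟨2, by rw [pow_two, pairs_sq]⟩
  obtain ⟨⟨B₁, hB₁⟩, hB₁c⟩ := UnitaryUnipotent.exists_gu_conj hK (hsq 2).unit
    (by rw [IsUnit.unit_spec, add_sub_cancel_left]; exact ⟨2, by rw [pow_two, pairs_sq]⟩)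
  have hdeg : 2 + (n - 2) = n := by omega
  let ι : GL (Fin 2) K × GL (Fin (n - 2)) K →* GL (Fin n) K :=
    (Units.map (blockPair 2 (n - 2) hdeg)).comp MulEquiv.prodUnits.symm.toMonoidHom
  have hιval : ∀ g h, (ι (g, h) : Matrix (Fin n) (Fin n) K) = blockPair 2 (n - 2) hdeg ((g : Matrix _ _ K), (h : Matrix _ _ K)) :=
    fun g h => rfl
  have hι : ∀ g h, g ∈ Cfsg.GU 2 K q → h ∈ Cfsg.GU (n - 2) K q → ι (g, h) ∈ Cfsg.GU n K q := by
    intro g h hg hh
    rw [mem_gu_iff fr.σ fr.σ_eq fr.σσ] at hg hh ⊢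
    apply Units.ext
    show adj fr.σ (ι (g, h) : Matrix (Fin n) (Fin n) K) * _ = 1
    rw [hιval, blockPair_adj, ← map_mul, Prod.mk_mul_mk]
    have hx' := congrArg Units.val hg
    have hy' := congrArg Units.val hh
    simp only [Units.val_mul, Units.val_one, adjU] at hx' hy'
    rw [hx', hy']
    exact map_one _
  have hsame : ι ((hsq 2).unit, 1) = (hsq n).unit := by
    apply Units.ext
    rw [hιval, IsUnit.unit_spec, IsUnit.unit_spec, Units.val_one]
    show (Matrix.fromBlocks (1 + pairs K 2 1) 0 0 1).reindex _ _ = _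
    ext i j
    obtain ⟨i, rfl⟩ := (finSumFinEquiv.trans (finCongr hdeg)).surjective i
    obtain ⟨j, rfl⟩ := (finSumFinEquiv.trans (finCongr hdeg)).surjective j
    rw [Matrix.reindex_apply, Matrix.submatrix_apply, Equiv.symm_apply_apply, Equiv.symm_apply_apply]
    rcases i with i | i <;> rcases j with j | j <;>
      simp [pairs, Matrix.one_apply, Fin.ext_iff, finSumFinEquiv] <;> (try split_ifs) <;> first | rfl | omega | simp_all
  have hBA : IsConj (ι (B₁, 1)) A := by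
    have h1 : IsConj (hsq n).unit (ι (B₁, 1)) := by
      rw [← hsame]
      obtain ⟨c₁, hc₁⟩ := isConj_iff.mp hB₁c
      exact isConj_iff.mpr ⟨ι (c₁, 1), by
        rw [← map_inv, ← map_mul, ← map_mul]
        exact congrArg ι (Prod.ext hc₁ (by simp))⟩
    refine h1.symm.trans (hrank1 n _ _ ?_ hA2 ?_)
    · rw [IsUnit.unit_spec, add_sub_cancel_left, pow_two, pairs_sq]
    · rw [IsUnit.unit_spec, add_sub_cancel_left, pairs_rank (by omega), hA1]
  have hAB : IsConj A (suIncl n K q y).1 := hrank1 n _ _ hA2 hB2 (hA1.trans hB1.symm)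
  obtain ⟨g, hg⟩ := isConj_iff.mp ((gu_isConj_iff hK (suIncl n K q x) (suIncl n K q y)).mpr hAB)
  obtain ⟨X, hX⟩ := isConj_iff.mp ((gu_isConj_iff hK ⟨_, hι _ _ hB₁ (one_mem _)⟩ (suIncl n K q x)).mpr hBA)
  obtain ⟨⟨y₂, hy₂⟩, hy₂d⟩ := detU_surjective fr (n := n - 2) (by omega) (detU fr n g)⁻¹
  let Y : ↥(Cfsg.GU n K q) := ⟨ι (1, y₂), hι _ _ (one_mem _) hy₂⟩
  have hYc : Commute Y ⟨ι (B₁, 1), hι _ _ hB₁ (one_mem _)⟩ :=
    Subtype.ext (Commute.map (Prod.commute_iff.mpr ⟨Commute.one_left _, Commute.one_right _⟩) ι).eq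
  let g' := g * (X * Y * X⁻¹)
  have hdet : detU fr n g' = 1 := by
    have hY : detU fr n Y = detU fr (n - 2) ⟨y₂, hy₂⟩ := by
      apply Subtype.ext; apply Units.ext
      show (ι (1, y₂) : Matrix (Fin n) (Fin n) K).det = (y₂ : Matrix (Fin (n - 2)) (Fin (n - 2)) K).det
      rw [hιval, blockPair_det, Units.val_one, Matrix.det_one, one_mul]
    simp only [g', map_mul, map_inv]
    rw [mul_comm (detU fr n X) (detU fr n Y), mul_inv_cancel_right, hY, hy₂d, mul_inv_cancel]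
  obtain ⟨s, hs⟩ := (detU_eq_one_iff fr g').mp hdet
  refine isConj_iff.mpr ⟨s, suIncl_injective ?_⟩
  rw [map_mul, map_mul, map_inv, hs]
  calc g' * suIncl n K q x * g'⁻¹ = g * (X * (Y * (X⁻¹ * suIncl n K q x * X) * Y⁻¹) * X⁻¹) * g⁻¹ := by
        simp only [g']; group
    _ = g * suIncl n K q x * g⁻¹ := by
        rw [← hX]
        congr 2
        calc X * (Y * (X⁻¹ * (X * ⟨ι (B₁, 1), hι _ _ hB₁ (one_mem _)⟩ * X⁻¹) * X) * Y⁻¹) * X⁻¹
            = X * (Y * ⟨ι (B₁, 1), hι _ _ hB₁ (one_mem _)⟩ * Y⁻¹) * X⁻¹ := by group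
          _ = _ := by rw [hYc.eq, mul_inv_cancel_right]
    _ = _ := hg

end CfsgLib.Classical.UnitaryTransvectionClass
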