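import Mathlib
import Cfsg.Agent.Lib.Classical.Transvection
import Cfsg.Agent.Lib.Classical.Card

/-!
The group of upper unitriangular matrices in `SL_n`: its order, generation, normaliser, and the
subgroups of corank one belonging to the simple roots.
-/

set_option autoImplicit false

namespace CfsgLib.Classical.Unitri

open Matrix

variable {n : ℕ} {K : Type*} [Field K]

local notation "SLn" => Matrix.SpecialLinearGroup (Fin n) K

/-- Upper unitriangular matrices. -/
def IsUnitri (A : Matrix (Fin n) (Fin n) K) : Prop :=
  ∀ i j : Fin n, j ≤ i → A i j = if i = j then 1 else 0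

theorem IsUnitri.diag {A : Matrix (Fin n) (Fin n) K} (h : IsUnitri A) (i : Fin n) : A i i = 1 := by
  simpa using h i i le_rfl

theorem IsUnitri.below {A : Matrix (Fin n) (Fin n) K} (h : IsUnitri A) {i j : Fin n} (hij : j < i) :
    A i j = 0 := by simpa [hij.ne'] using h i j hij.le

theorem IsUnitri.blockTriangular {A : Matrix (Fin n) (Fin n) K} (h : IsUnitri A) :
    BlockTriangular A id := fun _ _ hij => h.below hij

theorem isUnitri_one : IsUnitri (1 : Matrix (Fin n) (Fin n) K) := fun i j _ => by
  rw [one_apply]

theorem IsUnitri.mul {A B : Matrix (Fin n) (Fin n) K} (hA : IsUnitri A) (hB : IsUnitri B) :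
    IsUnitri (A * B) := by
  intro i j hji
  rw [mul_apply, Finset.sum_eq_single i]
  · rw [hA.diag, one_mul, hB i j hji]
  · intro k _ hki
    rcases lt_or_gt_of_ne hki with h | h
    · rw [hA.below h, zero_mul]
    · rw [hB.below (lt_of_le_of_lt hji h), mul_zero]
  · simp

theorem isUnitri_transvection {i j : Fin n} (hij : i < j) (c : K) :
    IsUnitri (Matrix.SpecialLinearGroup.transvection hij.ne c : SLn).val := by
  intro k l hlk
  rw [Matrix.SpecialLinearGroup.transvection_coe, Matrix.add_apply, one_apply, single_apply]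
  rw [if_neg (fun h : i = k ∧ j = l => ?_), add_zero]
  obtain ⟨rfl, rfl⟩ := h
  exact absurd hlk (not_le.2 hij)

/-- A submonoid of a finite group, as a subgroup. -/
def toSubgroupFinite {G : Type*} [Group G] [Finite G] (M : Submonoid G) :
    Subgroup G :=
  { M with
    inv_mem' := fun {a} ha => show a⁻¹ ∈ M by
      rw [← one_mul a⁻¹, ← pow_one a, ← pow_orderOf_eq_one a, ← pow_sub a (orderOf_pos a)]
      exact pow_mem ha (orderOf a - 1) }

variable [Finite K]

set_option linter.unusedSectionVars false

/-- `U`, the upper unitriangular subgroup of `SL_n`. -/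
noncomputable def U (n : ℕ) (K : Type*) [Field K] [Finite K] :
    Subgroup (Matrix.SpecialLinearGroup (Fin n) K) :=
  ({ carrier := {A | IsUnitri A.val}
     mul_mem' := fun {_ _} hA hB => hA.mul hB
     one_mem' := isUnitri_one } : Submonoid (Matrix.SpecialLinearGroup (Fin n) K)) |> toSubgroupFinite

theorem mem_U {A : SLn} : A ∈ U n K ↔ IsUnitri A.val := Iff.rfl

theorem transvection_mem_U {i j : Fin n} (hij : i < j) (c : K) :
    (Matrix.SpecialLinearGroup.transvection hij.ne c : SLn) ∈ U n K := isUnitri_transvection hij c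

/-- The entry on a simple root is additive on `U`. -/
theorem mul_apply_succ {A B : SLn} (hA : A ∈ U n K) (hB : B ∈ U n K) {a b : Fin n}
    (hab : (b : ℕ) = a + 1) : (A * B).val a b = A.val a b + B.val a b := by
  have hA' : IsUnitri A.val := hA
  have hB' : IsUnitri B.val := hB
  have hlt : a < b := Fin.lt_def.2 (by omega)
  rw [Matrix.SpecialLinearGroup.coe_mul, mul_apply, Finset.sum_eq_add_of_mem a b (Finset.mem_univ _)
    (Finset.mem_univ _) hlt.ne, hA'.diag, one_mul, hB'.diag, mul_one, add_comm]
  rintro k - ⟨hka, hkb⟩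
  rcases lt_or_gt_of_ne hka with h | h
  · rw [hA'.below h, zero_mul]
  · rw [hB'.below (Fin.lt_def.2 (by
      have := Fin.val_ne_of_ne hkb
      have := Fin.lt_def.1 h
      omega)), mul_zero]

/-- The kernel of the entry on a simple root. -/
noncomputable def R (a b : Fin n) (hab : (b : ℕ) = a + 1) : Subgroup SLn :=
  ({ carrier := {A | A ∈ U n K ∧ A.val a b = 0}
     mul_mem' := fun {A B} hA hB => ⟨mul_mem hA.1 hB.1, by
       rw [mul_apply_succ hA.1 hB.1 hab, hA.2, hB.2, add_zero]⟩
     one_mem' := ⟨one_mem _, one_apply_ne (by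
       intro h
       rw [h] at hab
       omega)⟩ } : Submonoid SLn) |> toSubgroupFinite

theorem mem_R {a b : Fin n} {hab : (b : ℕ) = a + 1} {A : SLn} :
    A ∈ R a b hab ↔ A ∈ U n K ∧ A.val a b = 0 := Iff.rfl

theorem R_le_U {a b : Fin n} {hab : (b : ℕ) = a + 1} : (R a b hab : Subgroup SLn) ≤ U n K :=
  fun _ h => h.1

theorem U_le_normalizer_R {a b : Fin n} {hab : (b : ℕ) = a + 1} :
    U n K ≤ Subgroup.normalizer ((R a b hab : Subgroup SLn) : Set SLn) := by
  intro g hg
  refine Subgroup.mem_normalizer_fintype fun A hA => ⟨mul_mem (mul_mem hg hA.1) (inv_mem hg), ?_⟩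
  have h1 := mul_apply_succ hg (inv_mem hg) hab
  rw [mul_inv_cancel, Matrix.SpecialLinearGroup.coe_one, one_apply_ne (Fin.ne_of_lt (Fin.lt_def.2
    (by omega)))] at h1
  rw [mul_apply_succ (mul_mem hg hA.1) (inv_mem hg) hab, mul_apply_succ hg hA.1 hab, hA.2,
    add_zero, ← h1]

/-- `U` is generated by its transvections. -/
theorem mem_closure_transvection {A : SLn} (hA : A ∈ U n K) :
    A ∈ Subgroup.closure {B : SLn | ∃ (i j : Fin n) (h : i < j) (c : K),
      B = Matrix.SpecialLinearGroup.transvection h.ne c} := by
  classical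
  set T := {B : SLn | ∃ (i j : Fin n) (h : i < j) (c : K),
    B = Matrix.SpecialLinearGroup.transvection h.ne c}
  let supp : SLn → Finset (Fin n × Fin n) :=
    fun A => Finset.univ.filter fun x => x.1 < x.2 ∧ A.val x.1 x.2 ≠ 0
  induction hd : (supp A).card using Nat.strong_induction_on generalizing A with
  | _ m ih =>
  rcases (supp A).eq_empty_or_nonempty with h | h
  · have : A = 1 := Subtype.ext (Matrix.ext fun i j => by
      rw [Matrix.SpecialLinearGroup.coe_one, one_apply]
      rcases le_or_gt j i with h1 | h1
      · exact (hA : IsUnitri A.val) i j h1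
      · rw [if_neg h1.ne]
        by_contra h2
        exact Finset.notMem_empty (i, j)
          (h ▸ Finset.mem_filter.2 ⟨Finset.mem_univ _, h1, h2⟩))
    exact this ▸ one_mem _
  · obtain ⟨⟨i, j⟩, hij, hmax⟩ := Finset.exists_max_image (supp A) (fun x => x.1) h
    obtain ⟨hlt, hne⟩ := (Finset.mem_filter.1 hij).2
    simp only at hlt hne hmax
    have hrow : ∀ k, A.val j k = if j = k then 1 else 0 := by
      intro k
      rcases le_or_gt k j with h1 | h1
      · exact (hA : IsUnitri A.val) j k h1
      · rw [if_neg h1.ne]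
        by_contra h2
        exact absurd (hmax (j, k) (Finset.mem_filter.2 ⟨Finset.mem_univ _, h1, h2⟩))
          (not_le.2 hlt)
    set t : SLn := Matrix.SpecialLinearGroup.transvection hlt.ne (-A.val i j) with ht
    have hB : ∀ k l, (t * A).val k l = if k = i ∧ l = j then 0 else A.val k l := by
      intro k l
      rw [Matrix.SpecialLinearGroup.coe_mul, ht, Matrix.SpecialLinearGroup.transvection_coe, add_mul, one_mul,
        Matrix.add_apply]
      by_cases hk : k = i
      · subst hk
        rw [single_mul_apply_same, hrow]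
        by_cases hl : l = j
        · subst hl; simp
        · simp [hl, Ne.symm hl]
      · rw [single_mul_apply_of_ne _ _ _ _ _ hk, if_neg (fun h => hk h.1), add_zero]
    have hsub : supp (t * A) ⊂ supp A := by
      refine Finset.ssubset_iff_of_subset (fun x hx => ?_) |>.2 ⟨(i, j), hij, fun hx => ?_⟩
      · obtain ⟨h1, h2⟩ := (Finset.mem_filter.1 hx).2
        rw [hB] at h2
        split_ifs at h2 with h3
        · exact absurd rfl h2
        · exact Finset.mem_filter.2 ⟨Finset.mem_univ _, h1, h2⟩
      · have h2 := (Finset.mem_filter.1 hx).2.2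
        rw [hB, if_pos ⟨rfl, rfl⟩] at h2
        exact h2 rfl
    have h1 := ih _ (hd ▸ Finset.card_lt_card hsub) (A := t * A)
      (mul_mem (transvection_mem_U hlt _) hA) rfl
    have h2 : t ∈ Subgroup.closure T := Subgroup.subset_closure ⟨i, j, hlt, _, rfl⟩
    simpa using mul_mem (inv_mem h2) h1

/-- `|U| = q^(n(n-1)/2)`. -/
theorem card_U : Nat.card (U n K) = Nat.card K ^ (n * (n - 1) / 2) := by
  classical
  let M : (∀ j : Fin n, Fin (j : ℕ) → K) → Matrix (Fin n) (Fin n) K := fun f => Matrix.of fun i j =>
    if h : (i : ℕ) < j then f j ⟨i, h⟩ else if i = j then 1 else 0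
  have hM : ∀ f, IsUnitri (M f) := fun f i j hji => by
    show dite _ _ _ = _
    rw [dif_neg (fun h => absurd (Fin.le_def.1 hji) (by omega))]
  have hdet : ∀ f, (M f).det = 1 := fun f => by
    rw [det_of_isUpperTriangular (hM f).blockTriangular]
    exact Finset.prod_eq_one fun i _ => (hM f).diag i
  let e : U n K ≃ (∀ j : Fin n, Fin (j : ℕ) → K) :=
    { toFun := fun A j i => A.1.val (Fin.castLE j.2.le i) j
      invFun := fun f => ⟨⟨M f, hdet f⟩, hM f⟩
      left_inv := fun A => by
        apply Subtype.ext; apply Subtype.ext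
        ext i j
        show dite _ _ _ = _
        split_ifs with h h'
        · rfl
        · subst h'; exact (A.2 : IsUnitri A.1.val).diag _ |>.symm
        · exact ((A.2 : IsUnitri A.1.val).below (Fin.lt_def.2 (by
            have := Fin.val_ne_of_ne h'; omega))).symm
      right_inv := fun f => by
        funext j i
        show dite _ _ _ = _
        rw [dif_pos (show ((Fin.castLE j.2.le i : Fin n) : ℕ) < j from i.2)]
        rfl }
  rw [Nat.card_congr e, Nat.card_pi]
  simp only [Nat.card_fun, Nat.card_eq_fintype_card (α := Fin _), Fintype.card_fin]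
  rw [Finset.prod_pow_eq_pow_sum, Fin.sum_univ_eq_sum_range (fun i => i), Finset.sum_range_id]

/-- A matrix commuting with the transvection group `X_ab`. -/
theorem entries_of_commute {A : SLn} {a b : Fin n} (hab : a ≠ b)
    (h : A * Matrix.SpecialLinearGroup.transvection hab 1 = Matrix.SpecialLinearGroup.transvection hab 1 * A) :
    (∀ k, k ≠ a → A.val k a = 0) ∧ (∀ l, l ≠ b → A.val b l = 0) ∧ A.val a a = A.val b b := by
  have h' := congrArg Subtype.val h
  rw [Matrix.SpecialLinearGroup.coe_mul, Matrix.SpecialLinearGroup.coe_mul, Matrix.SpecialLinearGroup.transvection_coe,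
    mul_add, add_mul, mul_one, one_mul, add_right_inj] at h'
  refine ⟨fun k hk => ?_, fun l hl => ?_, ?_⟩
  · have := congr_fun₂ h' k b
    rw [mul_single_apply_same, single_mul_apply_of_ne _ _ _ _ _ hk, mul_one] at this
    exact this
  · have := congr_fun₂ h' a l
    rw [mul_single_apply_of_ne _ _ _ _ _ hl, single_mul_apply_same, one_mul] at this
    exact this.symm
  · have := congr_fun₂ h' a b
    rwa [mul_single_apply_same, single_mul_apply_same, mul_one, one_mul] at this

/-- All transvections are conjugate in `SL_n` for `n ≥ 3`. -/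
theorem exists_conj_transvection (hn : 3 ≤ n) {a b i j : Fin n} (hab : a ≠ b) (hij : i ≠ j)
    {c d : K} (hc : c ≠ 0) (hd : d ≠ 0) :
    ∃ g : SLn, g * Matrix.SpecialLinearGroup.transvection hab c * g⁻¹ =
      Matrix.SpecialLinearGroup.transvection hij d := by
  classical
  obtain ⟨σ, hσa, hσb⟩ : ∃ σ : Equiv.Perm (Fin n), σ a = i ∧ σ b = j := by
    refine ⟨Equiv.swap (Equiv.swap a i b) j * Equiv.swap a i, ?_, ?_⟩
    · rw [Equiv.Perm.mul_apply, Equiv.swap_apply_left]
      refine Equiv.swap_apply_of_ne_of_ne ?_ hij
      intro h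
      exact hab (Equiv.swap a i |>.injective (by rw [Equiv.swap_apply_left]; exact h))
    · rw [Equiv.Perm.mul_apply, Equiv.swap_apply_left]
  obtain ⟨z, -, hz⟩ := Finset.exists_mem_notMem_of_card_lt_card
    (t := (Finset.univ : Finset (Fin n))) (s := {a, b})
    (by rw [Finset.card_pair hab, Finset.card_univ, Fintype.card_fin]; omega)
  simp only [Finset.mem_insert, Finset.mem_singleton, not_or] at hz
  set s : K := (((Equiv.Perm.sign σ.symm : ℤˣ) : ℤ) : K) with hs
  have hs2 : s * s = 1 := by
    rw [hs, ← Int.cast_mul, ← Units.val_mul, Int.units_mul_self, Units.val_one, Int.cast_one]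
  let D : Fin n → K := Function.update (Function.update (Function.update 1 a d) b c) z
    (s * (c * d)⁻¹)
  have hDa : D a = d := by simp [D, Ne.symm hz.1, hab]
  have hDb : D b = c := by simp [D, Ne.symm hz.2]
  have hprod : ∏ k, D k = s := by
    rw [Finset.prod_update_of_mem (Finset.mem_univ _), Finset.prod_update_of_mem (by simp [Ne.symm hz.2]),
      Finset.prod_update_of_mem (by simp [Ne.symm hz.1, hab])]
    simp
    field_simp
  have hdet : ((diagonal D).submatrix (σ.symm : Equiv.Perm (Fin n)) id).det = 1 := by
    rw [det_permute, det_diagonal, hprod]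
    exact hs2
  obtain ⟨g, hg⟩ : ∃ g : SLn, g.val = (diagonal D).submatrix (σ.symm : Equiv.Perm (Fin n)) id :=
    ⟨⟨_, hdet⟩, rfl⟩
  refine ⟨g, ?_⟩
  rw [mul_inv_eq_iff_eq_mul]
  apply Subtype.ext
  rw [Matrix.SpecialLinearGroup.coe_mul, Matrix.SpecialLinearGroup.coe_mul, hg]
  show (diagonal D).submatrix _ id * (Matrix.SpecialLinearGroup.transvection hab c : SLn).val =
    (Matrix.SpecialLinearGroup.transvection hij d : SLn).val * (diagonal D).submatrix _ id
  rw [Matrix.SpecialLinearGroup.transvection_coe, Matrix.SpecialLinearGroup.transvection_coe, mul_add, add_mul,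
    mul_one, one_mul, add_right_inj]
  ext k l
  have hb' : σ.symm j = b := by rw [← hσb, Equiv.symm_apply_apply]
  have ha' : σ.symm k = a ↔ k = i := by
    constructor
    · intro h; rw [← hσa, ← h, Equiv.apply_symm_apply]
    · rintro rfl; rw [← hσa, Equiv.symm_apply_apply]
  by_cases hl : l = b
  · subst hl
    rw [mul_single_apply_same]
    by_cases hk : k = i
    · subst hk
      rw [single_mul_apply_same]
      simp [ha'.2 rfl, hb', hDa, hDb, mul_comm]
    · rw [single_mul_apply_of_ne _ _ _ _ _ hk]
      simp [mt ha'.1 hk]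
  · rw [mul_single_apply_of_ne _ _ _ _ _ hl]
    by_cases hk : k = i
    · subst hk
      rw [single_mul_apply_same]
      simp [hb', Ne.symm hl]
    · rw [single_mul_apply_of_ne _ _ _ _ _ hk]

/-- The normaliser of `U` is upper triangular. -/
theorem below_of_normalize {A : SLn} (hA : ∀ B ∈ U n K, A⁻¹ * B * A ∈ U n K) {k l : Fin n}
    (hlk : l < k) : A.val k l = 0 := by
  have key : ∀ m : ℕ, ∀ v : Fin n → K, (∀ i : Fin n, m ≤ (i : ℕ) → v i = 0) →
      ∀ i : Fin n, m ≤ (i : ℕ) → (A.val *ᵥ v) i = 0 := by
    intro m
    induction m with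
    | zero =>
      intro v hv i _
      rw [show v = 0 from funext fun i => hv i (Nat.zero_le _), mulVec_zero]
      rfl
    | succ m ih =>
      intro v hv i hi
      have hm : m < n := lt_of_lt_of_le (Nat.lt_of_succ_le hi) i.2.le
      have hlt : (⟨m, hm⟩ : Fin n) < i := Fin.lt_def.2 hi
      set t : SLn := Matrix.SpecialLinearGroup.transvection hlt.ne 1
      have hB : IsUnitri (A⁻¹ * t * A).val := hA t (transvection_mem_U hlt 1)
      have h1 : ∀ r : Fin n, m ≤ (r : ℕ) → ((A⁻¹ * t * A).val *ᵥ v - v) r = 0 := by
        intro r hr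
        rw [Pi.sub_apply, mulVec, dotProduct, Finset.sum_eq_single r]
        · rw [hB.diag, one_mul, sub_self]
        · intro s _ hsr
          rcases lt_or_gt_of_ne hsr with h | h
          · rw [hB.below h, zero_mul]
          · rw [hv s (by have := Fin.lt_def.1 h; omega), mul_zero]
        · simp
      have h2 := ih _ h1 ⟨m, hm⟩ le_rfl
      rw [mulVec_sub, mulVec_mulVec, ← Matrix.SpecialLinearGroup.coe_mul, ← mul_assoc, ← mul_assoc,
        mul_inv_cancel, one_mul, Matrix.SpecialLinearGroup.coe_mul, ← mulVec_mulVec,
        Matrix.SpecialLinearGroup.transvection_coe, add_mulVec, one_mulVec, Pi.sub_apply, Pi.add_apply,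
        single_mulVec_eq] at h2
      simpa using h2
  have h := key ((l : ℕ) + 1) (Pi.single l 1)
    (fun i hi => Pi.single_eq_of_ne (by intro h; rw [h] at hi; omega) _) k
    (by have := Fin.lt_def.1 hlk; omega)
  simpa [mulVec_single] using h

/-- Upper triangular elements of determinant one normalise `U`. -/
theorem mem_normalizer_U {A : SLn} (hA : ∀ i j : Fin n, j < i → A.val i j = 0) :
    A ∈ Subgroup.normalizer ((U n K : Subgroup SLn) : Set SLn) := by
  refine Subgroup.mem_normalizer_fintype fun B hB => ?_
  have hA' : BlockTriangular A.val id := fun i j h => hA i j h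
  let T : Subgroup SLn := ({ carrier := {M | BlockTriangular M.val id}
                             mul_mem' := fun {_ _} hM hN => hM.mul hN
                             one_mem' := blockTriangular_one } : Submonoid SLn) |> toSubgroupFinite
  have hAinv : BlockTriangular (A⁻¹).val id := T.inv_mem hA'
  intro i j hji
  have hdiag : ∀ (M N : Matrix (Fin n) (Fin n) K), BlockTriangular M id → BlockTriangular N id →
      ∀ i j : Fin n, j ≤ i → (M * N) i j = M i i * N i j := by
    intro M N hM hN i j hji
    rw [mul_apply, Finset.sum_eq_single i]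
    · intro s _ hsi
      rcases lt_or_gt_of_ne hsi with h | h
      · rw [hM h, zero_mul]
      · rw [hN (show id j < id s from lt_of_le_of_lt hji h), mul_zero]
    · simp
  have hBu : IsUnitri B.val := hB
  have h1 := hA'.mul hBu.blockTriangular
  rcases hji.lt_or_eq with h | rfl
  · rw [if_neg h.ne', Matrix.SpecialLinearGroup.coe_mul, Matrix.SpecialLinearGroup.coe_mul]
    exact h1.mul hAinv h
  · rw [if_pos rfl, Matrix.SpecialLinearGroup.coe_mul, Matrix.SpecialLinearGroup.coe_mul,
      hdiag _ _ h1 hAinv _ _ le_rfl, hdiag _ _ hA' hBu.blockTriangular _ _ le_rfl, hBu.diag,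
      mul_one, ← hdiag _ _ hA' hAinv _ _ le_rfl, ← Matrix.SpecialLinearGroup.coe_mul, mul_inv_cancel,
      Matrix.SpecialLinearGroup.coe_one, one_apply_eq]

/-- Lower simple transvections normalise `R`. -/
theorem lower_transvection_mem_normalizer_R {a b : Fin n} {hab : (b : ℕ) = a + 1} (hba : b ≠ a)
    (c : K) : (Matrix.SpecialLinearGroup.transvection hba c : SLn) ∈
      Subgroup.normalizer ((R a b hab : Subgroup SLn) : Set SLn) := by
  refine Subgroup.mem_normalizer_fintype fun A hA => ?_
  obtain ⟨hU, hz⟩ := hA
  have hu : IsUnitri A.val := hU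
  have hlt : a < b := Fin.lt_def.2 (by omega)
  have hval : ∀ k l, (Matrix.SpecialLinearGroup.transvection hba c * A *
      (Matrix.SpecialLinearGroup.transvection hba c : SLn)⁻¹).val k l =
      A.val k l + (if k = b then c * A.val a l else 0)
        - (if l = a then c * (A.val k b + (if k = b then c * A.val a b else 0)) else 0) := by
    intro k l
    rw [Matrix.SpecialLinearGroup.transvection_inv, Matrix.SpecialLinearGroup.coe_mul,
      Matrix.SpecialLinearGroup.coe_mul, Matrix.SpecialLinearGroup.transvection_coe,
      Matrix.SpecialLinearGroup.transvection_coe, mul_add, mul_one, Matrix.add_apply, add_mul, one_mul]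
    by_cases hk : k = b <;> by_cases hl : l = a <;>
      simp [hk, hl, mul_single_apply_same, mul_single_apply_of_ne, single_mul_apply_same,
        single_mul_apply_of_ne, sub_eq_add_neg] <;> ring
  refine ⟨fun k l hlk => ?_, ?_⟩
  · rw [hval]
    by_cases hl : l = a
    · subst hl
      by_cases hk : k = b
      · subst hk
        simp [hu.below hlt, hu.diag, hz, hba]
      · rcases hlk.lt_or_eq with h | h
        · have hbk : b < k := Fin.lt_def.2 (by
            have := Fin.lt_def.1 h; have := Fin.val_ne_of_ne hk; omega)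
          simp [hk, hu.below h, hu.below hbk, h.ne']
        · subst h
          simp [hba.symm, hu.diag, hz]
    · rw [if_neg hl, sub_zero]
      by_cases hk : k = b
      · subst hk
        rcases lt_or_gt_of_ne hl with h | h
        · simp [hu.below h, hu.below (h.trans hlt), (h.trans hlt).ne']
        · have hlb : l = k := Fin.ext (by
            have := Fin.lt_def.1 h; have := Fin.le_def.1 hlk; omega)
          subst hlb
          simp [hu.diag, hz]
      · simp [hk, hu k l hlk]
  · rw [hval]
    simp [hlt.ne, hlt.ne', hz]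

/-- Diagonal elements of determinant one are products of `diag2n` on adjacent indices. -/
theorem diagonal_mem_closure {A : SLn} (hA : ∀ i j, i ≠ j → A.val i j = 0) :
    A ∈ Subgroup.closure {B : SLn | ∃ (a b : Fin n) (_ : (b : ℕ) = a + 1) (hne : a ≠ b) (x : K)
      (hx : x ≠ 0), B = Matrix.SpecialLinearGroup.diag2n hne x hx} := by
  set T := {B : SLn | ∃ (a b : Fin n) (_ : (b : ℕ) = a + 1) (hne : a ≠ b) (x : K)
      (hx : x ≠ 0), B = Matrix.SpecialLinearGroup.diag2n hne x hx}
  suffices ∀ m : ℕ, ∀ A : SLn, (∀ i j, i ≠ j → A.val i j = 0) →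
      (∀ i : Fin n, m < (i : ℕ) → A.val i i = 1) → A ∈ Subgroup.closure T from
    this n A hA fun i hi => absurd i.2 (by omega)
  intro m
  induction m with
  | zero =>
    intro A hA h1
    have hd : A.val = diagonal fun i => A.val i i := Matrix.ext fun i j => by
      by_cases h : i = j
      · subst h; rw [diagonal_apply_eq]
      · rw [diagonal_apply_ne _ h, hA i j h]
    have : A = 1 := Subtype.ext (Matrix.ext fun i j => by
      rw [Matrix.SpecialLinearGroup.coe_one]
      by_cases h : i = j
      · subst h
        rw [one_apply_eq]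
        rcases Nat.eq_zero_or_pos (i : ℕ) with h0 | h0
        · have hdet := A.2
          rw [hd, det_diagonal, Finset.prod_eq_single i] at hdet
          · exact hdet
          · intro j _ hj
            exact h1 j (by have := Fin.val_ne_of_ne hj; omega)
          · simp
        · exact h1 i h0
      · rw [one_apply_ne h, hA i j h])
    exact this ▸ one_mem _
  | succ m ih =>
    intro A hA h1
    by_cases hm : m + 1 < n
    · set a : Fin n := ⟨m, by omega⟩
      set b : Fin n := ⟨m + 1, hm⟩
      have hne : a ≠ b := Fin.ne_of_lt (Fin.lt_def.2 (Nat.lt_succ_self m))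
      have hx : A.val b b ≠ 0 := by
        intro h0
        have hdet := A.2
        rw [det_eq_zero_of_row_eq_zero b] at hdet
        · exact zero_ne_one hdet
        · intro j
          by_cases hj : b = j
          · exact hj ▸ h0
          · exact hA b j hj
      set h : SLn := Matrix.SpecialLinearGroup.diag2n hne (A.val b b) hx with hh
      have hval : ∀ i j, (A * h).val i j = A.val i j *
          (if j = a then A.val b b else if j = b then (A.val b b)⁻¹ else 1) := by
        intro i j
        rw [Matrix.SpecialLinearGroup.coe_mul, hh, Matrix.SpecialLinearGroup.diag2n_coe, mul_diagonal]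
      have h2 := ih (A * h) (fun i j hij => by rw [hval, hA i j hij, zero_mul]) fun i hi => by
        rw [hval, if_neg (fun h => by rw [h] at hi; exact lt_irrefl _ hi)]
        by_cases hib : i = b
        · rw [if_pos hib, hib, mul_inv_cancel₀ hx]
        · rw [if_neg hib, mul_one]
          exact h1 i (by have := Fin.val_ne_of_ne hib; simp only [b] at this; omega)
      have h3 : h ∈ Subgroup.closure T := Subgroup.subset_closure ⟨a, b, rfl, hne, _, hx, rfl⟩
      simpa using mul_mem h2 (inv_mem h3)
    · exact ih A hA fun i hi => absurd i.2 (by omega)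

end CfsgLib.Classical.Unitri
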